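import Mathlib
import Cfsg.Agent.Rec.Pres

/-! Generated by tools/rec: frames inside Sym(9) (tools/t16/fr.py) -/

set_option autoImplicit false
set_option maxRecDepth 100000
set_option linter.unusedVariables false
set_option exponentiation.threshold 100000

namespace Cfsg.Agent.T16

open Cfsg.Agent.Spor Cfsg.Agent.Rec

universe u

/-- Packed permutations of 9 points. -/
noncomputable def A9 : Ar := permAr (nat_lit 9) (nat_lit 0x80706050403020100)

theorem A9_ok : oneOK (nat_lit 9) (nat_lit 0x80706050403020100) = true := by decide +kernel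

noncomputable def lJ : List ℕ := [(nat_lit 0x80706050403000201), (nat_lit 0x80706050403010002), (nat_lit 0x80706030504020100), (nat_lit 0x80706040305020100), (nat_lit 0x60807050403020100), (nat_lit 0x70608050403020100)]

noncomputable def lH : List ℕ := [(nat_lit 0x80706050403000201), (nat_lit 0x80706050403010002), (nat_lit 0x80706030504020100), (nat_lit 0x80706040305020100), (nat_lit 0x60807050403020100), (nat_lit 0x70608050403020100), (nat_lit 0x20100080706050403), (nat_lit 0x50403020100080706), (nat_lit 0x80706020100050403)]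

noncomputable def lW : List ℕ := [(nat_lit 0x80706050403000201), (nat_lit 0x80706050403010002), (nat_lit 0x80706030504020100), (nat_lit 0x80706040305020100), (nat_lit 0x60807050403020100), (nat_lit 0x70608050403020100), (nat_lit 0x20100080706050403), (nat_lit 0x50403020100080706), (nat_lit 0x80706020100050403), (nat_lit 0x70806040503010200)]

noncomputable def lE : List ℕ := [(nat_lit 0x80706050403000201), (nat_lit 0x80706050403010002), (nat_lit 0x80706030504020100), (nat_lit 0x80706040305020100), (nat_lit 0x60807050403020100), (nat_lit 0x70608050403020100), (nat_lit 0x20100080706050403), (nat_lit 0x50403020100080706), (nat_lit 0x80706020100050403), (nat_lit 0x80706040503010200)]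

noncomputable def lD : List ℕ := [(nat_lit 0x80706050403000201), (nat_lit 0x80706050403010002), (nat_lit 0x80706030504020100), (nat_lit 0x80706040305020100), (nat_lit 0x60807050403020100), (nat_lit 0x70608050403020100), (nat_lit 0x20100080706050403), (nat_lit 0x50403020100080706), (nat_lit 0x80706020100050403), (nat_lit 0x70806050403020100)]

noncomputable def cH : List ℕ := [(nat_lit 0x80706050403000201), (nat_lit 0x80706030504020100), (nat_lit 0x60807050403020100), (nat_lit 0x20100080706050403), (nat_lit 0x80706020100050403)]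

noncomputable def cW : List ℕ := [(nat_lit 0x80706050403000201), (nat_lit 0x80706030504020100), (nat_lit 0x60807050403020100), (nat_lit 0x20100080706050403), (nat_lit 0x80706020100050403), (nat_lit 0x70806040503010200)]

noncomputable def cE : List ℕ := [(nat_lit 0x80706050403000201), (nat_lit 0x80706030504020100), (nat_lit 0x60807050403020100), (nat_lit 0x20100080706050403), (nat_lit 0x80706020100050403), (nat_lit 0x80706040503010200)]

noncomputable def cD : List ℕ := [(nat_lit 0x80706050403000201), (nat_lit 0x80706030504020100), (nat_lit 0x60807050403020100), (nat_lit 0x20100080706050403), (nat_lit 0x80706020100050403), (nat_lit 0x70806050403020100)]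

def relJ : List (List ℕ) :=
  [[0, 1],
   [1, 0],
   [2, 3],
   [3, 2],
   [4, 5],
   [5, 4],
   [0, 0, 0],
   [2, 2, 2],
   [4, 4, 4],
   [0, 2, 1, 3],
   [0, 4, 1, 5],
   [2, 4, 3, 5]]

def exH : List (List ℕ) :=
  [[6, 7],
   [7, 6],
   [6, 6, 6],
   [8, 8],
   [8, 6, 8, 6],
   [6, 0, 7, 3],
   [6, 2, 7, 5],
   [8, 0, 8, 3],
   [8, 4, 8, 5]]

def exW : List (List ℕ) :=
  [[9, 9],
   [9, 0, 9, 0],
   [9, 6, 9, 7],
   [9, 8, 9, 8]]

def exE : List (List ℕ) :=
  [[9, 9],
   [9, 0, 9, 0],
   [9, 2, 9, 2],
   [9, 4, 9, 5],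
   [9, 8, 9, 8],
   [9, 6, 9, 7, 7, 9, 6]]

def exD : List (List ℕ) :=
  [[9, 9],
   [9, 0, 9, 1],
   [9, 2, 9, 3],
   [9, 4, 9, 4],
   [9, 8, 9, 8],
   [9, 6, 9, 7, 9, 6, 9, 7]]

def relH : List (List ℕ) := relJ ++ exH

def relW : List (List ℕ) := relH ++ exW

def relE : List (List ℕ) := relH ++ exE

def relD : List (List ℕ) := relH ++ exD

noncomputable def tJ_rels : LT :=
(.node (.node (.node (.node (.leaf [])
 (.leaf [nat_lit 2,nat_lit 2,nat_lit 2])
) (.node (.leaf [nat_lit 3,nat_lit 2])
 (.leaf [nat_lit 2,nat_lit 4,nat_lit 3,nat_lit 5])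
)) (.node (.node (.leaf [nat_lit 1,nat_lit 0])
 (.leaf [nat_lit 0,nat_lit 2,nat_lit 1,nat_lit 3])
) (.leaf [nat_lit 5,nat_lit 4])
)) (.node (.node (.node (.leaf [nat_lit 0,nat_lit 1])
 (.leaf [nat_lit 4,nat_lit 4,nat_lit 4])
) (.leaf [nat_lit 4,nat_lit 5])
) (.node (.node (.leaf [nat_lit 2,nat_lit 3])
 (.leaf [nat_lit 0,nat_lit 4,nat_lit 1,nat_lit 5])
) (.leaf [nat_lit 0,nat_lit 0,nat_lit 0])
)))
noncomputable def tJ_hws : LT :=
(.leaf [])

noncomputable def tJ_inv : ℕ → ℕ := getP (nat_lit 8) (nat_lit 255) (nat_lit 0x40502030001)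

noncomputable def tJ_t : BT :=
(.node (.node (.node (.leaf (nat_lit 0x289352924846890d0923f3c013ba0047e401138003edc00eb60035d400cb4002ece887c6921c160860472150c0082e001bb40066c0014ac004aa000fa400368000a9c0006000028810001))
 (.leaf (nat_lit 0x12ec004ce80106b0042e000e280039d800c270031d000a64002ac8008e30024c000762001eb811199043d5c004210011a810d15042d4c001e00008981099104213c1068d040e2410185))
) (.node (.leaf (nat_lit 0x3893ced24a340143a0049e788ecad2372400f360036d788ac6d2281400b320027c4011780040dc005a20017b000cf4002fcc002e1000ca0009700022bc00120000590104cb04091c100c3))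
 (.leaf (nat_lit 0x7fe001ff8007fe001ff8007fe001ff8007fe001ff8007fe001ff8007fe001ff8007fe001ff8007fe001ff8007fe001ff8007fe001ff8007fe001ff8007fe001ff8007fe001ff8007fe0))
)) (.node (.node (.leaf (nat_lit 0x18939652475589114523e4d88e9252354588c90522e3c0137a0048e4010f8003fdd8880a521b250864832141d88486520f1508344320a0c007ee001cb40062c0015ac0808100008010042))
 (.leaf (nat_lit 0x893190046b089097003dac88e550034a088c53002d9c88a910026908890f00218c8878d001a88112da04416088449000e8410e160430508820500068010a520423401074e041028101c6))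
) (.node (.leaf (nat_lit 0x309418b2495f0914eb2403708f14b2364f08ccab22f2708b10b2273f08946b22214013fa004ae4485cb00138800ef60037d44830700098400af20028c4481430003801058c040b2010104))
 (.leaf (nat_lit 0x60ac018230060ab01822c060a8018220060a701821c040a4010210040a301020c040a201020804062010108040a101020404061010104020a0008200020600081000202000800000000))
)))

noncomputable def tJ_rules : LT :=
(.node (.node (.node (.node (.leaf [nat_lit 7,nat_lit 1,nat_lit 0,nat_lit 1,nat_lit 0,nat_lit 0])
 (.leaf [nat_lit 10,nat_lit 3,nat_lit 1,nat_lit 0,nat_lit 2,nat_lit 0,nat_lit 3])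
) (.node (.leaf [nat_lit 10,nat_lit 0,nat_lit 0,nat_lit 1,nat_lit 2,nat_lit 1,nat_lit 3])
 (.leaf [nat_lit 12,nat_lit 0,nat_lit 0,nat_lit 3,nat_lit 4,nat_lit 3,nat_lit 5])
)) (.node (.node (.leaf [nat_lit 9,nat_lit 1,nat_lit 0,nat_lit 5,nat_lit 4,nat_lit 4])
 (.leaf [nat_lit 11,nat_lit 3,nat_lit 1,nat_lit 0,nat_lit 4,nat_lit 0,nat_lit 5])
) (.node (.leaf [nat_lit 11,nat_lit 0,nat_lit 0,nat_lit 1,nat_lit 4,nat_lit 1,nat_lit 5])
 (.leaf [nat_lit 12,nat_lit 3,nat_lit 1,nat_lit 2,nat_lit 4,nat_lit 2,nat_lit 5])
))) (.node (.node (.node (.leaf [nat_lit 8,nat_lit 1,nat_lit 0,nat_lit 3,nat_lit 2,nat_lit 2])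
 (.leaf [nat_lit 11,nat_lit 2,nat_lit 0,nat_lit 0,nat_lit 5,nat_lit 0,nat_lit 4])
) (.node (.leaf [nat_lit 11,nat_lit 1,nat_lit 1,nat_lit 1,nat_lit 5,nat_lit 1,nat_lit 4])
 (.leaf [nat_lit 12,nat_lit 2,nat_lit 0,nat_lit 2,nat_lit 5,nat_lit 2,nat_lit 4])
)) (.node (.node (.leaf [nat_lit 10,nat_lit 1,nat_lit 1,nat_lit 1,nat_lit 3,nat_lit 1,nat_lit 2])
 (.leaf [nat_lit 12,nat_lit 1,nat_lit 1,nat_lit 3,nat_lit 5,nat_lit 3,nat_lit 4])
) (.leaf [nat_lit 10,nat_lit 2,nat_lit 0,nat_lit 0,nat_lit 3,nat_lit 0,nat_lit 2])
)))

noncomputable def tJ_subs : LT :=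
(.leaf [nat_lit 0,nat_lit 0,nat_lit 0,nat_lit 6])


noncomputable def tJ : TC :=
  ⟨fun x c => Nat.shiftRight (BT.get tJ_t x) (Nat.mul (nat_lit 22) c),
  (nat_lit 5), (nat_lit 31), (nat_lit 32767), (nat_lit 15), (nat_lit 127), (nat_lit 32736), (nat_lit 27), (nat_lit 27), (nat_lit 6), (nat_lit 0), (nat_lit 6), (nat_lit 7), tJ_inv, tJ_rules, tJ_subs⟩

theorem tJ_c1 : tJ.rules.all (ruleOK tJ.m tJ.inv tJ_rels) = true := by decide +kernel
theorem tJ_c2 : tJ.subs.all (subOK tJ.m tJ.inv tJ_hws) = true := by decide +kernel
theorem tJ_c3 : tJ.base = true := by decide +kernel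

theorem tJ_s0 : tJ.slots (nat_lit 0) (nat_lit 27) = true := by decide +kernel

theorem tJ_c4 : tJ.Upto tJ.N := ((TC.upto_zero tJ).step _ tJ_s0)
theorem tJ_c5 : tJ.UptoE tJ.N := (TC.uptoE_n tJ)
theorem tJ_bound {G : Type*} [Group G] {g : ℕ → G} {H : Subgroup G} (hinv : ∀ x < 6, g x * g (tJ_inv x) = 1)
    (hrels : ∀ i, evalW g (tJ_rels.get i) = 1) (hH : ∀ x < 0, g x ∈ H) (hhws : ∀ i, evalW g (tJ_hws.get i) ∈ H) :
    H.relIndex (genLt g 6) ≠ 0 ∧ H.relIndex (genLt g 6) ≤ 27 :=
  TC.relIndex_le (T := tJ) hinv hrels hH hhws tJ_c1 tJ_c2 tJ_c3 tJ_c4 tJ_c5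

theorem tJ_bd : Bound.{u} relJ 0 6 27 := fun _ _ _ _ hs hH =>
  tJ_bound (hs.hinv (by decide +kernel)) (hs.tree (by decide +kernel)) hH (leaf_nil_mem' _ _ (by decide +kernel))

noncomputable def tH_rels : LT :=
(.node (.node (.node (.node (.node (.leaf [])
 (.leaf [nat_lit 6,nat_lit 6,nat_lit 6])
) (.leaf [nat_lit 7,nat_lit 6])
) (.node (.node (.leaf [nat_lit 3,nat_lit 2])
 (.leaf [nat_lit 8,nat_lit 0,nat_lit 8,nat_lit 3])
) (.leaf [nat_lit 4,nat_lit 4,nat_lit 4])
)) (.node (.node (.node (.leaf [nat_lit 1,nat_lit 0])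
 (.leaf [nat_lit 6,nat_lit 0,nat_lit 7,nat_lit 3])
) (.leaf [nat_lit 0,nat_lit 0,nat_lit 0])
) (.node (.leaf [nat_lit 5,nat_lit 4])
 (.leaf [nat_lit 0,nat_lit 4,nat_lit 1,nat_lit 5])
))) (.node (.node (.node (.node (.leaf [nat_lit 0,nat_lit 1])
 (.leaf [nat_lit 8,nat_lit 6,nat_lit 8,nat_lit 6])
) (.leaf [nat_lit 8,nat_lit 8])
) (.node (.node (.leaf [nat_lit 4,nat_lit 5])
 (.leaf [nat_lit 8,nat_lit 4,nat_lit 8,nat_lit 5])
) (.leaf [nat_lit 0,nat_lit 2,nat_lit 1,nat_lit 3])
)) (.node (.node (.node (.leaf [nat_lit 2,nat_lit 3])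
 (.leaf [nat_lit 6,nat_lit 2,nat_lit 7,nat_lit 5])
) (.leaf [nat_lit 2,nat_lit 2,nat_lit 2])
) (.node (.leaf [nat_lit 6,nat_lit 7])
 (.leaf [nat_lit 2,nat_lit 4,nat_lit 3,nat_lit 5])
))))
noncomputable def tH_hws : LT :=
(.leaf [])

noncomputable def tH_inv : ℕ → ℕ := getP (nat_lit 8) (nat_lit 255) (nat_lit 0x80607040502030001)

noncomputable def tH_t : BT :=
(.node (.node (.node (.node (.leaf (nat_lit 0x18860ac4244620d1810588081021c000))
 (.leaf (nat_lit 0x56400211000c8020a941040808183))
) (.leaf (nat_lit 0x20868b04284820f18004c8882821c040))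
) (.node (.node (.leaf (nat_lit 0x66a00274000e9800448481421c020))
 (.leaf (nat_lit 0x410402081008400041c0020c000000))
) (.leaf (nat_lit 0x248589242230017a800340001e408061))
)) (.node (.node (.node (.leaf (nat_lit 0x62a00254000d98005c8001221c010))
 (.leaf (nat_lit 0x7fe003ff001ff800ffc007fe003ff0))
) (.leaf (nat_lit 0x6aa00294000f9a10488002a21c050))
) (.node (.leaf (nat_lit 0x1c864ae4264720e1990408001621c030))
 (.leaf (nat_lit 0x2885c6002d50011a290384000e0080c2))
)))

noncomputable def tH_rules : LT :=
(.node (.node (.node (.node (.leaf [nat_lit 18,nat_lit 2,nat_lit 1,nat_lit 0,nat_lit 7,nat_lit 2,nat_lit 6])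
 (.leaf [nat_lit 21,nat_lit 2,nat_lit 1,nat_lit 4,nat_lit 8,nat_lit 4,nat_lit 8])
) (.leaf [nat_lit 19,nat_lit 0,nat_lit 1,nat_lit 5,nat_lit 6,nat_lit 3,nat_lit 7])
) (.node (.node (.leaf [nat_lit 19,nat_lit 3,nat_lit 0,nat_lit 4,nat_lit 6,nat_lit 2,nat_lit 7])
 (.leaf [nat_lit 17,nat_lit 1,nat_lit 0,nat_lit 7,nat_lit 8,nat_lit 6,nat_lit 8])
) (.leaf [nat_lit 20,nat_lit 2,nat_lit 1,nat_lit 0,nat_lit 8,nat_lit 2,nat_lit 8])
)) (.node (.node (.node (.leaf [nat_lit 19,nat_lit 2,nat_lit 1,nat_lit 2,nat_lit 7,nat_lit 4,nat_lit 6])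
 (.leaf [nat_lit 17,nat_lit 2,nat_lit 1,nat_lit 6,nat_lit 8,nat_lit 7,nat_lit 8])
) (.leaf [nat_lit 16,nat_lit 1,nat_lit 0,nat_lit 7,nat_lit 6,nat_lit 6])
) (.node (.leaf [nat_lit 18,nat_lit 0,nat_lit 1,nat_lit 3,nat_lit 6,nat_lit 1,nat_lit 7])
 (.leaf [nat_lit 20,nat_lit 0,nat_lit 1,nat_lit 3,nat_lit 8,nat_lit 1,nat_lit 8])
)))

noncomputable def tH_subs : LT :=
(.leaf [nat_lit 0,nat_lit 0,nat_lit 0,nat_lit 9])


noncomputable def tH : TC :=
  ⟨fun x c => Nat.shiftRight (BT.get tH_t x) (Nat.mul (nat_lit 21) c),
  (nat_lit 4), (nat_lit 15), (nat_lit 16383), (nat_lit 14), (nat_lit 127), (nat_lit 16368), (nat_lit 6), (nat_lit 6), (nat_lit 9), (nat_lit 6), (nat_lit 9), (nat_lit 10), tH_inv, tH_rules, tH_subs⟩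

theorem tH_c1 : tH.rules.all (ruleOK tH.m tH.inv tH_rels) = true := by decide +kernel
theorem tH_c2 : tH.subs.all (subOK tH.m tH.inv tH_hws) = true := by decide +kernel
theorem tH_c3 : tH.base = true := by decide +kernel

theorem tH_s0 : tH.slots (nat_lit 0) (nat_lit 6) = true := by decide +kernel

theorem tH_c4 : tH.Upto tH.N := ((TC.upto_zero tH).step _ tH_s0)
theorem tH_c5 : tH.UptoE tH.N := (TC.uptoE_n tH)
theorem tH_bound {G : Type*} [Group G] {g : ℕ → G} {H : Subgroup G} (hinv : ∀ x < 9, g x * g (tH_inv x) = 1)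
    (hrels : ∀ i, evalW g (tH_rels.get i) = 1) (hH : ∀ x < 6, g x ∈ H) (hhws : ∀ i, evalW g (tH_hws.get i) ∈ H) :
    H.relIndex (genLt g 9) ≠ 0 ∧ H.relIndex (genLt g 9) ≤ 6 :=
  TC.relIndex_le (T := tH) hinv hrels hH hhws tH_c1 tH_c2 tH_c3 tH_c4 tH_c5

theorem tH_bd : Bound.{u} relH 6 9 6 := fun _ _ _ _ hs hH =>
  tH_bound (hs.hinv (by decide +kernel)) (hs.tree (by decide +kernel)) hH (leaf_nil_mem' _ _ (by decide +kernel))

noncomputable def tW_rels : LT :=
(.node (.node (.node (.node (.node (.leaf [])
 (.leaf [nat_lit 2,nat_lit 4,nat_lit 3,nat_lit 5])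
) (.node (.leaf [nat_lit 7,nat_lit 6])
 (.leaf [nat_lit 9,nat_lit 6,nat_lit 9,nat_lit 7])
)) (.node (.node (.leaf [nat_lit 3,nat_lit 2])
 (.leaf [nat_lit 6,nat_lit 2,nat_lit 7,nat_lit 5])
) (.leaf [nat_lit 2,nat_lit 2,nat_lit 2])
)) (.node (.node (.node (.leaf [nat_lit 1,nat_lit 0])
 (.leaf [nat_lit 8,nat_lit 6,nat_lit 8,nat_lit 6])
) (.leaf [nat_lit 9,nat_lit 9])
) (.node (.node (.leaf [nat_lit 5,nat_lit 4])
 (.leaf [nat_lit 8,nat_lit 4,nat_lit 8,nat_lit 5])
) (.leaf [nat_lit 0,nat_lit 2,nat_lit 1,nat_lit 3])
))) (.node (.node (.node (.node (.leaf [nat_lit 0,nat_lit 1])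
 (.leaf [nat_lit 6,nat_lit 6,nat_lit 6])
) (.node (.leaf [nat_lit 8,nat_lit 8])
 (.leaf [nat_lit 9,nat_lit 8,nat_lit 9,nat_lit 8])
)) (.node (.node (.leaf [nat_lit 4,nat_lit 5])
 (.leaf [nat_lit 8,nat_lit 0,nat_lit 8,nat_lit 3])
) (.leaf [nat_lit 4,nat_lit 4,nat_lit 4])
)) (.node (.node (.node (.leaf [nat_lit 2,nat_lit 3])
 (.leaf [nat_lit 6,nat_lit 0,nat_lit 7,nat_lit 3])
) (.leaf [nat_lit 0,nat_lit 0,nat_lit 0])
) (.node (.node (.leaf [nat_lit 6,nat_lit 7])
 (.leaf [nat_lit 9,nat_lit 0,nat_lit 9,nat_lit 0])
) (.leaf [nat_lit 0,nat_lit 4,nat_lit 1,nat_lit 5])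
))))
noncomputable def tW_hws : LT :=
(.leaf [])

noncomputable def tW_inv : ℕ → ℕ := getP (nat_lit 8) (nat_lit 255) (nat_lit 0x9080607040502030001)

noncomputable def tW_t : BT :=
(.node (.node (.node (.node (.leaf (nat_lit 0x41647000))
 (.leaf (nat_lit 0x841e47040))
) (.leaf (nat_lit 0x442447020))
) (.node (.node (.leaf (nat_lit 0x2247010))
 (.leaf (nat_lit 0x3fe00ff8))
) (.leaf (nat_lit 0x641a47030))
)) (.node (.node (.node (.leaf (nat_lit 0x1847008))
 (.leaf (nat_lit 0x1402049))
) (.leaf (nat_lit 0x2647028))
) (.node (.node (.leaf (nat_lit 0x242047018))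
 (.leaf (nat_lit 0x21200000))
) (.leaf (nat_lit 0x1c47038))
)))

noncomputable def tW_rules : LT :=
(.node (.node (.node (.leaf [nat_lit 23,nat_lit 2,nat_lit 1,nat_lit 0,nat_lit 9,nat_lit 1,nat_lit 9])
 (.leaf [nat_lit 25,nat_lit 2,nat_lit 1,nat_lit 8,nat_lit 9,nat_lit 8,nat_lit 9])
) (.leaf [nat_lit 20,nat_lit 3,nat_lit 0,nat_lit 4,nat_lit 6,nat_lit 2,nat_lit 7])
) (.node (.leaf [nat_lit 21,nat_lit 0,nat_lit 1,nat_lit 3,nat_lit 8,nat_lit 1,nat_lit 8])
 (.leaf [nat_lit 24,nat_lit 2,nat_lit 1,nat_lit 6,nat_lit 9,nat_lit 6,nat_lit 9])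
))

noncomputable def tW_subs : LT :=
(.leaf [nat_lit 0,nat_lit 0,nat_lit 0,nat_lit 10])


noncomputable def tW : TC :=
  ⟨fun x c => Nat.shiftRight (BT.get tW_t x) (Nat.mul (nat_lit 18) c),
  (nat_lit 3), (nat_lit 7), (nat_lit 4095), (nat_lit 12), (nat_lit 63), (nat_lit 4088), (nat_lit 2), (nat_lit 2), (nat_lit 10), (nat_lit 9), (nat_lit 10), (nat_lit 11), tW_inv, tW_rules, tW_subs⟩

theorem tW_c1 : tW.rules.all (ruleOK tW.m tW.inv tW_rels) = true := by decide +kernel
theorem tW_c2 : tW.subs.all (subOK tW.m tW.inv tW_hws) = true := by decide +kernel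
theorem tW_c3 : tW.base = true := by decide +kernel

theorem tW_s0 : tW.slots (nat_lit 0) (nat_lit 2) = true := by decide +kernel

theorem tW_c4 : tW.Upto tW.N := ((TC.upto_zero tW).step _ tW_s0)
theorem tW_c5 : tW.UptoE tW.N := (TC.uptoE_n tW)
theorem tW_bound {G : Type*} [Group G] {g : ℕ → G} {H : Subgroup G} (hinv : ∀ x < 10, g x * g (tW_inv x) = 1)
    (hrels : ∀ i, evalW g (tW_rels.get i) = 1) (hH : ∀ x < 9, g x ∈ H) (hhws : ∀ i, evalW g (tW_hws.get i) ∈ H) :
    H.relIndex (genLt g 10) ≠ 0 ∧ H.relIndex (genLt g 10) ≤ 2 :=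
  TC.relIndex_le (T := tW) hinv hrels hH hhws tW_c1 tW_c2 tW_c3 tW_c4 tW_c5

theorem tW_bd : Bound.{u} relW 9 10 2 := fun _ _ _ _ hs hH =>
  tW_bound (hs.hinv (by decide +kernel)) (hs.tree (by decide +kernel)) hH (leaf_nil_mem' _ _ (by decide +kernel))

noncomputable def tE_rels : LT :=
(.node (.node (.node (.node (.node (.leaf [])
 (.leaf [nat_lit 2,nat_lit 4,nat_lit 3,nat_lit 5])
) (.node (.leaf [nat_lit 7,nat_lit 6])
 (.leaf [nat_lit 9,nat_lit 2,nat_lit 9,nat_lit 2])
)) (.node (.node (.leaf [nat_lit 3,nat_lit 2])
 (.leaf [nat_lit 6,nat_lit 2,nat_lit 7,nat_lit 5])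
) (.leaf [nat_lit 2,nat_lit 2,nat_lit 2])
)) (.node (.node (.node (.leaf [nat_lit 1,nat_lit 0])
 (.leaf [nat_lit 8,nat_lit 6,nat_lit 8,nat_lit 6])
) (.node (.leaf [nat_lit 9,nat_lit 9])
 (.leaf [nat_lit 9,nat_lit 8,nat_lit 9,nat_lit 8])
)) (.node (.node (.leaf [nat_lit 5,nat_lit 4])
 (.leaf [nat_lit 8,nat_lit 4,nat_lit 8,nat_lit 5])
) (.leaf [nat_lit 0,nat_lit 2,nat_lit 1,nat_lit 3])
))) (.node (.node (.node (.node (.leaf [nat_lit 0,nat_lit 1])
 (.leaf [nat_lit 6,nat_lit 6,nat_lit 6])
) (.node (.leaf [nat_lit 8,nat_lit 8])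
 (.leaf [nat_lit 9,nat_lit 4,nat_lit 9,nat_lit 5])
)) (.node (.node (.leaf [nat_lit 4,nat_lit 5])
 (.leaf [nat_lit 8,nat_lit 0,nat_lit 8,nat_lit 3])
) (.leaf [nat_lit 4,nat_lit 4,nat_lit 4])
)) (.node (.node (.node (.leaf [nat_lit 2,nat_lit 3])
 (.leaf [nat_lit 6,nat_lit 0,nat_lit 7,nat_lit 3])
) (.node (.leaf [nat_lit 0,nat_lit 0,nat_lit 0])
 (.leaf [nat_lit 9,nat_lit 6,nat_lit 9,nat_lit 7,nat_lit 7,nat_lit 9,nat_lit 6])
)) (.node (.node (.leaf [nat_lit 6,nat_lit 7])
 (.leaf [nat_lit 9,nat_lit 0,nat_lit 9,nat_lit 0])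
) (.leaf [nat_lit 0,nat_lit 4,nat_lit 1,nat_lit 5])
))))
noncomputable def tE_hws : LT :=
(.leaf [])

noncomputable def tE_inv : ℕ → ℕ := getP (nat_lit 8) (nat_lit 255) (nat_lit 0x9080607040502030001)

noncomputable def tE_t : BT :=
(.node (.node (.node (.node (.leaf (nat_lit 0x2121a10508081621c000))
 (.leaf (nat_lit 0xb20e100074cc82221c080))
) (.leaf (nat_lit 0x1098009c8881e21c040))
) (.node (.node (.leaf (nat_lit 0xf9a90588481a21c020))
 (.leaf (nat_lit 0x1ff800ffc007fe003ff0))
) (.leaf (nat_lit 0xc88006cc102441c060))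
)) (.node (.node (.node (.leaf (nat_lit 0x129800548001821c010))
 (.leaf (nat_lit 0x11939088c0014008091))
) (.leaf (nat_lit 0x92101b10988002021c050))
) (.node (.node (.leaf (nat_lit 0x820f18005c8001c21c030))
 (.leaf (nat_lit 0x10388081840212000000))
) (.leaf (nat_lit 0xa20d10004c4103061c070))
)))

noncomputable def tE_rules : LT :=
(.node (.node (.node (.node (.leaf [nat_lit 23,nat_lit 2,nat_lit 1,nat_lit 0,nat_lit 9,nat_lit 1,nat_lit 9])
 (.leaf [nat_lit 19,nat_lit 0,nat_lit 1,nat_lit 3,nat_lit 6,nat_lit 1,nat_lit 7])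
) (.leaf [nat_lit 19,nat_lit 2,nat_lit 1,nat_lit 0,nat_lit 7,nat_lit 2,nat_lit 6])
) (.node (.node (.leaf [nat_lit 25,nat_lit 2,nat_lit 1,nat_lit 4,nat_lit 9,nat_lit 4,nat_lit 9])
 (.leaf [nat_lit 17,nat_lit 1,nat_lit 0,nat_lit 7,nat_lit 6,nat_lit 6])
) (.leaf [nat_lit 25,nat_lit 0,nat_lit 1,nat_lit 5,nat_lit 9,nat_lit 5,nat_lit 9])
)) (.node (.node (.node (.leaf [nat_lit 24,nat_lit 2,nat_lit 1,nat_lit 2,nat_lit 9,nat_lit 3,nat_lit 9])
 (.leaf [nat_lit 20,nat_lit 0,nat_lit 1,nat_lit 5,nat_lit 6,nat_lit 3,nat_lit 7])
) (.leaf [nat_lit 20,nat_lit 2,nat_lit 1,nat_lit 2,nat_lit 7,nat_lit 4,nat_lit 6])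
) (.node (.node (.leaf [nat_lit 26,nat_lit 2,nat_lit 1,nat_lit 8,nat_lit 9,nat_lit 8,nat_lit 9])
 (.leaf [nat_lit 18,nat_lit 2,nat_lit 0,nat_lit 8,nat_lit 6,nat_lit 8,nat_lit 6])
) (.leaf [nat_lit 27,nat_lit 1,nat_lit 1,nat_lit 9,nat_lit 6,nat_lit 6,nat_lit 9,nat_lit 7,nat_lit 9,nat_lit 7])
)))

noncomputable def tE_subs : LT :=
(.leaf [nat_lit 0,nat_lit 0,nat_lit 0,nat_lit 10])


noncomputable def tE : TC :=
  ⟨fun x c => Nat.shiftRight (BT.get tE_t x) (Nat.mul (nat_lit 21) c),
  (nat_lit 4), (nat_lit 15), (nat_lit 16383), (nat_lit 14), (nat_lit 127), (nat_lit 16368), (nat_lit 4), (nat_lit 4), (nat_lit 10), (nat_lit 9), (nat_lit 10), (nat_lit 11), tE_inv, tE_rules, tE_subs⟩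

theorem tE_c1 : tE.rules.all (ruleOK tE.m tE.inv tE_rels) = true := by decide +kernel
theorem tE_c2 : tE.subs.all (subOK tE.m tE.inv tE_hws) = true := by decide +kernel
theorem tE_c3 : tE.base = true := by decide +kernel

theorem tE_s0 : tE.slots (nat_lit 0) (nat_lit 4) = true := by decide +kernel

theorem tE_c4 : tE.Upto tE.N := ((TC.upto_zero tE).step _ tE_s0)
theorem tE_c5 : tE.UptoE tE.N := (TC.uptoE_n tE)
theorem tE_bound {G : Type*} [Group G] {g : ℕ → G} {H : Subgroup G} (hinv : ∀ x < 10, g x * g (tE_inv x) = 1)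
    (hrels : ∀ i, evalW g (tE_rels.get i) = 1) (hH : ∀ x < 9, g x ∈ H) (hhws : ∀ i, evalW g (tE_hws.get i) ∈ H) :
    H.relIndex (genLt g 10) ≠ 0 ∧ H.relIndex (genLt g 10) ≤ 4 :=
  TC.relIndex_le (T := tE) hinv hrels hH hhws tE_c1 tE_c2 tE_c3 tE_c4 tE_c5

theorem tE_bd : Bound.{u} relE 9 10 4 := fun _ _ _ _ hs hH =>
  tE_bound (hs.hinv (by decide +kernel)) (hs.tree (by decide +kernel)) hH (leaf_nil_mem' _ _ (by decide +kernel))

noncomputable def tD_rels : LT :=
(.node (.node (.node (.node (.node (.leaf [])
 (.leaf [nat_lit 2,nat_lit 4,nat_lit 3,nat_lit 5])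
) (.node (.leaf [nat_lit 7,nat_lit 6])
 (.leaf [nat_lit 9,nat_lit 2,nat_lit 9,nat_lit 3])
)) (.node (.node (.leaf [nat_lit 3,nat_lit 2])
 (.leaf [nat_lit 6,nat_lit 2,nat_lit 7,nat_lit 5])
) (.leaf [nat_lit 2,nat_lit 2,nat_lit 2])
)) (.node (.node (.node (.leaf [nat_lit 1,nat_lit 0])
 (.leaf [nat_lit 8,nat_lit 6,nat_lit 8,nat_lit 6])
) (.node (.leaf [nat_lit 9,nat_lit 9])
 (.leaf [nat_lit 9,nat_lit 8,nat_lit 9,nat_lit 8])
)) (.node (.node (.leaf [nat_lit 5,nat_lit 4])
 (.leaf [nat_lit 8,nat_lit 4,nat_lit 8,nat_lit 5])
) (.leaf [nat_lit 0,nat_lit 2,nat_lit 1,nat_lit 3])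
))) (.node (.node (.node (.node (.leaf [nat_lit 0,nat_lit 1])
 (.leaf [nat_lit 6,nat_lit 6,nat_lit 6])
) (.node (.leaf [nat_lit 8,nat_lit 8])
 (.leaf [nat_lit 9,nat_lit 4,nat_lit 9,nat_lit 4])
)) (.node (.node (.leaf [nat_lit 4,nat_lit 5])
 (.leaf [nat_lit 8,nat_lit 0,nat_lit 8,nat_lit 3])
) (.leaf [nat_lit 4,nat_lit 4,nat_lit 4])
)) (.node (.node (.node (.leaf [nat_lit 2,nat_lit 3])
 (.leaf [nat_lit 6,nat_lit 0,nat_lit 7,nat_lit 3])
) (.node (.leaf [nat_lit 0,nat_lit 0,nat_lit 0])
 (.leaf [nat_lit 9,nat_lit 6,nat_lit 9,nat_lit 7,nat_lit 9,nat_lit 6,nat_lit 9,nat_lit 7])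
)) (.node (.node (.leaf [nat_lit 6,nat_lit 7])
 (.leaf [nat_lit 9,nat_lit 0,nat_lit 9,nat_lit 1])
) (.leaf [nat_lit 0,nat_lit 4,nat_lit 1,nat_lit 5])
))))
noncomputable def tD_hws : LT :=
(.leaf [])

noncomputable def tD_inv : ℕ → ℕ := getP (nat_lit 8) (nat_lit 255) (nat_lit 0x9080607040502030001)

noncomputable def tD_t : BT :=
(.node (.node (.node (.node (.leaf (nat_lit 0x211dd083f6020c140828472090d081420202c438000))
 (.leaf (nat_lit 0x32135f883e6320d9000375b20708001d332044438080))
) (.leaf (nat_lit 0x2212dc00446220d14882c400084d882222203c438040))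
) (.node (.node (.leaf (nat_lit 0x12125d48416120c94482a40007cd4816212034438020))
 (.leaf (nat_lit 0x1ffc007ff001ffc007ff001ffc007ff001ffc007ff0))
) (.leaf (nat_lit 0xc2139f483c5c20e10103a6000644001b304048838060))
)) (.node (.node (.node (.leaf (nat_lit 0x121c00406000c540029400094c0015200030438010))
 (.leaf (nat_lit 0x119810457000bcc00272040b941026400028010091))
) (.leaf (nat_lit 0x131e48436000d54002d492080c0023200040438050))
) (.node (.node (.leaf (nat_lit 0x129c00426000cd4002b482078c0017200038438030))
 (.leaf (nat_lit 0x142580406400c24c030920081c40206100424000000))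
) (.leaf (nat_lit 0x13dc003b4000f5800395a206880013104060c38070))
)))

noncomputable def tD_rules : LT :=
(.node (.node (.node (.node (.leaf [nat_lit 23,nat_lit 2,nat_lit 1,nat_lit 0,nat_lit 9,nat_lit 0,nat_lit 9])
 (.leaf [nat_lit 19,nat_lit 0,nat_lit 1,nat_lit 3,nat_lit 6,nat_lit 1,nat_lit 7])
) (.node (.leaf [nat_lit 19,nat_lit 2,nat_lit 1,nat_lit 0,nat_lit 7,nat_lit 2,nat_lit 6])
 (.leaf [nat_lit 27,nat_lit 6,nat_lit 1,nat_lit 6,nat_lit 9,nat_lit 6,nat_lit 9,nat_lit 7,nat_lit 9,nat_lit 6,nat_lit 9])
)) (.node (.node (.leaf [nat_lit 25,nat_lit 2,nat_lit 1,nat_lit 4,nat_lit 9,nat_lit 5,nat_lit 9])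
 (.leaf [nat_lit 17,nat_lit 1,nat_lit 0,nat_lit 7,nat_lit 6,nat_lit 6])
) (.node (.leaf [nat_lit 22,nat_lit 2,nat_lit 1,nat_lit 4,nat_lit 8,nat_lit 4,nat_lit 8])
 (.leaf [nat_lit 18,nat_lit 1,nat_lit 1,nat_lit 8,nat_lit 7,nat_lit 8,nat_lit 7])
))) (.node (.node (.node (.leaf [nat_lit 24,nat_lit 2,nat_lit 1,nat_lit 2,nat_lit 9,nat_lit 2,nat_lit 9])
 (.leaf [nat_lit 20,nat_lit 0,nat_lit 1,nat_lit 5,nat_lit 6,nat_lit 3,nat_lit 7])
) (.node (.leaf [nat_lit 20,nat_lit 2,nat_lit 1,nat_lit 2,nat_lit 7,nat_lit 4,nat_lit 6])
 (.leaf [nat_lit 17,nat_lit 1,nat_lit 1,nat_lit 6,nat_lit 7,nat_lit 7])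
)) (.node (.node (.leaf [nat_lit 26,nat_lit 2,nat_lit 1,nat_lit 8,nat_lit 9,nat_lit 8,nat_lit 9])
 (.leaf [nat_lit 18,nat_lit 2,nat_lit 0,nat_lit 8,nat_lit 6,nat_lit 8,nat_lit 6])
) (.leaf [nat_lit 21,nat_lit 2,nat_lit 1,nat_lit 0,nat_lit 8,nat_lit 2,nat_lit 8])
)))

noncomputable def tD_subs : LT :=
(.leaf [nat_lit 0,nat_lit 0,nat_lit 0,nat_lit 10])


noncomputable def tD : TC :=
  ⟨fun x c => Nat.shiftRight (BT.get tD_t x) (Nat.mul (nat_lit 22) c),
  (nat_lit 4), (nat_lit 15), (nat_lit 32767), (nat_lit 15), (nat_lit 127), (nat_lit 32752), (nat_lit 8), (nat_lit 8), (nat_lit 10), (nat_lit 9), (nat_lit 10), (nat_lit 11), tD_inv, tD_rules, tD_subs⟩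

theorem tD_c1 : tD.rules.all (ruleOK tD.m tD.inv tD_rels) = true := by decide +kernel
theorem tD_c2 : tD.subs.all (subOK tD.m tD.inv tD_hws) = true := by decide +kernel
theorem tD_c3 : tD.base = true := by decide +kernel

theorem tD_s0 : tD.slots (nat_lit 0) (nat_lit 8) = true := by decide +kernel

theorem tD_c4 : tD.Upto tD.N := ((TC.upto_zero tD).step _ tD_s0)
theorem tD_c5 : tD.UptoE tD.N := (TC.uptoE_n tD)
theorem tD_bound {G : Type*} [Group G] {g : ℕ → G} {H : Subgroup G} (hinv : ∀ x < 10, g x * g (tD_inv x) = 1)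
    (hrels : ∀ i, evalW g (tD_rels.get i) = 1) (hH : ∀ x < 9, g x ∈ H) (hhws : ∀ i, evalW g (tD_hws.get i) ∈ H) :
    H.relIndex (genLt g 10) ≠ 0 ∧ H.relIndex (genLt g 10) ≤ 8 :=
  TC.relIndex_le (T := tD) hinv hrels hH hhws tD_c1 tD_c2 tD_c3 tD_c4 tD_c5

theorem tD_bd : Bound.{u} relD 9 10 8 := fun _ _ _ _ hs hH =>
  tD_bound (hs.hinv (by decide +kernel)) (hs.tree (by decide +kernel)) hH (leaf_nil_mem' _ _ (by decide +kernel))

theorem presJ : Pres.{u} relJ 6 27 := pres_nil.step tJ_bd (by decide +kernel)

theorem presH : Pres.{u} relH 9 162 := presJ.step tH_bd (by decide +kernel)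

theorem presW : Pres.{u} relW 10 324 := presH.step tW_bd (by decide +kernel)

theorem presE : Pres.{u} relE 10 648 := presH.step tE_bd (by decide +kernel)

theorem presD : Pres.{u} relD 10 1296 := presH.step tD_bd (by decide +kernel)

theorem lJ_ok : allL lJ (permOK 9) = true := by decide +kernel

theorem relJ_ok : allL relJ (fun w => Nat.beq (evC A9 lJ w) A9.one) = true := by decide +kernel

theorem lH_ok : allL lH (permOK 9) = true := by decide +kernel

theorem relH_ok : allL relH (fun w => Nat.beq (evC A9 lH w) A9.one) = true := by decide +kernel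

theorem lW_ok : allL lW (permOK 9) = true := by decide +kernel

theorem relW_ok : allL relW (fun w => Nat.beq (evC A9 lW w) A9.one) = true := by decide +kernel

theorem lE_ok : allL lE (permOK 9) = true := by decide +kernel

theorem relE_ok : allL relE (fun w => Nat.beq (evC A9 lE w) A9.one) = true := by decide +kernel

theorem lD_ok : allL lD (permOK 9) = true := by decide +kernel

theorem relD_ok : allL relD (fun w => Nat.beq (evC A9 lD w) A9.one) = true := by decide +kernel

def wJ : List (List ℕ) :=
  [[0],
   [1],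
   [2],
   [3],
   [4],
   [5],
   [2, 0],
   [3, 0],
   [4, 0],
   [5, 0],
   [2, 1],
   [3, 1],
   [4, 1],
   [5, 1],
   [4, 2],
   [5, 2],
   [4, 3],
   [5, 3],
   [4, 2, 0],
   [5, 2, 0],
   [4, 3, 0],
   [5, 3, 0],
   [4, 2, 1],
   [5, 2, 1],
   [4, 3, 1],
   [5, 3, 1]]

noncomputable def J_t : ST :=
(.node (nat_lit 0x70608040305010002) (.node (nat_lit 0x60807050403000201) (.node (nat_lit 0x60807040305000201) (.node (nat_lit 0x60807030504010002) (.leaf (nat_lit 0x60807030504000201) (nat_lit 770))
 (.node (nat_lit 0x60807030504020100) (.leaf (nat_lit 0x60807030504010002) (nat_lit 1026))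
 (.leaf (nat_lit 0x60807030504020100) (nat_lit 514))
)) (.node (nat_lit 0x60807040305010002) (.leaf (nat_lit 0x60807040305000201) (nat_lit 1026))
 (.node (nat_lit 0x60807040305020100) (.leaf (nat_lit 0x60807040305010002) (nat_lit 1282))
 (.leaf (nat_lit 0x60807040305020100) (nat_lit 770))
))) (.node (nat_lit 0x70608030504000201) (.node (nat_lit 0x60807050403010002) (.leaf (nat_lit 0x60807050403000201) (nat_lit 514))
 (.node (nat_lit 0x60807050403020100) (.leaf (nat_lit 0x60807050403010002) (nat_lit 770))
 (.leaf (nat_lit 0x60807050403020100) (nat_lit 258))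
)) (.node (nat_lit 0x70608030504020100) (.node (nat_lit 0x70608030504010002) (.leaf (nat_lit 0x70608030504000201) (nat_lit 1026))
 (.leaf (nat_lit 0x70608030504010002) (nat_lit 1282))
) (.node (nat_lit 0x70608040305000201) (.leaf (nat_lit 0x70608030504020100) (nat_lit 770))
 (.leaf (nat_lit 0x70608040305000201) (nat_lit 1282))
)))) (.node (nat_lit 0x80706030504020100) (.node (nat_lit 0x70608050403010002) (.node (nat_lit 0x70608040305020100) (.leaf (nat_lit 0x70608040305010002) (nat_lit 1538))
 (.node (nat_lit 0x70608050403000201) (.leaf (nat_lit 0x70608040305020100) (nat_lit 1026))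
 (.leaf (nat_lit 0x70608050403000201) (nat_lit 770))
)) (.node (nat_lit 0x80706030504000201) (.node (nat_lit 0x70608050403020100) (.leaf (nat_lit 0x70608050403010002) (nat_lit 1026))
 (.leaf (nat_lit 0x70608050403020100) (nat_lit 514))
) (.node (nat_lit 0x80706030504010002) (.leaf (nat_lit 0x80706030504000201) (nat_lit 513))
 (.leaf (nat_lit 0x80706030504010002) (nat_lit 769))
))) (.node (nat_lit 0x80706040305020100) (.node (nat_lit 0x80706040305000201) (.leaf (nat_lit 0x80706030504020100) (nat_lit 257))
 (.node (nat_lit 0x80706040305010002) (.leaf (nat_lit 0x80706040305000201) (nat_lit 769))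
 (.leaf (nat_lit 0x80706040305010002) (nat_lit 1025))
)) (.node (nat_lit 0x80706050403010002) (.node (nat_lit 0x80706050403000201) (.leaf (nat_lit 0x80706040305020100) (nat_lit 513))
 (.leaf (nat_lit 0x80706050403000201) (nat_lit 256))
) (.node (nat_lit 0x80706050403020100) (.leaf (nat_lit 0x80706050403010002) (nat_lit 512))
 (.leaf (nat_lit 0x80706050403020100) (nat_lit 0))
)))))

theorem J_ok : genOK A9 [(nat_lit 0x80706050403000201), (nat_lit 0x80706030504020100), (nat_lit 0x60807050403020100)] J_t (nat_lit 27) = true := by decide +kernel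

noncomputable def S_t : ST :=
(.node (nat_lit 0x40305010002070608) (.node (nat_lit 0x20100060807050403) (.node (nat_lit 0x10002060807040305) (.node (nat_lit 0x201070608050403) (.node (nat_lit 0x201060807050403) (.node (nat_lit 0x201060807040305) (.leaf (nat_lit 0x201060807030504) (nat_lit 1027))
 (.leaf (nat_lit 0x201060807040305) (nat_lit 1283))
) (.node (nat_lit 0x201070608030504) (.leaf (nat_lit 0x201060807050403) (nat_lit 771))
 (.node (nat_lit 0x201070608040305) (.leaf (nat_lit 0x201070608030504) (nat_lit 1283))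
 (.leaf (nat_lit 0x201070608040305) (nat_lit 1539))
))) (.node (nat_lit 0x201080706040305) (.node (nat_lit 0x201080706030504) (.leaf (nat_lit 0x201070608050403) (nat_lit 1027))
 (.leaf (nat_lit 0x201080706030504) (nat_lit 771))
) (.node (nat_lit 0x201080706050403) (.leaf (nat_lit 0x201080706040305) (nat_lit 1027))
 (.node (nat_lit 0x10002060807030504) (.leaf (nat_lit 0x201080706050403) (nat_lit 515))
 (.leaf (nat_lit 0x10002060807030504) (nat_lit 1283))
)))) (.node (nat_lit 0x10002080706030504) (.node (nat_lit 0x10002070608030504) (.node (nat_lit 0x10002060807050403) (.leaf (nat_lit 0x10002060807040305) (nat_lit 1539))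
 (.leaf (nat_lit 0x10002060807050403) (nat_lit 1027))
) (.node (nat_lit 0x10002070608040305) (.leaf (nat_lit 0x10002070608030504) (nat_lit 1539))
 (.node (nat_lit 0x10002070608050403) (.leaf (nat_lit 0x10002070608040305) (nat_lit 1795))
 (.leaf (nat_lit 0x10002070608050403) (nat_lit 1283))
))) (.node (nat_lit 0x10002080706050403) (.node (nat_lit 0x10002080706040305) (.leaf (nat_lit 0x10002080706030504) (nat_lit 1027))
 (.leaf (nat_lit 0x10002080706040305) (nat_lit 1283))
) (.node (nat_lit 0x20100060807030504) (.leaf (nat_lit 0x10002080706050403) (nat_lit 771))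
 (.node (nat_lit 0x20100060807040305) (.leaf (nat_lit 0x20100060807030504) (nat_lit 771))
 (.leaf (nat_lit 0x20100060807040305) (nat_lit 1027))
))))) (.node (nat_lit 0x30504010002060807) (.node (nat_lit 0x20100080706040305) (.node (nat_lit 0x20100070608040305) (.node (nat_lit 0x20100070608030504) (.leaf (nat_lit 0x20100060807050403) (nat_lit 515))
 (.leaf (nat_lit 0x20100070608030504) (nat_lit 1027))
) (.node (nat_lit 0x20100070608050403) (.leaf (nat_lit 0x20100070608040305) (nat_lit 1283))
 (.node (nat_lit 0x20100080706030504) (.leaf (nat_lit 0x20100070608050403) (nat_lit 771))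
 (.leaf (nat_lit 0x20100080706030504) (nat_lit 515))
))) (.node (nat_lit 0x30504000201060807) (.node (nat_lit 0x20100080706050403) (.leaf (nat_lit 0x20100080706040305) (nat_lit 771))
 (.leaf (nat_lit 0x20100080706050403) (nat_lit 259))
) (.node (nat_lit 0x30504000201070608) (.leaf (nat_lit 0x30504000201060807) (nat_lit 1283))
 (.node (nat_lit 0x30504000201080706) (.leaf (nat_lit 0x30504000201070608) (nat_lit 1539))
 (.leaf (nat_lit 0x30504000201080706) (nat_lit 1027))
)))) (.node (nat_lit 0x30504020100080706) (.node (nat_lit 0x30504010002080706) (.node (nat_lit 0x30504010002070608) (.leaf (nat_lit 0x30504010002060807) (nat_lit 1539))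
 (.leaf (nat_lit 0x30504010002070608) (nat_lit 1795))
) (.node (nat_lit 0x30504020100060807) (.leaf (nat_lit 0x30504010002080706) (nat_lit 1283))
 (.node (nat_lit 0x30504020100070608) (.leaf (nat_lit 0x30504020100060807) (nat_lit 1027))
 (.leaf (nat_lit 0x30504020100070608) (nat_lit 1283))
))) (.node (nat_lit 0x40305000201070608) (.node (nat_lit 0x40305000201060807) (.leaf (nat_lit 0x30504020100080706) (nat_lit 771))
 (.leaf (nat_lit 0x40305000201060807) (nat_lit 1539))
) (.node (nat_lit 0x40305000201080706) (.leaf (nat_lit 0x40305000201070608) (nat_lit 1795))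
 (.node (nat_lit 0x40305010002060807) (.leaf (nat_lit 0x40305000201080706) (nat_lit 1283))
 (.leaf (nat_lit 0x40305010002060807) (nat_lit 1795))
)))))) (.node (nat_lit 0x60807050403000201) (.node (nat_lit 0x50403010002080706) (.node (nat_lit 0x50403000201060807) (.node (nat_lit 0x40305020100060807) (.node (nat_lit 0x40305010002080706) (.leaf (nat_lit 0x40305010002070608) (nat_lit 2051))
 (.leaf (nat_lit 0x40305010002080706) (nat_lit 1539))
) (.node (nat_lit 0x40305020100070608) (.leaf (nat_lit 0x40305020100060807) (nat_lit 1283))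
 (.node (nat_lit 0x40305020100080706) (.leaf (nat_lit 0x40305020100070608) (nat_lit 1539))
 (.leaf (nat_lit 0x40305020100080706) (nat_lit 1027))
))) (.node (nat_lit 0x50403000201080706) (.node (nat_lit 0x50403000201070608) (.leaf (nat_lit 0x50403000201060807) (nat_lit 1027))
 (.leaf (nat_lit 0x50403000201070608) (nat_lit 1283))
) (.node (nat_lit 0x50403010002060807) (.leaf (nat_lit 0x50403000201080706) (nat_lit 771))
 (.node (nat_lit 0x50403010002070608) (.leaf (nat_lit 0x50403010002060807) (nat_lit 1283))
 (.leaf (nat_lit 0x50403010002070608) (nat_lit 1539))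
)))) (.node (nat_lit 0x60807030504010002) (.node (nat_lit 0x50403020100070608) (.node (nat_lit 0x50403020100060807) (.leaf (nat_lit 0x50403010002080706) (nat_lit 1027))
 (.leaf (nat_lit 0x50403020100060807) (nat_lit 771))
) (.node (nat_lit 0x50403020100080706) (.leaf (nat_lit 0x50403020100070608) (nat_lit 1027))
 (.node (nat_lit 0x60807030504000201) (.leaf (nat_lit 0x50403020100080706) (nat_lit 515))
 (.leaf (nat_lit 0x60807030504000201) (nat_lit 770))
))) (.node (nat_lit 0x60807040305000201) (.node (nat_lit 0x60807030504020100) (.leaf (nat_lit 0x60807030504010002) (nat_lit 1026))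
 (.leaf (nat_lit 0x60807030504020100) (nat_lit 514))
) (.node (nat_lit 0x60807040305010002) (.leaf (nat_lit 0x60807040305000201) (nat_lit 1026))
 (.node (nat_lit 0x60807040305020100) (.leaf (nat_lit 0x60807040305010002) (nat_lit 1282))
 (.leaf (nat_lit 0x60807040305020100) (nat_lit 770))
))))) (.node (nat_lit 0x70608050403010002) (.node (nat_lit 0x70608030504020100) (.node (nat_lit 0x60807050403020100) (.node (nat_lit 0x60807050403010002) (.leaf (nat_lit 0x60807050403000201) (nat_lit 514))
 (.leaf (nat_lit 0x60807050403010002) (nat_lit 770))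
) (.node (nat_lit 0x70608030504000201) (.leaf (nat_lit 0x60807050403020100) (nat_lit 258))
 (.node (nat_lit 0x70608030504010002) (.leaf (nat_lit 0x70608030504000201) (nat_lit 1026))
 (.leaf (nat_lit 0x70608030504010002) (nat_lit 1282))
))) (.node (nat_lit 0x70608040305010002) (.node (nat_lit 0x70608040305000201) (.leaf (nat_lit 0x70608030504020100) (nat_lit 770))
 (.leaf (nat_lit 0x70608040305000201) (nat_lit 1282))
) (.node (nat_lit 0x70608040305020100) (.leaf (nat_lit 0x70608040305010002) (nat_lit 1538))
 (.node (nat_lit 0x70608050403000201) (.leaf (nat_lit 0x70608040305020100) (nat_lit 1026))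
 (.leaf (nat_lit 0x70608050403000201) (nat_lit 770))
)))) (.node (nat_lit 0x80706040305000201) (.node (nat_lit 0x80706030504000201) (.node (nat_lit 0x70608050403020100) (.leaf (nat_lit 0x70608050403010002) (nat_lit 1026))
 (.leaf (nat_lit 0x70608050403020100) (nat_lit 514))
) (.node (nat_lit 0x80706030504010002) (.leaf (nat_lit 0x80706030504000201) (nat_lit 513))
 (.node (nat_lit 0x80706030504020100) (.leaf (nat_lit 0x80706030504010002) (nat_lit 769))
 (.leaf (nat_lit 0x80706030504020100) (nat_lit 257))
))) (.node (nat_lit 0x80706050403000201) (.node (nat_lit 0x80706040305010002) (.leaf (nat_lit 0x80706040305000201) (nat_lit 769))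
 (.node (nat_lit 0x80706040305020100) (.leaf (nat_lit 0x80706040305010002) (nat_lit 1025))
 (.leaf (nat_lit 0x80706040305020100) (nat_lit 513))
)) (.node (nat_lit 0x80706050403010002) (.leaf (nat_lit 0x80706050403000201) (nat_lit 256))
 (.node (nat_lit 0x80706050403020100) (.leaf (nat_lit 0x80706050403010002) (nat_lit 512))
 (.leaf (nat_lit 0x80706050403020100) (nat_lit 0))
)))))))

theorem S_ok : genOK A9 [(nat_lit 0x80706050403000201), (nat_lit 0x80706030504020100), (nat_lit 0x60807050403020100), (nat_lit 0x20100080706050403)] S_t (nat_lit 81) = true := by decide +kernel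

noncomputable def H_t : ST :=
(.node (nat_lit 0x40305060807000201) (.node (nat_lit 0x20100040305070608) (.node (nat_lit 0x10002030504080706) (.node (nat_lit 0x201060807040305) (.node (nat_lit 0x201040305080706) (.node (nat_lit 0x201030504080706) (.node (nat_lit 0x201030504070608) (.leaf (nat_lit 0x201030504060807) (nat_lit 1283))
 (.leaf (nat_lit 0x201030504070608) (nat_lit 1539))
) (.node (nat_lit 0x201040305060807) (.leaf (nat_lit 0x201030504080706) (nat_lit 1027))
 (.node (nat_lit 0x201040305070608) (.leaf (nat_lit 0x201040305060807) (nat_lit 1539))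
 (.leaf (nat_lit 0x201040305070608) (nat_lit 1795))
))) (.node (nat_lit 0x201050403070608) (.node (nat_lit 0x201050403060807) (.leaf (nat_lit 0x201040305080706) (nat_lit 1283))
 (.leaf (nat_lit 0x201050403060807) (nat_lit 1027))
) (.node (nat_lit 0x201050403080706) (.leaf (nat_lit 0x201050403070608) (nat_lit 1283))
 (.node (nat_lit 0x201060807030504) (.leaf (nat_lit 0x201050403080706) (nat_lit 771))
 (.leaf (nat_lit 0x201060807030504) (nat_lit 1027))
)))) (.node (nat_lit 0x201080706030504) (.node (nat_lit 0x201070608030504) (.node (nat_lit 0x201060807050403) (.leaf (nat_lit 0x201060807040305) (nat_lit 1283))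
 (.leaf (nat_lit 0x201060807050403) (nat_lit 771))
) (.node (nat_lit 0x201070608040305) (.leaf (nat_lit 0x201070608030504) (nat_lit 1283))
 (.node (nat_lit 0x201070608050403) (.leaf (nat_lit 0x201070608040305) (nat_lit 1539))
 (.leaf (nat_lit 0x201070608050403) (nat_lit 1027))
))) (.node (nat_lit 0x201080706050403) (.node (nat_lit 0x201080706040305) (.leaf (nat_lit 0x201080706030504) (nat_lit 771))
 (.leaf (nat_lit 0x201080706040305) (nat_lit 1027))
) (.node (nat_lit 0x10002030504060807) (.leaf (nat_lit 0x201080706050403) (nat_lit 515))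
 (.node (nat_lit 0x10002030504070608) (.leaf (nat_lit 0x10002030504060807) (nat_lit 1539))
 (.leaf (nat_lit 0x10002030504070608) (nat_lit 1795))
))))) (.node (nat_lit 0x10002070608030504) (.node (nat_lit 0x10002050403070608) (.node (nat_lit 0x10002040305070608) (.node (nat_lit 0x10002040305060807) (.leaf (nat_lit 0x10002030504080706) (nat_lit 1283))
 (.leaf (nat_lit 0x10002040305060807) (nat_lit 1795))
) (.node (nat_lit 0x10002040305080706) (.leaf (nat_lit 0x10002040305070608) (nat_lit 2051))
 (.node (nat_lit 0x10002050403060807) (.leaf (nat_lit 0x10002040305080706) (nat_lit 1539))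
 (.leaf (nat_lit 0x10002050403060807) (nat_lit 1283))
))) (.node (nat_lit 0x10002060807030504) (.node (nat_lit 0x10002050403080706) (.leaf (nat_lit 0x10002050403070608) (nat_lit 1539))
 (.leaf (nat_lit 0x10002050403080706) (nat_lit 1027))
) (.node (nat_lit 0x10002060807040305) (.leaf (nat_lit 0x10002060807030504) (nat_lit 1283))
 (.node (nat_lit 0x10002060807050403) (.leaf (nat_lit 0x10002060807040305) (nat_lit 1539))
 (.leaf (nat_lit 0x10002060807050403) (nat_lit 1027))
)))) (.node (nat_lit 0x10002080706050403) (.node (nat_lit 0x10002070608050403) (.node (nat_lit 0x10002070608040305) (.leaf (nat_lit 0x10002070608030504) (nat_lit 1539))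
 (.leaf (nat_lit 0x10002070608040305) (nat_lit 1795))
) (.node (nat_lit 0x10002080706030504) (.leaf (nat_lit 0x10002070608050403) (nat_lit 1283))
 (.node (nat_lit 0x10002080706040305) (.leaf (nat_lit 0x10002080706030504) (nat_lit 1027))
 (.leaf (nat_lit 0x10002080706040305) (nat_lit 1283))
))) (.node (nat_lit 0x20100030504070608) (.node (nat_lit 0x20100030504060807) (.leaf (nat_lit 0x10002080706050403) (nat_lit 771))
 (.leaf (nat_lit 0x20100030504060807) (nat_lit 1027))
) (.node (nat_lit 0x20100030504080706) (.leaf (nat_lit 0x20100030504070608) (nat_lit 1283))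
 (.node (nat_lit 0x20100040305060807) (.leaf (nat_lit 0x20100030504080706) (nat_lit 771))
 (.leaf (nat_lit 0x20100040305060807) (nat_lit 1283))
)))))) (.node (nat_lit 0x30504020100060807) (.node (nat_lit 0x20100070608050403) (.node (nat_lit 0x20100060807030504) (.node (nat_lit 0x20100050403060807) (.node (nat_lit 0x20100040305080706) (.leaf (nat_lit 0x20100040305070608) (nat_lit 1539))
 (.leaf (nat_lit 0x20100040305080706) (nat_lit 1027))
) (.node (nat_lit 0x20100050403070608) (.leaf (nat_lit 0x20100050403060807) (nat_lit 771))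
 (.node (nat_lit 0x20100050403080706) (.leaf (nat_lit 0x20100050403070608) (nat_lit 1027))
 (.leaf (nat_lit 0x20100050403080706) (nat_lit 515))
))) (.node (nat_lit 0x20100060807050403) (.node (nat_lit 0x20100060807040305) (.leaf (nat_lit 0x20100060807030504) (nat_lit 771))
 (.leaf (nat_lit 0x20100060807040305) (nat_lit 1027))
) (.node (nat_lit 0x20100070608030504) (.leaf (nat_lit 0x20100060807050403) (nat_lit 515))
 (.node (nat_lit 0x20100070608040305) (.leaf (nat_lit 0x20100070608030504) (nat_lit 1027))
 (.leaf (nat_lit 0x20100070608040305) (nat_lit 1283))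
)))) (.node (nat_lit 0x30504000201070608) (.node (nat_lit 0x20100080706040305) (.node (nat_lit 0x20100080706030504) (.leaf (nat_lit 0x20100070608050403) (nat_lit 771))
 (.leaf (nat_lit 0x20100080706030504) (nat_lit 515))
) (.node (nat_lit 0x20100080706050403) (.leaf (nat_lit 0x20100080706040305) (nat_lit 771))
 (.node (nat_lit 0x30504000201060807) (.leaf (nat_lit 0x20100080706050403) (nat_lit 259))
 (.leaf (nat_lit 0x30504000201060807) (nat_lit 1283))
))) (.node (nat_lit 0x30504010002060807) (.node (nat_lit 0x30504000201080706) (.leaf (nat_lit 0x30504000201070608) (nat_lit 1539))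
 (.leaf (nat_lit 0x30504000201080706) (nat_lit 1027))
) (.node (nat_lit 0x30504010002070608) (.leaf (nat_lit 0x30504010002060807) (nat_lit 1539))
 (.node (nat_lit 0x30504010002080706) (.leaf (nat_lit 0x30504010002070608) (nat_lit 1795))
 (.leaf (nat_lit 0x30504010002080706) (nat_lit 1283))
))))) (.node (nat_lit 0x30504080706010002) (.node (nat_lit 0x30504060807020100) (.node (nat_lit 0x30504020100080706) (.node (nat_lit 0x30504020100070608) (.leaf (nat_lit 0x30504020100060807) (nat_lit 1027))
 (.leaf (nat_lit 0x30504020100070608) (nat_lit 1283))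
) (.node (nat_lit 0x30504060807000201) (.leaf (nat_lit 0x30504020100080706) (nat_lit 771))
 (.node (nat_lit 0x30504060807010002) (.leaf (nat_lit 0x30504060807000201) (nat_lit 1284))
 (.leaf (nat_lit 0x30504060807010002) (nat_lit 1540))
))) (.node (nat_lit 0x30504070608010002) (.node (nat_lit 0x30504070608000201) (.leaf (nat_lit 0x30504060807020100) (nat_lit 1028))
 (.leaf (nat_lit 0x30504070608000201) (nat_lit 1540))
) (.node (nat_lit 0x30504070608020100) (.leaf (nat_lit 0x30504070608010002) (nat_lit 1796))
 (.node (nat_lit 0x30504080706000201) (.leaf (nat_lit 0x30504070608020100) (nat_lit 1284))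
 (.leaf (nat_lit 0x30504080706000201) (nat_lit 1028))
)))) (.node (nat_lit 0x40305010002060807) (.node (nat_lit 0x40305000201060807) (.node (nat_lit 0x30504080706020100) (.leaf (nat_lit 0x30504080706010002) (nat_lit 1284))
 (.leaf (nat_lit 0x30504080706020100) (nat_lit 772))
) (.node (nat_lit 0x40305000201070608) (.leaf (nat_lit 0x40305000201060807) (nat_lit 1539))
 (.node (nat_lit 0x40305000201080706) (.leaf (nat_lit 0x40305000201070608) (nat_lit 1795))
 (.leaf (nat_lit 0x40305000201080706) (nat_lit 1283))
))) (.node (nat_lit 0x40305020100060807) (.node (nat_lit 0x40305010002070608) (.leaf (nat_lit 0x40305010002060807) (nat_lit 1795))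
 (.node (nat_lit 0x40305010002080706) (.leaf (nat_lit 0x40305010002070608) (nat_lit 2051))
 (.leaf (nat_lit 0x40305010002080706) (nat_lit 1539))
)) (.node (nat_lit 0x40305020100070608) (.leaf (nat_lit 0x40305020100060807) (nat_lit 1283))
 (.node (nat_lit 0x40305020100080706) (.leaf (nat_lit 0x40305020100070608) (nat_lit 1539))
 (.leaf (nat_lit 0x40305020100080706) (nat_lit 1027))
))))))) (.node (nat_lit 0x60807040305010002) (.node (nat_lit 0x50403060807020100) (.node (nat_lit 0x50403000201070608) (.node (nat_lit 0x40305070608020100) (.node (nat_lit 0x40305060807020100) (.node (nat_lit 0x40305060807010002) (.leaf (nat_lit 0x40305060807000201) (nat_lit 1540))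
 (.leaf (nat_lit 0x40305060807010002) (nat_lit 1796))
) (.node (nat_lit 0x40305070608000201) (.leaf (nat_lit 0x40305060807020100) (nat_lit 1284))
 (.node (nat_lit 0x40305070608010002) (.leaf (nat_lit 0x40305070608000201) (nat_lit 1796))
 (.leaf (nat_lit 0x40305070608010002) (nat_lit 2052))
))) (.node (nat_lit 0x40305080706010002) (.node (nat_lit 0x40305080706000201) (.leaf (nat_lit 0x40305070608020100) (nat_lit 1540))
 (.leaf (nat_lit 0x40305080706000201) (nat_lit 1284))
) (.node (nat_lit 0x40305080706020100) (.leaf (nat_lit 0x40305080706010002) (nat_lit 1540))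
 (.node (nat_lit 0x50403000201060807) (.leaf (nat_lit 0x40305080706020100) (nat_lit 1028))
 (.leaf (nat_lit 0x50403000201060807) (nat_lit 1027))
)))) (.node (nat_lit 0x50403020100060807) (.node (nat_lit 0x50403010002060807) (.node (nat_lit 0x50403000201080706) (.leaf (nat_lit 0x50403000201070608) (nat_lit 1283))
 (.leaf (nat_lit 0x50403000201080706) (nat_lit 771))
) (.node (nat_lit 0x50403010002070608) (.leaf (nat_lit 0x50403010002060807) (nat_lit 1283))
 (.node (nat_lit 0x50403010002080706) (.leaf (nat_lit 0x50403010002070608) (nat_lit 1539))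
 (.leaf (nat_lit 0x50403010002080706) (nat_lit 1027))
))) (.node (nat_lit 0x50403020100080706) (.node (nat_lit 0x50403020100070608) (.leaf (nat_lit 0x50403020100060807) (nat_lit 771))
 (.leaf (nat_lit 0x50403020100070608) (nat_lit 1027))
) (.node (nat_lit 0x50403060807000201) (.leaf (nat_lit 0x50403020100080706) (nat_lit 515))
 (.node (nat_lit 0x50403060807010002) (.leaf (nat_lit 0x50403060807000201) (nat_lit 1028))
 (.leaf (nat_lit 0x50403060807010002) (nat_lit 1284))
))))) (.node (nat_lit 0x60807010002030504) (.node (nat_lit 0x50403080706010002) (.node (nat_lit 0x50403070608010002) (.node (nat_lit 0x50403070608000201) (.leaf (nat_lit 0x50403060807020100) (nat_lit 772))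
 (.leaf (nat_lit 0x50403070608000201) (nat_lit 1284))
) (.node (nat_lit 0x50403070608020100) (.leaf (nat_lit 0x50403070608010002) (nat_lit 1540))
 (.node (nat_lit 0x50403080706000201) (.leaf (nat_lit 0x50403070608020100) (nat_lit 1028))
 (.leaf (nat_lit 0x50403080706000201) (nat_lit 772))
))) (.node (nat_lit 0x60807000201030504) (.node (nat_lit 0x50403080706020100) (.leaf (nat_lit 0x50403080706010002) (nat_lit 1028))
 (.leaf (nat_lit 0x50403080706020100) (nat_lit 516))
) (.node (nat_lit 0x60807000201040305) (.leaf (nat_lit 0x60807000201030504) (nat_lit 1028))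
 (.node (nat_lit 0x60807000201050403) (.leaf (nat_lit 0x60807000201040305) (nat_lit 1284))
 (.leaf (nat_lit 0x60807000201050403) (nat_lit 772))
)))) (.node (nat_lit 0x60807020100050403) (.node (nat_lit 0x60807010002050403) (.node (nat_lit 0x60807010002040305) (.leaf (nat_lit 0x60807010002030504) (nat_lit 1284))
 (.leaf (nat_lit 0x60807010002040305) (nat_lit 1540))
) (.node (nat_lit 0x60807020100030504) (.leaf (nat_lit 0x60807010002050403) (nat_lit 1028))
 (.node (nat_lit 0x60807020100040305) (.leaf (nat_lit 0x60807020100030504) (nat_lit 772))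
 (.leaf (nat_lit 0x60807020100040305) (nat_lit 1028))
))) (.node (nat_lit 0x60807030504010002) (.node (nat_lit 0x60807030504000201) (.leaf (nat_lit 0x60807020100050403) (nat_lit 516))
 (.leaf (nat_lit 0x60807030504000201) (nat_lit 770))
) (.node (nat_lit 0x60807030504020100) (.leaf (nat_lit 0x60807030504010002) (nat_lit 1026))
 (.node (nat_lit 0x60807040305000201) (.leaf (nat_lit 0x60807030504020100) (nat_lit 514))
 (.leaf (nat_lit 0x60807040305000201) (nat_lit 1026))
)))))) (.node (nat_lit 0x70608050403000201) (.node (nat_lit 0x70608010002050403) (.node (nat_lit 0x70608000201030504) (.node (nat_lit 0x60807050403000201) (.node (nat_lit 0x60807040305020100) (.leaf (nat_lit 0x60807040305010002) (nat_lit 1282))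
 (.leaf (nat_lit 0x60807040305020100) (nat_lit 770))
) (.node (nat_lit 0x60807050403010002) (.leaf (nat_lit 0x60807050403000201) (nat_lit 514))
 (.node (nat_lit 0x60807050403020100) (.leaf (nat_lit 0x60807050403010002) (nat_lit 770))
 (.leaf (nat_lit 0x60807050403020100) (nat_lit 258))
))) (.node (nat_lit 0x70608000201050403) (.node (nat_lit 0x70608000201040305) (.leaf (nat_lit 0x70608000201030504) (nat_lit 1284))
 (.leaf (nat_lit 0x70608000201040305) (nat_lit 1540))
) (.node (nat_lit 0x70608010002030504) (.leaf (nat_lit 0x70608000201050403) (nat_lit 1028))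
 (.node (nat_lit 0x70608010002040305) (.leaf (nat_lit 0x70608010002030504) (nat_lit 1540))
 (.leaf (nat_lit 0x70608010002040305) (nat_lit 1796))
)))) (.node (nat_lit 0x70608030504010002) (.node (nat_lit 0x70608020100040305) (.node (nat_lit 0x70608020100030504) (.leaf (nat_lit 0x70608010002050403) (nat_lit 1284))
 (.leaf (nat_lit 0x70608020100030504) (nat_lit 1028))
) (.node (nat_lit 0x70608020100050403) (.leaf (nat_lit 0x70608020100040305) (nat_lit 1284))
 (.node (nat_lit 0x70608030504000201) (.leaf (nat_lit 0x70608020100050403) (nat_lit 772))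
 (.leaf (nat_lit 0x70608030504000201) (nat_lit 1026))
))) (.node (nat_lit 0x70608040305000201) (.node (nat_lit 0x70608030504020100) (.leaf (nat_lit 0x70608030504010002) (nat_lit 1282))
 (.leaf (nat_lit 0x70608030504020100) (nat_lit 770))
) (.node (nat_lit 0x70608040305010002) (.leaf (nat_lit 0x70608040305000201) (nat_lit 1282))
 (.node (nat_lit 0x70608040305020100) (.leaf (nat_lit 0x70608040305010002) (nat_lit 1538))
 (.leaf (nat_lit 0x70608040305020100) (nat_lit 1026))
))))) (.node (nat_lit 0x80706020100040305) (.node (nat_lit 0x80706000201050403) (.node (nat_lit 0x70608050403020100) (.node (nat_lit 0x70608050403010002) (.leaf (nat_lit 0x70608050403000201) (nat_lit 770))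
 (.leaf (nat_lit 0x70608050403010002) (nat_lit 1026))
) (.node (nat_lit 0x80706000201030504) (.leaf (nat_lit 0x70608050403020100) (nat_lit 514))
 (.node (nat_lit 0x80706000201040305) (.leaf (nat_lit 0x80706000201030504) (nat_lit 772))
 (.leaf (nat_lit 0x80706000201040305) (nat_lit 1028))
))) (.node (nat_lit 0x80706010002040305) (.node (nat_lit 0x80706010002030504) (.leaf (nat_lit 0x80706000201050403) (nat_lit 516))
 (.leaf (nat_lit 0x80706010002030504) (nat_lit 1028))
) (.node (nat_lit 0x80706010002050403) (.leaf (nat_lit 0x80706010002040305) (nat_lit 1284))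
 (.node (nat_lit 0x80706020100030504) (.leaf (nat_lit 0x80706010002050403) (nat_lit 772))
 (.leaf (nat_lit 0x80706020100030504) (nat_lit 516))
)))) (.node (nat_lit 0x80706040305000201) (.node (nat_lit 0x80706030504000201) (.node (nat_lit 0x80706020100050403) (.leaf (nat_lit 0x80706020100040305) (nat_lit 772))
 (.leaf (nat_lit 0x80706020100050403) (nat_lit 260))
) (.node (nat_lit 0x80706030504010002) (.leaf (nat_lit 0x80706030504000201) (nat_lit 513))
 (.node (nat_lit 0x80706030504020100) (.leaf (nat_lit 0x80706030504010002) (nat_lit 769))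
 (.leaf (nat_lit 0x80706030504020100) (nat_lit 257))
))) (.node (nat_lit 0x80706050403000201) (.node (nat_lit 0x80706040305010002) (.leaf (nat_lit 0x80706040305000201) (nat_lit 769))
 (.node (nat_lit 0x80706040305020100) (.leaf (nat_lit 0x80706040305010002) (nat_lit 1025))
 (.leaf (nat_lit 0x80706040305020100) (nat_lit 513))
)) (.node (nat_lit 0x80706050403010002) (.leaf (nat_lit 0x80706050403000201) (nat_lit 256))
 (.node (nat_lit 0x80706050403020100) (.leaf (nat_lit 0x80706050403010002) (nat_lit 512))
 (.leaf (nat_lit 0x80706050403020100) (nat_lit 0))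
))))))))

theorem H_ok : genOK A9 [(nat_lit 0x80706050403000201), (nat_lit 0x80706030504020100), (nat_lit 0x60807050403020100), (nat_lit 0x20100080706050403), (nat_lit 0x80706020100050403)] H_t (nat_lit 162) = true := by decide +kernel

noncomputable def MW_t : ST :=
(.node (nat_lit 0x40503000102060708) (.node (nat_lit 0x20001060708030405) (.node (nat_lit 0x10002040305070608) (.node (nat_lit 0x201030504080706) (.node (nat_lit 0x102060708040503) (.node (nat_lit 0x102040503080607) (.node (nat_lit 0x102030405080607) (.node (nat_lit 0x102030405070806) (.leaf (nat_lit 0x102030405060708) (nat_lit 1541))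
 (.leaf (nat_lit 0x102030405070806) (nat_lit 1285))
) (.node (nat_lit 0x102040503060708) (.leaf (nat_lit 0x102030405080607) (nat_lit 1538))
 (.node (nat_lit 0x102040503070806) (.leaf (nat_lit 0x102040503060708) (nat_lit 1285))
 (.leaf (nat_lit 0x102040503070806) (nat_lit 1029))
))) (.node (nat_lit 0x102050304070806) (.node (nat_lit 0x102050304060708) (.leaf (nat_lit 0x102040503080607) (nat_lit 1282))
 (.leaf (nat_lit 0x102050304060708) (nat_lit 1537))
) (.node (nat_lit 0x102050304080607) (.leaf (nat_lit 0x102050304070806) (nat_lit 1281))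
 (.node (nat_lit 0x102060708030405) (.leaf (nat_lit 0x102050304080607) (nat_lit 1538))
 (.leaf (nat_lit 0x102060708030405) (nat_lit 1285))
)))) (.node (nat_lit 0x102080607030405) (.node (nat_lit 0x102070806030405) (.node (nat_lit 0x102060708050304) (.leaf (nat_lit 0x102060708040503) (nat_lit 1029))
 (.leaf (nat_lit 0x102060708050304) (nat_lit 1281))
) (.node (nat_lit 0x102070806040503) (.leaf (nat_lit 0x102070806030405) (nat_lit 1029))
 (.node (nat_lit 0x102070806050304) (.leaf (nat_lit 0x102070806040503) (nat_lit 773))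
 (.leaf (nat_lit 0x102070806050304) (nat_lit 1025))
))) (.node (nat_lit 0x102080607050304) (.node (nat_lit 0x102080607040503) (.leaf (nat_lit 0x102080607030405) (nat_lit 1282))
 (.leaf (nat_lit 0x102080607040503) (nat_lit 1026))
) (.node (nat_lit 0x201030504060807) (.leaf (nat_lit 0x102080607050304) (nat_lit 1282))
 (.node (nat_lit 0x201030504070608) (.leaf (nat_lit 0x201030504060807) (nat_lit 1283))
 (.leaf (nat_lit 0x201030504070608) (nat_lit 1539))
))))) (.node (nat_lit 0x201070608030504) (.node (nat_lit 0x201050403070608) (.node (nat_lit 0x201040305070608) (.node (nat_lit 0x201040305060807) (.leaf (nat_lit 0x201030504080706) (nat_lit 1027))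
 (.leaf (nat_lit 0x201040305060807) (nat_lit 1539))
) (.node (nat_lit 0x201040305080706) (.leaf (nat_lit 0x201040305070608) (nat_lit 1795))
 (.node (nat_lit 0x201050403060807) (.leaf (nat_lit 0x201040305080706) (nat_lit 1283))
 (.leaf (nat_lit 0x201050403060807) (nat_lit 1027))
))) (.node (nat_lit 0x201060807030504) (.node (nat_lit 0x201050403080706) (.leaf (nat_lit 0x201050403070608) (nat_lit 1283))
 (.leaf (nat_lit 0x201050403080706) (nat_lit 771))
) (.node (nat_lit 0x201060807040305) (.leaf (nat_lit 0x201060807030504) (nat_lit 1027))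
 (.node (nat_lit 0x201060807050403) (.leaf (nat_lit 0x201060807040305) (nat_lit 1283))
 (.leaf (nat_lit 0x201060807050403) (nat_lit 771))
)))) (.node (nat_lit 0x201080706050403) (.node (nat_lit 0x201070608050403) (.node (nat_lit 0x201070608040305) (.leaf (nat_lit 0x201070608030504) (nat_lit 1283))
 (.leaf (nat_lit 0x201070608040305) (nat_lit 1539))
) (.node (nat_lit 0x201080706030504) (.leaf (nat_lit 0x201070608050403) (nat_lit 1027))
 (.node (nat_lit 0x201080706040305) (.leaf (nat_lit 0x201080706030504) (nat_lit 771))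
 (.leaf (nat_lit 0x201080706040305) (nat_lit 1027))
))) (.node (nat_lit 0x10002030504070608) (.node (nat_lit 0x10002030504060807) (.leaf (nat_lit 0x201080706050403) (nat_lit 515))
 (.leaf (nat_lit 0x10002030504060807) (nat_lit 1539))
) (.node (nat_lit 0x10002030504080706) (.leaf (nat_lit 0x10002030504070608) (nat_lit 1795))
 (.node (nat_lit 0x10002040305060807) (.leaf (nat_lit 0x10002030504080706) (nat_lit 1283))
 (.leaf (nat_lit 0x10002040305060807) (nat_lit 1795))
)))))) (.node (nat_lit 0x10200050304060708) (.node (nat_lit 0x10002070608050403) (.node (nat_lit 0x10002060807030504) (.node (nat_lit 0x10002050403060807) (.node (nat_lit 0x10002040305080706) (.leaf (nat_lit 0x10002040305070608) (nat_lit 1797))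
 (.leaf (nat_lit 0x10002040305080706) (nat_lit 1539))
) (.node (nat_lit 0x10002050403070608) (.leaf (nat_lit 0x10002050403060807) (nat_lit 1283))
 (.node (nat_lit 0x10002050403080706) (.leaf (nat_lit 0x10002050403070608) (nat_lit 1539))
 (.leaf (nat_lit 0x10002050403080706) (nat_lit 1027))
))) (.node (nat_lit 0x10002060807050403) (.node (nat_lit 0x10002060807040305) (.leaf (nat_lit 0x10002060807030504) (nat_lit 1283))
 (.leaf (nat_lit 0x10002060807040305) (nat_lit 1539))
) (.node (nat_lit 0x10002070608030504) (.leaf (nat_lit 0x10002060807050403) (nat_lit 1027))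
 (.node (nat_lit 0x10002070608040305) (.leaf (nat_lit 0x10002070608030504) (nat_lit 1539))
 (.leaf (nat_lit 0x10002070608040305) (nat_lit 1541))
)))) (.node (nat_lit 0x10200030405070806) (.node (nat_lit 0x10002080706040305) (.node (nat_lit 0x10002080706030504) (.leaf (nat_lit 0x10002070608050403) (nat_lit 1283))
 (.leaf (nat_lit 0x10002080706030504) (nat_lit 1027))
) (.node (nat_lit 0x10002080706050403) (.leaf (nat_lit 0x10002080706040305) (nat_lit 1283))
 (.node (nat_lit 0x10200030405060708) (.leaf (nat_lit 0x10002080706050403) (nat_lit 771))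
 (.leaf (nat_lit 0x10200030405060708) (nat_lit 1285))
))) (.node (nat_lit 0x10200040503060708) (.node (nat_lit 0x10200030405080607) (.leaf (nat_lit 0x10200030405070806) (nat_lit 1029))
 (.leaf (nat_lit 0x10200030405080607) (nat_lit 1282))
) (.node (nat_lit 0x10200040503070806) (.leaf (nat_lit 0x10200040503060708) (nat_lit 1029))
 (.node (nat_lit 0x10200040503080607) (.leaf (nat_lit 0x10200040503070806) (nat_lit 773))
 (.leaf (nat_lit 0x10200040503080607) (nat_lit 1026))
))))) (.node (nat_lit 0x10200080607040503) (.node (nat_lit 0x10200060708050304) (.node (nat_lit 0x10200050304080607) (.node (nat_lit 0x10200050304070806) (.leaf (nat_lit 0x10200050304060708) (nat_lit 1281))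
 (.leaf (nat_lit 0x10200050304070806) (nat_lit 1025))
) (.node (nat_lit 0x10200060708030405) (.leaf (nat_lit 0x10200050304080607) (nat_lit 1282))
 (.node (nat_lit 0x10200060708040503) (.leaf (nat_lit 0x10200060708030405) (nat_lit 1029))
 (.leaf (nat_lit 0x10200060708040503) (nat_lit 773))
))) (.node (nat_lit 0x10200070806040503) (.node (nat_lit 0x10200070806030405) (.leaf (nat_lit 0x10200060708050304) (nat_lit 1025))
 (.leaf (nat_lit 0x10200070806030405) (nat_lit 773))
) (.node (nat_lit 0x10200070806050304) (.leaf (nat_lit 0x10200070806040503) (nat_lit 517))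
 (.node (nat_lit 0x10200080607030405) (.leaf (nat_lit 0x10200070806050304) (nat_lit 769))
 (.leaf (nat_lit 0x10200080607030405) (nat_lit 1026))
)))) (.node (nat_lit 0x20001040503060708) (.node (nat_lit 0x20001030405060708) (.node (nat_lit 0x10200080607050304) (.leaf (nat_lit 0x10200080607040503) (nat_lit 770))
 (.leaf (nat_lit 0x10200080607050304) (nat_lit 1026))
) (.node (nat_lit 0x20001030405070806) (.leaf (nat_lit 0x20001030405060708) (nat_lit 1536))
 (.node (nat_lit 0x20001030405080607) (.leaf (nat_lit 0x20001030405070806) (nat_lit 1280))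
 (.leaf (nat_lit 0x20001030405080607) (nat_lit 1538))
))) (.node (nat_lit 0x20001050304060708) (.node (nat_lit 0x20001040503070806) (.leaf (nat_lit 0x20001040503060708) (nat_lit 1280))
 (.node (nat_lit 0x20001040503080607) (.leaf (nat_lit 0x20001040503070806) (nat_lit 1024))
 (.leaf (nat_lit 0x20001040503080607) (nat_lit 1282))
)) (.node (nat_lit 0x20001050304070806) (.leaf (nat_lit 0x20001050304060708) (nat_lit 1537))
 (.node (nat_lit 0x20001050304080607) (.leaf (nat_lit 0x20001050304070806) (nat_lit 1281))
 (.leaf (nat_lit 0x20001050304080607) (nat_lit 1538))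
))))))) (.node (nat_lit 0x30405070806010200) (.node (nat_lit 0x20100060807050403) (.node (nat_lit 0x20100030504070608) (.node (nat_lit 0x20001070806050304) (.node (nat_lit 0x20001060708050304) (.node (nat_lit 0x20001060708040503) (.leaf (nat_lit 0x20001060708030405) (nat_lit 1280))
 (.leaf (nat_lit 0x20001060708040503) (nat_lit 1024))
) (.node (nat_lit 0x20001070806030405) (.leaf (nat_lit 0x20001060708050304) (nat_lit 1281))
 (.node (nat_lit 0x20001070806040503) (.leaf (nat_lit 0x20001070806030405) (nat_lit 1024))
 (.leaf (nat_lit 0x20001070806040503) (nat_lit 768))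
))) (.node (nat_lit 0x20001080607040503) (.node (nat_lit 0x20001080607030405) (.leaf (nat_lit 0x20001070806050304) (nat_lit 1025))
 (.leaf (nat_lit 0x20001080607030405) (nat_lit 1282))
) (.node (nat_lit 0x20001080607050304) (.leaf (nat_lit 0x20001080607040503) (nat_lit 1026))
 (.node (nat_lit 0x20100030504060807) (.leaf (nat_lit 0x20001080607050304) (nat_lit 1282))
 (.leaf (nat_lit 0x20100030504060807) (nat_lit 1027))
)))) (.node (nat_lit 0x20100050403060807) (.node (nat_lit 0x20100040305060807) (.node (nat_lit 0x20100030504080706) (.leaf (nat_lit 0x20100030504070608) (nat_lit 1283))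
 (.leaf (nat_lit 0x20100030504080706) (nat_lit 771))
) (.node (nat_lit 0x20100040305070608) (.leaf (nat_lit 0x20100040305060807) (nat_lit 1283))
 (.node (nat_lit 0x20100040305080706) (.leaf (nat_lit 0x20100040305070608) (nat_lit 1539))
 (.leaf (nat_lit 0x20100040305080706) (nat_lit 1027))
))) (.node (nat_lit 0x20100050403080706) (.node (nat_lit 0x20100050403070608) (.leaf (nat_lit 0x20100050403060807) (nat_lit 771))
 (.leaf (nat_lit 0x20100050403070608) (nat_lit 1027))
) (.node (nat_lit 0x20100060807030504) (.leaf (nat_lit 0x20100050403080706) (nat_lit 515))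
 (.node (nat_lit 0x20100060807040305) (.leaf (nat_lit 0x20100060807030504) (nat_lit 771))
 (.leaf (nat_lit 0x20100060807040305) (nat_lit 1027))
))))) (.node (nat_lit 0x30405010200060708) (.node (nat_lit 0x20100080706040305) (.node (nat_lit 0x20100070608040305) (.node (nat_lit 0x20100070608030504) (.leaf (nat_lit 0x20100060807050403) (nat_lit 515))
 (.leaf (nat_lit 0x20100070608030504) (nat_lit 1027))
) (.node (nat_lit 0x20100070608050403) (.leaf (nat_lit 0x20100070608040305) (nat_lit 1283))
 (.node (nat_lit 0x20100080706030504) (.leaf (nat_lit 0x20100070608050403) (nat_lit 771))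
 (.leaf (nat_lit 0x20100080706030504) (nat_lit 515))
))) (.node (nat_lit 0x30405000102060708) (.node (nat_lit 0x20100080706050403) (.leaf (nat_lit 0x20100080706040305) (nat_lit 771))
 (.leaf (nat_lit 0x20100080706050403) (nat_lit 259))
) (.node (nat_lit 0x30405000102070806) (.leaf (nat_lit 0x30405000102060708) (nat_lit 1541))
 (.node (nat_lit 0x30405000102080607) (.leaf (nat_lit 0x30405000102070806) (nat_lit 1285))
 (.leaf (nat_lit 0x30405000102080607) (nat_lit 1538))
)))) (.node (nat_lit 0x30405020001080607) (.node (nat_lit 0x30405010200080607) (.node (nat_lit 0x30405010200070806) (.leaf (nat_lit 0x30405010200060708) (nat_lit 1285))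
 (.leaf (nat_lit 0x30405010200070806) (nat_lit 1029))
) (.node (nat_lit 0x30405020001060708) (.leaf (nat_lit 0x30405010200080607) (nat_lit 1282))
 (.node (nat_lit 0x30405020001070806) (.leaf (nat_lit 0x30405020001060708) (nat_lit 1536))
 (.leaf (nat_lit 0x30405020001070806) (nat_lit 1280))
))) (.node (nat_lit 0x30405060708010200) (.node (nat_lit 0x30405060708000102) (.leaf (nat_lit 0x30405020001080607) (nat_lit 1538))
 (.leaf (nat_lit 0x30405060708000102) (nat_lit 1541))
) (.node (nat_lit 0x30405060708020001) (.leaf (nat_lit 0x30405060708010200) (nat_lit 1285))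
 (.node (nat_lit 0x30405070806000102) (.leaf (nat_lit 0x30405060708020001) (nat_lit 1536))
 (.leaf (nat_lit 0x30405070806000102) (nat_lit 1285))
)))))) (.node (nat_lit 0x30504080706000201) (.node (nat_lit 0x30504010002080706) (.node (nat_lit 0x30504000201060807) (.node (nat_lit 0x30405080607000102) (.node (nat_lit 0x30405070806020001) (.leaf (nat_lit 0x30405070806010200) (nat_lit 1029))
 (.leaf (nat_lit 0x30405070806020001) (nat_lit 1280))
) (.node (nat_lit 0x30405080607010200) (.leaf (nat_lit 0x30405080607000102) (nat_lit 1538))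
 (.node (nat_lit 0x30405080607020001) (.leaf (nat_lit 0x30405080607010200) (nat_lit 1282))
 (.leaf (nat_lit 0x30405080607020001) (nat_lit 1538))
))) (.node (nat_lit 0x30504000201080706) (.node (nat_lit 0x30504000201070608) (.leaf (nat_lit 0x30504000201060807) (nat_lit 1283))
 (.leaf (nat_lit 0x30504000201070608) (nat_lit 1539))
) (.node (nat_lit 0x30504010002060807) (.leaf (nat_lit 0x30504000201080706) (nat_lit 1027))
 (.node (nat_lit 0x30504010002070608) (.leaf (nat_lit 0x30504010002060807) (nat_lit 1539))
 (.leaf (nat_lit 0x30504010002070608) (nat_lit 1795))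
)))) (.node (nat_lit 0x30504060807010002) (.node (nat_lit 0x30504020100070608) (.node (nat_lit 0x30504020100060807) (.leaf (nat_lit 0x30504010002080706) (nat_lit 1283))
 (.leaf (nat_lit 0x30504020100060807) (nat_lit 1027))
) (.node (nat_lit 0x30504020100080706) (.leaf (nat_lit 0x30504020100070608) (nat_lit 1283))
 (.node (nat_lit 0x30504060807000201) (.leaf (nat_lit 0x30504020100080706) (nat_lit 771))
 (.leaf (nat_lit 0x30504060807000201) (nat_lit 1284))
))) (.node (nat_lit 0x30504070608000201) (.node (nat_lit 0x30504060807020100) (.leaf (nat_lit 0x30504060807010002) (nat_lit 1540))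
 (.leaf (nat_lit 0x30504060807020100) (nat_lit 1028))
) (.node (nat_lit 0x30504070608010002) (.leaf (nat_lit 0x30504070608000201) (nat_lit 1540))
 (.node (nat_lit 0x30504070608020100) (.leaf (nat_lit 0x30504070608010002) (nat_lit 1796))
 (.leaf (nat_lit 0x30504070608020100) (nat_lit 1284))
))))) (.node (nat_lit 0x40305020100070608) (.node (nat_lit 0x40305000201080706) (.node (nat_lit 0x30504080706020100) (.node (nat_lit 0x30504080706010002) (.leaf (nat_lit 0x30504080706000201) (nat_lit 1028))
 (.leaf (nat_lit 0x30504080706010002) (nat_lit 1284))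
) (.node (nat_lit 0x40305000201060807) (.leaf (nat_lit 0x30504080706020100) (nat_lit 772))
 (.node (nat_lit 0x40305000201070608) (.leaf (nat_lit 0x40305000201060807) (nat_lit 1539))
 (.leaf (nat_lit 0x40305000201070608) (nat_lit 1795))
))) (.node (nat_lit 0x40305010002070608) (.node (nat_lit 0x40305010002060807) (.leaf (nat_lit 0x40305000201080706) (nat_lit 1283))
 (.leaf (nat_lit 0x40305010002060807) (nat_lit 1795))
) (.node (nat_lit 0x40305010002080706) (.leaf (nat_lit 0x40305010002070608) (nat_lit 1797))
 (.node (nat_lit 0x40305020100060807) (.leaf (nat_lit 0x40305010002080706) (nat_lit 1539))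
 (.leaf (nat_lit 0x40305020100060807) (nat_lit 1283))
)))) (.node (nat_lit 0x40305070608000201) (.node (nat_lit 0x40305060807000201) (.node (nat_lit 0x40305020100080706) (.leaf (nat_lit 0x40305020100070608) (nat_lit 1539))
 (.leaf (nat_lit 0x40305020100080706) (nat_lit 1027))
) (.node (nat_lit 0x40305060807010002) (.leaf (nat_lit 0x40305060807000201) (nat_lit 1540))
 (.node (nat_lit 0x40305060807020100) (.leaf (nat_lit 0x40305060807010002) (nat_lit 1796))
 (.leaf (nat_lit 0x40305060807020100) (nat_lit 1284))
))) (.node (nat_lit 0x40305080706000201) (.node (nat_lit 0x40305070608010002) (.leaf (nat_lit 0x40305070608000201) (nat_lit 1796))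
 (.node (nat_lit 0x40305070608020100) (.leaf (nat_lit 0x40305070608010002) (nat_lit 1797))
 (.leaf (nat_lit 0x40305070608020100) (nat_lit 1540))
)) (.node (nat_lit 0x40305080706010002) (.leaf (nat_lit 0x40305080706000201) (nat_lit 1284))
 (.node (nat_lit 0x40305080706020100) (.leaf (nat_lit 0x40305080706010002) (nat_lit 1540))
 (.leaf (nat_lit 0x40305080706020100) (nat_lit 1028))
)))))))) (.node (nat_lit 0x60807030504000201) (.node (nat_lit 0x50403010002070608) (.node (nat_lit 0x50304000102080607) (.node (nat_lit 0x40503060708010200) (.node (nat_lit 0x40503010200080607) (.node (nat_lit 0x40503000102080607) (.node (nat_lit 0x40503000102070806) (.leaf (nat_lit 0x40503000102060708) (nat_lit 1285))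
 (.leaf (nat_lit 0x40503000102070806) (nat_lit 1029))
) (.node (nat_lit 0x40503010200060708) (.leaf (nat_lit 0x40503000102080607) (nat_lit 1282))
 (.node (nat_lit 0x40503010200070806) (.leaf (nat_lit 0x40503010200060708) (nat_lit 1029))
 (.leaf (nat_lit 0x40503010200070806) (nat_lit 773))
))) (.node (nat_lit 0x40503020001070806) (.node (nat_lit 0x40503020001060708) (.leaf (nat_lit 0x40503010200080607) (nat_lit 1026))
 (.leaf (nat_lit 0x40503020001060708) (nat_lit 1280))
) (.node (nat_lit 0x40503020001080607) (.leaf (nat_lit 0x40503020001070806) (nat_lit 1024))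
 (.node (nat_lit 0x40503060708000102) (.leaf (nat_lit 0x40503020001080607) (nat_lit 1282))
 (.leaf (nat_lit 0x40503060708000102) (nat_lit 1285))
)))) (.node (nat_lit 0x40503080607000102) (.node (nat_lit 0x40503070806000102) (.node (nat_lit 0x40503060708020001) (.leaf (nat_lit 0x40503060708010200) (nat_lit 1029))
 (.leaf (nat_lit 0x40503060708020001) (nat_lit 1280))
) (.node (nat_lit 0x40503070806010200) (.leaf (nat_lit 0x40503070806000102) (nat_lit 1029))
 (.node (nat_lit 0x40503070806020001) (.leaf (nat_lit 0x40503070806010200) (nat_lit 773))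
 (.leaf (nat_lit 0x40503070806020001) (nat_lit 1024))
))) (.node (nat_lit 0x40503080607020001) (.node (nat_lit 0x40503080607010200) (.leaf (nat_lit 0x40503080607000102) (nat_lit 1282))
 (.leaf (nat_lit 0x40503080607010200) (nat_lit 1026))
) (.node (nat_lit 0x50304000102060708) (.leaf (nat_lit 0x40503080607020001) (nat_lit 1282))
 (.node (nat_lit 0x50304000102070806) (.leaf (nat_lit 0x50304000102060708) (nat_lit 1537))
 (.leaf (nat_lit 0x50304000102070806) (nat_lit 1281))
))))) (.node (nat_lit 0x50304070806000102) (.node (nat_lit 0x50304020001070806) (.node (nat_lit 0x50304010200070806) (.node (nat_lit 0x50304010200060708) (.leaf (nat_lit 0x50304000102080607) (nat_lit 1538))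
 (.leaf (nat_lit 0x50304010200060708) (nat_lit 1281))
) (.node (nat_lit 0x50304010200080607) (.leaf (nat_lit 0x50304010200070806) (nat_lit 1025))
 (.node (nat_lit 0x50304020001060708) (.leaf (nat_lit 0x50304010200080607) (nat_lit 1282))
 (.leaf (nat_lit 0x50304020001060708) (nat_lit 1537))
))) (.node (nat_lit 0x50304060708000102) (.node (nat_lit 0x50304020001080607) (.leaf (nat_lit 0x50304020001070806) (nat_lit 1281))
 (.leaf (nat_lit 0x50304020001080607) (nat_lit 1538))
) (.node (nat_lit 0x50304060708010200) (.leaf (nat_lit 0x50304060708000102) (nat_lit 1537))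
 (.node (nat_lit 0x50304060708020001) (.leaf (nat_lit 0x50304060708010200) (nat_lit 1281))
 (.leaf (nat_lit 0x50304060708020001) (nat_lit 1537))
)))) (.node (nat_lit 0x50304080607020001) (.node (nat_lit 0x50304070806020001) (.node (nat_lit 0x50304070806010200) (.leaf (nat_lit 0x50304070806000102) (nat_lit 1281))
 (.leaf (nat_lit 0x50304070806010200) (nat_lit 1025))
) (.node (nat_lit 0x50304080607000102) (.leaf (nat_lit 0x50304070806020001) (nat_lit 1281))
 (.node (nat_lit 0x50304080607010200) (.leaf (nat_lit 0x50304080607000102) (nat_lit 1538))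
 (.leaf (nat_lit 0x50304080607010200) (nat_lit 1282))
))) (.node (nat_lit 0x50403000201070608) (.node (nat_lit 0x50403000201060807) (.leaf (nat_lit 0x50304080607020001) (nat_lit 1538))
 (.leaf (nat_lit 0x50403000201060807) (nat_lit 1027))
) (.node (nat_lit 0x50403000201080706) (.leaf (nat_lit 0x50403000201070608) (nat_lit 1283))
 (.node (nat_lit 0x50403010002060807) (.leaf (nat_lit 0x50403000201080706) (nat_lit 771))
 (.leaf (nat_lit 0x50403010002060807) (nat_lit 1283))
)))))) (.node (nat_lit 0x60708020001030405) (.node (nat_lit 0x50403070608020100) (.node (nat_lit 0x50403060807000201) (.node (nat_lit 0x50403020100060807) (.node (nat_lit 0x50403010002080706) (.leaf (nat_lit 0x50403010002070608) (nat_lit 1539))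
 (.leaf (nat_lit 0x50403010002080706) (nat_lit 1027))
) (.node (nat_lit 0x50403020100070608) (.leaf (nat_lit 0x50403020100060807) (nat_lit 771))
 (.node (nat_lit 0x50403020100080706) (.leaf (nat_lit 0x50403020100070608) (nat_lit 1027))
 (.leaf (nat_lit 0x50403020100080706) (nat_lit 515))
))) (.node (nat_lit 0x50403060807020100) (.node (nat_lit 0x50403060807010002) (.leaf (nat_lit 0x50403060807000201) (nat_lit 1028))
 (.leaf (nat_lit 0x50403060807010002) (nat_lit 1284))
) (.node (nat_lit 0x50403070608000201) (.leaf (nat_lit 0x50403060807020100) (nat_lit 772))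
 (.node (nat_lit 0x50403070608010002) (.leaf (nat_lit 0x50403070608000201) (nat_lit 1284))
 (.leaf (nat_lit 0x50403070608010002) (nat_lit 1540))
)))) (.node (nat_lit 0x60708000102040503) (.node (nat_lit 0x50403080706010002) (.node (nat_lit 0x50403080706000201) (.leaf (nat_lit 0x50403070608020100) (nat_lit 1028))
 (.leaf (nat_lit 0x50403080706000201) (nat_lit 772))
) (.node (nat_lit 0x50403080706020100) (.leaf (nat_lit 0x50403080706010002) (nat_lit 1028))
 (.node (nat_lit 0x60708000102030405) (.leaf (nat_lit 0x50403080706020100) (nat_lit 516))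
 (.leaf (nat_lit 0x60708000102030405) (nat_lit 1285))
))) (.node (nat_lit 0x60708010200030405) (.node (nat_lit 0x60708000102050304) (.leaf (nat_lit 0x60708000102040503) (nat_lit 1029))
 (.leaf (nat_lit 0x60708000102050304) (nat_lit 1281))
) (.node (nat_lit 0x60708010200040503) (.leaf (nat_lit 0x60708010200030405) (nat_lit 1029))
 (.node (nat_lit 0x60708010200050304) (.leaf (nat_lit 0x60708010200040503) (nat_lit 773))
 (.leaf (nat_lit 0x60708010200050304) (nat_lit 1025))
))))) (.node (nat_lit 0x60708050304010200) (.node (nat_lit 0x60708030405020001) (.node (nat_lit 0x60708020001050304) (.node (nat_lit 0x60708020001040503) (.leaf (nat_lit 0x60708020001030405) (nat_lit 1280))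
 (.leaf (nat_lit 0x60708020001040503) (nat_lit 1024))
) (.node (nat_lit 0x60708030405000102) (.leaf (nat_lit 0x60708020001050304) (nat_lit 1281))
 (.node (nat_lit 0x60708030405010200) (.leaf (nat_lit 0x60708030405000102) (nat_lit 1029))
 (.leaf (nat_lit 0x60708030405010200) (nat_lit 773))
))) (.node (nat_lit 0x60708040503010200) (.node (nat_lit 0x60708040503000102) (.leaf (nat_lit 0x60708030405020001) (nat_lit 1024))
 (.leaf (nat_lit 0x60708040503000102) (nat_lit 773))
) (.node (nat_lit 0x60708040503020001) (.leaf (nat_lit 0x60708040503010200) (nat_lit 517))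
 (.node (nat_lit 0x60708050304000102) (.leaf (nat_lit 0x60708040503020001) (nat_lit 768))
 (.leaf (nat_lit 0x60708050304000102) (nat_lit 1025))
)))) (.node (nat_lit 0x60807010002030504) (.node (nat_lit 0x60807000201030504) (.node (nat_lit 0x60708050304020001) (.leaf (nat_lit 0x60708050304010200) (nat_lit 769))
 (.leaf (nat_lit 0x60708050304020001) (nat_lit 1025))
) (.node (nat_lit 0x60807000201040305) (.leaf (nat_lit 0x60807000201030504) (nat_lit 1028))
 (.node (nat_lit 0x60807000201050403) (.leaf (nat_lit 0x60807000201040305) (nat_lit 1284))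
 (.leaf (nat_lit 0x60807000201050403) (nat_lit 772))
))) (.node (nat_lit 0x60807020100030504) (.node (nat_lit 0x60807010002040305) (.leaf (nat_lit 0x60807010002030504) (nat_lit 1284))
 (.node (nat_lit 0x60807010002050403) (.leaf (nat_lit 0x60807010002040305) (nat_lit 1540))
 (.leaf (nat_lit 0x60807010002050403) (nat_lit 1028))
)) (.node (nat_lit 0x60807020100040305) (.leaf (nat_lit 0x60807020100030504) (nat_lit 772))
 (.node (nat_lit 0x60807020100050403) (.leaf (nat_lit 0x60807020100040305) (nat_lit 1028))
 (.leaf (nat_lit 0x60807020100050403) (nat_lit 516))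
))))))) (.node (nat_lit 0x70806040503010200) (.node (nat_lit 0x70608030504020100) (.node (nat_lit 0x70608000201040305) (.node (nat_lit 0x60807040305020100) (.node (nat_lit 0x60807030504020100) (.node (nat_lit 0x60807030504010002) (.leaf (nat_lit 0x60807030504000201) (nat_lit 770))
 (.leaf (nat_lit 0x60807030504010002) (nat_lit 1026))
) (.node (nat_lit 0x60807040305000201) (.leaf (nat_lit 0x60807030504020100) (nat_lit 514))
 (.node (nat_lit 0x60807040305010002) (.leaf (nat_lit 0x60807040305000201) (nat_lit 1026))
 (.leaf (nat_lit 0x60807040305010002) (nat_lit 1282))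
))) (.node (nat_lit 0x60807050403010002) (.node (nat_lit 0x60807050403000201) (.leaf (nat_lit 0x60807040305020100) (nat_lit 770))
 (.leaf (nat_lit 0x60807050403000201) (nat_lit 514))
) (.node (nat_lit 0x60807050403020100) (.leaf (nat_lit 0x60807050403010002) (nat_lit 770))
 (.node (nat_lit 0x70608000201030504) (.leaf (nat_lit 0x60807050403020100) (nat_lit 258))
 (.leaf (nat_lit 0x70608000201030504) (nat_lit 1284))
)))) (.node (nat_lit 0x70608020100030504) (.node (nat_lit 0x70608010002030504) (.node (nat_lit 0x70608000201050403) (.leaf (nat_lit 0x70608000201040305) (nat_lit 1540))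
 (.leaf (nat_lit 0x70608000201050403) (nat_lit 1028))
) (.node (nat_lit 0x70608010002040305) (.leaf (nat_lit 0x70608010002030504) (nat_lit 1540))
 (.node (nat_lit 0x70608010002050403) (.leaf (nat_lit 0x70608010002040305) (nat_lit 1541))
 (.leaf (nat_lit 0x70608010002050403) (nat_lit 1284))
))) (.node (nat_lit 0x70608020100050403) (.node (nat_lit 0x70608020100040305) (.leaf (nat_lit 0x70608020100030504) (nat_lit 1028))
 (.leaf (nat_lit 0x70608020100040305) (nat_lit 1284))
) (.node (nat_lit 0x70608030504000201) (.leaf (nat_lit 0x70608020100050403) (nat_lit 772))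
 (.node (nat_lit 0x70608030504010002) (.leaf (nat_lit 0x70608030504000201) (nat_lit 1026))
 (.leaf (nat_lit 0x70608030504010002) (nat_lit 1282))
))))) (.node (nat_lit 0x70806010200030405) (.node (nat_lit 0x70608050403010002) (.node (nat_lit 0x70608040305010002) (.node (nat_lit 0x70608040305000201) (.leaf (nat_lit 0x70608030504020100) (nat_lit 770))
 (.leaf (nat_lit 0x70608040305000201) (nat_lit 1282))
) (.node (nat_lit 0x70608040305020100) (.leaf (nat_lit 0x70608040305010002) (nat_lit 1285))
 (.node (nat_lit 0x70608050403000201) (.leaf (nat_lit 0x70608040305020100) (nat_lit 1026))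
 (.leaf (nat_lit 0x70608050403000201) (nat_lit 770))
))) (.node (nat_lit 0x70806000102030405) (.node (nat_lit 0x70608050403020100) (.leaf (nat_lit 0x70608050403010002) (nat_lit 1026))
 (.leaf (nat_lit 0x70608050403020100) (nat_lit 514))
) (.node (nat_lit 0x70806000102040503) (.leaf (nat_lit 0x70806000102030405) (nat_lit 1029))
 (.node (nat_lit 0x70806000102050304) (.leaf (nat_lit 0x70806000102040503) (nat_lit 773))
 (.leaf (nat_lit 0x70806000102050304) (nat_lit 1025))
)))) (.node (nat_lit 0x70806020001050304) (.node (nat_lit 0x70806010200050304) (.node (nat_lit 0x70806010200040503) (.leaf (nat_lit 0x70806010200030405) (nat_lit 773))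
 (.leaf (nat_lit 0x70806010200040503) (nat_lit 517))
) (.node (nat_lit 0x70806020001030405) (.leaf (nat_lit 0x70806010200050304) (nat_lit 769))
 (.node (nat_lit 0x70806020001040503) (.leaf (nat_lit 0x70806020001030405) (nat_lit 1024))
 (.leaf (nat_lit 0x70806020001040503) (nat_lit 768))
))) (.node (nat_lit 0x70806030405010200) (.node (nat_lit 0x70806030405000102) (.leaf (nat_lit 0x70806020001050304) (nat_lit 1025))
 (.leaf (nat_lit 0x70806030405000102) (nat_lit 773))
) (.node (nat_lit 0x70806030405020001) (.leaf (nat_lit 0x70806030405010200) (nat_lit 517))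
 (.node (nat_lit 0x70806040503000102) (.leaf (nat_lit 0x70806030405020001) (nat_lit 768))
 (.leaf (nat_lit 0x70806040503000102) (nat_lit 517))
)))))) (.node (nat_lit 0x80607050304000102) (.node (nat_lit 0x80607010200050304) (.node (nat_lit 0x80607000102030405) (.node (nat_lit 0x70806050304000102) (.node (nat_lit 0x70806040503020001) (.leaf (nat_lit 0x70806040503010200) (nat_lit 261))
 (.leaf (nat_lit 0x70806040503020001) (nat_lit 512))
) (.node (nat_lit 0x70806050304010200) (.leaf (nat_lit 0x70806050304000102) (nat_lit 769))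
 (.node (nat_lit 0x70806050304020001) (.leaf (nat_lit 0x70806050304010200) (nat_lit 513))
 (.leaf (nat_lit 0x70806050304020001) (nat_lit 769))
))) (.node (nat_lit 0x80607000102050304) (.node (nat_lit 0x80607000102040503) (.leaf (nat_lit 0x80607000102030405) (nat_lit 1282))
 (.leaf (nat_lit 0x80607000102040503) (nat_lit 1026))
) (.node (nat_lit 0x80607010200030405) (.leaf (nat_lit 0x80607000102050304) (nat_lit 1282))
 (.node (nat_lit 0x80607010200040503) (.leaf (nat_lit 0x80607010200030405) (nat_lit 1026))
 (.leaf (nat_lit 0x80607010200040503) (nat_lit 770))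
)))) (.node (nat_lit 0x80607030405010200) (.node (nat_lit 0x80607020001040503) (.node (nat_lit 0x80607020001030405) (.leaf (nat_lit 0x80607010200050304) (nat_lit 1026))
 (.leaf (nat_lit 0x80607020001030405) (nat_lit 1282))
) (.node (nat_lit 0x80607020001050304) (.leaf (nat_lit 0x80607020001040503) (nat_lit 1026))
 (.node (nat_lit 0x80607030405000102) (.leaf (nat_lit 0x80607020001050304) (nat_lit 1282))
 (.leaf (nat_lit 0x80607030405000102) (nat_lit 1026))
))) (.node (nat_lit 0x80607040503000102) (.node (nat_lit 0x80607030405020001) (.leaf (nat_lit 0x80607030405010200) (nat_lit 770))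
 (.leaf (nat_lit 0x80607030405020001) (nat_lit 1026))
) (.node (nat_lit 0x80607040503010200) (.leaf (nat_lit 0x80607040503000102) (nat_lit 770))
 (.node (nat_lit 0x80607040503020001) (.leaf (nat_lit 0x80607040503010200) (nat_lit 514))
 (.leaf (nat_lit 0x80607040503020001) (nat_lit 770))
))))) (.node (nat_lit 0x80706020100040305) (.node (nat_lit 0x80706000201050403) (.node (nat_lit 0x80607050304020001) (.node (nat_lit 0x80607050304010200) (.leaf (nat_lit 0x80607050304000102) (nat_lit 1026))
 (.leaf (nat_lit 0x80607050304010200) (nat_lit 770))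
) (.node (nat_lit 0x80706000201030504) (.leaf (nat_lit 0x80607050304020001) (nat_lit 1026))
 (.node (nat_lit 0x80706000201040305) (.leaf (nat_lit 0x80706000201030504) (nat_lit 772))
 (.leaf (nat_lit 0x80706000201040305) (nat_lit 1028))
))) (.node (nat_lit 0x80706010002040305) (.node (nat_lit 0x80706010002030504) (.leaf (nat_lit 0x80706000201050403) (nat_lit 516))
 (.leaf (nat_lit 0x80706010002030504) (nat_lit 1028))
) (.node (nat_lit 0x80706010002050403) (.leaf (nat_lit 0x80706010002040305) (nat_lit 1284))
 (.node (nat_lit 0x80706020100030504) (.leaf (nat_lit 0x80706010002050403) (nat_lit 772))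
 (.leaf (nat_lit 0x80706020100030504) (nat_lit 516))
)))) (.node (nat_lit 0x80706040305000201) (.node (nat_lit 0x80706030504000201) (.node (nat_lit 0x80706020100050403) (.leaf (nat_lit 0x80706020100040305) (nat_lit 772))
 (.leaf (nat_lit 0x80706020100050403) (nat_lit 260))
) (.node (nat_lit 0x80706030504010002) (.leaf (nat_lit 0x80706030504000201) (nat_lit 513))
 (.node (nat_lit 0x80706030504020100) (.leaf (nat_lit 0x80706030504010002) (nat_lit 769))
 (.leaf (nat_lit 0x80706030504020100) (nat_lit 257))
))) (.node (nat_lit 0x80706050403000201) (.node (nat_lit 0x80706040305010002) (.leaf (nat_lit 0x80706040305000201) (nat_lit 769))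
 (.node (nat_lit 0x80706040305020100) (.leaf (nat_lit 0x80706040305010002) (nat_lit 1025))
 (.leaf (nat_lit 0x80706040305020100) (nat_lit 513))
)) (.node (nat_lit 0x80706050403010002) (.leaf (nat_lit 0x80706050403000201) (nat_lit 256))
 (.node (nat_lit 0x80706050403020100) (.leaf (nat_lit 0x80706050403010002) (nat_lit 512))
 (.leaf (nat_lit 0x80706050403020100) (nat_lit 0))
)))))))))

theorem MW_ok : genOK A9 [(nat_lit 0x80706050403000201), (nat_lit 0x80706030504020100), (nat_lit 0x60807050403020100), (nat_lit 0x20100080706050403), (nat_lit 0x80706020100050403), (nat_lit 0x70806040503010200)] MW_t (nat_lit 324) = true := by decide +kernel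

noncomputable def ME_t : ST :=
(.node (nat_lit 0x40503000102060807) (.node (nat_lit 0x20001060708030504) (.node (nat_lit 0x10002040503060708) (.node (nat_lit 0x201030504070608) (.node (nat_lit 0x102060708050403) (.node (nat_lit 0x102040503070608) (.node (nat_lit 0x102030504080607) (.node (nat_lit 0x102030405080706) (.node (nat_lit 0x102030405070608) (.leaf (nat_lit 0x102030405060807) (nat_lit 1541))
 (.leaf (nat_lit 0x102030405070608) (nat_lit 1797))
) (.node (nat_lit 0x102030504060708) (.leaf (nat_lit 0x102030405080706) (nat_lit 1285))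
 (.node (nat_lit 0x102030504070806) (.leaf (nat_lit 0x102030504060708) (nat_lit 1796))
 (.leaf (nat_lit 0x102030504070806) (nat_lit 1540))
))) (.node (nat_lit 0x102040305070806) (.node (nat_lit 0x102040305060708) (.leaf (nat_lit 0x102030504080607) (nat_lit 1796))
 (.leaf (nat_lit 0x102040305060708) (nat_lit 1797))
) (.node (nat_lit 0x102040305080607) (.leaf (nat_lit 0x102040305070806) (nat_lit 1541))
 (.node (nat_lit 0x102040503060807) (.leaf (nat_lit 0x102040305080607) (nat_lit 1797))
 (.leaf (nat_lit 0x102040503060807) (nat_lit 1285))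
)))) (.node (nat_lit 0x102050403060708) (.node (nat_lit 0x102050304060807) (.node (nat_lit 0x102040503080706) (.leaf (nat_lit 0x102040503070608) (nat_lit 1541))
 (.leaf (nat_lit 0x102040503080706) (nat_lit 1029))
) (.node (nat_lit 0x102050304070608) (.leaf (nat_lit 0x102050304060807) (nat_lit 1537))
 (.node (nat_lit 0x102050304080706) (.leaf (nat_lit 0x102050304070608) (nat_lit 1793))
 (.leaf (nat_lit 0x102050304080706) (nat_lit 1281))
))) (.node (nat_lit 0x102050403080607) (.node (nat_lit 0x102050403070806) (.leaf (nat_lit 0x102050403060708) (nat_lit 1540))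
 (.leaf (nat_lit 0x102050403070806) (nat_lit 1284))
) (.node (nat_lit 0x102060708030504) (.leaf (nat_lit 0x102050403080607) (nat_lit 1540))
 (.node (nat_lit 0x102060708040305) (.leaf (nat_lit 0x102060708030504) (nat_lit 1541))
 (.leaf (nat_lit 0x102060708040305) (nat_lit 1541))
))))) (.node (nat_lit 0x102080607030504) (.node (nat_lit 0x102070608040503) (.node (nat_lit 0x102060807040503) (.node (nat_lit 0x102060807030405) (.leaf (nat_lit 0x102060708050403) (nat_lit 1285))
 (.leaf (nat_lit 0x102060807030405) (nat_lit 1285))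
) (.node (nat_lit 0x102060807050304) (.leaf (nat_lit 0x102060807040503) (nat_lit 1029))
 (.node (nat_lit 0x102070608030405) (.leaf (nat_lit 0x102060807050304) (nat_lit 1281))
 (.leaf (nat_lit 0x102070608030405) (nat_lit 1541))
))) (.node (nat_lit 0x102070806030504) (.node (nat_lit 0x102070608050304) (.leaf (nat_lit 0x102070608040503) (nat_lit 1285))
 (.leaf (nat_lit 0x102070608050304) (nat_lit 1537))
) (.node (nat_lit 0x102070806040305) (.leaf (nat_lit 0x102070806030504) (nat_lit 1285))
 (.node (nat_lit 0x102070806050403) (.leaf (nat_lit 0x102070806040305) (nat_lit 1285))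
 (.leaf (nat_lit 0x102070806050403) (nat_lit 1029))
)))) (.node (nat_lit 0x102080706050304) (.node (nat_lit 0x102080607050403) (.node (nat_lit 0x102080607040305) (.leaf (nat_lit 0x102080607030504) (nat_lit 1541))
 (.leaf (nat_lit 0x102080607040305) (nat_lit 1541))
) (.node (nat_lit 0x102080706030405) (.leaf (nat_lit 0x102080607050403) (nat_lit 1285))
 (.node (nat_lit 0x102080706040503) (.leaf (nat_lit 0x102080706030405) (nat_lit 1029))
 (.leaf (nat_lit 0x102080706040503) (nat_lit 773))
))) (.node (nat_lit 0x201030405070806) (.node (nat_lit 0x201030405060708) (.leaf (nat_lit 0x102080706050304) (nat_lit 1025))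
 (.leaf (nat_lit 0x201030405060708) (nat_lit 1539))
) (.node (nat_lit 0x201030405080607) (.leaf (nat_lit 0x201030405070806) (nat_lit 1283))
 (.node (nat_lit 0x201030504060807) (.leaf (nat_lit 0x201030405080607) (nat_lit 1539))
 (.leaf (nat_lit 0x201030504060807) (nat_lit 1283))
)))))) (.node (nat_lit 0x201070608030504) (.node (nat_lit 0x201050304080607) (.node (nat_lit 0x201040503060708) (.node (nat_lit 0x201040305060807) (.node (nat_lit 0x201030504080706) (.leaf (nat_lit 0x201030504070608) (nat_lit 1539))
 (.leaf (nat_lit 0x201030504080706) (nat_lit 1027))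
) (.node (nat_lit 0x201040305070608) (.leaf (nat_lit 0x201040305060807) (nat_lit 1539))
 (.node (nat_lit 0x201040305080706) (.leaf (nat_lit 0x201040305070608) (nat_lit 1795))
 (.leaf (nat_lit 0x201040305080706) (nat_lit 1283))
))) (.node (nat_lit 0x201040503080607) (.node (nat_lit 0x201040503070806) (.leaf (nat_lit 0x201040503060708) (nat_lit 1283))
 (.leaf (nat_lit 0x201040503070806) (nat_lit 1027))
) (.node (nat_lit 0x201050304060708) (.leaf (nat_lit 0x201040503080607) (nat_lit 1283))
 (.node (nat_lit 0x201050304070806) (.leaf (nat_lit 0x201050304060708) (nat_lit 1539))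
 (.leaf (nat_lit 0x201050304070806) (nat_lit 1283))
)))) (.node (nat_lit 0x201060708040503) (.node (nat_lit 0x201050403070608) (.node (nat_lit 0x201050403060807) (.leaf (nat_lit 0x201050304080607) (nat_lit 1539))
 (.leaf (nat_lit 0x201050403060807) (nat_lit 1027))
) (.node (nat_lit 0x201050403080706) (.leaf (nat_lit 0x201050403070608) (nat_lit 1283))
 (.node (nat_lit 0x201060708030405) (.leaf (nat_lit 0x201050403080706) (nat_lit 771))
 (.leaf (nat_lit 0x201060708030405) (nat_lit 1283))
))) (.node (nat_lit 0x201060807030504) (.node (nat_lit 0x201060708050304) (.leaf (nat_lit 0x201060708040503) (nat_lit 1027))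
 (.leaf (nat_lit 0x201060708050304) (nat_lit 1283))
) (.node (nat_lit 0x201060807040305) (.leaf (nat_lit 0x201060807030504) (nat_lit 1027))
 (.node (nat_lit 0x201060807050403) (.leaf (nat_lit 0x201060807040305) (nat_lit 1283))
 (.leaf (nat_lit 0x201060807050403) (nat_lit 771))
))))) (.node (nat_lit 0x201080706040305) (.node (nat_lit 0x201070806050304) (.node (nat_lit 0x201070608050403) (.node (nat_lit 0x201070608040305) (.leaf (nat_lit 0x201070608030504) (nat_lit 1283))
 (.leaf (nat_lit 0x201070608040305) (nat_lit 1539))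
) (.node (nat_lit 0x201070806030405) (.leaf (nat_lit 0x201070608050403) (nat_lit 1027))
 (.node (nat_lit 0x201070806040503) (.leaf (nat_lit 0x201070806030405) (nat_lit 1027))
 (.leaf (nat_lit 0x201070806040503) (nat_lit 771))
))) (.node (nat_lit 0x201080607040503) (.node (nat_lit 0x201080607030405) (.leaf (nat_lit 0x201070806050304) (nat_lit 1027))
 (.leaf (nat_lit 0x201080607030405) (nat_lit 1283))
) (.node (nat_lit 0x201080607050304) (.leaf (nat_lit 0x201080607040503) (nat_lit 1027))
 (.node (nat_lit 0x201080706030504) (.leaf (nat_lit 0x201080607050304) (nat_lit 1283))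
 (.leaf (nat_lit 0x201080706030504) (nat_lit 771))
)))) (.node (nat_lit 0x10002030504060807) (.node (nat_lit 0x10002030405060708) (.node (nat_lit 0x201080706050403) (.leaf (nat_lit 0x201080706040305) (nat_lit 1027))
 (.leaf (nat_lit 0x201080706050403) (nat_lit 515))
) (.node (nat_lit 0x10002030405070806) (.leaf (nat_lit 0x10002030405060708) (nat_lit 1795))
 (.node (nat_lit 0x10002030405080607) (.leaf (nat_lit 0x10002030405070806) (nat_lit 1539))
 (.leaf (nat_lit 0x10002030405080607) (nat_lit 1795))
))) (.node (nat_lit 0x10002040305060807) (.node (nat_lit 0x10002030504070608) (.leaf (nat_lit 0x10002030504060807) (nat_lit 1539))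
 (.node (nat_lit 0x10002030504080706) (.leaf (nat_lit 0x10002030504070608) (nat_lit 1795))
 (.leaf (nat_lit 0x10002030504080706) (nat_lit 1283))
)) (.node (nat_lit 0x10002040305070608) (.leaf (nat_lit 0x10002040305060807) (nat_lit 1795))
 (.node (nat_lit 0x10002040305080706) (.leaf (nat_lit 0x10002040305070608) (nat_lit 2051))
 (.leaf (nat_lit 0x10002040305080706) (nat_lit 1539))
))))))) (.node (nat_lit 0x10200050304070608) (.node (nat_lit 0x10002070806050304) (.node (nat_lit 0x10002060708040503) (.node (nat_lit 0x10002050304080607) (.node (nat_lit 0x10002040503080607) (.node (nat_lit 0x10002040503070806) (.leaf (nat_lit 0x10002040503060708) (nat_lit 1539))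
 (.leaf (nat_lit 0x10002040503070806) (nat_lit 1283))
) (.node (nat_lit 0x10002050304060708) (.leaf (nat_lit 0x10002040503080607) (nat_lit 1539))
 (.node (nat_lit 0x10002050304070806) (.leaf (nat_lit 0x10002050304060708) (nat_lit 1795))
 (.leaf (nat_lit 0x10002050304070806) (nat_lit 1539))
))) (.node (nat_lit 0x10002050403070608) (.node (nat_lit 0x10002050403060807) (.leaf (nat_lit 0x10002050304080607) (nat_lit 1795))
 (.leaf (nat_lit 0x10002050403060807) (nat_lit 1283))
) (.node (nat_lit 0x10002050403080706) (.leaf (nat_lit 0x10002050403070608) (nat_lit 1539))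
 (.node (nat_lit 0x10002060708030405) (.leaf (nat_lit 0x10002050403080706) (nat_lit 1027))
 (.leaf (nat_lit 0x10002060708030405) (nat_lit 1539))
)))) (.node (nat_lit 0x10002070608030504) (.node (nat_lit 0x10002060807030504) (.node (nat_lit 0x10002060708050304) (.leaf (nat_lit 0x10002060708040503) (nat_lit 1283))
 (.leaf (nat_lit 0x10002060708050304) (nat_lit 1539))
) (.node (nat_lit 0x10002060807040305) (.leaf (nat_lit 0x10002060807030504) (nat_lit 1283))
 (.node (nat_lit 0x10002060807050403) (.leaf (nat_lit 0x10002060807040305) (nat_lit 1539))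
 (.leaf (nat_lit 0x10002060807050403) (nat_lit 1027))
))) (.node (nat_lit 0x10002070608050403) (.node (nat_lit 0x10002070608040305) (.leaf (nat_lit 0x10002070608030504) (nat_lit 1539))
 (.leaf (nat_lit 0x10002070608040305) (nat_lit 1795))
) (.node (nat_lit 0x10002070806030405) (.leaf (nat_lit 0x10002070608050403) (nat_lit 1283))
 (.node (nat_lit 0x10002070806040503) (.leaf (nat_lit 0x10002070806030405) (nat_lit 1283))
 (.leaf (nat_lit 0x10002070806040503) (nat_lit 1027))
))))) (.node (nat_lit 0x10200030504060708) (.node (nat_lit 0x10002080706040305) (.node (nat_lit 0x10002080607040503) (.node (nat_lit 0x10002080607030405) (.leaf (nat_lit 0x10002070806050304) (nat_lit 1283))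
 (.leaf (nat_lit 0x10002080607030405) (nat_lit 1539))
) (.node (nat_lit 0x10002080607050304) (.leaf (nat_lit 0x10002080607040503) (nat_lit 1283))
 (.node (nat_lit 0x10002080706030504) (.leaf (nat_lit 0x10002080607050304) (nat_lit 1539))
 (.leaf (nat_lit 0x10002080706030504) (nat_lit 1027))
))) (.node (nat_lit 0x10200030405060807) (.node (nat_lit 0x10002080706050403) (.leaf (nat_lit 0x10002080706040305) (nat_lit 1283))
 (.leaf (nat_lit 0x10002080706050403) (nat_lit 771))
) (.node (nat_lit 0x10200030405070608) (.leaf (nat_lit 0x10200030405060807) (nat_lit 1285))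
 (.node (nat_lit 0x10200030405080706) (.leaf (nat_lit 0x10200030405070608) (nat_lit 1541))
 (.leaf (nat_lit 0x10200030405080706) (nat_lit 1029))
)))) (.node (nat_lit 0x10200040305080607) (.node (nat_lit 0x10200030504080607) (.node (nat_lit 0x10200030504070806) (.leaf (nat_lit 0x10200030504060708) (nat_lit 1540))
 (.leaf (nat_lit 0x10200030504070806) (nat_lit 1284))
) (.node (nat_lit 0x10200040305060708) (.leaf (nat_lit 0x10200030504080607) (nat_lit 1540))
 (.node (nat_lit 0x10200040305070806) (.leaf (nat_lit 0x10200040305060708) (nat_lit 1541))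
 (.leaf (nat_lit 0x10200040305070806) (nat_lit 1285))
))) (.node (nat_lit 0x10200040503070608) (.node (nat_lit 0x10200040503060807) (.leaf (nat_lit 0x10200040305080607) (nat_lit 1541))
 (.leaf (nat_lit 0x10200040503060807) (nat_lit 1029))
) (.node (nat_lit 0x10200040503080706) (.leaf (nat_lit 0x10200040503070608) (nat_lit 1285))
 (.node (nat_lit 0x10200050304060807) (.leaf (nat_lit 0x10200040503080706) (nat_lit 773))
 (.leaf (nat_lit 0x10200050304060807) (nat_lit 1281))
)))))) (.node (nat_lit 0x10200080706030405) (.node (nat_lit 0x10200060807050304) (.node (nat_lit 0x10200060708030504) (.node (nat_lit 0x10200050403060708) (.node (nat_lit 0x10200050304080706) (.leaf (nat_lit 0x10200050304070608) (nat_lit 1537))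
 (.leaf (nat_lit 0x10200050304080706) (nat_lit 1025))
) (.node (nat_lit 0x10200050403070806) (.leaf (nat_lit 0x10200050403060708) (nat_lit 1284))
 (.node (nat_lit 0x10200050403080607) (.leaf (nat_lit 0x10200050403070806) (nat_lit 1028))
 (.leaf (nat_lit 0x10200050403080607) (nat_lit 1284))
))) (.node (nat_lit 0x10200060708050403) (.node (nat_lit 0x10200060708040305) (.leaf (nat_lit 0x10200060708030504) (nat_lit 1285))
 (.leaf (nat_lit 0x10200060708040305) (nat_lit 1285))
) (.node (nat_lit 0x10200060807030405) (.leaf (nat_lit 0x10200060708050403) (nat_lit 1029))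
 (.node (nat_lit 0x10200060807040503) (.leaf (nat_lit 0x10200060807030405) (nat_lit 1029))
 (.leaf (nat_lit 0x10200060807040503) (nat_lit 773))
)))) (.node (nat_lit 0x10200070806040305) (.node (nat_lit 0x10200070608040503) (.node (nat_lit 0x10200070608030405) (.leaf (nat_lit 0x10200060807050304) (nat_lit 1025))
 (.leaf (nat_lit 0x10200070608030405) (nat_lit 1285))
) (.node (nat_lit 0x10200070608050304) (.leaf (nat_lit 0x10200070608040503) (nat_lit 1029))
 (.node (nat_lit 0x10200070806030504) (.leaf (nat_lit 0x10200070608050304) (nat_lit 1281))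
 (.leaf (nat_lit 0x10200070806030504) (nat_lit 1029))
))) (.node (nat_lit 0x10200080607030504) (.node (nat_lit 0x10200070806050403) (.leaf (nat_lit 0x10200070806040305) (nat_lit 1029))
 (.leaf (nat_lit 0x10200070806050403) (nat_lit 773))
) (.node (nat_lit 0x10200080607040305) (.leaf (nat_lit 0x10200080607030504) (nat_lit 1285))
 (.node (nat_lit 0x10200080607050403) (.leaf (nat_lit 0x10200080607040305) (nat_lit 1285))
 (.leaf (nat_lit 0x10200080607050403) (nat_lit 1029))
))))) (.node (nat_lit 0x20001040305070806) (.node (nat_lit 0x20001030405080706) (.node (nat_lit 0x10200080706050304) (.node (nat_lit 0x10200080706040503) (.leaf (nat_lit 0x10200080706030405) (nat_lit 773))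
 (.leaf (nat_lit 0x10200080706040503) (nat_lit 517))
) (.node (nat_lit 0x20001030405060807) (.leaf (nat_lit 0x10200080706050304) (nat_lit 769))
 (.node (nat_lit 0x20001030405070608) (.leaf (nat_lit 0x20001030405060807) (nat_lit 1536))
 (.leaf (nat_lit 0x20001030405070608) (nat_lit 1792))
))) (.node (nat_lit 0x20001030504070806) (.node (nat_lit 0x20001030504060708) (.leaf (nat_lit 0x20001030405080706) (nat_lit 1280))
 (.leaf (nat_lit 0x20001030504060708) (nat_lit 1796))
) (.node (nat_lit 0x20001030504080607) (.leaf (nat_lit 0x20001030504070806) (nat_lit 1540))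
 (.node (nat_lit 0x20001040305060708) (.leaf (nat_lit 0x20001030504080607) (nat_lit 1796))
 (.leaf (nat_lit 0x20001040305060708) (nat_lit 1792))
)))) (.node (nat_lit 0x20001050304060807) (.node (nat_lit 0x20001040503060807) (.node (nat_lit 0x20001040305080607) (.leaf (nat_lit 0x20001040305070806) (nat_lit 1536))
 (.leaf (nat_lit 0x20001040305080607) (nat_lit 1792))
) (.node (nat_lit 0x20001040503070608) (.leaf (nat_lit 0x20001040503060807) (nat_lit 1280))
 (.node (nat_lit 0x20001040503080706) (.leaf (nat_lit 0x20001040503070608) (nat_lit 1536))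
 (.leaf (nat_lit 0x20001040503080706) (nat_lit 1024))
))) (.node (nat_lit 0x20001050403060708) (.node (nat_lit 0x20001050304070608) (.leaf (nat_lit 0x20001050304060807) (nat_lit 1537))
 (.node (nat_lit 0x20001050304080706) (.leaf (nat_lit 0x20001050304070608) (nat_lit 1793))
 (.leaf (nat_lit 0x20001050304080706) (nat_lit 1281))
)) (.node (nat_lit 0x20001050403070806) (.leaf (nat_lit 0x20001050403060708) (nat_lit 1540))
 (.node (nat_lit 0x20001050403080607) (.leaf (nat_lit 0x20001050403070806) (nat_lit 1284))
 (.leaf (nat_lit 0x20001050403080607) (nat_lit 1540))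
)))))))) (.node (nat_lit 0x30405070806000201) (.node (nat_lit 0x20100060807040305) (.node (nat_lit 0x20100030405080607) (.node (nat_lit 0x20001070806040305) (.node (nat_lit 0x20001060807050304) (.node (nat_lit 0x20001060708050403) (.node (nat_lit 0x20001060708040305) (.leaf (nat_lit 0x20001060708030504) (nat_lit 1536))
 (.leaf (nat_lit 0x20001060708040305) (nat_lit 1536))
) (.node (nat_lit 0x20001060807030405) (.leaf (nat_lit 0x20001060708050403) (nat_lit 1280))
 (.node (nat_lit 0x20001060807040503) (.leaf (nat_lit 0x20001060807030405) (nat_lit 1280))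
 (.leaf (nat_lit 0x20001060807040503) (nat_lit 1024))
))) (.node (nat_lit 0x20001070608040503) (.node (nat_lit 0x20001070608030405) (.leaf (nat_lit 0x20001060807050304) (nat_lit 1281))
 (.leaf (nat_lit 0x20001070608030405) (nat_lit 1536))
) (.node (nat_lit 0x20001070608050304) (.leaf (nat_lit 0x20001070608040503) (nat_lit 1280))
 (.node (nat_lit 0x20001070806030504) (.leaf (nat_lit 0x20001070608050304) (nat_lit 1537))
 (.leaf (nat_lit 0x20001070806030504) (nat_lit 1280))
)))) (.node (nat_lit 0x20001080706030405) (.node (nat_lit 0x20001080607030504) (.node (nat_lit 0x20001070806050403) (.leaf (nat_lit 0x20001070806040305) (nat_lit 1280))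
 (.leaf (nat_lit 0x20001070806050403) (nat_lit 1024))
) (.node (nat_lit 0x20001080607040305) (.leaf (nat_lit 0x20001080607030504) (nat_lit 1536))
 (.node (nat_lit 0x20001080607050403) (.leaf (nat_lit 0x20001080607040305) (nat_lit 1536))
 (.leaf (nat_lit 0x20001080607050403) (nat_lit 1280))
))) (.node (nat_lit 0x20001080706050304) (.node (nat_lit 0x20001080706040503) (.leaf (nat_lit 0x20001080706030405) (nat_lit 1024))
 (.leaf (nat_lit 0x20001080706040503) (nat_lit 768))
) (.node (nat_lit 0x20100030405060708) (.leaf (nat_lit 0x20001080706050304) (nat_lit 1025))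
 (.node (nat_lit 0x20100030405070806) (.leaf (nat_lit 0x20100030405060708) (nat_lit 1283))
 (.leaf (nat_lit 0x20100030405070806) (nat_lit 1027))
))))) (.node (nat_lit 0x20100050304060708) (.node (nat_lit 0x20100040305070608) (.node (nat_lit 0x20100030504070608) (.node (nat_lit 0x20100030504060807) (.leaf (nat_lit 0x20100030405080607) (nat_lit 1283))
 (.leaf (nat_lit 0x20100030504060807) (nat_lit 1027))
) (.node (nat_lit 0x20100030504080706) (.leaf (nat_lit 0x20100030504070608) (nat_lit 1283))
 (.node (nat_lit 0x20100040305060807) (.leaf (nat_lit 0x20100030504080706) (nat_lit 771))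
 (.leaf (nat_lit 0x20100040305060807) (nat_lit 1283))
))) (.node (nat_lit 0x20100040503060708) (.node (nat_lit 0x20100040305080706) (.leaf (nat_lit 0x20100040305070608) (nat_lit 1539))
 (.leaf (nat_lit 0x20100040305080706) (nat_lit 1027))
) (.node (nat_lit 0x20100040503070806) (.leaf (nat_lit 0x20100040503060708) (nat_lit 1027))
 (.node (nat_lit 0x20100040503080607) (.leaf (nat_lit 0x20100040503070806) (nat_lit 771))
 (.leaf (nat_lit 0x20100040503080607) (nat_lit 1027))
)))) (.node (nat_lit 0x20100050403080706) (.node (nat_lit 0x20100050304080607) (.node (nat_lit 0x20100050304070806) (.leaf (nat_lit 0x20100050304060708) (nat_lit 1283))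
 (.leaf (nat_lit 0x20100050304070806) (nat_lit 1027))
) (.node (nat_lit 0x20100050403060807) (.leaf (nat_lit 0x20100050304080607) (nat_lit 1283))
 (.node (nat_lit 0x20100050403070608) (.leaf (nat_lit 0x20100050403060807) (nat_lit 771))
 (.leaf (nat_lit 0x20100050403070608) (nat_lit 1027))
))) (.node (nat_lit 0x20100060708040503) (.node (nat_lit 0x20100060708030405) (.leaf (nat_lit 0x20100050403080706) (nat_lit 515))
 (.leaf (nat_lit 0x20100060708030405) (nat_lit 1027))
) (.node (nat_lit 0x20100060708050304) (.leaf (nat_lit 0x20100060708040503) (nat_lit 771))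
 (.node (nat_lit 0x20100060807030504) (.leaf (nat_lit 0x20100060708050304) (nat_lit 1027))
 (.leaf (nat_lit 0x20100060807030504) (nat_lit 771))
)))))) (.node (nat_lit 0x30405010002060708) (.node (nat_lit 0x20100080607050304) (.node (nat_lit 0x20100070806030405) (.node (nat_lit 0x20100070608030504) (.node (nat_lit 0x20100060807050403) (.leaf (nat_lit 0x20100060807040305) (nat_lit 1027))
 (.leaf (nat_lit 0x20100060807050403) (nat_lit 515))
) (.node (nat_lit 0x20100070608040305) (.leaf (nat_lit 0x20100070608030504) (nat_lit 1027))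
 (.node (nat_lit 0x20100070608050403) (.leaf (nat_lit 0x20100070608040305) (nat_lit 1283))
 (.leaf (nat_lit 0x20100070608050403) (nat_lit 771))
))) (.node (nat_lit 0x20100070806050304) (.node (nat_lit 0x20100070806040503) (.leaf (nat_lit 0x20100070806030405) (nat_lit 771))
 (.leaf (nat_lit 0x20100070806040503) (nat_lit 515))
) (.node (nat_lit 0x20100080607030405) (.leaf (nat_lit 0x20100070806050304) (nat_lit 771))
 (.node (nat_lit 0x20100080607040503) (.leaf (nat_lit 0x20100080607030405) (nat_lit 1027))
 (.leaf (nat_lit 0x20100080607040503) (nat_lit 771))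
)))) (.node (nat_lit 0x30405000102070608) (.node (nat_lit 0x20100080706040305) (.node (nat_lit 0x20100080706030504) (.leaf (nat_lit 0x20100080607050304) (nat_lit 1027))
 (.leaf (nat_lit 0x20100080706030504) (nat_lit 515))
) (.node (nat_lit 0x20100080706050403) (.leaf (nat_lit 0x20100080706040305) (nat_lit 771))
 (.node (nat_lit 0x30405000102060807) (.leaf (nat_lit 0x20100080706050403) (nat_lit 259))
 (.leaf (nat_lit 0x30405000102060807) (nat_lit 1541))
))) (.node (nat_lit 0x30405000201060708) (.node (nat_lit 0x30405000102080706) (.leaf (nat_lit 0x30405000102070608) (nat_lit 1797))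
 (.leaf (nat_lit 0x30405000102080706) (nat_lit 1285))
) (.node (nat_lit 0x30405000201070806) (.leaf (nat_lit 0x30405000201060708) (nat_lit 1539))
 (.node (nat_lit 0x30405000201080607) (.leaf (nat_lit 0x30405000201070806) (nat_lit 1283))
 (.leaf (nat_lit 0x30405000201080607) (nat_lit 1539))
))))) (.node (nat_lit 0x30405020100070806) (.node (nat_lit 0x30405010200080706) (.node (nat_lit 0x30405010002080607) (.node (nat_lit 0x30405010002070806) (.leaf (nat_lit 0x30405010002060708) (nat_lit 1795))
 (.leaf (nat_lit 0x30405010002070806) (nat_lit 1539))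
) (.node (nat_lit 0x30405010200060807) (.leaf (nat_lit 0x30405010002080607) (nat_lit 1795))
 (.node (nat_lit 0x30405010200070608) (.leaf (nat_lit 0x30405010200060807) (nat_lit 1285))
 (.leaf (nat_lit 0x30405010200070608) (nat_lit 1541))
))) (.node (nat_lit 0x30405020001070608) (.node (nat_lit 0x30405020001060807) (.leaf (nat_lit 0x30405010200080706) (nat_lit 1029))
 (.leaf (nat_lit 0x30405020001060807) (nat_lit 1536))
) (.node (nat_lit 0x30405020001080706) (.leaf (nat_lit 0x30405020001070608) (nat_lit 1792))
 (.node (nat_lit 0x30405020100060708) (.leaf (nat_lit 0x30405020001080706) (nat_lit 1280))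
 (.leaf (nat_lit 0x30405020100060708) (nat_lit 1283))
)))) (.node (nat_lit 0x30405060807000102) (.node (nat_lit 0x30405060708000201) (.node (nat_lit 0x30405020100080607) (.leaf (nat_lit 0x30405020100070806) (nat_lit 1027))
 (.leaf (nat_lit 0x30405020100080607) (nat_lit 1283))
) (.node (nat_lit 0x30405060708010002) (.leaf (nat_lit 0x30405060708000201) (nat_lit 1795))
 (.node (nat_lit 0x30405060708020100) (.leaf (nat_lit 0x30405060708010002) (nat_lit 1797))
 (.leaf (nat_lit 0x30405060708020100) (nat_lit 1539))
))) (.node (nat_lit 0x30405070608000102) (.node (nat_lit 0x30405060807010200) (.leaf (nat_lit 0x30405060807000102) (nat_lit 1541))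
 (.node (nat_lit 0x30405060807020001) (.leaf (nat_lit 0x30405060807010200) (nat_lit 1285))
 (.leaf (nat_lit 0x30405060807020001) (nat_lit 1536))
)) (.node (nat_lit 0x30405070608010200) (.leaf (nat_lit 0x30405070608000102) (nat_lit 1797))
 (.node (nat_lit 0x30405070608020001) (.leaf (nat_lit 0x30405070608010200) (nat_lit 1541))
 (.leaf (nat_lit 0x30405070608020001) (nat_lit 1792))
))))))) (.node (nat_lit 0x30504080607010200) (.node (nat_lit 0x30504010200080607) (.node (nat_lit 0x30504000102070806) (.node (nat_lit 0x30405080607020100) (.node (nat_lit 0x30405070806020100) (.node (nat_lit 0x30405070806010002) (.leaf (nat_lit 0x30405070806000201) (nat_lit 1539))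
 (.leaf (nat_lit 0x30405070806010002) (nat_lit 1541))
) (.node (nat_lit 0x30405080607000201) (.leaf (nat_lit 0x30405070806020100) (nat_lit 1283))
 (.node (nat_lit 0x30405080607010002) (.leaf (nat_lit 0x30405080607000201) (nat_lit 1795))
 (.leaf (nat_lit 0x30405080607010002) (nat_lit 1797))
))) (.node (nat_lit 0x30405080706010200) (.node (nat_lit 0x30405080706000102) (.leaf (nat_lit 0x30405080607020100) (nat_lit 1539))
 (.leaf (nat_lit 0x30405080706000102) (nat_lit 1285))
) (.node (nat_lit 0x30405080706020001) (.leaf (nat_lit 0x30405080706010200) (nat_lit 1029))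
 (.node (nat_lit 0x30504000102060708) (.leaf (nat_lit 0x30405080706020001) (nat_lit 1280))
 (.leaf (nat_lit 0x30504000102060708) (nat_lit 1539))
)))) (.node (nat_lit 0x30504010002060807) (.node (nat_lit 0x30504000201060807) (.node (nat_lit 0x30504000102080607) (.leaf (nat_lit 0x30504000102070806) (nat_lit 1283))
 (.leaf (nat_lit 0x30504000102080607) (nat_lit 1539))
) (.node (nat_lit 0x30504000201070608) (.leaf (nat_lit 0x30504000201060807) (nat_lit 1283))
 (.node (nat_lit 0x30504000201080706) (.leaf (nat_lit 0x30504000201070608) (nat_lit 1539))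
 (.leaf (nat_lit 0x30504000201080706) (nat_lit 1027))
))) (.node (nat_lit 0x30504010002080706) (.node (nat_lit 0x30504010002070608) (.leaf (nat_lit 0x30504010002060807) (nat_lit 1539))
 (.leaf (nat_lit 0x30504010002070608) (nat_lit 1795))
) (.node (nat_lit 0x30504010200060708) (.leaf (nat_lit 0x30504010002080706) (nat_lit 1283))
 (.node (nat_lit 0x30504010200070806) (.leaf (nat_lit 0x30504010200060708) (nat_lit 1283))
 (.leaf (nat_lit 0x30504010200070806) (nat_lit 1027))
))))) (.node (nat_lit 0x30504060807000201) (.node (nat_lit 0x30504020100070608) (.node (nat_lit 0x30504020001070806) (.node (nat_lit 0x30504020001060708) (.leaf (nat_lit 0x30504010200080607) (nat_lit 1283))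
 (.leaf (nat_lit 0x30504020001060708) (nat_lit 1539))
) (.node (nat_lit 0x30504020001080607) (.leaf (nat_lit 0x30504020001070806) (nat_lit 1283))
 (.node (nat_lit 0x30504020100060807) (.leaf (nat_lit 0x30504020001080607) (nat_lit 1539))
 (.leaf (nat_lit 0x30504020100060807) (nat_lit 1027))
))) (.node (nat_lit 0x30504060708000102) (.node (nat_lit 0x30504020100080706) (.leaf (nat_lit 0x30504020100070608) (nat_lit 1283))
 (.leaf (nat_lit 0x30504020100080706) (nat_lit 771))
) (.node (nat_lit 0x30504060708010200) (.leaf (nat_lit 0x30504060708000102) (nat_lit 1540))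
 (.node (nat_lit 0x30504060708020001) (.leaf (nat_lit 0x30504060708010200) (nat_lit 1284))
 (.leaf (nat_lit 0x30504060708020001) (nat_lit 1540))
)))) (.node (nat_lit 0x30504070608020100) (.node (nat_lit 0x30504060807020100) (.node (nat_lit 0x30504060807010002) (.leaf (nat_lit 0x30504060807000201) (nat_lit 1284))
 (.leaf (nat_lit 0x30504060807010002) (nat_lit 1540))
) (.node (nat_lit 0x30504070608000201) (.leaf (nat_lit 0x30504060807020100) (nat_lit 1028))
 (.node (nat_lit 0x30504070608010002) (.leaf (nat_lit 0x30504070608000201) (nat_lit 1540))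
 (.leaf (nat_lit 0x30504070608010002) (nat_lit 1796))
))) (.node (nat_lit 0x30504070806010200) (.node (nat_lit 0x30504070806000102) (.leaf (nat_lit 0x30504070608020100) (nat_lit 1284))
 (.leaf (nat_lit 0x30504070806000102) (nat_lit 1284))
) (.node (nat_lit 0x30504070806020001) (.leaf (nat_lit 0x30504070806010200) (nat_lit 1028))
 (.node (nat_lit 0x30504080607000102) (.leaf (nat_lit 0x30504070806020001) (nat_lit 1284))
 (.leaf (nat_lit 0x30504080607000102) (nat_lit 1540))
)))))) (.node (nat_lit 0x40305020100060807) (.node (nat_lit 0x40305000201080706) (.node (nat_lit 0x40305000102060708) (.node (nat_lit 0x30504080706000201) (.node (nat_lit 0x30504080607020001) (.leaf (nat_lit 0x30504080607010200) (nat_lit 1284))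
 (.leaf (nat_lit 0x30504080607020001) (nat_lit 1540))
) (.node (nat_lit 0x30504080706010002) (.leaf (nat_lit 0x30504080706000201) (nat_lit 1028))
 (.node (nat_lit 0x30504080706020100) (.leaf (nat_lit 0x30504080706010002) (nat_lit 1284))
 (.leaf (nat_lit 0x30504080706020100) (nat_lit 772))
))) (.node (nat_lit 0x40305000102080607) (.node (nat_lit 0x40305000102070806) (.leaf (nat_lit 0x40305000102060708) (nat_lit 1795))
 (.leaf (nat_lit 0x40305000102070806) (nat_lit 1539))
) (.node (nat_lit 0x40305000201060807) (.leaf (nat_lit 0x40305000102080607) (nat_lit 1795))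
 (.node (nat_lit 0x40305000201070608) (.leaf (nat_lit 0x40305000201060807) (nat_lit 1539))
 (.leaf (nat_lit 0x40305000201070608) (nat_lit 1795))
)))) (.node (nat_lit 0x40305010200070806) (.node (nat_lit 0x40305010002070608) (.node (nat_lit 0x40305010002060807) (.leaf (nat_lit 0x40305000201080706) (nat_lit 1283))
 (.leaf (nat_lit 0x40305010002060807) (nat_lit 1795))
) (.node (nat_lit 0x40305010002080706) (.leaf (nat_lit 0x40305010002070608) (nat_lit 2051))
 (.node (nat_lit 0x40305010200060708) (.leaf (nat_lit 0x40305010002080706) (nat_lit 1539))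
 (.leaf (nat_lit 0x40305010200060708) (nat_lit 1539))
))) (.node (nat_lit 0x40305020001060708) (.node (nat_lit 0x40305010200080607) (.leaf (nat_lit 0x40305010200070806) (nat_lit 1283))
 (.leaf (nat_lit 0x40305010200080607) (nat_lit 1539))
) (.node (nat_lit 0x40305020001070806) (.leaf (nat_lit 0x40305020001060708) (nat_lit 1795))
 (.node (nat_lit 0x40305020001080607) (.leaf (nat_lit 0x40305020001070806) (nat_lit 1539))
 (.leaf (nat_lit 0x40305020001080607) (nat_lit 1795))
))))) (.node (nat_lit 0x40305070608010002) (.node (nat_lit 0x40305060708020001) (.node (nat_lit 0x40305020100080706) (.node (nat_lit 0x40305020100070608) (.leaf (nat_lit 0x40305020100060807) (nat_lit 1283))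
 (.leaf (nat_lit 0x40305020100070608) (nat_lit 1539))
) (.node (nat_lit 0x40305060708000102) (.leaf (nat_lit 0x40305020100080706) (nat_lit 1027))
 (.node (nat_lit 0x40305060708010200) (.leaf (nat_lit 0x40305060708000102) (nat_lit 1796))
 (.leaf (nat_lit 0x40305060708010200) (nat_lit 1540))
))) (.node (nat_lit 0x40305060807010002) (.node (nat_lit 0x40305060807000201) (.leaf (nat_lit 0x40305060708020001) (nat_lit 1796))
 (.leaf (nat_lit 0x40305060807000201) (nat_lit 1540))
) (.node (nat_lit 0x40305060807020100) (.leaf (nat_lit 0x40305060807010002) (nat_lit 1796))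
 (.node (nat_lit 0x40305070608000201) (.leaf (nat_lit 0x40305060807020100) (nat_lit 1284))
 (.leaf (nat_lit 0x40305070608000201) (nat_lit 1796))
)))) (.node (nat_lit 0x40305080607000102) (.node (nat_lit 0x40305070806000102) (.node (nat_lit 0x40305070608020100) (.leaf (nat_lit 0x40305070608010002) (nat_lit 2052))
 (.leaf (nat_lit 0x40305070608020100) (nat_lit 1540))
) (.node (nat_lit 0x40305070806010200) (.leaf (nat_lit 0x40305070806000102) (nat_lit 1540))
 (.node (nat_lit 0x40305070806020001) (.leaf (nat_lit 0x40305070806010200) (nat_lit 1284))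
 (.leaf (nat_lit 0x40305070806020001) (nat_lit 1540))
))) (.node (nat_lit 0x40305080706000201) (.node (nat_lit 0x40305080607010200) (.leaf (nat_lit 0x40305080607000102) (nat_lit 1796))
 (.node (nat_lit 0x40305080607020001) (.leaf (nat_lit 0x40305080607010200) (nat_lit 1540))
 (.leaf (nat_lit 0x40305080607020001) (nat_lit 1796))
)) (.node (nat_lit 0x40305080706010002) (.leaf (nat_lit 0x40305080706000201) (nat_lit 1284))
 (.node (nat_lit 0x40305080706020100) (.leaf (nat_lit 0x40305080706010002) (nat_lit 1540))
 (.leaf (nat_lit 0x40305080706020100) (nat_lit 1028))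
))))))))) (.node (nat_lit 0x60807030405000102) (.node (nat_lit 0x50403010200060708) (.node (nat_lit 0x50304000201070806) (.node (nat_lit 0x40503060708020100) (.node (nat_lit 0x40503010200070608) (.node (nat_lit 0x40503000201080607) (.node (nat_lit 0x40503000102080706) (.node (nat_lit 0x40503000102070608) (.leaf (nat_lit 0x40503000102060807) (nat_lit 1285))
 (.leaf (nat_lit 0x40503000102070608) (nat_lit 1541))
) (.node (nat_lit 0x40503000201060708) (.leaf (nat_lit 0x40503000102080706) (nat_lit 1029))
 (.node (nat_lit 0x40503000201070806) (.leaf (nat_lit 0x40503000201060708) (nat_lit 1283))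
 (.leaf (nat_lit 0x40503000201070806) (nat_lit 1027))
))) (.node (nat_lit 0x40503010002070806) (.node (nat_lit 0x40503010002060708) (.leaf (nat_lit 0x40503000201080607) (nat_lit 1283))
 (.leaf (nat_lit 0x40503010002060708) (nat_lit 1539))
) (.node (nat_lit 0x40503010002080607) (.leaf (nat_lit 0x40503010002070806) (nat_lit 1283))
 (.node (nat_lit 0x40503010200060807) (.leaf (nat_lit 0x40503010002080607) (nat_lit 1539))
 (.leaf (nat_lit 0x40503010200060807) (nat_lit 1029))
)))) (.node (nat_lit 0x40503020100060708) (.node (nat_lit 0x40503020001060807) (.node (nat_lit 0x40503010200080706) (.leaf (nat_lit 0x40503010200070608) (nat_lit 1285))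
 (.leaf (nat_lit 0x40503010200080706) (nat_lit 773))
) (.node (nat_lit 0x40503020001070608) (.leaf (nat_lit 0x40503020001060807) (nat_lit 1280))
 (.node (nat_lit 0x40503020001080706) (.leaf (nat_lit 0x40503020001070608) (nat_lit 1536))
 (.leaf (nat_lit 0x40503020001080706) (nat_lit 1024))
))) (.node (nat_lit 0x40503020100080607) (.node (nat_lit 0x40503020100070806) (.leaf (nat_lit 0x40503020100060708) (nat_lit 1027))
 (.leaf (nat_lit 0x40503020100070806) (nat_lit 771))
) (.node (nat_lit 0x40503060708000201) (.leaf (nat_lit 0x40503020100080607) (nat_lit 1027))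
 (.node (nat_lit 0x40503060708010002) (.leaf (nat_lit 0x40503060708000201) (nat_lit 1539))
 (.leaf (nat_lit 0x40503060708010002) (nat_lit 1541))
))))) (.node (nat_lit 0x40503080607000201) (.node (nat_lit 0x40503070608010200) (.node (nat_lit 0x40503060807010200) (.node (nat_lit 0x40503060807000102) (.leaf (nat_lit 0x40503060708020100) (nat_lit 1283))
 (.leaf (nat_lit 0x40503060807000102) (nat_lit 1285))
) (.node (nat_lit 0x40503060807020001) (.leaf (nat_lit 0x40503060807010200) (nat_lit 1029))
 (.node (nat_lit 0x40503070608000102) (.leaf (nat_lit 0x40503060807020001) (nat_lit 1280))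
 (.leaf (nat_lit 0x40503070608000102) (nat_lit 1541))
))) (.node (nat_lit 0x40503070806000201) (.node (nat_lit 0x40503070608020001) (.leaf (nat_lit 0x40503070608010200) (nat_lit 1285))
 (.leaf (nat_lit 0x40503070608020001) (nat_lit 1536))
) (.node (nat_lit 0x40503070806010002) (.leaf (nat_lit 0x40503070806000201) (nat_lit 1283))
 (.node (nat_lit 0x40503070806020100) (.leaf (nat_lit 0x40503070806010002) (nat_lit 1285))
 (.leaf (nat_lit 0x40503070806020100) (nat_lit 1027))
)))) (.node (nat_lit 0x40503080706020001) (.node (nat_lit 0x40503080607020100) (.node (nat_lit 0x40503080607010002) (.leaf (nat_lit 0x40503080607000201) (nat_lit 1539))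
 (.leaf (nat_lit 0x40503080607010002) (nat_lit 1541))
) (.node (nat_lit 0x40503080706000102) (.leaf (nat_lit 0x40503080607020100) (nat_lit 1283))
 (.node (nat_lit 0x40503080706010200) (.leaf (nat_lit 0x40503080706000102) (nat_lit 1029))
 (.leaf (nat_lit 0x40503080706010200) (nat_lit 773))
))) (.node (nat_lit 0x50304000102070608) (.node (nat_lit 0x50304000102060807) (.leaf (nat_lit 0x40503080706020001) (nat_lit 1024))
 (.leaf (nat_lit 0x50304000102060807) (nat_lit 1537))
) (.node (nat_lit 0x50304000102080706) (.leaf (nat_lit 0x50304000102070608) (nat_lit 1793))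
 (.node (nat_lit 0x50304000201060708) (.leaf (nat_lit 0x50304000102080706) (nat_lit 1281))
 (.leaf (nat_lit 0x50304000201060708) (nat_lit 1539))
)))))) (.node (nat_lit 0x50304070608000102) (.node (nat_lit 0x50304020001080706) (.node (nat_lit 0x50304010200060807) (.node (nat_lit 0x50304010002060708) (.node (nat_lit 0x50304000201080607) (.leaf (nat_lit 0x50304000201070806) (nat_lit 1283))
 (.leaf (nat_lit 0x50304000201080607) (nat_lit 1539))
) (.node (nat_lit 0x50304010002070806) (.leaf (nat_lit 0x50304010002060708) (nat_lit 1795))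
 (.node (nat_lit 0x50304010002080607) (.leaf (nat_lit 0x50304010002070806) (nat_lit 1539))
 (.leaf (nat_lit 0x50304010002080607) (nat_lit 1795))
))) (.node (nat_lit 0x50304010200080706) (.node (nat_lit 0x50304010200070608) (.leaf (nat_lit 0x50304010200060807) (nat_lit 1281))
 (.leaf (nat_lit 0x50304010200070608) (nat_lit 1537))
) (.node (nat_lit 0x50304020001060807) (.leaf (nat_lit 0x50304010200080706) (nat_lit 1025))
 (.node (nat_lit 0x50304020001070608) (.leaf (nat_lit 0x50304020001060807) (nat_lit 1537))
 (.leaf (nat_lit 0x50304020001070608) (nat_lit 1793))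
)))) (.node (nat_lit 0x50304060708010002) (.node (nat_lit 0x50304020100070806) (.node (nat_lit 0x50304020100060708) (.leaf (nat_lit 0x50304020001080706) (nat_lit 1281))
 (.leaf (nat_lit 0x50304020100060708) (nat_lit 1283))
) (.node (nat_lit 0x50304020100080607) (.leaf (nat_lit 0x50304020100070806) (nat_lit 1027))
 (.node (nat_lit 0x50304060708000201) (.leaf (nat_lit 0x50304020100080607) (nat_lit 1283))
 (.leaf (nat_lit 0x50304060708000201) (nat_lit 1795))
))) (.node (nat_lit 0x50304060807000102) (.node (nat_lit 0x50304060708020100) (.leaf (nat_lit 0x50304060708010002) (nat_lit 1793))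
 (.leaf (nat_lit 0x50304060708020100) (nat_lit 1539))
) (.node (nat_lit 0x50304060807010200) (.leaf (nat_lit 0x50304060807000102) (nat_lit 1537))
 (.node (nat_lit 0x50304060807020001) (.leaf (nat_lit 0x50304060807010200) (nat_lit 1281))
 (.leaf (nat_lit 0x50304060807020001) (nat_lit 1537))
))))) (.node (nat_lit 0x50304080706010200) (.node (nat_lit 0x50304070806020100) (.node (nat_lit 0x50304070608020001) (.node (nat_lit 0x50304070608010200) (.leaf (nat_lit 0x50304070608000102) (nat_lit 1793))
 (.leaf (nat_lit 0x50304070608010200) (nat_lit 1537))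
) (.node (nat_lit 0x50304070806000201) (.leaf (nat_lit 0x50304070608020001) (nat_lit 1793))
 (.node (nat_lit 0x50304070806010002) (.leaf (nat_lit 0x50304070806000201) (nat_lit 1539))
 (.leaf (nat_lit 0x50304070806010002) (nat_lit 1537))
))) (.node (nat_lit 0x50304080607010002) (.node (nat_lit 0x50304080607000201) (.leaf (nat_lit 0x50304070806020100) (nat_lit 1283))
 (.leaf (nat_lit 0x50304080607000201) (nat_lit 1795))
) (.node (nat_lit 0x50304080607020100) (.leaf (nat_lit 0x50304080607010002) (nat_lit 1793))
 (.node (nat_lit 0x50304080706000102) (.leaf (nat_lit 0x50304080607020100) (nat_lit 1539))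
 (.leaf (nat_lit 0x50304080706000102) (nat_lit 1281))
)))) (.node (nat_lit 0x50403000201060807) (.node (nat_lit 0x50403000102060708) (.node (nat_lit 0x50304080706020001) (.leaf (nat_lit 0x50304080706010200) (nat_lit 1025))
 (.leaf (nat_lit 0x50304080706020001) (nat_lit 1281))
) (.node (nat_lit 0x50403000102070806) (.leaf (nat_lit 0x50403000102060708) (nat_lit 1283))
 (.node (nat_lit 0x50403000102080607) (.leaf (nat_lit 0x50403000102070806) (nat_lit 1027))
 (.leaf (nat_lit 0x50403000102080607) (nat_lit 1283))
))) (.node (nat_lit 0x50403010002060807) (.node (nat_lit 0x50403000201070608) (.leaf (nat_lit 0x50403000201060807) (nat_lit 1027))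
 (.node (nat_lit 0x50403000201080706) (.leaf (nat_lit 0x50403000201070608) (nat_lit 1283))
 (.leaf (nat_lit 0x50403000201080706) (nat_lit 771))
)) (.node (nat_lit 0x50403010002070608) (.leaf (nat_lit 0x50403010002060807) (nat_lit 1283))
 (.node (nat_lit 0x50403010002080706) (.leaf (nat_lit 0x50403010002070608) (nat_lit 1539))
 (.leaf (nat_lit 0x50403010002080706) (nat_lit 1027))
))))))) (.node (nat_lit 0x60708020001040305) (.node (nat_lit 0x50403070806020001) (.node (nat_lit 0x50403060708010200) (.node (nat_lit 0x50403020001080607) (.node (nat_lit 0x50403010200080607) (.node (nat_lit 0x50403010200070806) (.leaf (nat_lit 0x50403010200060708) (nat_lit 1027))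
 (.leaf (nat_lit 0x50403010200070806) (nat_lit 771))
) (.node (nat_lit 0x50403020001060708) (.leaf (nat_lit 0x50403010200080607) (nat_lit 1027))
 (.node (nat_lit 0x50403020001070806) (.leaf (nat_lit 0x50403020001060708) (nat_lit 1283))
 (.leaf (nat_lit 0x50403020001070806) (nat_lit 1027))
))) (.node (nat_lit 0x50403020100070608) (.node (nat_lit 0x50403020100060807) (.leaf (nat_lit 0x50403020001080607) (nat_lit 1283))
 (.leaf (nat_lit 0x50403020100060807) (nat_lit 771))
) (.node (nat_lit 0x50403020100080706) (.leaf (nat_lit 0x50403020100070608) (nat_lit 1027))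
 (.node (nat_lit 0x50403060708000102) (.leaf (nat_lit 0x50403020100080706) (nat_lit 515))
 (.leaf (nat_lit 0x50403060708000102) (nat_lit 1284))
)))) (.node (nat_lit 0x50403070608000201) (.node (nat_lit 0x50403060807000201) (.node (nat_lit 0x50403060708020001) (.leaf (nat_lit 0x50403060708010200) (nat_lit 1028))
 (.leaf (nat_lit 0x50403060708020001) (nat_lit 1284))
) (.node (nat_lit 0x50403060807010002) (.leaf (nat_lit 0x50403060807000201) (nat_lit 1028))
 (.node (nat_lit 0x50403060807020100) (.leaf (nat_lit 0x50403060807010002) (nat_lit 1284))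
 (.leaf (nat_lit 0x50403060807020100) (nat_lit 772))
))) (.node (nat_lit 0x50403070608020100) (.node (nat_lit 0x50403070608010002) (.leaf (nat_lit 0x50403070608000201) (nat_lit 1284))
 (.leaf (nat_lit 0x50403070608010002) (nat_lit 1540))
) (.node (nat_lit 0x50403070806000102) (.leaf (nat_lit 0x50403070608020100) (nat_lit 1028))
 (.node (nat_lit 0x50403070806010200) (.leaf (nat_lit 0x50403070806000102) (nat_lit 1028))
 (.leaf (nat_lit 0x50403070806010200) (nat_lit 772))
))))) (.node (nat_lit 0x60708000201030405) (.node (nat_lit 0x50403080706010002) (.node (nat_lit 0x50403080607010200) (.node (nat_lit 0x50403080607000102) (.leaf (nat_lit 0x50403070806020001) (nat_lit 1028))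
 (.leaf (nat_lit 0x50403080607000102) (nat_lit 1284))
) (.node (nat_lit 0x50403080607020001) (.leaf (nat_lit 0x50403080607010200) (nat_lit 1028))
 (.node (nat_lit 0x50403080706000201) (.leaf (nat_lit 0x50403080607020001) (nat_lit 1284))
 (.leaf (nat_lit 0x50403080706000201) (nat_lit 772))
))) (.node (nat_lit 0x60708000102030504) (.node (nat_lit 0x50403080706020100) (.leaf (nat_lit 0x50403080706010002) (nat_lit 1028))
 (.leaf (nat_lit 0x50403080706020100) (nat_lit 516))
) (.node (nat_lit 0x60708000102040305) (.leaf (nat_lit 0x60708000102030504) (nat_lit 2052))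
 (.node (nat_lit 0x60708000102050403) (.leaf (nat_lit 0x60708000102040305) (nat_lit 2053))
 (.leaf (nat_lit 0x60708000102050403) (nat_lit 1796))
)))) (.node (nat_lit 0x60708010002050304) (.node (nat_lit 0x60708000201050304) (.node (nat_lit 0x60708000201040503) (.leaf (nat_lit 0x60708000201030405) (nat_lit 1795))
 (.leaf (nat_lit 0x60708000201040503) (nat_lit 1539))
) (.node (nat_lit 0x60708010002030405) (.leaf (nat_lit 0x60708000201050304) (nat_lit 1795))
 (.node (nat_lit 0x60708010002040503) (.leaf (nat_lit 0x60708010002030405) (nat_lit 2051))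
 (.leaf (nat_lit 0x60708010002040503) (nat_lit 1795))
))) (.node (nat_lit 0x60708010200040305) (.node (nat_lit 0x60708010200030504) (.leaf (nat_lit 0x60708010002050304) (nat_lit 2051))
 (.leaf (nat_lit 0x60708010200030504) (nat_lit 1796))
) (.node (nat_lit 0x60708010200050403) (.leaf (nat_lit 0x60708010200040305) (nat_lit 1797))
 (.node (nat_lit 0x60708020001030504) (.leaf (nat_lit 0x60708010200050403) (nat_lit 1540))
 (.leaf (nat_lit 0x60708020001030504) (nat_lit 2052))
)))))) (.node (nat_lit 0x60708050403000102) (.node (nat_lit 0x60708030504020001) (.node (nat_lit 0x60708030405000201) (.node (nat_lit 0x60708020100030405) (.node (nat_lit 0x60708020001050403) (.leaf (nat_lit 0x60708020001040305) (nat_lit 2048))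
 (.leaf (nat_lit 0x60708020001050403) (nat_lit 1796))
) (.node (nat_lit 0x60708020100040503) (.leaf (nat_lit 0x60708020100030405) (nat_lit 1539))
 (.node (nat_lit 0x60708020100050304) (.leaf (nat_lit 0x60708020100040503) (nat_lit 1283))
 (.leaf (nat_lit 0x60708020100050304) (nat_lit 1539))
))) (.node (nat_lit 0x60708030405020100) (.node (nat_lit 0x60708030405010002) (.leaf (nat_lit 0x60708030405000201) (nat_lit 1795))
 (.leaf (nat_lit 0x60708030405010002) (nat_lit 2051))
) (.node (nat_lit 0x60708030504000102) (.leaf (nat_lit 0x60708030405020100) (nat_lit 1539))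
 (.node (nat_lit 0x60708030504010200) (.leaf (nat_lit 0x60708030504000102) (nat_lit 1795))
 (.leaf (nat_lit 0x60708030504010200) (nat_lit 1539))
)))) (.node (nat_lit 0x60708040503010002) (.node (nat_lit 0x60708040305010200) (.node (nat_lit 0x60708040305000102) (.leaf (nat_lit 0x60708030504020001) (nat_lit 1795))
 (.leaf (nat_lit 0x60708040305000102) (nat_lit 2051))
) (.node (nat_lit 0x60708040305020001) (.leaf (nat_lit 0x60708040305010200) (nat_lit 1795))
 (.node (nat_lit 0x60708040503000201) (.leaf (nat_lit 0x60708040305020001) (nat_lit 2051))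
 (.leaf (nat_lit 0x60708040503000201) (nat_lit 1539))
))) (.node (nat_lit 0x60708050304000201) (.node (nat_lit 0x60708040503020100) (.leaf (nat_lit 0x60708040503010002) (nat_lit 1795))
 (.leaf (nat_lit 0x60708040503020100) (nat_lit 1283))
) (.node (nat_lit 0x60708050304010002) (.leaf (nat_lit 0x60708050304000201) (nat_lit 1795))
 (.node (nat_lit 0x60708050304020100) (.leaf (nat_lit 0x60708050304010002) (nat_lit 2051))
 (.leaf (nat_lit 0x60708050304020100) (nat_lit 1539))
))))) (.node (nat_lit 0x60807010002040305) (.node (nat_lit 0x60807000102050304) (.node (nat_lit 0x60708050403020001) (.node (nat_lit 0x60708050403010200) (.leaf (nat_lit 0x60708050403000102) (nat_lit 1539))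
 (.leaf (nat_lit 0x60708050403010200) (nat_lit 1283))
) (.node (nat_lit 0x60807000102030405) (.leaf (nat_lit 0x60708050403020001) (nat_lit 1539))
 (.node (nat_lit 0x60807000102040503) (.leaf (nat_lit 0x60807000102030405) (nat_lit 1285))
 (.leaf (nat_lit 0x60807000102040503) (nat_lit 1029))
))) (.node (nat_lit 0x60807000201040305) (.node (nat_lit 0x60807000201030504) (.leaf (nat_lit 0x60807000102050304) (nat_lit 1281))
 (.leaf (nat_lit 0x60807000201030504) (nat_lit 1028))
) (.node (nat_lit 0x60807000201050403) (.leaf (nat_lit 0x60807000201040305) (nat_lit 1284))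
 (.node (nat_lit 0x60807010002030504) (.leaf (nat_lit 0x60807000201050403) (nat_lit 772))
 (.leaf (nat_lit 0x60807010002030504) (nat_lit 1284))
)))) (.node (nat_lit 0x60807020001030405) (.node (nat_lit 0x60807010200030405) (.node (nat_lit 0x60807010002050403) (.leaf (nat_lit 0x60807010002040305) (nat_lit 1540))
 (.leaf (nat_lit 0x60807010002050403) (nat_lit 1028))
) (.node (nat_lit 0x60807010200040503) (.leaf (nat_lit 0x60807010200030405) (nat_lit 1029))
 (.node (nat_lit 0x60807010200050304) (.leaf (nat_lit 0x60807010200040503) (nat_lit 773))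
 (.leaf (nat_lit 0x60807010200050304) (nat_lit 1025))
))) (.node (nat_lit 0x60807020100030504) (.node (nat_lit 0x60807020001040503) (.leaf (nat_lit 0x60807020001030405) (nat_lit 1280))
 (.node (nat_lit 0x60807020001050304) (.leaf (nat_lit 0x60807020001040503) (nat_lit 1024))
 (.leaf (nat_lit 0x60807020001050304) (nat_lit 1281))
)) (.node (nat_lit 0x60807020100040305) (.leaf (nat_lit 0x60807020100030504) (nat_lit 772))
 (.node (nat_lit 0x60807020100050403) (.leaf (nat_lit 0x60807020100040305) (nat_lit 1028))
 (.leaf (nat_lit 0x60807020100050403) (nat_lit 516))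
)))))))) (.node (nat_lit 0x70806040503000201) (.node (nat_lit 0x70608030504010002) (.node (nat_lit 0x70608000102050304) (.node (nat_lit 0x60807040503010200) (.node (nat_lit 0x60807030504020100) (.node (nat_lit 0x60807030405020001) (.node (nat_lit 0x60807030405010200) (.leaf (nat_lit 0x60807030405000102) (nat_lit 1029))
 (.leaf (nat_lit 0x60807030405010200) (nat_lit 773))
) (.node (nat_lit 0x60807030504000201) (.leaf (nat_lit 0x60807030405020001) (nat_lit 1024))
 (.node (nat_lit 0x60807030504010002) (.leaf (nat_lit 0x60807030504000201) (nat_lit 770))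
 (.leaf (nat_lit 0x60807030504010002) (nat_lit 1026))
))) (.node (nat_lit 0x60807040305010002) (.node (nat_lit 0x60807040305000201) (.leaf (nat_lit 0x60807030504020100) (nat_lit 514))
 (.leaf (nat_lit 0x60807040305000201) (nat_lit 1026))
) (.node (nat_lit 0x60807040305020100) (.leaf (nat_lit 0x60807040305010002) (nat_lit 1282))
 (.node (nat_lit 0x60807040503000102) (.leaf (nat_lit 0x60807040305020100) (nat_lit 770))
 (.leaf (nat_lit 0x60807040503000102) (nat_lit 773))
)))) (.node (nat_lit 0x60807050403000201) (.node (nat_lit 0x60807050304000102) (.node (nat_lit 0x60807040503020001) (.leaf (nat_lit 0x60807040503010200) (nat_lit 517))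
 (.leaf (nat_lit 0x60807040503020001) (nat_lit 768))
) (.node (nat_lit 0x60807050304010200) (.leaf (nat_lit 0x60807050304000102) (nat_lit 1025))
 (.node (nat_lit 0x60807050304020001) (.leaf (nat_lit 0x60807050304010200) (nat_lit 769))
 (.leaf (nat_lit 0x60807050304020001) (nat_lit 1025))
))) (.node (nat_lit 0x60807050403020100) (.node (nat_lit 0x60807050403010002) (.leaf (nat_lit 0x60807050403000201) (nat_lit 514))
 (.leaf (nat_lit 0x60807050403010002) (nat_lit 770))
) (.node (nat_lit 0x70608000102030405) (.leaf (nat_lit 0x60807050403020100) (nat_lit 258))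
 (.node (nat_lit 0x70608000102040503) (.leaf (nat_lit 0x70608000102030405) (nat_lit 1541))
 (.leaf (nat_lit 0x70608000102040503) (nat_lit 1285))
))))) (.node (nat_lit 0x70608020001030405) (.node (nat_lit 0x70608010002040305) (.node (nat_lit 0x70608000201040305) (.node (nat_lit 0x70608000201030504) (.leaf (nat_lit 0x70608000102050304) (nat_lit 1537))
 (.leaf (nat_lit 0x70608000201030504) (nat_lit 1284))
) (.node (nat_lit 0x70608000201050403) (.leaf (nat_lit 0x70608000201040305) (nat_lit 1540))
 (.node (nat_lit 0x70608010002030504) (.leaf (nat_lit 0x70608000201050403) (nat_lit 1028))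
 (.leaf (nat_lit 0x70608010002030504) (nat_lit 1540))
))) (.node (nat_lit 0x70608010200030405) (.node (nat_lit 0x70608010002050403) (.leaf (nat_lit 0x70608010002040305) (nat_lit 1796))
 (.leaf (nat_lit 0x70608010002050403) (nat_lit 1284))
) (.node (nat_lit 0x70608010200040503) (.leaf (nat_lit 0x70608010200030405) (nat_lit 1285))
 (.node (nat_lit 0x70608010200050304) (.leaf (nat_lit 0x70608010200040503) (nat_lit 1029))
 (.leaf (nat_lit 0x70608010200050304) (nat_lit 1281))
)))) (.node (nat_lit 0x70608020100050403) (.node (nat_lit 0x70608020001050304) (.node (nat_lit 0x70608020001040503) (.leaf (nat_lit 0x70608020001030405) (nat_lit 1536))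
 (.leaf (nat_lit 0x70608020001040503) (nat_lit 1280))
) (.node (nat_lit 0x70608020100030504) (.leaf (nat_lit 0x70608020001050304) (nat_lit 1537))
 (.node (nat_lit 0x70608020100040305) (.leaf (nat_lit 0x70608020100030504) (nat_lit 1028))
 (.leaf (nat_lit 0x70608020100040305) (nat_lit 1284))
))) (.node (nat_lit 0x70608030405010200) (.node (nat_lit 0x70608030405000102) (.leaf (nat_lit 0x70608020100050403) (nat_lit 772))
 (.leaf (nat_lit 0x70608030405000102) (nat_lit 1285))
) (.node (nat_lit 0x70608030405020001) (.leaf (nat_lit 0x70608030405010200) (nat_lit 1029))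
 (.node (nat_lit 0x70608030504000201) (.leaf (nat_lit 0x70608030405020001) (nat_lit 1280))
 (.leaf (nat_lit 0x70608030504000201) (nat_lit 1026))
)))))) (.node (nat_lit 0x70806010002030405) (.node (nat_lit 0x70608050304020001) (.node (nat_lit 0x70608040503000102) (.node (nat_lit 0x70608040305000201) (.node (nat_lit 0x70608030504020100) (.leaf (nat_lit 0x70608030504010002) (nat_lit 1282))
 (.leaf (nat_lit 0x70608030504020100) (nat_lit 770))
) (.node (nat_lit 0x70608040305010002) (.leaf (nat_lit 0x70608040305000201) (nat_lit 1282))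
 (.node (nat_lit 0x70608040305020100) (.leaf (nat_lit 0x70608040305010002) (nat_lit 1538))
 (.leaf (nat_lit 0x70608040305020100) (nat_lit 1026))
))) (.node (nat_lit 0x70608040503020001) (.node (nat_lit 0x70608040503010200) (.leaf (nat_lit 0x70608040503000102) (nat_lit 1029))
 (.leaf (nat_lit 0x70608040503010200) (nat_lit 773))
) (.node (nat_lit 0x70608050304000102) (.leaf (nat_lit 0x70608040503020001) (nat_lit 1024))
 (.node (nat_lit 0x70608050304010200) (.leaf (nat_lit 0x70608050304000102) (nat_lit 1281))
 (.leaf (nat_lit 0x70608050304010200) (nat_lit 1025))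
)))) (.node (nat_lit 0x70806000102040305) (.node (nat_lit 0x70608050403010002) (.node (nat_lit 0x70608050403000201) (.leaf (nat_lit 0x70608050304020001) (nat_lit 1281))
 (.leaf (nat_lit 0x70608050403000201) (nat_lit 770))
) (.node (nat_lit 0x70608050403020100) (.leaf (nat_lit 0x70608050403010002) (nat_lit 1026))
 (.node (nat_lit 0x70806000102030504) (.leaf (nat_lit 0x70608050403020100) (nat_lit 514))
 (.leaf (nat_lit 0x70806000102030504) (nat_lit 1796))
))) (.node (nat_lit 0x70806000201030405) (.node (nat_lit 0x70806000102050403) (.leaf (nat_lit 0x70806000102040305) (nat_lit 1797))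
 (.leaf (nat_lit 0x70806000102050403) (nat_lit 1540))
) (.node (nat_lit 0x70806000201040503) (.leaf (nat_lit 0x70806000201030405) (nat_lit 1539))
 (.node (nat_lit 0x70806000201050304) (.leaf (nat_lit 0x70806000201040503) (nat_lit 1283))
 (.leaf (nat_lit 0x70806000201050304) (nat_lit 1539))
))))) (.node (nat_lit 0x70806020100040503) (.node (nat_lit 0x70806010200050403) (.node (nat_lit 0x70806010002050304) (.node (nat_lit 0x70806010002040503) (.leaf (nat_lit 0x70806010002030405) (nat_lit 1795))
 (.leaf (nat_lit 0x70806010002040503) (nat_lit 1539))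
) (.node (nat_lit 0x70806010200030504) (.leaf (nat_lit 0x70806010002050304) (nat_lit 1795))
 (.node (nat_lit 0x70806010200040305) (.leaf (nat_lit 0x70806010200030504) (nat_lit 1540))
 (.leaf (nat_lit 0x70806010200040305) (nat_lit 1541))
))) (.node (nat_lit 0x70806020001040305) (.node (nat_lit 0x70806020001030504) (.leaf (nat_lit 0x70806010200050403) (nat_lit 1284))
 (.leaf (nat_lit 0x70806020001030504) (nat_lit 1796))
) (.node (nat_lit 0x70806020001050403) (.leaf (nat_lit 0x70806020001040305) (nat_lit 1792))
 (.node (nat_lit 0x70806020100030405) (.leaf (nat_lit 0x70806020001050403) (nat_lit 1540))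
 (.leaf (nat_lit 0x70806020100030405) (nat_lit 1283))
)))) (.node (nat_lit 0x70806030504000102) (.node (nat_lit 0x70806030405000201) (.node (nat_lit 0x70806020100050304) (.leaf (nat_lit 0x70806020100040503) (nat_lit 1027))
 (.leaf (nat_lit 0x70806020100050304) (nat_lit 1283))
) (.node (nat_lit 0x70806030405010002) (.leaf (nat_lit 0x70806030405000201) (nat_lit 1539))
 (.node (nat_lit 0x70806030405020100) (.leaf (nat_lit 0x70806030405010002) (nat_lit 1795))
 (.leaf (nat_lit 0x70806030405020100) (nat_lit 1283))
))) (.node (nat_lit 0x70806040305000102) (.node (nat_lit 0x70806030504010200) (.leaf (nat_lit 0x70806030504000102) (nat_lit 1539))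
 (.node (nat_lit 0x70806030504020001) (.leaf (nat_lit 0x70806030504010200) (nat_lit 1283))
 (.leaf (nat_lit 0x70806030504020001) (nat_lit 1539))
)) (.node (nat_lit 0x70806040305010200) (.leaf (nat_lit 0x70806040305000102) (nat_lit 1795))
 (.node (nat_lit 0x70806040305020001) (.leaf (nat_lit 0x70806040305010200) (nat_lit 1539))
 (.leaf (nat_lit 0x70806040305020001) (nat_lit 1795))
))))))) (.node (nat_lit 0x80607050304010002) (.node (nat_lit 0x80607010200050403) (.node (nat_lit 0x80607000102040305) (.node (nat_lit 0x70806050304020100) (.node (nat_lit 0x70806040503020100) (.node (nat_lit 0x70806040503010002) (.leaf (nat_lit 0x70806040503000201) (nat_lit 1283))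
 (.leaf (nat_lit 0x70806040503010002) (nat_lit 1539))
) (.node (nat_lit 0x70806050304000201) (.leaf (nat_lit 0x70806040503020100) (nat_lit 1027))
 (.node (nat_lit 0x70806050304010002) (.leaf (nat_lit 0x70806050304000201) (nat_lit 1539))
 (.leaf (nat_lit 0x70806050304010002) (nat_lit 1795))
))) (.node (nat_lit 0x70806050403010200) (.node (nat_lit 0x70806050403000102) (.leaf (nat_lit 0x70806050304020100) (nat_lit 1283))
 (.leaf (nat_lit 0x70806050403000102) (nat_lit 1283))
) (.node (nat_lit 0x70806050403020001) (.leaf (nat_lit 0x70806050403010200) (nat_lit 1027))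
 (.node (nat_lit 0x80607000102030504) (.leaf (nat_lit 0x70806050403020001) (nat_lit 1283))
 (.leaf (nat_lit 0x80607000102030504) (nat_lit 2052))
)))) (.node (nat_lit 0x80607010002030405) (.node (nat_lit 0x80607000201030405) (.node (nat_lit 0x80607000102050403) (.leaf (nat_lit 0x80607000102040305) (nat_lit 2053))
 (.leaf (nat_lit 0x80607000102050403) (nat_lit 1796))
) (.node (nat_lit 0x80607000201040503) (.leaf (nat_lit 0x80607000201030405) (nat_lit 1795))
 (.node (nat_lit 0x80607000201050304) (.leaf (nat_lit 0x80607000201040503) (nat_lit 1539))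
 (.leaf (nat_lit 0x80607000201050304) (nat_lit 1795))
))) (.node (nat_lit 0x80607010002050304) (.node (nat_lit 0x80607010002040503) (.leaf (nat_lit 0x80607010002030405) (nat_lit 2051))
 (.leaf (nat_lit 0x80607010002040503) (nat_lit 1795))
) (.node (nat_lit 0x80607010200030504) (.leaf (nat_lit 0x80607010002050304) (nat_lit 2051))
 (.node (nat_lit 0x80607010200040305) (.leaf (nat_lit 0x80607010200030504) (nat_lit 1796))
 (.leaf (nat_lit 0x80607010200040305) (nat_lit 1797))
))))) (.node (nat_lit 0x80607030504000102) (.node (nat_lit 0x80607020100040503) (.node (nat_lit 0x80607020001040305) (.node (nat_lit 0x80607020001030504) (.leaf (nat_lit 0x80607010200050403) (nat_lit 1540))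
 (.leaf (nat_lit 0x80607020001030504) (nat_lit 2052))
) (.node (nat_lit 0x80607020001050403) (.leaf (nat_lit 0x80607020001040305) (nat_lit 2048))
 (.node (nat_lit 0x80607020100030405) (.leaf (nat_lit 0x80607020001050403) (nat_lit 1796))
 (.leaf (nat_lit 0x80607020100030405) (nat_lit 1539))
))) (.node (nat_lit 0x80607030405000201) (.node (nat_lit 0x80607020100050304) (.leaf (nat_lit 0x80607020100040503) (nat_lit 1283))
 (.leaf (nat_lit 0x80607020100050304) (nat_lit 1539))
) (.node (nat_lit 0x80607030405010002) (.leaf (nat_lit 0x80607030405000201) (nat_lit 1795))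
 (.node (nat_lit 0x80607030405020100) (.leaf (nat_lit 0x80607030405010002) (nat_lit 2051))
 (.leaf (nat_lit 0x80607030405020100) (nat_lit 1539))
)))) (.node (nat_lit 0x80607040305020001) (.node (nat_lit 0x80607030504020001) (.node (nat_lit 0x80607030504010200) (.leaf (nat_lit 0x80607030504000102) (nat_lit 1795))
 (.leaf (nat_lit 0x80607030504010200) (nat_lit 1539))
) (.node (nat_lit 0x80607040305000102) (.leaf (nat_lit 0x80607030504020001) (nat_lit 1795))
 (.node (nat_lit 0x80607040305010200) (.leaf (nat_lit 0x80607040305000102) (nat_lit 2051))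
 (.leaf (nat_lit 0x80607040305010200) (nat_lit 1795))
))) (.node (nat_lit 0x80607040503010002) (.node (nat_lit 0x80607040503000201) (.leaf (nat_lit 0x80607040305020001) (nat_lit 2051))
 (.leaf (nat_lit 0x80607040503000201) (nat_lit 1539))
) (.node (nat_lit 0x80607040503020100) (.leaf (nat_lit 0x80607040503010002) (nat_lit 1795))
 (.node (nat_lit 0x80607050304000201) (.leaf (nat_lit 0x80607040503020100) (nat_lit 1283))
 (.leaf (nat_lit 0x80607050304000201) (nat_lit 1795))
)))))) (.node (nat_lit 0x80706020100030504) (.node (nat_lit 0x80706000201050403) (.node (nat_lit 0x80706000102030405) (.node (nat_lit 0x80607050403000102) (.node (nat_lit 0x80607050304020100) (.leaf (nat_lit 0x80607050304010002) (nat_lit 2051))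
 (.leaf (nat_lit 0x80607050304020100) (nat_lit 1539))
) (.node (nat_lit 0x80607050403010200) (.leaf (nat_lit 0x80607050403000102) (nat_lit 1539))
 (.node (nat_lit 0x80607050403020001) (.leaf (nat_lit 0x80607050403010200) (nat_lit 1283))
 (.leaf (nat_lit 0x80607050403020001) (nat_lit 1539))
))) (.node (nat_lit 0x80706000102050304) (.node (nat_lit 0x80706000102040503) (.leaf (nat_lit 0x80706000102030405) (nat_lit 1029))
 (.leaf (nat_lit 0x80706000102040503) (nat_lit 773))
) (.node (nat_lit 0x80706000201030504) (.leaf (nat_lit 0x80706000102050304) (nat_lit 1025))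
 (.node (nat_lit 0x80706000201040305) (.leaf (nat_lit 0x80706000201030504) (nat_lit 772))
 (.leaf (nat_lit 0x80706000201040305) (nat_lit 1028))
)))) (.node (nat_lit 0x80706010200040503) (.node (nat_lit 0x80706010002040305) (.node (nat_lit 0x80706010002030504) (.leaf (nat_lit 0x80706000201050403) (nat_lit 516))
 (.leaf (nat_lit 0x80706010002030504) (nat_lit 1028))
) (.node (nat_lit 0x80706010002050403) (.leaf (nat_lit 0x80706010002040305) (nat_lit 1284))
 (.node (nat_lit 0x80706010200030405) (.leaf (nat_lit 0x80706010002050403) (nat_lit 772))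
 (.leaf (nat_lit 0x80706010200030405) (nat_lit 773))
))) (.node (nat_lit 0x80706020001030405) (.node (nat_lit 0x80706010200050304) (.leaf (nat_lit 0x80706010200040503) (nat_lit 517))
 (.leaf (nat_lit 0x80706010200050304) (nat_lit 769))
) (.node (nat_lit 0x80706020001040503) (.leaf (nat_lit 0x80706020001030405) (nat_lit 1024))
 (.node (nat_lit 0x80706020001050304) (.leaf (nat_lit 0x80706020001040503) (nat_lit 768))
 (.leaf (nat_lit 0x80706020001050304) (nat_lit 1025))
))))) (.node (nat_lit 0x80706040305010002) (.node (nat_lit 0x80706030405020001) (.node (nat_lit 0x80706020100050403) (.node (nat_lit 0x80706020100040305) (.leaf (nat_lit 0x80706020100030504) (nat_lit 516))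
 (.leaf (nat_lit 0x80706020100040305) (nat_lit 772))
) (.node (nat_lit 0x80706030405000102) (.leaf (nat_lit 0x80706020100050403) (nat_lit 260))
 (.node (nat_lit 0x80706030405010200) (.leaf (nat_lit 0x80706030405000102) (nat_lit 773))
 (.leaf (nat_lit 0x80706030405010200) (nat_lit 517))
))) (.node (nat_lit 0x80706030504010002) (.node (nat_lit 0x80706030504000201) (.leaf (nat_lit 0x80706030405020001) (nat_lit 768))
 (.leaf (nat_lit 0x80706030504000201) (nat_lit 513))
) (.node (nat_lit 0x80706030504020100) (.leaf (nat_lit 0x80706030504010002) (nat_lit 769))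
 (.node (nat_lit 0x80706040305000201) (.leaf (nat_lit 0x80706030504020100) (nat_lit 257))
 (.leaf (nat_lit 0x80706040305000201) (nat_lit 769))
)))) (.node (nat_lit 0x80706050304000102) (.node (nat_lit 0x80706040503000102) (.node (nat_lit 0x80706040305020100) (.leaf (nat_lit 0x80706040305010002) (nat_lit 1025))
 (.leaf (nat_lit 0x80706040305020100) (nat_lit 513))
) (.node (nat_lit 0x80706040503010200) (.leaf (nat_lit 0x80706040503000102) (nat_lit 517))
 (.node (nat_lit 0x80706040503020001) (.leaf (nat_lit 0x80706040503010200) (nat_lit 261))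
 (.leaf (nat_lit 0x80706040503020001) (nat_lit 512))
))) (.node (nat_lit 0x80706050403000201) (.node (nat_lit 0x80706050304010200) (.leaf (nat_lit 0x80706050304000102) (nat_lit 769))
 (.node (nat_lit 0x80706050304020001) (.leaf (nat_lit 0x80706050304010200) (nat_lit 513))
 (.leaf (nat_lit 0x80706050304020001) (nat_lit 769))
)) (.node (nat_lit 0x80706050403010002) (.leaf (nat_lit 0x80706050403000201) (nat_lit 256))
 (.node (nat_lit 0x80706050403020100) (.leaf (nat_lit 0x80706050403010002) (nat_lit 512))
 (.leaf (nat_lit 0x80706050403020100) (nat_lit 0))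
))))))))))

theorem ME_ok : genOK A9 [(nat_lit 0x80706050403000201), (nat_lit 0x80706030504020100), (nat_lit 0x60807050403020100), (nat_lit 0x20100080706050403), (nat_lit 0x80706020100050403), (nat_lit 0x80706040503010200)] ME_t (nat_lit 648) = true := by decide +kernel

noncomputable def MD_t : ST :=
(.node (nat_lit 0x40503000102060708) (.node (nat_lit 0x20001060708030405) (.node (nat_lit 0x10002040503060708) (.node (nat_lit 0x201030504070806) (.node (nat_lit 0x102060708050304) (.node (nat_lit 0x102040503070608) (.node (nat_lit 0x102030504080607) (.node (nat_lit 0x102030405080706) (.node (nat_lit 0x102030405070608) (.node (nat_lit 0x102030405060807) (.leaf (nat_lit 0x102030405060708) (nat_lit 2309))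
 (.leaf (nat_lit 0x102030405060807) (nat_lit 2052))
) (.node (nat_lit 0x102030405070806) (.leaf (nat_lit 0x102030405070608) (nat_lit 2308))
 (.node (nat_lit 0x102030405080607) (.leaf (nat_lit 0x102030405070806) (nat_lit 2053))
 (.leaf (nat_lit 0x102030405080607) (nat_lit 2306))
))) (.node (nat_lit 0x102030504060807) (.node (nat_lit 0x102030504060708) (.leaf (nat_lit 0x102030405080706) (nat_lit 1796))
 (.leaf (nat_lit 0x102030504060708) (nat_lit 1797))
) (.node (nat_lit 0x102030504070608) (.leaf (nat_lit 0x102030504060807) (nat_lit 1539))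
 (.node (nat_lit 0x102030504070806) (.leaf (nat_lit 0x102030504070608) (nat_lit 1795))
 (.leaf (nat_lit 0x102030504070806) (nat_lit 1541))
)))) (.node (nat_lit 0x102040305070806) (.node (nat_lit 0x102040305060708) (.node (nat_lit 0x102030504080706) (.leaf (nat_lit 0x102030504080607) (nat_lit 1794))
 (.leaf (nat_lit 0x102030504080706) (nat_lit 1283))
) (.node (nat_lit 0x102040305060807) (.leaf (nat_lit 0x102040305060708) (nat_lit 2053))
 (.node (nat_lit 0x102040305070608) (.leaf (nat_lit 0x102040305060807) (nat_lit 1795))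
 (.leaf (nat_lit 0x102040305070608) (nat_lit 2051))
))) (.node (nat_lit 0x102040305080706) (.node (nat_lit 0x102040305080607) (.leaf (nat_lit 0x102040305070806) (nat_lit 1797))
 (.leaf (nat_lit 0x102040305080607) (nat_lit 2050))
) (.node (nat_lit 0x102040503060708) (.leaf (nat_lit 0x102040305080706) (nat_lit 1539))
 (.node (nat_lit 0x102040503060807) (.leaf (nat_lit 0x102040503060708) (nat_lit 2053))
 (.leaf (nat_lit 0x102040503060807) (nat_lit 1796))
))))) (.node (nat_lit 0x102050403060708) (.node (nat_lit 0x102050304060807) (.node (nat_lit 0x102040503080607) (.node (nat_lit 0x102040503070806) (.leaf (nat_lit 0x102040503070608) (nat_lit 2052))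
 (.leaf (nat_lit 0x102040503070806) (nat_lit 1797))
) (.node (nat_lit 0x102040503080706) (.leaf (nat_lit 0x102040503080607) (nat_lit 2050))
 (.node (nat_lit 0x102050304060708) (.leaf (nat_lit 0x102040503080706) (nat_lit 1540))
 (.leaf (nat_lit 0x102050304060708) (nat_lit 2309))
))) (.node (nat_lit 0x102050304070806) (.node (nat_lit 0x102050304070608) (.leaf (nat_lit 0x102050304060807) (nat_lit 2052))
 (.leaf (nat_lit 0x102050304070608) (nat_lit 2308))
) (.node (nat_lit 0x102050304080607) (.leaf (nat_lit 0x102050304070806) (nat_lit 2053))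
 (.node (nat_lit 0x102050304080706) (.leaf (nat_lit 0x102050304080607) (nat_lit 2306))
 (.leaf (nat_lit 0x102050304080706) (nat_lit 1796))
)))) (.node (nat_lit 0x102050403080706) (.node (nat_lit 0x102050403070608) (.node (nat_lit 0x102050403060807) (.leaf (nat_lit 0x102050403060708) (nat_lit 1541))
 (.leaf (nat_lit 0x102050403060807) (nat_lit 1283))
) (.node (nat_lit 0x102050403070806) (.leaf (nat_lit 0x102050403070608) (nat_lit 1539))
 (.node (nat_lit 0x102050403080607) (.leaf (nat_lit 0x102050403070806) (nat_lit 1285))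
 (.leaf (nat_lit 0x102050403080607) (nat_lit 1538))
))) (.node (nat_lit 0x102060708030504) (.node (nat_lit 0x102060708030405) (.leaf (nat_lit 0x102050403080706) (nat_lit 1027))
 (.leaf (nat_lit 0x102060708030405) (nat_lit 2565))
) (.node (nat_lit 0x102060708040305) (.leaf (nat_lit 0x102060708030504) (nat_lit 1541))
 (.node (nat_lit 0x102060708040503) (.leaf (nat_lit 0x102060708040305) (nat_lit 1797))
 (.leaf (nat_lit 0x102060708040503) (nat_lit 2309))
)))))) (.node (nat_lit 0x102080607030405) (.node (nat_lit 0x102070608040305) (.node (nat_lit 0x102060807040503) (.node (nat_lit 0x102060807030405) (.node (nat_lit 0x102060708050403) (.leaf (nat_lit 0x102060708050304) (nat_lit 2565))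
 (.leaf (nat_lit 0x102060708050403) (nat_lit 1285))
) (.node (nat_lit 0x102060807030504) (.leaf (nat_lit 0x102060807030405) (nat_lit 2307))
 (.node (nat_lit 0x102060807040305) (.leaf (nat_lit 0x102060807030504) (nat_lit 1283))
 (.leaf (nat_lit 0x102060807040305) (nat_lit 1539))
))) (.node (nat_lit 0x102060807050403) (.node (nat_lit 0x102060807050304) (.leaf (nat_lit 0x102060807040503) (nat_lit 2051))
 (.leaf (nat_lit 0x102060807050304) (nat_lit 2307))
) (.node (nat_lit 0x102070608030405) (.leaf (nat_lit 0x102060807050403) (nat_lit 1027))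
 (.node (nat_lit 0x102070608030504) (.leaf (nat_lit 0x102070608030405) (nat_lit 2563))
 (.leaf (nat_lit 0x102070608030504) (nat_lit 1539))
)))) (.node (nat_lit 0x102070806030504) (.node (nat_lit 0x102070608050304) (.node (nat_lit 0x102070608040503) (.leaf (nat_lit 0x102070608040305) (nat_lit 1795))
 (.leaf (nat_lit 0x102070608040503) (nat_lit 2307))
) (.node (nat_lit 0x102070608050403) (.leaf (nat_lit 0x102070608050304) (nat_lit 2563))
 (.node (nat_lit 0x102070806030405) (.leaf (nat_lit 0x102070608050403) (nat_lit 1283))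
 (.leaf (nat_lit 0x102070806030405) (nat_lit 2309))
))) (.node (nat_lit 0x102070806040503) (.node (nat_lit 0x102070806040305) (.leaf (nat_lit 0x102070806030504) (nat_lit 1285))
 (.leaf (nat_lit 0x102070806040305) (nat_lit 1541))
) (.node (nat_lit 0x102070806050304) (.leaf (nat_lit 0x102070806040503) (nat_lit 2053))
 (.node (nat_lit 0x102070806050403) (.leaf (nat_lit 0x102070806050304) (nat_lit 2309))
 (.leaf (nat_lit 0x102070806050403) (nat_lit 1029))
))))) (.node (nat_lit 0x102080706050304) (.node (nat_lit 0x102080607050403) (.node (nat_lit 0x102080607040305) (.node (nat_lit 0x102080607030504) (.leaf (nat_lit 0x102080607030405) (nat_lit 2562))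
 (.leaf (nat_lit 0x102080607030504) (nat_lit 1538))
) (.node (nat_lit 0x102080607040503) (.leaf (nat_lit 0x102080607040305) (nat_lit 1794))
 (.node (nat_lit 0x102080607050304) (.leaf (nat_lit 0x102080607040503) (nat_lit 2306))
 (.leaf (nat_lit 0x102080607050304) (nat_lit 2562))
))) (.node (nat_lit 0x102080706030504) (.node (nat_lit 0x102080706030405) (.leaf (nat_lit 0x102080607050403) (nat_lit 1282))
 (.leaf (nat_lit 0x102080706030405) (nat_lit 2051))
) (.node (nat_lit 0x102080706040305) (.leaf (nat_lit 0x102080706030504) (nat_lit 1027))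
 (.node (nat_lit 0x102080706040503) (.leaf (nat_lit 0x102080706040305) (nat_lit 1283))
 (.leaf (nat_lit 0x102080706040503) (nat_lit 1795))
)))) (.node (nat_lit 0x201030405070806) (.node (nat_lit 0x201030405060708) (.node (nat_lit 0x102080706050403) (.leaf (nat_lit 0x102080706050304) (nat_lit 2051))
 (.leaf (nat_lit 0x102080706050403) (nat_lit 771))
) (.node (nat_lit 0x201030405060807) (.leaf (nat_lit 0x201030405060708) (nat_lit 2053))
 (.node (nat_lit 0x201030405070608) (.leaf (nat_lit 0x201030405060807) (nat_lit 1796))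
 (.leaf (nat_lit 0x201030405070608) (nat_lit 2052))
))) (.node (nat_lit 0x201030504060708) (.node (nat_lit 0x201030405080607) (.leaf (nat_lit 0x201030405070806) (nat_lit 1797))
 (.node (nat_lit 0x201030405080706) (.leaf (nat_lit 0x201030405080607) (nat_lit 2050))
 (.leaf (nat_lit 0x201030405080706) (nat_lit 1540))
)) (.node (nat_lit 0x201030504060807) (.leaf (nat_lit 0x201030504060708) (nat_lit 1541))
 (.node (nat_lit 0x201030504070608) (.leaf (nat_lit 0x201030504060807) (nat_lit 1283))
 (.leaf (nat_lit 0x201030504070608) (nat_lit 1539))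
))))))) (.node (nat_lit 0x201070608030504) (.node (nat_lit 0x201050304080706) (.node (nat_lit 0x201040503060807) (.node (nat_lit 0x201040305070608) (.node (nat_lit 0x201030504080706) (.node (nat_lit 0x201030504080607) (.leaf (nat_lit 0x201030504070806) (nat_lit 1285))
 (.leaf (nat_lit 0x201030504080607) (nat_lit 1538))
) (.node (nat_lit 0x201040305060708) (.leaf (nat_lit 0x201030504080706) (nat_lit 1027))
 (.node (nat_lit 0x201040305060807) (.leaf (nat_lit 0x201040305060708) (nat_lit 1797))
 (.leaf (nat_lit 0x201040305060807) (nat_lit 1539))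
))) (.node (nat_lit 0x201040305080607) (.node (nat_lit 0x201040305070806) (.leaf (nat_lit 0x201040305070608) (nat_lit 1795))
 (.leaf (nat_lit 0x201040305070806) (nat_lit 1541))
) (.node (nat_lit 0x201040305080706) (.leaf (nat_lit 0x201040305080607) (nat_lit 1794))
 (.node (nat_lit 0x201040503060708) (.leaf (nat_lit 0x201040305080706) (nat_lit 1283))
 (.leaf (nat_lit 0x201040503060708) (nat_lit 1797))
)))) (.node (nat_lit 0x201050304060708) (.node (nat_lit 0x201040503070806) (.node (nat_lit 0x201040503070608) (.leaf (nat_lit 0x201040503060807) (nat_lit 1540))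
 (.leaf (nat_lit 0x201040503070608) (nat_lit 1796))
) (.node (nat_lit 0x201040503080607) (.leaf (nat_lit 0x201040503070806) (nat_lit 1541))
 (.node (nat_lit 0x201040503080706) (.leaf (nat_lit 0x201040503080607) (nat_lit 1794))
 (.leaf (nat_lit 0x201040503080706) (nat_lit 1284))
))) (.node (nat_lit 0x201050304070608) (.node (nat_lit 0x201050304060807) (.leaf (nat_lit 0x201050304060708) (nat_lit 2053))
 (.leaf (nat_lit 0x201050304060807) (nat_lit 1796))
) (.node (nat_lit 0x201050304070806) (.leaf (nat_lit 0x201050304070608) (nat_lit 2052))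
 (.node (nat_lit 0x201050304080607) (.leaf (nat_lit 0x201050304070806) (nat_lit 1797))
 (.leaf (nat_lit 0x201050304080607) (nat_lit 2050))
))))) (.node (nat_lit 0x201060708040503) (.node (nat_lit 0x201050403080607) (.node (nat_lit 0x201050403060807) (.node (nat_lit 0x201050403060708) (.leaf (nat_lit 0x201050304080706) (nat_lit 1540))
 (.leaf (nat_lit 0x201050403060708) (nat_lit 1285))
) (.node (nat_lit 0x201050403070608) (.leaf (nat_lit 0x201050403060807) (nat_lit 1027))
 (.node (nat_lit 0x201050403070806) (.leaf (nat_lit 0x201050403070608) (nat_lit 1283))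
 (.leaf (nat_lit 0x201050403070806) (nat_lit 1029))
))) (.node (nat_lit 0x201060708030405) (.node (nat_lit 0x201050403080706) (.leaf (nat_lit 0x201050403080607) (nat_lit 1282))
 (.leaf (nat_lit 0x201050403080706) (nat_lit 771))
) (.node (nat_lit 0x201060708030504) (.leaf (nat_lit 0x201060708030405) (nat_lit 2309))
 (.node (nat_lit 0x201060708040305) (.leaf (nat_lit 0x201060708030504) (nat_lit 1285))
 (.leaf (nat_lit 0x201060708040305) (nat_lit 1541))
)))) (.node (nat_lit 0x201060807040305) (.node (nat_lit 0x201060708050403) (.node (nat_lit 0x201060708050304) (.leaf (nat_lit 0x201060708040503) (nat_lit 2053))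
 (.leaf (nat_lit 0x201060708050304) (nat_lit 2309))
) (.node (nat_lit 0x201060807030405) (.leaf (nat_lit 0x201060708050403) (nat_lit 1029))
 (.node (nat_lit 0x201060807030504) (.leaf (nat_lit 0x201060807030405) (nat_lit 2051))
 (.leaf (nat_lit 0x201060807030504) (nat_lit 1027))
))) (.node (nat_lit 0x201060807050304) (.node (nat_lit 0x201060807040503) (.leaf (nat_lit 0x201060807040305) (nat_lit 1283))
 (.leaf (nat_lit 0x201060807040503) (nat_lit 1795))
) (.node (nat_lit 0x201060807050403) (.leaf (nat_lit 0x201060807050304) (nat_lit 2051))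
 (.node (nat_lit 0x201070608030405) (.leaf (nat_lit 0x201060807050403) (nat_lit 771))
 (.leaf (nat_lit 0x201070608030405) (nat_lit 2307))
)))))) (.node (nat_lit 0x201080706040503) (.node (nat_lit 0x201070806050403) (.node (nat_lit 0x201070806030405) (.node (nat_lit 0x201070608040503) (.node (nat_lit 0x201070608040305) (.leaf (nat_lit 0x201070608030504) (nat_lit 1283))
 (.leaf (nat_lit 0x201070608040305) (nat_lit 1539))
) (.node (nat_lit 0x201070608050304) (.leaf (nat_lit 0x201070608040503) (nat_lit 2051))
 (.node (nat_lit 0x201070608050403) (.leaf (nat_lit 0x201070608050304) (nat_lit 2307))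
 (.leaf (nat_lit 0x201070608050403) (nat_lit 1027))
))) (.node (nat_lit 0x201070806040305) (.node (nat_lit 0x201070806030504) (.leaf (nat_lit 0x201070806030405) (nat_lit 2053))
 (.leaf (nat_lit 0x201070806030504) (nat_lit 1029))
) (.node (nat_lit 0x201070806040503) (.leaf (nat_lit 0x201070806040305) (nat_lit 1285))
 (.node (nat_lit 0x201070806050304) (.leaf (nat_lit 0x201070806040503) (nat_lit 1797))
 (.leaf (nat_lit 0x201070806050304) (nat_lit 2053))
)))) (.node (nat_lit 0x201080607050304) (.node (nat_lit 0x201080607030504) (.node (nat_lit 0x201080607030405) (.leaf (nat_lit 0x201070806050403) (nat_lit 773))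
 (.leaf (nat_lit 0x201080607030405) (nat_lit 2306))
) (.node (nat_lit 0x201080607040305) (.leaf (nat_lit 0x201080607030504) (nat_lit 1282))
 (.node (nat_lit 0x201080607040503) (.leaf (nat_lit 0x201080607040305) (nat_lit 1538))
 (.leaf (nat_lit 0x201080607040503) (nat_lit 2050))
))) (.node (nat_lit 0x201080706030405) (.node (nat_lit 0x201080607050403) (.leaf (nat_lit 0x201080607050304) (nat_lit 2306))
 (.leaf (nat_lit 0x201080607050403) (nat_lit 1026))
) (.node (nat_lit 0x201080706030504) (.leaf (nat_lit 0x201080706030405) (nat_lit 1795))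
 (.node (nat_lit 0x201080706040305) (.leaf (nat_lit 0x201080706030504) (nat_lit 771))
 (.leaf (nat_lit 0x201080706040305) (nat_lit 1027))
))))) (.node (nat_lit 0x10002030504060807) (.node (nat_lit 0x10002030405070608) (.node (nat_lit 0x201080706050403) (.node (nat_lit 0x201080706050304) (.leaf (nat_lit 0x201080706040503) (nat_lit 1539))
 (.leaf (nat_lit 0x201080706050304) (nat_lit 1795))
) (.node (nat_lit 0x10002030405060708) (.leaf (nat_lit 0x201080706050403) (nat_lit 515))
 (.node (nat_lit 0x10002030405060807) (.leaf (nat_lit 0x10002030405060708) (nat_lit 2309))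
 (.leaf (nat_lit 0x10002030405060807) (nat_lit 2052))
))) (.node (nat_lit 0x10002030405080607) (.node (nat_lit 0x10002030405070806) (.leaf (nat_lit 0x10002030405070608) (nat_lit 2308))
 (.leaf (nat_lit 0x10002030405070806) (nat_lit 2053))
) (.node (nat_lit 0x10002030405080706) (.leaf (nat_lit 0x10002030405080607) (nat_lit 2306))
 (.node (nat_lit 0x10002030504060708) (.leaf (nat_lit 0x10002030405080706) (nat_lit 1796))
 (.leaf (nat_lit 0x10002030504060708) (nat_lit 1797))
)))) (.node (nat_lit 0x10002040305060708) (.node (nat_lit 0x10002030504070806) (.node (nat_lit 0x10002030504070608) (.leaf (nat_lit 0x10002030504060807) (nat_lit 1539))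
 (.leaf (nat_lit 0x10002030504070608) (nat_lit 1795))
) (.node (nat_lit 0x10002030504080607) (.leaf (nat_lit 0x10002030504070806) (nat_lit 1541))
 (.node (nat_lit 0x10002030504080706) (.leaf (nat_lit 0x10002030504080607) (nat_lit 1794))
 (.leaf (nat_lit 0x10002030504080706) (nat_lit 1283))
))) (.node (nat_lit 0x10002040305070806) (.node (nat_lit 0x10002040305060807) (.leaf (nat_lit 0x10002040305060708) (nat_lit 2053))
 (.node (nat_lit 0x10002040305070608) (.leaf (nat_lit 0x10002040305060807) (nat_lit 1795))
 (.leaf (nat_lit 0x10002040305070608) (nat_lit 2051))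
)) (.node (nat_lit 0x10002040305080607) (.leaf (nat_lit 0x10002040305070806) (nat_lit 1797))
 (.node (nat_lit 0x10002040305080706) (.leaf (nat_lit 0x10002040305080607) (nat_lit 2050))
 (.leaf (nat_lit 0x10002040305080706) (nat_lit 1539))
)))))))) (.node (nat_lit 0x10200050304070806) (.node (nat_lit 0x10002070806050304) (.node (nat_lit 0x10002060708040305) (.node (nat_lit 0x10002050304080607) (.node (nat_lit 0x10002040503080706) (.node (nat_lit 0x10002040503070608) (.node (nat_lit 0x10002040503060807) (.leaf (nat_lit 0x10002040503060708) (nat_lit 2053))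
 (.leaf (nat_lit 0x10002040503060807) (nat_lit 1796))
) (.node (nat_lit 0x10002040503070806) (.leaf (nat_lit 0x10002040503070608) (nat_lit 2052))
 (.node (nat_lit 0x10002040503080607) (.leaf (nat_lit 0x10002040503070806) (nat_lit 1797))
 (.leaf (nat_lit 0x10002040503080607) (nat_lit 2050))
))) (.node (nat_lit 0x10002050304060807) (.node (nat_lit 0x10002050304060708) (.leaf (nat_lit 0x10002040503080706) (nat_lit 1540))
 (.leaf (nat_lit 0x10002050304060708) (nat_lit 2309))
) (.node (nat_lit 0x10002050304070608) (.leaf (nat_lit 0x10002050304060807) (nat_lit 2052))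
 (.node (nat_lit 0x10002050304070806) (.leaf (nat_lit 0x10002050304070608) (nat_lit 2308))
 (.leaf (nat_lit 0x10002050304070806) (nat_lit 2053))
)))) (.node (nat_lit 0x10002050403070806) (.node (nat_lit 0x10002050403060708) (.node (nat_lit 0x10002050304080706) (.leaf (nat_lit 0x10002050304080607) (nat_lit 2306))
 (.leaf (nat_lit 0x10002050304080706) (nat_lit 1796))
) (.node (nat_lit 0x10002050403060807) (.leaf (nat_lit 0x10002050403060708) (nat_lit 1541))
 (.node (nat_lit 0x10002050403070608) (.leaf (nat_lit 0x10002050403060807) (nat_lit 1283))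
 (.leaf (nat_lit 0x10002050403070608) (nat_lit 1539))
))) (.node (nat_lit 0x10002050403080706) (.node (nat_lit 0x10002050403080607) (.leaf (nat_lit 0x10002050403070806) (nat_lit 1285))
 (.leaf (nat_lit 0x10002050403080607) (nat_lit 1538))
) (.node (nat_lit 0x10002060708030405) (.leaf (nat_lit 0x10002050403080706) (nat_lit 1027))
 (.node (nat_lit 0x10002060708030504) (.leaf (nat_lit 0x10002060708030405) (nat_lit 2565))
 (.leaf (nat_lit 0x10002060708030504) (nat_lit 1541))
))))) (.node (nat_lit 0x10002070608030405) (.node (nat_lit 0x10002060807030504) (.node (nat_lit 0x10002060708050304) (.node (nat_lit 0x10002060708040503) (.leaf (nat_lit 0x10002060708040305) (nat_lit 1797))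
 (.leaf (nat_lit 0x10002060708040503) (nat_lit 2309))
) (.node (nat_lit 0x10002060708050403) (.leaf (nat_lit 0x10002060708050304) (nat_lit 2565))
 (.node (nat_lit 0x10002060807030405) (.leaf (nat_lit 0x10002060708050403) (nat_lit 1285))
 (.leaf (nat_lit 0x10002060807030405) (nat_lit 2307))
))) (.node (nat_lit 0x10002060807040503) (.node (nat_lit 0x10002060807040305) (.leaf (nat_lit 0x10002060807030504) (nat_lit 1283))
 (.leaf (nat_lit 0x10002060807040305) (nat_lit 1539))
) (.node (nat_lit 0x10002060807050304) (.leaf (nat_lit 0x10002060807040503) (nat_lit 2051))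
 (.node (nat_lit 0x10002060807050403) (.leaf (nat_lit 0x10002060807050304) (nat_lit 2307))
 (.leaf (nat_lit 0x10002060807050403) (nat_lit 1027))
)))) (.node (nat_lit 0x10002070608050403) (.node (nat_lit 0x10002070608040305) (.node (nat_lit 0x10002070608030504) (.leaf (nat_lit 0x10002070608030405) (nat_lit 2563))
 (.leaf (nat_lit 0x10002070608030504) (nat_lit 1539))
) (.node (nat_lit 0x10002070608040503) (.leaf (nat_lit 0x10002070608040305) (nat_lit 1795))
 (.node (nat_lit 0x10002070608050304) (.leaf (nat_lit 0x10002070608040503) (nat_lit 2307))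
 (.leaf (nat_lit 0x10002070608050304) (nat_lit 2563))
))) (.node (nat_lit 0x10002070806030504) (.node (nat_lit 0x10002070806030405) (.leaf (nat_lit 0x10002070608050403) (nat_lit 1283))
 (.leaf (nat_lit 0x10002070806030405) (nat_lit 2309))
) (.node (nat_lit 0x10002070806040305) (.leaf (nat_lit 0x10002070806030504) (nat_lit 1285))
 (.node (nat_lit 0x10002070806040503) (.leaf (nat_lit 0x10002070806040305) (nat_lit 1541))
 (.leaf (nat_lit 0x10002070806040503) (nat_lit 2053))
)))))) (.node (nat_lit 0x10200030504060708) (.node (nat_lit 0x10002080706040305) (.node (nat_lit 0x10002080607040503) (.node (nat_lit 0x10002080607030405) (.node (nat_lit 0x10002070806050403) (.leaf (nat_lit 0x10002070806050304) (nat_lit 2309))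
 (.leaf (nat_lit 0x10002070806050403) (nat_lit 1029))
) (.node (nat_lit 0x10002080607030504) (.leaf (nat_lit 0x10002080607030405) (nat_lit 2562))
 (.node (nat_lit 0x10002080607040305) (.leaf (nat_lit 0x10002080607030504) (nat_lit 1538))
 (.leaf (nat_lit 0x10002080607040305) (nat_lit 1794))
))) (.node (nat_lit 0x10002080607050403) (.node (nat_lit 0x10002080607050304) (.leaf (nat_lit 0x10002080607040503) (nat_lit 2306))
 (.leaf (nat_lit 0x10002080607050304) (nat_lit 2562))
) (.node (nat_lit 0x10002080706030405) (.leaf (nat_lit 0x10002080607050403) (nat_lit 1282))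
 (.node (nat_lit 0x10002080706030504) (.leaf (nat_lit 0x10002080706030405) (nat_lit 2051))
 (.leaf (nat_lit 0x10002080706030504) (nat_lit 1027))
)))) (.node (nat_lit 0x10200030405060807) (.node (nat_lit 0x10002080706050304) (.node (nat_lit 0x10002080706040503) (.leaf (nat_lit 0x10002080706040305) (nat_lit 1283))
 (.leaf (nat_lit 0x10002080706040503) (nat_lit 1795))
) (.node (nat_lit 0x10002080706050403) (.leaf (nat_lit 0x10002080706050304) (nat_lit 2051))
 (.node (nat_lit 0x10200030405060708) (.leaf (nat_lit 0x10002080706050403) (nat_lit 771))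
 (.leaf (nat_lit 0x10200030405060708) (nat_lit 2053))
))) (.node (nat_lit 0x10200030405070806) (.node (nat_lit 0x10200030405070608) (.leaf (nat_lit 0x10200030405060807) (nat_lit 1796))
 (.leaf (nat_lit 0x10200030405070608) (nat_lit 2052))
) (.node (nat_lit 0x10200030405080607) (.leaf (nat_lit 0x10200030405070806) (nat_lit 1797))
 (.node (nat_lit 0x10200030405080706) (.leaf (nat_lit 0x10200030405080607) (nat_lit 2050))
 (.leaf (nat_lit 0x10200030405080706) (nat_lit 1540))
))))) (.node (nat_lit 0x10200040305080607) (.node (nat_lit 0x10200030504080706) (.node (nat_lit 0x10200030504070608) (.node (nat_lit 0x10200030504060807) (.leaf (nat_lit 0x10200030504060708) (nat_lit 1541))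
 (.leaf (nat_lit 0x10200030504060807) (nat_lit 1283))
) (.node (nat_lit 0x10200030504070806) (.leaf (nat_lit 0x10200030504070608) (nat_lit 1539))
 (.node (nat_lit 0x10200030504080607) (.leaf (nat_lit 0x10200030504070806) (nat_lit 1285))
 (.leaf (nat_lit 0x10200030504080607) (nat_lit 1538))
))) (.node (nat_lit 0x10200040305060807) (.node (nat_lit 0x10200040305060708) (.leaf (nat_lit 0x10200030504080706) (nat_lit 1027))
 (.leaf (nat_lit 0x10200040305060708) (nat_lit 1797))
) (.node (nat_lit 0x10200040305070608) (.leaf (nat_lit 0x10200040305060807) (nat_lit 1539))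
 (.node (nat_lit 0x10200040305070806) (.leaf (nat_lit 0x10200040305070608) (nat_lit 1795))
 (.leaf (nat_lit 0x10200040305070806) (nat_lit 1541))
)))) (.node (nat_lit 0x10200040503070806) (.node (nat_lit 0x10200040503060708) (.node (nat_lit 0x10200040305080706) (.leaf (nat_lit 0x10200040305080607) (nat_lit 1794))
 (.leaf (nat_lit 0x10200040305080706) (nat_lit 1283))
) (.node (nat_lit 0x10200040503060807) (.leaf (nat_lit 0x10200040503060708) (nat_lit 1797))
 (.node (nat_lit 0x10200040503070608) (.leaf (nat_lit 0x10200040503060807) (nat_lit 1540))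
 (.leaf (nat_lit 0x10200040503070608) (nat_lit 1796))
))) (.node (nat_lit 0x10200050304060708) (.node (nat_lit 0x10200040503080607) (.leaf (nat_lit 0x10200040503070806) (nat_lit 1541))
 (.node (nat_lit 0x10200040503080706) (.leaf (nat_lit 0x10200040503080607) (nat_lit 1794))
 (.leaf (nat_lit 0x10200040503080706) (nat_lit 1284))
)) (.node (nat_lit 0x10200050304060807) (.leaf (nat_lit 0x10200050304060708) (nat_lit 2053))
 (.node (nat_lit 0x10200050304070608) (.leaf (nat_lit 0x10200050304060807) (nat_lit 1796))
 (.leaf (nat_lit 0x10200050304070608) (nat_lit 2052))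
))))))) (.node (nat_lit 0x10200080706030504) (.node (nat_lit 0x10200060807050403) (.node (nat_lit 0x10200060708030504) (.node (nat_lit 0x10200050403070608) (.node (nat_lit 0x10200050304080706) (.node (nat_lit 0x10200050304080607) (.leaf (nat_lit 0x10200050304070806) (nat_lit 1797))
 (.leaf (nat_lit 0x10200050304080607) (nat_lit 2050))
) (.node (nat_lit 0x10200050403060708) (.leaf (nat_lit 0x10200050304080706) (nat_lit 1540))
 (.node (nat_lit 0x10200050403060807) (.leaf (nat_lit 0x10200050403060708) (nat_lit 1285))
 (.leaf (nat_lit 0x10200050403060807) (nat_lit 1027))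
))) (.node (nat_lit 0x10200050403080607) (.node (nat_lit 0x10200050403070806) (.leaf (nat_lit 0x10200050403070608) (nat_lit 1283))
 (.leaf (nat_lit 0x10200050403070806) (nat_lit 1029))
) (.node (nat_lit 0x10200050403080706) (.leaf (nat_lit 0x10200050403080607) (nat_lit 1282))
 (.node (nat_lit 0x10200060708030405) (.leaf (nat_lit 0x10200050403080706) (nat_lit 771))
 (.leaf (nat_lit 0x10200060708030405) (nat_lit 2309))
)))) (.node (nat_lit 0x10200060807030405) (.node (nat_lit 0x10200060708040503) (.node (nat_lit 0x10200060708040305) (.leaf (nat_lit 0x10200060708030504) (nat_lit 1285))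
 (.leaf (nat_lit 0x10200060708040305) (nat_lit 1541))
) (.node (nat_lit 0x10200060708050304) (.leaf (nat_lit 0x10200060708040503) (nat_lit 2053))
 (.node (nat_lit 0x10200060708050403) (.leaf (nat_lit 0x10200060708050304) (nat_lit 2309))
 (.leaf (nat_lit 0x10200060708050403) (nat_lit 1029))
))) (.node (nat_lit 0x10200060807040305) (.node (nat_lit 0x10200060807030504) (.leaf (nat_lit 0x10200060807030405) (nat_lit 2051))
 (.leaf (nat_lit 0x10200060807030504) (nat_lit 1027))
) (.node (nat_lit 0x10200060807040503) (.leaf (nat_lit 0x10200060807040305) (nat_lit 1283))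
 (.node (nat_lit 0x10200060807050304) (.leaf (nat_lit 0x10200060807040503) (nat_lit 1795))
 (.leaf (nat_lit 0x10200060807050304) (nat_lit 2051))
))))) (.node (nat_lit 0x10200070806040503) (.node (nat_lit 0x10200070608050304) (.node (nat_lit 0x10200070608030504) (.node (nat_lit 0x10200070608030405) (.leaf (nat_lit 0x10200060807050403) (nat_lit 771))
 (.leaf (nat_lit 0x10200070608030405) (nat_lit 2307))
) (.node (nat_lit 0x10200070608040305) (.leaf (nat_lit 0x10200070608030504) (nat_lit 1283))
 (.node (nat_lit 0x10200070608040503) (.leaf (nat_lit 0x10200070608040305) (nat_lit 1539))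
 (.leaf (nat_lit 0x10200070608040503) (nat_lit 2051))
))) (.node (nat_lit 0x10200070806030405) (.node (nat_lit 0x10200070608050403) (.leaf (nat_lit 0x10200070608050304) (nat_lit 2307))
 (.leaf (nat_lit 0x10200070608050403) (nat_lit 1027))
) (.node (nat_lit 0x10200070806030504) (.leaf (nat_lit 0x10200070806030405) (nat_lit 2053))
 (.node (nat_lit 0x10200070806040305) (.leaf (nat_lit 0x10200070806030504) (nat_lit 1029))
 (.leaf (nat_lit 0x10200070806040305) (nat_lit 1285))
)))) (.node (nat_lit 0x10200080607040305) (.node (nat_lit 0x10200070806050403) (.node (nat_lit 0x10200070806050304) (.leaf (nat_lit 0x10200070806040503) (nat_lit 1797))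
 (.leaf (nat_lit 0x10200070806050304) (nat_lit 2053))
) (.node (nat_lit 0x10200080607030405) (.leaf (nat_lit 0x10200070806050403) (nat_lit 773))
 (.node (nat_lit 0x10200080607030504) (.leaf (nat_lit 0x10200080607030405) (nat_lit 2306))
 (.leaf (nat_lit 0x10200080607030504) (nat_lit 1282))
))) (.node (nat_lit 0x10200080607050304) (.node (nat_lit 0x10200080607040503) (.leaf (nat_lit 0x10200080607040305) (nat_lit 1538))
 (.leaf (nat_lit 0x10200080607040503) (nat_lit 2050))
) (.node (nat_lit 0x10200080607050403) (.leaf (nat_lit 0x10200080607050304) (nat_lit 2306))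
 (.node (nat_lit 0x10200080706030405) (.leaf (nat_lit 0x10200080607050403) (nat_lit 1026))
 (.leaf (nat_lit 0x10200080706030405) (nat_lit 1795))
)))))) (.node (nat_lit 0x20001040305070806) (.node (nat_lit 0x20001030405080706) (.node (nat_lit 0x20001030405060708) (.node (nat_lit 0x10200080706040503) (.node (nat_lit 0x10200080706040305) (.leaf (nat_lit 0x10200080706030504) (nat_lit 771))
 (.leaf (nat_lit 0x10200080706040305) (nat_lit 1027))
) (.node (nat_lit 0x10200080706050304) (.leaf (nat_lit 0x10200080706040503) (nat_lit 1539))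
 (.node (nat_lit 0x10200080706050403) (.leaf (nat_lit 0x10200080706050304) (nat_lit 1795))
 (.leaf (nat_lit 0x10200080706050403) (nat_lit 515))
))) (.node (nat_lit 0x20001030405070608) (.node (nat_lit 0x20001030405060807) (.leaf (nat_lit 0x20001030405060708) (nat_lit 2309))
 (.leaf (nat_lit 0x20001030405060807) (nat_lit 2052))
) (.node (nat_lit 0x20001030405070806) (.leaf (nat_lit 0x20001030405070608) (nat_lit 2308))
 (.node (nat_lit 0x20001030405080607) (.leaf (nat_lit 0x20001030405070806) (nat_lit 2053))
 (.leaf (nat_lit 0x20001030405080607) (nat_lit 2306))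
)))) (.node (nat_lit 0x20001030504080607) (.node (nat_lit 0x20001030504060807) (.node (nat_lit 0x20001030504060708) (.leaf (nat_lit 0x20001030405080706) (nat_lit 1796))
 (.leaf (nat_lit 0x20001030504060708) (nat_lit 1797))
) (.node (nat_lit 0x20001030504070608) (.leaf (nat_lit 0x20001030504060807) (nat_lit 1539))
 (.node (nat_lit 0x20001030504070806) (.leaf (nat_lit 0x20001030504070608) (nat_lit 1795))
 (.leaf (nat_lit 0x20001030504070806) (nat_lit 1541))
))) (.node (nat_lit 0x20001040305060708) (.node (nat_lit 0x20001030504080706) (.leaf (nat_lit 0x20001030504080607) (nat_lit 1794))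
 (.leaf (nat_lit 0x20001030504080706) (nat_lit 1283))
) (.node (nat_lit 0x20001040305060807) (.leaf (nat_lit 0x20001040305060708) (nat_lit 2053))
 (.node (nat_lit 0x20001040305070608) (.leaf (nat_lit 0x20001040305060807) (nat_lit 1795))
 (.leaf (nat_lit 0x20001040305070608) (nat_lit 2051))
))))) (.node (nat_lit 0x20001050304060807) (.node (nat_lit 0x20001040503070608) (.node (nat_lit 0x20001040305080706) (.node (nat_lit 0x20001040305080607) (.leaf (nat_lit 0x20001040305070806) (nat_lit 1797))
 (.leaf (nat_lit 0x20001040305080607) (nat_lit 2050))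
) (.node (nat_lit 0x20001040503060708) (.leaf (nat_lit 0x20001040305080706) (nat_lit 1539))
 (.node (nat_lit 0x20001040503060807) (.leaf (nat_lit 0x20001040503060708) (nat_lit 2053))
 (.leaf (nat_lit 0x20001040503060807) (nat_lit 1796))
))) (.node (nat_lit 0x20001040503080607) (.node (nat_lit 0x20001040503070806) (.leaf (nat_lit 0x20001040503070608) (nat_lit 2052))
 (.leaf (nat_lit 0x20001040503070806) (nat_lit 1797))
) (.node (nat_lit 0x20001040503080706) (.leaf (nat_lit 0x20001040503080607) (nat_lit 2050))
 (.node (nat_lit 0x20001050304060708) (.leaf (nat_lit 0x20001040503080706) (nat_lit 1540))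
 (.leaf (nat_lit 0x20001050304060708) (nat_lit 2309))
)))) (.node (nat_lit 0x20001050403060708) (.node (nat_lit 0x20001050304070806) (.node (nat_lit 0x20001050304070608) (.leaf (nat_lit 0x20001050304060807) (nat_lit 2052))
 (.leaf (nat_lit 0x20001050304070608) (nat_lit 2308))
) (.node (nat_lit 0x20001050304080607) (.leaf (nat_lit 0x20001050304070806) (nat_lit 2053))
 (.node (nat_lit 0x20001050304080706) (.leaf (nat_lit 0x20001050304080607) (nat_lit 2306))
 (.leaf (nat_lit 0x20001050304080706) (nat_lit 1796))
))) (.node (nat_lit 0x20001050403070806) (.node (nat_lit 0x20001050403060807) (.leaf (nat_lit 0x20001050403060708) (nat_lit 1541))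
 (.node (nat_lit 0x20001050403070608) (.leaf (nat_lit 0x20001050403060807) (nat_lit 1283))
 (.leaf (nat_lit 0x20001050403070608) (nat_lit 1539))
)) (.node (nat_lit 0x20001050403080607) (.leaf (nat_lit 0x20001050403070806) (nat_lit 1285))
 (.node (nat_lit 0x20001050403080706) (.leaf (nat_lit 0x20001050403080607) (nat_lit 1538))
 (.leaf (nat_lit 0x20001050403080706) (nat_lit 1027))
))))))))) (.node (nat_lit 0x30405070806000102) (.node (nat_lit 0x20100060807040503) (.node (nat_lit 0x20100030405080607) (.node (nat_lit 0x20001070806040305) (.node (nat_lit 0x20001060807050304) (.node (nat_lit 0x20001060708050403) (.node (nat_lit 0x20001060708040305) (.node (nat_lit 0x20001060708030504) (.leaf (nat_lit 0x20001060708030405) (nat_lit 2565))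
 (.leaf (nat_lit 0x20001060708030504) (nat_lit 1541))
) (.node (nat_lit 0x20001060708040503) (.leaf (nat_lit 0x20001060708040305) (nat_lit 1797))
 (.node (nat_lit 0x20001060708050304) (.leaf (nat_lit 0x20001060708040503) (nat_lit 2309))
 (.leaf (nat_lit 0x20001060708050304) (nat_lit 2565))
))) (.node (nat_lit 0x20001060807030504) (.node (nat_lit 0x20001060807030405) (.leaf (nat_lit 0x20001060708050403) (nat_lit 1285))
 (.leaf (nat_lit 0x20001060807030405) (nat_lit 2307))
) (.node (nat_lit 0x20001060807040305) (.leaf (nat_lit 0x20001060807030504) (nat_lit 1283))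
 (.node (nat_lit 0x20001060807040503) (.leaf (nat_lit 0x20001060807040305) (nat_lit 1539))
 (.leaf (nat_lit 0x20001060807040503) (nat_lit 2051))
)))) (.node (nat_lit 0x20001070608040503) (.node (nat_lit 0x20001070608030405) (.node (nat_lit 0x20001060807050403) (.leaf (nat_lit 0x20001060807050304) (nat_lit 2307))
 (.leaf (nat_lit 0x20001060807050403) (nat_lit 1027))
) (.node (nat_lit 0x20001070608030504) (.leaf (nat_lit 0x20001070608030405) (nat_lit 2563))
 (.node (nat_lit 0x20001070608040305) (.leaf (nat_lit 0x20001070608030504) (nat_lit 1539))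
 (.leaf (nat_lit 0x20001070608040305) (nat_lit 1795))
))) (.node (nat_lit 0x20001070608050403) (.node (nat_lit 0x20001070608050304) (.leaf (nat_lit 0x20001070608040503) (nat_lit 2307))
 (.leaf (nat_lit 0x20001070608050304) (nat_lit 2563))
) (.node (nat_lit 0x20001070806030405) (.leaf (nat_lit 0x20001070608050403) (nat_lit 1283))
 (.node (nat_lit 0x20001070806030504) (.leaf (nat_lit 0x20001070806030405) (nat_lit 2309))
 (.leaf (nat_lit 0x20001070806030504) (nat_lit 1285))
))))) (.node (nat_lit 0x20001080706030405) (.node (nat_lit 0x20001080607030504) (.node (nat_lit 0x20001070806050304) (.node (nat_lit 0x20001070806040503) (.leaf (nat_lit 0x20001070806040305) (nat_lit 1541))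
 (.leaf (nat_lit 0x20001070806040503) (nat_lit 2053))
) (.node (nat_lit 0x20001070806050403) (.leaf (nat_lit 0x20001070806050304) (nat_lit 2309))
 (.node (nat_lit 0x20001080607030405) (.leaf (nat_lit 0x20001070806050403) (nat_lit 1029))
 (.leaf (nat_lit 0x20001080607030405) (nat_lit 2562))
))) (.node (nat_lit 0x20001080607040503) (.node (nat_lit 0x20001080607040305) (.leaf (nat_lit 0x20001080607030504) (nat_lit 1538))
 (.leaf (nat_lit 0x20001080607040305) (nat_lit 1794))
) (.node (nat_lit 0x20001080607050304) (.leaf (nat_lit 0x20001080607040503) (nat_lit 2306))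
 (.node (nat_lit 0x20001080607050403) (.leaf (nat_lit 0x20001080607050304) (nat_lit 2562))
 (.leaf (nat_lit 0x20001080607050403) (nat_lit 1282))
)))) (.node (nat_lit 0x20001080706050403) (.node (nat_lit 0x20001080706040305) (.node (nat_lit 0x20001080706030504) (.leaf (nat_lit 0x20001080706030405) (nat_lit 2051))
 (.leaf (nat_lit 0x20001080706030504) (nat_lit 1027))
) (.node (nat_lit 0x20001080706040503) (.leaf (nat_lit 0x20001080706040305) (nat_lit 1283))
 (.node (nat_lit 0x20001080706050304) (.leaf (nat_lit 0x20001080706040503) (nat_lit 1795))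
 (.leaf (nat_lit 0x20001080706050304) (nat_lit 2051))
))) (.node (nat_lit 0x20100030405060807) (.node (nat_lit 0x20100030405060708) (.leaf (nat_lit 0x20001080706050403) (nat_lit 771))
 (.leaf (nat_lit 0x20100030405060708) (nat_lit 1797))
) (.node (nat_lit 0x20100030405070608) (.leaf (nat_lit 0x20100030405060807) (nat_lit 1540))
 (.node (nat_lit 0x20100030405070806) (.leaf (nat_lit 0x20100030405070608) (nat_lit 1796))
 (.leaf (nat_lit 0x20100030405070806) (nat_lit 1541))
)))))) (.node (nat_lit 0x20100050304060708) (.node (nat_lit 0x20100040305070608) (.node (nat_lit 0x20100030504070806) (.node (nat_lit 0x20100030504060708) (.node (nat_lit 0x20100030405080706) (.leaf (nat_lit 0x20100030405080607) (nat_lit 1794))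
 (.leaf (nat_lit 0x20100030405080706) (nat_lit 1284))
) (.node (nat_lit 0x20100030504060807) (.leaf (nat_lit 0x20100030504060708) (nat_lit 1285))
 (.node (nat_lit 0x20100030504070608) (.leaf (nat_lit 0x20100030504060807) (nat_lit 1027))
 (.leaf (nat_lit 0x20100030504070608) (nat_lit 1283))
))) (.node (nat_lit 0x20100030504080706) (.node (nat_lit 0x20100030504080607) (.leaf (nat_lit 0x20100030504070806) (nat_lit 1029))
 (.leaf (nat_lit 0x20100030504080607) (nat_lit 1282))
) (.node (nat_lit 0x20100040305060708) (.leaf (nat_lit 0x20100030504080706) (nat_lit 771))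
 (.node (nat_lit 0x20100040305060807) (.leaf (nat_lit 0x20100040305060708) (nat_lit 1541))
 (.leaf (nat_lit 0x20100040305060807) (nat_lit 1283))
)))) (.node (nat_lit 0x20100040503060807) (.node (nat_lit 0x20100040305080607) (.node (nat_lit 0x20100040305070806) (.leaf (nat_lit 0x20100040305070608) (nat_lit 1539))
 (.leaf (nat_lit 0x20100040305070806) (nat_lit 1285))
) (.node (nat_lit 0x20100040305080706) (.leaf (nat_lit 0x20100040305080607) (nat_lit 1538))
 (.node (nat_lit 0x20100040503060708) (.leaf (nat_lit 0x20100040305080706) (nat_lit 1027))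
 (.leaf (nat_lit 0x20100040503060708) (nat_lit 1541))
))) (.node (nat_lit 0x20100040503070806) (.node (nat_lit 0x20100040503070608) (.leaf (nat_lit 0x20100040503060807) (nat_lit 1284))
 (.leaf (nat_lit 0x20100040503070608) (nat_lit 1540))
) (.node (nat_lit 0x20100040503080607) (.leaf (nat_lit 0x20100040503070806) (nat_lit 1285))
 (.node (nat_lit 0x20100040503080706) (.leaf (nat_lit 0x20100040503080607) (nat_lit 1538))
 (.leaf (nat_lit 0x20100040503080706) (nat_lit 1028))
))))) (.node (nat_lit 0x20100050403080607) (.node (nat_lit 0x20100050304080706) (.node (nat_lit 0x20100050304070608) (.node (nat_lit 0x20100050304060807) (.leaf (nat_lit 0x20100050304060708) (nat_lit 1797))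
 (.leaf (nat_lit 0x20100050304060807) (nat_lit 1540))
) (.node (nat_lit 0x20100050304070806) (.leaf (nat_lit 0x20100050304070608) (nat_lit 1796))
 (.node (nat_lit 0x20100050304080607) (.leaf (nat_lit 0x20100050304070806) (nat_lit 1541))
 (.leaf (nat_lit 0x20100050304080607) (nat_lit 1794))
))) (.node (nat_lit 0x20100050403060807) (.node (nat_lit 0x20100050403060708) (.leaf (nat_lit 0x20100050304080706) (nat_lit 1284))
 (.leaf (nat_lit 0x20100050403060708) (nat_lit 1029))
) (.node (nat_lit 0x20100050403070608) (.leaf (nat_lit 0x20100050403060807) (nat_lit 771))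
 (.node (nat_lit 0x20100050403070806) (.leaf (nat_lit 0x20100050403070608) (nat_lit 1027))
 (.leaf (nat_lit 0x20100050403070806) (nat_lit 773))
)))) (.node (nat_lit 0x20100060708040503) (.node (nat_lit 0x20100060708030405) (.node (nat_lit 0x20100050403080706) (.leaf (nat_lit 0x20100050403080607) (nat_lit 1026))
 (.leaf (nat_lit 0x20100050403080706) (nat_lit 515))
) (.node (nat_lit 0x20100060708030504) (.leaf (nat_lit 0x20100060708030405) (nat_lit 2053))
 (.node (nat_lit 0x20100060708040305) (.leaf (nat_lit 0x20100060708030504) (nat_lit 1029))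
 (.leaf (nat_lit 0x20100060708040305) (nat_lit 1285))
))) (.node (nat_lit 0x20100060807030405) (.node (nat_lit 0x20100060708050304) (.leaf (nat_lit 0x20100060708040503) (nat_lit 1797))
 (.node (nat_lit 0x20100060708050403) (.leaf (nat_lit 0x20100060708050304) (nat_lit 2053))
 (.leaf (nat_lit 0x20100060708050403) (nat_lit 773))
)) (.node (nat_lit 0x20100060807030504) (.leaf (nat_lit 0x20100060807030405) (nat_lit 1795))
 (.node (nat_lit 0x20100060807040305) (.leaf (nat_lit 0x20100060807030504) (nat_lit 771))
 (.leaf (nat_lit 0x20100060807040305) (nat_lit 1027))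
))))))) (.node (nat_lit 0x30405010002060807) (.node (nat_lit 0x20100080607050403) (.node (nat_lit 0x20100070806030504) (.node (nat_lit 0x20100070608040305) (.node (nat_lit 0x20100060807050403) (.node (nat_lit 0x20100060807050304) (.leaf (nat_lit 0x20100060807040503) (nat_lit 1539))
 (.leaf (nat_lit 0x20100060807050304) (nat_lit 1795))
) (.node (nat_lit 0x20100070608030405) (.leaf (nat_lit 0x20100060807050403) (nat_lit 515))
 (.node (nat_lit 0x20100070608030504) (.leaf (nat_lit 0x20100070608030405) (nat_lit 2051))
 (.leaf (nat_lit 0x20100070608030504) (nat_lit 1027))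
))) (.node (nat_lit 0x20100070608050304) (.node (nat_lit 0x20100070608040503) (.leaf (nat_lit 0x20100070608040305) (nat_lit 1283))
 (.leaf (nat_lit 0x20100070608040503) (nat_lit 1795))
) (.node (nat_lit 0x20100070608050403) (.leaf (nat_lit 0x20100070608050304) (nat_lit 2051))
 (.node (nat_lit 0x20100070806030405) (.leaf (nat_lit 0x20100070608050403) (nat_lit 771))
 (.leaf (nat_lit 0x20100070806030405) (nat_lit 1797))
)))) (.node (nat_lit 0x20100080607030405) (.node (nat_lit 0x20100070806040503) (.node (nat_lit 0x20100070806040305) (.leaf (nat_lit 0x20100070806030504) (nat_lit 773))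
 (.leaf (nat_lit 0x20100070806040305) (nat_lit 1029))
) (.node (nat_lit 0x20100070806050304) (.leaf (nat_lit 0x20100070806040503) (nat_lit 1541))
 (.node (nat_lit 0x20100070806050403) (.leaf (nat_lit 0x20100070806050304) (nat_lit 1797))
 (.leaf (nat_lit 0x20100070806050403) (nat_lit 517))
))) (.node (nat_lit 0x20100080607040305) (.node (nat_lit 0x20100080607030504) (.leaf (nat_lit 0x20100080607030405) (nat_lit 2050))
 (.leaf (nat_lit 0x20100080607030504) (nat_lit 1026))
) (.node (nat_lit 0x20100080607040503) (.leaf (nat_lit 0x20100080607040305) (nat_lit 1282))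
 (.node (nat_lit 0x20100080607050304) (.leaf (nat_lit 0x20100080607040503) (nat_lit 1794))
 (.leaf (nat_lit 0x20100080607050304) (nat_lit 2050))
))))) (.node (nat_lit 0x30405000102070806) (.node (nat_lit 0x20100080706050304) (.node (nat_lit 0x20100080706030504) (.node (nat_lit 0x20100080706030405) (.leaf (nat_lit 0x20100080607050403) (nat_lit 770))
 (.leaf (nat_lit 0x20100080706030405) (nat_lit 1539))
) (.node (nat_lit 0x20100080706040305) (.leaf (nat_lit 0x20100080706030504) (nat_lit 515))
 (.node (nat_lit 0x20100080706040503) (.leaf (nat_lit 0x20100080706040305) (nat_lit 771))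
 (.leaf (nat_lit 0x20100080706040503) (nat_lit 1283))
))) (.node (nat_lit 0x30405000102060708) (.node (nat_lit 0x20100080706050403) (.leaf (nat_lit 0x20100080706050304) (nat_lit 1539))
 (.leaf (nat_lit 0x20100080706050403) (nat_lit 259))
) (.node (nat_lit 0x30405000102060807) (.leaf (nat_lit 0x30405000102060708) (nat_lit 2053))
 (.node (nat_lit 0x30405000102070608) (.leaf (nat_lit 0x30405000102060807) (nat_lit 1795))
 (.leaf (nat_lit 0x30405000102070608) (nat_lit 2051))
)))) (.node (nat_lit 0x30405000201070608) (.node (nat_lit 0x30405000102080706) (.node (nat_lit 0x30405000102080607) (.leaf (nat_lit 0x30405000102070806) (nat_lit 1797))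
 (.leaf (nat_lit 0x30405000102080607) (nat_lit 2050))
) (.node (nat_lit 0x30405000201060708) (.leaf (nat_lit 0x30405000102080706) (nat_lit 1539))
 (.node (nat_lit 0x30405000201060807) (.leaf (nat_lit 0x30405000201060708) (nat_lit 1797))
 (.leaf (nat_lit 0x30405000201060807) (nat_lit 1539))
))) (.node (nat_lit 0x30405000201080607) (.node (nat_lit 0x30405000201070806) (.leaf (nat_lit 0x30405000201070608) (nat_lit 1795))
 (.leaf (nat_lit 0x30405000201070806) (nat_lit 1541))
) (.node (nat_lit 0x30405000201080706) (.leaf (nat_lit 0x30405000201080607) (nat_lit 1794))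
 (.node (nat_lit 0x30405010002060708) (.leaf (nat_lit 0x30405000201080706) (nat_lit 1283))
 (.leaf (nat_lit 0x30405010002060708) (nat_lit 2053))
)))))) (.node (nat_lit 0x30405020100070806) (.node (nat_lit 0x30405010200080706) (.node (nat_lit 0x30405010200060708) (.node (nat_lit 0x30405010002070806) (.node (nat_lit 0x30405010002070608) (.leaf (nat_lit 0x30405010002060807) (nat_lit 1795))
 (.leaf (nat_lit 0x30405010002070608) (nat_lit 2051))
) (.node (nat_lit 0x30405010002080607) (.leaf (nat_lit 0x30405010002070806) (nat_lit 1797))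
 (.node (nat_lit 0x30405010002080706) (.leaf (nat_lit 0x30405010002080607) (nat_lit 2050))
 (.leaf (nat_lit 0x30405010002080706) (nat_lit 1539))
))) (.node (nat_lit 0x30405010200070608) (.node (nat_lit 0x30405010200060807) (.leaf (nat_lit 0x30405010200060708) (nat_lit 1797))
 (.leaf (nat_lit 0x30405010200060807) (nat_lit 1539))
) (.node (nat_lit 0x30405010200070806) (.leaf (nat_lit 0x30405010200070608) (nat_lit 1795))
 (.node (nat_lit 0x30405010200080607) (.leaf (nat_lit 0x30405010200070806) (nat_lit 1541))
 (.leaf (nat_lit 0x30405010200080607) (nat_lit 1794))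
)))) (.node (nat_lit 0x30405020001080607) (.node (nat_lit 0x30405020001060807) (.node (nat_lit 0x30405020001060708) (.leaf (nat_lit 0x30405010200080706) (nat_lit 1283))
 (.leaf (nat_lit 0x30405020001060708) (nat_lit 2053))
) (.node (nat_lit 0x30405020001070608) (.leaf (nat_lit 0x30405020001060807) (nat_lit 1795))
 (.node (nat_lit 0x30405020001070806) (.leaf (nat_lit 0x30405020001070608) (nat_lit 2051))
 (.leaf (nat_lit 0x30405020001070806) (nat_lit 1797))
))) (.node (nat_lit 0x30405020100060708) (.node (nat_lit 0x30405020001080706) (.leaf (nat_lit 0x30405020001080607) (nat_lit 2050))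
 (.leaf (nat_lit 0x30405020001080706) (nat_lit 1539))
) (.node (nat_lit 0x30405020100060807) (.leaf (nat_lit 0x30405020100060708) (nat_lit 1541))
 (.node (nat_lit 0x30405020100070608) (.leaf (nat_lit 0x30405020100060807) (nat_lit 1283))
 (.leaf (nat_lit 0x30405020100070608) (nat_lit 1539))
))))) (.node (nat_lit 0x30405060807000201) (.node (nat_lit 0x30405060708010002) (.node (nat_lit 0x30405020100080706) (.node (nat_lit 0x30405020100080607) (.leaf (nat_lit 0x30405020100070806) (nat_lit 1285))
 (.leaf (nat_lit 0x30405020100080607) (nat_lit 1538))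
) (.node (nat_lit 0x30405060708000102) (.leaf (nat_lit 0x30405020100080706) (nat_lit 1027))
 (.node (nat_lit 0x30405060708000201) (.leaf (nat_lit 0x30405060708000102) (nat_lit 2309))
 (.leaf (nat_lit 0x30405060708000201) (nat_lit 1797))
))) (.node (nat_lit 0x30405060708020001) (.node (nat_lit 0x30405060708010200) (.leaf (nat_lit 0x30405060708010002) (nat_lit 2053))
 (.leaf (nat_lit 0x30405060708010200) (nat_lit 2053))
) (.node (nat_lit 0x30405060708020100) (.leaf (nat_lit 0x30405060708020001) (nat_lit 2309))
 (.node (nat_lit 0x30405060807000102) (.leaf (nat_lit 0x30405060708020100) (nat_lit 1541))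
 (.leaf (nat_lit 0x30405060807000102) (nat_lit 2051))
)))) (.node (nat_lit 0x30405070608000102) (.node (nat_lit 0x30405060807010200) (.node (nat_lit 0x30405060807010002) (.leaf (nat_lit 0x30405060807000201) (nat_lit 1540))
 (.leaf (nat_lit 0x30405060807010002) (nat_lit 1796))
) (.node (nat_lit 0x30405060807020001) (.leaf (nat_lit 0x30405060807010200) (nat_lit 1795))
 (.node (nat_lit 0x30405060807020100) (.leaf (nat_lit 0x30405060807020001) (nat_lit 2051))
 (.leaf (nat_lit 0x30405060807020100) (nat_lit 1284))
))) (.node (nat_lit 0x30405070608010200) (.node (nat_lit 0x30405070608000201) (.leaf (nat_lit 0x30405070608000102) (nat_lit 2307))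
 (.node (nat_lit 0x30405070608010002) (.leaf (nat_lit 0x30405070608000201) (nat_lit 1796))
 (.leaf (nat_lit 0x30405070608010002) (nat_lit 2052))
)) (.node (nat_lit 0x30405070608020001) (.leaf (nat_lit 0x30405070608010200) (nat_lit 2051))
 (.node (nat_lit 0x30405070608020100) (.leaf (nat_lit 0x30405070608020001) (nat_lit 2307))
 (.leaf (nat_lit 0x30405070608020100) (nat_lit 1540))
)))))))) (.node (nat_lit 0x30504080607010200) (.node (nat_lit 0x30504010200080607) (.node (nat_lit 0x30504000102070608) (.node (nat_lit 0x30405080607020001) (.node (nat_lit 0x30405070806020100) (.node (nat_lit 0x30405070806010002) (.node (nat_lit 0x30405070806000201) (.leaf (nat_lit 0x30405070806000102) (nat_lit 2053))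
 (.leaf (nat_lit 0x30405070806000201) (nat_lit 1541))
) (.node (nat_lit 0x30405070806010200) (.leaf (nat_lit 0x30405070806010002) (nat_lit 1797))
 (.node (nat_lit 0x30405070806020001) (.leaf (nat_lit 0x30405070806010200) (nat_lit 1797))
 (.leaf (nat_lit 0x30405070806020001) (nat_lit 2053))
))) (.node (nat_lit 0x30405080607000201) (.node (nat_lit 0x30405080607000102) (.leaf (nat_lit 0x30405070806020100) (nat_lit 1285))
 (.leaf (nat_lit 0x30405080607000102) (nat_lit 2306))
) (.node (nat_lit 0x30405080607010002) (.leaf (nat_lit 0x30405080607000201) (nat_lit 1794))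
 (.node (nat_lit 0x30405080607010200) (.leaf (nat_lit 0x30405080607010002) (nat_lit 2050))
 (.leaf (nat_lit 0x30405080607010200) (nat_lit 2050))
)))) (.node (nat_lit 0x30405080706010200) (.node (nat_lit 0x30405080706000102) (.node (nat_lit 0x30405080607020100) (.leaf (nat_lit 0x30405080607020001) (nat_lit 2306))
 (.leaf (nat_lit 0x30405080607020100) (nat_lit 1538))
) (.node (nat_lit 0x30405080706000201) (.leaf (nat_lit 0x30405080706000102) (nat_lit 1795))
 (.node (nat_lit 0x30405080706010002) (.leaf (nat_lit 0x30405080706000201) (nat_lit 1284))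
 (.leaf (nat_lit 0x30405080706010002) (nat_lit 1540))
))) (.node (nat_lit 0x30405080706020100) (.node (nat_lit 0x30405080706020001) (.leaf (nat_lit 0x30405080706010200) (nat_lit 1539))
 (.leaf (nat_lit 0x30405080706020001) (nat_lit 1795))
) (.node (nat_lit 0x30504000102060708) (.leaf (nat_lit 0x30405080706020100) (nat_lit 1028))
 (.node (nat_lit 0x30504000102060807) (.leaf (nat_lit 0x30504000102060708) (nat_lit 1797))
 (.leaf (nat_lit 0x30504000102060807) (nat_lit 1539))
))))) (.node (nat_lit 0x30504010002060708) (.node (nat_lit 0x30504000201060807) (.node (nat_lit 0x30504000102080607) (.node (nat_lit 0x30504000102070806) (.leaf (nat_lit 0x30504000102070608) (nat_lit 1795))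
 (.leaf (nat_lit 0x30504000102070806) (nat_lit 1541))
) (.node (nat_lit 0x30504000102080706) (.leaf (nat_lit 0x30504000102080607) (nat_lit 1794))
 (.node (nat_lit 0x30504000201060708) (.leaf (nat_lit 0x30504000102080706) (nat_lit 1283))
 (.leaf (nat_lit 0x30504000201060708) (nat_lit 1541))
))) (.node (nat_lit 0x30504000201070806) (.node (nat_lit 0x30504000201070608) (.leaf (nat_lit 0x30504000201060807) (nat_lit 1283))
 (.leaf (nat_lit 0x30504000201070608) (nat_lit 1539))
) (.node (nat_lit 0x30504000201080607) (.leaf (nat_lit 0x30504000201070806) (nat_lit 1285))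
 (.node (nat_lit 0x30504000201080706) (.leaf (nat_lit 0x30504000201080607) (nat_lit 1538))
 (.leaf (nat_lit 0x30504000201080706) (nat_lit 1027))
)))) (.node (nat_lit 0x30504010002080706) (.node (nat_lit 0x30504010002070608) (.node (nat_lit 0x30504010002060807) (.leaf (nat_lit 0x30504010002060708) (nat_lit 1797))
 (.leaf (nat_lit 0x30504010002060807) (nat_lit 1539))
) (.node (nat_lit 0x30504010002070806) (.leaf (nat_lit 0x30504010002070608) (nat_lit 1795))
 (.node (nat_lit 0x30504010002080607) (.leaf (nat_lit 0x30504010002070806) (nat_lit 1541))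
 (.leaf (nat_lit 0x30504010002080607) (nat_lit 1794))
))) (.node (nat_lit 0x30504010200060807) (.node (nat_lit 0x30504010200060708) (.leaf (nat_lit 0x30504010002080706) (nat_lit 1283))
 (.leaf (nat_lit 0x30504010200060708) (nat_lit 1541))
) (.node (nat_lit 0x30504010200070608) (.leaf (nat_lit 0x30504010200060807) (nat_lit 1283))
 (.node (nat_lit 0x30504010200070806) (.leaf (nat_lit 0x30504010200070608) (nat_lit 1539))
 (.leaf (nat_lit 0x30504010200070806) (nat_lit 1285))
)))))) (.node (nat_lit 0x30504060807000102) (.node (nat_lit 0x30504020100070608) (.node (nat_lit 0x30504020001070806) (.node (nat_lit 0x30504020001060708) (.node (nat_lit 0x30504010200080706) (.leaf (nat_lit 0x30504010200080607) (nat_lit 1538))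
 (.leaf (nat_lit 0x30504010200080706) (nat_lit 1027))
) (.node (nat_lit 0x30504020001060807) (.leaf (nat_lit 0x30504020001060708) (nat_lit 1797))
 (.node (nat_lit 0x30504020001070608) (.leaf (nat_lit 0x30504020001060807) (nat_lit 1539))
 (.leaf (nat_lit 0x30504020001070608) (nat_lit 1795))
))) (.node (nat_lit 0x30504020001080706) (.node (nat_lit 0x30504020001080607) (.leaf (nat_lit 0x30504020001070806) (nat_lit 1541))
 (.leaf (nat_lit 0x30504020001080607) (nat_lit 1794))
) (.node (nat_lit 0x30504020100060708) (.leaf (nat_lit 0x30504020001080706) (nat_lit 1283))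
 (.node (nat_lit 0x30504020100060807) (.leaf (nat_lit 0x30504020100060708) (nat_lit 1285))
 (.leaf (nat_lit 0x30504020100060807) (nat_lit 1027))
)))) (.node (nat_lit 0x30504060708000201) (.node (nat_lit 0x30504020100080607) (.node (nat_lit 0x30504020100070806) (.leaf (nat_lit 0x30504020100070608) (nat_lit 1283))
 (.leaf (nat_lit 0x30504020100070806) (nat_lit 1029))
) (.node (nat_lit 0x30504020100080706) (.leaf (nat_lit 0x30504020100080607) (nat_lit 1282))
 (.node (nat_lit 0x30504060708000102) (.leaf (nat_lit 0x30504020100080706) (nat_lit 771))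
 (.leaf (nat_lit 0x30504060708000102) (nat_lit 2053))
))) (.node (nat_lit 0x30504060708010200) (.node (nat_lit 0x30504060708010002) (.leaf (nat_lit 0x30504060708000201) (nat_lit 1541))
 (.leaf (nat_lit 0x30504060708010002) (nat_lit 1797))
) (.node (nat_lit 0x30504060708020001) (.leaf (nat_lit 0x30504060708010200) (nat_lit 1797))
 (.node (nat_lit 0x30504060708020100) (.leaf (nat_lit 0x30504060708020001) (nat_lit 2053))
 (.leaf (nat_lit 0x30504060708020100) (nat_lit 1285))
))))) (.node (nat_lit 0x30504070608020001) (.node (nat_lit 0x30504060807020100) (.node (nat_lit 0x30504060807010002) (.node (nat_lit 0x30504060807000201) (.leaf (nat_lit 0x30504060807000102) (nat_lit 1795))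
 (.leaf (nat_lit 0x30504060807000201) (nat_lit 1284))
) (.node (nat_lit 0x30504060807010200) (.leaf (nat_lit 0x30504060807010002) (nat_lit 1540))
 (.node (nat_lit 0x30504060807020001) (.leaf (nat_lit 0x30504060807010200) (nat_lit 1539))
 (.leaf (nat_lit 0x30504060807020001) (nat_lit 1795))
))) (.node (nat_lit 0x30504070608000201) (.node (nat_lit 0x30504070608000102) (.leaf (nat_lit 0x30504060807020100) (nat_lit 1028))
 (.leaf (nat_lit 0x30504070608000102) (nat_lit 2051))
) (.node (nat_lit 0x30504070608010002) (.leaf (nat_lit 0x30504070608000201) (nat_lit 1540))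
 (.node (nat_lit 0x30504070608010200) (.leaf (nat_lit 0x30504070608010002) (nat_lit 1796))
 (.leaf (nat_lit 0x30504070608010200) (nat_lit 1795))
)))) (.node (nat_lit 0x30504070806010200) (.node (nat_lit 0x30504070806000102) (.node (nat_lit 0x30504070608020100) (.leaf (nat_lit 0x30504070608020001) (nat_lit 2051))
 (.leaf (nat_lit 0x30504070608020100) (nat_lit 1284))
) (.node (nat_lit 0x30504070806000201) (.leaf (nat_lit 0x30504070806000102) (nat_lit 1797))
 (.node (nat_lit 0x30504070806010002) (.leaf (nat_lit 0x30504070806000201) (nat_lit 1285))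
 (.leaf (nat_lit 0x30504070806010002) (nat_lit 1541))
))) (.node (nat_lit 0x30504080607000102) (.node (nat_lit 0x30504070806020001) (.leaf (nat_lit 0x30504070806010200) (nat_lit 1541))
 (.node (nat_lit 0x30504070806020100) (.leaf (nat_lit 0x30504070806020001) (nat_lit 1797))
 (.leaf (nat_lit 0x30504070806020100) (nat_lit 1029))
)) (.node (nat_lit 0x30504080607000201) (.leaf (nat_lit 0x30504080607000102) (nat_lit 2050))
 (.node (nat_lit 0x30504080607010002) (.leaf (nat_lit 0x30504080607000201) (nat_lit 1538))
 (.leaf (nat_lit 0x30504080607010002) (nat_lit 1794))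
))))))) (.node (nat_lit 0x40305020100060807) (.node (nat_lit 0x40305000201080706) (.node (nat_lit 0x40305000102060807) (.node (nat_lit 0x30504080706010002) (.node (nat_lit 0x30504080607020100) (.node (nat_lit 0x30504080607020001) (.leaf (nat_lit 0x30504080607010200) (nat_lit 1794))
 (.leaf (nat_lit 0x30504080607020001) (nat_lit 2050))
) (.node (nat_lit 0x30504080706000102) (.leaf (nat_lit 0x30504080607020100) (nat_lit 1282))
 (.node (nat_lit 0x30504080706000201) (.leaf (nat_lit 0x30504080706000102) (nat_lit 1539))
 (.leaf (nat_lit 0x30504080706000201) (nat_lit 1028))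
))) (.node (nat_lit 0x30504080706020001) (.node (nat_lit 0x30504080706010200) (.leaf (nat_lit 0x30504080706010002) (nat_lit 1284))
 (.leaf (nat_lit 0x30504080706010200) (nat_lit 1283))
) (.node (nat_lit 0x30504080706020100) (.leaf (nat_lit 0x30504080706020001) (nat_lit 1539))
 (.node (nat_lit 0x40305000102060708) (.leaf (nat_lit 0x30504080706020100) (nat_lit 772))
 (.leaf (nat_lit 0x40305000102060708) (nat_lit 2053))
)))) (.node (nat_lit 0x40305000201060708) (.node (nat_lit 0x40305000102070806) (.node (nat_lit 0x40305000102070608) (.leaf (nat_lit 0x40305000102060807) (nat_lit 1795))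
 (.leaf (nat_lit 0x40305000102070608) (nat_lit 2051))
) (.node (nat_lit 0x40305000102080607) (.leaf (nat_lit 0x40305000102070806) (nat_lit 1797))
 (.node (nat_lit 0x40305000102080706) (.leaf (nat_lit 0x40305000102080607) (nat_lit 2050))
 (.leaf (nat_lit 0x40305000102080706) (nat_lit 1539))
))) (.node (nat_lit 0x40305000201070608) (.node (nat_lit 0x40305000201060807) (.leaf (nat_lit 0x40305000201060708) (nat_lit 1797))
 (.leaf (nat_lit 0x40305000201060807) (nat_lit 1539))
) (.node (nat_lit 0x40305000201070806) (.leaf (nat_lit 0x40305000201070608) (nat_lit 1795))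
 (.node (nat_lit 0x40305000201080607) (.leaf (nat_lit 0x40305000201070806) (nat_lit 1541))
 (.leaf (nat_lit 0x40305000201080607) (nat_lit 1794))
))))) (.node (nat_lit 0x40305010200070806) (.node (nat_lit 0x40305010002080607) (.node (nat_lit 0x40305010002060807) (.node (nat_lit 0x40305010002060708) (.leaf (nat_lit 0x40305000201080706) (nat_lit 1283))
 (.leaf (nat_lit 0x40305010002060708) (nat_lit 2053))
) (.node (nat_lit 0x40305010002070608) (.leaf (nat_lit 0x40305010002060807) (nat_lit 1795))
 (.node (nat_lit 0x40305010002070806) (.leaf (nat_lit 0x40305010002070608) (nat_lit 2051))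
 (.leaf (nat_lit 0x40305010002070806) (nat_lit 1797))
))) (.node (nat_lit 0x40305010200060708) (.node (nat_lit 0x40305010002080706) (.leaf (nat_lit 0x40305010002080607) (nat_lit 2050))
 (.leaf (nat_lit 0x40305010002080706) (nat_lit 1539))
) (.node (nat_lit 0x40305010200060807) (.leaf (nat_lit 0x40305010200060708) (nat_lit 1797))
 (.node (nat_lit 0x40305010200070608) (.leaf (nat_lit 0x40305010200060807) (nat_lit 1539))
 (.leaf (nat_lit 0x40305010200070608) (nat_lit 1795))
)))) (.node (nat_lit 0x40305020001070608) (.node (nat_lit 0x40305010200080706) (.node (nat_lit 0x40305010200080607) (.leaf (nat_lit 0x40305010200070806) (nat_lit 1541))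
 (.leaf (nat_lit 0x40305010200080607) (nat_lit 1794))
) (.node (nat_lit 0x40305020001060708) (.leaf (nat_lit 0x40305010200080706) (nat_lit 1283))
 (.node (nat_lit 0x40305020001060807) (.leaf (nat_lit 0x40305020001060708) (nat_lit 2053))
 (.leaf (nat_lit 0x40305020001060807) (nat_lit 1795))
))) (.node (nat_lit 0x40305020001080607) (.node (nat_lit 0x40305020001070806) (.leaf (nat_lit 0x40305020001070608) (nat_lit 2051))
 (.leaf (nat_lit 0x40305020001070806) (nat_lit 1797))
) (.node (nat_lit 0x40305020001080706) (.leaf (nat_lit 0x40305020001080607) (nat_lit 2050))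
 (.node (nat_lit 0x40305020100060708) (.leaf (nat_lit 0x40305020001080706) (nat_lit 1539))
 (.leaf (nat_lit 0x40305020100060708) (nat_lit 1541))
)))))) (.node (nat_lit 0x40305070608010200) (.node (nat_lit 0x40305060708020100) (.node (nat_lit 0x40305060708000102) (.node (nat_lit 0x40305020100070806) (.node (nat_lit 0x40305020100070608) (.leaf (nat_lit 0x40305020100060807) (nat_lit 1283))
 (.leaf (nat_lit 0x40305020100070608) (nat_lit 1539))
) (.node (nat_lit 0x40305020100080607) (.leaf (nat_lit 0x40305020100070806) (nat_lit 1285))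
 (.node (nat_lit 0x40305020100080706) (.leaf (nat_lit 0x40305020100080607) (nat_lit 1538))
 (.leaf (nat_lit 0x40305020100080706) (nat_lit 1027))
))) (.node (nat_lit 0x40305060708010002) (.node (nat_lit 0x40305060708000201) (.leaf (nat_lit 0x40305060708000102) (nat_lit 2309))
 (.leaf (nat_lit 0x40305060708000201) (nat_lit 1797))
) (.node (nat_lit 0x40305060708010200) (.leaf (nat_lit 0x40305060708010002) (nat_lit 2053))
 (.node (nat_lit 0x40305060708020001) (.leaf (nat_lit 0x40305060708010200) (nat_lit 2053))
 (.leaf (nat_lit 0x40305060708020001) (nat_lit 2309))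
)))) (.node (nat_lit 0x40305060807020001) (.node (nat_lit 0x40305060807000201) (.node (nat_lit 0x40305060807000102) (.leaf (nat_lit 0x40305060708020100) (nat_lit 1541))
 (.leaf (nat_lit 0x40305060807000102) (nat_lit 2051))
) (.node (nat_lit 0x40305060807010002) (.leaf (nat_lit 0x40305060807000201) (nat_lit 1540))
 (.node (nat_lit 0x40305060807010200) (.leaf (nat_lit 0x40305060807010002) (nat_lit 1796))
 (.leaf (nat_lit 0x40305060807010200) (nat_lit 1795))
))) (.node (nat_lit 0x40305070608000102) (.node (nat_lit 0x40305060807020100) (.leaf (nat_lit 0x40305060807020001) (nat_lit 2051))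
 (.leaf (nat_lit 0x40305060807020100) (nat_lit 1284))
) (.node (nat_lit 0x40305070608000201) (.leaf (nat_lit 0x40305070608000102) (nat_lit 2307))
 (.node (nat_lit 0x40305070608010002) (.leaf (nat_lit 0x40305070608000201) (nat_lit 1796))
 (.leaf (nat_lit 0x40305070608010002) (nat_lit 2052))
))))) (.node (nat_lit 0x40305080607000201) (.node (nat_lit 0x40305070806010002) (.node (nat_lit 0x40305070608020100) (.node (nat_lit 0x40305070608020001) (.leaf (nat_lit 0x40305070608010200) (nat_lit 2051))
 (.leaf (nat_lit 0x40305070608020001) (nat_lit 2307))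
) (.node (nat_lit 0x40305070806000102) (.leaf (nat_lit 0x40305070608020100) (nat_lit 1540))
 (.node (nat_lit 0x40305070806000201) (.leaf (nat_lit 0x40305070806000102) (nat_lit 2053))
 (.leaf (nat_lit 0x40305070806000201) (nat_lit 1541))
))) (.node (nat_lit 0x40305070806020001) (.node (nat_lit 0x40305070806010200) (.leaf (nat_lit 0x40305070806010002) (nat_lit 1797))
 (.leaf (nat_lit 0x40305070806010200) (nat_lit 1797))
) (.node (nat_lit 0x40305070806020100) (.leaf (nat_lit 0x40305070806020001) (nat_lit 2053))
 (.node (nat_lit 0x40305080607000102) (.leaf (nat_lit 0x40305070806020100) (nat_lit 1285))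
 (.leaf (nat_lit 0x40305080607000102) (nat_lit 2306))
)))) (.node (nat_lit 0x40305080706000102) (.node (nat_lit 0x40305080607010200) (.node (nat_lit 0x40305080607010002) (.leaf (nat_lit 0x40305080607000201) (nat_lit 1794))
 (.leaf (nat_lit 0x40305080607010002) (nat_lit 2050))
) (.node (nat_lit 0x40305080607020001) (.leaf (nat_lit 0x40305080607010200) (nat_lit 2050))
 (.node (nat_lit 0x40305080607020100) (.leaf (nat_lit 0x40305080607020001) (nat_lit 2306))
 (.leaf (nat_lit 0x40305080607020100) (nat_lit 1538))
))) (.node (nat_lit 0x40305080706010200) (.node (nat_lit 0x40305080706000201) (.leaf (nat_lit 0x40305080706000102) (nat_lit 1795))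
 (.node (nat_lit 0x40305080706010002) (.leaf (nat_lit 0x40305080706000201) (nat_lit 1284))
 (.leaf (nat_lit 0x40305080706010002) (nat_lit 1540))
)) (.node (nat_lit 0x40305080706020001) (.leaf (nat_lit 0x40305080706010200) (nat_lit 1539))
 (.node (nat_lit 0x40305080706020100) (.leaf (nat_lit 0x40305080706020001) (nat_lit 1795))
 (.leaf (nat_lit 0x40305080706020100) (nat_lit 1028))
)))))))))) (.node (nat_lit 0x60807030405000102) (.node (nat_lit 0x50403010200060708) (.node (nat_lit 0x50304000201070806) (.node (nat_lit 0x40503060708020001) (.node (nat_lit 0x40503010200070608) (.node (nat_lit 0x40503000201080607) (.node (nat_lit 0x40503000102080706) (.node (nat_lit 0x40503000102070608) (.node (nat_lit 0x40503000102060807) (.leaf (nat_lit 0x40503000102060708) (nat_lit 1797))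
 (.leaf (nat_lit 0x40503000102060807) (nat_lit 1539))
) (.node (nat_lit 0x40503000102070806) (.leaf (nat_lit 0x40503000102070608) (nat_lit 1795))
 (.node (nat_lit 0x40503000102080607) (.leaf (nat_lit 0x40503000102070806) (nat_lit 1541))
 (.leaf (nat_lit 0x40503000102080607) (nat_lit 1794))
))) (.node (nat_lit 0x40503000201060807) (.node (nat_lit 0x40503000201060708) (.leaf (nat_lit 0x40503000102080706) (nat_lit 1283))
 (.leaf (nat_lit 0x40503000201060708) (nat_lit 1541))
) (.node (nat_lit 0x40503000201070608) (.leaf (nat_lit 0x40503000201060807) (nat_lit 1283))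
 (.node (nat_lit 0x40503000201070806) (.leaf (nat_lit 0x40503000201070608) (nat_lit 1539))
 (.leaf (nat_lit 0x40503000201070806) (nat_lit 1285))
)))) (.node (nat_lit 0x40503010002070806) (.node (nat_lit 0x40503010002060708) (.node (nat_lit 0x40503000201080706) (.leaf (nat_lit 0x40503000201080607) (nat_lit 1538))
 (.leaf (nat_lit 0x40503000201080706) (nat_lit 1027))
) (.node (nat_lit 0x40503010002060807) (.leaf (nat_lit 0x40503010002060708) (nat_lit 1797))
 (.node (nat_lit 0x40503010002070608) (.leaf (nat_lit 0x40503010002060807) (nat_lit 1539))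
 (.leaf (nat_lit 0x40503010002070608) (nat_lit 1795))
))) (.node (nat_lit 0x40503010002080706) (.node (nat_lit 0x40503010002080607) (.leaf (nat_lit 0x40503010002070806) (nat_lit 1541))
 (.leaf (nat_lit 0x40503010002080607) (nat_lit 1794))
) (.node (nat_lit 0x40503010200060708) (.leaf (nat_lit 0x40503010002080706) (nat_lit 1283))
 (.node (nat_lit 0x40503010200060807) (.leaf (nat_lit 0x40503010200060708) (nat_lit 1541))
 (.leaf (nat_lit 0x40503010200060807) (nat_lit 1283))
))))) (.node (nat_lit 0x40503020100060708) (.node (nat_lit 0x40503020001060807) (.node (nat_lit 0x40503010200080607) (.node (nat_lit 0x40503010200070806) (.leaf (nat_lit 0x40503010200070608) (nat_lit 1539))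
 (.leaf (nat_lit 0x40503010200070806) (nat_lit 1285))
) (.node (nat_lit 0x40503010200080706) (.leaf (nat_lit 0x40503010200080607) (nat_lit 1538))
 (.node (nat_lit 0x40503020001060708) (.leaf (nat_lit 0x40503010200080706) (nat_lit 1027))
 (.leaf (nat_lit 0x40503020001060708) (nat_lit 1797))
))) (.node (nat_lit 0x40503020001070806) (.node (nat_lit 0x40503020001070608) (.leaf (nat_lit 0x40503020001060807) (nat_lit 1539))
 (.leaf (nat_lit 0x40503020001070608) (nat_lit 1795))
) (.node (nat_lit 0x40503020001080607) (.leaf (nat_lit 0x40503020001070806) (nat_lit 1541))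
 (.node (nat_lit 0x40503020001080706) (.leaf (nat_lit 0x40503020001080607) (nat_lit 1794))
 (.leaf (nat_lit 0x40503020001080706) (nat_lit 1283))
)))) (.node (nat_lit 0x40503020100080706) (.node (nat_lit 0x40503020100070608) (.node (nat_lit 0x40503020100060807) (.leaf (nat_lit 0x40503020100060708) (nat_lit 1285))
 (.leaf (nat_lit 0x40503020100060807) (nat_lit 1027))
) (.node (nat_lit 0x40503020100070806) (.leaf (nat_lit 0x40503020100070608) (nat_lit 1283))
 (.node (nat_lit 0x40503020100080607) (.leaf (nat_lit 0x40503020100070806) (nat_lit 1029))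
 (.leaf (nat_lit 0x40503020100080607) (nat_lit 1282))
))) (.node (nat_lit 0x40503060708000201) (.node (nat_lit 0x40503060708000102) (.leaf (nat_lit 0x40503020100080706) (nat_lit 771))
 (.leaf (nat_lit 0x40503060708000102) (nat_lit 2053))
) (.node (nat_lit 0x40503060708010002) (.leaf (nat_lit 0x40503060708000201) (nat_lit 1541))
 (.node (nat_lit 0x40503060708010200) (.leaf (nat_lit 0x40503060708010002) (nat_lit 1797))
 (.leaf (nat_lit 0x40503060708010200) (nat_lit 1797))
)))))) (.node (nat_lit 0x40503080607000102) (.node (nat_lit 0x40503070608010002) (.node (nat_lit 0x40503060807010200) (.node (nat_lit 0x40503060807000102) (.node (nat_lit 0x40503060708020100) (.leaf (nat_lit 0x40503060708020001) (nat_lit 2053))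
 (.leaf (nat_lit 0x40503060708020100) (nat_lit 1285))
) (.node (nat_lit 0x40503060807000201) (.leaf (nat_lit 0x40503060807000102) (nat_lit 1795))
 (.node (nat_lit 0x40503060807010002) (.leaf (nat_lit 0x40503060807000201) (nat_lit 1284))
 (.leaf (nat_lit 0x40503060807010002) (nat_lit 1540))
))) (.node (nat_lit 0x40503060807020100) (.node (nat_lit 0x40503060807020001) (.leaf (nat_lit 0x40503060807010200) (nat_lit 1539))
 (.leaf (nat_lit 0x40503060807020001) (nat_lit 1795))
) (.node (nat_lit 0x40503070608000102) (.leaf (nat_lit 0x40503060807020100) (nat_lit 1028))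
 (.node (nat_lit 0x40503070608000201) (.leaf (nat_lit 0x40503070608000102) (nat_lit 2051))
 (.leaf (nat_lit 0x40503070608000201) (nat_lit 1540))
)))) (.node (nat_lit 0x40503070806000201) (.node (nat_lit 0x40503070608020001) (.node (nat_lit 0x40503070608010200) (.leaf (nat_lit 0x40503070608010002) (nat_lit 1796))
 (.leaf (nat_lit 0x40503070608010200) (nat_lit 1795))
) (.node (nat_lit 0x40503070608020100) (.leaf (nat_lit 0x40503070608020001) (nat_lit 2051))
 (.node (nat_lit 0x40503070806000102) (.leaf (nat_lit 0x40503070608020100) (nat_lit 1284))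
 (.leaf (nat_lit 0x40503070806000102) (nat_lit 1797))
))) (.node (nat_lit 0x40503070806010200) (.node (nat_lit 0x40503070806010002) (.leaf (nat_lit 0x40503070806000201) (nat_lit 1285))
 (.leaf (nat_lit 0x40503070806010002) (nat_lit 1541))
) (.node (nat_lit 0x40503070806020001) (.leaf (nat_lit 0x40503070806010200) (nat_lit 1541))
 (.node (nat_lit 0x40503070806020100) (.leaf (nat_lit 0x40503070806020001) (nat_lit 1797))
 (.leaf (nat_lit 0x40503070806020100) (nat_lit 1029))
))))) (.node (nat_lit 0x40503080706020001) (.node (nat_lit 0x40503080607020100) (.node (nat_lit 0x40503080607010002) (.node (nat_lit 0x40503080607000201) (.leaf (nat_lit 0x40503080607000102) (nat_lit 2050))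
 (.leaf (nat_lit 0x40503080607000201) (nat_lit 1538))
) (.node (nat_lit 0x40503080607010200) (.leaf (nat_lit 0x40503080607010002) (nat_lit 1794))
 (.node (nat_lit 0x40503080607020001) (.leaf (nat_lit 0x40503080607010200) (nat_lit 1794))
 (.leaf (nat_lit 0x40503080607020001) (nat_lit 2050))
))) (.node (nat_lit 0x40503080706000201) (.node (nat_lit 0x40503080706000102) (.leaf (nat_lit 0x40503080607020100) (nat_lit 1282))
 (.leaf (nat_lit 0x40503080706000102) (nat_lit 1539))
) (.node (nat_lit 0x40503080706010002) (.leaf (nat_lit 0x40503080706000201) (nat_lit 1028))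
 (.node (nat_lit 0x40503080706010200) (.leaf (nat_lit 0x40503080706010002) (nat_lit 1284))
 (.leaf (nat_lit 0x40503080706010200) (nat_lit 1283))
)))) (.node (nat_lit 0x50304000102070806) (.node (nat_lit 0x50304000102060708) (.node (nat_lit 0x40503080706020100) (.leaf (nat_lit 0x40503080706020001) (nat_lit 1539))
 (.leaf (nat_lit 0x40503080706020100) (nat_lit 772))
) (.node (nat_lit 0x50304000102060807) (.leaf (nat_lit 0x50304000102060708) (nat_lit 2053))
 (.node (nat_lit 0x50304000102070608) (.leaf (nat_lit 0x50304000102060807) (nat_lit 1795))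
 (.leaf (nat_lit 0x50304000102070608) (nat_lit 2051))
))) (.node (nat_lit 0x50304000201060708) (.node (nat_lit 0x50304000102080607) (.leaf (nat_lit 0x50304000102070806) (nat_lit 1797))
 (.node (nat_lit 0x50304000102080706) (.leaf (nat_lit 0x50304000102080607) (nat_lit 2050))
 (.leaf (nat_lit 0x50304000102080706) (nat_lit 1539))
)) (.node (nat_lit 0x50304000201060807) (.leaf (nat_lit 0x50304000201060708) (nat_lit 1797))
 (.node (nat_lit 0x50304000201070608) (.leaf (nat_lit 0x50304000201060807) (nat_lit 1539))
 (.leaf (nat_lit 0x50304000201070608) (nat_lit 1795))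
))))))) (.node (nat_lit 0x50304070608000201) (.node (nat_lit 0x50304020001080706) (.node (nat_lit 0x50304010200060807) (.node (nat_lit 0x50304010002070608) (.node (nat_lit 0x50304000201080706) (.node (nat_lit 0x50304000201080607) (.leaf (nat_lit 0x50304000201070806) (nat_lit 1541))
 (.leaf (nat_lit 0x50304000201080607) (nat_lit 1794))
) (.node (nat_lit 0x50304010002060708) (.leaf (nat_lit 0x50304000201080706) (nat_lit 1283))
 (.node (nat_lit 0x50304010002060807) (.leaf (nat_lit 0x50304010002060708) (nat_lit 2053))
 (.leaf (nat_lit 0x50304010002060807) (nat_lit 1795))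
))) (.node (nat_lit 0x50304010002080607) (.node (nat_lit 0x50304010002070806) (.leaf (nat_lit 0x50304010002070608) (nat_lit 2051))
 (.leaf (nat_lit 0x50304010002070806) (nat_lit 1797))
) (.node (nat_lit 0x50304010002080706) (.leaf (nat_lit 0x50304010002080607) (nat_lit 2050))
 (.node (nat_lit 0x50304010200060708) (.leaf (nat_lit 0x50304010002080706) (nat_lit 1539))
 (.leaf (nat_lit 0x50304010200060708) (nat_lit 1797))
)))) (.node (nat_lit 0x50304020001060708) (.node (nat_lit 0x50304010200070806) (.node (nat_lit 0x50304010200070608) (.leaf (nat_lit 0x50304010200060807) (nat_lit 1539))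
 (.leaf (nat_lit 0x50304010200070608) (nat_lit 1795))
) (.node (nat_lit 0x50304010200080607) (.leaf (nat_lit 0x50304010200070806) (nat_lit 1541))
 (.node (nat_lit 0x50304010200080706) (.leaf (nat_lit 0x50304010200080607) (nat_lit 1794))
 (.leaf (nat_lit 0x50304010200080706) (nat_lit 1283))
))) (.node (nat_lit 0x50304020001070608) (.node (nat_lit 0x50304020001060807) (.leaf (nat_lit 0x50304020001060708) (nat_lit 2053))
 (.leaf (nat_lit 0x50304020001060807) (nat_lit 1795))
) (.node (nat_lit 0x50304020001070806) (.leaf (nat_lit 0x50304020001070608) (nat_lit 2051))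
 (.node (nat_lit 0x50304020001080607) (.leaf (nat_lit 0x50304020001070806) (nat_lit 1797))
 (.leaf (nat_lit 0x50304020001080607) (nat_lit 2050))
))))) (.node (nat_lit 0x50304060708010200) (.node (nat_lit 0x50304020100080607) (.node (nat_lit 0x50304020100060807) (.node (nat_lit 0x50304020100060708) (.leaf (nat_lit 0x50304020001080706) (nat_lit 1539))
 (.leaf (nat_lit 0x50304020100060708) (nat_lit 1541))
) (.node (nat_lit 0x50304020100070608) (.leaf (nat_lit 0x50304020100060807) (nat_lit 1283))
 (.node (nat_lit 0x50304020100070806) (.leaf (nat_lit 0x50304020100070608) (nat_lit 1539))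
 (.leaf (nat_lit 0x50304020100070806) (nat_lit 1285))
))) (.node (nat_lit 0x50304060708000102) (.node (nat_lit 0x50304020100080706) (.leaf (nat_lit 0x50304020100080607) (nat_lit 1538))
 (.leaf (nat_lit 0x50304020100080706) (nat_lit 1027))
) (.node (nat_lit 0x50304060708000201) (.leaf (nat_lit 0x50304060708000102) (nat_lit 2309))
 (.node (nat_lit 0x50304060708010002) (.leaf (nat_lit 0x50304060708000201) (nat_lit 1797))
 (.leaf (nat_lit 0x50304060708010002) (nat_lit 2053))
)))) (.node (nat_lit 0x50304060807010002) (.node (nat_lit 0x50304060708020100) (.node (nat_lit 0x50304060708020001) (.leaf (nat_lit 0x50304060708010200) (nat_lit 2053))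
 (.leaf (nat_lit 0x50304060708020001) (nat_lit 2309))
) (.node (nat_lit 0x50304060807000102) (.leaf (nat_lit 0x50304060708020100) (nat_lit 1541))
 (.node (nat_lit 0x50304060807000201) (.leaf (nat_lit 0x50304060807000102) (nat_lit 2051))
 (.leaf (nat_lit 0x50304060807000201) (nat_lit 1540))
))) (.node (nat_lit 0x50304060807020001) (.node (nat_lit 0x50304060807010200) (.leaf (nat_lit 0x50304060807010002) (nat_lit 1796))
 (.leaf (nat_lit 0x50304060807010200) (nat_lit 1795))
) (.node (nat_lit 0x50304060807020100) (.leaf (nat_lit 0x50304060807020001) (nat_lit 2051))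
 (.node (nat_lit 0x50304070608000102) (.leaf (nat_lit 0x50304060807020100) (nat_lit 1284))
 (.leaf (nat_lit 0x50304070608000102) (nat_lit 2307))
)))))) (.node (nat_lit 0x50304080706010200) (.node (nat_lit 0x50304070806020100) (.node (nat_lit 0x50304070806000102) (.node (nat_lit 0x50304070608010200) (.node (nat_lit 0x50304070608010002) (.leaf (nat_lit 0x50304070608000201) (nat_lit 1796))
 (.leaf (nat_lit 0x50304070608010002) (nat_lit 2052))
) (.node (nat_lit 0x50304070608020001) (.leaf (nat_lit 0x50304070608010200) (nat_lit 2051))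
 (.node (nat_lit 0x50304070608020100) (.leaf (nat_lit 0x50304070608020001) (nat_lit 2307))
 (.leaf (nat_lit 0x50304070608020100) (nat_lit 1540))
))) (.node (nat_lit 0x50304070806010002) (.node (nat_lit 0x50304070806000201) (.leaf (nat_lit 0x50304070806000102) (nat_lit 2053))
 (.leaf (nat_lit 0x50304070806000201) (nat_lit 1541))
) (.node (nat_lit 0x50304070806010200) (.leaf (nat_lit 0x50304070806010002) (nat_lit 1797))
 (.node (nat_lit 0x50304070806020001) (.leaf (nat_lit 0x50304070806010200) (nat_lit 1797))
 (.leaf (nat_lit 0x50304070806020001) (nat_lit 2053))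
)))) (.node (nat_lit 0x50304080607020001) (.node (nat_lit 0x50304080607000201) (.node (nat_lit 0x50304080607000102) (.leaf (nat_lit 0x50304070806020100) (nat_lit 1285))
 (.leaf (nat_lit 0x50304080607000102) (nat_lit 2306))
) (.node (nat_lit 0x50304080607010002) (.leaf (nat_lit 0x50304080607000201) (nat_lit 1794))
 (.node (nat_lit 0x50304080607010200) (.leaf (nat_lit 0x50304080607010002) (nat_lit 2050))
 (.leaf (nat_lit 0x50304080607010200) (nat_lit 2050))
))) (.node (nat_lit 0x50304080706000102) (.node (nat_lit 0x50304080607020100) (.leaf (nat_lit 0x50304080607020001) (nat_lit 2306))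
 (.leaf (nat_lit 0x50304080607020100) (nat_lit 1538))
) (.node (nat_lit 0x50304080706000201) (.leaf (nat_lit 0x50304080706000102) (nat_lit 1795))
 (.node (nat_lit 0x50304080706010002) (.leaf (nat_lit 0x50304080706000201) (nat_lit 1284))
 (.leaf (nat_lit 0x50304080706010002) (nat_lit 1540))
))))) (.node (nat_lit 0x50403000201060807) (.node (nat_lit 0x50403000102070608) (.node (nat_lit 0x50304080706020100) (.node (nat_lit 0x50304080706020001) (.leaf (nat_lit 0x50304080706010200) (nat_lit 1539))
 (.leaf (nat_lit 0x50304080706020001) (nat_lit 1795))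
) (.node (nat_lit 0x50403000102060708) (.leaf (nat_lit 0x50304080706020100) (nat_lit 1028))
 (.node (nat_lit 0x50403000102060807) (.leaf (nat_lit 0x50403000102060708) (nat_lit 1541))
 (.leaf (nat_lit 0x50403000102060807) (nat_lit 1283))
))) (.node (nat_lit 0x50403000102080607) (.node (nat_lit 0x50403000102070806) (.leaf (nat_lit 0x50403000102070608) (nat_lit 1539))
 (.leaf (nat_lit 0x50403000102070806) (nat_lit 1285))
) (.node (nat_lit 0x50403000102080706) (.leaf (nat_lit 0x50403000102080607) (nat_lit 1538))
 (.node (nat_lit 0x50403000201060708) (.leaf (nat_lit 0x50403000102080706) (nat_lit 1027))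
 (.leaf (nat_lit 0x50403000201060708) (nat_lit 1285))
)))) (.node (nat_lit 0x50403010002060708) (.node (nat_lit 0x50403000201070806) (.node (nat_lit 0x50403000201070608) (.leaf (nat_lit 0x50403000201060807) (nat_lit 1027))
 (.leaf (nat_lit 0x50403000201070608) (nat_lit 1283))
) (.node (nat_lit 0x50403000201080607) (.leaf (nat_lit 0x50403000201070806) (nat_lit 1029))
 (.node (nat_lit 0x50403000201080706) (.leaf (nat_lit 0x50403000201080607) (nat_lit 1282))
 (.leaf (nat_lit 0x50403000201080706) (nat_lit 771))
))) (.node (nat_lit 0x50403010002070806) (.node (nat_lit 0x50403010002060807) (.leaf (nat_lit 0x50403010002060708) (nat_lit 1541))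
 (.node (nat_lit 0x50403010002070608) (.leaf (nat_lit 0x50403010002060807) (nat_lit 1283))
 (.leaf (nat_lit 0x50403010002070608) (nat_lit 1539))
)) (.node (nat_lit 0x50403010002080607) (.leaf (nat_lit 0x50403010002070806) (nat_lit 1285))
 (.node (nat_lit 0x50403010002080706) (.leaf (nat_lit 0x50403010002080607) (nat_lit 1538))
 (.leaf (nat_lit 0x50403010002080706) (nat_lit 1027))
)))))))) (.node (nat_lit 0x60708020001040503) (.node (nat_lit 0x50403070806020001) (.node (nat_lit 0x50403060708010002) (.node (nat_lit 0x50403020001080607) (.node (nat_lit 0x50403010200080706) (.node (nat_lit 0x50403010200070608) (.node (nat_lit 0x50403010200060807) (.leaf (nat_lit 0x50403010200060708) (nat_lit 1285))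
 (.leaf (nat_lit 0x50403010200060807) (nat_lit 1027))
) (.node (nat_lit 0x50403010200070806) (.leaf (nat_lit 0x50403010200070608) (nat_lit 1283))
 (.node (nat_lit 0x50403010200080607) (.leaf (nat_lit 0x50403010200070806) (nat_lit 1029))
 (.leaf (nat_lit 0x50403010200080607) (nat_lit 1282))
))) (.node (nat_lit 0x50403020001060807) (.node (nat_lit 0x50403020001060708) (.leaf (nat_lit 0x50403010200080706) (nat_lit 771))
 (.leaf (nat_lit 0x50403020001060708) (nat_lit 1541))
) (.node (nat_lit 0x50403020001070608) (.leaf (nat_lit 0x50403020001060807) (nat_lit 1283))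
 (.node (nat_lit 0x50403020001070806) (.leaf (nat_lit 0x50403020001070608) (nat_lit 1539))
 (.leaf (nat_lit 0x50403020001070806) (nat_lit 1285))
)))) (.node (nat_lit 0x50403020100070806) (.node (nat_lit 0x50403020100060708) (.node (nat_lit 0x50403020001080706) (.leaf (nat_lit 0x50403020001080607) (nat_lit 1538))
 (.leaf (nat_lit 0x50403020001080706) (nat_lit 1027))
) (.node (nat_lit 0x50403020100060807) (.leaf (nat_lit 0x50403020100060708) (nat_lit 1029))
 (.node (nat_lit 0x50403020100070608) (.leaf (nat_lit 0x50403020100060807) (nat_lit 771))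
 (.leaf (nat_lit 0x50403020100070608) (nat_lit 1027))
))) (.node (nat_lit 0x50403020100080706) (.node (nat_lit 0x50403020100080607) (.leaf (nat_lit 0x50403020100070806) (nat_lit 773))
 (.leaf (nat_lit 0x50403020100080607) (nat_lit 1026))
) (.node (nat_lit 0x50403060708000102) (.leaf (nat_lit 0x50403020100080706) (nat_lit 515))
 (.node (nat_lit 0x50403060708000201) (.leaf (nat_lit 0x50403060708000102) (nat_lit 1797))
 (.leaf (nat_lit 0x50403060708000201) (nat_lit 1285))
))))) (.node (nat_lit 0x50403070608000102) (.node (nat_lit 0x50403060807000201) (.node (nat_lit 0x50403060708020001) (.node (nat_lit 0x50403060708010200) (.leaf (nat_lit 0x50403060708010002) (nat_lit 1541))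
 (.leaf (nat_lit 0x50403060708010200) (nat_lit 1541))
) (.node (nat_lit 0x50403060708020100) (.leaf (nat_lit 0x50403060708020001) (nat_lit 1797))
 (.node (nat_lit 0x50403060807000102) (.leaf (nat_lit 0x50403060708020100) (nat_lit 1029))
 (.leaf (nat_lit 0x50403060807000102) (nat_lit 1539))
))) (.node (nat_lit 0x50403060807010200) (.node (nat_lit 0x50403060807010002) (.leaf (nat_lit 0x50403060807000201) (nat_lit 1028))
 (.leaf (nat_lit 0x50403060807010002) (nat_lit 1284))
) (.node (nat_lit 0x50403060807020001) (.leaf (nat_lit 0x50403060807010200) (nat_lit 1283))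
 (.node (nat_lit 0x50403060807020100) (.leaf (nat_lit 0x50403060807020001) (nat_lit 1539))
 (.leaf (nat_lit 0x50403060807020100) (nat_lit 772))
)))) (.node (nat_lit 0x50403070608020100) (.node (nat_lit 0x50403070608010002) (.node (nat_lit 0x50403070608000201) (.leaf (nat_lit 0x50403070608000102) (nat_lit 1795))
 (.leaf (nat_lit 0x50403070608000201) (nat_lit 1284))
) (.node (nat_lit 0x50403070608010200) (.leaf (nat_lit 0x50403070608010002) (nat_lit 1540))
 (.node (nat_lit 0x50403070608020001) (.leaf (nat_lit 0x50403070608010200) (nat_lit 1539))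
 (.leaf (nat_lit 0x50403070608020001) (nat_lit 1795))
))) (.node (nat_lit 0x50403070806000201) (.node (nat_lit 0x50403070806000102) (.leaf (nat_lit 0x50403070608020100) (nat_lit 1028))
 (.leaf (nat_lit 0x50403070806000102) (nat_lit 1541))
) (.node (nat_lit 0x50403070806010002) (.leaf (nat_lit 0x50403070806000201) (nat_lit 1029))
 (.node (nat_lit 0x50403070806010200) (.leaf (nat_lit 0x50403070806010002) (nat_lit 1285))
 (.leaf (nat_lit 0x50403070806010200) (nat_lit 1285))
)))))) (.node (nat_lit 0x60708000201030405) (.node (nat_lit 0x50403080706010002) (.node (nat_lit 0x50403080607010200) (.node (nat_lit 0x50403080607000102) (.node (nat_lit 0x50403070806020100) (.leaf (nat_lit 0x50403070806020001) (nat_lit 1541))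
 (.leaf (nat_lit 0x50403070806020100) (nat_lit 773))
) (.node (nat_lit 0x50403080607000201) (.leaf (nat_lit 0x50403080607000102) (nat_lit 1794))
 (.node (nat_lit 0x50403080607010002) (.leaf (nat_lit 0x50403080607000201) (nat_lit 1282))
 (.leaf (nat_lit 0x50403080607010002) (nat_lit 1538))
))) (.node (nat_lit 0x50403080607020100) (.node (nat_lit 0x50403080607020001) (.leaf (nat_lit 0x50403080607010200) (nat_lit 1538))
 (.leaf (nat_lit 0x50403080607020001) (nat_lit 1794))
) (.node (nat_lit 0x50403080706000102) (.leaf (nat_lit 0x50403080607020100) (nat_lit 1026))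
 (.node (nat_lit 0x50403080706000201) (.leaf (nat_lit 0x50403080706000102) (nat_lit 1283))
 (.leaf (nat_lit 0x50403080706000201) (nat_lit 772))
)))) (.node (nat_lit 0x60708000102030504) (.node (nat_lit 0x50403080706020001) (.node (nat_lit 0x50403080706010200) (.leaf (nat_lit 0x50403080706010002) (nat_lit 1028))
 (.leaf (nat_lit 0x50403080706010200) (nat_lit 1027))
) (.node (nat_lit 0x50403080706020100) (.leaf (nat_lit 0x50403080706020001) (nat_lit 1283))
 (.node (nat_lit 0x60708000102030405) (.leaf (nat_lit 0x50403080706020100) (nat_lit 516))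
 (.leaf (nat_lit 0x60708000102030405) (nat_lit 2565))
))) (.node (nat_lit 0x60708000102040503) (.node (nat_lit 0x60708000102040305) (.leaf (nat_lit 0x60708000102030504) (nat_lit 2053))
 (.leaf (nat_lit 0x60708000102040305) (nat_lit 2309))
) (.node (nat_lit 0x60708000102050304) (.leaf (nat_lit 0x60708000102040503) (nat_lit 2309))
 (.node (nat_lit 0x60708000102050403) (.leaf (nat_lit 0x60708000102050304) (nat_lit 2565))
 (.leaf (nat_lit 0x60708000102050403) (nat_lit 1797))
))))) (.node (nat_lit 0x60708010002050304) (.node (nat_lit 0x60708000201050403) (.node (nat_lit 0x60708000201040305) (.node (nat_lit 0x60708000201030504) (.leaf (nat_lit 0x60708000201030405) (nat_lit 2309))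
 (.leaf (nat_lit 0x60708000201030504) (nat_lit 1285))
) (.node (nat_lit 0x60708000201040503) (.leaf (nat_lit 0x60708000201040305) (nat_lit 1541))
 (.node (nat_lit 0x60708000201050304) (.leaf (nat_lit 0x60708000201040503) (nat_lit 2053))
 (.leaf (nat_lit 0x60708000201050304) (nat_lit 2309))
))) (.node (nat_lit 0x60708010002030504) (.node (nat_lit 0x60708010002030405) (.leaf (nat_lit 0x60708000201050403) (nat_lit 1029))
 (.leaf (nat_lit 0x60708010002030405) (nat_lit 2565))
) (.node (nat_lit 0x60708010002040305) (.leaf (nat_lit 0x60708010002030504) (nat_lit 1541))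
 (.node (nat_lit 0x60708010002040503) (.leaf (nat_lit 0x60708010002040305) (nat_lit 1797))
 (.leaf (nat_lit 0x60708010002040503) (nat_lit 2309))
)))) (.node (nat_lit 0x60708010200040503) (.node (nat_lit 0x60708010200030405) (.node (nat_lit 0x60708010002050403) (.leaf (nat_lit 0x60708010002050304) (nat_lit 2565))
 (.leaf (nat_lit 0x60708010002050403) (nat_lit 1285))
) (.node (nat_lit 0x60708010200030504) (.leaf (nat_lit 0x60708010200030405) (nat_lit 2309))
 (.node (nat_lit 0x60708010200040305) (.leaf (nat_lit 0x60708010200030504) (nat_lit 1797))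
 (.leaf (nat_lit 0x60708010200040305) (nat_lit 2053))
))) (.node (nat_lit 0x60708020001030405) (.node (nat_lit 0x60708010200050304) (.leaf (nat_lit 0x60708010200040503) (nat_lit 2053))
 (.node (nat_lit 0x60708010200050403) (.leaf (nat_lit 0x60708010200050304) (nat_lit 2309))
 (.leaf (nat_lit 0x60708010200050403) (nat_lit 1541))
)) (.node (nat_lit 0x60708020001030504) (.leaf (nat_lit 0x60708020001030405) (nat_lit 2565))
 (.node (nat_lit 0x60708020001040305) (.leaf (nat_lit 0x60708020001030504) (nat_lit 2053))
 (.leaf (nat_lit 0x60708020001040305) (nat_lit 2309))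
))))))) (.node (nat_lit 0x60708050403000201) (.node (nat_lit 0x60708030504020100) (.node (nat_lit 0x60708030405000201) (.node (nat_lit 0x60708020100040305) (.node (nat_lit 0x60708020001050403) (.node (nat_lit 0x60708020001050304) (.leaf (nat_lit 0x60708020001040503) (nat_lit 2309))
 (.leaf (nat_lit 0x60708020001050304) (nat_lit 2565))
) (.node (nat_lit 0x60708020100030405) (.leaf (nat_lit 0x60708020001050403) (nat_lit 1797))
 (.node (nat_lit 0x60708020100030504) (.leaf (nat_lit 0x60708020100030405) (nat_lit 2053))
 (.leaf (nat_lit 0x60708020100030504) (nat_lit 1029))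
))) (.node (nat_lit 0x60708020100050304) (.node (nat_lit 0x60708020100040503) (.leaf (nat_lit 0x60708020100040305) (nat_lit 1285))
 (.leaf (nat_lit 0x60708020100040503) (nat_lit 1797))
) (.node (nat_lit 0x60708020100050403) (.leaf (nat_lit 0x60708020100050304) (nat_lit 2053))
 (.node (nat_lit 0x60708030405000102) (.leaf (nat_lit 0x60708020100050403) (nat_lit 773))
 (.leaf (nat_lit 0x60708030405000102) (nat_lit 2309))
)))) (.node (nat_lit 0x60708030504000102) (.node (nat_lit 0x60708030405010200) (.node (nat_lit 0x60708030405010002) (.leaf (nat_lit 0x60708030405000201) (nat_lit 2053))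
 (.leaf (nat_lit 0x60708030405010002) (nat_lit 2309))
) (.node (nat_lit 0x60708030405020001) (.leaf (nat_lit 0x60708030405010200) (nat_lit 2053))
 (.node (nat_lit 0x60708030405020100) (.leaf (nat_lit 0x60708030405020001) (nat_lit 2309))
 (.leaf (nat_lit 0x60708030405020100) (nat_lit 1797))
))) (.node (nat_lit 0x60708030504010002) (.node (nat_lit 0x60708030504000201) (.leaf (nat_lit 0x60708030504000102) (nat_lit 2053))
 (.leaf (nat_lit 0x60708030504000201) (nat_lit 1029))
) (.node (nat_lit 0x60708030504010200) (.leaf (nat_lit 0x60708030504010002) (nat_lit 1285))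
 (.node (nat_lit 0x60708030504020001) (.leaf (nat_lit 0x60708030504010200) (nat_lit 1797))
 (.leaf (nat_lit 0x60708030504020001) (nat_lit 2053))
))))) (.node (nat_lit 0x60708040503010200) (.node (nat_lit 0x60708040305020001) (.node (nat_lit 0x60708040305000201) (.node (nat_lit 0x60708040305000102) (.leaf (nat_lit 0x60708030504020100) (nat_lit 773))
 (.leaf (nat_lit 0x60708040305000102) (nat_lit 2309))
) (.node (nat_lit 0x60708040305010002) (.leaf (nat_lit 0x60708040305000201) (nat_lit 1285))
 (.node (nat_lit 0x60708040305010200) (.leaf (nat_lit 0x60708040305010002) (nat_lit 1541))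
 (.leaf (nat_lit 0x60708040305010200) (nat_lit 2053))
))) (.node (nat_lit 0x60708040503000102) (.node (nat_lit 0x60708040305020100) (.leaf (nat_lit 0x60708040305020001) (nat_lit 2309))
 (.leaf (nat_lit 0x60708040305020100) (nat_lit 1029))
) (.node (nat_lit 0x60708040503000201) (.leaf (nat_lit 0x60708040503000102) (nat_lit 2053))
 (.node (nat_lit 0x60708040503010002) (.leaf (nat_lit 0x60708040503000201) (nat_lit 1797))
 (.leaf (nat_lit 0x60708040503010002) (nat_lit 2053))
)))) (.node (nat_lit 0x60708050304010002) (.node (nat_lit 0x60708040503020100) (.node (nat_lit 0x60708040503020001) (.leaf (nat_lit 0x60708040503010200) (nat_lit 1797))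
 (.leaf (nat_lit 0x60708040503020001) (nat_lit 2053))
) (.node (nat_lit 0x60708050304000102) (.leaf (nat_lit 0x60708040503020100) (nat_lit 1541))
 (.node (nat_lit 0x60708050304000201) (.leaf (nat_lit 0x60708050304000102) (nat_lit 2309))
 (.leaf (nat_lit 0x60708050304000201) (nat_lit 2053))
))) (.node (nat_lit 0x60708050304020001) (.node (nat_lit 0x60708050304010200) (.leaf (nat_lit 0x60708050304010002) (nat_lit 2309))
 (.leaf (nat_lit 0x60708050304010200) (nat_lit 2053))
) (.node (nat_lit 0x60708050304020100) (.leaf (nat_lit 0x60708050304020001) (nat_lit 2309))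
 (.node (nat_lit 0x60708050403000102) (.leaf (nat_lit 0x60708050304020100) (nat_lit 1797))
 (.leaf (nat_lit 0x60708050403000102) (nat_lit 1797))
)))))) (.node (nat_lit 0x60807010002040503) (.node (nat_lit 0x60807000102050403) (.node (nat_lit 0x60807000102030405) (.node (nat_lit 0x60708050403010200) (.node (nat_lit 0x60708050403010002) (.leaf (nat_lit 0x60708050403000201) (nat_lit 773))
 (.leaf (nat_lit 0x60708050403010002) (nat_lit 1029))
) (.node (nat_lit 0x60708050403020001) (.leaf (nat_lit 0x60708050403010200) (nat_lit 1541))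
 (.node (nat_lit 0x60708050403020100) (.leaf (nat_lit 0x60708050403020001) (nat_lit 1797))
 (.leaf (nat_lit 0x60708050403020100) (nat_lit 517))
))) (.node (nat_lit 0x60807000102040305) (.node (nat_lit 0x60807000102030504) (.leaf (nat_lit 0x60807000102030405) (nat_lit 2308))
 (.leaf (nat_lit 0x60807000102030504) (nat_lit 1795))
) (.node (nat_lit 0x60807000102040503) (.leaf (nat_lit 0x60807000102040305) (nat_lit 2051))
 (.node (nat_lit 0x60807000102050304) (.leaf (nat_lit 0x60807000102040503) (nat_lit 2052))
 (.leaf (nat_lit 0x60807000102050304) (nat_lit 2308))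
)))) (.node (nat_lit 0x60807000201050304) (.node (nat_lit 0x60807000201030504) (.node (nat_lit 0x60807000201030405) (.leaf (nat_lit 0x60807000102050403) (nat_lit 1539))
 (.leaf (nat_lit 0x60807000201030405) (nat_lit 2052))
) (.node (nat_lit 0x60807000201040305) (.leaf (nat_lit 0x60807000201030504) (nat_lit 1028))
 (.node (nat_lit 0x60807000201040503) (.leaf (nat_lit 0x60807000201040305) (nat_lit 1284))
 (.leaf (nat_lit 0x60807000201040503) (nat_lit 1796))
))) (.node (nat_lit 0x60807010002030405) (.node (nat_lit 0x60807000201050403) (.leaf (nat_lit 0x60807000201050304) (nat_lit 2052))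
 (.leaf (nat_lit 0x60807000201050403) (nat_lit 772))
) (.node (nat_lit 0x60807010002030504) (.leaf (nat_lit 0x60807010002030405) (nat_lit 2308))
 (.node (nat_lit 0x60807010002040305) (.leaf (nat_lit 0x60807010002030504) (nat_lit 1284))
 (.leaf (nat_lit 0x60807010002040305) (nat_lit 1540))
))))) (.node (nat_lit 0x60807020001030504) (.node (nat_lit 0x60807010200040305) (.node (nat_lit 0x60807010002050403) (.node (nat_lit 0x60807010002050304) (.leaf (nat_lit 0x60807010002040503) (nat_lit 2052))
 (.leaf (nat_lit 0x60807010002050304) (nat_lit 2308))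
) (.node (nat_lit 0x60807010200030405) (.leaf (nat_lit 0x60807010002050403) (nat_lit 1028))
 (.node (nat_lit 0x60807010200030504) (.leaf (nat_lit 0x60807010200030405) (nat_lit 2052))
 (.leaf (nat_lit 0x60807010200030504) (nat_lit 1539))
))) (.node (nat_lit 0x60807010200050304) (.node (nat_lit 0x60807010200040503) (.leaf (nat_lit 0x60807010200040305) (nat_lit 1795))
 (.leaf (nat_lit 0x60807010200040503) (nat_lit 1796))
) (.node (nat_lit 0x60807010200050403) (.leaf (nat_lit 0x60807010200050304) (nat_lit 2052))
 (.node (nat_lit 0x60807020001030405) (.leaf (nat_lit 0x60807010200050403) (nat_lit 1283))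
 (.leaf (nat_lit 0x60807020001030405) (nat_lit 2308))
)))) (.node (nat_lit 0x60807020100030405) (.node (nat_lit 0x60807020001040503) (.node (nat_lit 0x60807020001040305) (.leaf (nat_lit 0x60807020001030504) (nat_lit 1795))
 (.leaf (nat_lit 0x60807020001040305) (nat_lit 2051))
) (.node (nat_lit 0x60807020001050304) (.leaf (nat_lit 0x60807020001040503) (nat_lit 2052))
 (.node (nat_lit 0x60807020001050403) (.leaf (nat_lit 0x60807020001050304) (nat_lit 2308))
 (.leaf (nat_lit 0x60807020001050403) (nat_lit 1539))
))) (.node (nat_lit 0x60807020100040503) (.node (nat_lit 0x60807020100030504) (.leaf (nat_lit 0x60807020100030405) (nat_lit 1796))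
 (.node (nat_lit 0x60807020100040305) (.leaf (nat_lit 0x60807020100030504) (nat_lit 772))
 (.leaf (nat_lit 0x60807020100040305) (nat_lit 1028))
)) (.node (nat_lit 0x60807020100050304) (.leaf (nat_lit 0x60807020100040503) (nat_lit 1540))
 (.node (nat_lit 0x60807020100050403) (.leaf (nat_lit 0x60807020100050304) (nat_lit 1796))
 (.leaf (nat_lit 0x60807020100050403) (nat_lit 516))
))))))))) (.node (nat_lit 0x70806040503000102) (.node (nat_lit 0x70608030504010200) (.node (nat_lit 0x70608000102050304) (.node (nat_lit 0x60807040503010002) (.node (nat_lit 0x60807030504020001) (.node (nat_lit 0x60807030405020100) (.node (nat_lit 0x60807030405010002) (.node (nat_lit 0x60807030405000201) (.leaf (nat_lit 0x60807030405000102) (nat_lit 2051))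
 (.leaf (nat_lit 0x60807030405000201) (nat_lit 1795))
) (.node (nat_lit 0x60807030405010200) (.leaf (nat_lit 0x60807030405010002) (nat_lit 2051))
 (.node (nat_lit 0x60807030405020001) (.leaf (nat_lit 0x60807030405010200) (nat_lit 1795))
 (.leaf (nat_lit 0x60807030405020001) (nat_lit 2051))
))) (.node (nat_lit 0x60807030504000201) (.node (nat_lit 0x60807030504000102) (.leaf (nat_lit 0x60807030405020100) (nat_lit 1539))
 (.leaf (nat_lit 0x60807030504000102) (nat_lit 1795))
) (.node (nat_lit 0x60807030504010002) (.leaf (nat_lit 0x60807030504000201) (nat_lit 770))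
 (.node (nat_lit 0x60807030504010200) (.leaf (nat_lit 0x60807030504010002) (nat_lit 1026))
 (.leaf (nat_lit 0x60807030504010200) (nat_lit 1539))
)))) (.node (nat_lit 0x60807040305010200) (.node (nat_lit 0x60807040305000102) (.node (nat_lit 0x60807030504020100) (.leaf (nat_lit 0x60807030504020001) (nat_lit 1795))
 (.leaf (nat_lit 0x60807030504020100) (nat_lit 514))
) (.node (nat_lit 0x60807040305000201) (.leaf (nat_lit 0x60807040305000102) (nat_lit 2051))
 (.node (nat_lit 0x60807040305010002) (.leaf (nat_lit 0x60807040305000201) (nat_lit 1026))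
 (.leaf (nat_lit 0x60807040305010002) (nat_lit 1282))
))) (.node (nat_lit 0x60807040305020100) (.node (nat_lit 0x60807040305020001) (.leaf (nat_lit 0x60807040305010200) (nat_lit 1795))
 (.leaf (nat_lit 0x60807040305020001) (nat_lit 2051))
) (.node (nat_lit 0x60807040503000102) (.leaf (nat_lit 0x60807040305020100) (nat_lit 770))
 (.node (nat_lit 0x60807040503000201) (.leaf (nat_lit 0x60807040503000102) (nat_lit 1795))
 (.leaf (nat_lit 0x60807040503000201) (nat_lit 1539))
))))) (.node (nat_lit 0x60807050403000102) (.node (nat_lit 0x60807050304000201) (.node (nat_lit 0x60807040503020001) (.node (nat_lit 0x60807040503010200) (.leaf (nat_lit 0x60807040503010002) (nat_lit 1795))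
 (.leaf (nat_lit 0x60807040503010200) (nat_lit 1539))
) (.node (nat_lit 0x60807040503020100) (.leaf (nat_lit 0x60807040503020001) (nat_lit 1795))
 (.node (nat_lit 0x60807050304000102) (.leaf (nat_lit 0x60807040503020100) (nat_lit 1283))
 (.leaf (nat_lit 0x60807050304000102) (nat_lit 2051))
))) (.node (nat_lit 0x60807050304010200) (.node (nat_lit 0x60807050304010002) (.leaf (nat_lit 0x60807050304000201) (nat_lit 1795))
 (.leaf (nat_lit 0x60807050304010002) (nat_lit 2051))
) (.node (nat_lit 0x60807050304020001) (.leaf (nat_lit 0x60807050304010200) (nat_lit 1795))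
 (.node (nat_lit 0x60807050304020100) (.leaf (nat_lit 0x60807050304020001) (nat_lit 2051))
 (.leaf (nat_lit 0x60807050304020100) (nat_lit 1539))
)))) (.node (nat_lit 0x60807050403020100) (.node (nat_lit 0x60807050403010002) (.node (nat_lit 0x60807050403000201) (.leaf (nat_lit 0x60807050403000102) (nat_lit 1539))
 (.leaf (nat_lit 0x60807050403000201) (nat_lit 514))
) (.node (nat_lit 0x60807050403010200) (.leaf (nat_lit 0x60807050403010002) (nat_lit 770))
 (.node (nat_lit 0x60807050403020001) (.leaf (nat_lit 0x60807050403010200) (nat_lit 1283))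
 (.leaf (nat_lit 0x60807050403020001) (nat_lit 1539))
))) (.node (nat_lit 0x70608000102030504) (.node (nat_lit 0x70608000102030405) (.leaf (nat_lit 0x60807050403020100) (nat_lit 258))
 (.leaf (nat_lit 0x70608000102030405) (nat_lit 2564))
) (.node (nat_lit 0x70608000102040305) (.leaf (nat_lit 0x70608000102030504) (nat_lit 2051))
 (.node (nat_lit 0x70608000102040503) (.leaf (nat_lit 0x70608000102040305) (nat_lit 2307))
 (.leaf (nat_lit 0x70608000102040503) (nat_lit 2308))
)))))) (.node (nat_lit 0x70608020001030405) (.node (nat_lit 0x70608010002040305) (.node (nat_lit 0x70608000201040503) (.node (nat_lit 0x70608000201030405) (.node (nat_lit 0x70608000102050403) (.leaf (nat_lit 0x70608000102050304) (nat_lit 2564))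
 (.leaf (nat_lit 0x70608000102050403) (nat_lit 1795))
) (.node (nat_lit 0x70608000201030504) (.leaf (nat_lit 0x70608000201030405) (nat_lit 2308))
 (.node (nat_lit 0x70608000201040305) (.leaf (nat_lit 0x70608000201030504) (nat_lit 1284))
 (.leaf (nat_lit 0x70608000201040305) (nat_lit 1540))
))) (.node (nat_lit 0x70608000201050403) (.node (nat_lit 0x70608000201050304) (.leaf (nat_lit 0x70608000201040503) (nat_lit 2052))
 (.leaf (nat_lit 0x70608000201050304) (nat_lit 2308))
) (.node (nat_lit 0x70608010002030405) (.leaf (nat_lit 0x70608000201050403) (nat_lit 1028))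
 (.node (nat_lit 0x70608010002030504) (.leaf (nat_lit 0x70608010002030405) (nat_lit 2564))
 (.leaf (nat_lit 0x70608010002030504) (nat_lit 1540))
)))) (.node (nat_lit 0x70608010200030504) (.node (nat_lit 0x70608010002050304) (.node (nat_lit 0x70608010002040503) (.leaf (nat_lit 0x70608010002040305) (nat_lit 1796))
 (.leaf (nat_lit 0x70608010002040503) (nat_lit 2308))
) (.node (nat_lit 0x70608010002050403) (.leaf (nat_lit 0x70608010002050304) (nat_lit 2564))
 (.node (nat_lit 0x70608010200030405) (.leaf (nat_lit 0x70608010002050403) (nat_lit 1284))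
 (.leaf (nat_lit 0x70608010200030405) (nat_lit 2308))
))) (.node (nat_lit 0x70608010200040503) (.node (nat_lit 0x70608010200040305) (.leaf (nat_lit 0x70608010200030504) (nat_lit 1795))
 (.leaf (nat_lit 0x70608010200040305) (nat_lit 2051))
) (.node (nat_lit 0x70608010200050304) (.leaf (nat_lit 0x70608010200040503) (nat_lit 2052))
 (.node (nat_lit 0x70608010200050403) (.leaf (nat_lit 0x70608010200050304) (nat_lit 2308))
 (.leaf (nat_lit 0x70608010200050403) (nat_lit 1539))
))))) (.node (nat_lit 0x70608020100050304) (.node (nat_lit 0x70608020001050403) (.node (nat_lit 0x70608020001040305) (.node (nat_lit 0x70608020001030504) (.leaf (nat_lit 0x70608020001030405) (nat_lit 2564))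
 (.leaf (nat_lit 0x70608020001030504) (nat_lit 2051))
) (.node (nat_lit 0x70608020001040503) (.leaf (nat_lit 0x70608020001040305) (nat_lit 2307))
 (.node (nat_lit 0x70608020001050304) (.leaf (nat_lit 0x70608020001040503) (nat_lit 2308))
 (.leaf (nat_lit 0x70608020001050304) (nat_lit 2564))
))) (.node (nat_lit 0x70608020100030504) (.node (nat_lit 0x70608020100030405) (.leaf (nat_lit 0x70608020001050403) (nat_lit 1795))
 (.leaf (nat_lit 0x70608020100030405) (nat_lit 2052))
) (.node (nat_lit 0x70608020100040305) (.leaf (nat_lit 0x70608020100030504) (nat_lit 1028))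
 (.node (nat_lit 0x70608020100040503) (.leaf (nat_lit 0x70608020100040305) (nat_lit 1284))
 (.leaf (nat_lit 0x70608020100040503) (nat_lit 1796))
)))) (.node (nat_lit 0x70608030405010200) (.node (nat_lit 0x70608030405000102) (.node (nat_lit 0x70608020100050403) (.leaf (nat_lit 0x70608020100050304) (nat_lit 2052))
 (.leaf (nat_lit 0x70608020100050403) (nat_lit 772))
) (.node (nat_lit 0x70608030405000201) (.leaf (nat_lit 0x70608030405000102) (nat_lit 2307))
 (.node (nat_lit 0x70608030405010002) (.leaf (nat_lit 0x70608030405000201) (nat_lit 2051))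
 (.leaf (nat_lit 0x70608030405010002) (nat_lit 2307))
))) (.node (nat_lit 0x70608030504000102) (.node (nat_lit 0x70608030405020001) (.leaf (nat_lit 0x70608030405010200) (nat_lit 2051))
 (.node (nat_lit 0x70608030405020100) (.leaf (nat_lit 0x70608030405020001) (nat_lit 2307))
 (.leaf (nat_lit 0x70608030405020100) (nat_lit 1795))
)) (.node (nat_lit 0x70608030504000201) (.leaf (nat_lit 0x70608030504000102) (nat_lit 2051))
 (.node (nat_lit 0x70608030504010002) (.leaf (nat_lit 0x70608030504000201) (nat_lit 1026))
 (.leaf (nat_lit 0x70608030504010002) (nat_lit 1282))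
))))))) (.node (nat_lit 0x70806010002030504) (.node (nat_lit 0x70608050304020100) (.node (nat_lit 0x70608040503000201) (.node (nat_lit 0x70608040305010002) (.node (nat_lit 0x70608030504020100) (.node (nat_lit 0x70608030504020001) (.leaf (nat_lit 0x70608030504010200) (nat_lit 1795))
 (.leaf (nat_lit 0x70608030504020001) (nat_lit 2051))
) (.node (nat_lit 0x70608040305000102) (.leaf (nat_lit 0x70608030504020100) (nat_lit 770))
 (.node (nat_lit 0x70608040305000201) (.leaf (nat_lit 0x70608040305000102) (nat_lit 2307))
 (.leaf (nat_lit 0x70608040305000201) (nat_lit 1282))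
))) (.node (nat_lit 0x70608040305020001) (.node (nat_lit 0x70608040305010200) (.leaf (nat_lit 0x70608040305010002) (nat_lit 1538))
 (.leaf (nat_lit 0x70608040305010200) (nat_lit 2051))
) (.node (nat_lit 0x70608040305020100) (.leaf (nat_lit 0x70608040305020001) (nat_lit 2307))
 (.node (nat_lit 0x70608040503000102) (.leaf (nat_lit 0x70608040305020100) (nat_lit 1026))
 (.leaf (nat_lit 0x70608040503000102) (nat_lit 2051))
)))) (.node (nat_lit 0x70608050304000102) (.node (nat_lit 0x70608040503010200) (.node (nat_lit 0x70608040503010002) (.leaf (nat_lit 0x70608040503000201) (nat_lit 1795))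
 (.leaf (nat_lit 0x70608040503010002) (nat_lit 2051))
) (.node (nat_lit 0x70608040503020001) (.leaf (nat_lit 0x70608040503010200) (nat_lit 1795))
 (.node (nat_lit 0x70608040503020100) (.leaf (nat_lit 0x70608040503020001) (nat_lit 2051))
 (.leaf (nat_lit 0x70608040503020100) (nat_lit 1539))
))) (.node (nat_lit 0x70608050304010002) (.node (nat_lit 0x70608050304000201) (.leaf (nat_lit 0x70608050304000102) (nat_lit 2307))
 (.leaf (nat_lit 0x70608050304000201) (nat_lit 2051))
) (.node (nat_lit 0x70608050304010200) (.leaf (nat_lit 0x70608050304010002) (nat_lit 2307))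
 (.node (nat_lit 0x70608050304020001) (.leaf (nat_lit 0x70608050304010200) (nat_lit 2051))
 (.leaf (nat_lit 0x70608050304020001) (nat_lit 2307))
))))) (.node (nat_lit 0x70806000102040503) (.node (nat_lit 0x70608050403020001) (.node (nat_lit 0x70608050403000201) (.node (nat_lit 0x70608050403000102) (.leaf (nat_lit 0x70608050304020100) (nat_lit 1795))
 (.leaf (nat_lit 0x70608050403000102) (nat_lit 1795))
) (.node (nat_lit 0x70608050403010002) (.leaf (nat_lit 0x70608050403000201) (nat_lit 770))
 (.node (nat_lit 0x70608050403010200) (.leaf (nat_lit 0x70608050403010002) (nat_lit 1026))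
 (.leaf (nat_lit 0x70608050403010200) (nat_lit 1539))
))) (.node (nat_lit 0x70806000102030405) (.node (nat_lit 0x70608050403020100) (.leaf (nat_lit 0x70608050403020001) (nat_lit 1795))
 (.leaf (nat_lit 0x70608050403020100) (nat_lit 514))
) (.node (nat_lit 0x70806000102030504) (.leaf (nat_lit 0x70806000102030405) (nat_lit 2309))
 (.node (nat_lit 0x70806000102040305) (.leaf (nat_lit 0x70806000102030504) (nat_lit 1797))
 (.leaf (nat_lit 0x70806000102040305) (nat_lit 2053))
)))) (.node (nat_lit 0x70806000201040305) (.node (nat_lit 0x70806000102050403) (.node (nat_lit 0x70806000102050304) (.leaf (nat_lit 0x70806000102040503) (nat_lit 2053))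
 (.leaf (nat_lit 0x70806000102050304) (nat_lit 2309))
) (.node (nat_lit 0x70806000201030405) (.leaf (nat_lit 0x70806000102050403) (nat_lit 1541))
 (.node (nat_lit 0x70806000201030504) (.leaf (nat_lit 0x70806000201030405) (nat_lit 2053))
 (.leaf (nat_lit 0x70806000201030504) (nat_lit 1029))
))) (.node (nat_lit 0x70806000201050304) (.node (nat_lit 0x70806000201040503) (.leaf (nat_lit 0x70806000201040305) (nat_lit 1285))
 (.leaf (nat_lit 0x70806000201040503) (nat_lit 1797))
) (.node (nat_lit 0x70806000201050403) (.leaf (nat_lit 0x70806000201050304) (nat_lit 2053))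
 (.node (nat_lit 0x70806010002030405) (.leaf (nat_lit 0x70806000201050403) (nat_lit 773))
 (.leaf (nat_lit 0x70806010002030405) (nat_lit 2309))
)))))) (.node (nat_lit 0x70806020100040503) (.node (nat_lit 0x70806010200050403) (.node (nat_lit 0x70806010200030405) (.node (nat_lit 0x70806010002040503) (.node (nat_lit 0x70806010002040305) (.leaf (nat_lit 0x70806010002030504) (nat_lit 1285))
 (.leaf (nat_lit 0x70806010002040305) (nat_lit 1541))
) (.node (nat_lit 0x70806010002050304) (.leaf (nat_lit 0x70806010002040503) (nat_lit 2053))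
 (.node (nat_lit 0x70806010002050403) (.leaf (nat_lit 0x70806010002050304) (nat_lit 2309))
 (.leaf (nat_lit 0x70806010002050403) (nat_lit 1029))
))) (.node (nat_lit 0x70806010200040305) (.node (nat_lit 0x70806010200030504) (.leaf (nat_lit 0x70806010200030405) (nat_lit 2053))
 (.leaf (nat_lit 0x70806010200030504) (nat_lit 1541))
) (.node (nat_lit 0x70806010200040503) (.leaf (nat_lit 0x70806010200040305) (nat_lit 1797))
 (.node (nat_lit 0x70806010200050304) (.leaf (nat_lit 0x70806010200040503) (nat_lit 1797))
 (.leaf (nat_lit 0x70806010200050304) (nat_lit 2053))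
)))) (.node (nat_lit 0x70806020001050304) (.node (nat_lit 0x70806020001030504) (.node (nat_lit 0x70806020001030405) (.leaf (nat_lit 0x70806010200050403) (nat_lit 1285))
 (.leaf (nat_lit 0x70806020001030405) (nat_lit 2309))
) (.node (nat_lit 0x70806020001040305) (.leaf (nat_lit 0x70806020001030504) (nat_lit 1797))
 (.node (nat_lit 0x70806020001040503) (.leaf (nat_lit 0x70806020001040305) (nat_lit 2053))
 (.leaf (nat_lit 0x70806020001040503) (nat_lit 2053))
))) (.node (nat_lit 0x70806020100030405) (.node (nat_lit 0x70806020001050403) (.leaf (nat_lit 0x70806020001050304) (nat_lit 2309))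
 (.leaf (nat_lit 0x70806020001050403) (nat_lit 1541))
) (.node (nat_lit 0x70806020100030504) (.leaf (nat_lit 0x70806020100030405) (nat_lit 1797))
 (.node (nat_lit 0x70806020100040305) (.leaf (nat_lit 0x70806020100030504) (nat_lit 773))
 (.leaf (nat_lit 0x70806020100040305) (nat_lit 1029))
))))) (.node (nat_lit 0x70806030504000201) (.node (nat_lit 0x70806030405010002) (.node (nat_lit 0x70806020100050403) (.node (nat_lit 0x70806020100050304) (.leaf (nat_lit 0x70806020100040503) (nat_lit 1541))
 (.leaf (nat_lit 0x70806020100050304) (nat_lit 1797))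
) (.node (nat_lit 0x70806030405000102) (.leaf (nat_lit 0x70806020100050403) (nat_lit 517))
 (.node (nat_lit 0x70806030405000201) (.leaf (nat_lit 0x70806030405000102) (nat_lit 2053))
 (.leaf (nat_lit 0x70806030405000201) (nat_lit 1797))
))) (.node (nat_lit 0x70806030405020001) (.node (nat_lit 0x70806030405010200) (.leaf (nat_lit 0x70806030405010002) (nat_lit 2053))
 (.leaf (nat_lit 0x70806030405010200) (nat_lit 1797))
) (.node (nat_lit 0x70806030405020100) (.leaf (nat_lit 0x70806030405020001) (nat_lit 2053))
 (.node (nat_lit 0x70806030504000102) (.leaf (nat_lit 0x70806030405020100) (nat_lit 1541))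
 (.leaf (nat_lit 0x70806030504000102) (nat_lit 1797))
)))) (.node (nat_lit 0x70806040305000102) (.node (nat_lit 0x70806030504010200) (.node (nat_lit 0x70806030504010002) (.leaf (nat_lit 0x70806030504000201) (nat_lit 773))
 (.leaf (nat_lit 0x70806030504010002) (nat_lit 1029))
) (.node (nat_lit 0x70806030504020001) (.leaf (nat_lit 0x70806030504010200) (nat_lit 1541))
 (.node (nat_lit 0x70806030504020100) (.leaf (nat_lit 0x70806030504020001) (nat_lit 1797))
 (.leaf (nat_lit 0x70806030504020100) (nat_lit 517))
))) (.node (nat_lit 0x70806040305010200) (.node (nat_lit 0x70806040305000201) (.leaf (nat_lit 0x70806040305000102) (nat_lit 2053))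
 (.node (nat_lit 0x70806040305010002) (.leaf (nat_lit 0x70806040305000201) (nat_lit 1029))
 (.leaf (nat_lit 0x70806040305010002) (nat_lit 1285))
)) (.node (nat_lit 0x70806040305020001) (.leaf (nat_lit 0x70806040305010200) (nat_lit 1797))
 (.node (nat_lit 0x70806040305020100) (.leaf (nat_lit 0x70806040305020001) (nat_lit 2053))
 (.leaf (nat_lit 0x70806040305020100) (nat_lit 773))
)))))))) (.node (nat_lit 0x80607050304010200) (.node (nat_lit 0x80607010200050304) (.node (nat_lit 0x80607000102040305) (.node (nat_lit 0x70806050304020001) (.node (nat_lit 0x70806040503020100) (.node (nat_lit 0x70806040503010002) (.node (nat_lit 0x70806040503000201) (.leaf (nat_lit 0x70806040503000102) (nat_lit 1797))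
 (.leaf (nat_lit 0x70806040503000201) (nat_lit 1541))
) (.node (nat_lit 0x70806040503010200) (.leaf (nat_lit 0x70806040503010002) (nat_lit 1797))
 (.node (nat_lit 0x70806040503020001) (.leaf (nat_lit 0x70806040503010200) (nat_lit 1541))
 (.leaf (nat_lit 0x70806040503020001) (nat_lit 1797))
))) (.node (nat_lit 0x70806050304000201) (.node (nat_lit 0x70806050304000102) (.leaf (nat_lit 0x70806040503020100) (nat_lit 1285))
 (.leaf (nat_lit 0x70806050304000102) (nat_lit 2053))
) (.node (nat_lit 0x70806050304010002) (.leaf (nat_lit 0x70806050304000201) (nat_lit 1797))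
 (.node (nat_lit 0x70806050304010200) (.leaf (nat_lit 0x70806050304010002) (nat_lit 2053))
 (.leaf (nat_lit 0x70806050304010200) (nat_lit 1797))
)))) (.node (nat_lit 0x70806050403010200) (.node (nat_lit 0x70806050403000102) (.node (nat_lit 0x70806050304020100) (.leaf (nat_lit 0x70806050304020001) (nat_lit 2053))
 (.leaf (nat_lit 0x70806050304020100) (nat_lit 1541))
) (.node (nat_lit 0x70806050403000201) (.leaf (nat_lit 0x70806050403000102) (nat_lit 1541))
 (.node (nat_lit 0x70806050403010002) (.leaf (nat_lit 0x70806050403000201) (nat_lit 517))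
 (.leaf (nat_lit 0x70806050403010002) (nat_lit 773))
))) (.node (nat_lit 0x70806050403020100) (.node (nat_lit 0x70806050403020001) (.leaf (nat_lit 0x70806050403010200) (nat_lit 1285))
 (.leaf (nat_lit 0x70806050403020001) (nat_lit 1541))
) (.node (nat_lit 0x80607000102030405) (.leaf (nat_lit 0x70806050403020100) (nat_lit 261))
 (.node (nat_lit 0x80607000102030504) (.leaf (nat_lit 0x80607000102030405) (nat_lit 2562))
 (.leaf (nat_lit 0x80607000102030504) (nat_lit 2050))
))))) (.node (nat_lit 0x80607010002030405) (.node (nat_lit 0x80607000201030504) (.node (nat_lit 0x80607000102050304) (.node (nat_lit 0x80607000102040503) (.leaf (nat_lit 0x80607000102040305) (nat_lit 2306))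
 (.leaf (nat_lit 0x80607000102040503) (nat_lit 2306))
) (.node (nat_lit 0x80607000102050403) (.leaf (nat_lit 0x80607000102050304) (nat_lit 2562))
 (.node (nat_lit 0x80607000201030405) (.leaf (nat_lit 0x80607000102050403) (nat_lit 1794))
 (.leaf (nat_lit 0x80607000201030405) (nat_lit 2306))
))) (.node (nat_lit 0x80607000201040503) (.node (nat_lit 0x80607000201040305) (.leaf (nat_lit 0x80607000201030504) (nat_lit 1282))
 (.leaf (nat_lit 0x80607000201040305) (nat_lit 1538))
) (.node (nat_lit 0x80607000201050304) (.leaf (nat_lit 0x80607000201040503) (nat_lit 2050))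
 (.node (nat_lit 0x80607000201050403) (.leaf (nat_lit 0x80607000201050304) (nat_lit 2306))
 (.leaf (nat_lit 0x80607000201050403) (nat_lit 1026))
)))) (.node (nat_lit 0x80607010002050403) (.node (nat_lit 0x80607010002040305) (.node (nat_lit 0x80607010002030504) (.leaf (nat_lit 0x80607010002030405) (nat_lit 2562))
 (.leaf (nat_lit 0x80607010002030504) (nat_lit 1538))
) (.node (nat_lit 0x80607010002040503) (.leaf (nat_lit 0x80607010002040305) (nat_lit 1794))
 (.node (nat_lit 0x80607010002050304) (.leaf (nat_lit 0x80607010002040503) (nat_lit 2306))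
 (.leaf (nat_lit 0x80607010002050304) (nat_lit 2562))
))) (.node (nat_lit 0x80607010200030504) (.node (nat_lit 0x80607010200030405) (.leaf (nat_lit 0x80607010002050403) (nat_lit 1282))
 (.leaf (nat_lit 0x80607010200030405) (nat_lit 2306))
) (.node (nat_lit 0x80607010200040305) (.leaf (nat_lit 0x80607010200030504) (nat_lit 1794))
 (.node (nat_lit 0x80607010200040503) (.leaf (nat_lit 0x80607010200040305) (nat_lit 2050))
 (.leaf (nat_lit 0x80607010200040503) (nat_lit 2050))
)))))) (.node (nat_lit 0x80607030504000102) (.node (nat_lit 0x80607020100040305) (.node (nat_lit 0x80607020001040503) (.node (nat_lit 0x80607020001030405) (.node (nat_lit 0x80607010200050403) (.leaf (nat_lit 0x80607010200050304) (nat_lit 2306))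
 (.leaf (nat_lit 0x80607010200050403) (nat_lit 1538))
) (.node (nat_lit 0x80607020001030504) (.leaf (nat_lit 0x80607020001030405) (nat_lit 2562))
 (.node (nat_lit 0x80607020001040305) (.leaf (nat_lit 0x80607020001030504) (nat_lit 2050))
 (.leaf (nat_lit 0x80607020001040305) (nat_lit 2306))
))) (.node (nat_lit 0x80607020001050403) (.node (nat_lit 0x80607020001050304) (.leaf (nat_lit 0x80607020001040503) (nat_lit 2306))
 (.leaf (nat_lit 0x80607020001050304) (nat_lit 2562))
) (.node (nat_lit 0x80607020100030405) (.leaf (nat_lit 0x80607020001050403) (nat_lit 1794))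
 (.node (nat_lit 0x80607020100030504) (.leaf (nat_lit 0x80607020100030405) (nat_lit 2050))
 (.leaf (nat_lit 0x80607020100030504) (nat_lit 1026))
)))) (.node (nat_lit 0x80607030405000201) (.node (nat_lit 0x80607020100050304) (.node (nat_lit 0x80607020100040503) (.leaf (nat_lit 0x80607020100040305) (nat_lit 1282))
 (.leaf (nat_lit 0x80607020100040503) (nat_lit 1794))
) (.node (nat_lit 0x80607020100050403) (.leaf (nat_lit 0x80607020100050304) (nat_lit 2050))
 (.node (nat_lit 0x80607030405000102) (.leaf (nat_lit 0x80607020100050403) (nat_lit 770))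
 (.leaf (nat_lit 0x80607030405000102) (nat_lit 2306))
))) (.node (nat_lit 0x80607030405010200) (.node (nat_lit 0x80607030405010002) (.leaf (nat_lit 0x80607030405000201) (nat_lit 2050))
 (.leaf (nat_lit 0x80607030405010002) (nat_lit 2306))
) (.node (nat_lit 0x80607030405020001) (.leaf (nat_lit 0x80607030405010200) (nat_lit 2050))
 (.node (nat_lit 0x80607030405020100) (.leaf (nat_lit 0x80607030405020001) (nat_lit 2306))
 (.leaf (nat_lit 0x80607030405020100) (nat_lit 1794))
))))) (.node (nat_lit 0x80607040305020001) (.node (nat_lit 0x80607030504020100) (.node (nat_lit 0x80607030504010002) (.node (nat_lit 0x80607030504000201) (.leaf (nat_lit 0x80607030504000102) (nat_lit 2050))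
 (.leaf (nat_lit 0x80607030504000201) (nat_lit 1026))
) (.node (nat_lit 0x80607030504010200) (.leaf (nat_lit 0x80607030504010002) (nat_lit 1282))
 (.node (nat_lit 0x80607030504020001) (.leaf (nat_lit 0x80607030504010200) (nat_lit 1794))
 (.leaf (nat_lit 0x80607030504020001) (nat_lit 2050))
))) (.node (nat_lit 0x80607040305000201) (.node (nat_lit 0x80607040305000102) (.leaf (nat_lit 0x80607030504020100) (nat_lit 770))
 (.leaf (nat_lit 0x80607040305000102) (nat_lit 2306))
) (.node (nat_lit 0x80607040305010002) (.leaf (nat_lit 0x80607040305000201) (nat_lit 1282))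
 (.node (nat_lit 0x80607040305010200) (.leaf (nat_lit 0x80607040305010002) (nat_lit 1538))
 (.leaf (nat_lit 0x80607040305010200) (nat_lit 2050))
)))) (.node (nat_lit 0x80607040503010200) (.node (nat_lit 0x80607040503000102) (.node (nat_lit 0x80607040305020100) (.leaf (nat_lit 0x80607040305020001) (nat_lit 2306))
 (.leaf (nat_lit 0x80607040305020100) (nat_lit 1026))
) (.node (nat_lit 0x80607040503000201) (.leaf (nat_lit 0x80607040503000102) (nat_lit 2050))
 (.node (nat_lit 0x80607040503010002) (.leaf (nat_lit 0x80607040503000201) (nat_lit 1794))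
 (.leaf (nat_lit 0x80607040503010002) (nat_lit 2050))
))) (.node (nat_lit 0x80607050304000102) (.node (nat_lit 0x80607040503020001) (.leaf (nat_lit 0x80607040503010200) (nat_lit 1794))
 (.node (nat_lit 0x80607040503020100) (.leaf (nat_lit 0x80607040503020001) (nat_lit 2050))
 (.leaf (nat_lit 0x80607040503020100) (nat_lit 1538))
)) (.node (nat_lit 0x80607050304000201) (.leaf (nat_lit 0x80607050304000102) (nat_lit 2306))
 (.node (nat_lit 0x80607050304010002) (.leaf (nat_lit 0x80607050304000201) (nat_lit 2050))
 (.leaf (nat_lit 0x80607050304010002) (nat_lit 2306))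
))))))) (.node (nat_lit 0x80706020100030504) (.node (nat_lit 0x80706000201050403) (.node (nat_lit 0x80706000102030504) (.node (nat_lit 0x80607050403010002) (.node (nat_lit 0x80607050304020100) (.node (nat_lit 0x80607050304020001) (.leaf (nat_lit 0x80607050304010200) (nat_lit 2050))
 (.leaf (nat_lit 0x80607050304020001) (nat_lit 2306))
) (.node (nat_lit 0x80607050403000102) (.leaf (nat_lit 0x80607050304020100) (nat_lit 1794))
 (.node (nat_lit 0x80607050403000201) (.leaf (nat_lit 0x80607050403000102) (nat_lit 1794))
 (.leaf (nat_lit 0x80607050403000201) (nat_lit 770))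
))) (.node (nat_lit 0x80607050403020001) (.node (nat_lit 0x80607050403010200) (.leaf (nat_lit 0x80607050403010002) (nat_lit 1026))
 (.leaf (nat_lit 0x80607050403010200) (nat_lit 1538))
) (.node (nat_lit 0x80607050403020100) (.leaf (nat_lit 0x80607050403020001) (nat_lit 1794))
 (.node (nat_lit 0x80706000102030405) (.leaf (nat_lit 0x80607050403020100) (nat_lit 514))
 (.leaf (nat_lit 0x80706000102030405) (nat_lit 2052))
)))) (.node (nat_lit 0x80706000201030405) (.node (nat_lit 0x80706000102040503) (.node (nat_lit 0x80706000102040305) (.leaf (nat_lit 0x80706000102030504) (nat_lit 1539))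
 (.leaf (nat_lit 0x80706000102040305) (nat_lit 1795))
) (.node (nat_lit 0x80706000102050304) (.leaf (nat_lit 0x80706000102040503) (nat_lit 1796))
 (.node (nat_lit 0x80706000102050403) (.leaf (nat_lit 0x80706000102050304) (nat_lit 2052))
 (.leaf (nat_lit 0x80706000102050403) (nat_lit 1283))
))) (.node (nat_lit 0x80706000201040305) (.node (nat_lit 0x80706000201030504) (.leaf (nat_lit 0x80706000201030405) (nat_lit 1796))
 (.leaf (nat_lit 0x80706000201030504) (nat_lit 772))
) (.node (nat_lit 0x80706000201040503) (.leaf (nat_lit 0x80706000201040305) (nat_lit 1028))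
 (.node (nat_lit 0x80706000201050304) (.leaf (nat_lit 0x80706000201040503) (nat_lit 1540))
 (.leaf (nat_lit 0x80706000201050304) (nat_lit 1796))
))))) (.node (nat_lit 0x80706010200040503) (.node (nat_lit 0x80706010002050304) (.node (nat_lit 0x80706010002030504) (.node (nat_lit 0x80706010002030405) (.leaf (nat_lit 0x80706000201050403) (nat_lit 516))
 (.leaf (nat_lit 0x80706010002030405) (nat_lit 2052))
) (.node (nat_lit 0x80706010002040305) (.leaf (nat_lit 0x80706010002030504) (nat_lit 1028))
 (.node (nat_lit 0x80706010002040503) (.leaf (nat_lit 0x80706010002040305) (nat_lit 1284))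
 (.leaf (nat_lit 0x80706010002040503) (nat_lit 1796))
))) (.node (nat_lit 0x80706010200030405) (.node (nat_lit 0x80706010002050403) (.leaf (nat_lit 0x80706010002050304) (nat_lit 2052))
 (.leaf (nat_lit 0x80706010002050403) (nat_lit 772))
) (.node (nat_lit 0x80706010200030504) (.leaf (nat_lit 0x80706010200030405) (nat_lit 1796))
 (.node (nat_lit 0x80706010200040305) (.leaf (nat_lit 0x80706010200030504) (nat_lit 1283))
 (.leaf (nat_lit 0x80706010200040305) (nat_lit 1539))
)))) (.node (nat_lit 0x80706020001040305) (.node (nat_lit 0x80706010200050403) (.node (nat_lit 0x80706010200050304) (.leaf (nat_lit 0x80706010200040503) (nat_lit 1540))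
 (.leaf (nat_lit 0x80706010200050304) (nat_lit 1796))
) (.node (nat_lit 0x80706020001030405) (.leaf (nat_lit 0x80706010200050403) (nat_lit 1027))
 (.node (nat_lit 0x80706020001030504) (.leaf (nat_lit 0x80706020001030405) (nat_lit 2052))
 (.leaf (nat_lit 0x80706020001030504) (nat_lit 1539))
))) (.node (nat_lit 0x80706020001050304) (.node (nat_lit 0x80706020001040503) (.leaf (nat_lit 0x80706020001040305) (nat_lit 1795))
 (.leaf (nat_lit 0x80706020001040503) (nat_lit 1796))
) (.node (nat_lit 0x80706020001050403) (.leaf (nat_lit 0x80706020001050304) (nat_lit 2052))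
 (.node (nat_lit 0x80706020100030405) (.leaf (nat_lit 0x80706020001050403) (nat_lit 1283))
 (.leaf (nat_lit 0x80706020100030405) (nat_lit 1540))
)))))) (.node (nat_lit 0x80706040305010200) (.node (nat_lit 0x80706030405020100) (.node (nat_lit 0x80706030405000102) (.node (nat_lit 0x80706020100040503) (.node (nat_lit 0x80706020100040305) (.leaf (nat_lit 0x80706020100030504) (nat_lit 516))
 (.leaf (nat_lit 0x80706020100040305) (nat_lit 772))
) (.node (nat_lit 0x80706020100050304) (.leaf (nat_lit 0x80706020100040503) (nat_lit 1284))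
 (.node (nat_lit 0x80706020100050403) (.leaf (nat_lit 0x80706020100050304) (nat_lit 1540))
 (.leaf (nat_lit 0x80706020100050403) (nat_lit 260))
))) (.node (nat_lit 0x80706030405010002) (.node (nat_lit 0x80706030405000201) (.leaf (nat_lit 0x80706030405000102) (nat_lit 1795))
 (.leaf (nat_lit 0x80706030405000201) (nat_lit 1539))
) (.node (nat_lit 0x80706030405010200) (.leaf (nat_lit 0x80706030405010002) (nat_lit 1795))
 (.node (nat_lit 0x80706030405020001) (.leaf (nat_lit 0x80706030405010200) (nat_lit 1539))
 (.leaf (nat_lit 0x80706030405020001) (nat_lit 1795))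
)))) (.node (nat_lit 0x80706030504020001) (.node (nat_lit 0x80706030504000201) (.node (nat_lit 0x80706030504000102) (.leaf (nat_lit 0x80706030405020100) (nat_lit 1283))
 (.leaf (nat_lit 0x80706030504000102) (nat_lit 1539))
) (.node (nat_lit 0x80706030504010002) (.leaf (nat_lit 0x80706030504000201) (nat_lit 513))
 (.node (nat_lit 0x80706030504010200) (.leaf (nat_lit 0x80706030504010002) (nat_lit 769))
 (.leaf (nat_lit 0x80706030504010200) (nat_lit 1283))
))) (.node (nat_lit 0x80706040305000102) (.node (nat_lit 0x80706030504020100) (.leaf (nat_lit 0x80706030504020001) (nat_lit 1539))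
 (.leaf (nat_lit 0x80706030504020100) (nat_lit 257))
) (.node (nat_lit 0x80706040305000201) (.leaf (nat_lit 0x80706040305000102) (nat_lit 1795))
 (.node (nat_lit 0x80706040305010002) (.leaf (nat_lit 0x80706040305000201) (nat_lit 769))
 (.leaf (nat_lit 0x80706040305010002) (nat_lit 1025))
))))) (.node (nat_lit 0x80706050304000201) (.node (nat_lit 0x80706040503010002) (.node (nat_lit 0x80706040305020100) (.node (nat_lit 0x80706040305020001) (.leaf (nat_lit 0x80706040305010200) (nat_lit 1539))
 (.leaf (nat_lit 0x80706040305020001) (nat_lit 1795))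
) (.node (nat_lit 0x80706040503000102) (.leaf (nat_lit 0x80706040305020100) (nat_lit 513))
 (.node (nat_lit 0x80706040503000201) (.leaf (nat_lit 0x80706040503000102) (nat_lit 1539))
 (.leaf (nat_lit 0x80706040503000201) (nat_lit 1283))
))) (.node (nat_lit 0x80706040503020001) (.node (nat_lit 0x80706040503010200) (.leaf (nat_lit 0x80706040503010002) (nat_lit 1539))
 (.leaf (nat_lit 0x80706040503010200) (nat_lit 1283))
) (.node (nat_lit 0x80706040503020100) (.leaf (nat_lit 0x80706040503020001) (nat_lit 1539))
 (.node (nat_lit 0x80706050304000102) (.leaf (nat_lit 0x80706040503020100) (nat_lit 1027))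
 (.leaf (nat_lit 0x80706050304000102) (nat_lit 1795))
)))) (.node (nat_lit 0x80706050403000102) (.node (nat_lit 0x80706050304010200) (.node (nat_lit 0x80706050304010002) (.leaf (nat_lit 0x80706050304000201) (nat_lit 1539))
 (.leaf (nat_lit 0x80706050304010002) (nat_lit 1795))
) (.node (nat_lit 0x80706050304020001) (.leaf (nat_lit 0x80706050304010200) (nat_lit 1539))
 (.node (nat_lit 0x80706050304020100) (.leaf (nat_lit 0x80706050304020001) (nat_lit 1795))
 (.leaf (nat_lit 0x80706050304020100) (nat_lit 1283))
))) (.node (nat_lit 0x80706050403010200) (.node (nat_lit 0x80706050403000201) (.leaf (nat_lit 0x80706050403000102) (nat_lit 1283))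
 (.node (nat_lit 0x80706050403010002) (.leaf (nat_lit 0x80706050403000201) (nat_lit 256))
 (.leaf (nat_lit 0x80706050403010002) (nat_lit 512))
)) (.node (nat_lit 0x80706050403020001) (.leaf (nat_lit 0x80706050403010200) (nat_lit 1027))
 (.node (nat_lit 0x80706050403020100) (.leaf (nat_lit 0x80706050403020001) (nat_lit 1283))
 (.leaf (nat_lit 0x80706050403020100) (nat_lit 0))
)))))))))))

theorem MD_ok : genOK A9 [(nat_lit 0x80706050403000201), (nat_lit 0x80706030504020100), (nat_lit 0x60807050403020100), (nat_lit 0x20100080706050403), (nat_lit 0x80706020100050403), (nat_lit 0x70806050403020100)] MD_t (nat_lit 1296) = true := by decide +kernel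

noncomputable def A_t : ST :=
(.node (nat_lit 0x70608040305010002) (.node (nat_lit 0x60807050403020100) (.node (nat_lit 0x60807040305010002) (.leaf (nat_lit 0x60807030504000201) (nat_lit 513))
 (.leaf (nat_lit 0x60807040305010002) (nat_lit 769))
) (.node (nat_lit 0x70608030504000201) (.leaf (nat_lit 0x60807050403020100) (nat_lit 257))
 (.leaf (nat_lit 0x70608030504000201) (nat_lit 769))
)) (.node (nat_lit 0x80706030504000201) (.node (nat_lit 0x70608050403020100) (.leaf (nat_lit 0x70608040305010002) (nat_lit 1025))
 (.leaf (nat_lit 0x70608050403020100) (nat_lit 513))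
) (.node (nat_lit 0x80706040305010002) (.leaf (nat_lit 0x80706030504000201) (nat_lit 256))
 (.node (nat_lit 0x80706050403020100) (.leaf (nat_lit 0x80706040305010002) (nat_lit 512))
 (.leaf (nat_lit 0x80706050403020100) (nat_lit 0))
))))

theorem A_ok : genOK A9 [(nat_lit 0x80706030504000201), (nat_lit 0x60807050403020100)] A_t (nat_lit 9) = true := by decide +kernel

noncomputable def B_t : ST :=
(.node (nat_lit 0x80706040305010002) (.node (nat_lit 0x80706030504020100) (.node (nat_lit 0x80706030504010002) (.leaf (nat_lit 0x80706030504000201) (nat_lit 513))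
 (.leaf (nat_lit 0x80706030504010002) (nat_lit 769))
) (.node (nat_lit 0x80706040305000201) (.leaf (nat_lit 0x80706030504020100) (nat_lit 257))
 (.leaf (nat_lit 0x80706040305000201) (nat_lit 769))
)) (.node (nat_lit 0x80706050403000201) (.node (nat_lit 0x80706040305020100) (.leaf (nat_lit 0x80706040305010002) (nat_lit 1025))
 (.leaf (nat_lit 0x80706040305020100) (nat_lit 513))
) (.node (nat_lit 0x80706050403010002) (.leaf (nat_lit 0x80706050403000201) (nat_lit 256))
 (.node (nat_lit 0x80706050403020100) (.leaf (nat_lit 0x80706050403010002) (nat_lit 512))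
 (.leaf (nat_lit 0x80706050403020100) (nat_lit 0))
))))

theorem B_ok : genOK A9 [(nat_lit 0x80706050403000201), (nat_lit 0x80706030504020100)] B_t (nat_lit 9) = true := by decide +kernel

noncomputable def S1_t : ST :=
(.node (nat_lit 0x70608040305010002) (.node (nat_lit 0x60807050403010002) (.node (nat_lit 0x60807040305020100) (.leaf (nat_lit 0x60807030504000201) (nat_lit 256))
 (.leaf (nat_lit 0x60807040305020100) (nat_lit 769))
) (.node (nat_lit 0x70608030504020100) (.leaf (nat_lit 0x60807050403010002) (nat_lit 513))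
 (.leaf (nat_lit 0x70608030504020100) (nat_lit 769))
)) (.node (nat_lit 0x80706030504010002) (.node (nat_lit 0x70608050403000201) (.leaf (nat_lit 0x70608040305010002) (nat_lit 512))
 (.leaf (nat_lit 0x70608050403000201) (nat_lit 1025))
) (.node (nat_lit 0x80706040305000201) (.leaf (nat_lit 0x80706030504010002) (nat_lit 513))
 (.node (nat_lit 0x80706050403020100) (.leaf (nat_lit 0x80706040305000201) (nat_lit 257))
 (.leaf (nat_lit 0x80706050403020100) (nat_lit 0))
))))

theorem S1_ok : genOK A9 [(nat_lit 0x60807030504000201), (nat_lit 0x80706040305000201)] S1_t (nat_lit 9) = true := by decide +kernel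

noncomputable def R_t : ST :=
(.node (nat_lit 0x40305010002070608) (.node (nat_lit 0x20100060807040305) (.node (nat_lit 0x10002060807050403) (.node (nat_lit 0x201070608050403) (.leaf (nat_lit 0x201060807030504) (nat_lit 514))
 (.node (nat_lit 0x201080706040305) (.leaf (nat_lit 0x201070608050403) (nat_lit 769))
 (.leaf (nat_lit 0x201080706040305) (nat_lit 513))
)) (.node (nat_lit 0x10002070608040305) (.leaf (nat_lit 0x10002060807050403) (nat_lit 769))
 (.node (nat_lit 0x10002080706030504) (.leaf (nat_lit 0x10002070608040305) (nat_lit 770))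
 (.leaf (nat_lit 0x10002080706030504) (nat_lit 769))
))) (.node (nat_lit 0x30504000201060807) (.node (nat_lit 0x20100070608030504) (.leaf (nat_lit 0x20100060807040305) (nat_lit 770))
 (.node (nat_lit 0x20100080706050403) (.leaf (nat_lit 0x20100070608030504) (nat_lit 514))
 (.leaf (nat_lit 0x20100080706050403) (nat_lit 258))
)) (.node (nat_lit 0x30504020100070608) (.node (nat_lit 0x30504010002080706) (.leaf (nat_lit 0x30504000201060807) (nat_lit 770))
 (.leaf (nat_lit 0x30504010002080706) (nat_lit 1026))
) (.node (nat_lit 0x40305000201080706) (.leaf (nat_lit 0x30504020100070608) (nat_lit 770))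
 (.leaf (nat_lit 0x40305000201080706) (nat_lit 769))
)))) (.node (nat_lit 0x60807050403010002) (.node (nat_lit 0x50403010002060807) (.node (nat_lit 0x40305020100060807) (.leaf (nat_lit 0x40305010002070608) (nat_lit 1026))
 (.node (nat_lit 0x50403000201070608) (.leaf (nat_lit 0x40305020100060807) (nat_lit 1025))
 (.leaf (nat_lit 0x50403000201070608) (nat_lit 1026))
)) (.node (nat_lit 0x60807030504000201) (.node (nat_lit 0x50403020100080706) (.leaf (nat_lit 0x50403010002060807) (nat_lit 770))
 (.leaf (nat_lit 0x50403020100080706) (nat_lit 514))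
) (.node (nat_lit 0x60807040305020100) (.leaf (nat_lit 0x60807030504000201) (nat_lit 256))
 (.leaf (nat_lit 0x60807040305020100) (nat_lit 769))
))) (.node (nat_lit 0x70608050403000201) (.node (nat_lit 0x70608030504020100) (.leaf (nat_lit 0x60807050403010002) (nat_lit 513))
 (.node (nat_lit 0x70608040305010002) (.leaf (nat_lit 0x70608030504020100) (nat_lit 769))
 (.leaf (nat_lit 0x70608040305010002) (nat_lit 512))
)) (.node (nat_lit 0x80706040305000201) (.node (nat_lit 0x80706030504010002) (.leaf (nat_lit 0x70608050403000201) (nat_lit 1025))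
 (.leaf (nat_lit 0x80706030504010002) (nat_lit 513))
) (.node (nat_lit 0x80706050403020100) (.leaf (nat_lit 0x80706040305000201) (nat_lit 257))
 (.leaf (nat_lit 0x80706050403020100) (nat_lit 0))
)))))

theorem R_ok : genOK A9 [(nat_lit 0x60807030504000201), (nat_lit 0x80706040305000201), (nat_lit 0x20100080706050403)] R_t (nat_lit 27) = true := by decide +kernel

noncomputable def gJ_t : ST :=
(.node (nat_lit 0x70608040305010002) (.node (nat_lit 0x60807050403000201) (.node (nat_lit 0x60807040305000201) (.node (nat_lit 0x60807030504010002) (.leaf (nat_lit 0x60807030504000201) (nat_lit 772))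
 (.node (nat_lit 0x60807030504020100) (.leaf (nat_lit 0x60807030504010002) (nat_lit 772))
 (.leaf (nat_lit 0x60807030504020100) (nat_lit 516))
)) (.node (nat_lit 0x60807040305010002) (.leaf (nat_lit 0x60807040305000201) (nat_lit 772))
 (.node (nat_lit 0x60807040305020100) (.leaf (nat_lit 0x60807040305010002) (nat_lit 772))
 (.leaf (nat_lit 0x60807040305020100) (nat_lit 516))
))) (.node (nat_lit 0x70608030504000201) (.node (nat_lit 0x60807050403010002) (.leaf (nat_lit 0x60807050403000201) (nat_lit 516))
 (.node (nat_lit 0x60807050403020100) (.leaf (nat_lit 0x60807050403010002) (nat_lit 516))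
 (.leaf (nat_lit 0x60807050403020100) (nat_lit 260))
)) (.node (nat_lit 0x70608030504020100) (.node (nat_lit 0x70608030504010002) (.leaf (nat_lit 0x70608030504000201) (nat_lit 773))
 (.leaf (nat_lit 0x70608030504010002) (nat_lit 773))
) (.node (nat_lit 0x70608040305000201) (.leaf (nat_lit 0x70608030504020100) (nat_lit 517))
 (.leaf (nat_lit 0x70608040305000201) (nat_lit 773))
)))) (.node (nat_lit 0x80706030504020100) (.node (nat_lit 0x70608050403010002) (.node (nat_lit 0x70608040305020100) (.leaf (nat_lit 0x70608040305010002) (nat_lit 773))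
 (.node (nat_lit 0x70608050403000201) (.leaf (nat_lit 0x70608040305020100) (nat_lit 517))
 (.leaf (nat_lit 0x70608050403000201) (nat_lit 517))
)) (.node (nat_lit 0x80706030504000201) (.node (nat_lit 0x70608050403020100) (.leaf (nat_lit 0x70608050403010002) (nat_lit 517))
 (.leaf (nat_lit 0x70608050403020100) (nat_lit 261))
) (.node (nat_lit 0x80706030504010002) (.leaf (nat_lit 0x80706030504000201) (nat_lit 514))
 (.leaf (nat_lit 0x80706030504010002) (nat_lit 514))
))) (.node (nat_lit 0x80706040305020100) (.node (nat_lit 0x80706040305000201) (.leaf (nat_lit 0x80706030504020100) (nat_lit 258))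
 (.node (nat_lit 0x80706040305010002) (.leaf (nat_lit 0x80706040305000201) (nat_lit 515))
 (.leaf (nat_lit 0x80706040305010002) (nat_lit 515))
)) (.node (nat_lit 0x80706050403010002) (.node (nat_lit 0x80706050403000201) (.leaf (nat_lit 0x80706040305020100) (nat_lit 259))
 (.leaf (nat_lit 0x80706050403000201) (nat_lit 256))
) (.node (nat_lit 0x80706050403020100) (.leaf (nat_lit 0x80706050403010002) (nat_lit 257))
 (.leaf (nat_lit 0x80706050403020100) (nat_lit 0))
)))))

theorem gJ_ok : genOK A9 [(nat_lit 0x80706050403000201), (nat_lit 0x80706050403010002), (nat_lit 0x80706030504020100), (nat_lit 0x80706040305020100), (nat_lit 0x60807050403020100), (nat_lit 0x70608050403020100)] gJ_t (nat_lit 27) = true := by decide +kernel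

noncomputable def gH_t : ST :=
(.node (nat_lit 0x40305060807000201) (.node (nat_lit 0x20100040305070608) (.node (nat_lit 0x10002030504080706) (.node (nat_lit 0x201060807040305) (.node (nat_lit 0x201040305080706) (.node (nat_lit 0x201030504080706) (.node (nat_lit 0x201030504070608) (.leaf (nat_lit 0x201030504060807) (nat_lit 1288))
 (.leaf (nat_lit 0x201030504070608) (nat_lit 1288))
) (.node (nat_lit 0x201040305060807) (.leaf (nat_lit 0x201030504080706) (nat_lit 1032))
 (.node (nat_lit 0x201040305070608) (.leaf (nat_lit 0x201040305060807) (nat_lit 1288))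
 (.leaf (nat_lit 0x201040305070608) (nat_lit 1288))
))) (.node (nat_lit 0x201050403070608) (.node (nat_lit 0x201050403060807) (.leaf (nat_lit 0x201040305080706) (nat_lit 1032))
 (.leaf (nat_lit 0x201050403060807) (nat_lit 1032))
) (.node (nat_lit 0x201050403080706) (.leaf (nat_lit 0x201050403070608) (nat_lit 1032))
 (.node (nat_lit 0x201060807030504) (.leaf (nat_lit 0x201050403080706) (nat_lit 776))
 (.leaf (nat_lit 0x201060807030504) (nat_lit 1030))
)))) (.node (nat_lit 0x201080706030504) (.node (nat_lit 0x201070608030504) (.node (nat_lit 0x201060807050403) (.leaf (nat_lit 0x201060807040305) (nat_lit 1030))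
 (.leaf (nat_lit 0x201060807050403) (nat_lit 774))
) (.node (nat_lit 0x201070608040305) (.leaf (nat_lit 0x201070608030504) (nat_lit 1030))
 (.node (nat_lit 0x201070608050403) (.leaf (nat_lit 0x201070608040305) (nat_lit 1030))
 (.leaf (nat_lit 0x201070608050403) (nat_lit 774))
))) (.node (nat_lit 0x201080706050403) (.node (nat_lit 0x201080706040305) (.leaf (nat_lit 0x201080706030504) (nat_lit 774))
 (.leaf (nat_lit 0x201080706040305) (nat_lit 774))
) (.node (nat_lit 0x10002030504060807) (.leaf (nat_lit 0x201080706050403) (nat_lit 518))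
 (.node (nat_lit 0x10002030504070608) (.leaf (nat_lit 0x10002030504060807) (nat_lit 1288))
 (.leaf (nat_lit 0x10002030504070608) (nat_lit 1288))
))))) (.node (nat_lit 0x10002070608030504) (.node (nat_lit 0x10002050403070608) (.node (nat_lit 0x10002040305070608) (.node (nat_lit 0x10002040305060807) (.leaf (nat_lit 0x10002030504080706) (nat_lit 1032))
 (.leaf (nat_lit 0x10002040305060807) (nat_lit 1288))
) (.node (nat_lit 0x10002040305080706) (.leaf (nat_lit 0x10002040305070608) (nat_lit 1288))
 (.node (nat_lit 0x10002050403060807) (.leaf (nat_lit 0x10002040305080706) (nat_lit 1032))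
 (.leaf (nat_lit 0x10002050403060807) (nat_lit 1032))
))) (.node (nat_lit 0x10002060807030504) (.node (nat_lit 0x10002050403080706) (.leaf (nat_lit 0x10002050403070608) (nat_lit 1032))
 (.leaf (nat_lit 0x10002050403080706) (nat_lit 776))
) (.node (nat_lit 0x10002060807040305) (.leaf (nat_lit 0x10002060807030504) (nat_lit 1030))
 (.node (nat_lit 0x10002060807050403) (.leaf (nat_lit 0x10002060807040305) (nat_lit 1030))
 (.leaf (nat_lit 0x10002060807050403) (nat_lit 774))
)))) (.node (nat_lit 0x10002080706050403) (.node (nat_lit 0x10002070608050403) (.node (nat_lit 0x10002070608040305) (.leaf (nat_lit 0x10002070608030504) (nat_lit 1030))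
 (.leaf (nat_lit 0x10002070608040305) (nat_lit 1030))
) (.node (nat_lit 0x10002080706030504) (.leaf (nat_lit 0x10002070608050403) (nat_lit 774))
 (.node (nat_lit 0x10002080706040305) (.leaf (nat_lit 0x10002080706030504) (nat_lit 774))
 (.leaf (nat_lit 0x10002080706040305) (nat_lit 774))
))) (.node (nat_lit 0x20100030504070608) (.node (nat_lit 0x20100030504060807) (.leaf (nat_lit 0x10002080706050403) (nat_lit 518))
 (.leaf (nat_lit 0x20100030504060807) (nat_lit 1032))
) (.node (nat_lit 0x20100030504080706) (.leaf (nat_lit 0x20100030504070608) (nat_lit 1032))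
 (.node (nat_lit 0x20100040305060807) (.leaf (nat_lit 0x20100030504080706) (nat_lit 776))
 (.leaf (nat_lit 0x20100040305060807) (nat_lit 1032))
)))))) (.node (nat_lit 0x30504020100060807) (.node (nat_lit 0x20100070608050403) (.node (nat_lit 0x20100060807030504) (.node (nat_lit 0x20100050403060807) (.node (nat_lit 0x20100040305080706) (.leaf (nat_lit 0x20100040305070608) (nat_lit 1032))
 (.leaf (nat_lit 0x20100040305080706) (nat_lit 776))
) (.node (nat_lit 0x20100050403070608) (.leaf (nat_lit 0x20100050403060807) (nat_lit 776))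
 (.node (nat_lit 0x20100050403080706) (.leaf (nat_lit 0x20100050403070608) (nat_lit 776))
 (.leaf (nat_lit 0x20100050403080706) (nat_lit 520))
))) (.node (nat_lit 0x20100060807050403) (.node (nat_lit 0x20100060807040305) (.leaf (nat_lit 0x20100060807030504) (nat_lit 774))
 (.leaf (nat_lit 0x20100060807040305) (nat_lit 774))
) (.node (nat_lit 0x20100070608030504) (.leaf (nat_lit 0x20100060807050403) (nat_lit 518))
 (.node (nat_lit 0x20100070608040305) (.leaf (nat_lit 0x20100070608030504) (nat_lit 774))
 (.leaf (nat_lit 0x20100070608040305) (nat_lit 774))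
)))) (.node (nat_lit 0x30504000201070608) (.node (nat_lit 0x20100080706040305) (.node (nat_lit 0x20100080706030504) (.leaf (nat_lit 0x20100070608050403) (nat_lit 518))
 (.leaf (nat_lit 0x20100080706030504) (nat_lit 518))
) (.node (nat_lit 0x20100080706050403) (.leaf (nat_lit 0x20100080706040305) (nat_lit 518))
 (.node (nat_lit 0x30504000201060807) (.leaf (nat_lit 0x20100080706050403) (nat_lit 262))
 (.leaf (nat_lit 0x30504000201060807) (nat_lit 1031))
))) (.node (nat_lit 0x30504010002060807) (.node (nat_lit 0x30504000201080706) (.leaf (nat_lit 0x30504000201070608) (nat_lit 1031))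
 (.leaf (nat_lit 0x30504000201080706) (nat_lit 775))
) (.node (nat_lit 0x30504010002070608) (.leaf (nat_lit 0x30504010002060807) (nat_lit 1031))
 (.node (nat_lit 0x30504010002080706) (.leaf (nat_lit 0x30504010002070608) (nat_lit 1031))
 (.leaf (nat_lit 0x30504010002080706) (nat_lit 775))
))))) (.node (nat_lit 0x30504080706010002) (.node (nat_lit 0x30504060807020100) (.node (nat_lit 0x30504020100080706) (.node (nat_lit 0x30504020100070608) (.leaf (nat_lit 0x30504020100060807) (nat_lit 775))
 (.leaf (nat_lit 0x30504020100070608) (nat_lit 775))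
) (.node (nat_lit 0x30504060807000201) (.leaf (nat_lit 0x30504020100080706) (nat_lit 519))
 (.node (nat_lit 0x30504060807010002) (.leaf (nat_lit 0x30504060807000201) (nat_lit 1288))
 (.leaf (nat_lit 0x30504060807010002) (nat_lit 1288))
))) (.node (nat_lit 0x30504070608010002) (.node (nat_lit 0x30504070608000201) (.leaf (nat_lit 0x30504060807020100) (nat_lit 1032))
 (.leaf (nat_lit 0x30504070608000201) (nat_lit 1288))
) (.node (nat_lit 0x30504070608020100) (.leaf (nat_lit 0x30504070608010002) (nat_lit 1288))
 (.node (nat_lit 0x30504080706000201) (.leaf (nat_lit 0x30504070608020100) (nat_lit 1032))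
 (.leaf (nat_lit 0x30504080706000201) (nat_lit 1032))
)))) (.node (nat_lit 0x40305010002060807) (.node (nat_lit 0x40305000201060807) (.node (nat_lit 0x30504080706020100) (.leaf (nat_lit 0x30504080706010002) (nat_lit 1032))
 (.leaf (nat_lit 0x30504080706020100) (nat_lit 776))
) (.node (nat_lit 0x40305000201070608) (.leaf (nat_lit 0x40305000201060807) (nat_lit 1031))
 (.node (nat_lit 0x40305000201080706) (.leaf (nat_lit 0x40305000201070608) (nat_lit 1031))
 (.leaf (nat_lit 0x40305000201080706) (nat_lit 775))
))) (.node (nat_lit 0x40305020100060807) (.node (nat_lit 0x40305010002070608) (.leaf (nat_lit 0x40305010002060807) (nat_lit 1031))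
 (.node (nat_lit 0x40305010002080706) (.leaf (nat_lit 0x40305010002070608) (nat_lit 1031))
 (.leaf (nat_lit 0x40305010002080706) (nat_lit 775))
)) (.node (nat_lit 0x40305020100070608) (.leaf (nat_lit 0x40305020100060807) (nat_lit 775))
 (.node (nat_lit 0x40305020100080706) (.leaf (nat_lit 0x40305020100070608) (nat_lit 775))
 (.leaf (nat_lit 0x40305020100080706) (nat_lit 519))
))))))) (.node (nat_lit 0x60807040305010002) (.node (nat_lit 0x50403060807020100) (.node (nat_lit 0x50403000201070608) (.node (nat_lit 0x40305070608020100) (.node (nat_lit 0x40305060807020100) (.node (nat_lit 0x40305060807010002) (.leaf (nat_lit 0x40305060807000201) (nat_lit 1288))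
 (.leaf (nat_lit 0x40305060807010002) (nat_lit 1288))
) (.node (nat_lit 0x40305070608000201) (.leaf (nat_lit 0x40305060807020100) (nat_lit 1032))
 (.node (nat_lit 0x40305070608010002) (.leaf (nat_lit 0x40305070608000201) (nat_lit 1288))
 (.leaf (nat_lit 0x40305070608010002) (nat_lit 1288))
))) (.node (nat_lit 0x40305080706010002) (.node (nat_lit 0x40305080706000201) (.leaf (nat_lit 0x40305070608020100) (nat_lit 1032))
 (.leaf (nat_lit 0x40305080706000201) (nat_lit 1032))
) (.node (nat_lit 0x40305080706020100) (.leaf (nat_lit 0x40305080706010002) (nat_lit 1032))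
 (.node (nat_lit 0x50403000201060807) (.leaf (nat_lit 0x40305080706020100) (nat_lit 776))
 (.leaf (nat_lit 0x50403000201060807) (nat_lit 775))
)))) (.node (nat_lit 0x50403020100060807) (.node (nat_lit 0x50403010002060807) (.node (nat_lit 0x50403000201080706) (.leaf (nat_lit 0x50403000201070608) (nat_lit 775))
 (.leaf (nat_lit 0x50403000201080706) (nat_lit 519))
) (.node (nat_lit 0x50403010002070608) (.leaf (nat_lit 0x50403010002060807) (nat_lit 775))
 (.node (nat_lit 0x50403010002080706) (.leaf (nat_lit 0x50403010002070608) (nat_lit 775))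
 (.leaf (nat_lit 0x50403010002080706) (nat_lit 519))
))) (.node (nat_lit 0x50403020100080706) (.node (nat_lit 0x50403020100070608) (.leaf (nat_lit 0x50403020100060807) (nat_lit 519))
 (.leaf (nat_lit 0x50403020100070608) (nat_lit 519))
) (.node (nat_lit 0x50403060807000201) (.leaf (nat_lit 0x50403020100080706) (nat_lit 263))
 (.node (nat_lit 0x50403060807010002) (.leaf (nat_lit 0x50403060807000201) (nat_lit 1032))
 (.leaf (nat_lit 0x50403060807010002) (nat_lit 1032))
))))) (.node (nat_lit 0x60807010002030504) (.node (nat_lit 0x50403080706010002) (.node (nat_lit 0x50403070608010002) (.node (nat_lit 0x50403070608000201) (.leaf (nat_lit 0x50403060807020100) (nat_lit 776))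
 (.leaf (nat_lit 0x50403070608000201) (nat_lit 1032))
) (.node (nat_lit 0x50403070608020100) (.leaf (nat_lit 0x50403070608010002) (nat_lit 1032))
 (.node (nat_lit 0x50403080706000201) (.leaf (nat_lit 0x50403070608020100) (nat_lit 776))
 (.leaf (nat_lit 0x50403080706000201) (nat_lit 776))
))) (.node (nat_lit 0x60807000201030504) (.node (nat_lit 0x50403080706020100) (.leaf (nat_lit 0x50403080706010002) (nat_lit 776))
 (.leaf (nat_lit 0x50403080706020100) (nat_lit 520))
) (.node (nat_lit 0x60807000201040305) (.leaf (nat_lit 0x60807000201030504) (nat_lit 1032))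
 (.node (nat_lit 0x60807000201050403) (.leaf (nat_lit 0x60807000201040305) (nat_lit 1032))
 (.leaf (nat_lit 0x60807000201050403) (nat_lit 776))
)))) (.node (nat_lit 0x60807020100050403) (.node (nat_lit 0x60807010002050403) (.node (nat_lit 0x60807010002040305) (.leaf (nat_lit 0x60807010002030504) (nat_lit 1032))
 (.leaf (nat_lit 0x60807010002040305) (nat_lit 1032))
) (.node (nat_lit 0x60807020100030504) (.leaf (nat_lit 0x60807010002050403) (nat_lit 776))
 (.node (nat_lit 0x60807020100040305) (.leaf (nat_lit 0x60807020100030504) (nat_lit 776))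
 (.leaf (nat_lit 0x60807020100040305) (nat_lit 776))
))) (.node (nat_lit 0x60807030504010002) (.node (nat_lit 0x60807030504000201) (.leaf (nat_lit 0x60807020100050403) (nat_lit 520))
 (.leaf (nat_lit 0x60807030504000201) (nat_lit 772))
) (.node (nat_lit 0x60807030504020100) (.leaf (nat_lit 0x60807030504010002) (nat_lit 772))
 (.node (nat_lit 0x60807040305000201) (.leaf (nat_lit 0x60807030504020100) (nat_lit 516))
 (.leaf (nat_lit 0x60807040305000201) (nat_lit 772))
)))))) (.node (nat_lit 0x70608050403000201) (.node (nat_lit 0x70608010002050403) (.node (nat_lit 0x70608000201030504) (.node (nat_lit 0x60807050403000201) (.node (nat_lit 0x60807040305020100) (.leaf (nat_lit 0x60807040305010002) (nat_lit 772))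
 (.leaf (nat_lit 0x60807040305020100) (nat_lit 516))
) (.node (nat_lit 0x60807050403010002) (.leaf (nat_lit 0x60807050403000201) (nat_lit 516))
 (.node (nat_lit 0x60807050403020100) (.leaf (nat_lit 0x60807050403010002) (nat_lit 516))
 (.leaf (nat_lit 0x60807050403020100) (nat_lit 260))
))) (.node (nat_lit 0x70608000201050403) (.node (nat_lit 0x70608000201040305) (.leaf (nat_lit 0x70608000201030504) (nat_lit 1032))
 (.leaf (nat_lit 0x70608000201040305) (nat_lit 1032))
) (.node (nat_lit 0x70608010002030504) (.leaf (nat_lit 0x70608000201050403) (nat_lit 776))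
 (.node (nat_lit 0x70608010002040305) (.leaf (nat_lit 0x70608010002030504) (nat_lit 1032))
 (.leaf (nat_lit 0x70608010002040305) (nat_lit 1032))
)))) (.node (nat_lit 0x70608030504010002) (.node (nat_lit 0x70608020100040305) (.node (nat_lit 0x70608020100030504) (.leaf (nat_lit 0x70608010002050403) (nat_lit 776))
 (.leaf (nat_lit 0x70608020100030504) (nat_lit 776))
) (.node (nat_lit 0x70608020100050403) (.leaf (nat_lit 0x70608020100040305) (nat_lit 776))
 (.node (nat_lit 0x70608030504000201) (.leaf (nat_lit 0x70608020100050403) (nat_lit 520))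
 (.leaf (nat_lit 0x70608030504000201) (nat_lit 773))
))) (.node (nat_lit 0x70608040305000201) (.node (nat_lit 0x70608030504020100) (.leaf (nat_lit 0x70608030504010002) (nat_lit 773))
 (.leaf (nat_lit 0x70608030504020100) (nat_lit 517))
) (.node (nat_lit 0x70608040305010002) (.leaf (nat_lit 0x70608040305000201) (nat_lit 773))
 (.node (nat_lit 0x70608040305020100) (.leaf (nat_lit 0x70608040305010002) (nat_lit 773))
 (.leaf (nat_lit 0x70608040305020100) (nat_lit 517))
))))) (.node (nat_lit 0x80706020100040305) (.node (nat_lit 0x80706000201050403) (.node (nat_lit 0x70608050403020100) (.node (nat_lit 0x70608050403010002) (.leaf (nat_lit 0x70608050403000201) (nat_lit 517))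
 (.leaf (nat_lit 0x70608050403010002) (nat_lit 517))
) (.node (nat_lit 0x80706000201030504) (.leaf (nat_lit 0x70608050403020100) (nat_lit 261))
 (.node (nat_lit 0x80706000201040305) (.leaf (nat_lit 0x80706000201030504) (nat_lit 776))
 (.leaf (nat_lit 0x80706000201040305) (nat_lit 776))
))) (.node (nat_lit 0x80706010002040305) (.node (nat_lit 0x80706010002030504) (.leaf (nat_lit 0x80706000201050403) (nat_lit 520))
 (.leaf (nat_lit 0x80706010002030504) (nat_lit 776))
) (.node (nat_lit 0x80706010002050403) (.leaf (nat_lit 0x80706010002040305) (nat_lit 776))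
 (.node (nat_lit 0x80706020100030504) (.leaf (nat_lit 0x80706010002050403) (nat_lit 520))
 (.leaf (nat_lit 0x80706020100030504) (nat_lit 520))
)))) (.node (nat_lit 0x80706040305000201) (.node (nat_lit 0x80706030504000201) (.node (nat_lit 0x80706020100050403) (.leaf (nat_lit 0x80706020100040305) (nat_lit 520))
 (.leaf (nat_lit 0x80706020100050403) (nat_lit 264))
) (.node (nat_lit 0x80706030504010002) (.leaf (nat_lit 0x80706030504000201) (nat_lit 514))
 (.node (nat_lit 0x80706030504020100) (.leaf (nat_lit 0x80706030504010002) (nat_lit 514))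
 (.leaf (nat_lit 0x80706030504020100) (nat_lit 258))
))) (.node (nat_lit 0x80706050403000201) (.node (nat_lit 0x80706040305010002) (.leaf (nat_lit 0x80706040305000201) (nat_lit 515))
 (.node (nat_lit 0x80706040305020100) (.leaf (nat_lit 0x80706040305010002) (nat_lit 515))
 (.leaf (nat_lit 0x80706040305020100) (nat_lit 259))
)) (.node (nat_lit 0x80706050403010002) (.leaf (nat_lit 0x80706050403000201) (nat_lit 256))
 (.node (nat_lit 0x80706050403020100) (.leaf (nat_lit 0x80706050403010002) (nat_lit 257))
 (.leaf (nat_lit 0x80706050403020100) (nat_lit 0))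
))))))))

theorem gH_ok : genOK A9 [(nat_lit 0x80706050403000201), (nat_lit 0x80706050403010002), (nat_lit 0x80706030504020100), (nat_lit 0x80706040305020100), (nat_lit 0x60807050403020100), (nat_lit 0x70608050403020100), (nat_lit 0x20100080706050403), (nat_lit 0x50403020100080706), (nat_lit 0x80706020100050403)] gH_t (nat_lit 162) = true := by decide +kernel

noncomputable def gW_t : ST :=
(.node (nat_lit 0x40503000102060708) (.node (nat_lit 0x20001060708030405) (.node (nat_lit 0x10002040305070608) (.node (nat_lit 0x201030504080706) (.node (nat_lit 0x102060708040503) (.node (nat_lit 0x102040503080607) (.node (nat_lit 0x102030405080607) (.node (nat_lit 0x102030405070806) (.leaf (nat_lit 0x102030405060708) (nat_lit 1545))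
 (.leaf (nat_lit 0x102030405070806) (nat_lit 1289))
) (.node (nat_lit 0x102040503060708) (.leaf (nat_lit 0x102030405080607) (nat_lit 1545))
 (.node (nat_lit 0x102040503070806) (.leaf (nat_lit 0x102040503060708) (nat_lit 1289))
 (.leaf (nat_lit 0x102040503070806) (nat_lit 1033))
))) (.node (nat_lit 0x102050304070806) (.node (nat_lit 0x102050304060708) (.leaf (nat_lit 0x102040503080607) (nat_lit 1289))
 (.leaf (nat_lit 0x102050304060708) (nat_lit 1545))
) (.node (nat_lit 0x102050304080607) (.leaf (nat_lit 0x102050304070806) (nat_lit 1289))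
 (.node (nat_lit 0x102060708030405) (.leaf (nat_lit 0x102050304080607) (nat_lit 1545))
 (.leaf (nat_lit 0x102060708030405) (nat_lit 1289))
)))) (.node (nat_lit 0x102080607030405) (.node (nat_lit 0x102070806030405) (.node (nat_lit 0x102060708050304) (.leaf (nat_lit 0x102060708040503) (nat_lit 1033))
 (.leaf (nat_lit 0x102060708050304) (nat_lit 1289))
) (.node (nat_lit 0x102070806040503) (.leaf (nat_lit 0x102070806030405) (nat_lit 1033))
 (.node (nat_lit 0x102070806050304) (.leaf (nat_lit 0x102070806040503) (nat_lit 777))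
 (.leaf (nat_lit 0x102070806050304) (nat_lit 1033))
))) (.node (nat_lit 0x102080607050304) (.node (nat_lit 0x102080607040503) (.leaf (nat_lit 0x102080607030405) (nat_lit 1289))
 (.leaf (nat_lit 0x102080607040503) (nat_lit 1033))
) (.node (nat_lit 0x201030504060807) (.leaf (nat_lit 0x102080607050304) (nat_lit 1289))
 (.node (nat_lit 0x201030504070608) (.leaf (nat_lit 0x201030504060807) (nat_lit 1288))
 (.leaf (nat_lit 0x201030504070608) (nat_lit 1288))
))))) (.node (nat_lit 0x201070608030504) (.node (nat_lit 0x201050403070608) (.node (nat_lit 0x201040305070608) (.node (nat_lit 0x201040305060807) (.leaf (nat_lit 0x201030504080706) (nat_lit 1032))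
 (.leaf (nat_lit 0x201040305060807) (nat_lit 1288))
) (.node (nat_lit 0x201040305080706) (.leaf (nat_lit 0x201040305070608) (nat_lit 1288))
 (.node (nat_lit 0x201050403060807) (.leaf (nat_lit 0x201040305080706) (nat_lit 1032))
 (.leaf (nat_lit 0x201050403060807) (nat_lit 1032))
))) (.node (nat_lit 0x201060807030504) (.node (nat_lit 0x201050403080706) (.leaf (nat_lit 0x201050403070608) (nat_lit 1032))
 (.leaf (nat_lit 0x201050403080706) (nat_lit 776))
) (.node (nat_lit 0x201060807040305) (.leaf (nat_lit 0x201060807030504) (nat_lit 1030))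
 (.node (nat_lit 0x201060807050403) (.leaf (nat_lit 0x201060807040305) (nat_lit 1030))
 (.leaf (nat_lit 0x201060807050403) (nat_lit 774))
)))) (.node (nat_lit 0x201080706050403) (.node (nat_lit 0x201070608050403) (.node (nat_lit 0x201070608040305) (.leaf (nat_lit 0x201070608030504) (nat_lit 1030))
 (.leaf (nat_lit 0x201070608040305) (nat_lit 1030))
) (.node (nat_lit 0x201080706030504) (.leaf (nat_lit 0x201070608050403) (nat_lit 774))
 (.node (nat_lit 0x201080706040305) (.leaf (nat_lit 0x201080706030504) (nat_lit 774))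
 (.leaf (nat_lit 0x201080706040305) (nat_lit 774))
))) (.node (nat_lit 0x10002030504070608) (.node (nat_lit 0x10002030504060807) (.leaf (nat_lit 0x201080706050403) (nat_lit 518))
 (.leaf (nat_lit 0x10002030504060807) (nat_lit 1288))
) (.node (nat_lit 0x10002030504080706) (.leaf (nat_lit 0x10002030504070608) (nat_lit 1288))
 (.node (nat_lit 0x10002040305060807) (.leaf (nat_lit 0x10002030504080706) (nat_lit 1032))
 (.leaf (nat_lit 0x10002040305060807) (nat_lit 1288))
)))))) (.node (nat_lit 0x10200050304060708) (.node (nat_lit 0x10002070608050403) (.node (nat_lit 0x10002060807030504) (.node (nat_lit 0x10002050403060807) (.node (nat_lit 0x10002040305080706) (.leaf (nat_lit 0x10002040305070608) (nat_lit 1288))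
 (.leaf (nat_lit 0x10002040305080706) (nat_lit 1032))
) (.node (nat_lit 0x10002050403070608) (.leaf (nat_lit 0x10002050403060807) (nat_lit 1032))
 (.node (nat_lit 0x10002050403080706) (.leaf (nat_lit 0x10002050403070608) (nat_lit 1032))
 (.leaf (nat_lit 0x10002050403080706) (nat_lit 776))
))) (.node (nat_lit 0x10002060807050403) (.node (nat_lit 0x10002060807040305) (.leaf (nat_lit 0x10002060807030504) (nat_lit 1030))
 (.leaf (nat_lit 0x10002060807040305) (nat_lit 1030))
) (.node (nat_lit 0x10002070608030504) (.leaf (nat_lit 0x10002060807050403) (nat_lit 774))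
 (.node (nat_lit 0x10002070608040305) (.leaf (nat_lit 0x10002070608030504) (nat_lit 1030))
 (.leaf (nat_lit 0x10002070608040305) (nat_lit 1030))
)))) (.node (nat_lit 0x10200030405070806) (.node (nat_lit 0x10002080706040305) (.node (nat_lit 0x10002080706030504) (.leaf (nat_lit 0x10002070608050403) (nat_lit 774))
 (.leaf (nat_lit 0x10002080706030504) (nat_lit 774))
) (.node (nat_lit 0x10002080706050403) (.leaf (nat_lit 0x10002080706040305) (nat_lit 774))
 (.node (nat_lit 0x10200030405060708) (.leaf (nat_lit 0x10002080706050403) (nat_lit 518))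
 (.leaf (nat_lit 0x10200030405060708) (nat_lit 1289))
))) (.node (nat_lit 0x10200040503060708) (.node (nat_lit 0x10200030405080607) (.leaf (nat_lit 0x10200030405070806) (nat_lit 1033))
 (.leaf (nat_lit 0x10200030405080607) (nat_lit 1289))
) (.node (nat_lit 0x10200040503070806) (.leaf (nat_lit 0x10200040503060708) (nat_lit 1033))
 (.node (nat_lit 0x10200040503080607) (.leaf (nat_lit 0x10200040503070806) (nat_lit 777))
 (.leaf (nat_lit 0x10200040503080607) (nat_lit 1033))
))))) (.node (nat_lit 0x10200080607040503) (.node (nat_lit 0x10200060708050304) (.node (nat_lit 0x10200050304080607) (.node (nat_lit 0x10200050304070806) (.leaf (nat_lit 0x10200050304060708) (nat_lit 1289))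
 (.leaf (nat_lit 0x10200050304070806) (nat_lit 1033))
) (.node (nat_lit 0x10200060708030405) (.leaf (nat_lit 0x10200050304080607) (nat_lit 1289))
 (.node (nat_lit 0x10200060708040503) (.leaf (nat_lit 0x10200060708030405) (nat_lit 1033))
 (.leaf (nat_lit 0x10200060708040503) (nat_lit 777))
))) (.node (nat_lit 0x10200070806040503) (.node (nat_lit 0x10200070806030405) (.leaf (nat_lit 0x10200060708050304) (nat_lit 1033))
 (.leaf (nat_lit 0x10200070806030405) (nat_lit 777))
) (.node (nat_lit 0x10200070806050304) (.leaf (nat_lit 0x10200070806040503) (nat_lit 521))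
 (.node (nat_lit 0x10200080607030405) (.leaf (nat_lit 0x10200070806050304) (nat_lit 777))
 (.leaf (nat_lit 0x10200080607030405) (nat_lit 1033))
)))) (.node (nat_lit 0x20001040503060708) (.node (nat_lit 0x20001030405060708) (.node (nat_lit 0x10200080607050304) (.leaf (nat_lit 0x10200080607040503) (nat_lit 777))
 (.leaf (nat_lit 0x10200080607050304) (nat_lit 1033))
) (.node (nat_lit 0x20001030405070806) (.leaf (nat_lit 0x20001030405060708) (nat_lit 1545))
 (.node (nat_lit 0x20001030405080607) (.leaf (nat_lit 0x20001030405070806) (nat_lit 1289))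
 (.leaf (nat_lit 0x20001030405080607) (nat_lit 1545))
))) (.node (nat_lit 0x20001050304060708) (.node (nat_lit 0x20001040503070806) (.leaf (nat_lit 0x20001040503060708) (nat_lit 1289))
 (.node (nat_lit 0x20001040503080607) (.leaf (nat_lit 0x20001040503070806) (nat_lit 1033))
 (.leaf (nat_lit 0x20001040503080607) (nat_lit 1289))
)) (.node (nat_lit 0x20001050304070806) (.leaf (nat_lit 0x20001050304060708) (nat_lit 1545))
 (.node (nat_lit 0x20001050304080607) (.leaf (nat_lit 0x20001050304070806) (nat_lit 1289))
 (.leaf (nat_lit 0x20001050304080607) (nat_lit 1545))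
))))))) (.node (nat_lit 0x30405070806010200) (.node (nat_lit 0x20100060807050403) (.node (nat_lit 0x20100030504070608) (.node (nat_lit 0x20001070806050304) (.node (nat_lit 0x20001060708050304) (.node (nat_lit 0x20001060708040503) (.leaf (nat_lit 0x20001060708030405) (nat_lit 1289))
 (.leaf (nat_lit 0x20001060708040503) (nat_lit 1033))
) (.node (nat_lit 0x20001070806030405) (.leaf (nat_lit 0x20001060708050304) (nat_lit 1289))
 (.node (nat_lit 0x20001070806040503) (.leaf (nat_lit 0x20001070806030405) (nat_lit 1033))
 (.leaf (nat_lit 0x20001070806040503) (nat_lit 777))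
))) (.node (nat_lit 0x20001080607040503) (.node (nat_lit 0x20001080607030405) (.leaf (nat_lit 0x20001070806050304) (nat_lit 1033))
 (.leaf (nat_lit 0x20001080607030405) (nat_lit 1289))
) (.node (nat_lit 0x20001080607050304) (.leaf (nat_lit 0x20001080607040503) (nat_lit 1033))
 (.node (nat_lit 0x20100030504060807) (.leaf (nat_lit 0x20001080607050304) (nat_lit 1289))
 (.leaf (nat_lit 0x20100030504060807) (nat_lit 1032))
)))) (.node (nat_lit 0x20100050403060807) (.node (nat_lit 0x20100040305060807) (.node (nat_lit 0x20100030504080706) (.leaf (nat_lit 0x20100030504070608) (nat_lit 1032))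
 (.leaf (nat_lit 0x20100030504080706) (nat_lit 776))
) (.node (nat_lit 0x20100040305070608) (.leaf (nat_lit 0x20100040305060807) (nat_lit 1032))
 (.node (nat_lit 0x20100040305080706) (.leaf (nat_lit 0x20100040305070608) (nat_lit 1032))
 (.leaf (nat_lit 0x20100040305080706) (nat_lit 776))
))) (.node (nat_lit 0x20100050403080706) (.node (nat_lit 0x20100050403070608) (.leaf (nat_lit 0x20100050403060807) (nat_lit 776))
 (.leaf (nat_lit 0x20100050403070608) (nat_lit 776))
) (.node (nat_lit 0x20100060807030504) (.leaf (nat_lit 0x20100050403080706) (nat_lit 520))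
 (.node (nat_lit 0x20100060807040305) (.leaf (nat_lit 0x20100060807030504) (nat_lit 774))
 (.leaf (nat_lit 0x20100060807040305) (nat_lit 774))
))))) (.node (nat_lit 0x30405010200060708) (.node (nat_lit 0x20100080706040305) (.node (nat_lit 0x20100070608040305) (.node (nat_lit 0x20100070608030504) (.leaf (nat_lit 0x20100060807050403) (nat_lit 518))
 (.leaf (nat_lit 0x20100070608030504) (nat_lit 774))
) (.node (nat_lit 0x20100070608050403) (.leaf (nat_lit 0x20100070608040305) (nat_lit 774))
 (.node (nat_lit 0x20100080706030504) (.leaf (nat_lit 0x20100070608050403) (nat_lit 518))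
 (.leaf (nat_lit 0x20100080706030504) (nat_lit 518))
))) (.node (nat_lit 0x30405000102060708) (.node (nat_lit 0x20100080706050403) (.leaf (nat_lit 0x20100080706040305) (nat_lit 518))
 (.leaf (nat_lit 0x20100080706050403) (nat_lit 262))
) (.node (nat_lit 0x30405000102070806) (.leaf (nat_lit 0x30405000102060708) (nat_lit 1289))
 (.node (nat_lit 0x30405000102080607) (.leaf (nat_lit 0x30405000102070806) (nat_lit 1033))
 (.leaf (nat_lit 0x30405000102080607) (nat_lit 1289))
)))) (.node (nat_lit 0x30405020001080607) (.node (nat_lit 0x30405010200080607) (.node (nat_lit 0x30405010200070806) (.leaf (nat_lit 0x30405010200060708) (nat_lit 1033))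
 (.leaf (nat_lit 0x30405010200070806) (nat_lit 777))
) (.node (nat_lit 0x30405020001060708) (.leaf (nat_lit 0x30405010200080607) (nat_lit 1033))
 (.node (nat_lit 0x30405020001070806) (.leaf (nat_lit 0x30405020001060708) (nat_lit 1289))
 (.leaf (nat_lit 0x30405020001070806) (nat_lit 1033))
))) (.node (nat_lit 0x30405060708010200) (.node (nat_lit 0x30405060708000102) (.leaf (nat_lit 0x30405020001080607) (nat_lit 1289))
 (.leaf (nat_lit 0x30405060708000102) (nat_lit 1545))
) (.node (nat_lit 0x30405060708020001) (.leaf (nat_lit 0x30405060708010200) (nat_lit 1289))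
 (.node (nat_lit 0x30405070806000102) (.leaf (nat_lit 0x30405060708020001) (nat_lit 1545))
 (.leaf (nat_lit 0x30405070806000102) (nat_lit 1289))
)))))) (.node (nat_lit 0x30504080706000201) (.node (nat_lit 0x30504010002080706) (.node (nat_lit 0x30504000201060807) (.node (nat_lit 0x30405080607000102) (.node (nat_lit 0x30405070806020001) (.leaf (nat_lit 0x30405070806010200) (nat_lit 1033))
 (.leaf (nat_lit 0x30405070806020001) (nat_lit 1289))
) (.node (nat_lit 0x30405080607010200) (.leaf (nat_lit 0x30405080607000102) (nat_lit 1545))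
 (.node (nat_lit 0x30405080607020001) (.leaf (nat_lit 0x30405080607010200) (nat_lit 1289))
 (.leaf (nat_lit 0x30405080607020001) (nat_lit 1545))
))) (.node (nat_lit 0x30504000201080706) (.node (nat_lit 0x30504000201070608) (.leaf (nat_lit 0x30504000201060807) (nat_lit 1031))
 (.leaf (nat_lit 0x30504000201070608) (nat_lit 1031))
) (.node (nat_lit 0x30504010002060807) (.leaf (nat_lit 0x30504000201080706) (nat_lit 775))
 (.node (nat_lit 0x30504010002070608) (.leaf (nat_lit 0x30504010002060807) (nat_lit 1031))
 (.leaf (nat_lit 0x30504010002070608) (nat_lit 1031))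
)))) (.node (nat_lit 0x30504060807010002) (.node (nat_lit 0x30504020100070608) (.node (nat_lit 0x30504020100060807) (.leaf (nat_lit 0x30504010002080706) (nat_lit 775))
 (.leaf (nat_lit 0x30504020100060807) (nat_lit 775))
) (.node (nat_lit 0x30504020100080706) (.leaf (nat_lit 0x30504020100070608) (nat_lit 775))
 (.node (nat_lit 0x30504060807000201) (.leaf (nat_lit 0x30504020100080706) (nat_lit 519))
 (.leaf (nat_lit 0x30504060807000201) (nat_lit 1288))
))) (.node (nat_lit 0x30504070608000201) (.node (nat_lit 0x30504060807020100) (.leaf (nat_lit 0x30504060807010002) (nat_lit 1288))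
 (.leaf (nat_lit 0x30504060807020100) (nat_lit 1032))
) (.node (nat_lit 0x30504070608010002) (.leaf (nat_lit 0x30504070608000201) (nat_lit 1288))
 (.node (nat_lit 0x30504070608020100) (.leaf (nat_lit 0x30504070608010002) (nat_lit 1288))
 (.leaf (nat_lit 0x30504070608020100) (nat_lit 1032))
))))) (.node (nat_lit 0x40305020100070608) (.node (nat_lit 0x40305000201080706) (.node (nat_lit 0x30504080706020100) (.node (nat_lit 0x30504080706010002) (.leaf (nat_lit 0x30504080706000201) (nat_lit 1032))
 (.leaf (nat_lit 0x30504080706010002) (nat_lit 1032))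
) (.node (nat_lit 0x40305000201060807) (.leaf (nat_lit 0x30504080706020100) (nat_lit 776))
 (.node (nat_lit 0x40305000201070608) (.leaf (nat_lit 0x40305000201060807) (nat_lit 1031))
 (.leaf (nat_lit 0x40305000201070608) (nat_lit 1031))
))) (.node (nat_lit 0x40305010002070608) (.node (nat_lit 0x40305010002060807) (.leaf (nat_lit 0x40305000201080706) (nat_lit 775))
 (.leaf (nat_lit 0x40305010002060807) (nat_lit 1031))
) (.node (nat_lit 0x40305010002080706) (.leaf (nat_lit 0x40305010002070608) (nat_lit 1031))
 (.node (nat_lit 0x40305020100060807) (.leaf (nat_lit 0x40305010002080706) (nat_lit 775))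
 (.leaf (nat_lit 0x40305020100060807) (nat_lit 775))
)))) (.node (nat_lit 0x40305070608000201) (.node (nat_lit 0x40305060807000201) (.node (nat_lit 0x40305020100080706) (.leaf (nat_lit 0x40305020100070608) (nat_lit 775))
 (.leaf (nat_lit 0x40305020100080706) (nat_lit 519))
) (.node (nat_lit 0x40305060807010002) (.leaf (nat_lit 0x40305060807000201) (nat_lit 1288))
 (.node (nat_lit 0x40305060807020100) (.leaf (nat_lit 0x40305060807010002) (nat_lit 1288))
 (.leaf (nat_lit 0x40305060807020100) (nat_lit 1032))
))) (.node (nat_lit 0x40305080706000201) (.node (nat_lit 0x40305070608010002) (.leaf (nat_lit 0x40305070608000201) (nat_lit 1288))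
 (.node (nat_lit 0x40305070608020100) (.leaf (nat_lit 0x40305070608010002) (nat_lit 1288))
 (.leaf (nat_lit 0x40305070608020100) (nat_lit 1032))
)) (.node (nat_lit 0x40305080706010002) (.leaf (nat_lit 0x40305080706000201) (nat_lit 1032))
 (.node (nat_lit 0x40305080706020100) (.leaf (nat_lit 0x40305080706010002) (nat_lit 1032))
 (.leaf (nat_lit 0x40305080706020100) (nat_lit 776))
)))))))) (.node (nat_lit 0x60807030504000201) (.node (nat_lit 0x50403010002070608) (.node (nat_lit 0x50304000102080607) (.node (nat_lit 0x40503060708010200) (.node (nat_lit 0x40503010200080607) (.node (nat_lit 0x40503000102080607) (.node (nat_lit 0x40503000102070806) (.leaf (nat_lit 0x40503000102060708) (nat_lit 1033))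
 (.leaf (nat_lit 0x40503000102070806) (nat_lit 777))
) (.node (nat_lit 0x40503010200060708) (.leaf (nat_lit 0x40503000102080607) (nat_lit 1033))
 (.node (nat_lit 0x40503010200070806) (.leaf (nat_lit 0x40503010200060708) (nat_lit 777))
 (.leaf (nat_lit 0x40503010200070806) (nat_lit 521))
))) (.node (nat_lit 0x40503020001070806) (.node (nat_lit 0x40503020001060708) (.leaf (nat_lit 0x40503010200080607) (nat_lit 777))
 (.leaf (nat_lit 0x40503020001060708) (nat_lit 1033))
) (.node (nat_lit 0x40503020001080607) (.leaf (nat_lit 0x40503020001070806) (nat_lit 777))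
 (.node (nat_lit 0x40503060708000102) (.leaf (nat_lit 0x40503020001080607) (nat_lit 1033))
 (.leaf (nat_lit 0x40503060708000102) (nat_lit 1289))
)))) (.node (nat_lit 0x40503080607000102) (.node (nat_lit 0x40503070806000102) (.node (nat_lit 0x40503060708020001) (.leaf (nat_lit 0x40503060708010200) (nat_lit 1033))
 (.leaf (nat_lit 0x40503060708020001) (nat_lit 1289))
) (.node (nat_lit 0x40503070806010200) (.leaf (nat_lit 0x40503070806000102) (nat_lit 1033))
 (.node (nat_lit 0x40503070806020001) (.leaf (nat_lit 0x40503070806010200) (nat_lit 777))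
 (.leaf (nat_lit 0x40503070806020001) (nat_lit 1033))
))) (.node (nat_lit 0x40503080607020001) (.node (nat_lit 0x40503080607010200) (.leaf (nat_lit 0x40503080607000102) (nat_lit 1289))
 (.leaf (nat_lit 0x40503080607010200) (nat_lit 1033))
) (.node (nat_lit 0x50304000102060708) (.leaf (nat_lit 0x40503080607020001) (nat_lit 1289))
 (.node (nat_lit 0x50304000102070806) (.leaf (nat_lit 0x50304000102060708) (nat_lit 1289))
 (.leaf (nat_lit 0x50304000102070806) (nat_lit 1033))
))))) (.node (nat_lit 0x50304070806000102) (.node (nat_lit 0x50304020001070806) (.node (nat_lit 0x50304010200070806) (.node (nat_lit 0x50304010200060708) (.leaf (nat_lit 0x50304000102080607) (nat_lit 1289))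
 (.leaf (nat_lit 0x50304010200060708) (nat_lit 1033))
) (.node (nat_lit 0x50304010200080607) (.leaf (nat_lit 0x50304010200070806) (nat_lit 777))
 (.node (nat_lit 0x50304020001060708) (.leaf (nat_lit 0x50304010200080607) (nat_lit 1033))
 (.leaf (nat_lit 0x50304020001060708) (nat_lit 1289))
))) (.node (nat_lit 0x50304060708000102) (.node (nat_lit 0x50304020001080607) (.leaf (nat_lit 0x50304020001070806) (nat_lit 1033))
 (.leaf (nat_lit 0x50304020001080607) (nat_lit 1289))
) (.node (nat_lit 0x50304060708010200) (.leaf (nat_lit 0x50304060708000102) (nat_lit 1545))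
 (.node (nat_lit 0x50304060708020001) (.leaf (nat_lit 0x50304060708010200) (nat_lit 1289))
 (.leaf (nat_lit 0x50304060708020001) (nat_lit 1545))
)))) (.node (nat_lit 0x50304080607020001) (.node (nat_lit 0x50304070806020001) (.node (nat_lit 0x50304070806010200) (.leaf (nat_lit 0x50304070806000102) (nat_lit 1289))
 (.leaf (nat_lit 0x50304070806010200) (nat_lit 1033))
) (.node (nat_lit 0x50304080607000102) (.leaf (nat_lit 0x50304070806020001) (nat_lit 1289))
 (.node (nat_lit 0x50304080607010200) (.leaf (nat_lit 0x50304080607000102) (nat_lit 1545))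
 (.leaf (nat_lit 0x50304080607010200) (nat_lit 1289))
))) (.node (nat_lit 0x50403000201070608) (.node (nat_lit 0x50403000201060807) (.leaf (nat_lit 0x50304080607020001) (nat_lit 1545))
 (.leaf (nat_lit 0x50403000201060807) (nat_lit 775))
) (.node (nat_lit 0x50403000201080706) (.leaf (nat_lit 0x50403000201070608) (nat_lit 775))
 (.node (nat_lit 0x50403010002060807) (.leaf (nat_lit 0x50403000201080706) (nat_lit 519))
 (.leaf (nat_lit 0x50403010002060807) (nat_lit 775))
)))))) (.node (nat_lit 0x60708020001030405) (.node (nat_lit 0x50403070608020100) (.node (nat_lit 0x50403060807000201) (.node (nat_lit 0x50403020100060807) (.node (nat_lit 0x50403010002080706) (.leaf (nat_lit 0x50403010002070608) (nat_lit 775))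
 (.leaf (nat_lit 0x50403010002080706) (nat_lit 519))
) (.node (nat_lit 0x50403020100070608) (.leaf (nat_lit 0x50403020100060807) (nat_lit 519))
 (.node (nat_lit 0x50403020100080706) (.leaf (nat_lit 0x50403020100070608) (nat_lit 519))
 (.leaf (nat_lit 0x50403020100080706) (nat_lit 263))
))) (.node (nat_lit 0x50403060807020100) (.node (nat_lit 0x50403060807010002) (.leaf (nat_lit 0x50403060807000201) (nat_lit 1032))
 (.leaf (nat_lit 0x50403060807010002) (nat_lit 1032))
) (.node (nat_lit 0x50403070608000201) (.leaf (nat_lit 0x50403060807020100) (nat_lit 776))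
 (.node (nat_lit 0x50403070608010002) (.leaf (nat_lit 0x50403070608000201) (nat_lit 1032))
 (.leaf (nat_lit 0x50403070608010002) (nat_lit 1032))
)))) (.node (nat_lit 0x60708000102040503) (.node (nat_lit 0x50403080706010002) (.node (nat_lit 0x50403080706000201) (.leaf (nat_lit 0x50403070608020100) (nat_lit 776))
 (.leaf (nat_lit 0x50403080706000201) (nat_lit 776))
) (.node (nat_lit 0x50403080706020100) (.leaf (nat_lit 0x50403080706010002) (nat_lit 776))
 (.node (nat_lit 0x60708000102030405) (.leaf (nat_lit 0x50403080706020100) (nat_lit 520))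
 (.leaf (nat_lit 0x60708000102030405) (nat_lit 1289))
))) (.node (nat_lit 0x60708010200030405) (.node (nat_lit 0x60708000102050304) (.leaf (nat_lit 0x60708000102040503) (nat_lit 1033))
 (.leaf (nat_lit 0x60708000102050304) (nat_lit 1289))
) (.node (nat_lit 0x60708010200040503) (.leaf (nat_lit 0x60708010200030405) (nat_lit 1033))
 (.node (nat_lit 0x60708010200050304) (.leaf (nat_lit 0x60708010200040503) (nat_lit 777))
 (.leaf (nat_lit 0x60708010200050304) (nat_lit 1033))
))))) (.node (nat_lit 0x60708050304010200) (.node (nat_lit 0x60708030405020001) (.node (nat_lit 0x60708020001050304) (.node (nat_lit 0x60708020001040503) (.leaf (nat_lit 0x60708020001030405) (nat_lit 1289))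
 (.leaf (nat_lit 0x60708020001040503) (nat_lit 1033))
) (.node (nat_lit 0x60708030405000102) (.leaf (nat_lit 0x60708020001050304) (nat_lit 1289))
 (.node (nat_lit 0x60708030405010200) (.leaf (nat_lit 0x60708030405000102) (nat_lit 1033))
 (.leaf (nat_lit 0x60708030405010200) (nat_lit 777))
))) (.node (nat_lit 0x60708040503010200) (.node (nat_lit 0x60708040503000102) (.leaf (nat_lit 0x60708030405020001) (nat_lit 1033))
 (.leaf (nat_lit 0x60708040503000102) (nat_lit 777))
) (.node (nat_lit 0x60708040503020001) (.leaf (nat_lit 0x60708040503010200) (nat_lit 521))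
 (.node (nat_lit 0x60708050304000102) (.leaf (nat_lit 0x60708040503020001) (nat_lit 777))
 (.leaf (nat_lit 0x60708050304000102) (nat_lit 1033))
)))) (.node (nat_lit 0x60807010002030504) (.node (nat_lit 0x60807000201030504) (.node (nat_lit 0x60708050304020001) (.leaf (nat_lit 0x60708050304010200) (nat_lit 777))
 (.leaf (nat_lit 0x60708050304020001) (nat_lit 1033))
) (.node (nat_lit 0x60807000201040305) (.leaf (nat_lit 0x60807000201030504) (nat_lit 1032))
 (.node (nat_lit 0x60807000201050403) (.leaf (nat_lit 0x60807000201040305) (nat_lit 1032))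
 (.leaf (nat_lit 0x60807000201050403) (nat_lit 776))
))) (.node (nat_lit 0x60807020100030504) (.node (nat_lit 0x60807010002040305) (.leaf (nat_lit 0x60807010002030504) (nat_lit 1032))
 (.node (nat_lit 0x60807010002050403) (.leaf (nat_lit 0x60807010002040305) (nat_lit 1032))
 (.leaf (nat_lit 0x60807010002050403) (nat_lit 776))
)) (.node (nat_lit 0x60807020100040305) (.leaf (nat_lit 0x60807020100030504) (nat_lit 776))
 (.node (nat_lit 0x60807020100050403) (.leaf (nat_lit 0x60807020100040305) (nat_lit 776))
 (.leaf (nat_lit 0x60807020100050403) (nat_lit 520))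
))))))) (.node (nat_lit 0x70806040503010200) (.node (nat_lit 0x70608030504020100) (.node (nat_lit 0x70608000201040305) (.node (nat_lit 0x60807040305020100) (.node (nat_lit 0x60807030504020100) (.node (nat_lit 0x60807030504010002) (.leaf (nat_lit 0x60807030504000201) (nat_lit 772))
 (.leaf (nat_lit 0x60807030504010002) (nat_lit 772))
) (.node (nat_lit 0x60807040305000201) (.leaf (nat_lit 0x60807030504020100) (nat_lit 516))
 (.node (nat_lit 0x60807040305010002) (.leaf (nat_lit 0x60807040305000201) (nat_lit 772))
 (.leaf (nat_lit 0x60807040305010002) (nat_lit 772))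
))) (.node (nat_lit 0x60807050403010002) (.node (nat_lit 0x60807050403000201) (.leaf (nat_lit 0x60807040305020100) (nat_lit 516))
 (.leaf (nat_lit 0x60807050403000201) (nat_lit 516))
) (.node (nat_lit 0x60807050403020100) (.leaf (nat_lit 0x60807050403010002) (nat_lit 516))
 (.node (nat_lit 0x70608000201030504) (.leaf (nat_lit 0x60807050403020100) (nat_lit 260))
 (.leaf (nat_lit 0x70608000201030504) (nat_lit 1032))
)))) (.node (nat_lit 0x70608020100030504) (.node (nat_lit 0x70608010002030504) (.node (nat_lit 0x70608000201050403) (.leaf (nat_lit 0x70608000201040305) (nat_lit 1032))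
 (.leaf (nat_lit 0x70608000201050403) (nat_lit 776))
) (.node (nat_lit 0x70608010002040305) (.leaf (nat_lit 0x70608010002030504) (nat_lit 1032))
 (.node (nat_lit 0x70608010002050403) (.leaf (nat_lit 0x70608010002040305) (nat_lit 1032))
 (.leaf (nat_lit 0x70608010002050403) (nat_lit 776))
))) (.node (nat_lit 0x70608020100050403) (.node (nat_lit 0x70608020100040305) (.leaf (nat_lit 0x70608020100030504) (nat_lit 776))
 (.leaf (nat_lit 0x70608020100040305) (nat_lit 776))
) (.node (nat_lit 0x70608030504000201) (.leaf (nat_lit 0x70608020100050403) (nat_lit 520))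
 (.node (nat_lit 0x70608030504010002) (.leaf (nat_lit 0x70608030504000201) (nat_lit 773))
 (.leaf (nat_lit 0x70608030504010002) (nat_lit 773))
))))) (.node (nat_lit 0x70806010200030405) (.node (nat_lit 0x70608050403010002) (.node (nat_lit 0x70608040305010002) (.node (nat_lit 0x70608040305000201) (.leaf (nat_lit 0x70608030504020100) (nat_lit 517))
 (.leaf (nat_lit 0x70608040305000201) (nat_lit 773))
) (.node (nat_lit 0x70608040305020100) (.leaf (nat_lit 0x70608040305010002) (nat_lit 773))
 (.node (nat_lit 0x70608050403000201) (.leaf (nat_lit 0x70608040305020100) (nat_lit 517))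
 (.leaf (nat_lit 0x70608050403000201) (nat_lit 517))
))) (.node (nat_lit 0x70806000102030405) (.node (nat_lit 0x70608050403020100) (.leaf (nat_lit 0x70608050403010002) (nat_lit 517))
 (.leaf (nat_lit 0x70608050403020100) (nat_lit 261))
) (.node (nat_lit 0x70806000102040503) (.leaf (nat_lit 0x70806000102030405) (nat_lit 1033))
 (.node (nat_lit 0x70806000102050304) (.leaf (nat_lit 0x70806000102040503) (nat_lit 777))
 (.leaf (nat_lit 0x70806000102050304) (nat_lit 1033))
)))) (.node (nat_lit 0x70806020001050304) (.node (nat_lit 0x70806010200050304) (.node (nat_lit 0x70806010200040503) (.leaf (nat_lit 0x70806010200030405) (nat_lit 777))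
 (.leaf (nat_lit 0x70806010200040503) (nat_lit 521))
) (.node (nat_lit 0x70806020001030405) (.leaf (nat_lit 0x70806010200050304) (nat_lit 777))
 (.node (nat_lit 0x70806020001040503) (.leaf (nat_lit 0x70806020001030405) (nat_lit 1033))
 (.leaf (nat_lit 0x70806020001040503) (nat_lit 777))
))) (.node (nat_lit 0x70806030405010200) (.node (nat_lit 0x70806030405000102) (.leaf (nat_lit 0x70806020001050304) (nat_lit 1033))
 (.leaf (nat_lit 0x70806030405000102) (nat_lit 777))
) (.node (nat_lit 0x70806030405020001) (.leaf (nat_lit 0x70806030405010200) (nat_lit 521))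
 (.node (nat_lit 0x70806040503000102) (.leaf (nat_lit 0x70806030405020001) (nat_lit 777))
 (.leaf (nat_lit 0x70806040503000102) (nat_lit 521))
)))))) (.node (nat_lit 0x80607050304000102) (.node (nat_lit 0x80607010200050304) (.node (nat_lit 0x80607000102030405) (.node (nat_lit 0x70806050304000102) (.node (nat_lit 0x70806040503020001) (.leaf (nat_lit 0x70806040503010200) (nat_lit 265))
 (.leaf (nat_lit 0x70806040503020001) (nat_lit 521))
) (.node (nat_lit 0x70806050304010200) (.leaf (nat_lit 0x70806050304000102) (nat_lit 777))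
 (.node (nat_lit 0x70806050304020001) (.leaf (nat_lit 0x70806050304010200) (nat_lit 521))
 (.leaf (nat_lit 0x70806050304020001) (nat_lit 777))
))) (.node (nat_lit 0x80607000102050304) (.node (nat_lit 0x80607000102040503) (.leaf (nat_lit 0x80607000102030405) (nat_lit 1289))
 (.leaf (nat_lit 0x80607000102040503) (nat_lit 1033))
) (.node (nat_lit 0x80607010200030405) (.leaf (nat_lit 0x80607000102050304) (nat_lit 1289))
 (.node (nat_lit 0x80607010200040503) (.leaf (nat_lit 0x80607010200030405) (nat_lit 1033))
 (.leaf (nat_lit 0x80607010200040503) (nat_lit 777))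
)))) (.node (nat_lit 0x80607030405010200) (.node (nat_lit 0x80607020001040503) (.node (nat_lit 0x80607020001030405) (.leaf (nat_lit 0x80607010200050304) (nat_lit 1033))
 (.leaf (nat_lit 0x80607020001030405) (nat_lit 1289))
) (.node (nat_lit 0x80607020001050304) (.leaf (nat_lit 0x80607020001040503) (nat_lit 1033))
 (.node (nat_lit 0x80607030405000102) (.leaf (nat_lit 0x80607020001050304) (nat_lit 1289))
 (.leaf (nat_lit 0x80607030405000102) (nat_lit 1033))
))) (.node (nat_lit 0x80607040503000102) (.node (nat_lit 0x80607030405020001) (.leaf (nat_lit 0x80607030405010200) (nat_lit 777))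
 (.leaf (nat_lit 0x80607030405020001) (nat_lit 1033))
) (.node (nat_lit 0x80607040503010200) (.leaf (nat_lit 0x80607040503000102) (nat_lit 777))
 (.node (nat_lit 0x80607040503020001) (.leaf (nat_lit 0x80607040503010200) (nat_lit 521))
 (.leaf (nat_lit 0x80607040503020001) (nat_lit 777))
))))) (.node (nat_lit 0x80706020100040305) (.node (nat_lit 0x80706000201050403) (.node (nat_lit 0x80607050304020001) (.node (nat_lit 0x80607050304010200) (.leaf (nat_lit 0x80607050304000102) (nat_lit 1033))
 (.leaf (nat_lit 0x80607050304010200) (nat_lit 777))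
) (.node (nat_lit 0x80706000201030504) (.leaf (nat_lit 0x80607050304020001) (nat_lit 1033))
 (.node (nat_lit 0x80706000201040305) (.leaf (nat_lit 0x80706000201030504) (nat_lit 776))
 (.leaf (nat_lit 0x80706000201040305) (nat_lit 776))
))) (.node (nat_lit 0x80706010002040305) (.node (nat_lit 0x80706010002030504) (.leaf (nat_lit 0x80706000201050403) (nat_lit 520))
 (.leaf (nat_lit 0x80706010002030504) (nat_lit 776))
) (.node (nat_lit 0x80706010002050403) (.leaf (nat_lit 0x80706010002040305) (nat_lit 776))
 (.node (nat_lit 0x80706020100030504) (.leaf (nat_lit 0x80706010002050403) (nat_lit 520))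
 (.leaf (nat_lit 0x80706020100030504) (nat_lit 520))
)))) (.node (nat_lit 0x80706040305000201) (.node (nat_lit 0x80706030504000201) (.node (nat_lit 0x80706020100050403) (.leaf (nat_lit 0x80706020100040305) (nat_lit 520))
 (.leaf (nat_lit 0x80706020100050403) (nat_lit 264))
) (.node (nat_lit 0x80706030504010002) (.leaf (nat_lit 0x80706030504000201) (nat_lit 514))
 (.node (nat_lit 0x80706030504020100) (.leaf (nat_lit 0x80706030504010002) (nat_lit 514))
 (.leaf (nat_lit 0x80706030504020100) (nat_lit 258))
))) (.node (nat_lit 0x80706050403000201) (.node (nat_lit 0x80706040305010002) (.leaf (nat_lit 0x80706040305000201) (nat_lit 515))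
 (.node (nat_lit 0x80706040305020100) (.leaf (nat_lit 0x80706040305010002) (nat_lit 515))
 (.leaf (nat_lit 0x80706040305020100) (nat_lit 259))
)) (.node (nat_lit 0x80706050403010002) (.leaf (nat_lit 0x80706050403000201) (nat_lit 256))
 (.node (nat_lit 0x80706050403020100) (.leaf (nat_lit 0x80706050403010002) (nat_lit 257))
 (.leaf (nat_lit 0x80706050403020100) (nat_lit 0))
)))))))))

theorem gW_ok : genOK A9 [(nat_lit 0x80706050403000201), (nat_lit 0x80706050403010002), (nat_lit 0x80706030504020100), (nat_lit 0x80706040305020100), (nat_lit 0x60807050403020100), (nat_lit 0x70608050403020100), (nat_lit 0x20100080706050403), (nat_lit 0x50403020100080706), (nat_lit 0x80706020100050403), (nat_lit 0x70806040503010200)] gW_t (nat_lit 324) = true := by decide +kernel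

noncomputable def gE_t : ST :=
(.node (nat_lit 0x40503000102060807) (.node (nat_lit 0x20001060708030504) (.node (nat_lit 0x10002040503060708) (.node (nat_lit 0x201030504070608) (.node (nat_lit 0x102060708050403) (.node (nat_lit 0x102040503070608) (.node (nat_lit 0x102030504080607) (.node (nat_lit 0x102030405080706) (.node (nat_lit 0x102030405070608) (.leaf (nat_lit 0x102030405060807) (nat_lit 1545))
 (.leaf (nat_lit 0x102030405070608) (nat_lit 1545))
) (.node (nat_lit 0x102030504060708) (.leaf (nat_lit 0x102030405080706) (nat_lit 1289))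
 (.node (nat_lit 0x102030504070806) (.leaf (nat_lit 0x102030504060708) (nat_lit 1799))
 (.leaf (nat_lit 0x102030504070806) (nat_lit 1543))
))) (.node (nat_lit 0x102040305070806) (.node (nat_lit 0x102040305060708) (.leaf (nat_lit 0x102030504080607) (nat_lit 1799))
 (.leaf (nat_lit 0x102040305060708) (nat_lit 1799))
) (.node (nat_lit 0x102040305080607) (.leaf (nat_lit 0x102040305070806) (nat_lit 1543))
 (.node (nat_lit 0x102040503060807) (.leaf (nat_lit 0x102040305080607) (nat_lit 1799))
 (.leaf (nat_lit 0x102040503060807) (nat_lit 1289))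
)))) (.node (nat_lit 0x102050403060708) (.node (nat_lit 0x102050304060807) (.node (nat_lit 0x102040503080706) (.leaf (nat_lit 0x102040503070608) (nat_lit 1289))
 (.leaf (nat_lit 0x102040503080706) (nat_lit 1033))
) (.node (nat_lit 0x102050304070608) (.leaf (nat_lit 0x102050304060807) (nat_lit 1545))
 (.node (nat_lit 0x102050304080706) (.leaf (nat_lit 0x102050304070608) (nat_lit 1545))
 (.leaf (nat_lit 0x102050304080706) (nat_lit 1289))
))) (.node (nat_lit 0x102050403080607) (.node (nat_lit 0x102050403070806) (.leaf (nat_lit 0x102050403060708) (nat_lit 1543))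
 (.leaf (nat_lit 0x102050403070806) (nat_lit 1287))
) (.node (nat_lit 0x102060708030504) (.leaf (nat_lit 0x102050403080607) (nat_lit 1543))
 (.node (nat_lit 0x102060708040305) (.leaf (nat_lit 0x102060708030504) (nat_lit 1543))
 (.leaf (nat_lit 0x102060708040305) (nat_lit 1543))
))))) (.node (nat_lit 0x102080607030504) (.node (nat_lit 0x102070608040503) (.node (nat_lit 0x102060807040503) (.node (nat_lit 0x102060807030405) (.leaf (nat_lit 0x102060708050403) (nat_lit 1287))
 (.leaf (nat_lit 0x102060807030405) (nat_lit 1289))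
) (.node (nat_lit 0x102060807050304) (.leaf (nat_lit 0x102060807040503) (nat_lit 1033))
 (.node (nat_lit 0x102070608030405) (.leaf (nat_lit 0x102060807050304) (nat_lit 1289))
 (.leaf (nat_lit 0x102070608030405) (nat_lit 1289))
))) (.node (nat_lit 0x102070806030504) (.node (nat_lit 0x102070608050304) (.leaf (nat_lit 0x102070608040503) (nat_lit 1033))
 (.leaf (nat_lit 0x102070608050304) (nat_lit 1289))
) (.node (nat_lit 0x102070806040305) (.leaf (nat_lit 0x102070806030504) (nat_lit 1287))
 (.node (nat_lit 0x102070806050403) (.leaf (nat_lit 0x102070806040305) (nat_lit 1287))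
 (.leaf (nat_lit 0x102070806050403) (nat_lit 1031))
)))) (.node (nat_lit 0x102080706050304) (.node (nat_lit 0x102080607050403) (.node (nat_lit 0x102080607040305) (.leaf (nat_lit 0x102080607030504) (nat_lit 1543))
 (.leaf (nat_lit 0x102080607040305) (nat_lit 1543))
) (.node (nat_lit 0x102080706030405) (.leaf (nat_lit 0x102080607050403) (nat_lit 1287))
 (.node (nat_lit 0x102080706040503) (.leaf (nat_lit 0x102080706030405) (nat_lit 1033))
 (.leaf (nat_lit 0x102080706040503) (nat_lit 777))
))) (.node (nat_lit 0x201030405070806) (.node (nat_lit 0x201030405060708) (.leaf (nat_lit 0x102080706050304) (nat_lit 1033))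
 (.leaf (nat_lit 0x201030405060708) (nat_lit 1542))
) (.node (nat_lit 0x201030405080607) (.leaf (nat_lit 0x201030405070806) (nat_lit 1286))
 (.node (nat_lit 0x201030504060807) (.leaf (nat_lit 0x201030405080607) (nat_lit 1542))
 (.leaf (nat_lit 0x201030504060807) (nat_lit 1288))
)))))) (.node (nat_lit 0x201070608030504) (.node (nat_lit 0x201050304080607) (.node (nat_lit 0x201040503060708) (.node (nat_lit 0x201040305060807) (.node (nat_lit 0x201030504080706) (.leaf (nat_lit 0x201030504070608) (nat_lit 1288))
 (.leaf (nat_lit 0x201030504080706) (nat_lit 1032))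
) (.node (nat_lit 0x201040305070608) (.leaf (nat_lit 0x201040305060807) (nat_lit 1288))
 (.node (nat_lit 0x201040305080706) (.leaf (nat_lit 0x201040305070608) (nat_lit 1288))
 (.leaf (nat_lit 0x201040305080706) (nat_lit 1032))
))) (.node (nat_lit 0x201040503080607) (.node (nat_lit 0x201040503070806) (.leaf (nat_lit 0x201040503060708) (nat_lit 1286))
 (.leaf (nat_lit 0x201040503070806) (nat_lit 1030))
) (.node (nat_lit 0x201050304060708) (.leaf (nat_lit 0x201040503080607) (nat_lit 1286))
 (.node (nat_lit 0x201050304070806) (.leaf (nat_lit 0x201050304060708) (nat_lit 1542))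
 (.leaf (nat_lit 0x201050304070806) (nat_lit 1286))
)))) (.node (nat_lit 0x201060708040503) (.node (nat_lit 0x201050403070608) (.node (nat_lit 0x201050403060807) (.leaf (nat_lit 0x201050304080607) (nat_lit 1542))
 (.leaf (nat_lit 0x201050403060807) (nat_lit 1032))
) (.node (nat_lit 0x201050403080706) (.leaf (nat_lit 0x201050403070608) (nat_lit 1032))
 (.node (nat_lit 0x201060708030405) (.leaf (nat_lit 0x201050403080706) (nat_lit 776))
 (.leaf (nat_lit 0x201060708030405) (nat_lit 1286))
))) (.node (nat_lit 0x201060807030504) (.node (nat_lit 0x201060708050304) (.leaf (nat_lit 0x201060708040503) (nat_lit 1030))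
 (.leaf (nat_lit 0x201060708050304) (nat_lit 1286))
) (.node (nat_lit 0x201060807040305) (.leaf (nat_lit 0x201060807030504) (nat_lit 1030))
 (.node (nat_lit 0x201060807050403) (.leaf (nat_lit 0x201060807040305) (nat_lit 1030))
 (.leaf (nat_lit 0x201060807050403) (nat_lit 774))
))))) (.node (nat_lit 0x201080706040305) (.node (nat_lit 0x201070806050304) (.node (nat_lit 0x201070608050403) (.node (nat_lit 0x201070608040305) (.leaf (nat_lit 0x201070608030504) (nat_lit 1030))
 (.leaf (nat_lit 0x201070608040305) (nat_lit 1030))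
) (.node (nat_lit 0x201070806030405) (.leaf (nat_lit 0x201070608050403) (nat_lit 774))
 (.node (nat_lit 0x201070806040503) (.leaf (nat_lit 0x201070806030405) (nat_lit 1030))
 (.leaf (nat_lit 0x201070806040503) (nat_lit 774))
))) (.node (nat_lit 0x201080607040503) (.node (nat_lit 0x201080607030405) (.leaf (nat_lit 0x201070806050304) (nat_lit 1030))
 (.leaf (nat_lit 0x201080607030405) (nat_lit 1286))
) (.node (nat_lit 0x201080607050304) (.leaf (nat_lit 0x201080607040503) (nat_lit 1030))
 (.node (nat_lit 0x201080706030504) (.leaf (nat_lit 0x201080607050304) (nat_lit 1286))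
 (.leaf (nat_lit 0x201080706030504) (nat_lit 774))
)))) (.node (nat_lit 0x10002030504060807) (.node (nat_lit 0x10002030405060708) (.node (nat_lit 0x201080706050403) (.leaf (nat_lit 0x201080706040305) (nat_lit 774))
 (.leaf (nat_lit 0x201080706050403) (nat_lit 518))
) (.node (nat_lit 0x10002030405070806) (.leaf (nat_lit 0x10002030405060708) (nat_lit 1542))
 (.node (nat_lit 0x10002030405080607) (.leaf (nat_lit 0x10002030405070806) (nat_lit 1286))
 (.leaf (nat_lit 0x10002030405080607) (nat_lit 1542))
))) (.node (nat_lit 0x10002040305060807) (.node (nat_lit 0x10002030504070608) (.leaf (nat_lit 0x10002030504060807) (nat_lit 1288))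
 (.node (nat_lit 0x10002030504080706) (.leaf (nat_lit 0x10002030504070608) (nat_lit 1288))
 (.leaf (nat_lit 0x10002030504080706) (nat_lit 1032))
)) (.node (nat_lit 0x10002040305070608) (.leaf (nat_lit 0x10002040305060807) (nat_lit 1288))
 (.node (nat_lit 0x10002040305080706) (.leaf (nat_lit 0x10002040305070608) (nat_lit 1288))
 (.leaf (nat_lit 0x10002040305080706) (nat_lit 1032))
))))))) (.node (nat_lit 0x10200050304070608) (.node (nat_lit 0x10002070806050304) (.node (nat_lit 0x10002060708040503) (.node (nat_lit 0x10002050304080607) (.node (nat_lit 0x10002040503080607) (.node (nat_lit 0x10002040503070806) (.leaf (nat_lit 0x10002040503060708) (nat_lit 1286))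
 (.leaf (nat_lit 0x10002040503070806) (nat_lit 1030))
) (.node (nat_lit 0x10002050304060708) (.leaf (nat_lit 0x10002040503080607) (nat_lit 1286))
 (.node (nat_lit 0x10002050304070806) (.leaf (nat_lit 0x10002050304060708) (nat_lit 1542))
 (.leaf (nat_lit 0x10002050304070806) (nat_lit 1286))
))) (.node (nat_lit 0x10002050403070608) (.node (nat_lit 0x10002050403060807) (.leaf (nat_lit 0x10002050304080607) (nat_lit 1542))
 (.leaf (nat_lit 0x10002050403060807) (nat_lit 1032))
) (.node (nat_lit 0x10002050403080706) (.leaf (nat_lit 0x10002050403070608) (nat_lit 1032))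
 (.node (nat_lit 0x10002060708030405) (.leaf (nat_lit 0x10002050403080706) (nat_lit 776))
 (.leaf (nat_lit 0x10002060708030405) (nat_lit 1286))
)))) (.node (nat_lit 0x10002070608030504) (.node (nat_lit 0x10002060807030504) (.node (nat_lit 0x10002060708050304) (.leaf (nat_lit 0x10002060708040503) (nat_lit 1030))
 (.leaf (nat_lit 0x10002060708050304) (nat_lit 1286))
) (.node (nat_lit 0x10002060807040305) (.leaf (nat_lit 0x10002060807030504) (nat_lit 1030))
 (.node (nat_lit 0x10002060807050403) (.leaf (nat_lit 0x10002060807040305) (nat_lit 1030))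
 (.leaf (nat_lit 0x10002060807050403) (nat_lit 774))
))) (.node (nat_lit 0x10002070608050403) (.node (nat_lit 0x10002070608040305) (.leaf (nat_lit 0x10002070608030504) (nat_lit 1030))
 (.leaf (nat_lit 0x10002070608040305) (nat_lit 1030))
) (.node (nat_lit 0x10002070806030405) (.leaf (nat_lit 0x10002070608050403) (nat_lit 774))
 (.node (nat_lit 0x10002070806040503) (.leaf (nat_lit 0x10002070806030405) (nat_lit 1030))
 (.leaf (nat_lit 0x10002070806040503) (nat_lit 774))
))))) (.node (nat_lit 0x10200030504060708) (.node (nat_lit 0x10002080706040305) (.node (nat_lit 0x10002080607040503) (.node (nat_lit 0x10002080607030405) (.leaf (nat_lit 0x10002070806050304) (nat_lit 1030))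
 (.leaf (nat_lit 0x10002080607030405) (nat_lit 1286))
) (.node (nat_lit 0x10002080607050304) (.leaf (nat_lit 0x10002080607040503) (nat_lit 1030))
 (.node (nat_lit 0x10002080706030504) (.leaf (nat_lit 0x10002080607050304) (nat_lit 1286))
 (.leaf (nat_lit 0x10002080706030504) (nat_lit 774))
))) (.node (nat_lit 0x10200030405060807) (.node (nat_lit 0x10002080706050403) (.leaf (nat_lit 0x10002080706040305) (nat_lit 774))
 (.leaf (nat_lit 0x10002080706050403) (nat_lit 518))
) (.node (nat_lit 0x10200030405070608) (.leaf (nat_lit 0x10200030405060807) (nat_lit 1289))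
 (.node (nat_lit 0x10200030405080706) (.leaf (nat_lit 0x10200030405070608) (nat_lit 1289))
 (.leaf (nat_lit 0x10200030405080706) (nat_lit 1033))
)))) (.node (nat_lit 0x10200040305080607) (.node (nat_lit 0x10200030504080607) (.node (nat_lit 0x10200030504070806) (.leaf (nat_lit 0x10200030504060708) (nat_lit 1543))
 (.leaf (nat_lit 0x10200030504070806) (nat_lit 1287))
) (.node (nat_lit 0x10200040305060708) (.leaf (nat_lit 0x10200030504080607) (nat_lit 1543))
 (.node (nat_lit 0x10200040305070806) (.leaf (nat_lit 0x10200040305060708) (nat_lit 1543))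
 (.leaf (nat_lit 0x10200040305070806) (nat_lit 1287))
))) (.node (nat_lit 0x10200040503070608) (.node (nat_lit 0x10200040503060807) (.leaf (nat_lit 0x10200040305080607) (nat_lit 1543))
 (.leaf (nat_lit 0x10200040503060807) (nat_lit 1033))
) (.node (nat_lit 0x10200040503080706) (.leaf (nat_lit 0x10200040503070608) (nat_lit 1033))
 (.node (nat_lit 0x10200050304060807) (.leaf (nat_lit 0x10200040503080706) (nat_lit 777))
 (.leaf (nat_lit 0x10200050304060807) (nat_lit 1289))
)))))) (.node (nat_lit 0x10200080706030405) (.node (nat_lit 0x10200060807050304) (.node (nat_lit 0x10200060708030504) (.node (nat_lit 0x10200050403060708) (.node (nat_lit 0x10200050304080706) (.leaf (nat_lit 0x10200050304070608) (nat_lit 1289))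
 (.leaf (nat_lit 0x10200050304080706) (nat_lit 1033))
) (.node (nat_lit 0x10200050403070806) (.leaf (nat_lit 0x10200050403060708) (nat_lit 1287))
 (.node (nat_lit 0x10200050403080607) (.leaf (nat_lit 0x10200050403070806) (nat_lit 1031))
 (.leaf (nat_lit 0x10200050403080607) (nat_lit 1287))
))) (.node (nat_lit 0x10200060708050403) (.node (nat_lit 0x10200060708040305) (.leaf (nat_lit 0x10200060708030504) (nat_lit 1287))
 (.leaf (nat_lit 0x10200060708040305) (nat_lit 1287))
) (.node (nat_lit 0x10200060807030405) (.leaf (nat_lit 0x10200060708050403) (nat_lit 1031))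
 (.node (nat_lit 0x10200060807040503) (.leaf (nat_lit 0x10200060807030405) (nat_lit 1033))
 (.leaf (nat_lit 0x10200060807040503) (nat_lit 777))
)))) (.node (nat_lit 0x10200070806040305) (.node (nat_lit 0x10200070608040503) (.node (nat_lit 0x10200070608030405) (.leaf (nat_lit 0x10200060807050304) (nat_lit 1033))
 (.leaf (nat_lit 0x10200070608030405) (nat_lit 1033))
) (.node (nat_lit 0x10200070608050304) (.leaf (nat_lit 0x10200070608040503) (nat_lit 777))
 (.node (nat_lit 0x10200070806030504) (.leaf (nat_lit 0x10200070608050304) (nat_lit 1033))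
 (.leaf (nat_lit 0x10200070806030504) (nat_lit 1031))
))) (.node (nat_lit 0x10200080607030504) (.node (nat_lit 0x10200070806050403) (.leaf (nat_lit 0x10200070806040305) (nat_lit 1031))
 (.leaf (nat_lit 0x10200070806050403) (nat_lit 775))
) (.node (nat_lit 0x10200080607040305) (.leaf (nat_lit 0x10200080607030504) (nat_lit 1287))
 (.node (nat_lit 0x10200080607050403) (.leaf (nat_lit 0x10200080607040305) (nat_lit 1287))
 (.leaf (nat_lit 0x10200080607050403) (nat_lit 1031))
))))) (.node (nat_lit 0x20001040305070806) (.node (nat_lit 0x20001030405080706) (.node (nat_lit 0x10200080706050304) (.node (nat_lit 0x10200080706040503) (.leaf (nat_lit 0x10200080706030405) (nat_lit 777))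
 (.leaf (nat_lit 0x10200080706040503) (nat_lit 521))
) (.node (nat_lit 0x20001030405060807) (.leaf (nat_lit 0x10200080706050304) (nat_lit 777))
 (.node (nat_lit 0x20001030405070608) (.leaf (nat_lit 0x20001030405060807) (nat_lit 1545))
 (.leaf (nat_lit 0x20001030405070608) (nat_lit 1545))
))) (.node (nat_lit 0x20001030504070806) (.node (nat_lit 0x20001030504060708) (.leaf (nat_lit 0x20001030405080706) (nat_lit 1289))
 (.leaf (nat_lit 0x20001030504060708) (nat_lit 1799))
) (.node (nat_lit 0x20001030504080607) (.leaf (nat_lit 0x20001030504070806) (nat_lit 1543))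
 (.node (nat_lit 0x20001040305060708) (.leaf (nat_lit 0x20001030504080607) (nat_lit 1799))
 (.leaf (nat_lit 0x20001040305060708) (nat_lit 1799))
)))) (.node (nat_lit 0x20001050304060807) (.node (nat_lit 0x20001040503060807) (.node (nat_lit 0x20001040305080607) (.leaf (nat_lit 0x20001040305070806) (nat_lit 1543))
 (.leaf (nat_lit 0x20001040305080607) (nat_lit 1799))
) (.node (nat_lit 0x20001040503070608) (.leaf (nat_lit 0x20001040503060807) (nat_lit 1289))
 (.node (nat_lit 0x20001040503080706) (.leaf (nat_lit 0x20001040503070608) (nat_lit 1289))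
 (.leaf (nat_lit 0x20001040503080706) (nat_lit 1033))
))) (.node (nat_lit 0x20001050403060708) (.node (nat_lit 0x20001050304070608) (.leaf (nat_lit 0x20001050304060807) (nat_lit 1545))
 (.node (nat_lit 0x20001050304080706) (.leaf (nat_lit 0x20001050304070608) (nat_lit 1545))
 (.leaf (nat_lit 0x20001050304080706) (nat_lit 1289))
)) (.node (nat_lit 0x20001050403070806) (.leaf (nat_lit 0x20001050403060708) (nat_lit 1543))
 (.node (nat_lit 0x20001050403080607) (.leaf (nat_lit 0x20001050403070806) (nat_lit 1287))
 (.leaf (nat_lit 0x20001050403080607) (nat_lit 1543))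
)))))))) (.node (nat_lit 0x30405070806000201) (.node (nat_lit 0x20100060807040305) (.node (nat_lit 0x20100030405080607) (.node (nat_lit 0x20001070806040305) (.node (nat_lit 0x20001060807050304) (.node (nat_lit 0x20001060708050403) (.node (nat_lit 0x20001060708040305) (.leaf (nat_lit 0x20001060708030504) (nat_lit 1543))
 (.leaf (nat_lit 0x20001060708040305) (nat_lit 1543))
) (.node (nat_lit 0x20001060807030405) (.leaf (nat_lit 0x20001060708050403) (nat_lit 1287))
 (.node (nat_lit 0x20001060807040503) (.leaf (nat_lit 0x20001060807030405) (nat_lit 1289))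
 (.leaf (nat_lit 0x20001060807040503) (nat_lit 1033))
))) (.node (nat_lit 0x20001070608040503) (.node (nat_lit 0x20001070608030405) (.leaf (nat_lit 0x20001060807050304) (nat_lit 1289))
 (.leaf (nat_lit 0x20001070608030405) (nat_lit 1289))
) (.node (nat_lit 0x20001070608050304) (.leaf (nat_lit 0x20001070608040503) (nat_lit 1033))
 (.node (nat_lit 0x20001070806030504) (.leaf (nat_lit 0x20001070608050304) (nat_lit 1289))
 (.leaf (nat_lit 0x20001070806030504) (nat_lit 1287))
)))) (.node (nat_lit 0x20001080706030405) (.node (nat_lit 0x20001080607030504) (.node (nat_lit 0x20001070806050403) (.leaf (nat_lit 0x20001070806040305) (nat_lit 1287))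
 (.leaf (nat_lit 0x20001070806050403) (nat_lit 1031))
) (.node (nat_lit 0x20001080607040305) (.leaf (nat_lit 0x20001080607030504) (nat_lit 1543))
 (.node (nat_lit 0x20001080607050403) (.leaf (nat_lit 0x20001080607040305) (nat_lit 1543))
 (.leaf (nat_lit 0x20001080607050403) (nat_lit 1287))
))) (.node (nat_lit 0x20001080706050304) (.node (nat_lit 0x20001080706040503) (.leaf (nat_lit 0x20001080706030405) (nat_lit 1033))
 (.leaf (nat_lit 0x20001080706040503) (nat_lit 777))
) (.node (nat_lit 0x20100030405060708) (.leaf (nat_lit 0x20001080706050304) (nat_lit 1033))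
 (.node (nat_lit 0x20100030405070806) (.leaf (nat_lit 0x20100030405060708) (nat_lit 1286))
 (.leaf (nat_lit 0x20100030405070806) (nat_lit 1030))
))))) (.node (nat_lit 0x20100050304060708) (.node (nat_lit 0x20100040305070608) (.node (nat_lit 0x20100030504070608) (.node (nat_lit 0x20100030504060807) (.leaf (nat_lit 0x20100030405080607) (nat_lit 1286))
 (.leaf (nat_lit 0x20100030504060807) (nat_lit 1032))
) (.node (nat_lit 0x20100030504080706) (.leaf (nat_lit 0x20100030504070608) (nat_lit 1032))
 (.node (nat_lit 0x20100040305060807) (.leaf (nat_lit 0x20100030504080706) (nat_lit 776))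
 (.leaf (nat_lit 0x20100040305060807) (nat_lit 1032))
))) (.node (nat_lit 0x20100040503060708) (.node (nat_lit 0x20100040305080706) (.leaf (nat_lit 0x20100040305070608) (nat_lit 1032))
 (.leaf (nat_lit 0x20100040305080706) (nat_lit 776))
) (.node (nat_lit 0x20100040503070806) (.leaf (nat_lit 0x20100040503060708) (nat_lit 1030))
 (.node (nat_lit 0x20100040503080607) (.leaf (nat_lit 0x20100040503070806) (nat_lit 774))
 (.leaf (nat_lit 0x20100040503080607) (nat_lit 1030))
)))) (.node (nat_lit 0x20100050403080706) (.node (nat_lit 0x20100050304080607) (.node (nat_lit 0x20100050304070806) (.leaf (nat_lit 0x20100050304060708) (nat_lit 1286))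
 (.leaf (nat_lit 0x20100050304070806) (nat_lit 1030))
) (.node (nat_lit 0x20100050403060807) (.leaf (nat_lit 0x20100050304080607) (nat_lit 1286))
 (.node (nat_lit 0x20100050403070608) (.leaf (nat_lit 0x20100050403060807) (nat_lit 776))
 (.leaf (nat_lit 0x20100050403070608) (nat_lit 776))
))) (.node (nat_lit 0x20100060708040503) (.node (nat_lit 0x20100060708030405) (.leaf (nat_lit 0x20100050403080706) (nat_lit 520))
 (.leaf (nat_lit 0x20100060708030405) (nat_lit 1030))
) (.node (nat_lit 0x20100060708050304) (.leaf (nat_lit 0x20100060708040503) (nat_lit 774))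
 (.node (nat_lit 0x20100060807030504) (.leaf (nat_lit 0x20100060708050304) (nat_lit 1030))
 (.leaf (nat_lit 0x20100060807030504) (nat_lit 774))
)))))) (.node (nat_lit 0x30405010002060708) (.node (nat_lit 0x20100080607050304) (.node (nat_lit 0x20100070806030405) (.node (nat_lit 0x20100070608030504) (.node (nat_lit 0x20100060807050403) (.leaf (nat_lit 0x20100060807040305) (nat_lit 774))
 (.leaf (nat_lit 0x20100060807050403) (nat_lit 518))
) (.node (nat_lit 0x20100070608040305) (.leaf (nat_lit 0x20100070608030504) (nat_lit 774))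
 (.node (nat_lit 0x20100070608050403) (.leaf (nat_lit 0x20100070608040305) (nat_lit 774))
 (.leaf (nat_lit 0x20100070608050403) (nat_lit 518))
))) (.node (nat_lit 0x20100070806050304) (.node (nat_lit 0x20100070806040503) (.leaf (nat_lit 0x20100070806030405) (nat_lit 774))
 (.leaf (nat_lit 0x20100070806040503) (nat_lit 518))
) (.node (nat_lit 0x20100080607030405) (.leaf (nat_lit 0x20100070806050304) (nat_lit 774))
 (.node (nat_lit 0x20100080607040503) (.leaf (nat_lit 0x20100080607030405) (nat_lit 1030))
 (.leaf (nat_lit 0x20100080607040503) (nat_lit 774))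
)))) (.node (nat_lit 0x30405000102070608) (.node (nat_lit 0x20100080706040305) (.node (nat_lit 0x20100080706030504) (.leaf (nat_lit 0x20100080607050304) (nat_lit 1030))
 (.leaf (nat_lit 0x20100080706030504) (nat_lit 518))
) (.node (nat_lit 0x20100080706050403) (.leaf (nat_lit 0x20100080706040305) (nat_lit 518))
 (.node (nat_lit 0x30405000102060807) (.leaf (nat_lit 0x20100080706050403) (nat_lit 262))
 (.leaf (nat_lit 0x30405000102060807) (nat_lit 1289))
))) (.node (nat_lit 0x30405000201060708) (.node (nat_lit 0x30405000102080706) (.leaf (nat_lit 0x30405000102070608) (nat_lit 1289))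
 (.leaf (nat_lit 0x30405000102080706) (nat_lit 1033))
) (.node (nat_lit 0x30405000201070806) (.leaf (nat_lit 0x30405000201060708) (nat_lit 1542))
 (.node (nat_lit 0x30405000201080607) (.leaf (nat_lit 0x30405000201070806) (nat_lit 1286))
 (.leaf (nat_lit 0x30405000201080607) (nat_lit 1542))
))))) (.node (nat_lit 0x30405020100070806) (.node (nat_lit 0x30405010200080706) (.node (nat_lit 0x30405010002080607) (.node (nat_lit 0x30405010002070806) (.leaf (nat_lit 0x30405010002060708) (nat_lit 1542))
 (.leaf (nat_lit 0x30405010002070806) (nat_lit 1286))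
) (.node (nat_lit 0x30405010200060807) (.leaf (nat_lit 0x30405010002080607) (nat_lit 1542))
 (.node (nat_lit 0x30405010200070608) (.leaf (nat_lit 0x30405010200060807) (nat_lit 1033))
 (.leaf (nat_lit 0x30405010200070608) (nat_lit 1033))
))) (.node (nat_lit 0x30405020001070608) (.node (nat_lit 0x30405020001060807) (.leaf (nat_lit 0x30405010200080706) (nat_lit 777))
 (.leaf (nat_lit 0x30405020001060807) (nat_lit 1289))
) (.node (nat_lit 0x30405020001080706) (.leaf (nat_lit 0x30405020001070608) (nat_lit 1289))
 (.node (nat_lit 0x30405020100060708) (.leaf (nat_lit 0x30405020001080706) (nat_lit 1033))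
 (.leaf (nat_lit 0x30405020100060708) (nat_lit 1286))
)))) (.node (nat_lit 0x30405060807000102) (.node (nat_lit 0x30405060708000201) (.node (nat_lit 0x30405020100080607) (.leaf (nat_lit 0x30405020100070806) (nat_lit 1030))
 (.leaf (nat_lit 0x30405020100080607) (nat_lit 1286))
) (.node (nat_lit 0x30405060708010002) (.leaf (nat_lit 0x30405060708000201) (nat_lit 1798))
 (.node (nat_lit 0x30405060708020100) (.leaf (nat_lit 0x30405060708010002) (nat_lit 1798))
 (.leaf (nat_lit 0x30405060708020100) (nat_lit 1542))
))) (.node (nat_lit 0x30405070608000102) (.node (nat_lit 0x30405060807010200) (.leaf (nat_lit 0x30405060807000102) (nat_lit 1545))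
 (.node (nat_lit 0x30405060807020001) (.leaf (nat_lit 0x30405060807010200) (nat_lit 1289))
 (.leaf (nat_lit 0x30405060807020001) (nat_lit 1545))
)) (.node (nat_lit 0x30405070608010200) (.leaf (nat_lit 0x30405070608000102) (nat_lit 1545))
 (.node (nat_lit 0x30405070608020001) (.leaf (nat_lit 0x30405070608010200) (nat_lit 1289))
 (.leaf (nat_lit 0x30405070608020001) (nat_lit 1545))
))))))) (.node (nat_lit 0x30504080607010200) (.node (nat_lit 0x30504010200080607) (.node (nat_lit 0x30504000102070806) (.node (nat_lit 0x30405080607020100) (.node (nat_lit 0x30405070806020100) (.node (nat_lit 0x30405070806010002) (.leaf (nat_lit 0x30405070806000201) (nat_lit 1542))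
 (.leaf (nat_lit 0x30405070806010002) (nat_lit 1542))
) (.node (nat_lit 0x30405080607000201) (.leaf (nat_lit 0x30405070806020100) (nat_lit 1286))
 (.node (nat_lit 0x30405080607010002) (.leaf (nat_lit 0x30405080607000201) (nat_lit 1798))
 (.leaf (nat_lit 0x30405080607010002) (nat_lit 1798))
))) (.node (nat_lit 0x30405080706010200) (.node (nat_lit 0x30405080706000102) (.leaf (nat_lit 0x30405080607020100) (nat_lit 1542))
 (.leaf (nat_lit 0x30405080706000102) (nat_lit 1289))
) (.node (nat_lit 0x30405080706020001) (.leaf (nat_lit 0x30405080706010200) (nat_lit 1033))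
 (.node (nat_lit 0x30504000102060708) (.leaf (nat_lit 0x30405080706020001) (nat_lit 1289))
 (.leaf (nat_lit 0x30504000102060708) (nat_lit 1287))
)))) (.node (nat_lit 0x30504010002060807) (.node (nat_lit 0x30504000201060807) (.node (nat_lit 0x30504000102080607) (.leaf (nat_lit 0x30504000102070806) (nat_lit 1031))
 (.leaf (nat_lit 0x30504000102080607) (nat_lit 1287))
) (.node (nat_lit 0x30504000201070608) (.leaf (nat_lit 0x30504000201060807) (nat_lit 1031))
 (.node (nat_lit 0x30504000201080706) (.leaf (nat_lit 0x30504000201070608) (nat_lit 1031))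
 (.leaf (nat_lit 0x30504000201080706) (nat_lit 775))
))) (.node (nat_lit 0x30504010002080706) (.node (nat_lit 0x30504010002070608) (.leaf (nat_lit 0x30504010002060807) (nat_lit 1031))
 (.leaf (nat_lit 0x30504010002070608) (nat_lit 1031))
) (.node (nat_lit 0x30504010200060708) (.leaf (nat_lit 0x30504010002080706) (nat_lit 775))
 (.node (nat_lit 0x30504010200070806) (.leaf (nat_lit 0x30504010200060708) (nat_lit 1031))
 (.leaf (nat_lit 0x30504010200070806) (nat_lit 775))
))))) (.node (nat_lit 0x30504060807000201) (.node (nat_lit 0x30504020100070608) (.node (nat_lit 0x30504020001070806) (.node (nat_lit 0x30504020001060708) (.leaf (nat_lit 0x30504010200080607) (nat_lit 1031))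
 (.leaf (nat_lit 0x30504020001060708) (nat_lit 1287))
) (.node (nat_lit 0x30504020001080607) (.leaf (nat_lit 0x30504020001070806) (nat_lit 1031))
 (.node (nat_lit 0x30504020100060807) (.leaf (nat_lit 0x30504020001080607) (nat_lit 1287))
 (.leaf (nat_lit 0x30504020100060807) (nat_lit 775))
))) (.node (nat_lit 0x30504060708000102) (.node (nat_lit 0x30504020100080706) (.leaf (nat_lit 0x30504020100070608) (nat_lit 775))
 (.leaf (nat_lit 0x30504020100080706) (nat_lit 519))
) (.node (nat_lit 0x30504060708010200) (.leaf (nat_lit 0x30504060708000102) (nat_lit 1543))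
 (.node (nat_lit 0x30504060708020001) (.leaf (nat_lit 0x30504060708010200) (nat_lit 1287))
 (.leaf (nat_lit 0x30504060708020001) (nat_lit 1543))
)))) (.node (nat_lit 0x30504070608020100) (.node (nat_lit 0x30504060807020100) (.node (nat_lit 0x30504060807010002) (.leaf (nat_lit 0x30504060807000201) (nat_lit 1288))
 (.leaf (nat_lit 0x30504060807010002) (nat_lit 1288))
) (.node (nat_lit 0x30504070608000201) (.leaf (nat_lit 0x30504060807020100) (nat_lit 1032))
 (.node (nat_lit 0x30504070608010002) (.leaf (nat_lit 0x30504070608000201) (nat_lit 1288))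
 (.leaf (nat_lit 0x30504070608010002) (nat_lit 1288))
))) (.node (nat_lit 0x30504070806010200) (.node (nat_lit 0x30504070806000102) (.leaf (nat_lit 0x30504070608020100) (nat_lit 1032))
 (.leaf (nat_lit 0x30504070806000102) (nat_lit 1287))
) (.node (nat_lit 0x30504070806020001) (.leaf (nat_lit 0x30504070806010200) (nat_lit 1031))
 (.node (nat_lit 0x30504080607000102) (.leaf (nat_lit 0x30504070806020001) (nat_lit 1287))
 (.leaf (nat_lit 0x30504080607000102) (nat_lit 1543))
)))))) (.node (nat_lit 0x40305020100060807) (.node (nat_lit 0x40305000201080706) (.node (nat_lit 0x40305000102060708) (.node (nat_lit 0x30504080706000201) (.node (nat_lit 0x30504080607020001) (.leaf (nat_lit 0x30504080607010200) (nat_lit 1287))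
 (.leaf (nat_lit 0x30504080607020001) (nat_lit 1543))
) (.node (nat_lit 0x30504080706010002) (.leaf (nat_lit 0x30504080706000201) (nat_lit 1032))
 (.node (nat_lit 0x30504080706020100) (.leaf (nat_lit 0x30504080706010002) (nat_lit 1032))
 (.leaf (nat_lit 0x30504080706020100) (nat_lit 776))
))) (.node (nat_lit 0x40305000102080607) (.node (nat_lit 0x40305000102070806) (.leaf (nat_lit 0x40305000102060708) (nat_lit 1287))
 (.leaf (nat_lit 0x40305000102070806) (nat_lit 1031))
) (.node (nat_lit 0x40305000201060807) (.leaf (nat_lit 0x40305000102080607) (nat_lit 1287))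
 (.node (nat_lit 0x40305000201070608) (.leaf (nat_lit 0x40305000201060807) (nat_lit 1031))
 (.leaf (nat_lit 0x40305000201070608) (nat_lit 1031))
)))) (.node (nat_lit 0x40305010200070806) (.node (nat_lit 0x40305010002070608) (.node (nat_lit 0x40305010002060807) (.leaf (nat_lit 0x40305000201080706) (nat_lit 775))
 (.leaf (nat_lit 0x40305010002060807) (nat_lit 1031))
) (.node (nat_lit 0x40305010002080706) (.leaf (nat_lit 0x40305010002070608) (nat_lit 1031))
 (.node (nat_lit 0x40305010200060708) (.leaf (nat_lit 0x40305010002080706) (nat_lit 775))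
 (.leaf (nat_lit 0x40305010200060708) (nat_lit 1031))
))) (.node (nat_lit 0x40305020001060708) (.node (nat_lit 0x40305010200080607) (.leaf (nat_lit 0x40305010200070806) (nat_lit 775))
 (.leaf (nat_lit 0x40305010200080607) (nat_lit 1031))
) (.node (nat_lit 0x40305020001070806) (.leaf (nat_lit 0x40305020001060708) (nat_lit 1287))
 (.node (nat_lit 0x40305020001080607) (.leaf (nat_lit 0x40305020001070806) (nat_lit 1031))
 (.leaf (nat_lit 0x40305020001080607) (nat_lit 1287))
))))) (.node (nat_lit 0x40305070608010002) (.node (nat_lit 0x40305060708020001) (.node (nat_lit 0x40305020100080706) (.node (nat_lit 0x40305020100070608) (.leaf (nat_lit 0x40305020100060807) (nat_lit 775))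
 (.leaf (nat_lit 0x40305020100070608) (nat_lit 775))
) (.node (nat_lit 0x40305060708000102) (.leaf (nat_lit 0x40305020100080706) (nat_lit 519))
 (.node (nat_lit 0x40305060708010200) (.leaf (nat_lit 0x40305060708000102) (nat_lit 1543))
 (.leaf (nat_lit 0x40305060708010200) (nat_lit 1287))
))) (.node (nat_lit 0x40305060807010002) (.node (nat_lit 0x40305060807000201) (.leaf (nat_lit 0x40305060708020001) (nat_lit 1543))
 (.leaf (nat_lit 0x40305060807000201) (nat_lit 1288))
) (.node (nat_lit 0x40305060807020100) (.leaf (nat_lit 0x40305060807010002) (nat_lit 1288))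
 (.node (nat_lit 0x40305070608000201) (.leaf (nat_lit 0x40305060807020100) (nat_lit 1032))
 (.leaf (nat_lit 0x40305070608000201) (nat_lit 1288))
)))) (.node (nat_lit 0x40305080607000102) (.node (nat_lit 0x40305070806000102) (.node (nat_lit 0x40305070608020100) (.leaf (nat_lit 0x40305070608010002) (nat_lit 1288))
 (.leaf (nat_lit 0x40305070608020100) (nat_lit 1032))
) (.node (nat_lit 0x40305070806010200) (.leaf (nat_lit 0x40305070806000102) (nat_lit 1287))
 (.node (nat_lit 0x40305070806020001) (.leaf (nat_lit 0x40305070806010200) (nat_lit 1031))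
 (.leaf (nat_lit 0x40305070806020001) (nat_lit 1287))
))) (.node (nat_lit 0x40305080706000201) (.node (nat_lit 0x40305080607010200) (.leaf (nat_lit 0x40305080607000102) (nat_lit 1543))
 (.node (nat_lit 0x40305080607020001) (.leaf (nat_lit 0x40305080607010200) (nat_lit 1287))
 (.leaf (nat_lit 0x40305080607020001) (nat_lit 1543))
)) (.node (nat_lit 0x40305080706010002) (.leaf (nat_lit 0x40305080706000201) (nat_lit 1032))
 (.node (nat_lit 0x40305080706020100) (.leaf (nat_lit 0x40305080706010002) (nat_lit 1032))
 (.leaf (nat_lit 0x40305080706020100) (nat_lit 776))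
))))))))) (.node (nat_lit 0x60807030405000102) (.node (nat_lit 0x50403010200060708) (.node (nat_lit 0x50304000201070806) (.node (nat_lit 0x40503060708020100) (.node (nat_lit 0x40503010200070608) (.node (nat_lit 0x40503000201080607) (.node (nat_lit 0x40503000102080706) (.node (nat_lit 0x40503000102070608) (.leaf (nat_lit 0x40503000102060807) (nat_lit 1033))
 (.leaf (nat_lit 0x40503000102070608) (nat_lit 1033))
) (.node (nat_lit 0x40503000201060708) (.leaf (nat_lit 0x40503000102080706) (nat_lit 777))
 (.node (nat_lit 0x40503000201070806) (.leaf (nat_lit 0x40503000201060708) (nat_lit 1286))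
 (.leaf (nat_lit 0x40503000201070806) (nat_lit 1030))
))) (.node (nat_lit 0x40503010002070806) (.node (nat_lit 0x40503010002060708) (.leaf (nat_lit 0x40503000201080607) (nat_lit 1286))
 (.leaf (nat_lit 0x40503010002060708) (nat_lit 1286))
) (.node (nat_lit 0x40503010002080607) (.leaf (nat_lit 0x40503010002070806) (nat_lit 1030))
 (.node (nat_lit 0x40503010200060807) (.leaf (nat_lit 0x40503010002080607) (nat_lit 1286))
 (.leaf (nat_lit 0x40503010200060807) (nat_lit 777))
)))) (.node (nat_lit 0x40503020100060708) (.node (nat_lit 0x40503020001060807) (.node (nat_lit 0x40503010200080706) (.leaf (nat_lit 0x40503010200070608) (nat_lit 777))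
 (.leaf (nat_lit 0x40503010200080706) (nat_lit 521))
) (.node (nat_lit 0x40503020001070608) (.leaf (nat_lit 0x40503020001060807) (nat_lit 1033))
 (.node (nat_lit 0x40503020001080706) (.leaf (nat_lit 0x40503020001070608) (nat_lit 1033))
 (.leaf (nat_lit 0x40503020001080706) (nat_lit 777))
))) (.node (nat_lit 0x40503020100080607) (.node (nat_lit 0x40503020100070806) (.leaf (nat_lit 0x40503020100060708) (nat_lit 1030))
 (.leaf (nat_lit 0x40503020100070806) (nat_lit 774))
) (.node (nat_lit 0x40503060708000201) (.leaf (nat_lit 0x40503020100080607) (nat_lit 1030))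
 (.node (nat_lit 0x40503060708010002) (.leaf (nat_lit 0x40503060708000201) (nat_lit 1542))
 (.leaf (nat_lit 0x40503060708010002) (nat_lit 1542))
))))) (.node (nat_lit 0x40503080607000201) (.node (nat_lit 0x40503070608010200) (.node (nat_lit 0x40503060807010200) (.node (nat_lit 0x40503060807000102) (.leaf (nat_lit 0x40503060708020100) (nat_lit 1286))
 (.leaf (nat_lit 0x40503060807000102) (nat_lit 1289))
) (.node (nat_lit 0x40503060807020001) (.leaf (nat_lit 0x40503060807010200) (nat_lit 1033))
 (.node (nat_lit 0x40503070608000102) (.leaf (nat_lit 0x40503060807020001) (nat_lit 1289))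
 (.leaf (nat_lit 0x40503070608000102) (nat_lit 1289))
))) (.node (nat_lit 0x40503070806000201) (.node (nat_lit 0x40503070608020001) (.leaf (nat_lit 0x40503070608010200) (nat_lit 1033))
 (.leaf (nat_lit 0x40503070608020001) (nat_lit 1289))
) (.node (nat_lit 0x40503070806010002) (.leaf (nat_lit 0x40503070806000201) (nat_lit 1286))
 (.node (nat_lit 0x40503070806020100) (.leaf (nat_lit 0x40503070806010002) (nat_lit 1286))
 (.leaf (nat_lit 0x40503070806020100) (nat_lit 1030))
)))) (.node (nat_lit 0x40503080706020001) (.node (nat_lit 0x40503080607020100) (.node (nat_lit 0x40503080607010002) (.leaf (nat_lit 0x40503080607000201) (nat_lit 1542))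
 (.leaf (nat_lit 0x40503080607010002) (nat_lit 1542))
) (.node (nat_lit 0x40503080706000102) (.leaf (nat_lit 0x40503080607020100) (nat_lit 1286))
 (.node (nat_lit 0x40503080706010200) (.leaf (nat_lit 0x40503080706000102) (nat_lit 1033))
 (.leaf (nat_lit 0x40503080706010200) (nat_lit 777))
))) (.node (nat_lit 0x50304000102070608) (.node (nat_lit 0x50304000102060807) (.leaf (nat_lit 0x40503080706020001) (nat_lit 1033))
 (.leaf (nat_lit 0x50304000102060807) (nat_lit 1289))
) (.node (nat_lit 0x50304000102080706) (.leaf (nat_lit 0x50304000102070608) (nat_lit 1289))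
 (.node (nat_lit 0x50304000201060708) (.leaf (nat_lit 0x50304000102080706) (nat_lit 1033))
 (.leaf (nat_lit 0x50304000201060708) (nat_lit 1542))
)))))) (.node (nat_lit 0x50304070608000102) (.node (nat_lit 0x50304020001080706) (.node (nat_lit 0x50304010200060807) (.node (nat_lit 0x50304010002060708) (.node (nat_lit 0x50304000201080607) (.leaf (nat_lit 0x50304000201070806) (nat_lit 1286))
 (.leaf (nat_lit 0x50304000201080607) (nat_lit 1542))
) (.node (nat_lit 0x50304010002070806) (.leaf (nat_lit 0x50304010002060708) (nat_lit 1542))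
 (.node (nat_lit 0x50304010002080607) (.leaf (nat_lit 0x50304010002070806) (nat_lit 1286))
 (.leaf (nat_lit 0x50304010002080607) (nat_lit 1542))
))) (.node (nat_lit 0x50304010200080706) (.node (nat_lit 0x50304010200070608) (.leaf (nat_lit 0x50304010200060807) (nat_lit 1033))
 (.leaf (nat_lit 0x50304010200070608) (nat_lit 1033))
) (.node (nat_lit 0x50304020001060807) (.leaf (nat_lit 0x50304010200080706) (nat_lit 777))
 (.node (nat_lit 0x50304020001070608) (.leaf (nat_lit 0x50304020001060807) (nat_lit 1289))
 (.leaf (nat_lit 0x50304020001070608) (nat_lit 1289))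
)))) (.node (nat_lit 0x50304060708010002) (.node (nat_lit 0x50304020100070806) (.node (nat_lit 0x50304020100060708) (.leaf (nat_lit 0x50304020001080706) (nat_lit 1033))
 (.leaf (nat_lit 0x50304020100060708) (nat_lit 1286))
) (.node (nat_lit 0x50304020100080607) (.leaf (nat_lit 0x50304020100070806) (nat_lit 1030))
 (.node (nat_lit 0x50304060708000201) (.leaf (nat_lit 0x50304020100080607) (nat_lit 1286))
 (.leaf (nat_lit 0x50304060708000201) (nat_lit 1798))
))) (.node (nat_lit 0x50304060807000102) (.node (nat_lit 0x50304060708020100) (.leaf (nat_lit 0x50304060708010002) (nat_lit 1798))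
 (.leaf (nat_lit 0x50304060708020100) (nat_lit 1542))
) (.node (nat_lit 0x50304060807010200) (.leaf (nat_lit 0x50304060807000102) (nat_lit 1545))
 (.node (nat_lit 0x50304060807020001) (.leaf (nat_lit 0x50304060807010200) (nat_lit 1289))
 (.leaf (nat_lit 0x50304060807020001) (nat_lit 1545))
))))) (.node (nat_lit 0x50304080706010200) (.node (nat_lit 0x50304070806020100) (.node (nat_lit 0x50304070608020001) (.node (nat_lit 0x50304070608010200) (.leaf (nat_lit 0x50304070608000102) (nat_lit 1545))
 (.leaf (nat_lit 0x50304070608010200) (nat_lit 1289))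
) (.node (nat_lit 0x50304070806000201) (.leaf (nat_lit 0x50304070608020001) (nat_lit 1545))
 (.node (nat_lit 0x50304070806010002) (.leaf (nat_lit 0x50304070806000201) (nat_lit 1542))
 (.leaf (nat_lit 0x50304070806010002) (nat_lit 1542))
))) (.node (nat_lit 0x50304080607010002) (.node (nat_lit 0x50304080607000201) (.leaf (nat_lit 0x50304070806020100) (nat_lit 1286))
 (.leaf (nat_lit 0x50304080607000201) (nat_lit 1798))
) (.node (nat_lit 0x50304080607020100) (.leaf (nat_lit 0x50304080607010002) (nat_lit 1798))
 (.node (nat_lit 0x50304080706000102) (.leaf (nat_lit 0x50304080607020100) (nat_lit 1542))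
 (.leaf (nat_lit 0x50304080706000102) (nat_lit 1289))
)))) (.node (nat_lit 0x50403000201060807) (.node (nat_lit 0x50403000102060708) (.node (nat_lit 0x50304080706020001) (.leaf (nat_lit 0x50304080706010200) (nat_lit 1033))
 (.leaf (nat_lit 0x50304080706020001) (nat_lit 1289))
) (.node (nat_lit 0x50403000102070806) (.leaf (nat_lit 0x50403000102060708) (nat_lit 1031))
 (.node (nat_lit 0x50403000102080607) (.leaf (nat_lit 0x50403000102070806) (nat_lit 775))
 (.leaf (nat_lit 0x50403000102080607) (nat_lit 1031))
))) (.node (nat_lit 0x50403010002060807) (.node (nat_lit 0x50403000201070608) (.leaf (nat_lit 0x50403000201060807) (nat_lit 775))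
 (.node (nat_lit 0x50403000201080706) (.leaf (nat_lit 0x50403000201070608) (nat_lit 775))
 (.leaf (nat_lit 0x50403000201080706) (nat_lit 519))
)) (.node (nat_lit 0x50403010002070608) (.leaf (nat_lit 0x50403010002060807) (nat_lit 775))
 (.node (nat_lit 0x50403010002080706) (.leaf (nat_lit 0x50403010002070608) (nat_lit 775))
 (.leaf (nat_lit 0x50403010002080706) (nat_lit 519))
))))))) (.node (nat_lit 0x60708020001040305) (.node (nat_lit 0x50403070806020001) (.node (nat_lit 0x50403060708010200) (.node (nat_lit 0x50403020001080607) (.node (nat_lit 0x50403010200080607) (.node (nat_lit 0x50403010200070806) (.leaf (nat_lit 0x50403010200060708) (nat_lit 775))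
 (.leaf (nat_lit 0x50403010200070806) (nat_lit 519))
) (.node (nat_lit 0x50403020001060708) (.leaf (nat_lit 0x50403010200080607) (nat_lit 775))
 (.node (nat_lit 0x50403020001070806) (.leaf (nat_lit 0x50403020001060708) (nat_lit 1031))
 (.leaf (nat_lit 0x50403020001070806) (nat_lit 775))
))) (.node (nat_lit 0x50403020100070608) (.node (nat_lit 0x50403020100060807) (.leaf (nat_lit 0x50403020001080607) (nat_lit 1031))
 (.leaf (nat_lit 0x50403020100060807) (nat_lit 519))
) (.node (nat_lit 0x50403020100080706) (.leaf (nat_lit 0x50403020100070608) (nat_lit 519))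
 (.node (nat_lit 0x50403060708000102) (.leaf (nat_lit 0x50403020100080706) (nat_lit 263))
 (.leaf (nat_lit 0x50403060708000102) (nat_lit 1287))
)))) (.node (nat_lit 0x50403070608000201) (.node (nat_lit 0x50403060807000201) (.node (nat_lit 0x50403060708020001) (.leaf (nat_lit 0x50403060708010200) (nat_lit 1031))
 (.leaf (nat_lit 0x50403060708020001) (nat_lit 1287))
) (.node (nat_lit 0x50403060807010002) (.leaf (nat_lit 0x50403060807000201) (nat_lit 1032))
 (.node (nat_lit 0x50403060807020100) (.leaf (nat_lit 0x50403060807010002) (nat_lit 1032))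
 (.leaf (nat_lit 0x50403060807020100) (nat_lit 776))
))) (.node (nat_lit 0x50403070608020100) (.node (nat_lit 0x50403070608010002) (.leaf (nat_lit 0x50403070608000201) (nat_lit 1032))
 (.leaf (nat_lit 0x50403070608010002) (nat_lit 1032))
) (.node (nat_lit 0x50403070806000102) (.leaf (nat_lit 0x50403070608020100) (nat_lit 776))
 (.node (nat_lit 0x50403070806010200) (.leaf (nat_lit 0x50403070806000102) (nat_lit 1031))
 (.leaf (nat_lit 0x50403070806010200) (nat_lit 775))
))))) (.node (nat_lit 0x60708000201030405) (.node (nat_lit 0x50403080706010002) (.node (nat_lit 0x50403080607010200) (.node (nat_lit 0x50403080607000102) (.leaf (nat_lit 0x50403070806020001) (nat_lit 1031))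
 (.leaf (nat_lit 0x50403080607000102) (nat_lit 1287))
) (.node (nat_lit 0x50403080607020001) (.leaf (nat_lit 0x50403080607010200) (nat_lit 1031))
 (.node (nat_lit 0x50403080706000201) (.leaf (nat_lit 0x50403080607020001) (nat_lit 1287))
 (.leaf (nat_lit 0x50403080706000201) (nat_lit 776))
))) (.node (nat_lit 0x60708000102030504) (.node (nat_lit 0x50403080706020100) (.leaf (nat_lit 0x50403080706010002) (nat_lit 776))
 (.leaf (nat_lit 0x50403080706020100) (nat_lit 520))
) (.node (nat_lit 0x60708000102040305) (.leaf (nat_lit 0x60708000102030504) (nat_lit 1799))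
 (.node (nat_lit 0x60708000102050403) (.leaf (nat_lit 0x60708000102040305) (nat_lit 1799))
 (.leaf (nat_lit 0x60708000102050403) (nat_lit 1543))
)))) (.node (nat_lit 0x60708010002050304) (.node (nat_lit 0x60708000201050304) (.node (nat_lit 0x60708000201040503) (.leaf (nat_lit 0x60708000201030405) (nat_lit 1798))
 (.leaf (nat_lit 0x60708000201040503) (nat_lit 1542))
) (.node (nat_lit 0x60708010002030405) (.leaf (nat_lit 0x60708000201050304) (nat_lit 1798))
 (.node (nat_lit 0x60708010002040503) (.leaf (nat_lit 0x60708010002030405) (nat_lit 1798))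
 (.leaf (nat_lit 0x60708010002040503) (nat_lit 1542))
))) (.node (nat_lit 0x60708010200040305) (.node (nat_lit 0x60708010200030504) (.leaf (nat_lit 0x60708010002050304) (nat_lit 1798))
 (.leaf (nat_lit 0x60708010200030504) (nat_lit 1543))
) (.node (nat_lit 0x60708010200050403) (.leaf (nat_lit 0x60708010200040305) (nat_lit 1543))
 (.node (nat_lit 0x60708020001030504) (.leaf (nat_lit 0x60708010200050403) (nat_lit 1287))
 (.leaf (nat_lit 0x60708020001030504) (nat_lit 1799))
)))))) (.node (nat_lit 0x60708050403000102) (.node (nat_lit 0x60708030504020001) (.node (nat_lit 0x60708030405000201) (.node (nat_lit 0x60708020100030405) (.node (nat_lit 0x60708020001050403) (.leaf (nat_lit 0x60708020001040305) (nat_lit 1799))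
 (.leaf (nat_lit 0x60708020001050403) (nat_lit 1543))
) (.node (nat_lit 0x60708020100040503) (.leaf (nat_lit 0x60708020100030405) (nat_lit 1542))
 (.node (nat_lit 0x60708020100050304) (.leaf (nat_lit 0x60708020100040503) (nat_lit 1286))
 (.leaf (nat_lit 0x60708020100050304) (nat_lit 1542))
))) (.node (nat_lit 0x60708030405020100) (.node (nat_lit 0x60708030405010002) (.leaf (nat_lit 0x60708030405000201) (nat_lit 1542))
 (.leaf (nat_lit 0x60708030405010002) (nat_lit 1542))
) (.node (nat_lit 0x60708030504000102) (.leaf (nat_lit 0x60708030405020100) (nat_lit 1286))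
 (.node (nat_lit 0x60708030504010200) (.leaf (nat_lit 0x60708030504000102) (nat_lit 1543))
 (.leaf (nat_lit 0x60708030504010200) (nat_lit 1287))
)))) (.node (nat_lit 0x60708040503010002) (.node (nat_lit 0x60708040305010200) (.node (nat_lit 0x60708040305000102) (.leaf (nat_lit 0x60708030504020001) (nat_lit 1543))
 (.leaf (nat_lit 0x60708040305000102) (nat_lit 1543))
) (.node (nat_lit 0x60708040305020001) (.leaf (nat_lit 0x60708040305010200) (nat_lit 1287))
 (.node (nat_lit 0x60708040503000201) (.leaf (nat_lit 0x60708040305020001) (nat_lit 1543))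
 (.leaf (nat_lit 0x60708040503000201) (nat_lit 1286))
))) (.node (nat_lit 0x60708050304000201) (.node (nat_lit 0x60708040503020100) (.leaf (nat_lit 0x60708040503010002) (nat_lit 1286))
 (.leaf (nat_lit 0x60708040503020100) (nat_lit 1030))
) (.node (nat_lit 0x60708050304010002) (.leaf (nat_lit 0x60708050304000201) (nat_lit 1542))
 (.node (nat_lit 0x60708050304020100) (.leaf (nat_lit 0x60708050304010002) (nat_lit 1542))
 (.leaf (nat_lit 0x60708050304020100) (nat_lit 1286))
))))) (.node (nat_lit 0x60807010002040305) (.node (nat_lit 0x60807000102050304) (.node (nat_lit 0x60708050403020001) (.node (nat_lit 0x60708050403010200) (.leaf (nat_lit 0x60708050403000102) (nat_lit 1287))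
 (.leaf (nat_lit 0x60708050403010200) (nat_lit 1031))
) (.node (nat_lit 0x60807000102030405) (.leaf (nat_lit 0x60708050403020001) (nat_lit 1287))
 (.node (nat_lit 0x60807000102040503) (.leaf (nat_lit 0x60807000102030405) (nat_lit 1289))
 (.leaf (nat_lit 0x60807000102040503) (nat_lit 1033))
))) (.node (nat_lit 0x60807000201040305) (.node (nat_lit 0x60807000201030504) (.leaf (nat_lit 0x60807000102050304) (nat_lit 1289))
 (.leaf (nat_lit 0x60807000201030504) (nat_lit 1032))
) (.node (nat_lit 0x60807000201050403) (.leaf (nat_lit 0x60807000201040305) (nat_lit 1032))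
 (.node (nat_lit 0x60807010002030504) (.leaf (nat_lit 0x60807000201050403) (nat_lit 776))
 (.leaf (nat_lit 0x60807010002030504) (nat_lit 1032))
)))) (.node (nat_lit 0x60807020001030405) (.node (nat_lit 0x60807010200030405) (.node (nat_lit 0x60807010002050403) (.leaf (nat_lit 0x60807010002040305) (nat_lit 1032))
 (.leaf (nat_lit 0x60807010002050403) (nat_lit 776))
) (.node (nat_lit 0x60807010200040503) (.leaf (nat_lit 0x60807010200030405) (nat_lit 1033))
 (.node (nat_lit 0x60807010200050304) (.leaf (nat_lit 0x60807010200040503) (nat_lit 777))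
 (.leaf (nat_lit 0x60807010200050304) (nat_lit 1033))
))) (.node (nat_lit 0x60807020100030504) (.node (nat_lit 0x60807020001040503) (.leaf (nat_lit 0x60807020001030405) (nat_lit 1289))
 (.node (nat_lit 0x60807020001050304) (.leaf (nat_lit 0x60807020001040503) (nat_lit 1033))
 (.leaf (nat_lit 0x60807020001050304) (nat_lit 1289))
)) (.node (nat_lit 0x60807020100040305) (.leaf (nat_lit 0x60807020100030504) (nat_lit 776))
 (.node (nat_lit 0x60807020100050403) (.leaf (nat_lit 0x60807020100040305) (nat_lit 776))
 (.leaf (nat_lit 0x60807020100050403) (nat_lit 520))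
)))))))) (.node (nat_lit 0x70806040503000201) (.node (nat_lit 0x70608030504010002) (.node (nat_lit 0x70608000102050304) (.node (nat_lit 0x60807040503010200) (.node (nat_lit 0x60807030504020100) (.node (nat_lit 0x60807030405020001) (.node (nat_lit 0x60807030405010200) (.leaf (nat_lit 0x60807030405000102) (nat_lit 1033))
 (.leaf (nat_lit 0x60807030405010200) (nat_lit 777))
) (.node (nat_lit 0x60807030504000201) (.leaf (nat_lit 0x60807030405020001) (nat_lit 1033))
 (.node (nat_lit 0x60807030504010002) (.leaf (nat_lit 0x60807030504000201) (nat_lit 772))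
 (.leaf (nat_lit 0x60807030504010002) (nat_lit 772))
))) (.node (nat_lit 0x60807040305010002) (.node (nat_lit 0x60807040305000201) (.leaf (nat_lit 0x60807030504020100) (nat_lit 516))
 (.leaf (nat_lit 0x60807040305000201) (nat_lit 772))
) (.node (nat_lit 0x60807040305020100) (.leaf (nat_lit 0x60807040305010002) (nat_lit 772))
 (.node (nat_lit 0x60807040503000102) (.leaf (nat_lit 0x60807040305020100) (nat_lit 516))
 (.leaf (nat_lit 0x60807040503000102) (nat_lit 777))
)))) (.node (nat_lit 0x60807050403000201) (.node (nat_lit 0x60807050304000102) (.node (nat_lit 0x60807040503020001) (.leaf (nat_lit 0x60807040503010200) (nat_lit 521))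
 (.leaf (nat_lit 0x60807040503020001) (nat_lit 777))
) (.node (nat_lit 0x60807050304010200) (.leaf (nat_lit 0x60807050304000102) (nat_lit 1033))
 (.node (nat_lit 0x60807050304020001) (.leaf (nat_lit 0x60807050304010200) (nat_lit 777))
 (.leaf (nat_lit 0x60807050304020001) (nat_lit 1033))
))) (.node (nat_lit 0x60807050403020100) (.node (nat_lit 0x60807050403010002) (.leaf (nat_lit 0x60807050403000201) (nat_lit 516))
 (.leaf (nat_lit 0x60807050403010002) (nat_lit 516))
) (.node (nat_lit 0x70608000102030405) (.leaf (nat_lit 0x60807050403020100) (nat_lit 260))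
 (.node (nat_lit 0x70608000102040503) (.leaf (nat_lit 0x70608000102030405) (nat_lit 1289))
 (.leaf (nat_lit 0x70608000102040503) (nat_lit 1033))
))))) (.node (nat_lit 0x70608020001030405) (.node (nat_lit 0x70608010002040305) (.node (nat_lit 0x70608000201040305) (.node (nat_lit 0x70608000201030504) (.leaf (nat_lit 0x70608000102050304) (nat_lit 1289))
 (.leaf (nat_lit 0x70608000201030504) (nat_lit 1032))
) (.node (nat_lit 0x70608000201050403) (.leaf (nat_lit 0x70608000201040305) (nat_lit 1032))
 (.node (nat_lit 0x70608010002030504) (.leaf (nat_lit 0x70608000201050403) (nat_lit 776))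
 (.leaf (nat_lit 0x70608010002030504) (nat_lit 1032))
))) (.node (nat_lit 0x70608010200030405) (.node (nat_lit 0x70608010002050403) (.leaf (nat_lit 0x70608010002040305) (nat_lit 1032))
 (.leaf (nat_lit 0x70608010002050403) (nat_lit 776))
) (.node (nat_lit 0x70608010200040503) (.leaf (nat_lit 0x70608010200030405) (nat_lit 1033))
 (.node (nat_lit 0x70608010200050304) (.leaf (nat_lit 0x70608010200040503) (nat_lit 777))
 (.leaf (nat_lit 0x70608010200050304) (nat_lit 1033))
)))) (.node (nat_lit 0x70608020100050403) (.node (nat_lit 0x70608020001050304) (.node (nat_lit 0x70608020001040503) (.leaf (nat_lit 0x70608020001030405) (nat_lit 1289))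
 (.leaf (nat_lit 0x70608020001040503) (nat_lit 1033))
) (.node (nat_lit 0x70608020100030504) (.leaf (nat_lit 0x70608020001050304) (nat_lit 1289))
 (.node (nat_lit 0x70608020100040305) (.leaf (nat_lit 0x70608020100030504) (nat_lit 776))
 (.leaf (nat_lit 0x70608020100040305) (nat_lit 776))
))) (.node (nat_lit 0x70608030405010200) (.node (nat_lit 0x70608030405000102) (.leaf (nat_lit 0x70608020100050403) (nat_lit 520))
 (.leaf (nat_lit 0x70608030405000102) (nat_lit 1033))
) (.node (nat_lit 0x70608030405020001) (.leaf (nat_lit 0x70608030405010200) (nat_lit 777))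
 (.node (nat_lit 0x70608030504000201) (.leaf (nat_lit 0x70608030405020001) (nat_lit 1033))
 (.leaf (nat_lit 0x70608030504000201) (nat_lit 773))
)))))) (.node (nat_lit 0x70806010002030405) (.node (nat_lit 0x70608050304020001) (.node (nat_lit 0x70608040503000102) (.node (nat_lit 0x70608040305000201) (.node (nat_lit 0x70608030504020100) (.leaf (nat_lit 0x70608030504010002) (nat_lit 773))
 (.leaf (nat_lit 0x70608030504020100) (nat_lit 517))
) (.node (nat_lit 0x70608040305010002) (.leaf (nat_lit 0x70608040305000201) (nat_lit 773))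
 (.node (nat_lit 0x70608040305020100) (.leaf (nat_lit 0x70608040305010002) (nat_lit 773))
 (.leaf (nat_lit 0x70608040305020100) (nat_lit 517))
))) (.node (nat_lit 0x70608040503020001) (.node (nat_lit 0x70608040503010200) (.leaf (nat_lit 0x70608040503000102) (nat_lit 777))
 (.leaf (nat_lit 0x70608040503010200) (nat_lit 521))
) (.node (nat_lit 0x70608050304000102) (.leaf (nat_lit 0x70608040503020001) (nat_lit 777))
 (.node (nat_lit 0x70608050304010200) (.leaf (nat_lit 0x70608050304000102) (nat_lit 1033))
 (.leaf (nat_lit 0x70608050304010200) (nat_lit 777))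
)))) (.node (nat_lit 0x70806000102040305) (.node (nat_lit 0x70608050403010002) (.node (nat_lit 0x70608050403000201) (.leaf (nat_lit 0x70608050304020001) (nat_lit 1033))
 (.leaf (nat_lit 0x70608050403000201) (nat_lit 517))
) (.node (nat_lit 0x70608050403020100) (.leaf (nat_lit 0x70608050403010002) (nat_lit 517))
 (.node (nat_lit 0x70806000102030504) (.leaf (nat_lit 0x70608050403020100) (nat_lit 261))
 (.leaf (nat_lit 0x70806000102030504) (nat_lit 1543))
))) (.node (nat_lit 0x70806000201030405) (.node (nat_lit 0x70806000102050403) (.leaf (nat_lit 0x70806000102040305) (nat_lit 1543))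
 (.leaf (nat_lit 0x70806000102050403) (nat_lit 1287))
) (.node (nat_lit 0x70806000201040503) (.leaf (nat_lit 0x70806000201030405) (nat_lit 1542))
 (.node (nat_lit 0x70806000201050304) (.leaf (nat_lit 0x70806000201040503) (nat_lit 1286))
 (.leaf (nat_lit 0x70806000201050304) (nat_lit 1542))
))))) (.node (nat_lit 0x70806020100040503) (.node (nat_lit 0x70806010200050403) (.node (nat_lit 0x70806010002050304) (.node (nat_lit 0x70806010002040503) (.leaf (nat_lit 0x70806010002030405) (nat_lit 1542))
 (.leaf (nat_lit 0x70806010002040503) (nat_lit 1286))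
) (.node (nat_lit 0x70806010200030504) (.leaf (nat_lit 0x70806010002050304) (nat_lit 1542))
 (.node (nat_lit 0x70806010200040305) (.leaf (nat_lit 0x70806010200030504) (nat_lit 1287))
 (.leaf (nat_lit 0x70806010200040305) (nat_lit 1287))
))) (.node (nat_lit 0x70806020001040305) (.node (nat_lit 0x70806020001030504) (.leaf (nat_lit 0x70806010200050403) (nat_lit 1031))
 (.leaf (nat_lit 0x70806020001030504) (nat_lit 1543))
) (.node (nat_lit 0x70806020001050403) (.leaf (nat_lit 0x70806020001040305) (nat_lit 1543))
 (.node (nat_lit 0x70806020100030405) (.leaf (nat_lit 0x70806020001050403) (nat_lit 1287))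
 (.leaf (nat_lit 0x70806020100030405) (nat_lit 1286))
)))) (.node (nat_lit 0x70806030504000102) (.node (nat_lit 0x70806030405000201) (.node (nat_lit 0x70806020100050304) (.leaf (nat_lit 0x70806020100040503) (nat_lit 1030))
 (.leaf (nat_lit 0x70806020100050304) (nat_lit 1286))
) (.node (nat_lit 0x70806030405010002) (.leaf (nat_lit 0x70806030405000201) (nat_lit 1286))
 (.node (nat_lit 0x70806030405020100) (.leaf (nat_lit 0x70806030405010002) (nat_lit 1286))
 (.leaf (nat_lit 0x70806030405020100) (nat_lit 1030))
))) (.node (nat_lit 0x70806040305000102) (.node (nat_lit 0x70806030504010200) (.leaf (nat_lit 0x70806030504000102) (nat_lit 1287))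
 (.node (nat_lit 0x70806030504020001) (.leaf (nat_lit 0x70806030504010200) (nat_lit 1031))
 (.leaf (nat_lit 0x70806030504020001) (nat_lit 1287))
)) (.node (nat_lit 0x70806040305010200) (.leaf (nat_lit 0x70806040305000102) (nat_lit 1287))
 (.node (nat_lit 0x70806040305020001) (.leaf (nat_lit 0x70806040305010200) (nat_lit 1031))
 (.leaf (nat_lit 0x70806040305020001) (nat_lit 1287))
))))))) (.node (nat_lit 0x80607050304010002) (.node (nat_lit 0x80607010200050403) (.node (nat_lit 0x80607000102040305) (.node (nat_lit 0x70806050304020100) (.node (nat_lit 0x70806040503020100) (.node (nat_lit 0x70806040503010002) (.leaf (nat_lit 0x70806040503000201) (nat_lit 1030))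
 (.leaf (nat_lit 0x70806040503010002) (nat_lit 1030))
) (.node (nat_lit 0x70806050304000201) (.leaf (nat_lit 0x70806040503020100) (nat_lit 774))
 (.node (nat_lit 0x70806050304010002) (.leaf (nat_lit 0x70806050304000201) (nat_lit 1286))
 (.leaf (nat_lit 0x70806050304010002) (nat_lit 1286))
))) (.node (nat_lit 0x70806050403010200) (.node (nat_lit 0x70806050403000102) (.leaf (nat_lit 0x70806050304020100) (nat_lit 1030))
 (.leaf (nat_lit 0x70806050403000102) (nat_lit 1031))
) (.node (nat_lit 0x70806050403020001) (.leaf (nat_lit 0x70806050403010200) (nat_lit 775))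
 (.node (nat_lit 0x80607000102030504) (.leaf (nat_lit 0x70806050403020001) (nat_lit 1031))
 (.leaf (nat_lit 0x80607000102030504) (nat_lit 1799))
)))) (.node (nat_lit 0x80607010002030405) (.node (nat_lit 0x80607000201030405) (.node (nat_lit 0x80607000102050403) (.leaf (nat_lit 0x80607000102040305) (nat_lit 1799))
 (.leaf (nat_lit 0x80607000102050403) (nat_lit 1543))
) (.node (nat_lit 0x80607000201040503) (.leaf (nat_lit 0x80607000201030405) (nat_lit 1798))
 (.node (nat_lit 0x80607000201050304) (.leaf (nat_lit 0x80607000201040503) (nat_lit 1542))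
 (.leaf (nat_lit 0x80607000201050304) (nat_lit 1798))
))) (.node (nat_lit 0x80607010002050304) (.node (nat_lit 0x80607010002040503) (.leaf (nat_lit 0x80607010002030405) (nat_lit 1798))
 (.leaf (nat_lit 0x80607010002040503) (nat_lit 1542))
) (.node (nat_lit 0x80607010200030504) (.leaf (nat_lit 0x80607010002050304) (nat_lit 1798))
 (.node (nat_lit 0x80607010200040305) (.leaf (nat_lit 0x80607010200030504) (nat_lit 1543))
 (.leaf (nat_lit 0x80607010200040305) (nat_lit 1543))
))))) (.node (nat_lit 0x80607030504000102) (.node (nat_lit 0x80607020100040503) (.node (nat_lit 0x80607020001040305) (.node (nat_lit 0x80607020001030504) (.leaf (nat_lit 0x80607010200050403) (nat_lit 1287))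
 (.leaf (nat_lit 0x80607020001030504) (nat_lit 1799))
) (.node (nat_lit 0x80607020001050403) (.leaf (nat_lit 0x80607020001040305) (nat_lit 1799))
 (.node (nat_lit 0x80607020100030405) (.leaf (nat_lit 0x80607020001050403) (nat_lit 1543))
 (.leaf (nat_lit 0x80607020100030405) (nat_lit 1542))
))) (.node (nat_lit 0x80607030405000201) (.node (nat_lit 0x80607020100050304) (.leaf (nat_lit 0x80607020100040503) (nat_lit 1286))
 (.leaf (nat_lit 0x80607020100050304) (nat_lit 1542))
) (.node (nat_lit 0x80607030405010002) (.leaf (nat_lit 0x80607030405000201) (nat_lit 1542))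
 (.node (nat_lit 0x80607030405020100) (.leaf (nat_lit 0x80607030405010002) (nat_lit 1542))
 (.leaf (nat_lit 0x80607030405020100) (nat_lit 1286))
)))) (.node (nat_lit 0x80607040305020001) (.node (nat_lit 0x80607030504020001) (.node (nat_lit 0x80607030504010200) (.leaf (nat_lit 0x80607030504000102) (nat_lit 1543))
 (.leaf (nat_lit 0x80607030504010200) (nat_lit 1287))
) (.node (nat_lit 0x80607040305000102) (.leaf (nat_lit 0x80607030504020001) (nat_lit 1543))
 (.node (nat_lit 0x80607040305010200) (.leaf (nat_lit 0x80607040305000102) (nat_lit 1543))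
 (.leaf (nat_lit 0x80607040305010200) (nat_lit 1287))
))) (.node (nat_lit 0x80607040503010002) (.node (nat_lit 0x80607040503000201) (.leaf (nat_lit 0x80607040305020001) (nat_lit 1543))
 (.leaf (nat_lit 0x80607040503000201) (nat_lit 1286))
) (.node (nat_lit 0x80607040503020100) (.leaf (nat_lit 0x80607040503010002) (nat_lit 1286))
 (.node (nat_lit 0x80607050304000201) (.leaf (nat_lit 0x80607040503020100) (nat_lit 1030))
 (.leaf (nat_lit 0x80607050304000201) (nat_lit 1542))
)))))) (.node (nat_lit 0x80706020100030504) (.node (nat_lit 0x80706000201050403) (.node (nat_lit 0x80706000102030405) (.node (nat_lit 0x80607050403000102) (.node (nat_lit 0x80607050304020100) (.leaf (nat_lit 0x80607050304010002) (nat_lit 1542))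
 (.leaf (nat_lit 0x80607050304020100) (nat_lit 1286))
) (.node (nat_lit 0x80607050403010200) (.leaf (nat_lit 0x80607050403000102) (nat_lit 1287))
 (.node (nat_lit 0x80607050403020001) (.leaf (nat_lit 0x80607050403010200) (nat_lit 1031))
 (.leaf (nat_lit 0x80607050403020001) (nat_lit 1287))
))) (.node (nat_lit 0x80706000102050304) (.node (nat_lit 0x80706000102040503) (.leaf (nat_lit 0x80706000102030405) (nat_lit 1033))
 (.leaf (nat_lit 0x80706000102040503) (nat_lit 777))
) (.node (nat_lit 0x80706000201030504) (.leaf (nat_lit 0x80706000102050304) (nat_lit 1033))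
 (.node (nat_lit 0x80706000201040305) (.leaf (nat_lit 0x80706000201030504) (nat_lit 776))
 (.leaf (nat_lit 0x80706000201040305) (nat_lit 776))
)))) (.node (nat_lit 0x80706010200040503) (.node (nat_lit 0x80706010002040305) (.node (nat_lit 0x80706010002030504) (.leaf (nat_lit 0x80706000201050403) (nat_lit 520))
 (.leaf (nat_lit 0x80706010002030504) (nat_lit 776))
) (.node (nat_lit 0x80706010002050403) (.leaf (nat_lit 0x80706010002040305) (nat_lit 776))
 (.node (nat_lit 0x80706010200030405) (.leaf (nat_lit 0x80706010002050403) (nat_lit 520))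
 (.leaf (nat_lit 0x80706010200030405) (nat_lit 777))
))) (.node (nat_lit 0x80706020001030405) (.node (nat_lit 0x80706010200050304) (.leaf (nat_lit 0x80706010200040503) (nat_lit 521))
 (.leaf (nat_lit 0x80706010200050304) (nat_lit 777))
) (.node (nat_lit 0x80706020001040503) (.leaf (nat_lit 0x80706020001030405) (nat_lit 1033))
 (.node (nat_lit 0x80706020001050304) (.leaf (nat_lit 0x80706020001040503) (nat_lit 777))
 (.leaf (nat_lit 0x80706020001050304) (nat_lit 1033))
))))) (.node (nat_lit 0x80706040305010002) (.node (nat_lit 0x80706030405020001) (.node (nat_lit 0x80706020100050403) (.node (nat_lit 0x80706020100040305) (.leaf (nat_lit 0x80706020100030504) (nat_lit 520))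
 (.leaf (nat_lit 0x80706020100040305) (nat_lit 520))
) (.node (nat_lit 0x80706030405000102) (.leaf (nat_lit 0x80706020100050403) (nat_lit 264))
 (.node (nat_lit 0x80706030405010200) (.leaf (nat_lit 0x80706030405000102) (nat_lit 777))
 (.leaf (nat_lit 0x80706030405010200) (nat_lit 521))
))) (.node (nat_lit 0x80706030504010002) (.node (nat_lit 0x80706030504000201) (.leaf (nat_lit 0x80706030405020001) (nat_lit 777))
 (.leaf (nat_lit 0x80706030504000201) (nat_lit 514))
) (.node (nat_lit 0x80706030504020100) (.leaf (nat_lit 0x80706030504010002) (nat_lit 514))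
 (.node (nat_lit 0x80706040305000201) (.leaf (nat_lit 0x80706030504020100) (nat_lit 258))
 (.leaf (nat_lit 0x80706040305000201) (nat_lit 515))
)))) (.node (nat_lit 0x80706050304000102) (.node (nat_lit 0x80706040503000102) (.node (nat_lit 0x80706040305020100) (.leaf (nat_lit 0x80706040305010002) (nat_lit 515))
 (.leaf (nat_lit 0x80706040305020100) (nat_lit 259))
) (.node (nat_lit 0x80706040503010200) (.leaf (nat_lit 0x80706040503000102) (nat_lit 521))
 (.node (nat_lit 0x80706040503020001) (.leaf (nat_lit 0x80706040503010200) (nat_lit 265))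
 (.leaf (nat_lit 0x80706040503020001) (nat_lit 521))
))) (.node (nat_lit 0x80706050403000201) (.node (nat_lit 0x80706050304010200) (.leaf (nat_lit 0x80706050304000102) (nat_lit 777))
 (.node (nat_lit 0x80706050304020001) (.leaf (nat_lit 0x80706050304010200) (nat_lit 521))
 (.leaf (nat_lit 0x80706050304020001) (nat_lit 777))
)) (.node (nat_lit 0x80706050403010002) (.leaf (nat_lit 0x80706050403000201) (nat_lit 256))
 (.node (nat_lit 0x80706050403020100) (.leaf (nat_lit 0x80706050403010002) (nat_lit 257))
 (.leaf (nat_lit 0x80706050403020100) (nat_lit 0))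
))))))))))

theorem gE_ok : genOK A9 [(nat_lit 0x80706050403000201), (nat_lit 0x80706050403010002), (nat_lit 0x80706030504020100), (nat_lit 0x80706040305020100), (nat_lit 0x60807050403020100), (nat_lit 0x70608050403020100), (nat_lit 0x20100080706050403), (nat_lit 0x50403020100080706), (nat_lit 0x80706020100050403), (nat_lit 0x80706040503010200)] gE_t (nat_lit 648) = true := by decide +kernel

noncomputable def gD_t : ST :=
(.node (nat_lit 0x40503000102060708) (.node (nat_lit 0x20001060708030405) (.node (nat_lit 0x10002040503060708) (.node (nat_lit 0x201030504070806) (.node (nat_lit 0x102060708050304) (.node (nat_lit 0x102040503070608) (.node (nat_lit 0x102030504080607) (.node (nat_lit 0x102030405080706) (.node (nat_lit 0x102030405070608) (.node (nat_lit 0x102030405060807) (.leaf (nat_lit 0x102030405060708) (nat_lit 2313))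
 (.leaf (nat_lit 0x102030405060807) (nat_lit 2055))
) (.node (nat_lit 0x102030405070806) (.leaf (nat_lit 0x102030405070608) (nat_lit 2055))
 (.node (nat_lit 0x102030405080607) (.leaf (nat_lit 0x102030405070806) (nat_lit 2057))
 (.leaf (nat_lit 0x102030405080607) (nat_lit 2313))
))) (.node (nat_lit 0x102030504060807) (.node (nat_lit 0x102030504060708) (.leaf (nat_lit 0x102030405080706) (nat_lit 1799))
 (.leaf (nat_lit 0x102030504060708) (nat_lit 1801))
) (.node (nat_lit 0x102030504070608) (.leaf (nat_lit 0x102030504060807) (nat_lit 1542))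
 (.node (nat_lit 0x102030504070806) (.leaf (nat_lit 0x102030504070608) (nat_lit 1542))
 (.leaf (nat_lit 0x102030504070806) (nat_lit 1545))
)))) (.node (nat_lit 0x102040305070806) (.node (nat_lit 0x102040305060708) (.node (nat_lit 0x102030504080706) (.leaf (nat_lit 0x102030504080607) (nat_lit 1801))
 (.leaf (nat_lit 0x102030504080706) (nat_lit 1286))
) (.node (nat_lit 0x102040305060807) (.leaf (nat_lit 0x102040305060708) (nat_lit 1801))
 (.node (nat_lit 0x102040305070608) (.leaf (nat_lit 0x102040305060807) (nat_lit 1542))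
 (.leaf (nat_lit 0x102040305070608) (nat_lit 1542))
))) (.node (nat_lit 0x102040305080706) (.node (nat_lit 0x102040305080607) (.leaf (nat_lit 0x102040305070806) (nat_lit 1545))
 (.leaf (nat_lit 0x102040305080607) (nat_lit 1801))
) (.node (nat_lit 0x102040503060708) (.leaf (nat_lit 0x102040305080706) (nat_lit 1286))
 (.node (nat_lit 0x102040503060807) (.leaf (nat_lit 0x102040503060708) (nat_lit 2057))
 (.leaf (nat_lit 0x102040503060807) (nat_lit 1799))
))))) (.node (nat_lit 0x102050403060708) (.node (nat_lit 0x102050304060807) (.node (nat_lit 0x102040503080607) (.node (nat_lit 0x102040503070806) (.leaf (nat_lit 0x102040503070608) (nat_lit 1799))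
 (.leaf (nat_lit 0x102040503070806) (nat_lit 1801))
) (.node (nat_lit 0x102040503080706) (.leaf (nat_lit 0x102040503080607) (nat_lit 2057))
 (.node (nat_lit 0x102050304060708) (.leaf (nat_lit 0x102040503080706) (nat_lit 1543))
 (.leaf (nat_lit 0x102050304060708) (nat_lit 2313))
))) (.node (nat_lit 0x102050304070806) (.node (nat_lit 0x102050304070608) (.leaf (nat_lit 0x102050304060807) (nat_lit 2055))
 (.leaf (nat_lit 0x102050304070608) (nat_lit 2055))
) (.node (nat_lit 0x102050304080607) (.leaf (nat_lit 0x102050304070806) (nat_lit 2057))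
 (.node (nat_lit 0x102050304080706) (.leaf (nat_lit 0x102050304080607) (nat_lit 2313))
 (.leaf (nat_lit 0x102050304080706) (nat_lit 1799))
)))) (.node (nat_lit 0x102050403080706) (.node (nat_lit 0x102050403070608) (.node (nat_lit 0x102050403060807) (.leaf (nat_lit 0x102050403060708) (nat_lit 1545))
 (.leaf (nat_lit 0x102050403060807) (nat_lit 1286))
) (.node (nat_lit 0x102050403070806) (.leaf (nat_lit 0x102050403070608) (nat_lit 1286))
 (.node (nat_lit 0x102050403080607) (.leaf (nat_lit 0x102050403070806) (nat_lit 1289))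
 (.leaf (nat_lit 0x102050403080607) (nat_lit 1545))
))) (.node (nat_lit 0x102060708030504) (.node (nat_lit 0x102060708030405) (.leaf (nat_lit 0x102050403080706) (nat_lit 1030))
 (.leaf (nat_lit 0x102060708030405) (nat_lit 2057))
) (.node (nat_lit 0x102060708040305) (.leaf (nat_lit 0x102060708030504) (nat_lit 1545))
 (.node (nat_lit 0x102060708040503) (.leaf (nat_lit 0x102060708040305) (nat_lit 1545))
 (.leaf (nat_lit 0x102060708040503) (nat_lit 1801))
)))))) (.node (nat_lit 0x102080607030405) (.node (nat_lit 0x102070608040305) (.node (nat_lit 0x102060807040503) (.node (nat_lit 0x102060807030405) (.node (nat_lit 0x102060708050403) (.leaf (nat_lit 0x102060708050304) (nat_lit 2057))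
 (.leaf (nat_lit 0x102060708050403) (nat_lit 1289))
) (.node (nat_lit 0x102060807030504) (.leaf (nat_lit 0x102060807030405) (nat_lit 1799))
 (.node (nat_lit 0x102060807040305) (.leaf (nat_lit 0x102060807030504) (nat_lit 1286))
 (.leaf (nat_lit 0x102060807040305) (nat_lit 1286))
))) (.node (nat_lit 0x102060807050403) (.node (nat_lit 0x102060807050304) (.leaf (nat_lit 0x102060807040503) (nat_lit 1543))
 (.leaf (nat_lit 0x102060807050304) (nat_lit 1799))
) (.node (nat_lit 0x102070608030405) (.leaf (nat_lit 0x102060807050403) (nat_lit 1030))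
 (.node (nat_lit 0x102070608030504) (.leaf (nat_lit 0x102070608030405) (nat_lit 1799))
 (.leaf (nat_lit 0x102070608030504) (nat_lit 1286))
)))) (.node (nat_lit 0x102070806030504) (.node (nat_lit 0x102070608050304) (.node (nat_lit 0x102070608040503) (.leaf (nat_lit 0x102070608040305) (nat_lit 1286))
 (.leaf (nat_lit 0x102070608040503) (nat_lit 1543))
) (.node (nat_lit 0x102070608050403) (.leaf (nat_lit 0x102070608050304) (nat_lit 1799))
 (.node (nat_lit 0x102070806030405) (.leaf (nat_lit 0x102070608050403) (nat_lit 1030))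
 (.leaf (nat_lit 0x102070806030405) (nat_lit 1801))
))) (.node (nat_lit 0x102070806040503) (.node (nat_lit 0x102070806040305) (.leaf (nat_lit 0x102070806030504) (nat_lit 1289))
 (.leaf (nat_lit 0x102070806040305) (nat_lit 1289))
) (.node (nat_lit 0x102070806050304) (.leaf (nat_lit 0x102070806040503) (nat_lit 1545))
 (.node (nat_lit 0x102070806050403) (.leaf (nat_lit 0x102070806050304) (nat_lit 1801))
 (.leaf (nat_lit 0x102070806050403) (nat_lit 1033))
))))) (.node (nat_lit 0x102080706050304) (.node (nat_lit 0x102080607050403) (.node (nat_lit 0x102080607040305) (.node (nat_lit 0x102080607030504) (.leaf (nat_lit 0x102080607030405) (nat_lit 2057))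
 (.leaf (nat_lit 0x102080607030504) (nat_lit 1545))
) (.node (nat_lit 0x102080607040503) (.leaf (nat_lit 0x102080607040305) (nat_lit 1545))
 (.node (nat_lit 0x102080607050304) (.leaf (nat_lit 0x102080607040503) (nat_lit 1801))
 (.leaf (nat_lit 0x102080607050304) (nat_lit 2057))
))) (.node (nat_lit 0x102080706030504) (.node (nat_lit 0x102080706030405) (.leaf (nat_lit 0x102080607050403) (nat_lit 1289))
 (.leaf (nat_lit 0x102080706030405) (nat_lit 1543))
) (.node (nat_lit 0x102080706040305) (.leaf (nat_lit 0x102080706030504) (nat_lit 1030))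
 (.node (nat_lit 0x102080706040503) (.leaf (nat_lit 0x102080706040305) (nat_lit 1030))
 (.leaf (nat_lit 0x102080706040503) (nat_lit 1287))
)))) (.node (nat_lit 0x201030405070806) (.node (nat_lit 0x201030405060708) (.node (nat_lit 0x102080706050403) (.leaf (nat_lit 0x102080706050304) (nat_lit 1543))
 (.leaf (nat_lit 0x102080706050403) (nat_lit 774))
) (.node (nat_lit 0x201030405060807) (.leaf (nat_lit 0x201030405060708) (nat_lit 2057))
 (.node (nat_lit 0x201030405070608) (.leaf (nat_lit 0x201030405060807) (nat_lit 1799))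
 (.leaf (nat_lit 0x201030405070608) (nat_lit 1799))
))) (.node (nat_lit 0x201030504060708) (.node (nat_lit 0x201030405080607) (.leaf (nat_lit 0x201030405070806) (nat_lit 1801))
 (.node (nat_lit 0x201030405080706) (.leaf (nat_lit 0x201030405080607) (nat_lit 2057))
 (.leaf (nat_lit 0x201030405080706) (nat_lit 1543))
)) (.node (nat_lit 0x201030504060807) (.leaf (nat_lit 0x201030504060708) (nat_lit 1545))
 (.node (nat_lit 0x201030504070608) (.leaf (nat_lit 0x201030504060807) (nat_lit 1288))
 (.leaf (nat_lit 0x201030504070608) (nat_lit 1288))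
))))))) (.node (nat_lit 0x201070608030504) (.node (nat_lit 0x201050304080706) (.node (nat_lit 0x201040503060807) (.node (nat_lit 0x201040305070608) (.node (nat_lit 0x201030504080706) (.node (nat_lit 0x201030504080607) (.leaf (nat_lit 0x201030504070806) (nat_lit 1289))
 (.leaf (nat_lit 0x201030504080607) (nat_lit 1545))
) (.node (nat_lit 0x201040305060708) (.leaf (nat_lit 0x201030504080706) (nat_lit 1032))
 (.node (nat_lit 0x201040305060807) (.leaf (nat_lit 0x201040305060708) (nat_lit 1545))
 (.leaf (nat_lit 0x201040305060807) (nat_lit 1288))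
))) (.node (nat_lit 0x201040305080607) (.node (nat_lit 0x201040305070806) (.leaf (nat_lit 0x201040305070608) (nat_lit 1288))
 (.leaf (nat_lit 0x201040305070806) (nat_lit 1289))
) (.node (nat_lit 0x201040305080706) (.leaf (nat_lit 0x201040305080607) (nat_lit 1545))
 (.node (nat_lit 0x201040503060708) (.leaf (nat_lit 0x201040305080706) (nat_lit 1032))
 (.leaf (nat_lit 0x201040503060708) (nat_lit 1801))
)))) (.node (nat_lit 0x201050304060708) (.node (nat_lit 0x201040503070806) (.node (nat_lit 0x201040503070608) (.leaf (nat_lit 0x201040503060807) (nat_lit 1543))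
 (.leaf (nat_lit 0x201040503070608) (nat_lit 1543))
) (.node (nat_lit 0x201040503080607) (.leaf (nat_lit 0x201040503070806) (nat_lit 1545))
 (.node (nat_lit 0x201040503080706) (.leaf (nat_lit 0x201040503080607) (nat_lit 1801))
 (.leaf (nat_lit 0x201040503080706) (nat_lit 1287))
))) (.node (nat_lit 0x201050304070608) (.node (nat_lit 0x201050304060807) (.leaf (nat_lit 0x201050304060708) (nat_lit 2057))
 (.leaf (nat_lit 0x201050304060807) (nat_lit 1799))
) (.node (nat_lit 0x201050304070806) (.leaf (nat_lit 0x201050304070608) (nat_lit 1799))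
 (.node (nat_lit 0x201050304080607) (.leaf (nat_lit 0x201050304070806) (nat_lit 1801))
 (.leaf (nat_lit 0x201050304080607) (nat_lit 2057))
))))) (.node (nat_lit 0x201060708040503) (.node (nat_lit 0x201050403080607) (.node (nat_lit 0x201050403060807) (.node (nat_lit 0x201050403060708) (.leaf (nat_lit 0x201050304080706) (nat_lit 1543))
 (.leaf (nat_lit 0x201050403060708) (nat_lit 1289))
) (.node (nat_lit 0x201050403070608) (.leaf (nat_lit 0x201050403060807) (nat_lit 1032))
 (.node (nat_lit 0x201050403070806) (.leaf (nat_lit 0x201050403070608) (nat_lit 1032))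
 (.leaf (nat_lit 0x201050403070806) (nat_lit 1033))
))) (.node (nat_lit 0x201060708030405) (.node (nat_lit 0x201050403080706) (.leaf (nat_lit 0x201050403080607) (nat_lit 1289))
 (.leaf (nat_lit 0x201050403080706) (nat_lit 776))
) (.node (nat_lit 0x201060708030504) (.leaf (nat_lit 0x201060708030405) (nat_lit 1801))
 (.node (nat_lit 0x201060708040305) (.leaf (nat_lit 0x201060708030504) (nat_lit 1289))
 (.leaf (nat_lit 0x201060708040305) (nat_lit 1289))
)))) (.node (nat_lit 0x201060807040305) (.node (nat_lit 0x201060708050403) (.node (nat_lit 0x201060708050304) (.leaf (nat_lit 0x201060708040503) (nat_lit 1545))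
 (.leaf (nat_lit 0x201060708050304) (nat_lit 1801))
) (.node (nat_lit 0x201060807030405) (.leaf (nat_lit 0x201060708050403) (nat_lit 1033))
 (.node (nat_lit 0x201060807030504) (.leaf (nat_lit 0x201060807030405) (nat_lit 1543))
 (.leaf (nat_lit 0x201060807030504) (nat_lit 1030))
))) (.node (nat_lit 0x201060807050304) (.node (nat_lit 0x201060807040503) (.leaf (nat_lit 0x201060807040305) (nat_lit 1030))
 (.leaf (nat_lit 0x201060807040503) (nat_lit 1287))
) (.node (nat_lit 0x201060807050403) (.leaf (nat_lit 0x201060807050304) (nat_lit 1543))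
 (.node (nat_lit 0x201070608030405) (.leaf (nat_lit 0x201060807050403) (nat_lit 774))
 (.leaf (nat_lit 0x201070608030405) (nat_lit 1543))
)))))) (.node (nat_lit 0x201080706040503) (.node (nat_lit 0x201070806050403) (.node (nat_lit 0x201070806030405) (.node (nat_lit 0x201070608040503) (.node (nat_lit 0x201070608040305) (.leaf (nat_lit 0x201070608030504) (nat_lit 1030))
 (.leaf (nat_lit 0x201070608040305) (nat_lit 1030))
) (.node (nat_lit 0x201070608050304) (.leaf (nat_lit 0x201070608040503) (nat_lit 1287))
 (.node (nat_lit 0x201070608050403) (.leaf (nat_lit 0x201070608050304) (nat_lit 1543))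
 (.leaf (nat_lit 0x201070608050403) (nat_lit 774))
))) (.node (nat_lit 0x201070806040305) (.node (nat_lit 0x201070806030504) (.leaf (nat_lit 0x201070806030405) (nat_lit 1545))
 (.leaf (nat_lit 0x201070806030504) (nat_lit 1033))
) (.node (nat_lit 0x201070806040503) (.leaf (nat_lit 0x201070806040305) (nat_lit 1033))
 (.node (nat_lit 0x201070806050304) (.leaf (nat_lit 0x201070806040503) (nat_lit 1289))
 (.leaf (nat_lit 0x201070806050304) (nat_lit 1545))
)))) (.node (nat_lit 0x201080607050304) (.node (nat_lit 0x201080607030504) (.node (nat_lit 0x201080607030405) (.leaf (nat_lit 0x201070806050403) (nat_lit 777))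
 (.leaf (nat_lit 0x201080607030405) (nat_lit 1801))
) (.node (nat_lit 0x201080607040305) (.leaf (nat_lit 0x201080607030504) (nat_lit 1289))
 (.node (nat_lit 0x201080607040503) (.leaf (nat_lit 0x201080607040305) (nat_lit 1289))
 (.leaf (nat_lit 0x201080607040503) (nat_lit 1545))
))) (.node (nat_lit 0x201080706030405) (.node (nat_lit 0x201080607050403) (.leaf (nat_lit 0x201080607050304) (nat_lit 1801))
 (.leaf (nat_lit 0x201080607050403) (nat_lit 1033))
) (.node (nat_lit 0x201080706030504) (.leaf (nat_lit 0x201080706030405) (nat_lit 1287))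
 (.node (nat_lit 0x201080706040305) (.leaf (nat_lit 0x201080706030504) (nat_lit 774))
 (.leaf (nat_lit 0x201080706040305) (nat_lit 774))
))))) (.node (nat_lit 0x10002030504060807) (.node (nat_lit 0x10002030405070608) (.node (nat_lit 0x201080706050403) (.node (nat_lit 0x201080706050304) (.leaf (nat_lit 0x201080706040503) (nat_lit 1031))
 (.leaf (nat_lit 0x201080706050304) (nat_lit 1287))
) (.node (nat_lit 0x10002030405060708) (.leaf (nat_lit 0x201080706050403) (nat_lit 518))
 (.node (nat_lit 0x10002030405060807) (.leaf (nat_lit 0x10002030405060708) (nat_lit 2057))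
 (.leaf (nat_lit 0x10002030405060807) (nat_lit 1799))
))) (.node (nat_lit 0x10002030405080607) (.node (nat_lit 0x10002030405070806) (.leaf (nat_lit 0x10002030405070608) (nat_lit 1799))
 (.leaf (nat_lit 0x10002030405070806) (nat_lit 1801))
) (.node (nat_lit 0x10002030405080706) (.leaf (nat_lit 0x10002030405080607) (nat_lit 2057))
 (.node (nat_lit 0x10002030504060708) (.leaf (nat_lit 0x10002030405080706) (nat_lit 1543))
 (.leaf (nat_lit 0x10002030504060708) (nat_lit 1545))
)))) (.node (nat_lit 0x10002040305060708) (.node (nat_lit 0x10002030504070806) (.node (nat_lit 0x10002030504070608) (.leaf (nat_lit 0x10002030504060807) (nat_lit 1288))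
 (.leaf (nat_lit 0x10002030504070608) (nat_lit 1288))
) (.node (nat_lit 0x10002030504080607) (.leaf (nat_lit 0x10002030504070806) (nat_lit 1289))
 (.node (nat_lit 0x10002030504080706) (.leaf (nat_lit 0x10002030504080607) (nat_lit 1545))
 (.leaf (nat_lit 0x10002030504080706) (nat_lit 1032))
))) (.node (nat_lit 0x10002040305070806) (.node (nat_lit 0x10002040305060807) (.leaf (nat_lit 0x10002040305060708) (nat_lit 1545))
 (.node (nat_lit 0x10002040305070608) (.leaf (nat_lit 0x10002040305060807) (nat_lit 1288))
 (.leaf (nat_lit 0x10002040305070608) (nat_lit 1288))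
)) (.node (nat_lit 0x10002040305080607) (.leaf (nat_lit 0x10002040305070806) (nat_lit 1289))
 (.node (nat_lit 0x10002040305080706) (.leaf (nat_lit 0x10002040305080607) (nat_lit 1545))
 (.leaf (nat_lit 0x10002040305080706) (nat_lit 1032))
)))))))) (.node (nat_lit 0x10200050304070806) (.node (nat_lit 0x10002070806050304) (.node (nat_lit 0x10002060708040305) (.node (nat_lit 0x10002050304080607) (.node (nat_lit 0x10002040503080706) (.node (nat_lit 0x10002040503070608) (.node (nat_lit 0x10002040503060807) (.leaf (nat_lit 0x10002040503060708) (nat_lit 1801))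
 (.leaf (nat_lit 0x10002040503060807) (nat_lit 1543))
) (.node (nat_lit 0x10002040503070806) (.leaf (nat_lit 0x10002040503070608) (nat_lit 1543))
 (.node (nat_lit 0x10002040503080607) (.leaf (nat_lit 0x10002040503070806) (nat_lit 1545))
 (.leaf (nat_lit 0x10002040503080607) (nat_lit 1801))
))) (.node (nat_lit 0x10002050304060807) (.node (nat_lit 0x10002050304060708) (.leaf (nat_lit 0x10002040503080706) (nat_lit 1287))
 (.leaf (nat_lit 0x10002050304060708) (nat_lit 2057))
) (.node (nat_lit 0x10002050304070608) (.leaf (nat_lit 0x10002050304060807) (nat_lit 1799))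
 (.node (nat_lit 0x10002050304070806) (.leaf (nat_lit 0x10002050304070608) (nat_lit 1799))
 (.leaf (nat_lit 0x10002050304070806) (nat_lit 1801))
)))) (.node (nat_lit 0x10002050403070806) (.node (nat_lit 0x10002050403060708) (.node (nat_lit 0x10002050304080706) (.leaf (nat_lit 0x10002050304080607) (nat_lit 2057))
 (.leaf (nat_lit 0x10002050304080706) (nat_lit 1543))
) (.node (nat_lit 0x10002050403060807) (.leaf (nat_lit 0x10002050403060708) (nat_lit 1289))
 (.node (nat_lit 0x10002050403070608) (.leaf (nat_lit 0x10002050403060807) (nat_lit 1032))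
 (.leaf (nat_lit 0x10002050403070608) (nat_lit 1032))
))) (.node (nat_lit 0x10002050403080706) (.node (nat_lit 0x10002050403080607) (.leaf (nat_lit 0x10002050403070806) (nat_lit 1033))
 (.leaf (nat_lit 0x10002050403080607) (nat_lit 1289))
) (.node (nat_lit 0x10002060708030405) (.leaf (nat_lit 0x10002050403080706) (nat_lit 776))
 (.node (nat_lit 0x10002060708030504) (.leaf (nat_lit 0x10002060708030405) (nat_lit 1801))
 (.leaf (nat_lit 0x10002060708030504) (nat_lit 1289))
))))) (.node (nat_lit 0x10002070608030405) (.node (nat_lit 0x10002060807030504) (.node (nat_lit 0x10002060708050304) (.node (nat_lit 0x10002060708040503) (.leaf (nat_lit 0x10002060708040305) (nat_lit 1289))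
 (.leaf (nat_lit 0x10002060708040503) (nat_lit 1545))
) (.node (nat_lit 0x10002060708050403) (.leaf (nat_lit 0x10002060708050304) (nat_lit 1801))
 (.node (nat_lit 0x10002060807030405) (.leaf (nat_lit 0x10002060708050403) (nat_lit 1033))
 (.leaf (nat_lit 0x10002060807030405) (nat_lit 1543))
))) (.node (nat_lit 0x10002060807040503) (.node (nat_lit 0x10002060807040305) (.leaf (nat_lit 0x10002060807030504) (nat_lit 1030))
 (.leaf (nat_lit 0x10002060807040305) (nat_lit 1030))
) (.node (nat_lit 0x10002060807050304) (.leaf (nat_lit 0x10002060807040503) (nat_lit 1287))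
 (.node (nat_lit 0x10002060807050403) (.leaf (nat_lit 0x10002060807050304) (nat_lit 1543))
 (.leaf (nat_lit 0x10002060807050403) (nat_lit 774))
)))) (.node (nat_lit 0x10002070608050403) (.node (nat_lit 0x10002070608040305) (.node (nat_lit 0x10002070608030504) (.leaf (nat_lit 0x10002070608030405) (nat_lit 1543))
 (.leaf (nat_lit 0x10002070608030504) (nat_lit 1030))
) (.node (nat_lit 0x10002070608040503) (.leaf (nat_lit 0x10002070608040305) (nat_lit 1030))
 (.node (nat_lit 0x10002070608050304) (.leaf (nat_lit 0x10002070608040503) (nat_lit 1287))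
 (.leaf (nat_lit 0x10002070608050304) (nat_lit 1543))
))) (.node (nat_lit 0x10002070806030504) (.node (nat_lit 0x10002070806030405) (.leaf (nat_lit 0x10002070608050403) (nat_lit 774))
 (.leaf (nat_lit 0x10002070806030405) (nat_lit 1545))
) (.node (nat_lit 0x10002070806040305) (.leaf (nat_lit 0x10002070806030504) (nat_lit 1033))
 (.node (nat_lit 0x10002070806040503) (.leaf (nat_lit 0x10002070806040305) (nat_lit 1033))
 (.leaf (nat_lit 0x10002070806040503) (nat_lit 1289))
)))))) (.node (nat_lit 0x10200030504060708) (.node (nat_lit 0x10002080706040305) (.node (nat_lit 0x10002080607040503) (.node (nat_lit 0x10002080607030405) (.node (nat_lit 0x10002070806050403) (.leaf (nat_lit 0x10002070806050304) (nat_lit 1545))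
 (.leaf (nat_lit 0x10002070806050403) (nat_lit 777))
) (.node (nat_lit 0x10002080607030504) (.leaf (nat_lit 0x10002080607030405) (nat_lit 1801))
 (.node (nat_lit 0x10002080607040305) (.leaf (nat_lit 0x10002080607030504) (nat_lit 1289))
 (.leaf (nat_lit 0x10002080607040305) (nat_lit 1289))
))) (.node (nat_lit 0x10002080607050403) (.node (nat_lit 0x10002080607050304) (.leaf (nat_lit 0x10002080607040503) (nat_lit 1545))
 (.leaf (nat_lit 0x10002080607050304) (nat_lit 1801))
) (.node (nat_lit 0x10002080706030405) (.leaf (nat_lit 0x10002080607050403) (nat_lit 1033))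
 (.node (nat_lit 0x10002080706030504) (.leaf (nat_lit 0x10002080706030405) (nat_lit 1287))
 (.leaf (nat_lit 0x10002080706030504) (nat_lit 774))
)))) (.node (nat_lit 0x10200030405060807) (.node (nat_lit 0x10002080706050304) (.node (nat_lit 0x10002080706040503) (.leaf (nat_lit 0x10002080706040305) (nat_lit 774))
 (.leaf (nat_lit 0x10002080706040503) (nat_lit 1031))
) (.node (nat_lit 0x10002080706050403) (.leaf (nat_lit 0x10002080706050304) (nat_lit 1287))
 (.node (nat_lit 0x10200030405060708) (.leaf (nat_lit 0x10002080706050403) (nat_lit 518))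
 (.leaf (nat_lit 0x10200030405060708) (nat_lit 2057))
))) (.node (nat_lit 0x10200030405070806) (.node (nat_lit 0x10200030405070608) (.leaf (nat_lit 0x10200030405060807) (nat_lit 1799))
 (.leaf (nat_lit 0x10200030405070608) (nat_lit 1799))
) (.node (nat_lit 0x10200030405080607) (.leaf (nat_lit 0x10200030405070806) (nat_lit 1801))
 (.node (nat_lit 0x10200030405080706) (.leaf (nat_lit 0x10200030405080607) (nat_lit 2057))
 (.leaf (nat_lit 0x10200030405080706) (nat_lit 1543))
))))) (.node (nat_lit 0x10200040305080607) (.node (nat_lit 0x10200030504080706) (.node (nat_lit 0x10200030504070608) (.node (nat_lit 0x10200030504060807) (.leaf (nat_lit 0x10200030504060708) (nat_lit 1545))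
 (.leaf (nat_lit 0x10200030504060807) (nat_lit 1286))
) (.node (nat_lit 0x10200030504070806) (.leaf (nat_lit 0x10200030504070608) (nat_lit 1286))
 (.node (nat_lit 0x10200030504080607) (.leaf (nat_lit 0x10200030504070806) (nat_lit 1289))
 (.leaf (nat_lit 0x10200030504080607) (nat_lit 1545))
))) (.node (nat_lit 0x10200040305060807) (.node (nat_lit 0x10200040305060708) (.leaf (nat_lit 0x10200030504080706) (nat_lit 1030))
 (.leaf (nat_lit 0x10200040305060708) (nat_lit 1545))
) (.node (nat_lit 0x10200040305070608) (.leaf (nat_lit 0x10200040305060807) (nat_lit 1286))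
 (.node (nat_lit 0x10200040305070806) (.leaf (nat_lit 0x10200040305070608) (nat_lit 1286))
 (.leaf (nat_lit 0x10200040305070806) (nat_lit 1289))
)))) (.node (nat_lit 0x10200040503070806) (.node (nat_lit 0x10200040503060708) (.node (nat_lit 0x10200040305080706) (.leaf (nat_lit 0x10200040305080607) (nat_lit 1545))
 (.leaf (nat_lit 0x10200040305080706) (nat_lit 1030))
) (.node (nat_lit 0x10200040503060807) (.leaf (nat_lit 0x10200040503060708) (nat_lit 1801))
 (.node (nat_lit 0x10200040503070608) (.leaf (nat_lit 0x10200040503060807) (nat_lit 1543))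
 (.leaf (nat_lit 0x10200040503070608) (nat_lit 1543))
))) (.node (nat_lit 0x10200050304060708) (.node (nat_lit 0x10200040503080607) (.leaf (nat_lit 0x10200040503070806) (nat_lit 1545))
 (.node (nat_lit 0x10200040503080706) (.leaf (nat_lit 0x10200040503080607) (nat_lit 1801))
 (.leaf (nat_lit 0x10200040503080706) (nat_lit 1287))
)) (.node (nat_lit 0x10200050304060807) (.leaf (nat_lit 0x10200050304060708) (nat_lit 2057))
 (.node (nat_lit 0x10200050304070608) (.leaf (nat_lit 0x10200050304060807) (nat_lit 1799))
 (.leaf (nat_lit 0x10200050304070608) (nat_lit 1799))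
))))))) (.node (nat_lit 0x10200080706030504) (.node (nat_lit 0x10200060807050403) (.node (nat_lit 0x10200060708030504) (.node (nat_lit 0x10200050403070608) (.node (nat_lit 0x10200050304080706) (.node (nat_lit 0x10200050304080607) (.leaf (nat_lit 0x10200050304070806) (nat_lit 1801))
 (.leaf (nat_lit 0x10200050304080607) (nat_lit 2057))
) (.node (nat_lit 0x10200050403060708) (.leaf (nat_lit 0x10200050304080706) (nat_lit 1543))
 (.node (nat_lit 0x10200050403060807) (.leaf (nat_lit 0x10200050403060708) (nat_lit 1289))
 (.leaf (nat_lit 0x10200050403060807) (nat_lit 1030))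
))) (.node (nat_lit 0x10200050403080607) (.node (nat_lit 0x10200050403070806) (.leaf (nat_lit 0x10200050403070608) (nat_lit 1030))
 (.leaf (nat_lit 0x10200050403070806) (nat_lit 1033))
) (.node (nat_lit 0x10200050403080706) (.leaf (nat_lit 0x10200050403080607) (nat_lit 1289))
 (.node (nat_lit 0x10200060708030405) (.leaf (nat_lit 0x10200050403080706) (nat_lit 774))
 (.leaf (nat_lit 0x10200060708030405) (nat_lit 1801))
)))) (.node (nat_lit 0x10200060807030405) (.node (nat_lit 0x10200060708040503) (.node (nat_lit 0x10200060708040305) (.leaf (nat_lit 0x10200060708030504) (nat_lit 1289))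
 (.leaf (nat_lit 0x10200060708040305) (nat_lit 1289))
) (.node (nat_lit 0x10200060708050304) (.leaf (nat_lit 0x10200060708040503) (nat_lit 1545))
 (.node (nat_lit 0x10200060708050403) (.leaf (nat_lit 0x10200060708050304) (nat_lit 1801))
 (.leaf (nat_lit 0x10200060708050403) (nat_lit 1033))
))) (.node (nat_lit 0x10200060807040305) (.node (nat_lit 0x10200060807030504) (.leaf (nat_lit 0x10200060807030405) (nat_lit 1543))
 (.leaf (nat_lit 0x10200060807030504) (nat_lit 1030))
) (.node (nat_lit 0x10200060807040503) (.leaf (nat_lit 0x10200060807040305) (nat_lit 1030))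
 (.node (nat_lit 0x10200060807050304) (.leaf (nat_lit 0x10200060807040503) (nat_lit 1287))
 (.leaf (nat_lit 0x10200060807050304) (nat_lit 1543))
))))) (.node (nat_lit 0x10200070806040503) (.node (nat_lit 0x10200070608050304) (.node (nat_lit 0x10200070608030504) (.node (nat_lit 0x10200070608030405) (.leaf (nat_lit 0x10200060807050403) (nat_lit 774))
 (.leaf (nat_lit 0x10200070608030405) (nat_lit 1543))
) (.node (nat_lit 0x10200070608040305) (.leaf (nat_lit 0x10200070608030504) (nat_lit 1030))
 (.node (nat_lit 0x10200070608040503) (.leaf (nat_lit 0x10200070608040305) (nat_lit 1030))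
 (.leaf (nat_lit 0x10200070608040503) (nat_lit 1287))
))) (.node (nat_lit 0x10200070806030405) (.node (nat_lit 0x10200070608050403) (.leaf (nat_lit 0x10200070608050304) (nat_lit 1543))
 (.leaf (nat_lit 0x10200070608050403) (nat_lit 774))
) (.node (nat_lit 0x10200070806030504) (.leaf (nat_lit 0x10200070806030405) (nat_lit 1545))
 (.node (nat_lit 0x10200070806040305) (.leaf (nat_lit 0x10200070806030504) (nat_lit 1033))
 (.leaf (nat_lit 0x10200070806040305) (nat_lit 1033))
)))) (.node (nat_lit 0x10200080607040305) (.node (nat_lit 0x10200070806050403) (.node (nat_lit 0x10200070806050304) (.leaf (nat_lit 0x10200070806040503) (nat_lit 1289))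
 (.leaf (nat_lit 0x10200070806050304) (nat_lit 1545))
) (.node (nat_lit 0x10200080607030405) (.leaf (nat_lit 0x10200070806050403) (nat_lit 777))
 (.node (nat_lit 0x10200080607030504) (.leaf (nat_lit 0x10200080607030405) (nat_lit 1801))
 (.leaf (nat_lit 0x10200080607030504) (nat_lit 1289))
))) (.node (nat_lit 0x10200080607050304) (.node (nat_lit 0x10200080607040503) (.leaf (nat_lit 0x10200080607040305) (nat_lit 1289))
 (.leaf (nat_lit 0x10200080607040503) (nat_lit 1545))
) (.node (nat_lit 0x10200080607050403) (.leaf (nat_lit 0x10200080607050304) (nat_lit 1801))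
 (.node (nat_lit 0x10200080706030405) (.leaf (nat_lit 0x10200080607050403) (nat_lit 1033))
 (.leaf (nat_lit 0x10200080706030405) (nat_lit 1287))
)))))) (.node (nat_lit 0x20001040305070806) (.node (nat_lit 0x20001030405080706) (.node (nat_lit 0x20001030405060708) (.node (nat_lit 0x10200080706040503) (.node (nat_lit 0x10200080706040305) (.leaf (nat_lit 0x10200080706030504) (nat_lit 774))
 (.leaf (nat_lit 0x10200080706040305) (nat_lit 774))
) (.node (nat_lit 0x10200080706050304) (.leaf (nat_lit 0x10200080706040503) (nat_lit 1031))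
 (.node (nat_lit 0x10200080706050403) (.leaf (nat_lit 0x10200080706050304) (nat_lit 1287))
 (.leaf (nat_lit 0x10200080706050403) (nat_lit 518))
))) (.node (nat_lit 0x20001030405070608) (.node (nat_lit 0x20001030405060807) (.leaf (nat_lit 0x20001030405060708) (nat_lit 2313))
 (.leaf (nat_lit 0x20001030405060807) (nat_lit 2055))
) (.node (nat_lit 0x20001030405070806) (.leaf (nat_lit 0x20001030405070608) (nat_lit 2055))
 (.node (nat_lit 0x20001030405080607) (.leaf (nat_lit 0x20001030405070806) (nat_lit 2057))
 (.leaf (nat_lit 0x20001030405080607) (nat_lit 2313))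
)))) (.node (nat_lit 0x20001030504080607) (.node (nat_lit 0x20001030504060807) (.node (nat_lit 0x20001030504060708) (.leaf (nat_lit 0x20001030405080706) (nat_lit 1799))
 (.leaf (nat_lit 0x20001030504060708) (nat_lit 1801))
) (.node (nat_lit 0x20001030504070608) (.leaf (nat_lit 0x20001030504060807) (nat_lit 1542))
 (.node (nat_lit 0x20001030504070806) (.leaf (nat_lit 0x20001030504070608) (nat_lit 1542))
 (.leaf (nat_lit 0x20001030504070806) (nat_lit 1545))
))) (.node (nat_lit 0x20001040305060708) (.node (nat_lit 0x20001030504080706) (.leaf (nat_lit 0x20001030504080607) (nat_lit 1801))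
 (.leaf (nat_lit 0x20001030504080706) (nat_lit 1286))
) (.node (nat_lit 0x20001040305060807) (.leaf (nat_lit 0x20001040305060708) (nat_lit 1801))
 (.node (nat_lit 0x20001040305070608) (.leaf (nat_lit 0x20001040305060807) (nat_lit 1542))
 (.leaf (nat_lit 0x20001040305070608) (nat_lit 1542))
))))) (.node (nat_lit 0x20001050304060807) (.node (nat_lit 0x20001040503070608) (.node (nat_lit 0x20001040305080706) (.node (nat_lit 0x20001040305080607) (.leaf (nat_lit 0x20001040305070806) (nat_lit 1545))
 (.leaf (nat_lit 0x20001040305080607) (nat_lit 1801))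
) (.node (nat_lit 0x20001040503060708) (.leaf (nat_lit 0x20001040305080706) (nat_lit 1286))
 (.node (nat_lit 0x20001040503060807) (.leaf (nat_lit 0x20001040503060708) (nat_lit 2057))
 (.leaf (nat_lit 0x20001040503060807) (nat_lit 1799))
))) (.node (nat_lit 0x20001040503080607) (.node (nat_lit 0x20001040503070806) (.leaf (nat_lit 0x20001040503070608) (nat_lit 1799))
 (.leaf (nat_lit 0x20001040503070806) (nat_lit 1801))
) (.node (nat_lit 0x20001040503080706) (.leaf (nat_lit 0x20001040503080607) (nat_lit 2057))
 (.node (nat_lit 0x20001050304060708) (.leaf (nat_lit 0x20001040503080706) (nat_lit 1543))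
 (.leaf (nat_lit 0x20001050304060708) (nat_lit 2313))
)))) (.node (nat_lit 0x20001050403060708) (.node (nat_lit 0x20001050304070806) (.node (nat_lit 0x20001050304070608) (.leaf (nat_lit 0x20001050304060807) (nat_lit 2055))
 (.leaf (nat_lit 0x20001050304070608) (nat_lit 2055))
) (.node (nat_lit 0x20001050304080607) (.leaf (nat_lit 0x20001050304070806) (nat_lit 2057))
 (.node (nat_lit 0x20001050304080706) (.leaf (nat_lit 0x20001050304080607) (nat_lit 2313))
 (.leaf (nat_lit 0x20001050304080706) (nat_lit 1799))
))) (.node (nat_lit 0x20001050403070806) (.node (nat_lit 0x20001050403060807) (.leaf (nat_lit 0x20001050403060708) (nat_lit 1545))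
 (.node (nat_lit 0x20001050403070608) (.leaf (nat_lit 0x20001050403060807) (nat_lit 1286))
 (.leaf (nat_lit 0x20001050403070608) (nat_lit 1286))
)) (.node (nat_lit 0x20001050403080607) (.leaf (nat_lit 0x20001050403070806) (nat_lit 1289))
 (.node (nat_lit 0x20001050403080706) (.leaf (nat_lit 0x20001050403080607) (nat_lit 1545))
 (.leaf (nat_lit 0x20001050403080706) (nat_lit 1030))
))))))))) (.node (nat_lit 0x30405070806000102) (.node (nat_lit 0x20100060807040503) (.node (nat_lit 0x20100030405080607) (.node (nat_lit 0x20001070806040305) (.node (nat_lit 0x20001060807050304) (.node (nat_lit 0x20001060708050403) (.node (nat_lit 0x20001060708040305) (.node (nat_lit 0x20001060708030504) (.leaf (nat_lit 0x20001060708030405) (nat_lit 2057))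
 (.leaf (nat_lit 0x20001060708030504) (nat_lit 1545))
) (.node (nat_lit 0x20001060708040503) (.leaf (nat_lit 0x20001060708040305) (nat_lit 1545))
 (.node (nat_lit 0x20001060708050304) (.leaf (nat_lit 0x20001060708040503) (nat_lit 1801))
 (.leaf (nat_lit 0x20001060708050304) (nat_lit 2057))
))) (.node (nat_lit 0x20001060807030504) (.node (nat_lit 0x20001060807030405) (.leaf (nat_lit 0x20001060708050403) (nat_lit 1289))
 (.leaf (nat_lit 0x20001060807030405) (nat_lit 1799))
) (.node (nat_lit 0x20001060807040305) (.leaf (nat_lit 0x20001060807030504) (nat_lit 1286))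
 (.node (nat_lit 0x20001060807040503) (.leaf (nat_lit 0x20001060807040305) (nat_lit 1286))
 (.leaf (nat_lit 0x20001060807040503) (nat_lit 1543))
)))) (.node (nat_lit 0x20001070608040503) (.node (nat_lit 0x20001070608030405) (.node (nat_lit 0x20001060807050403) (.leaf (nat_lit 0x20001060807050304) (nat_lit 1799))
 (.leaf (nat_lit 0x20001060807050403) (nat_lit 1030))
) (.node (nat_lit 0x20001070608030504) (.leaf (nat_lit 0x20001070608030405) (nat_lit 1799))
 (.node (nat_lit 0x20001070608040305) (.leaf (nat_lit 0x20001070608030504) (nat_lit 1286))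
 (.leaf (nat_lit 0x20001070608040305) (nat_lit 1286))
))) (.node (nat_lit 0x20001070608050403) (.node (nat_lit 0x20001070608050304) (.leaf (nat_lit 0x20001070608040503) (nat_lit 1543))
 (.leaf (nat_lit 0x20001070608050304) (nat_lit 1799))
) (.node (nat_lit 0x20001070806030405) (.leaf (nat_lit 0x20001070608050403) (nat_lit 1030))
 (.node (nat_lit 0x20001070806030504) (.leaf (nat_lit 0x20001070806030405) (nat_lit 1801))
 (.leaf (nat_lit 0x20001070806030504) (nat_lit 1289))
))))) (.node (nat_lit 0x20001080706030405) (.node (nat_lit 0x20001080607030504) (.node (nat_lit 0x20001070806050304) (.node (nat_lit 0x20001070806040503) (.leaf (nat_lit 0x20001070806040305) (nat_lit 1289))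
 (.leaf (nat_lit 0x20001070806040503) (nat_lit 1545))
) (.node (nat_lit 0x20001070806050403) (.leaf (nat_lit 0x20001070806050304) (nat_lit 1801))
 (.node (nat_lit 0x20001080607030405) (.leaf (nat_lit 0x20001070806050403) (nat_lit 1033))
 (.leaf (nat_lit 0x20001080607030405) (nat_lit 2057))
))) (.node (nat_lit 0x20001080607040503) (.node (nat_lit 0x20001080607040305) (.leaf (nat_lit 0x20001080607030504) (nat_lit 1545))
 (.leaf (nat_lit 0x20001080607040305) (nat_lit 1545))
) (.node (nat_lit 0x20001080607050304) (.leaf (nat_lit 0x20001080607040503) (nat_lit 1801))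
 (.node (nat_lit 0x20001080607050403) (.leaf (nat_lit 0x20001080607050304) (nat_lit 2057))
 (.leaf (nat_lit 0x20001080607050403) (nat_lit 1289))
)))) (.node (nat_lit 0x20001080706050403) (.node (nat_lit 0x20001080706040305) (.node (nat_lit 0x20001080706030504) (.leaf (nat_lit 0x20001080706030405) (nat_lit 1543))
 (.leaf (nat_lit 0x20001080706030504) (nat_lit 1030))
) (.node (nat_lit 0x20001080706040503) (.leaf (nat_lit 0x20001080706040305) (nat_lit 1030))
 (.node (nat_lit 0x20001080706050304) (.leaf (nat_lit 0x20001080706040503) (nat_lit 1287))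
 (.leaf (nat_lit 0x20001080706050304) (nat_lit 1543))
))) (.node (nat_lit 0x20100030405060807) (.node (nat_lit 0x20100030405060708) (.leaf (nat_lit 0x20001080706050403) (nat_lit 774))
 (.leaf (nat_lit 0x20100030405060708) (nat_lit 1801))
) (.node (nat_lit 0x20100030405070608) (.leaf (nat_lit 0x20100030405060807) (nat_lit 1543))
 (.node (nat_lit 0x20100030405070806) (.leaf (nat_lit 0x20100030405070608) (nat_lit 1543))
 (.leaf (nat_lit 0x20100030405070806) (nat_lit 1545))
)))))) (.node (nat_lit 0x20100050304060708) (.node (nat_lit 0x20100040305070608) (.node (nat_lit 0x20100030504070806) (.node (nat_lit 0x20100030504060708) (.node (nat_lit 0x20100030405080706) (.leaf (nat_lit 0x20100030405080607) (nat_lit 1801))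
 (.leaf (nat_lit 0x20100030405080706) (nat_lit 1287))
) (.node (nat_lit 0x20100030504060807) (.leaf (nat_lit 0x20100030504060708) (nat_lit 1289))
 (.node (nat_lit 0x20100030504070608) (.leaf (nat_lit 0x20100030504060807) (nat_lit 1032))
 (.leaf (nat_lit 0x20100030504070608) (nat_lit 1032))
))) (.node (nat_lit 0x20100030504080706) (.node (nat_lit 0x20100030504080607) (.leaf (nat_lit 0x20100030504070806) (nat_lit 1033))
 (.leaf (nat_lit 0x20100030504080607) (nat_lit 1289))
) (.node (nat_lit 0x20100040305060708) (.leaf (nat_lit 0x20100030504080706) (nat_lit 776))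
 (.node (nat_lit 0x20100040305060807) (.leaf (nat_lit 0x20100040305060708) (nat_lit 1289))
 (.leaf (nat_lit 0x20100040305060807) (nat_lit 1032))
)))) (.node (nat_lit 0x20100040503060807) (.node (nat_lit 0x20100040305080607) (.node (nat_lit 0x20100040305070806) (.leaf (nat_lit 0x20100040305070608) (nat_lit 1032))
 (.leaf (nat_lit 0x20100040305070806) (nat_lit 1033))
) (.node (nat_lit 0x20100040305080706) (.leaf (nat_lit 0x20100040305080607) (nat_lit 1289))
 (.node (nat_lit 0x20100040503060708) (.leaf (nat_lit 0x20100040305080706) (nat_lit 776))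
 (.leaf (nat_lit 0x20100040503060708) (nat_lit 1545))
))) (.node (nat_lit 0x20100040503070806) (.node (nat_lit 0x20100040503070608) (.leaf (nat_lit 0x20100040503060807) (nat_lit 1287))
 (.leaf (nat_lit 0x20100040503070608) (nat_lit 1287))
) (.node (nat_lit 0x20100040503080607) (.leaf (nat_lit 0x20100040503070806) (nat_lit 1289))
 (.node (nat_lit 0x20100040503080706) (.leaf (nat_lit 0x20100040503080607) (nat_lit 1545))
 (.leaf (nat_lit 0x20100040503080706) (nat_lit 1031))
))))) (.node (nat_lit 0x20100050403080607) (.node (nat_lit 0x20100050304080706) (.node (nat_lit 0x20100050304070608) (.node (nat_lit 0x20100050304060807) (.leaf (nat_lit 0x20100050304060708) (nat_lit 1801))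
 (.leaf (nat_lit 0x20100050304060807) (nat_lit 1543))
) (.node (nat_lit 0x20100050304070806) (.leaf (nat_lit 0x20100050304070608) (nat_lit 1543))
 (.node (nat_lit 0x20100050304080607) (.leaf (nat_lit 0x20100050304070806) (nat_lit 1545))
 (.leaf (nat_lit 0x20100050304080607) (nat_lit 1801))
))) (.node (nat_lit 0x20100050403060807) (.node (nat_lit 0x20100050403060708) (.leaf (nat_lit 0x20100050304080706) (nat_lit 1287))
 (.leaf (nat_lit 0x20100050403060708) (nat_lit 1033))
) (.node (nat_lit 0x20100050403070608) (.leaf (nat_lit 0x20100050403060807) (nat_lit 776))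
 (.node (nat_lit 0x20100050403070806) (.leaf (nat_lit 0x20100050403070608) (nat_lit 776))
 (.leaf (nat_lit 0x20100050403070806) (nat_lit 777))
)))) (.node (nat_lit 0x20100060708040503) (.node (nat_lit 0x20100060708030405) (.node (nat_lit 0x20100050403080706) (.leaf (nat_lit 0x20100050403080607) (nat_lit 1033))
 (.leaf (nat_lit 0x20100050403080706) (nat_lit 520))
) (.node (nat_lit 0x20100060708030504) (.leaf (nat_lit 0x20100060708030405) (nat_lit 1545))
 (.node (nat_lit 0x20100060708040305) (.leaf (nat_lit 0x20100060708030504) (nat_lit 1033))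
 (.leaf (nat_lit 0x20100060708040305) (nat_lit 1033))
))) (.node (nat_lit 0x20100060807030405) (.node (nat_lit 0x20100060708050304) (.leaf (nat_lit 0x20100060708040503) (nat_lit 1289))
 (.node (nat_lit 0x20100060708050403) (.leaf (nat_lit 0x20100060708050304) (nat_lit 1545))
 (.leaf (nat_lit 0x20100060708050403) (nat_lit 777))
)) (.node (nat_lit 0x20100060807030504) (.leaf (nat_lit 0x20100060807030405) (nat_lit 1287))
 (.node (nat_lit 0x20100060807040305) (.leaf (nat_lit 0x20100060807030504) (nat_lit 774))
 (.leaf (nat_lit 0x20100060807040305) (nat_lit 774))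
))))))) (.node (nat_lit 0x30405010002060807) (.node (nat_lit 0x20100080607050403) (.node (nat_lit 0x20100070806030504) (.node (nat_lit 0x20100070608040305) (.node (nat_lit 0x20100060807050403) (.node (nat_lit 0x20100060807050304) (.leaf (nat_lit 0x20100060807040503) (nat_lit 1031))
 (.leaf (nat_lit 0x20100060807050304) (nat_lit 1287))
) (.node (nat_lit 0x20100070608030405) (.leaf (nat_lit 0x20100060807050403) (nat_lit 518))
 (.node (nat_lit 0x20100070608030504) (.leaf (nat_lit 0x20100070608030405) (nat_lit 1287))
 (.leaf (nat_lit 0x20100070608030504) (nat_lit 774))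
))) (.node (nat_lit 0x20100070608050304) (.node (nat_lit 0x20100070608040503) (.leaf (nat_lit 0x20100070608040305) (nat_lit 774))
 (.leaf (nat_lit 0x20100070608040503) (nat_lit 1031))
) (.node (nat_lit 0x20100070608050403) (.leaf (nat_lit 0x20100070608050304) (nat_lit 1287))
 (.node (nat_lit 0x20100070806030405) (.leaf (nat_lit 0x20100070608050403) (nat_lit 518))
 (.leaf (nat_lit 0x20100070806030405) (nat_lit 1289))
)))) (.node (nat_lit 0x20100080607030405) (.node (nat_lit 0x20100070806040503) (.node (nat_lit 0x20100070806040305) (.leaf (nat_lit 0x20100070806030504) (nat_lit 777))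
 (.leaf (nat_lit 0x20100070806040305) (nat_lit 777))
) (.node (nat_lit 0x20100070806050304) (.leaf (nat_lit 0x20100070806040503) (nat_lit 1033))
 (.node (nat_lit 0x20100070806050403) (.leaf (nat_lit 0x20100070806050304) (nat_lit 1289))
 (.leaf (nat_lit 0x20100070806050403) (nat_lit 521))
))) (.node (nat_lit 0x20100080607040305) (.node (nat_lit 0x20100080607030504) (.leaf (nat_lit 0x20100080607030405) (nat_lit 1545))
 (.leaf (nat_lit 0x20100080607030504) (nat_lit 1033))
) (.node (nat_lit 0x20100080607040503) (.leaf (nat_lit 0x20100080607040305) (nat_lit 1033))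
 (.node (nat_lit 0x20100080607050304) (.leaf (nat_lit 0x20100080607040503) (nat_lit 1289))
 (.leaf (nat_lit 0x20100080607050304) (nat_lit 1545))
))))) (.node (nat_lit 0x30405000102070806) (.node (nat_lit 0x20100080706050304) (.node (nat_lit 0x20100080706030504) (.node (nat_lit 0x20100080706030405) (.leaf (nat_lit 0x20100080607050403) (nat_lit 777))
 (.leaf (nat_lit 0x20100080706030405) (nat_lit 1031))
) (.node (nat_lit 0x20100080706040305) (.leaf (nat_lit 0x20100080706030504) (nat_lit 518))
 (.node (nat_lit 0x20100080706040503) (.leaf (nat_lit 0x20100080706040305) (nat_lit 518))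
 (.leaf (nat_lit 0x20100080706040503) (nat_lit 775))
))) (.node (nat_lit 0x30405000102060708) (.node (nat_lit 0x20100080706050403) (.leaf (nat_lit 0x20100080706050304) (nat_lit 1031))
 (.leaf (nat_lit 0x20100080706050403) (nat_lit 262))
) (.node (nat_lit 0x30405000102060807) (.leaf (nat_lit 0x30405000102060708) (nat_lit 2057))
 (.node (nat_lit 0x30405000102070608) (.leaf (nat_lit 0x30405000102060807) (nat_lit 1798))
 (.leaf (nat_lit 0x30405000102070608) (nat_lit 1798))
)))) (.node (nat_lit 0x30405000201070608) (.node (nat_lit 0x30405000102080706) (.node (nat_lit 0x30405000102080607) (.leaf (nat_lit 0x30405000102070806) (nat_lit 1801))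
 (.leaf (nat_lit 0x30405000102080607) (nat_lit 2057))
) (.node (nat_lit 0x30405000201060708) (.leaf (nat_lit 0x30405000102080706) (nat_lit 1542))
 (.node (nat_lit 0x30405000201060807) (.leaf (nat_lit 0x30405000201060708) (nat_lit 1545))
 (.leaf (nat_lit 0x30405000201060807) (nat_lit 1287))
))) (.node (nat_lit 0x30405000201080607) (.node (nat_lit 0x30405000201070806) (.leaf (nat_lit 0x30405000201070608) (nat_lit 1287))
 (.leaf (nat_lit 0x30405000201070806) (nat_lit 1289))
) (.node (nat_lit 0x30405000201080706) (.leaf (nat_lit 0x30405000201080607) (nat_lit 1545))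
 (.node (nat_lit 0x30405010002060708) (.leaf (nat_lit 0x30405000201080706) (nat_lit 1031))
 (.leaf (nat_lit 0x30405010002060708) (nat_lit 1545))
)))))) (.node (nat_lit 0x30405020100070806) (.node (nat_lit 0x30405010200080706) (.node (nat_lit 0x30405010200060708) (.node (nat_lit 0x30405010002070806) (.node (nat_lit 0x30405010002070608) (.leaf (nat_lit 0x30405010002060807) (nat_lit 1287))
 (.leaf (nat_lit 0x30405010002070608) (nat_lit 1287))
) (.node (nat_lit 0x30405010002080607) (.leaf (nat_lit 0x30405010002070806) (nat_lit 1289))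
 (.node (nat_lit 0x30405010002080706) (.leaf (nat_lit 0x30405010002080607) (nat_lit 1545))
 (.leaf (nat_lit 0x30405010002080706) (nat_lit 1031))
))) (.node (nat_lit 0x30405010200070608) (.node (nat_lit 0x30405010200060807) (.leaf (nat_lit 0x30405010200060708) (nat_lit 1801))
 (.leaf (nat_lit 0x30405010200060807) (nat_lit 1542))
) (.node (nat_lit 0x30405010200070806) (.leaf (nat_lit 0x30405010200070608) (nat_lit 1542))
 (.node (nat_lit 0x30405010200080607) (.leaf (nat_lit 0x30405010200070806) (nat_lit 1545))
 (.leaf (nat_lit 0x30405010200080607) (nat_lit 1801))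
)))) (.node (nat_lit 0x30405020001080607) (.node (nat_lit 0x30405020001060807) (.node (nat_lit 0x30405020001060708) (.leaf (nat_lit 0x30405010200080706) (nat_lit 1286))
 (.leaf (nat_lit 0x30405020001060708) (nat_lit 2057))
) (.node (nat_lit 0x30405020001070608) (.leaf (nat_lit 0x30405020001060807) (nat_lit 1798))
 (.node (nat_lit 0x30405020001070806) (.leaf (nat_lit 0x30405020001070608) (nat_lit 1798))
 (.leaf (nat_lit 0x30405020001070806) (nat_lit 1801))
))) (.node (nat_lit 0x30405020100060708) (.node (nat_lit 0x30405020001080706) (.leaf (nat_lit 0x30405020001080607) (nat_lit 2057))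
 (.leaf (nat_lit 0x30405020001080706) (nat_lit 1542))
) (.node (nat_lit 0x30405020100060807) (.leaf (nat_lit 0x30405020100060708) (nat_lit 1289))
 (.node (nat_lit 0x30405020100070608) (.leaf (nat_lit 0x30405020100060807) (nat_lit 1031))
 (.leaf (nat_lit 0x30405020100070608) (nat_lit 1031))
))))) (.node (nat_lit 0x30405060807000201) (.node (nat_lit 0x30405060708010002) (.node (nat_lit 0x30405020100080706) (.node (nat_lit 0x30405020100080607) (.leaf (nat_lit 0x30405020100070806) (nat_lit 1033))
 (.leaf (nat_lit 0x30405020100080607) (nat_lit 1289))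
) (.node (nat_lit 0x30405060708000102) (.leaf (nat_lit 0x30405020100080706) (nat_lit 775))
 (.node (nat_lit 0x30405060708000201) (.leaf (nat_lit 0x30405060708000102) (nat_lit 2313))
 (.leaf (nat_lit 0x30405060708000201) (nat_lit 1801))
))) (.node (nat_lit 0x30405060708020001) (.node (nat_lit 0x30405060708010200) (.leaf (nat_lit 0x30405060708010002) (nat_lit 1801))
 (.leaf (nat_lit 0x30405060708010200) (nat_lit 2057))
) (.node (nat_lit 0x30405060708020100) (.leaf (nat_lit 0x30405060708020001) (nat_lit 2313))
 (.node (nat_lit 0x30405060807000102) (.leaf (nat_lit 0x30405060708020100) (nat_lit 1545))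
 (.leaf (nat_lit 0x30405060807000102) (nat_lit 2054))
)))) (.node (nat_lit 0x30405070608000102) (.node (nat_lit 0x30405060807010200) (.node (nat_lit 0x30405060807010002) (.leaf (nat_lit 0x30405060807000201) (nat_lit 1543))
 (.leaf (nat_lit 0x30405060807010002) (nat_lit 1543))
) (.node (nat_lit 0x30405060807020001) (.leaf (nat_lit 0x30405060807010200) (nat_lit 1798))
 (.node (nat_lit 0x30405060807020100) (.leaf (nat_lit 0x30405060807020001) (nat_lit 2054))
 (.leaf (nat_lit 0x30405060807020100) (nat_lit 1287))
))) (.node (nat_lit 0x30405070608010200) (.node (nat_lit 0x30405070608000201) (.leaf (nat_lit 0x30405070608000102) (nat_lit 2054))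
 (.node (nat_lit 0x30405070608010002) (.leaf (nat_lit 0x30405070608000201) (nat_lit 1543))
 (.leaf (nat_lit 0x30405070608010002) (nat_lit 1543))
)) (.node (nat_lit 0x30405070608020001) (.leaf (nat_lit 0x30405070608010200) (nat_lit 1798))
 (.node (nat_lit 0x30405070608020100) (.leaf (nat_lit 0x30405070608020001) (nat_lit 2054))
 (.leaf (nat_lit 0x30405070608020100) (nat_lit 1287))
)))))))) (.node (nat_lit 0x30504080607010200) (.node (nat_lit 0x30504010200080607) (.node (nat_lit 0x30504000102070608) (.node (nat_lit 0x30405080607020001) (.node (nat_lit 0x30405070806020100) (.node (nat_lit 0x30405070806010002) (.node (nat_lit 0x30405070806000201) (.leaf (nat_lit 0x30405070806000102) (nat_lit 2057))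
 (.leaf (nat_lit 0x30405070806000201) (nat_lit 1545))
) (.node (nat_lit 0x30405070806010200) (.leaf (nat_lit 0x30405070806010002) (nat_lit 1545))
 (.node (nat_lit 0x30405070806020001) (.leaf (nat_lit 0x30405070806010200) (nat_lit 1801))
 (.leaf (nat_lit 0x30405070806020001) (nat_lit 2057))
))) (.node (nat_lit 0x30405080607000201) (.node (nat_lit 0x30405080607000102) (.leaf (nat_lit 0x30405070806020100) (nat_lit 1289))
 (.leaf (nat_lit 0x30405080607000102) (nat_lit 2313))
) (.node (nat_lit 0x30405080607010002) (.leaf (nat_lit 0x30405080607000201) (nat_lit 1801))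
 (.node (nat_lit 0x30405080607010200) (.leaf (nat_lit 0x30405080607010002) (nat_lit 1801))
 (.leaf (nat_lit 0x30405080607010200) (nat_lit 2057))
)))) (.node (nat_lit 0x30405080706010200) (.node (nat_lit 0x30405080706000102) (.node (nat_lit 0x30405080607020100) (.leaf (nat_lit 0x30405080607020001) (nat_lit 2313))
 (.leaf (nat_lit 0x30405080607020100) (nat_lit 1545))
) (.node (nat_lit 0x30405080706000201) (.leaf (nat_lit 0x30405080706000102) (nat_lit 1798))
 (.node (nat_lit 0x30405080706010002) (.leaf (nat_lit 0x30405080706000201) (nat_lit 1287))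
 (.leaf (nat_lit 0x30405080706010002) (nat_lit 1287))
))) (.node (nat_lit 0x30405080706020100) (.node (nat_lit 0x30405080706020001) (.leaf (nat_lit 0x30405080706010200) (nat_lit 1542))
 (.leaf (nat_lit 0x30405080706020001) (nat_lit 1798))
) (.node (nat_lit 0x30504000102060708) (.leaf (nat_lit 0x30405080706020100) (nat_lit 1031))
 (.node (nat_lit 0x30504000102060807) (.leaf (nat_lit 0x30504000102060708) (nat_lit 1801))
 (.leaf (nat_lit 0x30504000102060807) (nat_lit 1542))
))))) (.node (nat_lit 0x30504010002060708) (.node (nat_lit 0x30504000201060807) (.node (nat_lit 0x30504000102080607) (.node (nat_lit 0x30504000102070806) (.leaf (nat_lit 0x30504000102070608) (nat_lit 1542))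
 (.leaf (nat_lit 0x30504000102070806) (nat_lit 1545))
) (.node (nat_lit 0x30504000102080706) (.leaf (nat_lit 0x30504000102080607) (nat_lit 1801))
 (.node (nat_lit 0x30504000201060708) (.leaf (nat_lit 0x30504000102080706) (nat_lit 1286))
 (.leaf (nat_lit 0x30504000201060708) (nat_lit 1289))
))) (.node (nat_lit 0x30504000201070806) (.node (nat_lit 0x30504000201070608) (.leaf (nat_lit 0x30504000201060807) (nat_lit 1031))
 (.leaf (nat_lit 0x30504000201070608) (nat_lit 1031))
) (.node (nat_lit 0x30504000201080607) (.leaf (nat_lit 0x30504000201070806) (nat_lit 1033))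
 (.node (nat_lit 0x30504000201080706) (.leaf (nat_lit 0x30504000201080607) (nat_lit 1289))
 (.leaf (nat_lit 0x30504000201080706) (nat_lit 775))
)))) (.node (nat_lit 0x30504010002080706) (.node (nat_lit 0x30504010002070608) (.node (nat_lit 0x30504010002060807) (.leaf (nat_lit 0x30504010002060708) (nat_lit 1289))
 (.leaf (nat_lit 0x30504010002060807) (nat_lit 1031))
) (.node (nat_lit 0x30504010002070806) (.leaf (nat_lit 0x30504010002070608) (nat_lit 1031))
 (.node (nat_lit 0x30504010002080607) (.leaf (nat_lit 0x30504010002070806) (nat_lit 1033))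
 (.leaf (nat_lit 0x30504010002080607) (nat_lit 1289))
))) (.node (nat_lit 0x30504010200060807) (.node (nat_lit 0x30504010200060708) (.leaf (nat_lit 0x30504010002080706) (nat_lit 775))
 (.leaf (nat_lit 0x30504010200060708) (nat_lit 1545))
) (.node (nat_lit 0x30504010200070608) (.leaf (nat_lit 0x30504010200060807) (nat_lit 1286))
 (.node (nat_lit 0x30504010200070806) (.leaf (nat_lit 0x30504010200070608) (nat_lit 1286))
 (.leaf (nat_lit 0x30504010200070806) (nat_lit 1289))
)))))) (.node (nat_lit 0x30504060807000102) (.node (nat_lit 0x30504020100070608) (.node (nat_lit 0x30504020001070806) (.node (nat_lit 0x30504020001060708) (.node (nat_lit 0x30504010200080706) (.leaf (nat_lit 0x30504010200080607) (nat_lit 1545))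
 (.leaf (nat_lit 0x30504010200080706) (nat_lit 1030))
) (.node (nat_lit 0x30504020001060807) (.leaf (nat_lit 0x30504020001060708) (nat_lit 1801))
 (.node (nat_lit 0x30504020001070608) (.leaf (nat_lit 0x30504020001060807) (nat_lit 1542))
 (.leaf (nat_lit 0x30504020001070608) (nat_lit 1542))
))) (.node (nat_lit 0x30504020001080706) (.node (nat_lit 0x30504020001080607) (.leaf (nat_lit 0x30504020001070806) (nat_lit 1545))
 (.leaf (nat_lit 0x30504020001080607) (nat_lit 1801))
) (.node (nat_lit 0x30504020100060708) (.leaf (nat_lit 0x30504020001080706) (nat_lit 1286))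
 (.node (nat_lit 0x30504020100060807) (.leaf (nat_lit 0x30504020100060708) (nat_lit 1033))
 (.leaf (nat_lit 0x30504020100060807) (nat_lit 775))
)))) (.node (nat_lit 0x30504060708000201) (.node (nat_lit 0x30504020100080607) (.node (nat_lit 0x30504020100070806) (.leaf (nat_lit 0x30504020100070608) (nat_lit 775))
 (.leaf (nat_lit 0x30504020100070806) (nat_lit 777))
) (.node (nat_lit 0x30504020100080706) (.leaf (nat_lit 0x30504020100080607) (nat_lit 1033))
 (.node (nat_lit 0x30504060708000102) (.leaf (nat_lit 0x30504020100080706) (nat_lit 519))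
 (.leaf (nat_lit 0x30504060708000102) (nat_lit 2057))
))) (.node (nat_lit 0x30504060708010200) (.node (nat_lit 0x30504060708010002) (.leaf (nat_lit 0x30504060708000201) (nat_lit 1545))
 (.leaf (nat_lit 0x30504060708010002) (nat_lit 1545))
) (.node (nat_lit 0x30504060708020001) (.leaf (nat_lit 0x30504060708010200) (nat_lit 1801))
 (.node (nat_lit 0x30504060708020100) (.leaf (nat_lit 0x30504060708020001) (nat_lit 2057))
 (.leaf (nat_lit 0x30504060708020100) (nat_lit 1289))
))))) (.node (nat_lit 0x30504070608020001) (.node (nat_lit 0x30504060807020100) (.node (nat_lit 0x30504060807010002) (.node (nat_lit 0x30504060807000201) (.leaf (nat_lit 0x30504060807000102) (nat_lit 1798))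
 (.leaf (nat_lit 0x30504060807000201) (nat_lit 1288))
) (.node (nat_lit 0x30504060807010200) (.leaf (nat_lit 0x30504060807010002) (nat_lit 1288))
 (.node (nat_lit 0x30504060807020001) (.leaf (nat_lit 0x30504060807010200) (nat_lit 1542))
 (.leaf (nat_lit 0x30504060807020001) (nat_lit 1798))
))) (.node (nat_lit 0x30504070608000201) (.node (nat_lit 0x30504070608000102) (.leaf (nat_lit 0x30504060807020100) (nat_lit 1032))
 (.leaf (nat_lit 0x30504070608000102) (nat_lit 1798))
) (.node (nat_lit 0x30504070608010002) (.leaf (nat_lit 0x30504070608000201) (nat_lit 1288))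
 (.node (nat_lit 0x30504070608010200) (.leaf (nat_lit 0x30504070608010002) (nat_lit 1288))
 (.leaf (nat_lit 0x30504070608010200) (nat_lit 1542))
)))) (.node (nat_lit 0x30504070806010200) (.node (nat_lit 0x30504070806000102) (.node (nat_lit 0x30504070608020100) (.leaf (nat_lit 0x30504070608020001) (nat_lit 1798))
 (.leaf (nat_lit 0x30504070608020100) (nat_lit 1032))
) (.node (nat_lit 0x30504070806000201) (.leaf (nat_lit 0x30504070806000102) (nat_lit 1801))
 (.node (nat_lit 0x30504070806010002) (.leaf (nat_lit 0x30504070806000201) (nat_lit 1289))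
 (.leaf (nat_lit 0x30504070806010002) (nat_lit 1289))
))) (.node (nat_lit 0x30504080607000102) (.node (nat_lit 0x30504070806020001) (.leaf (nat_lit 0x30504070806010200) (nat_lit 1545))
 (.node (nat_lit 0x30504070806020100) (.leaf (nat_lit 0x30504070806020001) (nat_lit 1801))
 (.leaf (nat_lit 0x30504070806020100) (nat_lit 1033))
)) (.node (nat_lit 0x30504080607000201) (.leaf (nat_lit 0x30504080607000102) (nat_lit 2057))
 (.node (nat_lit 0x30504080607010002) (.leaf (nat_lit 0x30504080607000201) (nat_lit 1545))
 (.leaf (nat_lit 0x30504080607010002) (nat_lit 1545))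
))))))) (.node (nat_lit 0x40305020100060807) (.node (nat_lit 0x40305000201080706) (.node (nat_lit 0x40305000102060807) (.node (nat_lit 0x30504080706010002) (.node (nat_lit 0x30504080607020100) (.node (nat_lit 0x30504080607020001) (.leaf (nat_lit 0x30504080607010200) (nat_lit 1801))
 (.leaf (nat_lit 0x30504080607020001) (nat_lit 2057))
) (.node (nat_lit 0x30504080706000102) (.leaf (nat_lit 0x30504080607020100) (nat_lit 1289))
 (.node (nat_lit 0x30504080706000201) (.leaf (nat_lit 0x30504080706000102) (nat_lit 1542))
 (.leaf (nat_lit 0x30504080706000201) (nat_lit 1032))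
))) (.node (nat_lit 0x30504080706020001) (.node (nat_lit 0x30504080706010200) (.leaf (nat_lit 0x30504080706010002) (nat_lit 1032))
 (.leaf (nat_lit 0x30504080706010200) (nat_lit 1286))
) (.node (nat_lit 0x30504080706020100) (.leaf (nat_lit 0x30504080706020001) (nat_lit 1542))
 (.node (nat_lit 0x40305000102060708) (.leaf (nat_lit 0x30504080706020100) (nat_lit 776))
 (.leaf (nat_lit 0x40305000102060708) (nat_lit 1801))
)))) (.node (nat_lit 0x40305000201060708) (.node (nat_lit 0x40305000102070806) (.node (nat_lit 0x40305000102070608) (.leaf (nat_lit 0x40305000102060807) (nat_lit 1542))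
 (.leaf (nat_lit 0x40305000102070608) (nat_lit 1542))
) (.node (nat_lit 0x40305000102080607) (.leaf (nat_lit 0x40305000102070806) (nat_lit 1545))
 (.node (nat_lit 0x40305000102080706) (.leaf (nat_lit 0x40305000102080607) (nat_lit 1801))
 (.leaf (nat_lit 0x40305000102080706) (nat_lit 1286))
))) (.node (nat_lit 0x40305000201070608) (.node (nat_lit 0x40305000201060807) (.leaf (nat_lit 0x40305000201060708) (nat_lit 1289))
 (.leaf (nat_lit 0x40305000201060807) (nat_lit 1031))
) (.node (nat_lit 0x40305000201070806) (.leaf (nat_lit 0x40305000201070608) (nat_lit 1031))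
 (.node (nat_lit 0x40305000201080607) (.leaf (nat_lit 0x40305000201070806) (nat_lit 1033))
 (.leaf (nat_lit 0x40305000201080607) (nat_lit 1289))
))))) (.node (nat_lit 0x40305010200070806) (.node (nat_lit 0x40305010002080607) (.node (nat_lit 0x40305010002060807) (.node (nat_lit 0x40305010002060708) (.leaf (nat_lit 0x40305000201080706) (nat_lit 775))
 (.leaf (nat_lit 0x40305010002060708) (nat_lit 1289))
) (.node (nat_lit 0x40305010002070608) (.leaf (nat_lit 0x40305010002060807) (nat_lit 1031))
 (.node (nat_lit 0x40305010002070806) (.leaf (nat_lit 0x40305010002070608) (nat_lit 1031))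
 (.leaf (nat_lit 0x40305010002070806) (nat_lit 1033))
))) (.node (nat_lit 0x40305010200060708) (.node (nat_lit 0x40305010002080706) (.leaf (nat_lit 0x40305010002080607) (nat_lit 1289))
 (.leaf (nat_lit 0x40305010002080706) (nat_lit 775))
) (.node (nat_lit 0x40305010200060807) (.leaf (nat_lit 0x40305010200060708) (nat_lit 1545))
 (.node (nat_lit 0x40305010200070608) (.leaf (nat_lit 0x40305010200060807) (nat_lit 1286))
 (.leaf (nat_lit 0x40305010200070608) (nat_lit 1286))
)))) (.node (nat_lit 0x40305020001070608) (.node (nat_lit 0x40305010200080706) (.node (nat_lit 0x40305010200080607) (.leaf (nat_lit 0x40305010200070806) (nat_lit 1289))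
 (.leaf (nat_lit 0x40305010200080607) (nat_lit 1545))
) (.node (nat_lit 0x40305020001060708) (.leaf (nat_lit 0x40305010200080706) (nat_lit 1030))
 (.node (nat_lit 0x40305020001060807) (.leaf (nat_lit 0x40305020001060708) (nat_lit 1801))
 (.leaf (nat_lit 0x40305020001060807) (nat_lit 1542))
))) (.node (nat_lit 0x40305020001080607) (.node (nat_lit 0x40305020001070806) (.leaf (nat_lit 0x40305020001070608) (nat_lit 1542))
 (.leaf (nat_lit 0x40305020001070806) (nat_lit 1545))
) (.node (nat_lit 0x40305020001080706) (.leaf (nat_lit 0x40305020001080607) (nat_lit 1801))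
 (.node (nat_lit 0x40305020100060708) (.leaf (nat_lit 0x40305020001080706) (nat_lit 1286))
 (.leaf (nat_lit 0x40305020100060708) (nat_lit 1033))
)))))) (.node (nat_lit 0x40305070608010200) (.node (nat_lit 0x40305060708020100) (.node (nat_lit 0x40305060708000102) (.node (nat_lit 0x40305020100070806) (.node (nat_lit 0x40305020100070608) (.leaf (nat_lit 0x40305020100060807) (nat_lit 775))
 (.leaf (nat_lit 0x40305020100070608) (nat_lit 775))
) (.node (nat_lit 0x40305020100080607) (.leaf (nat_lit 0x40305020100070806) (nat_lit 777))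
 (.node (nat_lit 0x40305020100080706) (.leaf (nat_lit 0x40305020100080607) (nat_lit 1033))
 (.leaf (nat_lit 0x40305020100080706) (nat_lit 519))
))) (.node (nat_lit 0x40305060708010002) (.node (nat_lit 0x40305060708000201) (.leaf (nat_lit 0x40305060708000102) (nat_lit 2057))
 (.leaf (nat_lit 0x40305060708000201) (nat_lit 1545))
) (.node (nat_lit 0x40305060708010200) (.leaf (nat_lit 0x40305060708010002) (nat_lit 1545))
 (.node (nat_lit 0x40305060708020001) (.leaf (nat_lit 0x40305060708010200) (nat_lit 1801))
 (.leaf (nat_lit 0x40305060708020001) (nat_lit 2057))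
)))) (.node (nat_lit 0x40305060807020001) (.node (nat_lit 0x40305060807000201) (.node (nat_lit 0x40305060807000102) (.leaf (nat_lit 0x40305060708020100) (nat_lit 1289))
 (.leaf (nat_lit 0x40305060807000102) (nat_lit 1798))
) (.node (nat_lit 0x40305060807010002) (.leaf (nat_lit 0x40305060807000201) (nat_lit 1288))
 (.node (nat_lit 0x40305060807010200) (.leaf (nat_lit 0x40305060807010002) (nat_lit 1288))
 (.leaf (nat_lit 0x40305060807010200) (nat_lit 1542))
))) (.node (nat_lit 0x40305070608000102) (.node (nat_lit 0x40305060807020100) (.leaf (nat_lit 0x40305060807020001) (nat_lit 1798))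
 (.leaf (nat_lit 0x40305060807020100) (nat_lit 1032))
) (.node (nat_lit 0x40305070608000201) (.leaf (nat_lit 0x40305070608000102) (nat_lit 1798))
 (.node (nat_lit 0x40305070608010002) (.leaf (nat_lit 0x40305070608000201) (nat_lit 1288))
 (.leaf (nat_lit 0x40305070608010002) (nat_lit 1288))
))))) (.node (nat_lit 0x40305080607000201) (.node (nat_lit 0x40305070806010002) (.node (nat_lit 0x40305070608020100) (.node (nat_lit 0x40305070608020001) (.leaf (nat_lit 0x40305070608010200) (nat_lit 1542))
 (.leaf (nat_lit 0x40305070608020001) (nat_lit 1798))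
) (.node (nat_lit 0x40305070806000102) (.leaf (nat_lit 0x40305070608020100) (nat_lit 1032))
 (.node (nat_lit 0x40305070806000201) (.leaf (nat_lit 0x40305070806000102) (nat_lit 1801))
 (.leaf (nat_lit 0x40305070806000201) (nat_lit 1289))
))) (.node (nat_lit 0x40305070806020001) (.node (nat_lit 0x40305070806010200) (.leaf (nat_lit 0x40305070806010002) (nat_lit 1289))
 (.leaf (nat_lit 0x40305070806010200) (nat_lit 1545))
) (.node (nat_lit 0x40305070806020100) (.leaf (nat_lit 0x40305070806020001) (nat_lit 1801))
 (.node (nat_lit 0x40305080607000102) (.leaf (nat_lit 0x40305070806020100) (nat_lit 1033))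
 (.leaf (nat_lit 0x40305080607000102) (nat_lit 2057))
)))) (.node (nat_lit 0x40305080706000102) (.node (nat_lit 0x40305080607010200) (.node (nat_lit 0x40305080607010002) (.leaf (nat_lit 0x40305080607000201) (nat_lit 1545))
 (.leaf (nat_lit 0x40305080607010002) (nat_lit 1545))
) (.node (nat_lit 0x40305080607020001) (.leaf (nat_lit 0x40305080607010200) (nat_lit 1801))
 (.node (nat_lit 0x40305080607020100) (.leaf (nat_lit 0x40305080607020001) (nat_lit 2057))
 (.leaf (nat_lit 0x40305080607020100) (nat_lit 1289))
))) (.node (nat_lit 0x40305080706010200) (.node (nat_lit 0x40305080706000201) (.leaf (nat_lit 0x40305080706000102) (nat_lit 1542))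
 (.node (nat_lit 0x40305080706010002) (.leaf (nat_lit 0x40305080706000201) (nat_lit 1032))
 (.leaf (nat_lit 0x40305080706010002) (nat_lit 1032))
)) (.node (nat_lit 0x40305080706020001) (.leaf (nat_lit 0x40305080706010200) (nat_lit 1286))
 (.node (nat_lit 0x40305080706020100) (.leaf (nat_lit 0x40305080706020001) (nat_lit 1542))
 (.leaf (nat_lit 0x40305080706020100) (nat_lit 776))
)))))))))) (.node (nat_lit 0x60807030405000102) (.node (nat_lit 0x50403010200060708) (.node (nat_lit 0x50304000201070806) (.node (nat_lit 0x40503060708020001) (.node (nat_lit 0x40503010200070608) (.node (nat_lit 0x40503000201080607) (.node (nat_lit 0x40503000102080706) (.node (nat_lit 0x40503000102070608) (.node (nat_lit 0x40503000102060807) (.leaf (nat_lit 0x40503000102060708) (nat_lit 1801))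
 (.leaf (nat_lit 0x40503000102060807) (nat_lit 1542))
) (.node (nat_lit 0x40503000102070806) (.leaf (nat_lit 0x40503000102070608) (nat_lit 1542))
 (.node (nat_lit 0x40503000102080607) (.leaf (nat_lit 0x40503000102070806) (nat_lit 1545))
 (.leaf (nat_lit 0x40503000102080607) (nat_lit 1801))
))) (.node (nat_lit 0x40503000201060807) (.node (nat_lit 0x40503000201060708) (.leaf (nat_lit 0x40503000102080706) (nat_lit 1286))
 (.leaf (nat_lit 0x40503000201060708) (nat_lit 1289))
) (.node (nat_lit 0x40503000201070608) (.leaf (nat_lit 0x40503000201060807) (nat_lit 1031))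
 (.node (nat_lit 0x40503000201070806) (.leaf (nat_lit 0x40503000201070608) (nat_lit 1031))
 (.leaf (nat_lit 0x40503000201070806) (nat_lit 1033))
)))) (.node (nat_lit 0x40503010002070806) (.node (nat_lit 0x40503010002060708) (.node (nat_lit 0x40503000201080706) (.leaf (nat_lit 0x40503000201080607) (nat_lit 1289))
 (.leaf (nat_lit 0x40503000201080706) (nat_lit 775))
) (.node (nat_lit 0x40503010002060807) (.leaf (nat_lit 0x40503010002060708) (nat_lit 1289))
 (.node (nat_lit 0x40503010002070608) (.leaf (nat_lit 0x40503010002060807) (nat_lit 1031))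
 (.leaf (nat_lit 0x40503010002070608) (nat_lit 1031))
))) (.node (nat_lit 0x40503010002080706) (.node (nat_lit 0x40503010002080607) (.leaf (nat_lit 0x40503010002070806) (nat_lit 1033))
 (.leaf (nat_lit 0x40503010002080607) (nat_lit 1289))
) (.node (nat_lit 0x40503010200060708) (.leaf (nat_lit 0x40503010002080706) (nat_lit 775))
 (.node (nat_lit 0x40503010200060807) (.leaf (nat_lit 0x40503010200060708) (nat_lit 1545))
 (.leaf (nat_lit 0x40503010200060807) (nat_lit 1286))
))))) (.node (nat_lit 0x40503020100060708) (.node (nat_lit 0x40503020001060807) (.node (nat_lit 0x40503010200080607) (.node (nat_lit 0x40503010200070806) (.leaf (nat_lit 0x40503010200070608) (nat_lit 1286))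
 (.leaf (nat_lit 0x40503010200070806) (nat_lit 1289))
) (.node (nat_lit 0x40503010200080706) (.leaf (nat_lit 0x40503010200080607) (nat_lit 1545))
 (.node (nat_lit 0x40503020001060708) (.leaf (nat_lit 0x40503010200080706) (nat_lit 1030))
 (.leaf (nat_lit 0x40503020001060708) (nat_lit 1801))
))) (.node (nat_lit 0x40503020001070806) (.node (nat_lit 0x40503020001070608) (.leaf (nat_lit 0x40503020001060807) (nat_lit 1542))
 (.leaf (nat_lit 0x40503020001070608) (nat_lit 1542))
) (.node (nat_lit 0x40503020001080607) (.leaf (nat_lit 0x40503020001070806) (nat_lit 1545))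
 (.node (nat_lit 0x40503020001080706) (.leaf (nat_lit 0x40503020001080607) (nat_lit 1801))
 (.leaf (nat_lit 0x40503020001080706) (nat_lit 1286))
)))) (.node (nat_lit 0x40503020100080706) (.node (nat_lit 0x40503020100070608) (.node (nat_lit 0x40503020100060807) (.leaf (nat_lit 0x40503020100060708) (nat_lit 1033))
 (.leaf (nat_lit 0x40503020100060807) (nat_lit 775))
) (.node (nat_lit 0x40503020100070806) (.leaf (nat_lit 0x40503020100070608) (nat_lit 775))
 (.node (nat_lit 0x40503020100080607) (.leaf (nat_lit 0x40503020100070806) (nat_lit 777))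
 (.leaf (nat_lit 0x40503020100080607) (nat_lit 1033))
))) (.node (nat_lit 0x40503060708000201) (.node (nat_lit 0x40503060708000102) (.leaf (nat_lit 0x40503020100080706) (nat_lit 519))
 (.leaf (nat_lit 0x40503060708000102) (nat_lit 2057))
) (.node (nat_lit 0x40503060708010002) (.leaf (nat_lit 0x40503060708000201) (nat_lit 1545))
 (.node (nat_lit 0x40503060708010200) (.leaf (nat_lit 0x40503060708010002) (nat_lit 1545))
 (.leaf (nat_lit 0x40503060708010200) (nat_lit 1801))
)))))) (.node (nat_lit 0x40503080607000102) (.node (nat_lit 0x40503070608010002) (.node (nat_lit 0x40503060807010200) (.node (nat_lit 0x40503060807000102) (.node (nat_lit 0x40503060708020100) (.leaf (nat_lit 0x40503060708020001) (nat_lit 2057))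
 (.leaf (nat_lit 0x40503060708020100) (nat_lit 1289))
) (.node (nat_lit 0x40503060807000201) (.leaf (nat_lit 0x40503060807000102) (nat_lit 1798))
 (.node (nat_lit 0x40503060807010002) (.leaf (nat_lit 0x40503060807000201) (nat_lit 1287))
 (.leaf (nat_lit 0x40503060807010002) (nat_lit 1287))
))) (.node (nat_lit 0x40503060807020100) (.node (nat_lit 0x40503060807020001) (.leaf (nat_lit 0x40503060807010200) (nat_lit 1542))
 (.leaf (nat_lit 0x40503060807020001) (nat_lit 1798))
) (.node (nat_lit 0x40503070608000102) (.leaf (nat_lit 0x40503060807020100) (nat_lit 1031))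
 (.node (nat_lit 0x40503070608000201) (.leaf (nat_lit 0x40503070608000102) (nat_lit 1798))
 (.leaf (nat_lit 0x40503070608000201) (nat_lit 1287))
)))) (.node (nat_lit 0x40503070806000201) (.node (nat_lit 0x40503070608020001) (.node (nat_lit 0x40503070608010200) (.leaf (nat_lit 0x40503070608010002) (nat_lit 1287))
 (.leaf (nat_lit 0x40503070608010200) (nat_lit 1542))
) (.node (nat_lit 0x40503070608020100) (.leaf (nat_lit 0x40503070608020001) (nat_lit 1798))
 (.node (nat_lit 0x40503070806000102) (.leaf (nat_lit 0x40503070608020100) (nat_lit 1031))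
 (.leaf (nat_lit 0x40503070806000102) (nat_lit 1801))
))) (.node (nat_lit 0x40503070806010200) (.node (nat_lit 0x40503070806010002) (.leaf (nat_lit 0x40503070806000201) (nat_lit 1289))
 (.leaf (nat_lit 0x40503070806010002) (nat_lit 1289))
) (.node (nat_lit 0x40503070806020001) (.leaf (nat_lit 0x40503070806010200) (nat_lit 1545))
 (.node (nat_lit 0x40503070806020100) (.leaf (nat_lit 0x40503070806020001) (nat_lit 1801))
 (.leaf (nat_lit 0x40503070806020100) (nat_lit 1033))
))))) (.node (nat_lit 0x40503080706020001) (.node (nat_lit 0x40503080607020100) (.node (nat_lit 0x40503080607010002) (.node (nat_lit 0x40503080607000201) (.leaf (nat_lit 0x40503080607000102) (nat_lit 2057))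
 (.leaf (nat_lit 0x40503080607000201) (nat_lit 1545))
) (.node (nat_lit 0x40503080607010200) (.leaf (nat_lit 0x40503080607010002) (nat_lit 1545))
 (.node (nat_lit 0x40503080607020001) (.leaf (nat_lit 0x40503080607010200) (nat_lit 1801))
 (.leaf (nat_lit 0x40503080607020001) (nat_lit 2057))
))) (.node (nat_lit 0x40503080706000201) (.node (nat_lit 0x40503080706000102) (.leaf (nat_lit 0x40503080607020100) (nat_lit 1289))
 (.leaf (nat_lit 0x40503080706000102) (nat_lit 1542))
) (.node (nat_lit 0x40503080706010002) (.leaf (nat_lit 0x40503080706000201) (nat_lit 1031))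
 (.node (nat_lit 0x40503080706010200) (.leaf (nat_lit 0x40503080706010002) (nat_lit 1031))
 (.leaf (nat_lit 0x40503080706010200) (nat_lit 1286))
)))) (.node (nat_lit 0x50304000102070806) (.node (nat_lit 0x50304000102060708) (.node (nat_lit 0x40503080706020100) (.leaf (nat_lit 0x40503080706020001) (nat_lit 1542))
 (.leaf (nat_lit 0x40503080706020100) (nat_lit 775))
) (.node (nat_lit 0x50304000102060807) (.leaf (nat_lit 0x50304000102060708) (nat_lit 2057))
 (.node (nat_lit 0x50304000102070608) (.leaf (nat_lit 0x50304000102060807) (nat_lit 1798))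
 (.leaf (nat_lit 0x50304000102070608) (nat_lit 1798))
))) (.node (nat_lit 0x50304000201060708) (.node (nat_lit 0x50304000102080607) (.leaf (nat_lit 0x50304000102070806) (nat_lit 1801))
 (.node (nat_lit 0x50304000102080706) (.leaf (nat_lit 0x50304000102080607) (nat_lit 2057))
 (.leaf (nat_lit 0x50304000102080706) (nat_lit 1542))
)) (.node (nat_lit 0x50304000201060807) (.leaf (nat_lit 0x50304000201060708) (nat_lit 1545))
 (.node (nat_lit 0x50304000201070608) (.leaf (nat_lit 0x50304000201060807) (nat_lit 1287))
 (.leaf (nat_lit 0x50304000201070608) (nat_lit 1287))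
))))))) (.node (nat_lit 0x50304070608000201) (.node (nat_lit 0x50304020001080706) (.node (nat_lit 0x50304010200060807) (.node (nat_lit 0x50304010002070608) (.node (nat_lit 0x50304000201080706) (.node (nat_lit 0x50304000201080607) (.leaf (nat_lit 0x50304000201070806) (nat_lit 1289))
 (.leaf (nat_lit 0x50304000201080607) (nat_lit 1545))
) (.node (nat_lit 0x50304010002060708) (.leaf (nat_lit 0x50304000201080706) (nat_lit 1031))
 (.node (nat_lit 0x50304010002060807) (.leaf (nat_lit 0x50304010002060708) (nat_lit 1545))
 (.leaf (nat_lit 0x50304010002060807) (nat_lit 1287))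
))) (.node (nat_lit 0x50304010002080607) (.node (nat_lit 0x50304010002070806) (.leaf (nat_lit 0x50304010002070608) (nat_lit 1287))
 (.leaf (nat_lit 0x50304010002070806) (nat_lit 1289))
) (.node (nat_lit 0x50304010002080706) (.leaf (nat_lit 0x50304010002080607) (nat_lit 1545))
 (.node (nat_lit 0x50304010200060708) (.leaf (nat_lit 0x50304010002080706) (nat_lit 1031))
 (.leaf (nat_lit 0x50304010200060708) (nat_lit 1801))
)))) (.node (nat_lit 0x50304020001060708) (.node (nat_lit 0x50304010200070806) (.node (nat_lit 0x50304010200070608) (.leaf (nat_lit 0x50304010200060807) (nat_lit 1542))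
 (.leaf (nat_lit 0x50304010200070608) (nat_lit 1542))
) (.node (nat_lit 0x50304010200080607) (.leaf (nat_lit 0x50304010200070806) (nat_lit 1545))
 (.node (nat_lit 0x50304010200080706) (.leaf (nat_lit 0x50304010200080607) (nat_lit 1801))
 (.leaf (nat_lit 0x50304010200080706) (nat_lit 1286))
))) (.node (nat_lit 0x50304020001070608) (.node (nat_lit 0x50304020001060807) (.leaf (nat_lit 0x50304020001060708) (nat_lit 2057))
 (.leaf (nat_lit 0x50304020001060807) (nat_lit 1798))
) (.node (nat_lit 0x50304020001070806) (.leaf (nat_lit 0x50304020001070608) (nat_lit 1798))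
 (.node (nat_lit 0x50304020001080607) (.leaf (nat_lit 0x50304020001070806) (nat_lit 1801))
 (.leaf (nat_lit 0x50304020001080607) (nat_lit 2057))
))))) (.node (nat_lit 0x50304060708010200) (.node (nat_lit 0x50304020100080607) (.node (nat_lit 0x50304020100060807) (.node (nat_lit 0x50304020100060708) (.leaf (nat_lit 0x50304020001080706) (nat_lit 1542))
 (.leaf (nat_lit 0x50304020100060708) (nat_lit 1289))
) (.node (nat_lit 0x50304020100070608) (.leaf (nat_lit 0x50304020100060807) (nat_lit 1031))
 (.node (nat_lit 0x50304020100070806) (.leaf (nat_lit 0x50304020100070608) (nat_lit 1031))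
 (.leaf (nat_lit 0x50304020100070806) (nat_lit 1033))
))) (.node (nat_lit 0x50304060708000102) (.node (nat_lit 0x50304020100080706) (.leaf (nat_lit 0x50304020100080607) (nat_lit 1289))
 (.leaf (nat_lit 0x50304020100080706) (nat_lit 775))
) (.node (nat_lit 0x50304060708000201) (.leaf (nat_lit 0x50304060708000102) (nat_lit 2313))
 (.node (nat_lit 0x50304060708010002) (.leaf (nat_lit 0x50304060708000201) (nat_lit 1801))
 (.leaf (nat_lit 0x50304060708010002) (nat_lit 1801))
)))) (.node (nat_lit 0x50304060807010002) (.node (nat_lit 0x50304060708020100) (.node (nat_lit 0x50304060708020001) (.leaf (nat_lit 0x50304060708010200) (nat_lit 2057))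
 (.leaf (nat_lit 0x50304060708020001) (nat_lit 2313))
) (.node (nat_lit 0x50304060807000102) (.leaf (nat_lit 0x50304060708020100) (nat_lit 1545))
 (.node (nat_lit 0x50304060807000201) (.leaf (nat_lit 0x50304060807000102) (nat_lit 2054))
 (.leaf (nat_lit 0x50304060807000201) (nat_lit 1543))
))) (.node (nat_lit 0x50304060807020001) (.node (nat_lit 0x50304060807010200) (.leaf (nat_lit 0x50304060807010002) (nat_lit 1543))
 (.leaf (nat_lit 0x50304060807010200) (nat_lit 1798))
) (.node (nat_lit 0x50304060807020100) (.leaf (nat_lit 0x50304060807020001) (nat_lit 2054))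
 (.node (nat_lit 0x50304070608000102) (.leaf (nat_lit 0x50304060807020100) (nat_lit 1287))
 (.leaf (nat_lit 0x50304070608000102) (nat_lit 2054))
)))))) (.node (nat_lit 0x50304080706010200) (.node (nat_lit 0x50304070806020100) (.node (nat_lit 0x50304070806000102) (.node (nat_lit 0x50304070608010200) (.node (nat_lit 0x50304070608010002) (.leaf (nat_lit 0x50304070608000201) (nat_lit 1543))
 (.leaf (nat_lit 0x50304070608010002) (nat_lit 1543))
) (.node (nat_lit 0x50304070608020001) (.leaf (nat_lit 0x50304070608010200) (nat_lit 1798))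
 (.node (nat_lit 0x50304070608020100) (.leaf (nat_lit 0x50304070608020001) (nat_lit 2054))
 (.leaf (nat_lit 0x50304070608020100) (nat_lit 1287))
))) (.node (nat_lit 0x50304070806010002) (.node (nat_lit 0x50304070806000201) (.leaf (nat_lit 0x50304070806000102) (nat_lit 2057))
 (.leaf (nat_lit 0x50304070806000201) (nat_lit 1545))
) (.node (nat_lit 0x50304070806010200) (.leaf (nat_lit 0x50304070806010002) (nat_lit 1545))
 (.node (nat_lit 0x50304070806020001) (.leaf (nat_lit 0x50304070806010200) (nat_lit 1801))
 (.leaf (nat_lit 0x50304070806020001) (nat_lit 2057))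
)))) (.node (nat_lit 0x50304080607020001) (.node (nat_lit 0x50304080607000201) (.node (nat_lit 0x50304080607000102) (.leaf (nat_lit 0x50304070806020100) (nat_lit 1289))
 (.leaf (nat_lit 0x50304080607000102) (nat_lit 2313))
) (.node (nat_lit 0x50304080607010002) (.leaf (nat_lit 0x50304080607000201) (nat_lit 1801))
 (.node (nat_lit 0x50304080607010200) (.leaf (nat_lit 0x50304080607010002) (nat_lit 1801))
 (.leaf (nat_lit 0x50304080607010200) (nat_lit 2057))
))) (.node (nat_lit 0x50304080706000102) (.node (nat_lit 0x50304080607020100) (.leaf (nat_lit 0x50304080607020001) (nat_lit 2313))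
 (.leaf (nat_lit 0x50304080607020100) (nat_lit 1545))
) (.node (nat_lit 0x50304080706000201) (.leaf (nat_lit 0x50304080706000102) (nat_lit 1798))
 (.node (nat_lit 0x50304080706010002) (.leaf (nat_lit 0x50304080706000201) (nat_lit 1287))
 (.leaf (nat_lit 0x50304080706010002) (nat_lit 1287))
))))) (.node (nat_lit 0x50403000201060807) (.node (nat_lit 0x50403000102070608) (.node (nat_lit 0x50304080706020100) (.node (nat_lit 0x50304080706020001) (.leaf (nat_lit 0x50304080706010200) (nat_lit 1542))
 (.leaf (nat_lit 0x50304080706020001) (nat_lit 1798))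
) (.node (nat_lit 0x50403000102060708) (.leaf (nat_lit 0x50304080706020100) (nat_lit 1031))
 (.node (nat_lit 0x50403000102060807) (.leaf (nat_lit 0x50403000102060708) (nat_lit 1545))
 (.leaf (nat_lit 0x50403000102060807) (nat_lit 1286))
))) (.node (nat_lit 0x50403000102080607) (.node (nat_lit 0x50403000102070806) (.leaf (nat_lit 0x50403000102070608) (nat_lit 1286))
 (.leaf (nat_lit 0x50403000102070806) (nat_lit 1289))
) (.node (nat_lit 0x50403000102080706) (.leaf (nat_lit 0x50403000102080607) (nat_lit 1545))
 (.node (nat_lit 0x50403000201060708) (.leaf (nat_lit 0x50403000102080706) (nat_lit 1030))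
 (.leaf (nat_lit 0x50403000201060708) (nat_lit 1033))
)))) (.node (nat_lit 0x50403010002060708) (.node (nat_lit 0x50403000201070806) (.node (nat_lit 0x50403000201070608) (.leaf (nat_lit 0x50403000201060807) (nat_lit 775))
 (.leaf (nat_lit 0x50403000201070608) (nat_lit 775))
) (.node (nat_lit 0x50403000201080607) (.leaf (nat_lit 0x50403000201070806) (nat_lit 777))
 (.node (nat_lit 0x50403000201080706) (.leaf (nat_lit 0x50403000201080607) (nat_lit 1033))
 (.leaf (nat_lit 0x50403000201080706) (nat_lit 519))
))) (.node (nat_lit 0x50403010002070806) (.node (nat_lit 0x50403010002060807) (.leaf (nat_lit 0x50403010002060708) (nat_lit 1033))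
 (.node (nat_lit 0x50403010002070608) (.leaf (nat_lit 0x50403010002060807) (nat_lit 775))
 (.leaf (nat_lit 0x50403010002070608) (nat_lit 775))
)) (.node (nat_lit 0x50403010002080607) (.leaf (nat_lit 0x50403010002070806) (nat_lit 777))
 (.node (nat_lit 0x50403010002080706) (.leaf (nat_lit 0x50403010002080607) (nat_lit 1033))
 (.leaf (nat_lit 0x50403010002080706) (nat_lit 519))
)))))))) (.node (nat_lit 0x60708020001040503) (.node (nat_lit 0x50403070806020001) (.node (nat_lit 0x50403060708010002) (.node (nat_lit 0x50403020001080607) (.node (nat_lit 0x50403010200080706) (.node (nat_lit 0x50403010200070608) (.node (nat_lit 0x50403010200060807) (.leaf (nat_lit 0x50403010200060708) (nat_lit 1289))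
 (.leaf (nat_lit 0x50403010200060807) (nat_lit 1030))
) (.node (nat_lit 0x50403010200070806) (.leaf (nat_lit 0x50403010200070608) (nat_lit 1030))
 (.node (nat_lit 0x50403010200080607) (.leaf (nat_lit 0x50403010200070806) (nat_lit 1033))
 (.leaf (nat_lit 0x50403010200080607) (nat_lit 1289))
))) (.node (nat_lit 0x50403020001060807) (.node (nat_lit 0x50403020001060708) (.leaf (nat_lit 0x50403010200080706) (nat_lit 774))
 (.leaf (nat_lit 0x50403020001060708) (nat_lit 1545))
) (.node (nat_lit 0x50403020001070608) (.leaf (nat_lit 0x50403020001060807) (nat_lit 1286))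
 (.node (nat_lit 0x50403020001070806) (.leaf (nat_lit 0x50403020001070608) (nat_lit 1286))
 (.leaf (nat_lit 0x50403020001070806) (nat_lit 1289))
)))) (.node (nat_lit 0x50403020100070806) (.node (nat_lit 0x50403020100060708) (.node (nat_lit 0x50403020001080706) (.leaf (nat_lit 0x50403020001080607) (nat_lit 1545))
 (.leaf (nat_lit 0x50403020001080706) (nat_lit 1030))
) (.node (nat_lit 0x50403020100060807) (.leaf (nat_lit 0x50403020100060708) (nat_lit 777))
 (.node (nat_lit 0x50403020100070608) (.leaf (nat_lit 0x50403020100060807) (nat_lit 519))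
 (.leaf (nat_lit 0x50403020100070608) (nat_lit 519))
))) (.node (nat_lit 0x50403020100080706) (.node (nat_lit 0x50403020100080607) (.leaf (nat_lit 0x50403020100070806) (nat_lit 521))
 (.leaf (nat_lit 0x50403020100080607) (nat_lit 777))
) (.node (nat_lit 0x50403060708000102) (.leaf (nat_lit 0x50403020100080706) (nat_lit 263))
 (.node (nat_lit 0x50403060708000201) (.leaf (nat_lit 0x50403060708000102) (nat_lit 1801))
 (.leaf (nat_lit 0x50403060708000201) (nat_lit 1289))
))))) (.node (nat_lit 0x50403070608000102) (.node (nat_lit 0x50403060807000201) (.node (nat_lit 0x50403060708020001) (.node (nat_lit 0x50403060708010200) (.leaf (nat_lit 0x50403060708010002) (nat_lit 1289))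
 (.leaf (nat_lit 0x50403060708010200) (nat_lit 1545))
) (.node (nat_lit 0x50403060708020100) (.leaf (nat_lit 0x50403060708020001) (nat_lit 1801))
 (.node (nat_lit 0x50403060807000102) (.leaf (nat_lit 0x50403060708020100) (nat_lit 1033))
 (.leaf (nat_lit 0x50403060807000102) (nat_lit 1542))
))) (.node (nat_lit 0x50403060807010200) (.node (nat_lit 0x50403060807010002) (.leaf (nat_lit 0x50403060807000201) (nat_lit 1032))
 (.leaf (nat_lit 0x50403060807010002) (nat_lit 1032))
) (.node (nat_lit 0x50403060807020001) (.leaf (nat_lit 0x50403060807010200) (nat_lit 1286))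
 (.node (nat_lit 0x50403060807020100) (.leaf (nat_lit 0x50403060807020001) (nat_lit 1542))
 (.leaf (nat_lit 0x50403060807020100) (nat_lit 776))
)))) (.node (nat_lit 0x50403070608020100) (.node (nat_lit 0x50403070608010002) (.node (nat_lit 0x50403070608000201) (.leaf (nat_lit 0x50403070608000102) (nat_lit 1542))
 (.leaf (nat_lit 0x50403070608000201) (nat_lit 1032))
) (.node (nat_lit 0x50403070608010200) (.leaf (nat_lit 0x50403070608010002) (nat_lit 1032))
 (.node (nat_lit 0x50403070608020001) (.leaf (nat_lit 0x50403070608010200) (nat_lit 1286))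
 (.leaf (nat_lit 0x50403070608020001) (nat_lit 1542))
))) (.node (nat_lit 0x50403070806000201) (.node (nat_lit 0x50403070806000102) (.leaf (nat_lit 0x50403070608020100) (nat_lit 776))
 (.leaf (nat_lit 0x50403070806000102) (nat_lit 1545))
) (.node (nat_lit 0x50403070806010002) (.leaf (nat_lit 0x50403070806000201) (nat_lit 1033))
 (.node (nat_lit 0x50403070806010200) (.leaf (nat_lit 0x50403070806010002) (nat_lit 1033))
 (.leaf (nat_lit 0x50403070806010200) (nat_lit 1289))
)))))) (.node (nat_lit 0x60708000201030405) (.node (nat_lit 0x50403080706010002) (.node (nat_lit 0x50403080607010200) (.node (nat_lit 0x50403080607000102) (.node (nat_lit 0x50403070806020100) (.leaf (nat_lit 0x50403070806020001) (nat_lit 1545))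
 (.leaf (nat_lit 0x50403070806020100) (nat_lit 777))
) (.node (nat_lit 0x50403080607000201) (.leaf (nat_lit 0x50403080607000102) (nat_lit 1801))
 (.node (nat_lit 0x50403080607010002) (.leaf (nat_lit 0x50403080607000201) (nat_lit 1289))
 (.leaf (nat_lit 0x50403080607010002) (nat_lit 1289))
))) (.node (nat_lit 0x50403080607020100) (.node (nat_lit 0x50403080607020001) (.leaf (nat_lit 0x50403080607010200) (nat_lit 1545))
 (.leaf (nat_lit 0x50403080607020001) (nat_lit 1801))
) (.node (nat_lit 0x50403080706000102) (.leaf (nat_lit 0x50403080607020100) (nat_lit 1033))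
 (.node (nat_lit 0x50403080706000201) (.leaf (nat_lit 0x50403080706000102) (nat_lit 1286))
 (.leaf (nat_lit 0x50403080706000201) (nat_lit 776))
)))) (.node (nat_lit 0x60708000102030504) (.node (nat_lit 0x50403080706020001) (.node (nat_lit 0x50403080706010200) (.leaf (nat_lit 0x50403080706010002) (nat_lit 776))
 (.leaf (nat_lit 0x50403080706010200) (nat_lit 1030))
) (.node (nat_lit 0x50403080706020100) (.leaf (nat_lit 0x50403080706020001) (nat_lit 1286))
 (.node (nat_lit 0x60708000102030405) (.leaf (nat_lit 0x50403080706020100) (nat_lit 520))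
 (.leaf (nat_lit 0x60708000102030405) (nat_lit 2569))
))) (.node (nat_lit 0x60708000102040503) (.node (nat_lit 0x60708000102040305) (.leaf (nat_lit 0x60708000102030504) (nat_lit 2057))
 (.leaf (nat_lit 0x60708000102040305) (nat_lit 2057))
) (.node (nat_lit 0x60708000102050304) (.leaf (nat_lit 0x60708000102040503) (nat_lit 2313))
 (.node (nat_lit 0x60708000102050403) (.leaf (nat_lit 0x60708000102050304) (nat_lit 2569))
 (.leaf (nat_lit 0x60708000102050403) (nat_lit 1801))
))))) (.node (nat_lit 0x60708010002050304) (.node (nat_lit 0x60708000201050403) (.node (nat_lit 0x60708000201040305) (.node (nat_lit 0x60708000201030504) (.leaf (nat_lit 0x60708000201030405) (nat_lit 2057))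
 (.leaf (nat_lit 0x60708000201030504) (nat_lit 1289))
) (.node (nat_lit 0x60708000201040503) (.leaf (nat_lit 0x60708000201040305) (nat_lit 1289))
 (.node (nat_lit 0x60708000201050304) (.leaf (nat_lit 0x60708000201040503) (nat_lit 1801))
 (.leaf (nat_lit 0x60708000201050304) (nat_lit 2057))
))) (.node (nat_lit 0x60708010002030504) (.node (nat_lit 0x60708010002030405) (.leaf (nat_lit 0x60708000201050403) (nat_lit 1033))
 (.leaf (nat_lit 0x60708010002030405) (nat_lit 2057))
) (.node (nat_lit 0x60708010002040305) (.leaf (nat_lit 0x60708010002030504) (nat_lit 1289))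
 (.node (nat_lit 0x60708010002040503) (.leaf (nat_lit 0x60708010002040305) (nat_lit 1289))
 (.leaf (nat_lit 0x60708010002040503) (nat_lit 1801))
)))) (.node (nat_lit 0x60708010200040503) (.node (nat_lit 0x60708010200030405) (.node (nat_lit 0x60708010002050403) (.leaf (nat_lit 0x60708010002050304) (nat_lit 2057))
 (.leaf (nat_lit 0x60708010002050403) (nat_lit 1033))
) (.node (nat_lit 0x60708010200030504) (.leaf (nat_lit 0x60708010200030405) (nat_lit 2313))
 (.node (nat_lit 0x60708010200040305) (.leaf (nat_lit 0x60708010200030504) (nat_lit 1801))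
 (.leaf (nat_lit 0x60708010200040305) (nat_lit 1801))
))) (.node (nat_lit 0x60708020001030405) (.node (nat_lit 0x60708010200050304) (.leaf (nat_lit 0x60708010200040503) (nat_lit 2057))
 (.node (nat_lit 0x60708010200050403) (.leaf (nat_lit 0x60708010200050304) (nat_lit 2313))
 (.leaf (nat_lit 0x60708010200050403) (nat_lit 1545))
)) (.node (nat_lit 0x60708020001030504) (.leaf (nat_lit 0x60708020001030405) (nat_lit 2569))
 (.node (nat_lit 0x60708020001040305) (.leaf (nat_lit 0x60708020001030504) (nat_lit 2057))
 (.leaf (nat_lit 0x60708020001040305) (nat_lit 2057))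
))))))) (.node (nat_lit 0x60708050403000201) (.node (nat_lit 0x60708030504020100) (.node (nat_lit 0x60708030405000201) (.node (nat_lit 0x60708020100040305) (.node (nat_lit 0x60708020001050403) (.node (nat_lit 0x60708020001050304) (.leaf (nat_lit 0x60708020001040503) (nat_lit 2313))
 (.leaf (nat_lit 0x60708020001050304) (nat_lit 2569))
) (.node (nat_lit 0x60708020100030405) (.leaf (nat_lit 0x60708020001050403) (nat_lit 1801))
 (.node (nat_lit 0x60708020100030504) (.leaf (nat_lit 0x60708020100030405) (nat_lit 1801))
 (.leaf (nat_lit 0x60708020100030504) (nat_lit 1033))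
))) (.node (nat_lit 0x60708020100050304) (.node (nat_lit 0x60708020100040503) (.leaf (nat_lit 0x60708020100040305) (nat_lit 1033))
 (.leaf (nat_lit 0x60708020100040503) (nat_lit 1545))
) (.node (nat_lit 0x60708020100050403) (.leaf (nat_lit 0x60708020100050304) (nat_lit 1801))
 (.node (nat_lit 0x60708030405000102) (.leaf (nat_lit 0x60708020100050403) (nat_lit 777))
 (.leaf (nat_lit 0x60708030405000102) (nat_lit 2313))
)))) (.node (nat_lit 0x60708030504000102) (.node (nat_lit 0x60708030405010200) (.node (nat_lit 0x60708030405010002) (.leaf (nat_lit 0x60708030405000201) (nat_lit 1801))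
 (.leaf (nat_lit 0x60708030405010002) (nat_lit 1801))
) (.node (nat_lit 0x60708030405020001) (.leaf (nat_lit 0x60708030405010200) (nat_lit 2057))
 (.node (nat_lit 0x60708030405020100) (.leaf (nat_lit 0x60708030405020001) (nat_lit 2313))
 (.leaf (nat_lit 0x60708030405020100) (nat_lit 1545))
))) (.node (nat_lit 0x60708030504010002) (.node (nat_lit 0x60708030504000201) (.leaf (nat_lit 0x60708030504000102) (nat_lit 1801))
 (.leaf (nat_lit 0x60708030504000201) (nat_lit 1033))
) (.node (nat_lit 0x60708030504010200) (.leaf (nat_lit 0x60708030504010002) (nat_lit 1033))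
 (.node (nat_lit 0x60708030504020001) (.leaf (nat_lit 0x60708030504010200) (nat_lit 1545))
 (.leaf (nat_lit 0x60708030504020001) (nat_lit 1801))
))))) (.node (nat_lit 0x60708040503010200) (.node (nat_lit 0x60708040305020001) (.node (nat_lit 0x60708040305000201) (.node (nat_lit 0x60708040305000102) (.leaf (nat_lit 0x60708030504020100) (nat_lit 777))
 (.leaf (nat_lit 0x60708040305000102) (nat_lit 1801))
) (.node (nat_lit 0x60708040305010002) (.leaf (nat_lit 0x60708040305000201) (nat_lit 1033))
 (.node (nat_lit 0x60708040305010200) (.leaf (nat_lit 0x60708040305010002) (nat_lit 1033))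
 (.leaf (nat_lit 0x60708040305010200) (nat_lit 1545))
))) (.node (nat_lit 0x60708040503000102) (.node (nat_lit 0x60708040305020100) (.leaf (nat_lit 0x60708040305020001) (nat_lit 1801))
 (.leaf (nat_lit 0x60708040305020100) (nat_lit 777))
) (.node (nat_lit 0x60708040503000201) (.leaf (nat_lit 0x60708040503000102) (nat_lit 2057))
 (.node (nat_lit 0x60708040503010002) (.leaf (nat_lit 0x60708040503000201) (nat_lit 1545))
 (.leaf (nat_lit 0x60708040503010002) (nat_lit 1545))
)))) (.node (nat_lit 0x60708050304010002) (.node (nat_lit 0x60708040503020100) (.node (nat_lit 0x60708040503020001) (.leaf (nat_lit 0x60708040503010200) (nat_lit 1801))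
 (.leaf (nat_lit 0x60708040503020001) (nat_lit 2057))
) (.node (nat_lit 0x60708050304000102) (.leaf (nat_lit 0x60708040503020100) (nat_lit 1289))
 (.node (nat_lit 0x60708050304000201) (.leaf (nat_lit 0x60708050304000102) (nat_lit 2313))
 (.leaf (nat_lit 0x60708050304000201) (nat_lit 1801))
))) (.node (nat_lit 0x60708050304020001) (.node (nat_lit 0x60708050304010200) (.leaf (nat_lit 0x60708050304010002) (nat_lit 1801))
 (.leaf (nat_lit 0x60708050304010200) (nat_lit 2057))
) (.node (nat_lit 0x60708050304020100) (.leaf (nat_lit 0x60708050304020001) (nat_lit 2313))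
 (.node (nat_lit 0x60708050403000102) (.leaf (nat_lit 0x60708050304020100) (nat_lit 1545))
 (.leaf (nat_lit 0x60708050403000102) (nat_lit 1545))
)))))) (.node (nat_lit 0x60807010002040503) (.node (nat_lit 0x60807000102050403) (.node (nat_lit 0x60807000102030405) (.node (nat_lit 0x60708050403010200) (.node (nat_lit 0x60708050403010002) (.leaf (nat_lit 0x60708050403000201) (nat_lit 777))
 (.leaf (nat_lit 0x60708050403010002) (nat_lit 777))
) (.node (nat_lit 0x60708050403020001) (.leaf (nat_lit 0x60708050403010200) (nat_lit 1289))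
 (.node (nat_lit 0x60708050403020100) (.leaf (nat_lit 0x60708050403020001) (nat_lit 1545))
 (.leaf (nat_lit 0x60708050403020100) (nat_lit 521))
))) (.node (nat_lit 0x60807000102040305) (.node (nat_lit 0x60807000102030504) (.leaf (nat_lit 0x60807000102030405) (nat_lit 2311))
 (.leaf (nat_lit 0x60807000102030504) (nat_lit 1798))
) (.node (nat_lit 0x60807000102040503) (.leaf (nat_lit 0x60807000102040305) (nat_lit 1798))
 (.node (nat_lit 0x60807000102050304) (.leaf (nat_lit 0x60807000102040503) (nat_lit 2055))
 (.leaf (nat_lit 0x60807000102050304) (nat_lit 2311))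
)))) (.node (nat_lit 0x60807000201050304) (.node (nat_lit 0x60807000201030504) (.node (nat_lit 0x60807000201030405) (.leaf (nat_lit 0x60807000102050403) (nat_lit 1542))
 (.leaf (nat_lit 0x60807000201030405) (nat_lit 1799))
) (.node (nat_lit 0x60807000201040305) (.leaf (nat_lit 0x60807000201030504) (nat_lit 1032))
 (.node (nat_lit 0x60807000201040503) (.leaf (nat_lit 0x60807000201040305) (nat_lit 1032))
 (.leaf (nat_lit 0x60807000201040503) (nat_lit 1543))
))) (.node (nat_lit 0x60807010002030405) (.node (nat_lit 0x60807000201050403) (.leaf (nat_lit 0x60807000201050304) (nat_lit 1799))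
 (.leaf (nat_lit 0x60807000201050403) (nat_lit 776))
) (.node (nat_lit 0x60807010002030504) (.leaf (nat_lit 0x60807010002030405) (nat_lit 1799))
 (.node (nat_lit 0x60807010002040305) (.leaf (nat_lit 0x60807010002030504) (nat_lit 1032))
 (.leaf (nat_lit 0x60807010002040305) (nat_lit 1032))
))))) (.node (nat_lit 0x60807020001030504) (.node (nat_lit 0x60807010200040305) (.node (nat_lit 0x60807010002050403) (.node (nat_lit 0x60807010002050304) (.leaf (nat_lit 0x60807010002040503) (nat_lit 1543))
 (.leaf (nat_lit 0x60807010002050304) (nat_lit 1799))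
) (.node (nat_lit 0x60807010200030405) (.leaf (nat_lit 0x60807010002050403) (nat_lit 776))
 (.node (nat_lit 0x60807010200030504) (.leaf (nat_lit 0x60807010200030405) (nat_lit 2055))
 (.leaf (nat_lit 0x60807010200030504) (nat_lit 1542))
))) (.node (nat_lit 0x60807010200050304) (.node (nat_lit 0x60807010200040503) (.leaf (nat_lit 0x60807010200040305) (nat_lit 1542))
 (.leaf (nat_lit 0x60807010200040503) (nat_lit 1799))
) (.node (nat_lit 0x60807010200050403) (.leaf (nat_lit 0x60807010200050304) (nat_lit 2055))
 (.node (nat_lit 0x60807020001030405) (.leaf (nat_lit 0x60807010200050403) (nat_lit 1286))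
 (.leaf (nat_lit 0x60807020001030405) (nat_lit 2311))
)))) (.node (nat_lit 0x60807020100030405) (.node (nat_lit 0x60807020001040503) (.node (nat_lit 0x60807020001040305) (.leaf (nat_lit 0x60807020001030504) (nat_lit 1798))
 (.leaf (nat_lit 0x60807020001040305) (nat_lit 1798))
) (.node (nat_lit 0x60807020001050304) (.leaf (nat_lit 0x60807020001040503) (nat_lit 2055))
 (.node (nat_lit 0x60807020001050403) (.leaf (nat_lit 0x60807020001050304) (nat_lit 2311))
 (.leaf (nat_lit 0x60807020001050403) (nat_lit 1542))
))) (.node (nat_lit 0x60807020100040503) (.node (nat_lit 0x60807020100030504) (.leaf (nat_lit 0x60807020100030405) (nat_lit 1543))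
 (.node (nat_lit 0x60807020100040305) (.leaf (nat_lit 0x60807020100030504) (nat_lit 776))
 (.leaf (nat_lit 0x60807020100040305) (nat_lit 776))
)) (.node (nat_lit 0x60807020100050304) (.leaf (nat_lit 0x60807020100040503) (nat_lit 1287))
 (.node (nat_lit 0x60807020100050403) (.leaf (nat_lit 0x60807020100050304) (nat_lit 1543))
 (.leaf (nat_lit 0x60807020100050403) (nat_lit 520))
))))))))) (.node (nat_lit 0x70806040503000102) (.node (nat_lit 0x70608030504010200) (.node (nat_lit 0x70608000102050304) (.node (nat_lit 0x60807040503010002) (.node (nat_lit 0x60807030504020001) (.node (nat_lit 0x60807030405020100) (.node (nat_lit 0x60807030405010002) (.node (nat_lit 0x60807030405000201) (.leaf (nat_lit 0x60807030405000102) (nat_lit 2054))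
 (.leaf (nat_lit 0x60807030405000201) (nat_lit 1543))
) (.node (nat_lit 0x60807030405010200) (.leaf (nat_lit 0x60807030405010002) (nat_lit 1543))
 (.node (nat_lit 0x60807030405020001) (.leaf (nat_lit 0x60807030405010200) (nat_lit 1798))
 (.leaf (nat_lit 0x60807030405020001) (nat_lit 2054))
))) (.node (nat_lit 0x60807030504000201) (.node (nat_lit 0x60807030504000102) (.leaf (nat_lit 0x60807030405020100) (nat_lit 1287))
 (.leaf (nat_lit 0x60807030504000102) (nat_lit 1542))
) (.node (nat_lit 0x60807030504010002) (.leaf (nat_lit 0x60807030504000201) (nat_lit 772))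
 (.node (nat_lit 0x60807030504010200) (.leaf (nat_lit 0x60807030504010002) (nat_lit 772))
 (.leaf (nat_lit 0x60807030504010200) (nat_lit 1286))
)))) (.node (nat_lit 0x60807040305010200) (.node (nat_lit 0x60807040305000102) (.node (nat_lit 0x60807030504020100) (.leaf (nat_lit 0x60807030504020001) (nat_lit 1542))
 (.leaf (nat_lit 0x60807030504020100) (nat_lit 516))
) (.node (nat_lit 0x60807040305000201) (.leaf (nat_lit 0x60807040305000102) (nat_lit 1542))
 (.node (nat_lit 0x60807040305010002) (.leaf (nat_lit 0x60807040305000201) (nat_lit 772))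
 (.leaf (nat_lit 0x60807040305010002) (nat_lit 772))
))) (.node (nat_lit 0x60807040305020100) (.node (nat_lit 0x60807040305020001) (.leaf (nat_lit 0x60807040305010200) (nat_lit 1286))
 (.leaf (nat_lit 0x60807040305020001) (nat_lit 1542))
) (.node (nat_lit 0x60807040503000102) (.leaf (nat_lit 0x60807040305020100) (nat_lit 516))
 (.node (nat_lit 0x60807040503000201) (.leaf (nat_lit 0x60807040503000102) (nat_lit 1798))
 (.leaf (nat_lit 0x60807040503000201) (nat_lit 1287))
))))) (.node (nat_lit 0x60807050403000102) (.node (nat_lit 0x60807050304000201) (.node (nat_lit 0x60807040503020001) (.node (nat_lit 0x60807040503010200) (.leaf (nat_lit 0x60807040503010002) (nat_lit 1287))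
 (.leaf (nat_lit 0x60807040503010200) (nat_lit 1542))
) (.node (nat_lit 0x60807040503020100) (.leaf (nat_lit 0x60807040503020001) (nat_lit 1798))
 (.node (nat_lit 0x60807050304000102) (.leaf (nat_lit 0x60807040503020100) (nat_lit 1031))
 (.leaf (nat_lit 0x60807050304000102) (nat_lit 2054))
))) (.node (nat_lit 0x60807050304010200) (.node (nat_lit 0x60807050304010002) (.leaf (nat_lit 0x60807050304000201) (nat_lit 1543))
 (.leaf (nat_lit 0x60807050304010002) (nat_lit 1543))
) (.node (nat_lit 0x60807050304020001) (.leaf (nat_lit 0x60807050304010200) (nat_lit 1798))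
 (.node (nat_lit 0x60807050304020100) (.leaf (nat_lit 0x60807050304020001) (nat_lit 2054))
 (.leaf (nat_lit 0x60807050304020100) (nat_lit 1287))
)))) (.node (nat_lit 0x60807050403020100) (.node (nat_lit 0x60807050403010002) (.node (nat_lit 0x60807050403000201) (.leaf (nat_lit 0x60807050403000102) (nat_lit 1286))
 (.leaf (nat_lit 0x60807050403000201) (nat_lit 516))
) (.node (nat_lit 0x60807050403010200) (.leaf (nat_lit 0x60807050403010002) (nat_lit 516))
 (.node (nat_lit 0x60807050403020001) (.leaf (nat_lit 0x60807050403010200) (nat_lit 1030))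
 (.leaf (nat_lit 0x60807050403020001) (nat_lit 1286))
))) (.node (nat_lit 0x70608000102030504) (.node (nat_lit 0x70608000102030405) (.leaf (nat_lit 0x60807050403020100) (nat_lit 260))
 (.leaf (nat_lit 0x70608000102030405) (nat_lit 2311))
) (.node (nat_lit 0x70608000102040305) (.leaf (nat_lit 0x70608000102030504) (nat_lit 1798))
 (.node (nat_lit 0x70608000102040503) (.leaf (nat_lit 0x70608000102040305) (nat_lit 1798))
 (.leaf (nat_lit 0x70608000102040503) (nat_lit 2055))
)))))) (.node (nat_lit 0x70608020001030405) (.node (nat_lit 0x70608010002040305) (.node (nat_lit 0x70608000201040503) (.node (nat_lit 0x70608000201030405) (.node (nat_lit 0x70608000102050403) (.leaf (nat_lit 0x70608000102050304) (nat_lit 2311))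
 (.leaf (nat_lit 0x70608000102050403) (nat_lit 1542))
) (.node (nat_lit 0x70608000201030504) (.leaf (nat_lit 0x70608000201030405) (nat_lit 1799))
 (.node (nat_lit 0x70608000201040305) (.leaf (nat_lit 0x70608000201030504) (nat_lit 1032))
 (.leaf (nat_lit 0x70608000201040305) (nat_lit 1032))
))) (.node (nat_lit 0x70608000201050403) (.node (nat_lit 0x70608000201050304) (.leaf (nat_lit 0x70608000201040503) (nat_lit 1543))
 (.leaf (nat_lit 0x70608000201050304) (nat_lit 1799))
) (.node (nat_lit 0x70608010002030405) (.leaf (nat_lit 0x70608000201050403) (nat_lit 776))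
 (.node (nat_lit 0x70608010002030504) (.leaf (nat_lit 0x70608010002030405) (nat_lit 1799))
 (.leaf (nat_lit 0x70608010002030504) (nat_lit 1032))
)))) (.node (nat_lit 0x70608010200030504) (.node (nat_lit 0x70608010002050304) (.node (nat_lit 0x70608010002040503) (.leaf (nat_lit 0x70608010002040305) (nat_lit 1032))
 (.leaf (nat_lit 0x70608010002040503) (nat_lit 1543))
) (.node (nat_lit 0x70608010002050403) (.leaf (nat_lit 0x70608010002050304) (nat_lit 1799))
 (.node (nat_lit 0x70608010200030405) (.leaf (nat_lit 0x70608010002050403) (nat_lit 776))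
 (.leaf (nat_lit 0x70608010200030405) (nat_lit 2055))
))) (.node (nat_lit 0x70608010200040503) (.node (nat_lit 0x70608010200040305) (.leaf (nat_lit 0x70608010200030504) (nat_lit 1542))
 (.leaf (nat_lit 0x70608010200040305) (nat_lit 1542))
) (.node (nat_lit 0x70608010200050304) (.leaf (nat_lit 0x70608010200040503) (nat_lit 1799))
 (.node (nat_lit 0x70608010200050403) (.leaf (nat_lit 0x70608010200050304) (nat_lit 2055))
 (.leaf (nat_lit 0x70608010200050403) (nat_lit 1286))
))))) (.node (nat_lit 0x70608020100050304) (.node (nat_lit 0x70608020001050403) (.node (nat_lit 0x70608020001040305) (.node (nat_lit 0x70608020001030504) (.leaf (nat_lit 0x70608020001030405) (nat_lit 2311))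
 (.leaf (nat_lit 0x70608020001030504) (nat_lit 1798))
) (.node (nat_lit 0x70608020001040503) (.leaf (nat_lit 0x70608020001040305) (nat_lit 1798))
 (.node (nat_lit 0x70608020001050304) (.leaf (nat_lit 0x70608020001040503) (nat_lit 2055))
 (.leaf (nat_lit 0x70608020001050304) (nat_lit 2311))
))) (.node (nat_lit 0x70608020100030504) (.node (nat_lit 0x70608020100030405) (.leaf (nat_lit 0x70608020001050403) (nat_lit 1542))
 (.leaf (nat_lit 0x70608020100030405) (nat_lit 1543))
) (.node (nat_lit 0x70608020100040305) (.leaf (nat_lit 0x70608020100030504) (nat_lit 776))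
 (.node (nat_lit 0x70608020100040503) (.leaf (nat_lit 0x70608020100040305) (nat_lit 776))
 (.leaf (nat_lit 0x70608020100040503) (nat_lit 1287))
)))) (.node (nat_lit 0x70608030405010200) (.node (nat_lit 0x70608030405000102) (.node (nat_lit 0x70608020100050403) (.leaf (nat_lit 0x70608020100050304) (nat_lit 1543))
 (.leaf (nat_lit 0x70608020100050403) (nat_lit 520))
) (.node (nat_lit 0x70608030405000201) (.leaf (nat_lit 0x70608030405000102) (nat_lit 2054))
 (.node (nat_lit 0x70608030405010002) (.leaf (nat_lit 0x70608030405000201) (nat_lit 1543))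
 (.leaf (nat_lit 0x70608030405010002) (nat_lit 1543))
))) (.node (nat_lit 0x70608030504000102) (.node (nat_lit 0x70608030405020001) (.leaf (nat_lit 0x70608030405010200) (nat_lit 1798))
 (.node (nat_lit 0x70608030405020100) (.leaf (nat_lit 0x70608030405020001) (nat_lit 2054))
 (.leaf (nat_lit 0x70608030405020100) (nat_lit 1287))
)) (.node (nat_lit 0x70608030504000201) (.leaf (nat_lit 0x70608030504000102) (nat_lit 1542))
 (.node (nat_lit 0x70608030504010002) (.leaf (nat_lit 0x70608030504000201) (nat_lit 773))
 (.leaf (nat_lit 0x70608030504010002) (nat_lit 773))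
))))))) (.node (nat_lit 0x70806010002030504) (.node (nat_lit 0x70608050304020100) (.node (nat_lit 0x70608040503000201) (.node (nat_lit 0x70608040305010002) (.node (nat_lit 0x70608030504020100) (.node (nat_lit 0x70608030504020001) (.leaf (nat_lit 0x70608030504010200) (nat_lit 1286))
 (.leaf (nat_lit 0x70608030504020001) (nat_lit 1542))
) (.node (nat_lit 0x70608040305000102) (.leaf (nat_lit 0x70608030504020100) (nat_lit 517))
 (.node (nat_lit 0x70608040305000201) (.leaf (nat_lit 0x70608040305000102) (nat_lit 1542))
 (.leaf (nat_lit 0x70608040305000201) (nat_lit 773))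
))) (.node (nat_lit 0x70608040305020001) (.node (nat_lit 0x70608040305010200) (.leaf (nat_lit 0x70608040305010002) (nat_lit 773))
 (.leaf (nat_lit 0x70608040305010200) (nat_lit 1286))
) (.node (nat_lit 0x70608040305020100) (.leaf (nat_lit 0x70608040305020001) (nat_lit 1542))
 (.node (nat_lit 0x70608040503000102) (.leaf (nat_lit 0x70608040305020100) (nat_lit 517))
 (.leaf (nat_lit 0x70608040503000102) (nat_lit 1798))
)))) (.node (nat_lit 0x70608050304000102) (.node (nat_lit 0x70608040503010200) (.node (nat_lit 0x70608040503010002) (.leaf (nat_lit 0x70608040503000201) (nat_lit 1287))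
 (.leaf (nat_lit 0x70608040503010002) (nat_lit 1287))
) (.node (nat_lit 0x70608040503020001) (.leaf (nat_lit 0x70608040503010200) (nat_lit 1542))
 (.node (nat_lit 0x70608040503020100) (.leaf (nat_lit 0x70608040503020001) (nat_lit 1798))
 (.leaf (nat_lit 0x70608040503020100) (nat_lit 1031))
))) (.node (nat_lit 0x70608050304010002) (.node (nat_lit 0x70608050304000201) (.leaf (nat_lit 0x70608050304000102) (nat_lit 2054))
 (.leaf (nat_lit 0x70608050304000201) (nat_lit 1543))
) (.node (nat_lit 0x70608050304010200) (.leaf (nat_lit 0x70608050304010002) (nat_lit 1543))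
 (.node (nat_lit 0x70608050304020001) (.leaf (nat_lit 0x70608050304010200) (nat_lit 1798))
 (.leaf (nat_lit 0x70608050304020001) (nat_lit 2054))
))))) (.node (nat_lit 0x70806000102040503) (.node (nat_lit 0x70608050403020001) (.node (nat_lit 0x70608050403000201) (.node (nat_lit 0x70608050403000102) (.leaf (nat_lit 0x70608050304020100) (nat_lit 1287))
 (.leaf (nat_lit 0x70608050403000102) (nat_lit 1286))
) (.node (nat_lit 0x70608050403010002) (.leaf (nat_lit 0x70608050403000201) (nat_lit 517))
 (.node (nat_lit 0x70608050403010200) (.leaf (nat_lit 0x70608050403010002) (nat_lit 517))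
 (.leaf (nat_lit 0x70608050403010200) (nat_lit 1030))
))) (.node (nat_lit 0x70806000102030405) (.node (nat_lit 0x70608050403020100) (.leaf (nat_lit 0x70608050403020001) (nat_lit 1286))
 (.leaf (nat_lit 0x70608050403020100) (nat_lit 261))
) (.node (nat_lit 0x70806000102030504) (.leaf (nat_lit 0x70806000102030405) (nat_lit 2313))
 (.node (nat_lit 0x70806000102040305) (.leaf (nat_lit 0x70806000102030504) (nat_lit 1801))
 (.leaf (nat_lit 0x70806000102040305) (nat_lit 1801))
)))) (.node (nat_lit 0x70806000201040305) (.node (nat_lit 0x70806000102050403) (.node (nat_lit 0x70806000102050304) (.leaf (nat_lit 0x70806000102040503) (nat_lit 2057))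
 (.leaf (nat_lit 0x70806000102050304) (nat_lit 2313))
) (.node (nat_lit 0x70806000201030405) (.leaf (nat_lit 0x70806000102050403) (nat_lit 1545))
 (.node (nat_lit 0x70806000201030504) (.leaf (nat_lit 0x70806000201030405) (nat_lit 1801))
 (.leaf (nat_lit 0x70806000201030504) (nat_lit 1033))
))) (.node (nat_lit 0x70806000201050304) (.node (nat_lit 0x70806000201040503) (.leaf (nat_lit 0x70806000201040305) (nat_lit 1033))
 (.leaf (nat_lit 0x70806000201040503) (nat_lit 1545))
) (.node (nat_lit 0x70806000201050403) (.leaf (nat_lit 0x70806000201050304) (nat_lit 1801))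
 (.node (nat_lit 0x70806010002030405) (.leaf (nat_lit 0x70806000201050403) (nat_lit 777))
 (.leaf (nat_lit 0x70806010002030405) (nat_lit 1801))
)))))) (.node (nat_lit 0x70806020100040503) (.node (nat_lit 0x70806010200050403) (.node (nat_lit 0x70806010200030405) (.node (nat_lit 0x70806010002040503) (.node (nat_lit 0x70806010002040305) (.leaf (nat_lit 0x70806010002030504) (nat_lit 1033))
 (.leaf (nat_lit 0x70806010002040305) (nat_lit 1033))
) (.node (nat_lit 0x70806010002050304) (.leaf (nat_lit 0x70806010002040503) (nat_lit 1545))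
 (.node (nat_lit 0x70806010002050403) (.leaf (nat_lit 0x70806010002050304) (nat_lit 1801))
 (.leaf (nat_lit 0x70806010002050403) (nat_lit 777))
))) (.node (nat_lit 0x70806010200040305) (.node (nat_lit 0x70806010200030504) (.leaf (nat_lit 0x70806010200030405) (nat_lit 2057))
 (.leaf (nat_lit 0x70806010200030504) (nat_lit 1545))
) (.node (nat_lit 0x70806010200040503) (.leaf (nat_lit 0x70806010200040305) (nat_lit 1545))
 (.node (nat_lit 0x70806010200050304) (.leaf (nat_lit 0x70806010200040503) (nat_lit 1801))
 (.leaf (nat_lit 0x70806010200050304) (nat_lit 2057))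
)))) (.node (nat_lit 0x70806020001050304) (.node (nat_lit 0x70806020001030504) (.node (nat_lit 0x70806020001030405) (.leaf (nat_lit 0x70806010200050403) (nat_lit 1289))
 (.leaf (nat_lit 0x70806020001030405) (nat_lit 2313))
) (.node (nat_lit 0x70806020001040305) (.leaf (nat_lit 0x70806020001030504) (nat_lit 1801))
 (.node (nat_lit 0x70806020001040503) (.leaf (nat_lit 0x70806020001040305) (nat_lit 1801))
 (.leaf (nat_lit 0x70806020001040503) (nat_lit 2057))
))) (.node (nat_lit 0x70806020100030405) (.node (nat_lit 0x70806020001050403) (.leaf (nat_lit 0x70806020001050304) (nat_lit 2313))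
 (.leaf (nat_lit 0x70806020001050403) (nat_lit 1545))
) (.node (nat_lit 0x70806020100030504) (.leaf (nat_lit 0x70806020100030405) (nat_lit 1545))
 (.node (nat_lit 0x70806020100040305) (.leaf (nat_lit 0x70806020100030504) (nat_lit 777))
 (.leaf (nat_lit 0x70806020100040305) (nat_lit 777))
))))) (.node (nat_lit 0x70806030504000201) (.node (nat_lit 0x70806030405010002) (.node (nat_lit 0x70806020100050403) (.node (nat_lit 0x70806020100050304) (.leaf (nat_lit 0x70806020100040503) (nat_lit 1289))
 (.leaf (nat_lit 0x70806020100050304) (nat_lit 1545))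
) (.node (nat_lit 0x70806030405000102) (.leaf (nat_lit 0x70806020100050403) (nat_lit 521))
 (.node (nat_lit 0x70806030405000201) (.leaf (nat_lit 0x70806030405000102) (nat_lit 2057))
 (.leaf (nat_lit 0x70806030405000201) (nat_lit 1545))
))) (.node (nat_lit 0x70806030405020001) (.node (nat_lit 0x70806030405010200) (.leaf (nat_lit 0x70806030405010002) (nat_lit 1545))
 (.leaf (nat_lit 0x70806030405010200) (nat_lit 1801))
) (.node (nat_lit 0x70806030405020100) (.leaf (nat_lit 0x70806030405020001) (nat_lit 2057))
 (.node (nat_lit 0x70806030504000102) (.leaf (nat_lit 0x70806030405020100) (nat_lit 1289))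
 (.leaf (nat_lit 0x70806030504000102) (nat_lit 1545))
)))) (.node (nat_lit 0x70806040305000102) (.node (nat_lit 0x70806030504010200) (.node (nat_lit 0x70806030504010002) (.leaf (nat_lit 0x70806030504000201) (nat_lit 777))
 (.leaf (nat_lit 0x70806030504010002) (nat_lit 777))
) (.node (nat_lit 0x70806030504020001) (.leaf (nat_lit 0x70806030504010200) (nat_lit 1289))
 (.node (nat_lit 0x70806030504020100) (.leaf (nat_lit 0x70806030504020001) (nat_lit 1545))
 (.leaf (nat_lit 0x70806030504020100) (nat_lit 521))
))) (.node (nat_lit 0x70806040305010200) (.node (nat_lit 0x70806040305000201) (.leaf (nat_lit 0x70806040305000102) (nat_lit 1545))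
 (.node (nat_lit 0x70806040305010002) (.leaf (nat_lit 0x70806040305000201) (nat_lit 777))
 (.leaf (nat_lit 0x70806040305010002) (nat_lit 777))
)) (.node (nat_lit 0x70806040305020001) (.leaf (nat_lit 0x70806040305010200) (nat_lit 1289))
 (.node (nat_lit 0x70806040305020100) (.leaf (nat_lit 0x70806040305020001) (nat_lit 1545))
 (.leaf (nat_lit 0x70806040305020100) (nat_lit 521))
)))))))) (.node (nat_lit 0x80607050304010200) (.node (nat_lit 0x80607010200050304) (.node (nat_lit 0x80607000102040305) (.node (nat_lit 0x70806050304020001) (.node (nat_lit 0x70806040503020100) (.node (nat_lit 0x70806040503010002) (.node (nat_lit 0x70806040503000201) (.leaf (nat_lit 0x70806040503000102) (nat_lit 1801))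
 (.leaf (nat_lit 0x70806040503000201) (nat_lit 1289))
) (.node (nat_lit 0x70806040503010200) (.leaf (nat_lit 0x70806040503010002) (nat_lit 1289))
 (.node (nat_lit 0x70806040503020001) (.leaf (nat_lit 0x70806040503010200) (nat_lit 1545))
 (.leaf (nat_lit 0x70806040503020001) (nat_lit 1801))
))) (.node (nat_lit 0x70806050304000201) (.node (nat_lit 0x70806050304000102) (.leaf (nat_lit 0x70806040503020100) (nat_lit 1033))
 (.leaf (nat_lit 0x70806050304000102) (nat_lit 2057))
) (.node (nat_lit 0x70806050304010002) (.leaf (nat_lit 0x70806050304000201) (nat_lit 1545))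
 (.node (nat_lit 0x70806050304010200) (.leaf (nat_lit 0x70806050304010002) (nat_lit 1545))
 (.leaf (nat_lit 0x70806050304010200) (nat_lit 1801))
)))) (.node (nat_lit 0x70806050403010200) (.node (nat_lit 0x70806050403000102) (.node (nat_lit 0x70806050304020100) (.leaf (nat_lit 0x70806050304020001) (nat_lit 2057))
 (.leaf (nat_lit 0x70806050304020100) (nat_lit 1289))
) (.node (nat_lit 0x70806050403000201) (.leaf (nat_lit 0x70806050403000102) (nat_lit 1289))
 (.node (nat_lit 0x70806050403010002) (.leaf (nat_lit 0x70806050403000201) (nat_lit 521))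
 (.leaf (nat_lit 0x70806050403010002) (nat_lit 521))
))) (.node (nat_lit 0x70806050403020100) (.node (nat_lit 0x70806050403020001) (.leaf (nat_lit 0x70806050403010200) (nat_lit 1033))
 (.leaf (nat_lit 0x70806050403020001) (nat_lit 1289))
) (.node (nat_lit 0x80607000102030405) (.leaf (nat_lit 0x70806050403020100) (nat_lit 265))
 (.node (nat_lit 0x80607000102030504) (.leaf (nat_lit 0x80607000102030405) (nat_lit 2569))
 (.leaf (nat_lit 0x80607000102030504) (nat_lit 2057))
))))) (.node (nat_lit 0x80607010002030405) (.node (nat_lit 0x80607000201030504) (.node (nat_lit 0x80607000102050304) (.node (nat_lit 0x80607000102040503) (.leaf (nat_lit 0x80607000102040305) (nat_lit 2057))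
 (.leaf (nat_lit 0x80607000102040503) (nat_lit 2313))
) (.node (nat_lit 0x80607000102050403) (.leaf (nat_lit 0x80607000102050304) (nat_lit 2569))
 (.node (nat_lit 0x80607000201030405) (.leaf (nat_lit 0x80607000102050403) (nat_lit 1801))
 (.leaf (nat_lit 0x80607000201030405) (nat_lit 2057))
))) (.node (nat_lit 0x80607000201040503) (.node (nat_lit 0x80607000201040305) (.leaf (nat_lit 0x80607000201030504) (nat_lit 1289))
 (.leaf (nat_lit 0x80607000201040305) (nat_lit 1289))
) (.node (nat_lit 0x80607000201050304) (.leaf (nat_lit 0x80607000201040503) (nat_lit 1801))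
 (.node (nat_lit 0x80607000201050403) (.leaf (nat_lit 0x80607000201050304) (nat_lit 2057))
 (.leaf (nat_lit 0x80607000201050403) (nat_lit 1033))
)))) (.node (nat_lit 0x80607010002050403) (.node (nat_lit 0x80607010002040305) (.node (nat_lit 0x80607010002030504) (.leaf (nat_lit 0x80607010002030405) (nat_lit 2057))
 (.leaf (nat_lit 0x80607010002030504) (nat_lit 1289))
) (.node (nat_lit 0x80607010002040503) (.leaf (nat_lit 0x80607010002040305) (nat_lit 1289))
 (.node (nat_lit 0x80607010002050304) (.leaf (nat_lit 0x80607010002040503) (nat_lit 1801))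
 (.leaf (nat_lit 0x80607010002050304) (nat_lit 2057))
))) (.node (nat_lit 0x80607010200030504) (.node (nat_lit 0x80607010200030405) (.leaf (nat_lit 0x80607010002050403) (nat_lit 1033))
 (.leaf (nat_lit 0x80607010200030405) (nat_lit 2313))
) (.node (nat_lit 0x80607010200040305) (.leaf (nat_lit 0x80607010200030504) (nat_lit 1801))
 (.node (nat_lit 0x80607010200040503) (.leaf (nat_lit 0x80607010200040305) (nat_lit 1801))
 (.leaf (nat_lit 0x80607010200040503) (nat_lit 2057))
)))))) (.node (nat_lit 0x80607030504000102) (.node (nat_lit 0x80607020100040305) (.node (nat_lit 0x80607020001040503) (.node (nat_lit 0x80607020001030405) (.node (nat_lit 0x80607010200050403) (.leaf (nat_lit 0x80607010200050304) (nat_lit 2313))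
 (.leaf (nat_lit 0x80607010200050403) (nat_lit 1545))
) (.node (nat_lit 0x80607020001030504) (.leaf (nat_lit 0x80607020001030405) (nat_lit 2569))
 (.node (nat_lit 0x80607020001040305) (.leaf (nat_lit 0x80607020001030504) (nat_lit 2057))
 (.leaf (nat_lit 0x80607020001040305) (nat_lit 2057))
))) (.node (nat_lit 0x80607020001050403) (.node (nat_lit 0x80607020001050304) (.leaf (nat_lit 0x80607020001040503) (nat_lit 2313))
 (.leaf (nat_lit 0x80607020001050304) (nat_lit 2569))
) (.node (nat_lit 0x80607020100030405) (.leaf (nat_lit 0x80607020001050403) (nat_lit 1801))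
 (.node (nat_lit 0x80607020100030504) (.leaf (nat_lit 0x80607020100030405) (nat_lit 1801))
 (.leaf (nat_lit 0x80607020100030504) (nat_lit 1033))
)))) (.node (nat_lit 0x80607030405000201) (.node (nat_lit 0x80607020100050304) (.node (nat_lit 0x80607020100040503) (.leaf (nat_lit 0x80607020100040305) (nat_lit 1033))
 (.leaf (nat_lit 0x80607020100040503) (nat_lit 1545))
) (.node (nat_lit 0x80607020100050403) (.leaf (nat_lit 0x80607020100050304) (nat_lit 1801))
 (.node (nat_lit 0x80607030405000102) (.leaf (nat_lit 0x80607020100050403) (nat_lit 777))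
 (.leaf (nat_lit 0x80607030405000102) (nat_lit 2313))
))) (.node (nat_lit 0x80607030405010200) (.node (nat_lit 0x80607030405010002) (.leaf (nat_lit 0x80607030405000201) (nat_lit 1801))
 (.leaf (nat_lit 0x80607030405010002) (nat_lit 1801))
) (.node (nat_lit 0x80607030405020001) (.leaf (nat_lit 0x80607030405010200) (nat_lit 2057))
 (.node (nat_lit 0x80607030405020100) (.leaf (nat_lit 0x80607030405020001) (nat_lit 2313))
 (.leaf (nat_lit 0x80607030405020100) (nat_lit 1545))
))))) (.node (nat_lit 0x80607040305020001) (.node (nat_lit 0x80607030504020100) (.node (nat_lit 0x80607030504010002) (.node (nat_lit 0x80607030504000201) (.leaf (nat_lit 0x80607030504000102) (nat_lit 1801))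
 (.leaf (nat_lit 0x80607030504000201) (nat_lit 1033))
) (.node (nat_lit 0x80607030504010200) (.leaf (nat_lit 0x80607030504010002) (nat_lit 1033))
 (.node (nat_lit 0x80607030504020001) (.leaf (nat_lit 0x80607030504010200) (nat_lit 1545))
 (.leaf (nat_lit 0x80607030504020001) (nat_lit 1801))
))) (.node (nat_lit 0x80607040305000201) (.node (nat_lit 0x80607040305000102) (.leaf (nat_lit 0x80607030504020100) (nat_lit 777))
 (.leaf (nat_lit 0x80607040305000102) (nat_lit 1801))
) (.node (nat_lit 0x80607040305010002) (.leaf (nat_lit 0x80607040305000201) (nat_lit 1033))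
 (.node (nat_lit 0x80607040305010200) (.leaf (nat_lit 0x80607040305010002) (nat_lit 1033))
 (.leaf (nat_lit 0x80607040305010200) (nat_lit 1545))
)))) (.node (nat_lit 0x80607040503010200) (.node (nat_lit 0x80607040503000102) (.node (nat_lit 0x80607040305020100) (.leaf (nat_lit 0x80607040305020001) (nat_lit 1801))
 (.leaf (nat_lit 0x80607040305020100) (nat_lit 777))
) (.node (nat_lit 0x80607040503000201) (.leaf (nat_lit 0x80607040503000102) (nat_lit 2057))
 (.node (nat_lit 0x80607040503010002) (.leaf (nat_lit 0x80607040503000201) (nat_lit 1545))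
 (.leaf (nat_lit 0x80607040503010002) (nat_lit 1545))
))) (.node (nat_lit 0x80607050304000102) (.node (nat_lit 0x80607040503020001) (.leaf (nat_lit 0x80607040503010200) (nat_lit 1801))
 (.node (nat_lit 0x80607040503020100) (.leaf (nat_lit 0x80607040503020001) (nat_lit 2057))
 (.leaf (nat_lit 0x80607040503020100) (nat_lit 1289))
)) (.node (nat_lit 0x80607050304000201) (.leaf (nat_lit 0x80607050304000102) (nat_lit 2313))
 (.node (nat_lit 0x80607050304010002) (.leaf (nat_lit 0x80607050304000201) (nat_lit 1801))
 (.leaf (nat_lit 0x80607050304010002) (nat_lit 1801))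
))))))) (.node (nat_lit 0x80706020100030504) (.node (nat_lit 0x80706000201050403) (.node (nat_lit 0x80706000102030504) (.node (nat_lit 0x80607050403010002) (.node (nat_lit 0x80607050304020100) (.node (nat_lit 0x80607050304020001) (.leaf (nat_lit 0x80607050304010200) (nat_lit 2057))
 (.leaf (nat_lit 0x80607050304020001) (nat_lit 2313))
) (.node (nat_lit 0x80607050403000102) (.leaf (nat_lit 0x80607050304020100) (nat_lit 1545))
 (.node (nat_lit 0x80607050403000201) (.leaf (nat_lit 0x80607050403000102) (nat_lit 1545))
 (.leaf (nat_lit 0x80607050403000201) (nat_lit 777))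
))) (.node (nat_lit 0x80607050403020001) (.node (nat_lit 0x80607050403010200) (.leaf (nat_lit 0x80607050403010002) (nat_lit 777))
 (.leaf (nat_lit 0x80607050403010200) (nat_lit 1289))
) (.node (nat_lit 0x80607050403020100) (.leaf (nat_lit 0x80607050403020001) (nat_lit 1545))
 (.node (nat_lit 0x80706000102030405) (.leaf (nat_lit 0x80607050403020100) (nat_lit 521))
 (.leaf (nat_lit 0x80706000102030405) (nat_lit 2055))
)))) (.node (nat_lit 0x80706000201030405) (.node (nat_lit 0x80706000102040503) (.node (nat_lit 0x80706000102040305) (.leaf (nat_lit 0x80706000102030504) (nat_lit 1542))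
 (.leaf (nat_lit 0x80706000102040305) (nat_lit 1542))
) (.node (nat_lit 0x80706000102050304) (.leaf (nat_lit 0x80706000102040503) (nat_lit 1799))
 (.node (nat_lit 0x80706000102050403) (.leaf (nat_lit 0x80706000102050304) (nat_lit 2055))
 (.leaf (nat_lit 0x80706000102050403) (nat_lit 1286))
))) (.node (nat_lit 0x80706000201040305) (.node (nat_lit 0x80706000201030504) (.leaf (nat_lit 0x80706000201030405) (nat_lit 1543))
 (.leaf (nat_lit 0x80706000201030504) (nat_lit 776))
) (.node (nat_lit 0x80706000201040503) (.leaf (nat_lit 0x80706000201040305) (nat_lit 776))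
 (.node (nat_lit 0x80706000201050304) (.leaf (nat_lit 0x80706000201040503) (nat_lit 1287))
 (.leaf (nat_lit 0x80706000201050304) (nat_lit 1543))
))))) (.node (nat_lit 0x80706010200040503) (.node (nat_lit 0x80706010002050304) (.node (nat_lit 0x80706010002030504) (.node (nat_lit 0x80706010002030405) (.leaf (nat_lit 0x80706000201050403) (nat_lit 520))
 (.leaf (nat_lit 0x80706010002030405) (nat_lit 1543))
) (.node (nat_lit 0x80706010002040305) (.leaf (nat_lit 0x80706010002030504) (nat_lit 776))
 (.node (nat_lit 0x80706010002040503) (.leaf (nat_lit 0x80706010002040305) (nat_lit 776))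
 (.leaf (nat_lit 0x80706010002040503) (nat_lit 1287))
))) (.node (nat_lit 0x80706010200030405) (.node (nat_lit 0x80706010002050403) (.leaf (nat_lit 0x80706010002050304) (nat_lit 1543))
 (.leaf (nat_lit 0x80706010002050403) (nat_lit 520))
) (.node (nat_lit 0x80706010200030504) (.leaf (nat_lit 0x80706010200030405) (nat_lit 1799))
 (.node (nat_lit 0x80706010200040305) (.leaf (nat_lit 0x80706010200030504) (nat_lit 1286))
 (.leaf (nat_lit 0x80706010200040305) (nat_lit 1286))
)))) (.node (nat_lit 0x80706020001040305) (.node (nat_lit 0x80706010200050403) (.node (nat_lit 0x80706010200050304) (.leaf (nat_lit 0x80706010200040503) (nat_lit 1543))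
 (.leaf (nat_lit 0x80706010200050304) (nat_lit 1799))
) (.node (nat_lit 0x80706020001030405) (.leaf (nat_lit 0x80706010200050403) (nat_lit 1030))
 (.node (nat_lit 0x80706020001030504) (.leaf (nat_lit 0x80706020001030405) (nat_lit 2055))
 (.leaf (nat_lit 0x80706020001030504) (nat_lit 1542))
))) (.node (nat_lit 0x80706020001050304) (.node (nat_lit 0x80706020001040503) (.leaf (nat_lit 0x80706020001040305) (nat_lit 1542))
 (.leaf (nat_lit 0x80706020001040503) (nat_lit 1799))
) (.node (nat_lit 0x80706020001050403) (.leaf (nat_lit 0x80706020001050304) (nat_lit 2055))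
 (.node (nat_lit 0x80706020100030405) (.leaf (nat_lit 0x80706020001050403) (nat_lit 1286))
 (.leaf (nat_lit 0x80706020100030405) (nat_lit 1287))
)))))) (.node (nat_lit 0x80706040305010200) (.node (nat_lit 0x80706030405020100) (.node (nat_lit 0x80706030405000102) (.node (nat_lit 0x80706020100040503) (.node (nat_lit 0x80706020100040305) (.leaf (nat_lit 0x80706020100030504) (nat_lit 520))
 (.leaf (nat_lit 0x80706020100040305) (nat_lit 520))
) (.node (nat_lit 0x80706020100050304) (.leaf (nat_lit 0x80706020100040503) (nat_lit 1031))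
 (.node (nat_lit 0x80706020100050403) (.leaf (nat_lit 0x80706020100050304) (nat_lit 1287))
 (.leaf (nat_lit 0x80706020100050403) (nat_lit 264))
))) (.node (nat_lit 0x80706030405010002) (.node (nat_lit 0x80706030405000201) (.leaf (nat_lit 0x80706030405000102) (nat_lit 1798))
 (.leaf (nat_lit 0x80706030405000201) (nat_lit 1287))
) (.node (nat_lit 0x80706030405010200) (.leaf (nat_lit 0x80706030405010002) (nat_lit 1287))
 (.node (nat_lit 0x80706030405020001) (.leaf (nat_lit 0x80706030405010200) (nat_lit 1542))
 (.leaf (nat_lit 0x80706030405020001) (nat_lit 1798))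
)))) (.node (nat_lit 0x80706030504020001) (.node (nat_lit 0x80706030504000201) (.node (nat_lit 0x80706030504000102) (.leaf (nat_lit 0x80706030405020100) (nat_lit 1031))
 (.leaf (nat_lit 0x80706030504000102) (nat_lit 1286))
) (.node (nat_lit 0x80706030504010002) (.leaf (nat_lit 0x80706030504000201) (nat_lit 514))
 (.node (nat_lit 0x80706030504010200) (.leaf (nat_lit 0x80706030504010002) (nat_lit 514))
 (.leaf (nat_lit 0x80706030504010200) (nat_lit 1030))
))) (.node (nat_lit 0x80706040305000102) (.node (nat_lit 0x80706030504020100) (.leaf (nat_lit 0x80706030504020001) (nat_lit 1286))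
 (.leaf (nat_lit 0x80706030504020100) (nat_lit 258))
) (.node (nat_lit 0x80706040305000201) (.leaf (nat_lit 0x80706040305000102) (nat_lit 1286))
 (.node (nat_lit 0x80706040305010002) (.leaf (nat_lit 0x80706040305000201) (nat_lit 515))
 (.leaf (nat_lit 0x80706040305010002) (nat_lit 515))
))))) (.node (nat_lit 0x80706050304000201) (.node (nat_lit 0x80706040503010002) (.node (nat_lit 0x80706040305020100) (.node (nat_lit 0x80706040305020001) (.leaf (nat_lit 0x80706040305010200) (nat_lit 1030))
 (.leaf (nat_lit 0x80706040305020001) (nat_lit 1286))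
) (.node (nat_lit 0x80706040503000102) (.leaf (nat_lit 0x80706040305020100) (nat_lit 259))
 (.node (nat_lit 0x80706040503000201) (.leaf (nat_lit 0x80706040503000102) (nat_lit 1542))
 (.leaf (nat_lit 0x80706040503000201) (nat_lit 1031))
))) (.node (nat_lit 0x80706040503020001) (.node (nat_lit 0x80706040503010200) (.leaf (nat_lit 0x80706040503010002) (nat_lit 1031))
 (.leaf (nat_lit 0x80706040503010200) (nat_lit 1286))
) (.node (nat_lit 0x80706040503020100) (.leaf (nat_lit 0x80706040503020001) (nat_lit 1542))
 (.node (nat_lit 0x80706050304000102) (.leaf (nat_lit 0x80706040503020100) (nat_lit 775))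
 (.leaf (nat_lit 0x80706050304000102) (nat_lit 1798))
)))) (.node (nat_lit 0x80706050403000102) (.node (nat_lit 0x80706050304010200) (.node (nat_lit 0x80706050304010002) (.leaf (nat_lit 0x80706050304000201) (nat_lit 1287))
 (.leaf (nat_lit 0x80706050304010002) (nat_lit 1287))
) (.node (nat_lit 0x80706050304020001) (.leaf (nat_lit 0x80706050304010200) (nat_lit 1542))
 (.node (nat_lit 0x80706050304020100) (.leaf (nat_lit 0x80706050304020001) (nat_lit 1798))
 (.leaf (nat_lit 0x80706050304020100) (nat_lit 1031))
))) (.node (nat_lit 0x80706050403010200) (.node (nat_lit 0x80706050403000201) (.leaf (nat_lit 0x80706050403000102) (nat_lit 1030))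
 (.node (nat_lit 0x80706050403010002) (.leaf (nat_lit 0x80706050403000201) (nat_lit 256))
 (.leaf (nat_lit 0x80706050403010002) (nat_lit 257))
)) (.node (nat_lit 0x80706050403020001) (.leaf (nat_lit 0x80706050403010200) (nat_lit 774))
 (.node (nat_lit 0x80706050403020100) (.leaf (nat_lit 0x80706050403020001) (nat_lit 1030))
 (.leaf (nat_lit 0x80706050403020100) (nat_lit 0))
)))))))))))

theorem gD_ok : genOK A9 [(nat_lit 0x80706050403000201), (nat_lit 0x80706050403010002), (nat_lit 0x80706030504020100), (nat_lit 0x80706040305020100), (nat_lit 0x60807050403020100), (nat_lit 0x70608050403020100), (nat_lit 0x20100080706050403), (nat_lit 0x50403020100080706), (nat_lit 0x80706020100050403), (nat_lit 0x70806050403020100)] gD_t (nat_lit 1296) = true := by decide +kernel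

end Cfsg.Agent.T16
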