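import Mathlib
import Cfsg.Agent.T16.FrData
import Cfsg.Agent.Rec.B6
import Cfsg.Agent.Rec.S43.Data

/-! Generated by tools/rec: C(a), N(a), C(t) inside Sp6(2) (tools/t16/ca.py) -/

set_option autoImplicit false
set_option maxRecDepth 100000
set_option linter.unusedVariables false
set_option exponentiation.threshold 100000

namespace Cfsg.Agent.T16

open Cfsg.Agent.Spor Cfsg.Agent.Rec

universe u

noncomputable def lC : List ℕ := [(nat_lit 0x810244088), (nat_lit 0x810044089), (nat_lit 0x812204401), (nat_lit 0x802204481), (nat_lit 0x910220081), (nat_lit 0x110224081), (nat_lit 0x408802044), (nat_lit 0x220401102), (nat_lit 0x808404042), (nat_lit 0xe2bcc779d), (nat_lit 0xe33ac775e)]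

noncomputable def lN : List ℕ := [(nat_lit 0x810244088), (nat_lit 0x810044089), (nat_lit 0x812204401), (nat_lit 0x802204481), (nat_lit 0x910220081), (nat_lit 0x110224081), (nat_lit 0x408802044), (nat_lit 0x220401102), (nat_lit 0x808404042), (nat_lit 0xe2bcc779d), (nat_lit 0xe33ac775e), (nat_lit 0x102060408)]

noncomputable def lL : List ℕ := [(nat_lit 0x808404042), (nat_lit 0xe2bcc779d), (nat_lit 0xe33ac775e), (nat_lit 0x910220081), (nat_lit 0x110224081), (nat_lit 0x812244408), (nat_lit 0x802044489), (nat_lit 0x802044408)]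

noncomputable def cC : List ℕ := [(nat_lit 0x810244088), (nat_lit 0x812204401), (nat_lit 0x910220081), (nat_lit 0x408802044), (nat_lit 0x808404042), (nat_lit 0xe2bcc779d)]

noncomputable def cN : List ℕ := [(nat_lit 0x810244088), (nat_lit 0x812204401), (nat_lit 0x910220081), (nat_lit 0x408802044), (nat_lit 0x808404042), (nat_lit 0xe2bcc779d), (nat_lit 0x102060408)]

noncomputable def cL : List ℕ := [(nat_lit 0x808404042), (nat_lit 0xe2bcc779d), (nat_lit 0x910220081), (nat_lit 0x812244408), (nat_lit 0x802044408)]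

def exC : List (List ℕ) :=
  [[9, 10],
   [10, 9],
   [9, 9, 8],
   [9, 0, 2, 4, 10, 5, 3, 1],
   [9, 0, 3, 10, 7],
   [9, 4, 9, 5, 10, 4, 9, 5],
   [4, 4, 9, 5, 10, 5, 10]]

def exN : List (List ℕ) :=
  [[11, 11],
   [11, 0, 11, 0],
   [11, 6, 11, 7],
   [11, 8, 11, 8],
   [11, 9, 11, 9]]

def relQ : List (List ℕ) :=
  [[0, 0],
   [1, 2],
   [2, 1],
   [3, 4],
   [4, 3],
   [1, 1, 0],
   [3, 3, 3],
   [0, 3, 0, 4],
   [1, 3, 1, 4, 2, 3, 1, 4],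
   [3, 3, 1, 4, 2, 4, 2]]

def exD6 : List (List ℕ) :=
  [[5, 6],
   [6, 5],
   [5, 5, 5],
   [5, 3, 6, 4],
   [1, 5, 3, 2, 4, 6]]

def exL : List (List ℕ) :=
  [[7, 7],
   [7, 5, 7, 5],
   [7, 3, 7, 4],
   [7, 0, 7, 0],
   [1, 7, 1, 7, 2, 7, 2, 7],
   [1, 7, 3, 1, 4, 7, 2, 7, 3, 2, 4, 7]]

def relC : List (List ℕ) := relH ++ exC

def relN : List (List ℕ) := relC ++ exN

def relD6 : List (List ℕ) := relQ ++ exD6

def relL : List (List ℕ) := relD6 ++ exL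

noncomputable def tC_rels : LT :=
(.node (.node (.node (.node (.node (.leaf [])
 (.leaf [nat_lit 0,nat_lit 4,nat_lit 1,nat_lit 5])
) (.node (.leaf [nat_lit 7,nat_lit 6])
 (.leaf [nat_lit 9,nat_lit 9,nat_lit 8])
)) (.node (.node (.leaf [nat_lit 3,nat_lit 2])
 (.leaf [nat_lit 6,nat_lit 0,nat_lit 7,nat_lit 3])
) (.node (.leaf [nat_lit 0,nat_lit 0,nat_lit 0])
 (.leaf [nat_lit 4,nat_lit 4,nat_lit 9,nat_lit 5,nat_lit 10,nat_lit 5,nat_lit 10])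
))) (.node (.node (.node (.leaf [nat_lit 1,nat_lit 0])
 (.leaf [nat_lit 6,nat_lit 6,nat_lit 6])
) (.node (.leaf [nat_lit 9,nat_lit 10])
 (.leaf [nat_lit 9,nat_lit 0,nat_lit 3,nat_lit 10,nat_lit 7])
)) (.node (.node (.leaf [nat_lit 5,nat_lit 4])
 (.leaf [nat_lit 8,nat_lit 0,nat_lit 8,nat_lit 3])
) (.leaf [nat_lit 4,nat_lit 4,nat_lit 4])
))) (.node (.node (.node (.node (.leaf [nat_lit 0,nat_lit 1])
 (.leaf [nat_lit 2,nat_lit 4,nat_lit 3,nat_lit 5])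
) (.node (.leaf [nat_lit 8,nat_lit 8])
 (.leaf [nat_lit 9,nat_lit 0,nat_lit 2,nat_lit 4,nat_lit 10,nat_lit 5,nat_lit 3,nat_lit 1])
)) (.node (.node (.leaf [nat_lit 4,nat_lit 5])
 (.leaf [nat_lit 6,nat_lit 2,nat_lit 7,nat_lit 5])
) (.leaf [nat_lit 2,nat_lit 2,nat_lit 2])
)) (.node (.node (.node (.leaf [nat_lit 2,nat_lit 3])
 (.leaf [nat_lit 8,nat_lit 6,nat_lit 8,nat_lit 6])
) (.node (.leaf [nat_lit 10,nat_lit 9])
 (.leaf [nat_lit 9,nat_lit 4,nat_lit 9,nat_lit 5,nat_lit 10,nat_lit 4,nat_lit 9,nat_lit 5])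
)) (.node (.node (.leaf [nat_lit 6,nat_lit 7])
 (.leaf [nat_lit 8,nat_lit 4,nat_lit 8,nat_lit 5])
) (.leaf [nat_lit 0,nat_lit 2,nat_lit 1,nat_lit 3])
))))
noncomputable def tC_hws : LT :=
(.leaf [])

noncomputable def tC_inv : ℕ → ℕ := getP (nat_lit 8) (nat_lit 255) (nat_lit 0x90a080607040502030001)

noncomputable def tC_t : BT :=
(.node (.node (.node (.node (.leaf (nat_lit 0xd040038304080838000))
 (.leaf (nat_lit 0xd2118dc830222068438100))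
) (.node (.leaf (nat_lit 0xb20f85484c3020b0838080))
 (.leaf (nat_lit 0x100840400100848000000))
)) (.node (.node (.leaf (nat_lit 0x920e84004a300098838040))
 (.leaf (nat_lit 0xf214080056300050000181))
) (.leaf (nat_lit 0x110c002a2000784380c0))
)) (.node (.node (.node (.leaf (nat_lit 0x820d8800221040c8c38020))
 (.leaf (nat_lit 0xe215080052332058010121))
) (.leaf (nat_lit 0x1388002e100100c380a0))
) (.node (.node (.leaf (nat_lit 0xa2120908241000f0c38060))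
 (.leaf (nat_lit 0x1ff8007fe001ff8007fe0))
) (.leaf (nat_lit 0xc2108d88282120704380e0))
)))

noncomputable def tC_rules : LT :=
(.node (.node (.node (.node (.leaf [nat_lit 21,nat_lit 3,nat_lit 0,nat_lit 4,nat_lit 6,nat_lit 2,nat_lit 7])
 (.leaf [nat_lit 12,nat_lit 1,nat_lit 0,nat_lit 1,nat_lit 0,nat_lit 0])
) (.node (.leaf [nat_lit 26,nat_lit 2,nat_lit 1,nat_lit 3,nat_lit 1,nat_lit 10,nat_lit 6,nat_lit 9])
 (.leaf [nat_lit 20,nat_lit 0,nat_lit 0,nat_lit 7,nat_lit 0,nat_lit 7,nat_lit 3])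
)) (.node (.node (.leaf [nat_lit 24,nat_lit 0,nat_lit 1,nat_lit 8,nat_lit 10,nat_lit 10])
 (.leaf [nat_lit 22,nat_lit 0,nat_lit 1,nat_lit 3,nat_lit 8,nat_lit 1,nat_lit 8])
) (.node (.leaf [nat_lit 20,nat_lit 1,nat_lit 1,nat_lit 7,nat_lit 1,nat_lit 7,nat_lit 2])
 (.leaf [nat_lit 28,nat_lit 4,nat_lit 1,nat_lit 9,nat_lit 5,nat_lit 5,nat_lit 9,nat_lit 4,nat_lit 9,nat_lit 4])
))) (.node (.node (.node (.leaf [nat_lit 26,nat_lit 0,nat_lit 1,nat_lit 7,nat_lit 9,nat_lit 2,nat_lit 1,nat_lit 10])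
 (.leaf [nat_lit 15,nat_lit 3,nat_lit 0,nat_lit 2,nat_lit 0,nat_lit 2,nat_lit 1])
) (.node (.leaf [nat_lit 17,nat_lit 2,nat_lit 1,nat_lit 4,nat_lit 3,nat_lit 4,nat_lit 2])
 (.leaf [nat_lit 22,nat_lit 0,nat_lit 0,nat_lit 8,nat_lit 0,nat_lit 8,nat_lit 3])
)) (.node (.node (.leaf [nat_lit 24,nat_lit 1,nat_lit 1,nat_lit 9,nat_lit 10,nat_lit 8])
 (.leaf [nat_lit 16,nat_lit 3,nat_lit 0,nat_lit 4,nat_lit 0,nat_lit 4,nat_lit 1])
) (.node (.leaf [nat_lit 22,nat_lit 1,nat_lit 1,nat_lit 8,nat_lit 1,nat_lit 8,nat_lit 2])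
 (.leaf [nat_lit 28,nat_lit 0,nat_lit 1,nat_lit 10,nat_lit 4,nat_lit 9,nat_lit 4,nat_lit 10,nat_lit 5,nat_lit 5])
))))

noncomputable def tC_subs : LT :=
(.leaf [nat_lit 0,nat_lit 0,nat_lit 0,nat_lit 11])


noncomputable def tC : TC :=
  ⟨fun x c => Nat.shiftRight (BT.get tC_t x) (Nat.mul (nat_lit 22) c),
  (nat_lit 5), (nat_lit 31), (nat_lit 32767), (nat_lit 15), (nat_lit 127), (nat_lit 32736), (nat_lit 4), (nat_lit 4), (nat_lit 11), (nat_lit 9), (nat_lit 11), (nat_lit 12), tC_inv, tC_rules, tC_subs⟩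

theorem tC_c1 : tC.rules.all (ruleOK tC.m tC.inv tC_rels) = true := by decide +kernel
theorem tC_c2 : tC.subs.all (subOK tC.m tC.inv tC_hws) = true := by decide +kernel
theorem tC_c3 : tC.base = true := by decide +kernel

theorem tC_s0 : tC.slots (nat_lit 0) (nat_lit 4) = true := by decide +kernel

theorem tC_c4 : tC.Upto tC.N := ((TC.upto_zero tC).step _ tC_s0)
theorem tC_c5 : tC.UptoE tC.N := (TC.uptoE_n tC)
theorem tC_bound {G : Type*} [Group G] {g : ℕ → G} {H : Subgroup G} (hinv : ∀ x < 11, g x * g (tC_inv x) = 1)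
    (hrels : ∀ i, evalW g (tC_rels.get i) = 1) (hH : ∀ x < 9, g x ∈ H) (hhws : ∀ i, evalW g (tC_hws.get i) ∈ H) :
    H.relIndex (genLt g 11) ≠ 0 ∧ H.relIndex (genLt g 11) ≤ 4 :=
  TC.relIndex_le (T := tC) hinv hrels hH hhws tC_c1 tC_c2 tC_c3 tC_c4 tC_c5

theorem tC_bd : Bound.{u} relC 9 11 4 := fun _ _ _ _ hs hH =>
  tC_bound (hs.hinv (by decide +kernel)) (hs.tree (by decide +kernel)) hH (leaf_nil_mem' _ _ (by decide +kernel))

noncomputable def tN_rels : LT :=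
(.node (.node (.node (.node (.node (.node (.leaf [])
 (.leaf [nat_lit 11,nat_lit 8,nat_lit 11,nat_lit 8])
) (.leaf [nat_lit 0,nat_lit 2,nat_lit 1,nat_lit 3])
) (.node (.leaf [nat_lit 7,nat_lit 6])
 (.leaf [nat_lit 8,nat_lit 4,nat_lit 8,nat_lit 5])
)) (.node (.node (.leaf [nat_lit 3,nat_lit 2])
 (.leaf [nat_lit 8,nat_lit 6,nat_lit 8,nat_lit 6])
) (.node (.leaf [nat_lit 11,nat_lit 11])
 (.leaf [nat_lit 9,nat_lit 4,nat_lit 9,nat_lit 5,nat_lit 10,nat_lit 4,nat_lit 9,nat_lit 5])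
))) (.node (.node (.node (.leaf [nat_lit 1,nat_lit 0])
 (.leaf [nat_lit 2,nat_lit 4,nat_lit 3,nat_lit 5])
) (.node (.leaf [nat_lit 9,nat_lit 10])
 (.leaf [nat_lit 9,nat_lit 0,nat_lit 2,nat_lit 4,nat_lit 10,nat_lit 5,nat_lit 3,nat_lit 1])
)) (.node (.node (.leaf [nat_lit 5,nat_lit 4])
 (.leaf [nat_lit 6,nat_lit 2,nat_lit 7,nat_lit 5])
) (.node (.leaf [nat_lit 2,nat_lit 2,nat_lit 2])
 (.leaf [nat_lit 11,nat_lit 0,nat_lit 11,nat_lit 0])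
)))) (.node (.node (.node (.node (.node (.leaf [nat_lit 0,nat_lit 1])
 (.leaf [nat_lit 11,nat_lit 9,nat_lit 11,nat_lit 9])
) (.leaf [nat_lit 0,nat_lit 4,nat_lit 1,nat_lit 5])
) (.node (.leaf [nat_lit 8,nat_lit 8])
 (.leaf [nat_lit 9,nat_lit 9,nat_lit 8])
)) (.node (.node (.leaf [nat_lit 4,nat_lit 5])
 (.leaf [nat_lit 6,nat_lit 0,nat_lit 7,nat_lit 3])
) (.node (.leaf [nat_lit 0,nat_lit 0,nat_lit 0])
 (.leaf [nat_lit 4,nat_lit 4,nat_lit 9,nat_lit 5,nat_lit 10,nat_lit 5,nat_lit 10])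
))) (.node (.node (.node (.leaf [nat_lit 2,nat_lit 3])
 (.leaf [nat_lit 6,nat_lit 6,nat_lit 6])
) (.node (.leaf [nat_lit 10,nat_lit 9])
 (.leaf [nat_lit 9,nat_lit 0,nat_lit 3,nat_lit 10,nat_lit 7])
)) (.node (.node (.leaf [nat_lit 6,nat_lit 7])
 (.leaf [nat_lit 8,nat_lit 0,nat_lit 8,nat_lit 3])
) (.node (.leaf [nat_lit 4,nat_lit 4,nat_lit 4])
 (.leaf [nat_lit 11,nat_lit 6,nat_lit 11,nat_lit 7])
)))))
noncomputable def tN_hws : LT :=
(.leaf [])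

noncomputable def tN_inv : ℕ → ℕ := getP (nat_lit 8) (nat_lit 255) (nat_lit 0xb090a080607040502030001)

noncomputable def tN_t : BT :=
(.node (.node (.node (.node (.leaf (nat_lit 0x41a47000))
 (.leaf (nat_lit 0x842247040))
) (.node (.leaf (nat_lit 0x442c47020))
 (.leaf (nat_lit 0x3fe00ff8))
)) (.node (.node (.leaf (nat_lit 0x2a47010))
 (.leaf (nat_lit 0x2647050))
) (.leaf (nat_lit 0x641e47030))
)) (.node (.node (.node (.leaf (nat_lit 0x1c47008))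
 (.leaf (nat_lit 0xa42447048))
) (.node (.leaf (nat_lit 0x2e47028))
 (.leaf (nat_lit 0x21600000))
)) (.node (.node (.leaf (nat_lit 0x242847018))
 (.leaf (nat_lit 0x1802059))
) (.leaf (nat_lit 0x2047038))
)))

noncomputable def tN_rules : LT :=
(.node (.node (.node (.leaf [nat_lit 30,nat_lit 2,nat_lit 1,nat_lit 0,nat_lit 11,nat_lit 1,nat_lit 11])
 (.leaf [nat_lit 32,nat_lit 2,nat_lit 1,nat_lit 8,nat_lit 11,nat_lit 8,nat_lit 11])
) (.leaf [nat_lit 22,nat_lit 3,nat_lit 0,nat_lit 4,nat_lit 6,nat_lit 2,nat_lit 7])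
) (.node (.node (.leaf [nat_lit 27,nat_lit 2,nat_lit 1,nat_lit 3,nat_lit 1,nat_lit 10,nat_lit 6,nat_lit 9])
 (.leaf [nat_lit 33,nat_lit 2,nat_lit 1,nat_lit 9,nat_lit 11,nat_lit 10,nat_lit 11])
) (.leaf [nat_lit 31,nat_lit 2,nat_lit 1,nat_lit 6,nat_lit 11,nat_lit 6,nat_lit 11])
))

noncomputable def tN_subs : LT :=
(.leaf [nat_lit 0,nat_lit 0,nat_lit 0,nat_lit 12])


noncomputable def tN : TC :=
  ⟨fun x c => Nat.shiftRight (BT.get tN_t x) (Nat.mul (nat_lit 18) c),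
  (nat_lit 3), (nat_lit 7), (nat_lit 4095), (nat_lit 12), (nat_lit 63), (nat_lit 4088), (nat_lit 2), (nat_lit 2), (nat_lit 12), (nat_lit 11), (nat_lit 12), (nat_lit 13), tN_inv, tN_rules, tN_subs⟩

theorem tN_c1 : tN.rules.all (ruleOK tN.m tN.inv tN_rels) = true := by decide +kernel
theorem tN_c2 : tN.subs.all (subOK tN.m tN.inv tN_hws) = true := by decide +kernel
theorem tN_c3 : tN.base = true := by decide +kernel

theorem tN_s0 : tN.slots (nat_lit 0) (nat_lit 2) = true := by decide +kernel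

theorem tN_c4 : tN.Upto tN.N := ((TC.upto_zero tN).step _ tN_s0)
theorem tN_c5 : tN.UptoE tN.N := (TC.uptoE_n tN)
theorem tN_bound {G : Type*} [Group G] {g : ℕ → G} {H : Subgroup G} (hinv : ∀ x < 12, g x * g (tN_inv x) = 1)
    (hrels : ∀ i, evalW g (tN_rels.get i) = 1) (hH : ∀ x < 11, g x ∈ H) (hhws : ∀ i, evalW g (tN_hws.get i) ∈ H) :
    H.relIndex (genLt g 12) ≠ 0 ∧ H.relIndex (genLt g 12) ≤ 2 :=
  TC.relIndex_le (T := tN) hinv hrels hH hhws tN_c1 tN_c2 tN_c3 tN_c4 tN_c5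

theorem tN_bd : Bound.{u} relN 11 12 2 := fun _ _ _ _ hs hH =>
  tN_bound (hs.hinv (by decide +kernel)) (hs.tree (by decide +kernel)) hH (leaf_nil_mem' _ _ (by decide +kernel))

noncomputable def tQ_rels : LT :=
(.node (.node (.node (.node (.leaf [])
 (.leaf [nat_lit 0,nat_lit 3,nat_lit 0,nat_lit 4])
) (.leaf [nat_lit 3,nat_lit 4])
) (.node (.node (.leaf [nat_lit 1,nat_lit 2])
 (.leaf [nat_lit 3,nat_lit 3,nat_lit 1,nat_lit 4,nat_lit 2,nat_lit 4,nat_lit 2])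
) (.leaf [nat_lit 1,nat_lit 1,nat_lit 0])
)) (.node (.node (.node (.leaf [nat_lit 0,nat_lit 0])
 (.leaf [nat_lit 1,nat_lit 3,nat_lit 1,nat_lit 4,nat_lit 2,nat_lit 3,nat_lit 1,nat_lit 4])
) (.leaf [nat_lit 4,nat_lit 3])
) (.node (.leaf [nat_lit 2,nat_lit 1])
 (.leaf [nat_lit 3,nat_lit 3,nat_lit 3])
)))
noncomputable def tQ_hws : LT :=
(.leaf [])

noncomputable def tQ_inv : ℕ → ℕ := getP (nat_lit 8) (nat_lit 255) (nat_lit 0x304010200)

noncomputable def tQ_t : BT :=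
(.node (.node (.node (.leaf (nat_lit 0x42395800e7752325000cb5122c4800b3312254000971121f38007ef121a30006ad521525084880015ac004aa520d1508284000d9c002a61205080016300008010001))
 (.leaf (nat_lit 0x37bc00cee323148c8bd3922d3208a4d0038dc00d36622644008b004305410b9432142800463321020003a2320c1800261320810001a004132c103c9040b1c101c5))
) (.node (.leaf (nat_lit 0xb23b52c8d95003adc00d76222b2c009e922242800828221e1c006e5221918005a40028c800870042a4c108d1001cb8005ec041d3c1060d22040400060000288100c3))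
 (.leaf (nat_lit 0x181bc0606e0182340608c0181240602901812006028010114040250101100402401020c040630102080406201020404061008200020600081000202000800000000))
)) (.node (.node (.leaf (nat_lit 0xa23a5688d540036d800ef7002aa408a0b0023a00884a001d9408707001890085c6002bcc0093104274810810001ebc0066d041b381058c0003800808100048c10042))
 (.leaf (nat_lit 0x1ff8007fe001ff8007fe001ff8007fe001ff8007fe001ff8007fe001ff8007fe001ff8007fe001ff8007fe001ff8007fe001ff8007fe001ff8007fe001ff8007fe0))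
) (.leaf (nat_lit 0xc2384708d100030b400bac002fd000c750026bdc888e04375c10cd60029c800b7300138c0052b000f8800429000b8400327000780002250411281038804091810184))
))

noncomputable def tQ_rules : LT :=
(.node (.node (.node (.node (.leaf [nat_lit 6,nat_lit 1,nat_lit 1,nat_lit 1,nat_lit 2,nat_lit 0])
 (.leaf [nat_lit 10,nat_lit 3,nat_lit 1,nat_lit 4,nat_lit 2,nat_lit 4,nat_lit 4,nat_lit 1,nat_lit 3,nat_lit 1])
) (.node (.leaf [nat_lit 8,nat_lit 1,nat_lit 1,nat_lit 0,nat_lit 4,nat_lit 0,nat_lit 3])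
 (.leaf [nat_lit 7,nat_lit 1,nat_lit 1,nat_lit 3,nat_lit 4,nat_lit 4])
)) (.node (.node (.leaf [nat_lit 6,nat_lit 0,nat_lit 0,nat_lit 2,nat_lit 1,nat_lit 0])
 (.leaf [nat_lit 10,nat_lit 4,nat_lit 1,nat_lit 1,nat_lit 4,nat_lit 4,nat_lit 1,nat_lit 3,nat_lit 1,nat_lit 3])
) (.leaf [nat_lit 8,nat_lit 0,nat_lit 1,nat_lit 4,nat_lit 0,nat_lit 4,nat_lit 0])
)) (.node (.node (.node (.leaf [nat_lit 6,nat_lit 2,nat_lit 0,nat_lit 0,nat_lit 1,nat_lit 1])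
 (.leaf [nat_lit 10,nat_lit 1,nat_lit 1,nat_lit 4,nat_lit 1,nat_lit 3,nat_lit 2,nat_lit 4,nat_lit 4,nat_lit 1])
) (.leaf [nat_lit 8,nat_lit 3,nat_lit 1,nat_lit 0,nat_lit 3,nat_lit 0,nat_lit 4])
) (.node (.node (.leaf [nat_lit 7,nat_lit 1,nat_lit 0,nat_lit 4,nat_lit 3,nat_lit 3])
 (.leaf [nat_lit 10,nat_lit 2,nat_lit 0,nat_lit 2,nat_lit 4,nat_lit 2,nat_lit 4,nat_lit 2,nat_lit 3,nat_lit 3])
) (.leaf [nat_lit 10,nat_lit 5,nat_lit 0,nat_lit 3,nat_lit 2,nat_lit 3,nat_lit 3,nat_lit 1,nat_lit 4,nat_lit 2])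
)))

noncomputable def tQ_subs : LT :=
(.leaf [nat_lit 0,nat_lit 0,nat_lit 0,nat_lit 5])


noncomputable def tQ : TC :=
  ⟨fun x c => Nat.shiftRight (BT.get tQ_t x) (Nat.mul (nat_lit 22) c),
  (nat_lit 5), (nat_lit 31), (nat_lit 32767), (nat_lit 15), (nat_lit 127), (nat_lit 32736), (nat_lit 24), (nat_lit 24), (nat_lit 5), (nat_lit 0), (nat_lit 5), (nat_lit 6), tQ_inv, tQ_rules, tQ_subs⟩

theorem tQ_c1 : tQ.rules.all (ruleOK tQ.m tQ.inv tQ_rels) = true := by decide +kernel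
theorem tQ_c2 : tQ.subs.all (subOK tQ.m tQ.inv tQ_hws) = true := by decide +kernel
theorem tQ_c3 : tQ.base = true := by decide +kernel

theorem tQ_s0 : tQ.slots (nat_lit 0) (nat_lit 24) = true := by decide +kernel

theorem tQ_c4 : tQ.Upto tQ.N := ((TC.upto_zero tQ).step _ tQ_s0)
theorem tQ_c5 : tQ.UptoE tQ.N := (TC.uptoE_n tQ)
theorem tQ_bound {G : Type*} [Group G] {g : ℕ → G} {H : Subgroup G} (hinv : ∀ x < 5, g x * g (tQ_inv x) = 1)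
    (hrels : ∀ i, evalW g (tQ_rels.get i) = 1) (hH : ∀ x < 0, g x ∈ H) (hhws : ∀ i, evalW g (tQ_hws.get i) ∈ H) :
    H.relIndex (genLt g 5) ≠ 0 ∧ H.relIndex (genLt g 5) ≤ 24 :=
  TC.relIndex_le (T := tQ) hinv hrels hH hhws tQ_c1 tQ_c2 tQ_c3 tQ_c4 tQ_c5

theorem tQ_bd : Bound.{u} relQ 0 5 24 := fun _ _ _ _ hs hH =>
  tQ_bound (hs.hinv (by decide +kernel)) (hs.tree (by decide +kernel)) hH (leaf_nil_mem' _ _ (by decide +kernel))

noncomputable def tD6_rels : LT :=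
(.node (.node (.node (.node (.leaf [])
 (.leaf [nat_lit 1,nat_lit 1,nat_lit 0])
) (.node (.leaf [nat_lit 3,nat_lit 4])
 (.leaf [nat_lit 3,nat_lit 3,nat_lit 1,nat_lit 4,nat_lit 2,nat_lit 4,nat_lit 2])
)) (.node (.node (.leaf [nat_lit 1,nat_lit 2])
 (.leaf [nat_lit 0,nat_lit 3,nat_lit 0,nat_lit 4])
) (.node (.leaf [nat_lit 5,nat_lit 6])
 (.leaf [nat_lit 5,nat_lit 3,nat_lit 6,nat_lit 4])
))) (.node (.node (.node (.leaf [nat_lit 0,nat_lit 0])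
 (.leaf [nat_lit 3,nat_lit 3,nat_lit 3])
) (.node (.leaf [nat_lit 4,nat_lit 3])
 (.leaf [nat_lit 5,nat_lit 5,nat_lit 5])
)) (.node (.node (.leaf [nat_lit 2,nat_lit 1])
 (.leaf [nat_lit 1,nat_lit 3,nat_lit 1,nat_lit 4,nat_lit 2,nat_lit 3,nat_lit 1,nat_lit 4])
) (.node (.leaf [nat_lit 6,nat_lit 5])
 (.leaf [nat_lit 1,nat_lit 5,nat_lit 3,nat_lit 2,nat_lit 4,nat_lit 6])
))))
noncomputable def tD6_hws : LT :=
(.leaf [])

noncomputable def tD6_inv : ℕ → ℕ := getP (nat_lit 8) (nat_lit 255) (nat_lit 0x5060304010200)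

noncomputable def tD6_t : BT :=
(.node (.node (.node (.node (.leaf (nat_lit 0x190a2041647000))
 (.leaf (nat_lit 0x830020a00000))
) (.leaf (nat_lit 0x29082001047020))
) (.node (.leaf (nat_lit 0x9a241247010))
 (.leaf (nat_lit 0x31071000c02062))
)) (.node (.node (.leaf (nat_lit 0x21092001447008))
 (.leaf (nat_lit 0x68001e82029))
) (.node (.leaf (nat_lit 0x8a440e47018))
 (.leaf (nat_lit 0xff803fe00ff8))
)))

noncomputable def tD6_rules : LT :=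
(.node (.node (.node (.leaf [nat_lit 8,nat_lit 2,nat_lit 0,nat_lit 0,nat_lit 1,nat_lit 1])
 (.leaf [nat_lit 15,nat_lit 5,nat_lit 1,nat_lit 1,nat_lit 5,nat_lit 3,nat_lit 1,nat_lit 4,nat_lit 6])
) (.node (.leaf [nat_lit 14,nat_lit 2,nat_lit 1,nat_lit 3,nat_lit 6,nat_lit 3,nat_lit 5])
 (.leaf [nat_lit 13,nat_lit 1,nat_lit 0,nat_lit 6,nat_lit 5,nat_lit 5])
)) (.node (.node (.leaf [nat_lit 15,nat_lit 2,nat_lit 1,nat_lit 2,nat_lit 4,nat_lit 6,nat_lit 2,nat_lit 5,nat_lit 3])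
 (.leaf [nat_lit 14,nat_lit 0,nat_lit 1,nat_lit 4,nat_lit 5,nat_lit 4,nat_lit 6])
) (.leaf [nat_lit 8,nat_lit 0,nat_lit 1,nat_lit 0,nat_lit 2,nat_lit 2])
))

noncomputable def tD6_subs : LT :=
(.leaf [nat_lit 0,nat_lit 0,nat_lit 0,nat_lit 7])


noncomputable def tD6 : TC :=
  ⟨fun x c => Nat.shiftRight (BT.get tD6_t x) (Nat.mul (nat_lit 18) c),
  (nat_lit 3), (nat_lit 7), (nat_lit 4095), (nat_lit 12), (nat_lit 63), (nat_lit 4088), (nat_lit 3), (nat_lit 3), (nat_lit 7), (nat_lit 5), (nat_lit 7), (nat_lit 8), tD6_inv, tD6_rules, tD6_subs⟩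

theorem tD6_c1 : tD6.rules.all (ruleOK tD6.m tD6.inv tD6_rels) = true := by decide +kernel
theorem tD6_c2 : tD6.subs.all (subOK tD6.m tD6.inv tD6_hws) = true := by decide +kernel
theorem tD6_c3 : tD6.base = true := by decide +kernel

theorem tD6_s0 : tD6.slots (nat_lit 0) (nat_lit 3) = true := by decide +kernel

theorem tD6_c4 : tD6.Upto tD6.N := ((TC.upto_zero tD6).step _ tD6_s0)
theorem tD6_c5 : tD6.UptoE tD6.N := (TC.uptoE_n tD6)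
theorem tD6_bound {G : Type*} [Group G] {g : ℕ → G} {H : Subgroup G} (hinv : ∀ x < 7, g x * g (tD6_inv x) = 1)
    (hrels : ∀ i, evalW g (tD6_rels.get i) = 1) (hH : ∀ x < 5, g x ∈ H) (hhws : ∀ i, evalW g (tD6_hws.get i) ∈ H) :
    H.relIndex (genLt g 7) ≠ 0 ∧ H.relIndex (genLt g 7) ≤ 3 :=
  TC.relIndex_le (T := tD6) hinv hrels hH hhws tD6_c1 tD6_c2 tD6_c3 tD6_c4 tD6_c5

theorem tD6_bd : Bound.{u} relD6 5 7 3 := fun _ _ _ _ hs hH =>
  tD6_bound (hs.hinv (by decide +kernel)) (hs.tree (by decide +kernel)) hH (leaf_nil_mem' _ _ (by decide +kernel))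

noncomputable def tL_rels : LT :=
(.node (.node (.node (.node (.node (.leaf [])
 (.leaf [nat_lit 1,nat_lit 5,nat_lit 3,nat_lit 2,nat_lit 4,nat_lit 6])
) (.leaf [nat_lit 7,nat_lit 7])
) (.node (.node (.leaf [nat_lit 3,nat_lit 4])
 (.leaf [nat_lit 1,nat_lit 7,nat_lit 1,nat_lit 7,nat_lit 2,nat_lit 7,nat_lit 2,nat_lit 7])
) (.leaf [nat_lit 1,nat_lit 3,nat_lit 1,nat_lit 4,nat_lit 2,nat_lit 3,nat_lit 1,nat_lit 4])
)) (.node (.node (.node (.leaf [nat_lit 1,nat_lit 2])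
 (.leaf [nat_lit 7,nat_lit 3,nat_lit 7,nat_lit 4])
) (.leaf [nat_lit 3,nat_lit 3,nat_lit 3])
) (.node (.leaf [nat_lit 5,nat_lit 6])
 (.leaf [nat_lit 5,nat_lit 5,nat_lit 5])
))) (.node (.node (.node (.node (.leaf [nat_lit 0,nat_lit 0])
 (.leaf [nat_lit 7,nat_lit 5,nat_lit 7,nat_lit 5])
) (.leaf [nat_lit 1,nat_lit 1,nat_lit 0])
) (.node (.node (.leaf [nat_lit 4,nat_lit 3])
 (.leaf [nat_lit 1,nat_lit 7,nat_lit 3,nat_lit 1,nat_lit 4,nat_lit 7,nat_lit 2,nat_lit 7,nat_lit 3,nat_lit 2,nat_lit 4,nat_lit 7])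
) (.leaf [nat_lit 3,nat_lit 3,nat_lit 1,nat_lit 4,nat_lit 2,nat_lit 4,nat_lit 2])
)) (.node (.node (.node (.leaf [nat_lit 2,nat_lit 1])
 (.leaf [nat_lit 7,nat_lit 0,nat_lit 7,nat_lit 0])
) (.leaf [nat_lit 0,nat_lit 3,nat_lit 0,nat_lit 4])
) (.node (.leaf [nat_lit 6,nat_lit 5])
 (.leaf [nat_lit 5,nat_lit 3,nat_lit 6,nat_lit 4])
))))
noncomputable def tL_hws : LT :=
(.leaf [])

noncomputable def tL_inv : ℕ → ℕ := getP (nat_lit 8) (nat_lit 255) (nat_lit 0x705060304010200)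

noncomputable def tL_t : BT :=
(.node (.node (.node (.node (.leaf (nat_lit 0x107a70106060104e53903442902a31902420101a1070000))
 (.leaf (nat_lit 0xffe000ffe000ffe000ffe000ffe000ffe000ffe000ffe0))
) (.leaf (nat_lit 0x7907667905c50007475103030002820202c4000181070080))
) (.node (.leaf (nat_lit 0x7e77106260005254903a30004040001e1000222070040))
 (.leaf (nat_lit 0x8106e68105850006c76103620004440004830001410700c0))
)) (.node (.node (.node (.leaf (nat_lit 0x6907c70006466905054103e30003c42102010201c2070020))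
 (.leaf (nat_lit 0x80e40080e30060e20060820060620040210020e0000000))
) (.leaf (nat_lit 0x1106a50007070005a65904233104620003841101210700a0))
) (.node (.leaf (nat_lit 0x907250007870005e60002e2000324020263090161070060))
 (.leaf (nat_lit 0x6840005630004c20206670205460204a50001000200e1))
)))

noncomputable def tL_rules : LT :=
(.node (.node (.node (.node (.node (.leaf [nat_lit 19,nat_lit 2,nat_lit 1,nat_lit 0,nat_lit 7,nat_lit 0,nat_lit 7])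
 (.leaf [nat_lit 17,nat_lit 1,nat_lit 0,nat_lit 6,nat_lit 7,nat_lit 5,nat_lit 7])
) (.leaf [nat_lit 12,nat_lit 1,nat_lit 1,nat_lit 1,nat_lit 4,nat_lit 1,nat_lit 3,nat_lit 2,nat_lit 4,nat_lit 2,nat_lit 3])
) (.node (.leaf [nat_lit 9,nat_lit 1,nat_lit 1,nat_lit 1,nat_lit 2,nat_lit 0])
 (.leaf [nat_lit 16,nat_lit 0,nat_lit 1,nat_lit 6,nat_lit 3,nat_lit 1,nat_lit 4,nat_lit 6,nat_lit 2])
)) (.node (.node (.leaf [nat_lit 17,nat_lit 2,nat_lit 1,nat_lit 5,nat_lit 7,nat_lit 6,nat_lit 7])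
 (.leaf [nat_lit 10,nat_lit 1,nat_lit 0,nat_lit 4,nat_lit 3,nat_lit 3])
) (.node (.leaf [nat_lit 15,nat_lit 2,nat_lit 0,nat_lit 5,nat_lit 4,nat_lit 5,nat_lit 3])
 (.leaf [nat_lit 21,nat_lit 5,nat_lit 1,nat_lit 2,nat_lit 7,nat_lit 3,nat_lit 2,nat_lit 4,nat_lit 7,nat_lit 2,nat_lit 7,nat_lit 3,nat_lit 1,nat_lit 4,nat_lit 7])
))) (.node (.node (.node (.leaf [nat_lit 18,nat_lit 2,nat_lit 1,nat_lit 3,nat_lit 7,nat_lit 3,nat_lit 7])
 (.leaf [nat_lit 13,nat_lit 2,nat_lit 1,nat_lit 2,nat_lit 3,nat_lit 2,nat_lit 4,nat_lit 4,nat_lit 1,nat_lit 3])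
) (.node (.leaf [nat_lit 11,nat_lit 1,nat_lit 1,nat_lit 0,nat_lit 4,nat_lit 0,nat_lit 3])
 (.leaf [nat_lit 20,nat_lit 5,nat_lit 1,nat_lit 1,nat_lit 7,nat_lit 2,nat_lit 7,nat_lit 1,nat_lit 7,nat_lit 1,nat_lit 7])
)) (.node (.node (.leaf [nat_lit 9,nat_lit 0,nat_lit 1,nat_lit 0,nat_lit 2,nat_lit 2])
 (.leaf [nat_lit 15,nat_lit 3,nat_lit 1,nat_lit 5,nat_lit 3,nat_lit 5,nat_lit 4])
) (.node (.leaf [nat_lit 11,nat_lit 3,nat_lit 1,nat_lit 0,nat_lit 3,nat_lit 0,nat_lit 4])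
 (.leaf [nat_lit 18,nat_lit 0,nat_lit 1,nat_lit 4,nat_lit 7,nat_lit 4,nat_lit 7])
))))

noncomputable def tL_subs : LT :=
(.leaf [nat_lit 0,nat_lit 0,nat_lit 0,nat_lit 8])


noncomputable def tL : TC :=
  ⟨fun x c => Nat.shiftRight (BT.get tL_t x) (Nat.mul (nat_lit 24) c),
  (nat_lit 5), (nat_lit 31), (nat_lit 65535), (nat_lit 16), (nat_lit 255), (nat_lit 65504), (nat_lit 8), (nat_lit 8), (nat_lit 8), (nat_lit 7), (nat_lit 8), (nat_lit 9), tL_inv, tL_rules, tL_subs⟩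

theorem tL_c1 : tL.rules.all (ruleOK tL.m tL.inv tL_rels) = true := by decide +kernel
theorem tL_c2 : tL.subs.all (subOK tL.m tL.inv tL_hws) = true := by decide +kernel
theorem tL_c3 : tL.base = true := by decide +kernel

theorem tL_s0 : tL.slots (nat_lit 0) (nat_lit 8) = true := by decide +kernel

theorem tL_c4 : tL.Upto tL.N := ((TC.upto_zero tL).step _ tL_s0)
theorem tL_c5 : tL.UptoE tL.N := (TC.uptoE_n tL)
theorem tL_bound {G : Type*} [Group G] {g : ℕ → G} {H : Subgroup G} (hinv : ∀ x < 8, g x * g (tL_inv x) = 1)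
    (hrels : ∀ i, evalW g (tL_rels.get i) = 1) (hH : ∀ x < 7, g x ∈ H) (hhws : ∀ i, evalW g (tL_hws.get i) ∈ H) :
    H.relIndex (genLt g 8) ≠ 0 ∧ H.relIndex (genLt g 8) ≤ 8 :=
  TC.relIndex_le (T := tL) hinv hrels hH hhws tL_c1 tL_c2 tL_c3 tL_c4 tL_c5

theorem tL_bd : Bound.{u} relL 7 8 8 := fun _ _ _ _ hs hH =>
  tL_bound (hs.hinv (by decide +kernel)) (hs.tree (by decide +kernel)) hH (leaf_nil_mem' _ _ (by decide +kernel))

theorem presC : Pres.{u} relC 11 648 := presH.step tC_bd (by decide +kernel)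

theorem presN : Pres.{u} relN 12 1296 := presC.step tN_bd (by decide +kernel)

theorem presQ : Pres.{u} relQ 5 24 := pres_nil.step tQ_bd (by decide +kernel)

theorem presD6 : Pres.{u} relD6 7 72 := presQ.step tD6_bd (by decide +kernel)

theorem presL : Pres.{u} relL 8 576 := presD6.step tL_bd (by decide +kernel)

theorem lC_ok : allL lC B6.v = true := by decide +kernel

theorem relC_ok : allL relC (fun w => Nat.beq (evC B6.A lC w) B6.A.one) = true := by decide +kernel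

theorem lN_ok : allL lN B6.v = true := by decide +kernel

theorem relN_ok : allL relN (fun w => Nat.beq (evC B6.A lN w) B6.A.one) = true := by decide +kernel

theorem lL_ok : allL lL B6.v = true := by decide +kernel

theorem relL_ok : allL relL (fun w => Nat.beq (evC B6.A lL w) B6.A.one) = true := by decide +kernel

noncomputable def J6_t : ST :=
(.node (nat_lit 0x810204081) (.node (nat_lit 0x112064409) (.node (nat_lit 0x110064089) (.node (nat_lit 0x102224481) (.leaf (nat_lit 0x102064489) (nat_lit 1538))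
 (.node (nat_lit 0x102264488) (.leaf (nat_lit 0x102224481) (nat_lit 1026))
 (.leaf (nat_lit 0x102264488) (nat_lit 1282))
)) (.node (nat_lit 0x110224081) (.leaf (nat_lit 0x110064089) (nat_lit 1026))
 (.node (nat_lit 0x110264088) (.leaf (nat_lit 0x110224081) (nat_lit 514))
 (.leaf (nat_lit 0x110264088) (nat_lit 770))
))) (.node (nat_lit 0x802044489) (.node (nat_lit 0x112224401) (.leaf (nat_lit 0x112064409) (nat_lit 1282))
 (.node (nat_lit 0x112264408) (.leaf (nat_lit 0x112224401) (nat_lit 770))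
 (.leaf (nat_lit 0x112264408) (nat_lit 1026))
)) (.node (nat_lit 0x802244488) (.node (nat_lit 0x802204481) (.leaf (nat_lit 0x802044489) (nat_lit 1025))
 (.leaf (nat_lit 0x802204481) (nat_lit 513))
) (.node (nat_lit 0x810044089) (.leaf (nat_lit 0x802244488) (nat_lit 769))
 (.leaf (nat_lit 0x810044089) (nat_lit 512))
)))) (.node (nat_lit 0x902260488) (.node (nat_lit 0x812204401) (.node (nat_lit 0x810244088) (.leaf (nat_lit 0x810204081) (nat_lit 0))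
 (.node (nat_lit 0x812044409) (.leaf (nat_lit 0x810244088) (nat_lit 256))
 (.leaf (nat_lit 0x812044409) (nat_lit 769))
)) (.node (nat_lit 0x902060489) (.node (nat_lit 0x812244408) (.leaf (nat_lit 0x812204401) (nat_lit 257))
 (.leaf (nat_lit 0x812244408) (nat_lit 513))
) (.node (nat_lit 0x902220481) (.leaf (nat_lit 0x902060489) (nat_lit 1282))
 (.leaf (nat_lit 0x902220481) (nat_lit 770))
))) (.node (nat_lit 0x910260088) (.node (nat_lit 0x910060089) (.leaf (nat_lit 0x902260488) (nat_lit 1026))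
 (.node (nat_lit 0x910220081) (.leaf (nat_lit 0x910060089) (nat_lit 770))
 (.leaf (nat_lit 0x910220081) (nat_lit 258))
)) (.node (nat_lit 0x912220401) (.node (nat_lit 0x912060409) (.leaf (nat_lit 0x910260088) (nat_lit 514))
 (.leaf (nat_lit 0x912060409) (nat_lit 1026))
) (.node (nat_lit 0x912260408) (.leaf (nat_lit 0x912220401) (nat_lit 514))
 (.leaf (nat_lit 0x912260408) (nat_lit 770))
)))))

theorem J6_ok : genOK B6.A [(nat_lit 0x810244088), (nat_lit 0x812204401), (nat_lit 0x910220081)] J6_t (nat_lit 27) = true := by decide +kernel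

noncomputable def S6_t : ST :=
(.node (nat_lit 0x260408102) (.node (nat_lit 0x102264488) (.node (nat_lit 0x81812244) (.node (nat_lit 0x60489110) (.node (nat_lit 0x44489910) (.node (nat_lit 0x44409902) (.leaf (nat_lit 0x44089912) (nat_lit 2051))
 (.leaf (nat_lit 0x44409902) (nat_lit 1539))
) (.node (nat_lit 0x60089112) (.leaf (nat_lit 0x44489910) (nat_lit 1795))
 (.node (nat_lit 0x60409102) (.leaf (nat_lit 0x60089112) (nat_lit 1539))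
 (.leaf (nat_lit 0x60409102) (nat_lit 1027))
))) (.node (nat_lit 0x64409802) (.node (nat_lit 0x64089812) (.leaf (nat_lit 0x60489110) (nat_lit 1283))
 (.leaf (nat_lit 0x64089812) (nat_lit 1795))
) (.node (nat_lit 0x64489810) (.leaf (nat_lit 0x64409802) (nat_lit 1283))
 (.node (nat_lit 0x81112264) (.leaf (nat_lit 0x64489810) (nat_lit 1539))
 (.leaf (nat_lit 0x81112264) (nat_lit 1795))
)))) (.node (nat_lit 0x89112224) (.node (nat_lit 0x88112064) (.node (nat_lit 0x81912260) (.leaf (nat_lit 0x81812244) (nat_lit 1283))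
 (.leaf (nat_lit 0x81912260) (nat_lit 1539))
) (.node (nat_lit 0x88812044) (.leaf (nat_lit 0x88112064) (nat_lit 1283))
 (.node (nat_lit 0x88912060) (.leaf (nat_lit 0x88812044) (nat_lit 771))
 (.leaf (nat_lit 0x88912060) (nat_lit 1027))
))) (.node (nat_lit 0x89912220) (.node (nat_lit 0x89812204) (.leaf (nat_lit 0x89112224) (nat_lit 1539))
 (.leaf (nat_lit 0x89812204) (nat_lit 1027))
) (.node (nat_lit 0x102064489) (.leaf (nat_lit 0x89912220) (nat_lit 1283))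
 (.node (nat_lit 0x102224481) (.leaf (nat_lit 0x102064489) (nat_lit 1538))
 (.leaf (nat_lit 0x102224481) (nat_lit 1026))
))))) (.node (nat_lit 0x220081112) (.node (nat_lit 0x112224401) (.node (nat_lit 0x110224081) (.node (nat_lit 0x110064089) (.leaf (nat_lit 0x102264488) (nat_lit 1282))
 (.leaf (nat_lit 0x110064089) (nat_lit 1026))
) (.node (nat_lit 0x110264088) (.leaf (nat_lit 0x110224081) (nat_lit 514))
 (.node (nat_lit 0x112064409) (.leaf (nat_lit 0x110264088) (nat_lit 770))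
 (.leaf (nat_lit 0x112064409) (nat_lit 1282))
))) (.node (nat_lit 0x204081912) (.node (nat_lit 0x112264408) (.leaf (nat_lit 0x112224401) (nat_lit 770))
 (.leaf (nat_lit 0x112264408) (nat_lit 1026))
) (.node (nat_lit 0x204401902) (.leaf (nat_lit 0x204081912) (nat_lit 1539))
 (.node (nat_lit 0x204481910) (.leaf (nat_lit 0x204401902) (nat_lit 1027))
 (.leaf (nat_lit 0x204481910) (nat_lit 1283))
)))) (.node (nat_lit 0x224481810) (.node (nat_lit 0x220481110) (.node (nat_lit 0x220401102) (.leaf (nat_lit 0x220081112) (nat_lit 1027))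
 (.leaf (nat_lit 0x220401102) (nat_lit 515))
) (.node (nat_lit 0x224081812) (.leaf (nat_lit 0x220481110) (nat_lit 771))
 (.node (nat_lit 0x224401802) (.leaf (nat_lit 0x224081812) (nat_lit 1283))
 (.leaf (nat_lit 0x224401802) (nat_lit 771))
))) (.node (nat_lit 0x244408902) (.node (nat_lit 0x244088912) (.leaf (nat_lit 0x224481810) (nat_lit 1027))
 (.leaf (nat_lit 0x244088912) (nat_lit 1795))
) (.node (nat_lit 0x244488910) (.leaf (nat_lit 0x244408902) (nat_lit 1283))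
 (.node (nat_lit 0x260088112) (.leaf (nat_lit 0x244488910) (nat_lit 1539))
 (.leaf (nat_lit 0x260088112) (nat_lit 1283))
)))))) (.node (nat_lit 0x489110224) (.node (nat_lit 0x408902060) (.node (nat_lit 0x401102264) (.node (nat_lit 0x264088812) (.node (nat_lit 0x260488110) (.leaf (nat_lit 0x260408102) (nat_lit 771))
 (.leaf (nat_lit 0x260488110) (nat_lit 1027))
) (.node (nat_lit 0x264408802) (.leaf (nat_lit 0x264088812) (nat_lit 1539))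
 (.node (nat_lit 0x264488810) (.leaf (nat_lit 0x264408802) (nat_lit 1027))
 (.leaf (nat_lit 0x264488810) (nat_lit 1283))
))) (.node (nat_lit 0x401902260) (.node (nat_lit 0x401802244) (.leaf (nat_lit 0x401102264) (nat_lit 1283))
 (.leaf (nat_lit 0x401802244) (nat_lit 771))
) (.node (nat_lit 0x408102064) (.leaf (nat_lit 0x401902260) (nat_lit 1027))
 (.node (nat_lit 0x408802044) (.leaf (nat_lit 0x408102064) (nat_lit 771))
 (.leaf (nat_lit 0x408802044) (nat_lit 259))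
)))) (.node (nat_lit 0x481810244) (.node (nat_lit 0x409802204) (.node (nat_lit 0x409102224) (.leaf (nat_lit 0x408902060) (nat_lit 515))
 (.leaf (nat_lit 0x409102224) (nat_lit 1027))
) (.node (nat_lit 0x409902220) (.leaf (nat_lit 0x409802204) (nat_lit 515))
 (.node (nat_lit 0x481110264) (.leaf (nat_lit 0x409902220) (nat_lit 771))
 (.leaf (nat_lit 0x481110264) (nat_lit 1539))
))) (.node (nat_lit 0x488110064) (.node (nat_lit 0x481910260) (.leaf (nat_lit 0x481810244) (nat_lit 1027))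
 (.leaf (nat_lit 0x481910260) (nat_lit 1283))
) (.node (nat_lit 0x488810044) (.leaf (nat_lit 0x488110064) (nat_lit 1027))
 (.node (nat_lit 0x488910060) (.leaf (nat_lit 0x488810044) (nat_lit 515))
 (.leaf (nat_lit 0x488910060) (nat_lit 771))
))))) (.node (nat_lit 0x812204401) (.node (nat_lit 0x802244488) (.node (nat_lit 0x489910220) (.node (nat_lit 0x489810204) (.leaf (nat_lit 0x489110224) (nat_lit 1283))
 (.leaf (nat_lit 0x489810204) (nat_lit 771))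
) (.node (nat_lit 0x802044489) (.leaf (nat_lit 0x489910220) (nat_lit 1027))
 (.node (nat_lit 0x802204481) (.leaf (nat_lit 0x802044489) (nat_lit 1025))
 (.leaf (nat_lit 0x802204481) (nat_lit 513))
))) (.node (nat_lit 0x810204081) (.node (nat_lit 0x810044089) (.leaf (nat_lit 0x802244488) (nat_lit 769))
 (.leaf (nat_lit 0x810044089) (nat_lit 512))
) (.node (nat_lit 0x810244088) (.leaf (nat_lit 0x810204081) (nat_lit 0))
 (.node (nat_lit 0x812044409) (.leaf (nat_lit 0x810244088) (nat_lit 256))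
 (.leaf (nat_lit 0x812044409) (nat_lit 769))
)))) (.node (nat_lit 0x910060089) (.node (nat_lit 0x902060489) (.node (nat_lit 0x812244408) (.leaf (nat_lit 0x812204401) (nat_lit 257))
 (.leaf (nat_lit 0x812244408) (nat_lit 513))
) (.node (nat_lit 0x902220481) (.leaf (nat_lit 0x902060489) (nat_lit 1282))
 (.node (nat_lit 0x902260488) (.leaf (nat_lit 0x902220481) (nat_lit 770))
 (.leaf (nat_lit 0x902260488) (nat_lit 1026))
))) (.node (nat_lit 0x912060409) (.node (nat_lit 0x910220081) (.leaf (nat_lit 0x910060089) (nat_lit 770))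
 (.node (nat_lit 0x910260088) (.leaf (nat_lit 0x910220081) (nat_lit 258))
 (.leaf (nat_lit 0x910260088) (nat_lit 514))
)) (.node (nat_lit 0x912220401) (.leaf (nat_lit 0x912060409) (nat_lit 1026))
 (.node (nat_lit 0x912260408) (.leaf (nat_lit 0x912220401) (nat_lit 514))
 (.leaf (nat_lit 0x912260408) (nat_lit 770))
)))))))

theorem S6_ok : genOK B6.A [(nat_lit 0x810244088), (nat_lit 0x812204401), (nat_lit 0x910220081), (nat_lit 0x408802044)] S6_t (nat_lit 81) = true := by decide +kernel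

noncomputable def H6_t : ST :=
(.node (nat_lit 0x252108424) (.node (nat_lit 0x102224481) (.node (nat_lit 0x81912260) (.node (nat_lit 0x52809404) (.node (nat_lit 0x44489910) (.node (nat_lit 0x429094a0) (.node (nat_lit 0x42809484) (.leaf (nat_lit 0x421094a4) (nat_lit 2051))
 (.leaf (nat_lit 0x42809484) (nat_lit 1539))
) (.node (nat_lit 0x44089912) (.leaf (nat_lit 0x429094a0) (nat_lit 1795))
 (.node (nat_lit 0x44409902) (.leaf (nat_lit 0x44089912) (nat_lit 2051))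
 (.leaf (nat_lit 0x44409902) (nat_lit 1539))
))) (.node (nat_lit 0x50809084) (.node (nat_lit 0x501090a4) (.leaf (nat_lit 0x44489910) (nat_lit 1795))
 (.leaf (nat_lit 0x501090a4) (nat_lit 1539))
) (.node (nat_lit 0x509090a0) (.leaf (nat_lit 0x50809084) (nat_lit 1027))
 (.node (nat_lit 0x52109424) (.leaf (nat_lit 0x509090a0) (nat_lit 1283))
 (.leaf (nat_lit 0x52109424) (nat_lit 1795))
)))) (.node (nat_lit 0x64089812) (.node (nat_lit 0x60089112) (.node (nat_lit 0x52909420) (.leaf (nat_lit 0x52809404) (nat_lit 1283))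
 (.leaf (nat_lit 0x52909420) (nat_lit 1539))
) (.node (nat_lit 0x60409102) (.leaf (nat_lit 0x60089112) (nat_lit 1539))
 (.node (nat_lit 0x60489110) (.leaf (nat_lit 0x60409102) (nat_lit 1027))
 (.leaf (nat_lit 0x60489110) (nat_lit 1283))
))) (.node (nat_lit 0x64489810) (.node (nat_lit 0x64409802) (.leaf (nat_lit 0x64089812) (nat_lit 1795))
 (.leaf (nat_lit 0x64409802) (nat_lit 1283))
) (.node (nat_lit 0x81112264) (.leaf (nat_lit 0x64489810) (nat_lit 1539))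
 (.node (nat_lit 0x81812244) (.leaf (nat_lit 0x81112264) (nat_lit 1795))
 (.leaf (nat_lit 0x81812244) (nat_lit 1283))
))))) (.node (nat_lit 0xa0052109) (.node (nat_lit 0x88812044) (.node (nat_lit 0x84212901) (.node (nat_lit 0x84052909) (.leaf (nat_lit 0x81912260) (nat_lit 1539))
 (.leaf (nat_lit 0x84052909) (nat_lit 2052))
) (.node (nat_lit 0x84252908) (.leaf (nat_lit 0x84212901) (nat_lit 1540))
 (.node (nat_lit 0x88112064) (.leaf (nat_lit 0x84252908) (nat_lit 1796))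
 (.leaf (nat_lit 0x88112064) (nat_lit 1283))
))) (.node (nat_lit 0x89112224) (.node (nat_lit 0x88912060) (.leaf (nat_lit 0x88812044) (nat_lit 771))
 (.leaf (nat_lit 0x88912060) (nat_lit 1027))
) (.node (nat_lit 0x89812204) (.leaf (nat_lit 0x89112224) (nat_lit 1539))
 (.node (nat_lit 0x89912220) (.leaf (nat_lit 0x89812204) (nat_lit 1027))
 (.leaf (nat_lit 0x89912220) (nat_lit 1283))
)))) (.node (nat_lit 0xa4252808) (.node (nat_lit 0xa0252108) (.node (nat_lit 0xa0212101) (.leaf (nat_lit 0xa0052109) (nat_lit 1540))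
 (.leaf (nat_lit 0xa0212101) (nat_lit 1028))
) (.node (nat_lit 0xa4052809) (.leaf (nat_lit 0xa0252108) (nat_lit 1284))
 (.node (nat_lit 0xa4212801) (.leaf (nat_lit 0xa4052809) (nat_lit 1796))
 (.leaf (nat_lit 0xa4212801) (nat_lit 1284))
))) (.node (nat_lit 0x101424242) (.node (nat_lit 0x1010a4252) (.leaf (nat_lit 0xa4252808) (nat_lit 1540))
 (.leaf (nat_lit 0x1010a4252) (nat_lit 1796))
) (.node (nat_lit 0x1014a4250) (.leaf (nat_lit 0x101424242) (nat_lit 1284))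
 (.node (nat_lit 0x102064489) (.leaf (nat_lit 0x1014a4250) (nat_lit 1540))
 (.leaf (nat_lit 0x102064489) (nat_lit 1538))
)))))) (.node (nat_lit 0x2101010a4) (.node (nat_lit 0x110264088) (.node (nat_lit 0x1090a4212) (.node (nat_lit 0x1080a4052) (.node (nat_lit 0x102264488) (.leaf (nat_lit 0x102224481) (nat_lit 1026))
 (.leaf (nat_lit 0x102264488) (nat_lit 1282))
) (.node (nat_lit 0x108424042) (.leaf (nat_lit 0x1080a4052) (nat_lit 1284))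
 (.node (nat_lit 0x1084a4050) (.leaf (nat_lit 0x108424042) (nat_lit 772))
 (.leaf (nat_lit 0x1084a4050) (nat_lit 1028))
))) (.node (nat_lit 0x1094a4210) (.node (nat_lit 0x109424202) (.leaf (nat_lit 0x1090a4212) (nat_lit 1540))
 (.leaf (nat_lit 0x109424202) (nat_lit 1028))
) (.node (nat_lit 0x110064089) (.leaf (nat_lit 0x1094a4210) (nat_lit 1284))
 (.node (nat_lit 0x110224081) (.leaf (nat_lit 0x110064089) (nat_lit 1026))
 (.leaf (nat_lit 0x110224081) (nat_lit 514))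
)))) (.node (nat_lit 0x202801484) (.node (nat_lit 0x112224401) (.node (nat_lit 0x112064409) (.leaf (nat_lit 0x110264088) (nat_lit 770))
 (.leaf (nat_lit 0x112064409) (nat_lit 1282))
) (.node (nat_lit 0x112264408) (.leaf (nat_lit 0x112224401) (nat_lit 770))
 (.node (nat_lit 0x2021014a4) (.leaf (nat_lit 0x112264408) (nat_lit 1026))
 (.leaf (nat_lit 0x2021014a4) (nat_lit 1539))
))) (.node (nat_lit 0x204081912) (.node (nat_lit 0x2029014a0) (.leaf (nat_lit 0x202801484) (nat_lit 1027))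
 (.leaf (nat_lit 0x2029014a0) (nat_lit 1283))
) (.node (nat_lit 0x204401902) (.leaf (nat_lit 0x204081912) (nat_lit 1539))
 (.node (nat_lit 0x204481910) (.leaf (nat_lit 0x204401902) (nat_lit 1027))
 (.leaf (nat_lit 0x204481910) (nat_lit 1283))
))))) (.node (nat_lit 0x224401802) (.node (nat_lit 0x212901420) (.node (nat_lit 0x2109010a0) (.node (nat_lit 0x210801084) (.leaf (nat_lit 0x2101010a4) (nat_lit 1027))
 (.leaf (nat_lit 0x210801084) (nat_lit 515))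
) (.node (nat_lit 0x212101424) (.leaf (nat_lit 0x2109010a0) (nat_lit 771))
 (.node (nat_lit 0x212801404) (.leaf (nat_lit 0x212101424) (nat_lit 1283))
 (.leaf (nat_lit 0x212801404) (nat_lit 771))
))) (.node (nat_lit 0x220401102) (.node (nat_lit 0x220081112) (.leaf (nat_lit 0x212901420) (nat_lit 1027))
 (.leaf (nat_lit 0x220081112) (nat_lit 1027))
) (.node (nat_lit 0x220481110) (.leaf (nat_lit 0x220401102) (nat_lit 515))
 (.node (nat_lit 0x224081812) (.leaf (nat_lit 0x220481110) (nat_lit 771))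
 (.leaf (nat_lit 0x224081812) (nat_lit 1283))
)))) (.node (nat_lit 0x244088912) (.node (nat_lit 0x2421084a4) (.node (nat_lit 0x224481810) (.leaf (nat_lit 0x224401802) (nat_lit 771))
 (.leaf (nat_lit 0x224481810) (nat_lit 1027))
) (.node (nat_lit 0x242808484) (.leaf (nat_lit 0x2421084a4) (nat_lit 1795))
 (.node (nat_lit 0x2429084a0) (.leaf (nat_lit 0x242808484) (nat_lit 1283))
 (.leaf (nat_lit 0x2429084a0) (nat_lit 1539))
))) (.node (nat_lit 0x2501080a4) (.node (nat_lit 0x244408902) (.leaf (nat_lit 0x244088912) (nat_lit 1795))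
 (.node (nat_lit 0x244488910) (.leaf (nat_lit 0x244408902) (nat_lit 1283))
 (.leaf (nat_lit 0x244488910) (nat_lit 1539))
)) (.node (nat_lit 0x250808084) (.leaf (nat_lit 0x2501080a4) (nat_lit 1283))
 (.node (nat_lit 0x2509080a0) (.leaf (nat_lit 0x250808084) (nat_lit 771))
 (.leaf (nat_lit 0x2509080a0) (nat_lit 1027))
))))))) (.node (nat_lit 0x4a0210101) (.node (nat_lit 0x409902220) (.node (nat_lit 0x401802244) (.node (nat_lit 0x260488110) (.node (nat_lit 0x252908420) (.node (nat_lit 0x252808404) (.leaf (nat_lit 0x252108424) (nat_lit 1539))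
 (.leaf (nat_lit 0x252808404) (nat_lit 1027))
) (.node (nat_lit 0x260088112) (.leaf (nat_lit 0x252908420) (nat_lit 1283))
 (.node (nat_lit 0x260408102) (.leaf (nat_lit 0x260088112) (nat_lit 1283))
 (.leaf (nat_lit 0x260408102) (nat_lit 771))
))) (.node (nat_lit 0x264408802) (.node (nat_lit 0x264088812) (.leaf (nat_lit 0x260488110) (nat_lit 1027))
 (.leaf (nat_lit 0x264088812) (nat_lit 1539))
) (.node (nat_lit 0x264488810) (.leaf (nat_lit 0x264408802) (nat_lit 1027))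
 (.node (nat_lit 0x401102264) (.leaf (nat_lit 0x264488810) (nat_lit 1283))
 (.leaf (nat_lit 0x401102264) (nat_lit 1283))
)))) (.node (nat_lit 0x408102064) (.node (nat_lit 0x404042909) (.node (nat_lit 0x401902260) (.leaf (nat_lit 0x401802244) (nat_lit 771))
 (.leaf (nat_lit 0x401902260) (nat_lit 1027))
) (.node (nat_lit 0x404202901) (.leaf (nat_lit 0x404042909) (nat_lit 1540))
 (.node (nat_lit 0x404242908) (.leaf (nat_lit 0x404202901) (nat_lit 1028))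
 (.leaf (nat_lit 0x404242908) (nat_lit 1284))
))) (.node (nat_lit 0x408902060) (.node (nat_lit 0x408802044) (.leaf (nat_lit 0x408102064) (nat_lit 771))
 (.leaf (nat_lit 0x408802044) (nat_lit 259))
) (.node (nat_lit 0x409102224) (.leaf (nat_lit 0x408902060) (nat_lit 515))
 (.node (nat_lit 0x409802204) (.leaf (nat_lit 0x409102224) (nat_lit 1027))
 (.leaf (nat_lit 0x409802204) (nat_lit 515))
))))) (.node (nat_lit 0x484050909) (.node (nat_lit 0x424202801) (.node (nat_lit 0x420202101) (.node (nat_lit 0x420042109) (.leaf (nat_lit 0x409902220) (nat_lit 771))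
 (.leaf (nat_lit 0x420042109) (nat_lit 1028))
) (.node (nat_lit 0x420242108) (.leaf (nat_lit 0x420202101) (nat_lit 516))
 (.node (nat_lit 0x424042809) (.leaf (nat_lit 0x420242108) (nat_lit 772))
 (.leaf (nat_lit 0x424042809) (nat_lit 1284))
))) (.node (nat_lit 0x481110264) (.node (nat_lit 0x424242808) (.leaf (nat_lit 0x424202801) (nat_lit 772))
 (.leaf (nat_lit 0x424242808) (nat_lit 1028))
) (.node (nat_lit 0x481810244) (.leaf (nat_lit 0x481110264) (nat_lit 1539))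
 (.node (nat_lit 0x481910260) (.leaf (nat_lit 0x481810244) (nat_lit 1027))
 (.leaf (nat_lit 0x481910260) (nat_lit 1283))
)))) (.node (nat_lit 0x488910060) (.node (nat_lit 0x484250908) (.node (nat_lit 0x484210901) (.leaf (nat_lit 0x484050909) (nat_lit 1796))
 (.leaf (nat_lit 0x484210901) (nat_lit 1284))
) (.node (nat_lit 0x488110064) (.leaf (nat_lit 0x484250908) (nat_lit 1540))
 (.node (nat_lit 0x488810044) (.leaf (nat_lit 0x488110064) (nat_lit 1027))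
 (.leaf (nat_lit 0x488810044) (nat_lit 515))
))) (.node (nat_lit 0x489810204) (.node (nat_lit 0x489110224) (.leaf (nat_lit 0x488910060) (nat_lit 771))
 (.leaf (nat_lit 0x489110224) (nat_lit 1283))
) (.node (nat_lit 0x489910220) (.leaf (nat_lit 0x489810204) (nat_lit 771))
 (.node (nat_lit 0x4a0050109) (.leaf (nat_lit 0x489910220) (nat_lit 1027))
 (.leaf (nat_lit 0x4a0050109) (nat_lit 1284))
)))))) (.node (nat_lit 0x812044409) (.node (nat_lit 0x802244488) (.node (nat_lit 0x801084252) (.node (nat_lit 0x4a4050809) (.node (nat_lit 0x4a0250108) (.leaf (nat_lit 0x4a0210101) (nat_lit 772))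
 (.leaf (nat_lit 0x4a0250108) (nat_lit 1028))
) (.node (nat_lit 0x4a4210801) (.leaf (nat_lit 0x4a4050809) (nat_lit 1540))
 (.node (nat_lit 0x4a4250808) (.leaf (nat_lit 0x4a4210801) (nat_lit 1028))
 (.leaf (nat_lit 0x4a4250808) (nat_lit 1284))
))) (.node (nat_lit 0x801484250) (.node (nat_lit 0x801404242) (.leaf (nat_lit 0x801084252) (nat_lit 1284))
 (.leaf (nat_lit 0x801404242) (nat_lit 772))
) (.node (nat_lit 0x802044489) (.leaf (nat_lit 0x801484250) (nat_lit 1028))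
 (.node (nat_lit 0x802204481) (.leaf (nat_lit 0x802044489) (nat_lit 1025))
 (.leaf (nat_lit 0x802204481) (nat_lit 513))
)))) (.node (nat_lit 0x809404202) (.node (nat_lit 0x808404042) (.node (nat_lit 0x808084052) (.leaf (nat_lit 0x802244488) (nat_lit 769))
 (.leaf (nat_lit 0x808084052) (nat_lit 772))
) (.node (nat_lit 0x808484050) (.leaf (nat_lit 0x808404042) (nat_lit 260))
 (.node (nat_lit 0x809084212) (.leaf (nat_lit 0x808484050) (nat_lit 516))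
 (.leaf (nat_lit 0x809084212) (nat_lit 1028))
))) (.node (nat_lit 0x810044089) (.node (nat_lit 0x809484210) (.leaf (nat_lit 0x809404202) (nat_lit 516))
 (.leaf (nat_lit 0x809484210) (nat_lit 772))
) (.node (nat_lit 0x810204081) (.leaf (nat_lit 0x810044089) (nat_lit 512))
 (.node (nat_lit 0x810244088) (.leaf (nat_lit 0x810204081) (nat_lit 0))
 (.leaf (nat_lit 0x810244088) (nat_lit 256))
))))) (.node (nat_lit 0x908420042) (.node (nat_lit 0x9014a0250) (.node (nat_lit 0x812244408) (.node (nat_lit 0x812204401) (.leaf (nat_lit 0x812044409) (nat_lit 769))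
 (.leaf (nat_lit 0x812204401) (nat_lit 257))
) (.node (nat_lit 0x9010a0252) (.leaf (nat_lit 0x812244408) (nat_lit 513))
 (.node (nat_lit 0x901420242) (.leaf (nat_lit 0x9010a0252) (nat_lit 1540))
 (.leaf (nat_lit 0x901420242) (nat_lit 1028))
))) (.node (nat_lit 0x902220481) (.node (nat_lit 0x902060489) (.leaf (nat_lit 0x9014a0250) (nat_lit 1284))
 (.leaf (nat_lit 0x902060489) (nat_lit 1282))
) (.node (nat_lit 0x902260488) (.leaf (nat_lit 0x902220481) (nat_lit 770))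
 (.node (nat_lit 0x9080a0052) (.leaf (nat_lit 0x902260488) (nat_lit 1026))
 (.leaf (nat_lit 0x9080a0052) (nat_lit 1028))
)))) (.node (nat_lit 0x910060089) (.node (nat_lit 0x9090a0212) (.node (nat_lit 0x9084a0050) (.leaf (nat_lit 0x908420042) (nat_lit 516))
 (.leaf (nat_lit 0x9084a0050) (nat_lit 772))
) (.node (nat_lit 0x909420202) (.leaf (nat_lit 0x9090a0212) (nat_lit 1284))
 (.node (nat_lit 0x9094a0210) (.leaf (nat_lit 0x909420202) (nat_lit 772))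
 (.leaf (nat_lit 0x9094a0210) (nat_lit 1028))
))) (.node (nat_lit 0x912060409) (.node (nat_lit 0x910220081) (.leaf (nat_lit 0x910060089) (nat_lit 770))
 (.node (nat_lit 0x910260088) (.leaf (nat_lit 0x910220081) (nat_lit 258))
 (.leaf (nat_lit 0x910260088) (nat_lit 514))
)) (.node (nat_lit 0x912220401) (.leaf (nat_lit 0x912060409) (nat_lit 1026))
 (.node (nat_lit 0x912260408) (.leaf (nat_lit 0x912220401) (nat_lit 514))
 (.leaf (nat_lit 0x912260408) (nat_lit 770))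
))))))))

theorem H6_ok : genOK B6.A [(nat_lit 0x810244088), (nat_lit 0x812204401), (nat_lit 0x910220081), (nat_lit 0x408802044), (nat_lit 0x808404042)] H6_t (nat_lit 162) = true := by decide +kernel

noncomputable def C6_t : ST :=
(.node (nat_lit 0x9010a0252) (.node (nat_lit 0x481110264) (.node (nat_lit 0x212101424) (.node (nat_lit 0x102224481) (.node (nat_lit 0x81912260) (.node (nat_lit 0x52809404) (.node (nat_lit 0x44489910) (.node (nat_lit 0x429094a0) (.node (nat_lit 0x42809484) (.leaf (nat_lit 0x421094a4) (nat_lit 1285))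
 (.leaf (nat_lit 0x42809484) (nat_lit 1283))
) (.node (nat_lit 0x44089912) (.leaf (nat_lit 0x429094a0) (nat_lit 1285))
 (.node (nat_lit 0x44409902) (.leaf (nat_lit 0x44089912) (nat_lit 1541))
 (.leaf (nat_lit 0x44409902) (nat_lit 1539))
))) (.node (nat_lit 0x50809084) (.node (nat_lit 0x501090a4) (.leaf (nat_lit 0x44489910) (nat_lit 1795))
 (.leaf (nat_lit 0x501090a4) (nat_lit 1539))
) (.node (nat_lit 0x509090a0) (.leaf (nat_lit 0x50809084) (nat_lit 1027))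
 (.node (nat_lit 0x52109424) (.leaf (nat_lit 0x509090a0) (nat_lit 1283))
 (.leaf (nat_lit 0x52109424) (nat_lit 1541))
)))) (.node (nat_lit 0x64089812) (.node (nat_lit 0x60089112) (.node (nat_lit 0x52909420) (.leaf (nat_lit 0x52809404) (nat_lit 1283))
 (.leaf (nat_lit 0x52909420) (nat_lit 1539))
) (.node (nat_lit 0x60409102) (.leaf (nat_lit 0x60089112) (nat_lit 1539))
 (.node (nat_lit 0x60489110) (.leaf (nat_lit 0x60409102) (nat_lit 1027))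
 (.leaf (nat_lit 0x60489110) (nat_lit 1283))
))) (.node (nat_lit 0x64489810) (.node (nat_lit 0x64409802) (.leaf (nat_lit 0x64089812) (nat_lit 1541))
 (.leaf (nat_lit 0x64409802) (nat_lit 1283))
) (.node (nat_lit 0x81112264) (.leaf (nat_lit 0x64489810) (nat_lit 1539))
 (.node (nat_lit 0x81812244) (.leaf (nat_lit 0x81112264) (nat_lit 1541))
 (.leaf (nat_lit 0x81812244) (nat_lit 1283))
))))) (.node (nat_lit 0xa0052109) (.node (nat_lit 0x88812044) (.node (nat_lit 0x84212901) (.node (nat_lit 0x84052909) (.leaf (nat_lit 0x81912260) (nat_lit 1539))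
 (.leaf (nat_lit 0x84052909) (nat_lit 1285))
) (.node (nat_lit 0x84252908) (.leaf (nat_lit 0x84212901) (nat_lit 1541))
 (.node (nat_lit 0x88112064) (.leaf (nat_lit 0x84252908) (nat_lit 1539))
 (.leaf (nat_lit 0x88112064) (nat_lit 1283))
))) (.node (nat_lit 0x89112224) (.node (nat_lit 0x88912060) (.leaf (nat_lit 0x88812044) (nat_lit 771))
 (.leaf (nat_lit 0x88912060) (nat_lit 1027))
) (.node (nat_lit 0x89812204) (.leaf (nat_lit 0x89112224) (nat_lit 1539))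
 (.node (nat_lit 0x89912220) (.leaf (nat_lit 0x89812204) (nat_lit 1027))
 (.leaf (nat_lit 0x89912220) (nat_lit 1283))
)))) (.node (nat_lit 0xa4252808) (.node (nat_lit 0xa0252108) (.node (nat_lit 0xa0212101) (.leaf (nat_lit 0xa0052109) (nat_lit 1540))
 (.leaf (nat_lit 0xa0212101) (nat_lit 1028))
) (.node (nat_lit 0xa4052809) (.leaf (nat_lit 0xa0252108) (nat_lit 1284))
 (.node (nat_lit 0xa4212801) (.leaf (nat_lit 0xa4052809) (nat_lit 1285))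
 (.leaf (nat_lit 0xa4212801) (nat_lit 1284))
))) (.node (nat_lit 0x101424242) (.node (nat_lit 0x1010a4252) (.leaf (nat_lit 0xa4252808) (nat_lit 1540))
 (.leaf (nat_lit 0x1010a4252) (nat_lit 1541))
) (.node (nat_lit 0x1014a4250) (.leaf (nat_lit 0x101424242) (nat_lit 1284))
 (.node (nat_lit 0x102064489) (.leaf (nat_lit 0x1014a4250) (nat_lit 1540))
 (.leaf (nat_lit 0x102064489) (nat_lit 1538))
)))))) (.node (nat_lit 0x1eb77f7ae) (.node (nat_lit 0x110264088) (.node (nat_lit 0x1090a4212) (.node (nat_lit 0x1080a4052) (.node (nat_lit 0x102264488) (.leaf (nat_lit 0x102224481) (nat_lit 1026))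
 (.leaf (nat_lit 0x102264488) (nat_lit 1282))
) (.node (nat_lit 0x108424042) (.leaf (nat_lit 0x1080a4052) (nat_lit 1284))
 (.node (nat_lit 0x1084a4050) (.leaf (nat_lit 0x108424042) (nat_lit 772))
 (.leaf (nat_lit 0x1084a4050) (nat_lit 1028))
))) (.node (nat_lit 0x1094a4210) (.node (nat_lit 0x109424202) (.leaf (nat_lit 0x1090a4212) (nat_lit 1285))
 (.leaf (nat_lit 0x109424202) (nat_lit 1028))
) (.node (nat_lit 0x110064089) (.leaf (nat_lit 0x1094a4210) (nat_lit 1284))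
 (.node (nat_lit 0x110224081) (.leaf (nat_lit 0x110064089) (nat_lit 1026))
 (.leaf (nat_lit 0x110224081) (nat_lit 514))
)))) (.node (nat_lit 0x1ddaffb9e) (.node (nat_lit 0x112224401) (.node (nat_lit 0x112064409) (.leaf (nat_lit 0x110264088) (nat_lit 770))
 (.leaf (nat_lit 0x112064409) (nat_lit 1282))
) (.node (nat_lit 0x112264408) (.leaf (nat_lit 0x112224401) (nat_lit 770))
 (.node (nat_lit 0x1dd7bfbb5) (.leaf (nat_lit 0x112264408) (nat_lit 1026))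
 (.leaf (nat_lit 0x1dd7bfbb5) (nat_lit 1540))
))) (.node (nat_lit 0x1de77fd6e) (.node (nat_lit 0x1ddd7fbab) (.leaf (nat_lit 0x1ddaffb9e) (nat_lit 1541))
 (.leaf (nat_lit 0x1ddd7fbab) (nat_lit 1282))
) (.node (nat_lit 0x1debbfd73) (.leaf (nat_lit 0x1de77fd6e) (nat_lit 1283))
 (.node (nat_lit 0x1decffd5d) (.leaf (nat_lit 0x1debbfd73) (nat_lit 1283))
 (.leaf (nat_lit 0x1decffd5d) (nat_lit 1282))
))))) (.node (nat_lit 0x1f5bbfaf3) (.node (nat_lit 0x1eed7fceb) (.node (nat_lit 0x1ebcff79d) (.node (nat_lit 0x1ebbbf7b3) (.leaf (nat_lit 0x1eb77f7ae) (nat_lit 1282))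
 (.leaf (nat_lit 0x1ebbbf7b3) (nat_lit 1026))
) (.node (nat_lit 0x1ee7bfcf5) (.leaf (nat_lit 0x1ebcff79d) (nat_lit 770))
 (.node (nat_lit 0x1eeaffcde) (.leaf (nat_lit 0x1ee7bfcf5) (nat_lit 1282))
 (.leaf (nat_lit 0x1eeaffcde) (nat_lit 1282))
))) (.node (nat_lit 0x1f3aff75e) (.node (nat_lit 0x1f37bf775) (.leaf (nat_lit 0x1eed7fceb) (nat_lit 1538))
 (.leaf (nat_lit 0x1f37bf775) (nat_lit 1541))
) (.node (nat_lit 0x1f3d7f76b) (.leaf (nat_lit 0x1f3aff75e) (nat_lit 1026))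
 (.node (nat_lit 0x1f577faee) (.leaf (nat_lit 0x1f3d7f76b) (nat_lit 1282))
 (.leaf (nat_lit 0x1f577faee) (nat_lit 1026))
)))) (.node (nat_lit 0x204081912) (.node (nat_lit 0x2021014a4) (.node (nat_lit 0x1f5cffadd) (.leaf (nat_lit 0x1f5bbfaf3) (nat_lit 1282))
 (.leaf (nat_lit 0x1f5cffadd) (nat_lit 1026))
) (.node (nat_lit 0x202801484) (.leaf (nat_lit 0x2021014a4) (nat_lit 1541))
 (.node (nat_lit 0x2029014a0) (.leaf (nat_lit 0x202801484) (nat_lit 1027))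
 (.leaf (nat_lit 0x2029014a0) (nat_lit 1283))
))) (.node (nat_lit 0x2101010a4) (.node (nat_lit 0x204401902) (.leaf (nat_lit 0x204081912) (nat_lit 1539))
 (.node (nat_lit 0x204481910) (.leaf (nat_lit 0x204401902) (nat_lit 1027))
 (.leaf (nat_lit 0x204481910) (nat_lit 1283))
)) (.node (nat_lit 0x210801084) (.leaf (nat_lit 0x2101010a4) (nat_lit 1027))
 (.node (nat_lit 0x2109010a0) (.leaf (nat_lit 0x210801084) (nat_lit 515))
 (.leaf (nat_lit 0x2109010a0) (nat_lit 771))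
))))))) (.node (nat_lit 0x3ba8f755f) (.node (nat_lit 0x252908420) (.node (nat_lit 0x242808484) (.node (nat_lit 0x220481110) (.node (nat_lit 0x212901420) (.node (nat_lit 0x212801404) (.leaf (nat_lit 0x212101424) (nat_lit 1283))
 (.leaf (nat_lit 0x212801404) (nat_lit 771))
) (.node (nat_lit 0x220081112) (.leaf (nat_lit 0x212901420) (nat_lit 1027))
 (.node (nat_lit 0x220401102) (.leaf (nat_lit 0x220081112) (nat_lit 1027))
 (.leaf (nat_lit 0x220401102) (nat_lit 515))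
))) (.node (nat_lit 0x224401802) (.node (nat_lit 0x224081812) (.leaf (nat_lit 0x220481110) (nat_lit 771))
 (.leaf (nat_lit 0x224081812) (nat_lit 1283))
) (.node (nat_lit 0x224481810) (.leaf (nat_lit 0x224401802) (nat_lit 771))
 (.node (nat_lit 0x2421084a4) (.leaf (nat_lit 0x224481810) (nat_lit 1027))
 (.leaf (nat_lit 0x2421084a4) (nat_lit 1285))
)))) (.node (nat_lit 0x2501080a4) (.node (nat_lit 0x244088912) (.node (nat_lit 0x2429084a0) (.leaf (nat_lit 0x242808484) (nat_lit 1027))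
 (.leaf (nat_lit 0x2429084a0) (nat_lit 1283))
) (.node (nat_lit 0x244408902) (.leaf (nat_lit 0x244088912) (nat_lit 1541))
 (.node (nat_lit 0x244488910) (.leaf (nat_lit 0x244408902) (nat_lit 1283))
 (.leaf (nat_lit 0x244488910) (nat_lit 1539))
))) (.node (nat_lit 0x2509080a0) (.node (nat_lit 0x250808084) (.leaf (nat_lit 0x2501080a4) (nat_lit 1283))
 (.leaf (nat_lit 0x250808084) (nat_lit 771))
) (.node (nat_lit 0x252108424) (.leaf (nat_lit 0x2509080a0) (nat_lit 1027))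
 (.node (nat_lit 0x252808404) (.leaf (nat_lit 0x252108424) (nat_lit 1539))
 (.leaf (nat_lit 0x252808404) (nat_lit 1027))
))))) (.node (nat_lit 0x39f577f2f) (.node (nat_lit 0x264408802) (.node (nat_lit 0x260408102) (.node (nat_lit 0x260088112) (.leaf (nat_lit 0x252908420) (nat_lit 1283))
 (.leaf (nat_lit 0x260088112) (nat_lit 1283))
) (.node (nat_lit 0x260488110) (.leaf (nat_lit 0x260408102) (nat_lit 771))
 (.node (nat_lit 0x264088812) (.leaf (nat_lit 0x260488110) (nat_lit 1027))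
 (.leaf (nat_lit 0x264088812) (nat_lit 1539))
))) (.node (nat_lit 0x3957f7bfc) (.node (nat_lit 0x264488810) (.leaf (nat_lit 0x264408802) (nat_lit 1027))
 (.leaf (nat_lit 0x264488810) (nat_lit 1283))
) (.node (nat_lit 0x3958f7bdf) (.leaf (nat_lit 0x3957f7bfc) (nat_lit 1541))
 (.node (nat_lit 0x395f37be3) (.leaf (nat_lit 0x3958f7bdf) (nat_lit 1029))
 (.leaf (nat_lit 0x395f37be3) (nat_lit 1280))
)))) (.node (nat_lit 0x3a3eb77d5) (.node (nat_lit 0x39feb7f15) (.node (nat_lit 0x39fbf7f3a) (.leaf (nat_lit 0x39f577f2f) (nat_lit 1285))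
 (.leaf (nat_lit 0x39fbf7f3a) (nat_lit 1285))
) (.node (nat_lit 0x3a35777ef) (.leaf (nat_lit 0x39feb7f15) (nat_lit 1283))
 (.node (nat_lit 0x3a3bf77fa) (.leaf (nat_lit 0x3a35777ef) (nat_lit 1285))
 (.leaf (nat_lit 0x3a3bf77fa) (nat_lit 1282))
))) (.node (nat_lit 0x3af8f7e9f) (.node (nat_lit 0x3af7f7ebc) (.leaf (nat_lit 0x3a3eb77d5) (nat_lit 1026))
 (.leaf (nat_lit 0x3af7f7ebc) (nat_lit 1538))
) (.node (nat_lit 0x3aff37ea3) (.leaf (nat_lit 0x3af8f7e9f) (nat_lit 1538))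
 (.node (nat_lit 0x3ba7f757c) (.leaf (nat_lit 0x3aff37ea3) (nat_lit 1283))
 (.leaf (nat_lit 0x3ba7f757c) (nat_lit 1285))
)))))) (.node (nat_lit 0x3fd73eaa7) (.node (nat_lit 0x3dcf7e9ea) (.node (nat_lit 0x3d773ef67) (.node (nat_lit 0x3bc5778ef) (.node (nat_lit 0x3baf37563) (.leaf (nat_lit 0x3ba8f755f) (nat_lit 1282))
 (.leaf (nat_lit 0x3baf37563) (nat_lit 1283))
) (.node (nat_lit 0x3bcbf78fa) (.leaf (nat_lit 0x3bc5778ef) (nat_lit 1282))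
 (.node (nat_lit 0x3bceb78d5) (.leaf (nat_lit 0x3bcbf78fa) (nat_lit 1283))
 (.leaf (nat_lit 0x3bceb78d5) (nat_lit 1282))
))) (.node (nat_lit 0x3d7efef5c) (.node (nat_lit 0x3d79fef7b) (.leaf (nat_lit 0x3d773ef67) (nat_lit 1027))
 (.leaf (nat_lit 0x3d79fef7b) (nat_lit 1027))
) (.node (nat_lit 0x3dc5fe9fd) (.leaf (nat_lit 0x3d7efef5c) (nat_lit 1282))
 (.node (nat_lit 0x3dcabe9d7) (.leaf (nat_lit 0x3dc5fe9fd) (nat_lit 1284))
 (.leaf (nat_lit 0x3dcabe9d7) (nat_lit 1285))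
)))) (.node (nat_lit 0x3ea9fe5fb) (.node (nat_lit 0x3e7abeed7) (.node (nat_lit 0x3e75feefd) (.leaf (nat_lit 0x3dcf7e9ea) (nat_lit 1536))
 (.leaf (nat_lit 0x3e75feefd) (nat_lit 1285))
) (.node (nat_lit 0x3e7f7eeea) (.leaf (nat_lit 0x3e7abeed7) (nat_lit 1539))
 (.node (nat_lit 0x3ea73e5e7) (.leaf (nat_lit 0x3e7f7eeea) (nat_lit 1282))
 (.leaf (nat_lit 0x3ea73e5e7) (nat_lit 1283))
))) (.node (nat_lit 0x3fb5fe73d) (.node (nat_lit 0x3eaefe5dc) (.leaf (nat_lit 0x3ea9fe5fb) (nat_lit 1283))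
 (.leaf (nat_lit 0x3eaefe5dc) (nat_lit 1282))
) (.node (nat_lit 0x3fbabe717) (.leaf (nat_lit 0x3fb5fe73d) (nat_lit 1541))
 (.node (nat_lit 0x3fbf7e72a) (.leaf (nat_lit 0x3fbabe717) (nat_lit 1538))
 (.leaf (nat_lit 0x3fbf7e72a) (nat_lit 1282))
))))) (.node (nat_lit 0x408802044) (.node (nat_lit 0x401902260) (.node (nat_lit 0x3fdefea9c) (.node (nat_lit 0x3fd9feabb) (.leaf (nat_lit 0x3fd73eaa7) (nat_lit 1282))
 (.leaf (nat_lit 0x3fd9feabb) (nat_lit 1026))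
) (.node (nat_lit 0x401102264) (.leaf (nat_lit 0x3fdefea9c) (nat_lit 1026))
 (.node (nat_lit 0x401802244) (.leaf (nat_lit 0x401102264) (nat_lit 1283))
 (.leaf (nat_lit 0x401802244) (nat_lit 771))
))) (.node (nat_lit 0x404202901) (.node (nat_lit 0x404042909) (.leaf (nat_lit 0x401902260) (nat_lit 1027))
 (.leaf (nat_lit 0x404042909) (nat_lit 1285))
) (.node (nat_lit 0x404242908) (.leaf (nat_lit 0x404202901) (nat_lit 1028))
 (.node (nat_lit 0x408102064) (.leaf (nat_lit 0x404242908) (nat_lit 1284))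
 (.leaf (nat_lit 0x408102064) (nat_lit 771))
)))) (.node (nat_lit 0x420042109) (.node (nat_lit 0x409102224) (.node (nat_lit 0x408902060) (.leaf (nat_lit 0x408802044) (nat_lit 259))
 (.leaf (nat_lit 0x408902060) (nat_lit 515))
) (.node (nat_lit 0x409802204) (.leaf (nat_lit 0x409102224) (nat_lit 1027))
 (.node (nat_lit 0x409902220) (.leaf (nat_lit 0x409802204) (nat_lit 515))
 (.leaf (nat_lit 0x409902220) (nat_lit 771))
))) (.node (nat_lit 0x424042809) (.node (nat_lit 0x420202101) (.leaf (nat_lit 0x420042109) (nat_lit 1028))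
 (.node (nat_lit 0x420242108) (.leaf (nat_lit 0x420202101) (nat_lit 516))
 (.leaf (nat_lit 0x420242108) (nat_lit 772))
)) (.node (nat_lit 0x424202801) (.leaf (nat_lit 0x424042809) (nat_lit 1029))
 (.node (nat_lit 0x424242808) (.leaf (nat_lit 0x424202801) (nat_lit 772))
 (.leaf (nat_lit 0x424242808) (nat_lit 1028))
)))))))) (.node (nat_lit 0x7751eeaff) (.node (nat_lit 0x5dcc7d9cf) (.node (nat_lit 0x54ef2fde3) (.node (nat_lit 0x489810204) (.node (nat_lit 0x484250908) (.node (nat_lit 0x481910260) (.node (nat_lit 0x481810244) (.leaf (nat_lit 0x481110264) (nat_lit 1539))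
 (.leaf (nat_lit 0x481810244) (nat_lit 1027))
) (.node (nat_lit 0x484050909) (.leaf (nat_lit 0x481910260) (nat_lit 1283))
 (.node (nat_lit 0x484210901) (.leaf (nat_lit 0x484050909) (nat_lit 1285))
 (.leaf (nat_lit 0x484210901) (nat_lit 1284))
))) (.node (nat_lit 0x488810044) (.node (nat_lit 0x488110064) (.leaf (nat_lit 0x484250908) (nat_lit 1540))
 (.leaf (nat_lit 0x488110064) (nat_lit 1027))
) (.node (nat_lit 0x488910060) (.leaf (nat_lit 0x488810044) (nat_lit 515))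
 (.node (nat_lit 0x489110224) (.leaf (nat_lit 0x488910060) (nat_lit 771))
 (.leaf (nat_lit 0x489110224) (nat_lit 1283))
)))) (.node (nat_lit 0x4a4050809) (.node (nat_lit 0x4a0050109) (.node (nat_lit 0x489910220) (.leaf (nat_lit 0x489810204) (nat_lit 771))
 (.leaf (nat_lit 0x489910220) (nat_lit 1027))
) (.node (nat_lit 0x4a0210101) (.leaf (nat_lit 0x4a0050109) (nat_lit 1284))
 (.node (nat_lit 0x4a0250108) (.leaf (nat_lit 0x4a0210101) (nat_lit 772))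
 (.leaf (nat_lit 0x4a0250108) (nat_lit 1028))
))) (.node (nat_lit 0x4a4250808) (.node (nat_lit 0x4a4210801) (.leaf (nat_lit 0x4a4050809) (nat_lit 1285))
 (.leaf (nat_lit 0x4a4210801) (nat_lit 1028))
) (.node (nat_lit 0x54e7efdfc) (.leaf (nat_lit 0x4a4250808) (nat_lit 1284))
 (.node (nat_lit 0x54e8efddf) (.leaf (nat_lit 0x54e7efdfc) (nat_lit 1285))
 (.leaf (nat_lit 0x54e8efddf) (nat_lit 1285))
))))) (.node (nat_lit 0x5797ef3bc) (.node (nat_lit 0x563def7f9) (.node (nat_lit 0x55fdeff39) (.node (nat_lit 0x55f3aff37) (.leaf (nat_lit 0x54ef2fde3) (nat_lit 1283))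
 (.leaf (nat_lit 0x55f3aff37) (nat_lit 1541))
) (.node (nat_lit 0x55fe6ff0e) (.leaf (nat_lit 0x55fdeff39) (nat_lit 1541))
 (.node (nat_lit 0x5633af7f7) (.leaf (nat_lit 0x55fe6ff0e) (nat_lit 1539))
 (.leaf (nat_lit 0x5633af7f7) (nat_lit 1029))
))) (.node (nat_lit 0x5777efe7c) (.node (nat_lit 0x563e6f7ce) (.leaf (nat_lit 0x563def7f9) (nat_lit 1538))
 (.leaf (nat_lit 0x563e6f7ce) (nat_lit 1282))
) (.node (nat_lit 0x5778efe5f) (.leaf (nat_lit 0x5777efe7c) (nat_lit 1285))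
 (.node (nat_lit 0x577f2fe63) (.leaf (nat_lit 0x5778efe5f) (nat_lit 1282))
 (.leaf (nat_lit 0x577f2fe63) (nat_lit 1027))
)))) (.node (nat_lit 0x57ce6f8ce) (.node (nat_lit 0x579f2f3a3) (.node (nat_lit 0x5798ef39f) (.leaf (nat_lit 0x5797ef3bc) (nat_lit 1283))
 (.leaf (nat_lit 0x5798ef39f) (nat_lit 1026))
) (.node (nat_lit 0x57c3af8f7) (.leaf (nat_lit 0x579f2f3a3) (nat_lit 1027))
 (.node (nat_lit 0x57cdef8f9) (.leaf (nat_lit 0x57c3af8f7) (nat_lit 1281))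
 (.leaf (nat_lit 0x57cdef8f9) (nat_lit 1284))
))) (.node (nat_lit 0x5cf9fdfbb) (.node (nat_lit 0x5cf73dfa7) (.leaf (nat_lit 0x57ce6f8ce) (nat_lit 1283))
 (.leaf (nat_lit 0x5cf73dfa7) (nat_lit 1283))
) (.node (nat_lit 0x5cfefdf9c) (.leaf (nat_lit 0x5cf9fdfbb) (nat_lit 1285))
 (.node (nat_lit 0x5dc3fd9fe) (.leaf (nat_lit 0x5cfefdf9c) (nat_lit 1538))
 (.leaf (nat_lit 0x5dc3fd9fe) (nat_lit 1283))
)))))) (.node (nat_lit 0x72a3e75fe) (.node (nat_lit 0x5fbfbd731) (.node (nat_lit 0x5f173d3e7) (.node (nat_lit 0x5e73fdefe) (.node (nat_lit 0x5dcfbd9f1) (.leaf (nat_lit 0x5dcc7d9cf) (nat_lit 1282))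
 (.leaf (nat_lit 0x5dcfbd9f1) (nat_lit 1282))
) (.node (nat_lit 0x5e7c7decf) (.leaf (nat_lit 0x5e73fdefe) (nat_lit 1029))
 (.node (nat_lit 0x5e7fbdef1) (.leaf (nat_lit 0x5e7c7decf) (nat_lit 1280))
 (.leaf (nat_lit 0x5e7fbdef1) (nat_lit 1026))
))) (.node (nat_lit 0x5f1efd3dc) (.node (nat_lit 0x5f19fd3fb) (.leaf (nat_lit 0x5f173d3e7) (nat_lit 1285))
 (.leaf (nat_lit 0x5f19fd3fb) (nat_lit 1537))
) (.node (nat_lit 0x5fb3fd73e) (.leaf (nat_lit 0x5f1efd3dc) (nat_lit 1538))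
 (.node (nat_lit 0x5fbc7d70f) (.leaf (nat_lit 0x5fb3fd73e) (nat_lit 1282))
 (.leaf (nat_lit 0x5fbc7d70f) (nat_lit 1282))
)))) (.node (nat_lit 0x70faa7f97) (.node (nat_lit 0x5fe9fdc7b) (.node (nat_lit 0x5fe73dc67) (.leaf (nat_lit 0x5fbfbd731) (nat_lit 1026))
 (.leaf (nat_lit 0x5fe73dc67) (nat_lit 1538))
) (.node (nat_lit 0x5feefdc5c) (.leaf (nat_lit 0x5fe9fdc7b) (nat_lit 1282))
 (.node (nat_lit 0x70f5e7fbd) (.leaf (nat_lit 0x5feefdc5c) (nat_lit 1282))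
 (.leaf (nat_lit 0x70f5e7fbd) (nat_lit 773))
))) (.node (nat_lit 0x7173e7f7e) (.node (nat_lit 0x70ff67faa) (.leaf (nat_lit 0x70faa7f97) (nat_lit 1024))
 (.leaf (nat_lit 0x70ff67faa) (nat_lit 1280))
) (.node (nat_lit 0x717c67f4f) (.leaf (nat_lit 0x7173e7f7e) (nat_lit 1029))
 (.node (nat_lit 0x717fa7f71) (.leaf (nat_lit 0x717c67f4f) (nat_lit 1285))
 (.leaf (nat_lit 0x717fa7f71) (nat_lit 1536))
))))) (.node (nat_lit 0x73eaa7c57) (.node (nat_lit 0x731f673ea) (.node (nat_lit 0x72afa75f1) (.node (nat_lit 0x72ac675cf) (.leaf (nat_lit 0x72a3e75fe) (nat_lit 1285))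
 (.leaf (nat_lit 0x72ac675cf) (nat_lit 1538))
) (.node (nat_lit 0x7315e73fd) (.leaf (nat_lit 0x72afa75f1) (nat_lit 1285))
 (.node (nat_lit 0x731aa73d7) (.leaf (nat_lit 0x7315e73fd) (nat_lit 1025))
 (.leaf (nat_lit 0x731aa73d7) (nat_lit 1282))
))) (.node (nat_lit 0x73dc67a8f) (.node (nat_lit 0x73d3e7abe) (.leaf (nat_lit 0x731f673ea) (nat_lit 1029))
 (.leaf (nat_lit 0x73d3e7abe) (nat_lit 1537))
) (.node (nat_lit 0x73dfa7ab1) (.leaf (nat_lit 0x73dc67a8f) (nat_lit 1285))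
 (.node (nat_lit 0x73e5e7c7d) (.leaf (nat_lit 0x73dfa7ab1) (nat_lit 1540))
 (.leaf (nat_lit 0x73e5e7c7d) (nat_lit 1281))
)))) (.node (nat_lit 0x75e1eed7f) (.node (nat_lit 0x7477aeff5) (.node (nat_lit 0x73ef67c6a) (.leaf (nat_lit 0x73eaa7c57) (nat_lit 1285))
 (.leaf (nat_lit 0x73ef67c6a) (nat_lit 1283))
) (.node (nat_lit 0x747aeefde) (.leaf (nat_lit 0x7477aeff5) (nat_lit 1029))
 (.node (nat_lit 0x747d6efeb) (.leaf (nat_lit 0x747aeefde) (nat_lit 1280))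
 (.leaf (nat_lit 0x747d6efeb) (nat_lit 1283))
))) (.node (nat_lit 0x76b1ee7bf) (.node (nat_lit 0x75ee2ed47) (.leaf (nat_lit 0x75e1eed7f) (nat_lit 1285))
 (.node (nat_lit 0x75efeed78) (.leaf (nat_lit 0x75ee2ed47) (nat_lit 1283))
 (.leaf (nat_lit 0x75efeed78) (nat_lit 1285))
)) (.node (nat_lit 0x76be2e787) (.leaf (nat_lit 0x76b1ee7bf) (nat_lit 1541))
 (.node (nat_lit 0x76bfee7b8) (.leaf (nat_lit 0x76be2e787) (nat_lit 1283))
 (.leaf (nat_lit 0x76bfee7b8) (nat_lit 1541))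
))))))) (.node (nat_lit 0x7f9bfc3ba) (.node (nat_lit 0x7b3ff5778) (.node (nat_lit 0x787bb5ff3) (.node (nat_lit 0x778d6e1eb) (.node (nat_lit 0x775feeaf8) (.node (nat_lit 0x775e2eac7) (.leaf (nat_lit 0x7751eeaff) (nat_lit 1541))
 (.leaf (nat_lit 0x775e2eac7) (nat_lit 1027))
) (.node (nat_lit 0x7787ae1f5) (.leaf (nat_lit 0x775feeaf8) (nat_lit 1283))
 (.node (nat_lit 0x778aee1de) (.leaf (nat_lit 0x7787ae1f5) (nat_lit 1281))
 (.leaf (nat_lit 0x778aee1de) (nat_lit 1283))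
))) (.node (nat_lit 0x77faeee1e) (.node (nat_lit 0x77f7aee35) (.leaf (nat_lit 0x778d6e1eb) (nat_lit 1027))
 (.leaf (nat_lit 0x77f7aee35) (nat_lit 1029))
) (.node (nat_lit 0x77fd6ee2b) (.leaf (nat_lit 0x77faeee1e) (nat_lit 1282))
 (.node (nat_lit 0x787775fee) (.leaf (nat_lit 0x77fd6ee2b) (nat_lit 1282))
 (.leaf (nat_lit 0x787775fee) (nat_lit 1285))
)))) (.node (nat_lit 0x7ae1f5cff) (.node (nat_lit 0x79d1f5bbf) (.node (nat_lit 0x787cf5fdd) (.leaf (nat_lit 0x787bb5ff3) (nat_lit 1541))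
 (.leaf (nat_lit 0x787cf5fdd) (nat_lit 1541))
) (.node (nat_lit 0x79de35b87) (.leaf (nat_lit 0x79d1f5bbf) (nat_lit 1029))
 (.node (nat_lit 0x79dff5bb8) (.leaf (nat_lit 0x79de35b87) (nat_lit 1027))
 (.leaf (nat_lit 0x79dff5bb8) (nat_lit 1029))
))) (.node (nat_lit 0x7aeff5cf8) (.node (nat_lit 0x7aee35cc7) (.leaf (nat_lit 0x7ae1f5cff) (nat_lit 1285))
 (.leaf (nat_lit 0x7aee35cc7) (nat_lit 1027))
) (.node (nat_lit 0x7b31f577f) (.leaf (nat_lit 0x7aeff5cf8) (nat_lit 1282))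
 (.node (nat_lit 0x7b3e35747) (.leaf (nat_lit 0x7b31f577f) (nat_lit 1281))
 (.leaf (nat_lit 0x7b3e35747) (nat_lit 1027))
))))) (.node (nat_lit 0x7d53bcbf7) (.node (nat_lit 0x7bfbb5e33) (.node (nat_lit 0x7b8bb51f3) (.node (nat_lit 0x7b87751ee) (.leaf (nat_lit 0x7b3ff5778) (nat_lit 1282))
 (.leaf (nat_lit 0x7b87751ee) (nat_lit 1284))
) (.node (nat_lit 0x7b8cf51dd) (.leaf (nat_lit 0x7b8bb51f3) (nat_lit 1284))
 (.node (nat_lit 0x7bf775e2e) (.leaf (nat_lit 0x7b8cf51dd) (nat_lit 1284))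
 (.leaf (nat_lit 0x7bf775e2e) (nat_lit 1285))
))) (.node (nat_lit 0x7ce57cdef) (.node (nat_lit 0x7bfcf5e1d) (.leaf (nat_lit 0x7bfbb5e33) (nat_lit 1538))
 (.leaf (nat_lit 0x7bfcf5e1d) (nat_lit 1538))
) (.node (nat_lit 0x7cebfcdfa) (.leaf (nat_lit 0x7ce57cdef) (nat_lit 1541))
 (.node (nat_lit 0x7ceebcdd5) (.leaf (nat_lit 0x7cebfcdfa) (nat_lit 1282))
 (.leaf (nat_lit 0x7ceebcdd5) (nat_lit 1282))
)))) (.node (nat_lit 0x7efe7ce8e) (.node (nat_lit 0x7d5e7cbce) (.node (nat_lit 0x7d5dfcbf9) (.leaf (nat_lit 0x7d53bcbf7) (nat_lit 1285))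
 (.leaf (nat_lit 0x7d5dfcbf9) (nat_lit 1026))
) (.node (nat_lit 0x7ef3bceb7) (.leaf (nat_lit 0x7d5e7cbce) (nat_lit 1026))
 (.node (nat_lit 0x7efdfceb9) (.leaf (nat_lit 0x7ef3bceb7) (nat_lit 1026))
 (.leaf (nat_lit 0x7efdfceb9) (nat_lit 770))
))) (.node (nat_lit 0x7f7bfce7a) (.node (nat_lit 0x7f757ce6f) (.leaf (nat_lit 0x7efe7ce8e) (nat_lit 1283))
 (.leaf (nat_lit 0x7f757ce6f) (nat_lit 1282))
) (.node (nat_lit 0x7f7ebce55) (.leaf (nat_lit 0x7f7bfce7a) (nat_lit 1026))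
 (.node (nat_lit 0x7f957c3af) (.leaf (nat_lit 0x7f7ebce55) (nat_lit 1283))
 (.leaf (nat_lit 0x7f957c3af) (nat_lit 1282))
)))))) (.node (nat_lit 0x812044409) (.node (nat_lit 0x802244488) (.node (nat_lit 0x801084252) (.node (nat_lit 0x7fa3bc577) (.node (nat_lit 0x7f9ebc395) (.leaf (nat_lit 0x7f9bfc3ba) (nat_lit 1540))
 (.leaf (nat_lit 0x7f9ebc395) (nat_lit 1540))
) (.node (nat_lit 0x7fadfc579) (.leaf (nat_lit 0x7fa3bc577) (nat_lit 1282))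
 (.node (nat_lit 0x7fae7c54e) (.leaf (nat_lit 0x7fadfc579) (nat_lit 1283))
 (.leaf (nat_lit 0x7fae7c54e) (nat_lit 1283))
))) (.node (nat_lit 0x801484250) (.node (nat_lit 0x801404242) (.leaf (nat_lit 0x801084252) (nat_lit 1029))
 (.leaf (nat_lit 0x801404242) (nat_lit 772))
) (.node (nat_lit 0x802044489) (.leaf (nat_lit 0x801484250) (nat_lit 1028))
 (.node (nat_lit 0x802204481) (.leaf (nat_lit 0x802044489) (nat_lit 1025))
 (.leaf (nat_lit 0x802204481) (nat_lit 513))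
)))) (.node (nat_lit 0x809404202) (.node (nat_lit 0x808404042) (.node (nat_lit 0x808084052) (.leaf (nat_lit 0x802244488) (nat_lit 769))
 (.leaf (nat_lit 0x808084052) (nat_lit 772))
) (.node (nat_lit 0x808484050) (.leaf (nat_lit 0x808404042) (nat_lit 260))
 (.node (nat_lit 0x809084212) (.leaf (nat_lit 0x808484050) (nat_lit 516))
 (.leaf (nat_lit 0x809084212) (nat_lit 773))
))) (.node (nat_lit 0x810044089) (.node (nat_lit 0x809484210) (.leaf (nat_lit 0x809404202) (nat_lit 516))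
 (.leaf (nat_lit 0x809484210) (nat_lit 772))
) (.node (nat_lit 0x810204081) (.leaf (nat_lit 0x810044089) (nat_lit 512))
 (.node (nat_lit 0x810244088) (.leaf (nat_lit 0x810204081) (nat_lit 0))
 (.leaf (nat_lit 0x810244088) (nat_lit 256))
))))) (.node (nat_lit 0x8efddfeb9) (.node (nat_lit 0x8cee9fdd5) (.node (nat_lit 0x812244408) (.node (nat_lit 0x812204401) (.leaf (nat_lit 0x812044409) (nat_lit 769))
 (.leaf (nat_lit 0x812204401) (nat_lit 257))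
) (.node (nat_lit 0x8ce55fdef) (.leaf (nat_lit 0x812244408) (nat_lit 513))
 (.node (nat_lit 0x8cebdfdfa) (.leaf (nat_lit 0x8ce55fdef) (nat_lit 1029))
 (.leaf (nat_lit 0x8cebdfdfa) (nat_lit 1538))
))) (.node (nat_lit 0x8d5ddfbf9) (.node (nat_lit 0x8d539fbf7) (.leaf (nat_lit 0x8cee9fdd5) (nat_lit 1280))
 (.leaf (nat_lit 0x8d539fbf7) (nat_lit 1285))
) (.node (nat_lit 0x8d5e5fbce) (.leaf (nat_lit 0x8d5ddfbf9) (nat_lit 1282))
 (.node (nat_lit 0x8ef39feb7) (.leaf (nat_lit 0x8d5e5fbce) (nat_lit 1283))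
 (.leaf (nat_lit 0x8ef39feb7) (nat_lit 1282))
)))) (.node (nat_lit 0x8f955f3af) (.node (nat_lit 0x8f755fe6f) (.node (nat_lit 0x8efe5fe8e) (.leaf (nat_lit 0x8efddfeb9) (nat_lit 1026))
 (.leaf (nat_lit 0x8efe5fe8e) (nat_lit 1027))
) (.node (nat_lit 0x8f7bdfe7a) (.leaf (nat_lit 0x8f755fe6f) (nat_lit 1541))
 (.node (nat_lit 0x8f7e9fe55) (.leaf (nat_lit 0x8f7bdfe7a) (nat_lit 1282))
 (.leaf (nat_lit 0x8f7e9fe55) (nat_lit 1284))
))) (.node (nat_lit 0x8fa39f577) (.node (nat_lit 0x8f9bdf3ba) (.leaf (nat_lit 0x8f955f3af) (nat_lit 1281))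
 (.node (nat_lit 0x8f9e9f395) (.leaf (nat_lit 0x8f9bdf3ba) (nat_lit 1284))
 (.leaf (nat_lit 0x8f9e9f395) (nat_lit 1028))
)) (.node (nat_lit 0x8faddf579) (.leaf (nat_lit 0x8fa39f577) (nat_lit 1283))
 (.node (nat_lit 0x8fae5f54e) (.leaf (nat_lit 0x8faddf579) (nat_lit 1027))
 (.leaf (nat_lit 0x8fae5f54e) (nat_lit 771))
))))))))) (.node (nat_lit 0xdd57f9bfc) (.node (nat_lit 0xbb51f3aff) (.node (nat_lit 0xa9cc579cf) (.node (nat_lit 0x9cff7bfaa) (.node (nat_lit 0x909420202) (.node (nat_lit 0x902260488) (.node (nat_lit 0x9014a0250) (.node (nat_lit 0x901420242) (.leaf (nat_lit 0x9010a0252) (nat_lit 1285))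
 (.leaf (nat_lit 0x901420242) (nat_lit 1028))
) (.node (nat_lit 0x902060489) (.leaf (nat_lit 0x9014a0250) (nat_lit 1284))
 (.node (nat_lit 0x902220481) (.leaf (nat_lit 0x902060489) (nat_lit 1282))
 (.leaf (nat_lit 0x902220481) (nat_lit 770))
))) (.node (nat_lit 0x908420042) (.node (nat_lit 0x9080a0052) (.leaf (nat_lit 0x902260488) (nat_lit 1026))
 (.leaf (nat_lit 0x9080a0052) (nat_lit 1028))
) (.node (nat_lit 0x9084a0050) (.leaf (nat_lit 0x908420042) (nat_lit 516))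
 (.node (nat_lit 0x9090a0212) (.leaf (nat_lit 0x9084a0050) (nat_lit 772))
 (.leaf (nat_lit 0x9090a0212) (nat_lit 1029))
)))) (.node (nat_lit 0x912060409) (.node (nat_lit 0x910060089) (.node (nat_lit 0x9094a0210) (.leaf (nat_lit 0x909420202) (nat_lit 772))
 (.leaf (nat_lit 0x9094a0210) (nat_lit 1028))
) (.node (nat_lit 0x910220081) (.leaf (nat_lit 0x910060089) (nat_lit 770))
 (.node (nat_lit 0x910260088) (.leaf (nat_lit 0x910220081) (nat_lit 258))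
 (.leaf (nat_lit 0x910260088) (nat_lit 514))
))) (.node (nat_lit 0x912260408) (.node (nat_lit 0x912220401) (.leaf (nat_lit 0x912060409) (nat_lit 1026))
 (.leaf (nat_lit 0x912220401) (nat_lit 514))
) (.node (nat_lit 0x9cf5fbfbd) (.leaf (nat_lit 0x912260408) (nat_lit 770))
 (.node (nat_lit 0x9cfabbf97) (.leaf (nat_lit 0x9cf5fbfbd) (nat_lit 773))
 (.leaf (nat_lit 0x9cfabbf97) (nat_lit 1024))
))))) (.node (nat_lit 0x9fd3fbabe) (.node (nat_lit 0x9eac7b5cf) (.node (nat_lit 0x9d7c7bf4f) (.node (nat_lit 0x9d73fbf7e) (.leaf (nat_lit 0x9cff7bfaa) (nat_lit 1283))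
 (.leaf (nat_lit 0x9d73fbf7e) (nat_lit 1029))
) (.node (nat_lit 0x9d7fbbf71) (.leaf (nat_lit 0x9d7c7bf4f) (nat_lit 1280))
 (.node (nat_lit 0x9ea3fb5fe) (.leaf (nat_lit 0x9d7fbbf71) (nat_lit 1538))
 (.leaf (nat_lit 0x9ea3fb5fe) (nat_lit 1281))
))) (.node (nat_lit 0x9f15fb3fd) (.node (nat_lit 0x9eafbb5f1) (.leaf (nat_lit 0x9eac7b5cf) (nat_lit 1282))
 (.leaf (nat_lit 0x9eafbb5f1) (nat_lit 1285))
) (.node (nat_lit 0x9f1abb3d7) (.leaf (nat_lit 0x9f15fb3fd) (nat_lit 1025))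
 (.node (nat_lit 0x9f1f7b3ea) (.leaf (nat_lit 0x9f1abb3d7) (nat_lit 1026))
 (.leaf (nat_lit 0x9f1f7b3ea) (nat_lit 1029))
)))) (.node (nat_lit 0x9fef7bc6a) (.node (nat_lit 0x9fdfbbab1) (.node (nat_lit 0x9fdc7ba8f) (.leaf (nat_lit 0x9fd3fbabe) (nat_lit 1538))
 (.leaf (nat_lit 0x9fdc7ba8f) (nat_lit 1285))
) (.node (nat_lit 0x9fe5fbc7d) (.leaf (nat_lit 0x9fdfbbab1) (nat_lit 1284))
 (.node (nat_lit 0x9feabbc57) (.leaf (nat_lit 0x9fe5fbc7d) (nat_lit 1282))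
 (.leaf (nat_lit 0x9feabbc57) (nat_lit 1282))
))) (.node (nat_lit 0xa8f9d7fbb) (.node (nat_lit 0xa8f717fa7) (.leaf (nat_lit 0x9fef7bc6a) (nat_lit 1027))
 (.leaf (nat_lit 0xa8f717fa7) (nat_lit 1285))
) (.node (nat_lit 0xa8fed7f9c) (.leaf (nat_lit 0xa8f9d7fbb) (nat_lit 1285))
 (.node (nat_lit 0xa9c3d79fe) (.leaf (nat_lit 0xa8fed7f9c) (nat_lit 1536))
 (.leaf (nat_lit 0xa9c3d79fe) (nat_lit 1281))
)))))) (.node (nat_lit 0xaee1decff) (.node (nat_lit 0xabbf97731) (.node (nat_lit 0xab17173e7) (.node (nat_lit 0xaa73d7efe) (.node (nat_lit 0xa9cf979f1) (.leaf (nat_lit 0xa9cc579cf) (nat_lit 1281))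
 (.leaf (nat_lit 0xa9cf979f1) (nat_lit 1285))
) (.node (nat_lit 0xaa7c57ecf) (.leaf (nat_lit 0xaa73d7efe) (nat_lit 1029))
 (.node (nat_lit 0xaa7f97ef1) (.leaf (nat_lit 0xaa7c57ecf) (nat_lit 1025))
 (.leaf (nat_lit 0xaa7f97ef1) (nat_lit 1282))
))) (.node (nat_lit 0xab1ed73dc) (.node (nat_lit 0xab19d73fb) (.leaf (nat_lit 0xab17173e7) (nat_lit 1537))
 (.leaf (nat_lit 0xab19d73fb) (nat_lit 1280))
) (.node (nat_lit 0xabb3d773e) (.leaf (nat_lit 0xab1ed73dc) (nat_lit 1029))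
 (.node (nat_lit 0xabbc5770f) (.leaf (nat_lit 0xabb3d773e) (nat_lit 1280))
 (.leaf (nat_lit 0xabbc5770f) (nat_lit 773))
)))) (.node (nat_lit 0xac7b9eff3) (.node (nat_lit 0xabe9d7c7b) (.node (nat_lit 0xabe717c67) (.leaf (nat_lit 0xabbf97731) (nat_lit 1024))
 (.leaf (nat_lit 0xabe717c67) (nat_lit 1285))
) (.node (nat_lit 0xabeed7c5c) (.leaf (nat_lit 0xabe9d7c7b) (nat_lit 1538))
 (.node (nat_lit 0xac775efee) (.leaf (nat_lit 0xabeed7c5c) (nat_lit 1281))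
 (.leaf (nat_lit 0xac775efee) (nat_lit 1541))
))) (.node (nat_lit 0xadd1debbf) (.node (nat_lit 0xac7cdefdd) (.leaf (nat_lit 0xac7b9eff3) (nat_lit 1541))
 (.leaf (nat_lit 0xac7cdefdd) (nat_lit 1284))
) (.node (nat_lit 0xadde1eb87) (.leaf (nat_lit 0xadd1debbf) (nat_lit 1282))
 (.node (nat_lit 0xaddfdebb8) (.leaf (nat_lit 0xadde1eb87) (nat_lit 1027))
 (.leaf (nat_lit 0xaddfdebb8) (nat_lit 1282))
))))) (.node (nat_lit 0xaffb9ee33) (.node (nat_lit 0xaf3fde778) (.node (nat_lit 0xaeefdecf8) (.node (nat_lit 0xaeee1ecc7) (.leaf (nat_lit 0xaee1decff) (nat_lit 1285))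
 (.leaf (nat_lit 0xaeee1ecc7) (nat_lit 771))
) (.node (nat_lit 0xaf31de77f) (.leaf (nat_lit 0xaeefdecf8) (nat_lit 1027))
 (.node (nat_lit 0xaf3e1e747) (.leaf (nat_lit 0xaf31de77f) (nat_lit 1027))
 (.leaf (nat_lit 0xaf3e1e747) (nat_lit 515))
))) (.node (nat_lit 0xaf8b9e1f3) (.node (nat_lit 0xaf875e1ee) (.leaf (nat_lit 0xaf3fde778) (nat_lit 771))
 (.leaf (nat_lit 0xaf875e1ee) (nat_lit 1284))
) (.node (nat_lit 0xaf8cde1dd) (.leaf (nat_lit 0xaf8b9e1f3) (nat_lit 1028))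
 (.node (nat_lit 0xaff75ee2e) (.leaf (nat_lit 0xaf8cde1dd) (nat_lit 772))
 (.leaf (nat_lit 0xaff75ee2e) (nat_lit 1285))
)))) (.node (nat_lit 0xb9e1f3d7f) (.node (nat_lit 0xb877b3ff5) (.node (nat_lit 0xaffcdee1d) (.leaf (nat_lit 0xaffb9ee33) (nat_lit 1284))
 (.leaf (nat_lit 0xaffcdee1d) (nat_lit 1028))
) (.node (nat_lit 0xb87af3fde) (.leaf (nat_lit 0xb877b3ff5) (nat_lit 1029))
 (.node (nat_lit 0xb87d73feb) (.leaf (nat_lit 0xb87af3fde) (nat_lit 1280))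
 (.leaf (nat_lit 0xb87d73feb) (nat_lit 1281))
))) (.node (nat_lit 0xbab1f37bf) (.node (nat_lit 0xb9ee33d47) (.leaf (nat_lit 0xb9e1f3d7f) (nat_lit 1285))
 (.node (nat_lit 0xb9eff3d78) (.leaf (nat_lit 0xb9ee33d47) (nat_lit 1027))
 (.leaf (nat_lit 0xb9eff3d78) (nat_lit 1283))
)) (.node (nat_lit 0xbabe33787) (.leaf (nat_lit 0xbab1f37bf) (nat_lit 1537))
 (.node (nat_lit 0xbabff37b8) (.leaf (nat_lit 0xbabe33787) (nat_lit 1027))
 (.leaf (nat_lit 0xbabff37b8) (nat_lit 1285))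
))))))) (.node (nat_lit 0xc7ba8f717) (.node (nat_lit 0xbf7f3ae63) (.node (nat_lit 0xbce8faddf) (.node (nat_lit 0xbb8d731eb) (.node (nat_lit 0xbb5ff3af8) (.node (nat_lit 0xbb5e33ac7) (.leaf (nat_lit 0xbb51f3aff) (nat_lit 1536))
 (.leaf (nat_lit 0xbb5e33ac7) (nat_lit 1283))
) (.node (nat_lit 0xbb87b31f5) (.leaf (nat_lit 0xbb5ff3af8) (nat_lit 1285))
 (.node (nat_lit 0xbb8af31de) (.leaf (nat_lit 0xbb87b31f5) (nat_lit 1281))
 (.leaf (nat_lit 0xbb8af31de) (nat_lit 1027))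
))) (.node (nat_lit 0xbbfaf3e1e) (.node (nat_lit 0xbbf7b3e35) (.leaf (nat_lit 0xbb8d731eb) (nat_lit 1285))
 (.leaf (nat_lit 0xbbf7b3e35) (nat_lit 1280))
) (.node (nat_lit 0xbbfd73e2b) (.leaf (nat_lit 0xbbfaf3e1e) (nat_lit 1029))
 (.node (nat_lit 0xbce7fadfc) (.leaf (nat_lit 0xbbfd73e2b) (nat_lit 1029))
 (.leaf (nat_lit 0xbce7fadfc) (nat_lit 1285))
)))) (.node (nat_lit 0xbe33ba7f7) (.node (nat_lit 0xbdf3baf37) (.node (nat_lit 0xbcef3ade3) (.leaf (nat_lit 0xbce8faddf) (nat_lit 1282))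
 (.leaf (nat_lit 0xbcef3ade3) (nat_lit 1027))
) (.node (nat_lit 0xbdfdfaf39) (.leaf (nat_lit 0xbdf3baf37) (nat_lit 1541))
 (.node (nat_lit 0xbdfe7af0e) (.leaf (nat_lit 0xbdfdfaf39) (nat_lit 1282))
 (.leaf (nat_lit 0xbdfe7af0e) (nat_lit 1283))
))) (.node (nat_lit 0xbe3e7a7ce) (.node (nat_lit 0xbe3dfa7f9) (.leaf (nat_lit 0xbe33ba7f7) (nat_lit 1538))
 (.leaf (nat_lit 0xbe3dfa7f9) (nat_lit 1282))
) (.node (nat_lit 0xbf77fae7c) (.leaf (nat_lit 0xbe3e7a7ce) (nat_lit 1026))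
 (.node (nat_lit 0xbf78fae5f) (.leaf (nat_lit 0xbf77fae7c) (nat_lit 1026))
 (.leaf (nat_lit 0xbf78fae5f) (nat_lit 1026))
))))) (.node (nat_lit 0xc5c5cf9fd) (.node (nat_lit 0xbfcdfa8f9) (.node (nat_lit 0xbf98fa39f) (.node (nat_lit 0xbf97fa3bc) (.leaf (nat_lit 0xbf7f3ae63) (nat_lit 771))
 (.leaf (nat_lit 0xbf97fa3bc) (nat_lit 1282))
) (.node (nat_lit 0xbf9f3a3a3) (.leaf (nat_lit 0xbf98fa39f) (nat_lit 770))
 (.node (nat_lit 0xbfc3ba8f7) (.leaf (nat_lit 0xbf9f3a3a3) (nat_lit 1026))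
 (.leaf (nat_lit 0xbfc3ba8f7) (nat_lit 1282))
))) (.node (nat_lit 0xc5770ff67) (.node (nat_lit 0xbfce7a8ce) (.leaf (nat_lit 0xbfcdfa8f9) (nat_lit 1028))
 (.leaf (nat_lit 0xbfce7a8ce) (nat_lit 1282))
) (.node (nat_lit 0xc579cff7b) (.leaf (nat_lit 0xc5770ff67) (nat_lit 1281))
 (.node (nat_lit 0xc57ecff5c) (.leaf (nat_lit 0xc579cff7b) (nat_lit 1285))
 (.leaf (nat_lit 0xc57ecff5c) (nat_lit 1281))
)))) (.node (nat_lit 0xc67f4feea) (.node (nat_lit 0xc5cf4f9ea) (.node (nat_lit 0xc5ca8f9d7) (.leaf (nat_lit 0xc5c5cf9fd) (nat_lit 1285))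
 (.leaf (nat_lit 0xc5ca8f9d7) (nat_lit 1537))
) (.node (nat_lit 0xc675cfefd) (.leaf (nat_lit 0xc5cf4f9ea) (nat_lit 1285))
 (.node (nat_lit 0xc67a8fed7) (.leaf (nat_lit 0xc675cfefd) (nat_lit 1285))
 (.leaf (nat_lit 0xc67a8fed7) (nat_lit 1281))
))) (.node (nat_lit 0xc6a9cf5fb) (.node (nat_lit 0xc6a70f5e7) (.leaf (nat_lit 0xc67f4feea) (nat_lit 1537))
 (.leaf (nat_lit 0xc6a70f5e7) (nat_lit 1280))
) (.node (nat_lit 0xc6aecf5dc) (.leaf (nat_lit 0xc6a9cf5fb) (nat_lit 1024))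
 (.node (nat_lit 0xc7b5cf73d) (.leaf (nat_lit 0xc6aecf5dc) (nat_lit 773))
 (.leaf (nat_lit 0xc7b5cf73d) (nat_lit 1536))
)))))) (.node (nat_lit 0xcff79de35) (.node (nat_lit 0xcdefddd78) (.node (nat_lit 0xcc779dff5) (.node (nat_lit 0xc7d70faa7) (.node (nat_lit 0xc7bf4f72a) (.leaf (nat_lit 0xc7ba8f717) (nat_lit 1029))
 (.leaf (nat_lit 0xc7bf4f72a) (nat_lit 1280))
) (.node (nat_lit 0xc7d9cfabb) (.leaf (nat_lit 0xc7d70faa7) (nat_lit 1029))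
 (.node (nat_lit 0xc7decfa9c) (.leaf (nat_lit 0xc7d9cfabb) (nat_lit 1281))
 (.leaf (nat_lit 0xc7decfa9c) (nat_lit 1025))
))) (.node (nat_lit 0xcc7d5dfeb) (.node (nat_lit 0xcc7addfde) (.leaf (nat_lit 0xcc779dff5) (nat_lit 1282))
 (.leaf (nat_lit 0xcc7addfde) (nat_lit 1285))
) (.node (nat_lit 0xcde1ddd7f) (.leaf (nat_lit 0xcc7d5dfeb) (nat_lit 1541))
 (.node (nat_lit 0xcdee1dd47) (.leaf (nat_lit 0xcde1ddd7f) (nat_lit 1538))
 (.leaf (nat_lit 0xcdee1dd47) (nat_lit 1283))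
)))) (.node (nat_lit 0xcf5e1dac7) (.node (nat_lit 0xcebe1d787) (.node (nat_lit 0xceb1dd7bf) (.leaf (nat_lit 0xcdefddd78) (nat_lit 1541))
 (.leaf (nat_lit 0xceb1dd7bf) (nat_lit 1283))
) (.node (nat_lit 0xcebfdd7b8) (.leaf (nat_lit 0xcebe1d787) (nat_lit 771))
 (.node (nat_lit 0xcf51ddaff) (.leaf (nat_lit 0xcebfdd7b8) (nat_lit 1027))
 (.leaf (nat_lit 0xcf51ddaff) (nat_lit 1541))
))) (.node (nat_lit 0xcf879d1f5) (.node (nat_lit 0xcf5fddaf8) (.leaf (nat_lit 0xcf5e1dac7) (nat_lit 1027))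
 (.leaf (nat_lit 0xcf5fddaf8) (nat_lit 1283))
) (.node (nat_lit 0xcf8add1de) (.leaf (nat_lit 0xcf879d1f5) (nat_lit 1283))
 (.node (nat_lit 0xcf8d5d1eb) (.leaf (nat_lit 0xcf8add1de) (nat_lit 771))
 (.leaf (nat_lit 0xcf8d5d1eb) (nat_lit 1027))
))))) (.node (nat_lit 0xd6ee2bcc7) (.node (nat_lit 0xd47cebfdd) (.node (nat_lit 0xcffd5de2b) (.node (nat_lit 0xcffadde1e) (.leaf (nat_lit 0xcff79de35) (nat_lit 1285))
 (.leaf (nat_lit 0xcffadde1e) (nat_lit 1027))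
) (.node (nat_lit 0xd4776bfee) (.leaf (nat_lit 0xcffd5de2b) (nat_lit 1285))
 (.node (nat_lit 0xd47babff3) (.leaf (nat_lit 0xd4776bfee) (nat_lit 1285))
 (.leaf (nat_lit 0xd47babff3) (nat_lit 1537))
))) (.node (nat_lit 0xd5de2bb87) (.node (nat_lit 0xd5d1ebbbf) (.leaf (nat_lit 0xd47cebfdd) (nat_lit 1541))
 (.leaf (nat_lit 0xd5d1ebbbf) (nat_lit 1029))
) (.node (nat_lit 0xd5dfebbb8) (.leaf (nat_lit 0xd5de2bb87) (nat_lit 771))
 (.node (nat_lit 0xd6e1ebcff) (.leaf (nat_lit 0xd5dfebbb8) (nat_lit 1027))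
 (.leaf (nat_lit 0xd6e1ebcff) (nat_lit 1280))
)))) (.node (nat_lit 0xd7876b1ee) (.node (nat_lit 0xd731eb77f) (.node (nat_lit 0xd6efebcf8) (.leaf (nat_lit 0xd6ee2bcc7) (nat_lit 1027))
 (.leaf (nat_lit 0xd6efebcf8) (nat_lit 1029))
) (.node (nat_lit 0xd73e2b747) (.leaf (nat_lit 0xd731eb77f) (nat_lit 1280))
 (.node (nat_lit 0xd73feb778) (.leaf (nat_lit 0xd73e2b747) (nat_lit 771))
 (.leaf (nat_lit 0xd73feb778) (nat_lit 1029))
))) (.node (nat_lit 0xd7f76be2e) (.node (nat_lit 0xd78bab1f3) (.leaf (nat_lit 0xd7876b1ee) (nat_lit 1028))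
 (.node (nat_lit 0xd78ceb1dd) (.leaf (nat_lit 0xd78bab1f3) (nat_lit 1284))
 (.leaf (nat_lit 0xd78ceb1dd) (nat_lit 1028))
)) (.node (nat_lit 0xd7fbabe33) (.leaf (nat_lit 0xd7f76be2e) (nat_lit 1284))
 (.node (nat_lit 0xd7fcebe1d) (.leaf (nat_lit 0xd7fbabe33) (nat_lit 1285))
 (.leaf (nat_lit 0xd7fcebe1d) (nat_lit 1285))
)))))))) (.node (nat_lit 0xef15dc3fd) (.node (nat_lit 0xe5fbcef3a) (.node (nat_lit 0xe1dd47bab) (.node (nat_lit 0xdef8f9e9f) (.node (nat_lit 0xddfeb9f15) (.node (nat_lit 0xdd5f39be3) (.node (nat_lit 0xdd58f9bdf) (.leaf (nat_lit 0xdd57f9bfc) (nat_lit 1538))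
 (.leaf (nat_lit 0xdd58f9bdf) (nat_lit 1538))
) (.node (nat_lit 0xddf579f2f) (.leaf (nat_lit 0xdd5f39be3) (nat_lit 1282))
 (.node (nat_lit 0xddfbf9f3a) (.leaf (nat_lit 0xddf579f2f) (nat_lit 1282))
 (.leaf (nat_lit 0xddfbf9f3a) (nat_lit 1282))
))) (.node (nat_lit 0xde3bf97fa) (.node (nat_lit 0xde35797ef) (.leaf (nat_lit 0xddfeb9f15) (nat_lit 1027))
 (.leaf (nat_lit 0xde35797ef) (nat_lit 1282))
) (.node (nat_lit 0xde3eb97d5) (.leaf (nat_lit 0xde3bf97fa) (nat_lit 1026))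
 (.node (nat_lit 0xdef7f9ebc) (.leaf (nat_lit 0xde3eb97d5) (nat_lit 770))
 (.leaf (nat_lit 0xdef7f9ebc) (nat_lit 1282))
)))) (.node (nat_lit 0xdfc5798ef) (.node (nat_lit 0xdfa7f957c) (.node (nat_lit 0xdeff39ea3) (.leaf (nat_lit 0xdef8f9e9f) (nat_lit 1282))
 (.leaf (nat_lit 0xdeff39ea3) (nat_lit 1027))
) (.node (nat_lit 0xdfa8f955f) (.leaf (nat_lit 0xdfa7f957c) (nat_lit 1284))
 (.node (nat_lit 0xdfaf39563) (.leaf (nat_lit 0xdfa8f955f) (nat_lit 1026))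
 (.leaf (nat_lit 0xdfaf39563) (nat_lit 1282))
))) (.node (nat_lit 0xdfceb98d5) (.node (nat_lit 0xdfcbf98fa) (.leaf (nat_lit 0xdfc5798ef) (nat_lit 1026))
 (.leaf (nat_lit 0xdfcbf98fa) (nat_lit 1027))
) (.node (nat_lit 0xe1d787bb5) (.leaf (nat_lit 0xdfceb98d5) (nat_lit 1026))
 (.node (nat_lit 0xe1dac7b9e) (.leaf (nat_lit 0xe1d787bb5) (nat_lit 1024))
 (.leaf (nat_lit 0xe1dac7b9e) (nat_lit 1025))
))))) (.node (nat_lit 0xe33787775) (.node (nat_lit 0xe2bb877b3) (.node (nat_lit 0xe1eb87d73) (.node (nat_lit 0xe1e747d6e) (.leaf (nat_lit 0xe1dd47bab) (nat_lit 773))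
 (.leaf (nat_lit 0xe1e747d6e) (nat_lit 769))
) (.node (nat_lit 0xe1ecc7d5d) (.leaf (nat_lit 0xe1eb87d73) (nat_lit 773))
 (.node (nat_lit 0xe2b7477ae) (.leaf (nat_lit 0xe1ecc7d5d) (nat_lit 769))
 (.leaf (nat_lit 0xe2b7477ae) (nat_lit 768))
))) (.node (nat_lit 0xe2e787cf5) (.node (nat_lit 0xe2bcc779d) (.leaf (nat_lit 0xe2bb877b3) (nat_lit 512))
 (.leaf (nat_lit 0xe2bcc779d) (nat_lit 261))
) (.node (nat_lit 0xe2eac7cde) (.leaf (nat_lit 0xe2e787cf5) (nat_lit 773))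
 (.node (nat_lit 0xe2ed47ceb) (.leaf (nat_lit 0xe2eac7cde) (nat_lit 769))
 (.leaf (nat_lit 0xe2ed47ceb) (nat_lit 1025))
)))) (.node (nat_lit 0xe35cc7add) (.node (nat_lit 0xe33d4776b) (.node (nat_lit 0xe33ac775e) (.leaf (nat_lit 0xe33787775) (nat_lit 1024))
 (.leaf (nat_lit 0xe33ac775e) (nat_lit 517))
) (.node (nat_lit 0xe35747aee) (.leaf (nat_lit 0xe33d4776b) (nat_lit 768))
 (.node (nat_lit 0xe35b87af3) (.leaf (nat_lit 0xe35747aee) (nat_lit 517))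
 (.leaf (nat_lit 0xe35b87af3) (nat_lit 769))
))) (.node (nat_lit 0xe558cebdf) (.node (nat_lit 0xe557cebfc) (.leaf (nat_lit 0xe35cc7add) (nat_lit 513))
 (.leaf (nat_lit 0xe557cebfc) (nat_lit 1280))
) (.node (nat_lit 0xe55f0ebe3) (.leaf (nat_lit 0xe558cebdf) (nat_lit 1281))
 (.node (nat_lit 0xe5f54ef2f) (.leaf (nat_lit 0xe55f0ebe3) (nat_lit 1029))
 (.leaf (nat_lit 0xe5f54ef2f) (nat_lit 1025))
)))))) (.node (nat_lit 0xea33957f7) (.node (nat_lit 0xe7af0e563) (.node (nat_lit 0xe6f7ceebc) (.node (nat_lit 0xe6354e7ef) (.node (nat_lit 0xe5fe8ef15) (.leaf (nat_lit 0xe5fbcef3a) (nat_lit 1029))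
 (.leaf (nat_lit 0xe5fe8ef15) (nat_lit 1025))
) (.node (nat_lit 0xe63bce7fa) (.leaf (nat_lit 0xe6354e7ef) (nat_lit 1024))
 (.node (nat_lit 0xe63e8e7d5) (.leaf (nat_lit 0xe63bce7fa) (nat_lit 768))
 (.leaf (nat_lit 0xe63e8e7d5) (nat_lit 517))
))) (.node (nat_lit 0xe6ff0eea3) (.node (nat_lit 0xe6f8cee9f) (.leaf (nat_lit 0xe6f7ceebc) (nat_lit 1029))
 (.leaf (nat_lit 0xe6f8cee9f) (nat_lit 1025))
) (.node (nat_lit 0xe7a7ce57c) (.leaf (nat_lit 0xe6ff0eea3) (nat_lit 1281))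
 (.node (nat_lit 0xe7a8ce55f) (.leaf (nat_lit 0xe7a7ce57c) (nat_lit 1280))
 (.leaf (nat_lit 0xe7a8ce55f) (nat_lit 773))
)))) (.node (nat_lit 0xe8e8d5ddf) (.node (nat_lit 0xe7cbce8fa) (.node (nat_lit 0xe7c54e8ef) (.leaf (nat_lit 0xe7af0e563) (nat_lit 1024))
 (.leaf (nat_lit 0xe7c54e8ef) (nat_lit 773))
) (.node (nat_lit 0xe7ce8e8d5) (.leaf (nat_lit 0xe7cbce8fa) (nat_lit 1025))
 (.node (nat_lit 0xe8e7d5dfc) (.leaf (nat_lit 0xe7ce8e8d5) (nat_lit 769))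
 (.leaf (nat_lit 0xe8e7d5dfc) (nat_lit 1025))
))) (.node (nat_lit 0xe9f395f37) (.node (nat_lit 0xe8ef15de3) (.leaf (nat_lit 0xe8e8d5ddf) (nat_lit 1025))
 (.leaf (nat_lit 0xe8ef15de3) (nat_lit 1029))
) (.node (nat_lit 0xe9fdd5f39) (.leaf (nat_lit 0xe9f395f37) (nat_lit 1280))
 (.node (nat_lit 0xe9fe55f0e) (.leaf (nat_lit 0xe9fdd5f39) (nat_lit 1029))
 (.leaf (nat_lit 0xe9fe55f0e) (nat_lit 1281))
))))) (.node (nat_lit 0xebcdd58f9) (.node (nat_lit 0xeb7f15e63) (.node (nat_lit 0xea3e557ce) (.node (nat_lit 0xea3dd57f9) (.leaf (nat_lit 0xea33957f7) (nat_lit 1280))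
 (.leaf (nat_lit 0xea3dd57f9) (nat_lit 1024))
) (.node (nat_lit 0xeb77d5e7c) (.leaf (nat_lit 0xea3e557ce) (nat_lit 773))
 (.node (nat_lit 0xeb78d5e5f) (.leaf (nat_lit 0xeb77d5e7c) (nat_lit 773))
 (.leaf (nat_lit 0xeb78d5e5f) (nat_lit 769))
))) (.node (nat_lit 0xeb98d539f) (.node (nat_lit 0xeb97d53bc) (.leaf (nat_lit 0xeb7f15e63) (nat_lit 1025))
 (.leaf (nat_lit 0xeb97d53bc) (nat_lit 1024))
) (.node (nat_lit 0xeb9f153a3) (.leaf (nat_lit 0xeb98d539f) (nat_lit 517))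
 (.node (nat_lit 0xebc3958f7) (.leaf (nat_lit 0xeb9f153a3) (nat_lit 768))
 (.leaf (nat_lit 0xebc3958f7) (nat_lit 1029))
)))) (.node (nat_lit 0xed73dcf7e) (.node (nat_lit 0xecf5dcfbd) (.node (nat_lit 0xebce558ce) (.leaf (nat_lit 0xebcdd58f9) (nat_lit 1281))
 (.leaf (nat_lit 0xebce558ce) (nat_lit 1025))
) (.node (nat_lit 0xecfa9cf97) (.leaf (nat_lit 0xecf5dcfbd) (nat_lit 1026))
 (.node (nat_lit 0xecff5cfaa) (.leaf (nat_lit 0xecfa9cf97) (nat_lit 1281))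
 (.leaf (nat_lit 0xecff5cfaa) (nat_lit 1285))
))) (.node (nat_lit 0xeea3dc5fe) (.node (nat_lit 0xed7c5cf4f) (.leaf (nat_lit 0xed73dcf7e) (nat_lit 1282))
 (.node (nat_lit 0xed7f9cf71) (.leaf (nat_lit 0xed7c5cf4f) (nat_lit 1537))
 (.leaf (nat_lit 0xed7f9cf71) (nat_lit 1285))
)) (.node (nat_lit 0xeeac5c5cf) (.leaf (nat_lit 0xeea3dc5fe) (nat_lit 1536))
 (.node (nat_lit 0xeeaf9c5f1) (.leaf (nat_lit 0xeeac5c5cf) (nat_lit 1029))
 (.leaf (nat_lit 0xeeaf9c5f1) (nat_lit 1280))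
))))))) (.node (nat_lit 0xf7bc6a70f) (.node (nat_lit 0xf37ea3e55) (.node (nat_lit 0xf0ebe3dfa) (.node (nat_lit 0xefdf9cab1) (.node (nat_lit 0xef1f5c3ea) (.node (nat_lit 0xef1a9c3d7) (.leaf (nat_lit 0xef15dc3fd) (nat_lit 1280))
 (.leaf (nat_lit 0xef1a9c3d7) (nat_lit 773))
) (.node (nat_lit 0xefd3dcabe) (.leaf (nat_lit 0xef1f5c3ea) (nat_lit 1024))
 (.node (nat_lit 0xefdc5ca8f) (.leaf (nat_lit 0xefd3dcabe) (nat_lit 1285))
 (.leaf (nat_lit 0xefdc5ca8f) (nat_lit 1281))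
))) (.node (nat_lit 0xefea9cc57) (.node (nat_lit 0xefe5dcc7d) (.leaf (nat_lit 0xefdf9cab1) (nat_lit 1285))
 (.leaf (nat_lit 0xefe5dcc7d) (nat_lit 1029))
) (.node (nat_lit 0xefef5cc6a) (.leaf (nat_lit 0xefea9cc57) (nat_lit 1025))
 (.node (nat_lit 0xf0e563def) (.leaf (nat_lit 0xefef5cc6a) (nat_lit 1029))
 (.leaf (nat_lit 0xf0e563def) (nat_lit 1281))
)))) (.node (nat_lit 0xf2f3a3eb7) (.node (nat_lit 0xf153a3bf7) (.node (nat_lit 0xf0eea3dd5) (.leaf (nat_lit 0xf0ebe3dfa) (nat_lit 1025))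
 (.leaf (nat_lit 0xf0eea3dd5) (nat_lit 1029))
) (.node (nat_lit 0xf15de3bf9) (.leaf (nat_lit 0xf153a3bf7) (nat_lit 1025))
 (.node (nat_lit 0xf15e63bce) (.leaf (nat_lit 0xf15de3bf9) (nat_lit 769))
 (.leaf (nat_lit 0xf15e63bce) (nat_lit 773))
))) (.node (nat_lit 0xf2fe63e8e) (.node (nat_lit 0xf2fde3eb9) (.leaf (nat_lit 0xf2f3a3eb7) (nat_lit 768))
 (.leaf (nat_lit 0xf2fde3eb9) (nat_lit 517))
) (.node (nat_lit 0xf37563e6f) (.leaf (nat_lit 0xf2fe63e8e) (nat_lit 1024))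
 (.node (nat_lit 0xf37be3e7a) (.leaf (nat_lit 0xf37563e6f) (nat_lit 1024))
 (.leaf (nat_lit 0xf37be3e7a) (nat_lit 773))
))))) (.node (nat_lit 0xf5c3ea9fe) (.node (nat_lit 0xf3ade3579) (.node (nat_lit 0xf39be33ba) (.node (nat_lit 0xf395633af) (.leaf (nat_lit 0xf37ea3e55) (nat_lit 1280))
 (.leaf (nat_lit 0xf395633af) (nat_lit 1029))
) (.node (nat_lit 0xf39ea3395) (.leaf (nat_lit 0xf39be33ba) (nat_lit 1281))
 (.node (nat_lit 0xf3a3a3577) (.leaf (nat_lit 0xf39ea3395) (nat_lit 1284))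
 (.leaf (nat_lit 0xf3a3a3577) (nat_lit 1029))
))) (.node (nat_lit 0xf4f72afa7) (.node (nat_lit 0xf3ae6354e) (.leaf (nat_lit 0xf3ade3579) (nat_lit 1025))
 (.leaf (nat_lit 0xf3ae6354e) (nat_lit 1027))
) (.node (nat_lit 0xf4f9eafbb) (.leaf (nat_lit 0xf4f72afa7) (nat_lit 1285))
 (.node (nat_lit 0xf4feeaf9c) (.leaf (nat_lit 0xf4f9eafbb) (nat_lit 1281))
 (.leaf (nat_lit 0xf4feeaf9c) (nat_lit 1285))
)))) (.node (nat_lit 0xf67faaef1) (.node (nat_lit 0xf5cfaa9f1) (.node (nat_lit 0xf5cc6a9cf) (.leaf (nat_lit 0xf5c3ea9fe) (nat_lit 1281))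
 (.leaf (nat_lit 0xf5cc6a9cf) (nat_lit 1029))
) (.node (nat_lit 0xf673eaefe) (.leaf (nat_lit 0xf5cfaa9f1) (nat_lit 1025))
 (.node (nat_lit 0xf67c6aecf) (.leaf (nat_lit 0xf673eaefe) (nat_lit 1024))
 (.leaf (nat_lit 0xf67c6aecf) (nat_lit 1029))
))) (.node (nat_lit 0xf719ea3fb) (.node (nat_lit 0xf7172a3e7) (.leaf (nat_lit 0xf67faaef1) (nat_lit 773))
 (.leaf (nat_lit 0xf7172a3e7) (nat_lit 1285))
) (.node (nat_lit 0xf71eea3dc) (.leaf (nat_lit 0xf719ea3fb) (nat_lit 1285))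
 (.node (nat_lit 0xf7b3ea73e) (.leaf (nat_lit 0xf71eea3dc) (nat_lit 1282))
 (.leaf (nat_lit 0xf7b3ea73e) (nat_lit 1024))
)))))) (.node (nat_lit 0xfbd731aa7) (.node (nat_lit 0xf9cf719ea) (.node (nat_lit 0xf97731f67) (.node (nat_lit 0xf7e72ac67) (.node (nat_lit 0xf7bfaa731) (.leaf (nat_lit 0xf7bc6a70f) (nat_lit 1026))
 (.leaf (nat_lit 0xf7bfaa731) (nat_lit 773))
) (.node (nat_lit 0xf7e9eac7b) (.leaf (nat_lit 0xf7e72ac67) (nat_lit 1280))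
 (.node (nat_lit 0xf7eeeac5c) (.leaf (nat_lit 0xf7e9eac7b) (nat_lit 1029))
 (.leaf (nat_lit 0xf7eeeac5c) (nat_lit 1029))
))) (.node (nat_lit 0xf97ef1f5c) (.node (nat_lit 0xf979f1f7b) (.leaf (nat_lit 0xf97731f67) (nat_lit 1029))
 (.leaf (nat_lit 0xf979f1f7b) (nat_lit 1025))
) (.node (nat_lit 0xf9c5f19fd) (.leaf (nat_lit 0xf97ef1f5c) (nat_lit 1029))
 (.node (nat_lit 0xf9cab19d7) (.leaf (nat_lit 0xf9c5f19fd) (nat_lit 1285))
 (.leaf (nat_lit 0xf9cab19d7) (nat_lit 1285))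
)))) (.node (nat_lit 0xfaa9f15fb) (.node (nat_lit 0xfa7ab1ed7) (.node (nat_lit 0xfa75f1efd) (.leaf (nat_lit 0xf9cf719ea) (nat_lit 1281))
 (.leaf (nat_lit 0xfa75f1efd) (nat_lit 1280))
) (.node (nat_lit 0xfa7f71eea) (.leaf (nat_lit 0xfa7ab1ed7) (nat_lit 1285))
 (.node (nat_lit 0xfaa7315e7) (.leaf (nat_lit 0xfa7f71eea) (nat_lit 1029))
 (.leaf (nat_lit 0xfaa7315e7) (nat_lit 1285))
))) (.node (nat_lit 0xfbb5f173d) (.node (nat_lit 0xfaaef15dc) (.leaf (nat_lit 0xfaa9f15fb) (nat_lit 1282))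
 (.leaf (nat_lit 0xfaaef15dc) (nat_lit 1026))
) (.node (nat_lit 0xfbbab1717) (.leaf (nat_lit 0xfbb5f173d) (nat_lit 1285))
 (.node (nat_lit 0xfbbf7172a) (.leaf (nat_lit 0xfbbab1717) (nat_lit 1282))
 (.leaf (nat_lit 0xfbbf7172a) (nat_lit 1029))
))))) (.node (nat_lit 0xfebbb87b3) (.node (nat_lit 0xfddd78bab) (.node (nat_lit 0xfbdef1a9c) (.node (nat_lit 0xfbd9f1abb) (.leaf (nat_lit 0xfbd731aa7) (nat_lit 1024))
 (.leaf (nat_lit 0xfbd9f1abb) (nat_lit 773))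
) (.node (nat_lit 0xfdd7b8bb5) (.leaf (nat_lit 0xfbdef1a9c) (nat_lit 773))
 (.node (nat_lit 0xfddaf8b9e) (.leaf (nat_lit 0xfdd7b8bb5) (nat_lit 1282))
 (.leaf (nat_lit 0xfddaf8b9e) (nat_lit 1282))
))) (.node (nat_lit 0xfdebb8d73) (.node (nat_lit 0xfde778d6e) (.leaf (nat_lit 0xfddd78bab) (nat_lit 1026))
 (.leaf (nat_lit 0xfde778d6e) (nat_lit 1026))
) (.node (nat_lit 0xfdecf8d5d) (.leaf (nat_lit 0xfdebb8d73) (nat_lit 1026))
 (.node (nat_lit 0xfeb7787ae) (.leaf (nat_lit 0xfdecf8d5d) (nat_lit 1026))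
 (.leaf (nat_lit 0xfeb7787ae) (nat_lit 1026))
)))) (.node (nat_lit 0xff37b8775) (.node (nat_lit 0xfee7b8cf5) (.node (nat_lit 0xfebcf879d) (.leaf (nat_lit 0xfebbb87b3) (nat_lit 770))
 (.leaf (nat_lit 0xfebcf879d) (nat_lit 514))
) (.node (nat_lit 0xfeeaf8cde) (.leaf (nat_lit 0xfee7b8cf5) (nat_lit 1026))
 (.node (nat_lit 0xfeed78ceb) (.leaf (nat_lit 0xfeeaf8cde) (nat_lit 1026))
 (.leaf (nat_lit 0xfeed78ceb) (nat_lit 1285))
))) (.node (nat_lit 0xff5778aee) (.node (nat_lit 0xff3af875e) (.leaf (nat_lit 0xff37b8775) (nat_lit 1282))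
 (.node (nat_lit 0xff3d7876b) (.leaf (nat_lit 0xff3af875e) (nat_lit 770))
 (.leaf (nat_lit 0xff3d7876b) (nat_lit 1026))
)) (.node (nat_lit 0xff5bb8af3) (.leaf (nat_lit 0xff5778aee) (nat_lit 770))
 (.node (nat_lit 0xff5cf8add) (.leaf (nat_lit 0xff5bb8af3) (nat_lit 1029))
 (.leaf (nat_lit 0xff5cf8add) (nat_lit 770))
))))))))))

theorem C6_ok : genOK B6.A [(nat_lit 0x810244088), (nat_lit 0x812204401), (nat_lit 0x910220081), (nat_lit 0x408802044), (nat_lit 0x808404042), (nat_lit 0xe2bcc779d)] C6_t (nat_lit 648) = true := by decide +kernel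

noncomputable def N6_t : ST :=
(.node (nat_lit 0x901084210) (.node (nat_lit 0x481102220) (.node (nat_lit 0x212101424) (.node (nat_lit 0x102224481) (.node (nat_lit 0x81910204) (.node (nat_lit 0x528080a4) (.node (nat_lit 0x44488802) (.node (nat_lit 0x429094a0) (.node (nat_lit 0x42808424) (.node (nat_lit 0x421094a4) (.leaf (nat_lit 0x42108420) (nat_lit 774))
 (.leaf (nat_lit 0x421094a4) (nat_lit 1285))
) (.node (nat_lit 0x42809484) (.leaf (nat_lit 0x42808424) (nat_lit 1030))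
 (.node (nat_lit 0x42908404) (.leaf (nat_lit 0x42809484) (nat_lit 1283))
 (.leaf (nat_lit 0x42908404) (nat_lit 1024))
))) (.node (nat_lit 0x44089912) (.node (nat_lit 0x44088810) (.leaf (nat_lit 0x429094a0) (nat_lit 1285))
 (.leaf (nat_lit 0x44088810) (nat_lit 774))
) (.node (nat_lit 0x44408812) (.leaf (nat_lit 0x44089912) (nat_lit 1541))
 (.node (nat_lit 0x44409902) (.leaf (nat_lit 0x44408812) (nat_lit 1030))
 (.leaf (nat_lit 0x44409902) (nat_lit 1539))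
)))) (.node (nat_lit 0x50809084) (.node (nat_lit 0x501084a0) (.node (nat_lit 0x44489910) (.leaf (nat_lit 0x44488802) (nat_lit 1024))
 (.leaf (nat_lit 0x44489910) (nat_lit 1795))
) (.node (nat_lit 0x501090a4) (.leaf (nat_lit 0x501084a0) (nat_lit 1030))
 (.node (nat_lit 0x508084a4) (.leaf (nat_lit 0x501090a4) (nat_lit 1539))
 (.leaf (nat_lit 0x508084a4) (nat_lit 1286))
))) (.node (nat_lit 0x509090a0) (.node (nat_lit 0x50908484) (.leaf (nat_lit 0x50809084) (nat_lit 1027))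
 (.leaf (nat_lit 0x50908484) (nat_lit 1280))
) (.node (nat_lit 0x521080a0) (.leaf (nat_lit 0x509090a0) (nat_lit 1283))
 (.node (nat_lit 0x52109424) (.leaf (nat_lit 0x521080a0) (nat_lit 1025))
 (.leaf (nat_lit 0x52109424) (nat_lit 1541))
))))) (.node (nat_lit 0x64088110) (.node (nat_lit 0x60089112) (.node (nat_lit 0x52908084) (.node (nat_lit 0x52809404) (.leaf (nat_lit 0x528080a4) (nat_lit 1281))
 (.leaf (nat_lit 0x52809404) (nat_lit 1283))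
) (.node (nat_lit 0x52909420) (.leaf (nat_lit 0x52908084) (nat_lit 1281))
 (.node (nat_lit 0x60088910) (.leaf (nat_lit 0x52909420) (nat_lit 1539))
 (.leaf (nat_lit 0x60088910) (nat_lit 1030))
))) (.node (nat_lit 0x60409102) (.node (nat_lit 0x60408912) (.leaf (nat_lit 0x60089112) (nat_lit 1539))
 (.leaf (nat_lit 0x60408912) (nat_lit 1286))
) (.node (nat_lit 0x60488902) (.leaf (nat_lit 0x60409102) (nat_lit 1027))
 (.node (nat_lit 0x60489110) (.leaf (nat_lit 0x60488902) (nat_lit 1280))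
 (.leaf (nat_lit 0x60489110) (nat_lit 1283))
)))) (.node (nat_lit 0x64489810) (.node (nat_lit 0x64408112) (.node (nat_lit 0x64089812) (.leaf (nat_lit 0x64088110) (nat_lit 1025))
 (.leaf (nat_lit 0x64089812) (nat_lit 1541))
) (.node (nat_lit 0x64409802) (.leaf (nat_lit 0x64408112) (nat_lit 1281))
 (.node (nat_lit 0x64488102) (.leaf (nat_lit 0x64409802) (nat_lit 1283))
 (.leaf (nat_lit 0x64488102) (nat_lit 1281))
))) (.node (nat_lit 0x81112264) (.node (nat_lit 0x81110220) (.leaf (nat_lit 0x64489810) (nat_lit 1539))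
 (.leaf (nat_lit 0x81110220) (nat_lit 518))
) (.node (nat_lit 0x81810224) (.leaf (nat_lit 0x81112264) (nat_lit 1542))
 (.node (nat_lit 0x81812244) (.leaf (nat_lit 0x81810224) (nat_lit 774))
 (.leaf (nat_lit 0x81812244) (nat_lit 1283))
)))))) (.node (nat_lit 0xa0050908) (.node (nat_lit 0x88810264) (.node (nat_lit 0x84212901) (.node (nat_lit 0x84050808) (.node (nat_lit 0x81912260) (.leaf (nat_lit 0x81910204) (nat_lit 768))
 (.leaf (nat_lit 0x81912260) (nat_lit 1539))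
) (.node (nat_lit 0x84052909) (.leaf (nat_lit 0x84050808) (nat_lit 774))
 (.node (nat_lit 0x84210809) (.leaf (nat_lit 0x84052909) (nat_lit 1285))
 (.leaf (nat_lit 0x84210809) (nat_lit 1030))
))) (.node (nat_lit 0x84252908) (.node (nat_lit 0x84250801) (.leaf (nat_lit 0x84212901) (nat_lit 1541))
 (.leaf (nat_lit 0x84250801) (nat_lit 1024))
) (.node (nat_lit 0x88110260) (.leaf (nat_lit 0x84252908) (nat_lit 1539))
 (.node (nat_lit 0x88112064) (.leaf (nat_lit 0x88110260) (nat_lit 774))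
 (.leaf (nat_lit 0x88112064) (nat_lit 1283))
)))) (.node (nat_lit 0x89112224) (.node (nat_lit 0x88910244) (.node (nat_lit 0x88812044) (.leaf (nat_lit 0x88810264) (nat_lit 1030))
 (.leaf (nat_lit 0x88812044) (nat_lit 771))
) (.node (nat_lit 0x88912060) (.leaf (nat_lit 0x88910244) (nat_lit 1024))
 (.node (nat_lit 0x89110060) (.leaf (nat_lit 0x88912060) (nat_lit 1027))
 (.leaf (nat_lit 0x89110060) (nat_lit 769))
))) (.node (nat_lit 0x89812204) (.node (nat_lit 0x89810064) (.leaf (nat_lit 0x89112224) (nat_lit 1539))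
 (.leaf (nat_lit 0x89810064) (nat_lit 1025))
) (.node (nat_lit 0x89910044) (.leaf (nat_lit 0x89812204) (nat_lit 1027))
 (.node (nat_lit 0x89912220) (.leaf (nat_lit 0x89910044) (nat_lit 1025))
 (.leaf (nat_lit 0x89912220) (nat_lit 1283))
))))) (.node (nat_lit 0xa4250101) (.node (nat_lit 0xa0252108) (.node (nat_lit 0xa0210909) (.node (nat_lit 0xa0052109) (.leaf (nat_lit 0xa0050908) (nat_lit 1030))
 (.leaf (nat_lit 0xa0052109) (nat_lit 1540))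
) (.node (nat_lit 0xa0212101) (.leaf (nat_lit 0xa0210909) (nat_lit 1286))
 (.node (nat_lit 0xa0250901) (.leaf (nat_lit 0xa0212101) (nat_lit 1028))
 (.leaf (nat_lit 0xa0250901) (nat_lit 1280))
))) (.node (nat_lit 0xa4052809) (.node (nat_lit 0xa4050108) (.leaf (nat_lit 0xa0252108) (nat_lit 1284))
 (.leaf (nat_lit 0xa4050108) (nat_lit 1025))
) (.node (nat_lit 0xa4210109) (.leaf (nat_lit 0xa4052809) (nat_lit 1285))
 (.node (nat_lit 0xa4212801) (.leaf (nat_lit 0xa4210109) (nat_lit 1281))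
 (.leaf (nat_lit 0xa4212801) (nat_lit 1284))
)))) (.node (nat_lit 0x101424242) (.node (nat_lit 0x1010a0210) (.node (nat_lit 0xa4252808) (.leaf (nat_lit 0xa4250101) (nat_lit 1281))
 (.leaf (nat_lit 0xa4252808) (nat_lit 1540))
) (.node (nat_lit 0x1010a4252) (.leaf (nat_lit 0x1010a0210) (nat_lit 518))
 (.node (nat_lit 0x101420212) (.leaf (nat_lit 0x1010a4252) (nat_lit 1541))
 (.leaf (nat_lit 0x101420212) (nat_lit 774))
))) (.node (nat_lit 0x102060408) (.node (nat_lit 0x1014a0202) (.leaf (nat_lit 0x101424242) (nat_lit 1284))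
 (.node (nat_lit 0x1014a4250) (.leaf (nat_lit 0x1014a0202) (nat_lit 768))
 (.leaf (nat_lit 0x1014a4250) (nat_lit 1540))
)) (.node (nat_lit 0x102064489) (.leaf (nat_lit 0x102060408) (nat_lit 262))
 (.node (nat_lit 0x102220409) (.leaf (nat_lit 0x102064489) (nat_lit 1286))
 (.leaf (nat_lit 0x102220409) (nat_lit 518))
))))))) (.node (nat_lit 0x1eb77f7ae) (.node (nat_lit 0x110264088) (.node (nat_lit 0x1090a4212) (.node (nat_lit 0x108420252) (.node (nat_lit 0x102264488) (.node (nat_lit 0x102260401) (.leaf (nat_lit 0x102224481) (nat_lit 1026))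
 (.leaf (nat_lit 0x102260401) (nat_lit 512))
) (.node (nat_lit 0x1080a0250) (.leaf (nat_lit 0x102264488) (nat_lit 1282))
 (.node (nat_lit 0x1080a4052) (.leaf (nat_lit 0x1080a0250) (nat_lit 774))
 (.leaf (nat_lit 0x1080a4052) (nat_lit 1284))
))) (.node (nat_lit 0x1084a0242) (.node (nat_lit 0x108424042) (.leaf (nat_lit 0x108420252) (nat_lit 1030))
 (.leaf (nat_lit 0x108424042) (nat_lit 772))
) (.node (nat_lit 0x1084a4050) (.leaf (nat_lit 0x1084a0242) (nat_lit 1024))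
 (.node (nat_lit 0x1090a0050) (.leaf (nat_lit 0x1084a4050) (nat_lit 1028))
 (.leaf (nat_lit 0x1090a0050) (nat_lit 769))
)))) (.node (nat_lit 0x110060488) (.node (nat_lit 0x109424202) (.node (nat_lit 0x109420052) (.leaf (nat_lit 0x1090a4212) (nat_lit 1285))
 (.leaf (nat_lit 0x109420052) (nat_lit 1025))
) (.node (nat_lit 0x1094a0042) (.leaf (nat_lit 0x109424202) (nat_lit 1028))
 (.node (nat_lit 0x1094a4210) (.leaf (nat_lit 0x1094a0042) (nat_lit 1025))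
 (.leaf (nat_lit 0x1094a4210) (nat_lit 1284))
))) (.node (nat_lit 0x110220489) (.node (nat_lit 0x110064089) (.leaf (nat_lit 0x110060488) (nat_lit 518))
 (.leaf (nat_lit 0x110064089) (nat_lit 1026))
) (.node (nat_lit 0x110224081) (.leaf (nat_lit 0x110220489) (nat_lit 774))
 (.node (nat_lit 0x110260481) (.leaf (nat_lit 0x110224081) (nat_lit 514))
 (.leaf (nat_lit 0x110260481) (nat_lit 768))
))))) (.node (nat_lit 0x1ddaffb9e) (.node (nat_lit 0x112260081) (.node (nat_lit 0x112064409) (.node (nat_lit 0x112060088) (.leaf (nat_lit 0x110264088) (nat_lit 770))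
 (.leaf (nat_lit 0x112060088) (nat_lit 513))
) (.node (nat_lit 0x112220089) (.leaf (nat_lit 0x112064409) (nat_lit 1282))
 (.node (nat_lit 0x112224401) (.leaf (nat_lit 0x112220089) (nat_lit 769))
 (.leaf (nat_lit 0x112224401) (nat_lit 770))
))) (.node (nat_lit 0x1dd7b8ceb) (.node (nat_lit 0x112264408) (.leaf (nat_lit 0x112260081) (nat_lit 769))
 (.leaf (nat_lit 0x112264408) (nat_lit 1026))
) (.node (nat_lit 0x1dd7bfbb5) (.leaf (nat_lit 0x1dd7b8ceb) (nat_lit 517))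
 (.node (nat_lit 0x1ddaf8cf5) (.leaf (nat_lit 0x1dd7bfbb5) (nat_lit 1540))
 (.leaf (nat_lit 0x1ddaf8cf5) (nat_lit 1030))
)))) (.node (nat_lit 0x1debb8add) (.node (nat_lit 0x1ddd7fbab) (.node (nat_lit 0x1ddd78cde) (.leaf (nat_lit 0x1ddaffb9e) (nat_lit 1286))
 (.leaf (nat_lit 0x1ddd78cde) (nat_lit 768))
) (.node (nat_lit 0x1de778af3) (.leaf (nat_lit 0x1ddd7fbab) (nat_lit 1282))
 (.node (nat_lit 0x1de77fd6e) (.leaf (nat_lit 0x1de778af3) (nat_lit 518))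
 (.leaf (nat_lit 0x1de77fd6e) (nat_lit 1283))
))) (.node (nat_lit 0x1decf8aee) (.node (nat_lit 0x1debbfd73) (.leaf (nat_lit 0x1debb8add) (nat_lit 768))
 (.leaf (nat_lit 0x1debbfd73) (nat_lit 1283))
) (.node (nat_lit 0x1decffd5d) (.leaf (nat_lit 0x1decf8aee) (nat_lit 774))
 (.node (nat_lit 0x1eb778d73) (.leaf (nat_lit 0x1decffd5d) (nat_lit 1282))
 (.leaf (nat_lit 0x1eb778d73) (nat_lit 774))
)))))) (.node (nat_lit 0x1f5bbfaf3) (.node (nat_lit 0x1eed7fceb) (.node (nat_lit 0x1ee7b876b) (.node (nat_lit 0x1ebbbf7b3) (.node (nat_lit 0x1ebbb8d5d) (.leaf (nat_lit 0x1eb77f7ae) (nat_lit 1282))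
 (.leaf (nat_lit 0x1ebbb8d5d) (nat_lit 774))
) (.node (nat_lit 0x1ebcf8d6e) (.leaf (nat_lit 0x1ebbbf7b3) (nat_lit 1026))
 (.node (nat_lit 0x1ebcff79d) (.leaf (nat_lit 0x1ebcf8d6e) (nat_lit 1024))
 (.leaf (nat_lit 0x1ebcff79d) (nat_lit 770))
))) (.node (nat_lit 0x1eeaf8775) (.node (nat_lit 0x1ee7bfcf5) (.leaf (nat_lit 0x1ee7b876b) (nat_lit 769))
 (.leaf (nat_lit 0x1ee7bfcf5) (nat_lit 1282))
) (.node (nat_lit 0x1eeaffcde) (.leaf (nat_lit 0x1eeaf8775) (nat_lit 773))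
 (.node (nat_lit 0x1eed7875e) (.leaf (nat_lit 0x1eeaffcde) (nat_lit 1282))
 (.leaf (nat_lit 0x1eed7875e) (nat_lit 1025))
)))) (.node (nat_lit 0x1f3d78b9e) (.node (nat_lit 0x1f37bf775) (.node (nat_lit 0x1f37b8bab) (.leaf (nat_lit 0x1eed7fceb) (nat_lit 1538))
 (.leaf (nat_lit 0x1f37b8bab) (nat_lit 1030))
) (.node (nat_lit 0x1f3af8bb5) (.leaf (nat_lit 0x1f37bf775) (nat_lit 1286))
 (.node (nat_lit 0x1f3aff75e) (.leaf (nat_lit 0x1f3af8bb5) (nat_lit 1025))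
 (.leaf (nat_lit 0x1f3aff75e) (nat_lit 1026))
))) (.node (nat_lit 0x1f57787b3) (.node (nat_lit 0x1f3d7f76b) (.leaf (nat_lit 0x1f3d78b9e) (nat_lit 1029))
 (.leaf (nat_lit 0x1f3d7f76b) (nat_lit 1282))
) (.node (nat_lit 0x1f577faee) (.leaf (nat_lit 0x1f57787b3) (nat_lit 769))
 (.node (nat_lit 0x1f5bb879d) (.leaf (nat_lit 0x1f577faee) (nat_lit 1026))
 (.leaf (nat_lit 0x1f5bb879d) (nat_lit 1030))
))))) (.node (nat_lit 0x204089810) (.node (nat_lit 0x202801484) (.node (nat_lit 0x1f5cffadd) (.node (nat_lit 0x1f5cf87ae) (.leaf (nat_lit 0x1f5bbfaf3) (nat_lit 1282))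
 (.leaf (nat_lit 0x1f5cf87ae) (nat_lit 1030))
) (.node (nat_lit 0x2021014a4) (.leaf (nat_lit 0x1f5cffadd) (nat_lit 1026))
 (.node (nat_lit 0x202109420) (.leaf (nat_lit 0x2021014a4) (nat_lit 1541))
 (.leaf (nat_lit 0x202109420) (nat_lit 1030))
))) (.node (nat_lit 0x2029014a0) (.node (nat_lit 0x202809424) (.leaf (nat_lit 0x202801484) (nat_lit 1027))
 (.leaf (nat_lit 0x202809424) (nat_lit 1286))
) (.node (nat_lit 0x202909404) (.leaf (nat_lit 0x2029014a0) (nat_lit 1283))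
 (.node (nat_lit 0x204081912) (.leaf (nat_lit 0x202909404) (nat_lit 1280))
 (.leaf (nat_lit 0x204081912) (nat_lit 1539))
)))) (.node (nat_lit 0x2101010a4) (.node (nat_lit 0x204409812) (.node (nat_lit 0x204401902) (.leaf (nat_lit 0x204089810) (nat_lit 1030))
 (.leaf (nat_lit 0x204401902) (nat_lit 1027))
) (.node (nat_lit 0x204481910) (.leaf (nat_lit 0x204409812) (nat_lit 1286))
 (.node (nat_lit 0x204489802) (.leaf (nat_lit 0x204481910) (nat_lit 1283))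
 (.leaf (nat_lit 0x204489802) (nat_lit 1280))
))) (.node (nat_lit 0x2108094a4) (.node (nat_lit 0x2101094a0) (.leaf (nat_lit 0x2101010a4) (nat_lit 1027))
 (.node (nat_lit 0x210801084) (.leaf (nat_lit 0x2101094a0) (nat_lit 1286))
 (.leaf (nat_lit 0x210801084) (nat_lit 515))
)) (.node (nat_lit 0x2109010a0) (.leaf (nat_lit 0x2108094a4) (nat_lit 1542))
 (.node (nat_lit 0x210909484) (.leaf (nat_lit 0x2109010a0) (nat_lit 771))
 (.leaf (nat_lit 0x210909484) (nat_lit 1536))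
)))))))) (.node (nat_lit 0x3ba8f9bfc) (.node (nat_lit 0x252901084) (.node (nat_lit 0x242801424) (.node (nat_lit 0x220481110) (.node (nat_lit 0x212909084) (.node (nat_lit 0x212801404) (.node (nat_lit 0x2121090a0) (.leaf (nat_lit 0x212101424) (nat_lit 1283))
 (.leaf (nat_lit 0x2121090a0) (nat_lit 1281))
) (.node (nat_lit 0x2128090a4) (.leaf (nat_lit 0x212801404) (nat_lit 771))
 (.node (nat_lit 0x212901420) (.leaf (nat_lit 0x2128090a4) (nat_lit 1537))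
 (.leaf (nat_lit 0x212901420) (nat_lit 1027))
))) (.node (nat_lit 0x220089910) (.node (nat_lit 0x220081112) (.leaf (nat_lit 0x212909084) (nat_lit 1537))
 (.leaf (nat_lit 0x220081112) (nat_lit 1027))
) (.node (nat_lit 0x220401102) (.leaf (nat_lit 0x220089910) (nat_lit 1286))
 (.node (nat_lit 0x220409912) (.leaf (nat_lit 0x220401102) (nat_lit 515))
 (.leaf (nat_lit 0x220409912) (nat_lit 1285))
)))) (.node (nat_lit 0x224409112) (.node (nat_lit 0x224081812) (.node (nat_lit 0x220489902) (.leaf (nat_lit 0x220481110) (nat_lit 771))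
 (.leaf (nat_lit 0x220489902) (nat_lit 1536))
) (.node (nat_lit 0x224089110) (.leaf (nat_lit 0x224081812) (nat_lit 1283))
 (.node (nat_lit 0x224401802) (.leaf (nat_lit 0x224089110) (nat_lit 1281))
 (.leaf (nat_lit 0x224401802) (nat_lit 771))
))) (.node (nat_lit 0x224489102) (.node (nat_lit 0x224481810) (.leaf (nat_lit 0x224409112) (nat_lit 1537))
 (.leaf (nat_lit 0x224481810) (nat_lit 1027))
) (.node (nat_lit 0x242101420) (.leaf (nat_lit 0x224489102) (nat_lit 1537))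
 (.node (nat_lit 0x2421084a4) (.leaf (nat_lit 0x242101420) (nat_lit 1026))
 (.leaf (nat_lit 0x2421084a4) (nat_lit 1285))
))))) (.node (nat_lit 0x2501014a0) (.node (nat_lit 0x244088912) (.node (nat_lit 0x242901404) (.node (nat_lit 0x242808484) (.leaf (nat_lit 0x242801424) (nat_lit 1282))
 (.leaf (nat_lit 0x242808484) (nat_lit 1027))
) (.node (nat_lit 0x2429084a0) (.leaf (nat_lit 0x242901404) (nat_lit 1282))
 (.node (nat_lit 0x244081810) (.leaf (nat_lit 0x2429084a0) (nat_lit 1283))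
 (.leaf (nat_lit 0x244081810) (nat_lit 1026))
))) (.node (nat_lit 0x244408902) (.node (nat_lit 0x244401812) (.leaf (nat_lit 0x244088912) (nat_lit 1541))
 (.leaf (nat_lit 0x244401812) (nat_lit 1282))
) (.node (nat_lit 0x244481802) (.leaf (nat_lit 0x244408902) (nat_lit 1283))
 (.node (nat_lit 0x244488910) (.leaf (nat_lit 0x244481802) (nat_lit 1282))
 (.leaf (nat_lit 0x244488910) (nat_lit 1539))
)))) (.node (nat_lit 0x2509080a0) (.node (nat_lit 0x2508014a4) (.node (nat_lit 0x2501080a4) (.leaf (nat_lit 0x2501014a0) (nat_lit 1282))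
 (.leaf (nat_lit 0x2501080a4) (nat_lit 1283))
) (.node (nat_lit 0x250808084) (.leaf (nat_lit 0x2508014a4) (nat_lit 1538))
 (.node (nat_lit 0x250901484) (.leaf (nat_lit 0x250808084) (nat_lit 771))
 (.leaf (nat_lit 0x250901484) (nat_lit 1538))
))) (.node (nat_lit 0x252108424) (.node (nat_lit 0x2521010a0) (.leaf (nat_lit 0x2509080a0) (nat_lit 1027))
 (.leaf (nat_lit 0x2521010a0) (nat_lit 1282))
) (.node (nat_lit 0x2528010a4) (.leaf (nat_lit 0x252108424) (nat_lit 1539))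
 (.node (nat_lit 0x252808404) (.leaf (nat_lit 0x2528010a4) (nat_lit 1538))
 (.leaf (nat_lit 0x252808404) (nat_lit 1027))
)))))) (.node (nat_lit 0x39f577f2f) (.node (nat_lit 0x264401112) (.node (nat_lit 0x260408102) (.node (nat_lit 0x260081910) (.node (nat_lit 0x252908420) (.leaf (nat_lit 0x252901084) (nat_lit 1538))
 (.leaf (nat_lit 0x252908420) (nat_lit 1283))
) (.node (nat_lit 0x260088112) (.leaf (nat_lit 0x260081910) (nat_lit 1282))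
 (.node (nat_lit 0x260401912) (.leaf (nat_lit 0x260088112) (nat_lit 1283))
 (.leaf (nat_lit 0x260401912) (nat_lit 1541))
))) (.node (nat_lit 0x260488110) (.node (nat_lit 0x260481902) (.leaf (nat_lit 0x260408102) (nat_lit 771))
 (.leaf (nat_lit 0x260481902) (nat_lit 1538))
) (.node (nat_lit 0x264081110) (.leaf (nat_lit 0x260488110) (nat_lit 1027))
 (.node (nat_lit 0x264088812) (.leaf (nat_lit 0x264081110) (nat_lit 1282))
 (.leaf (nat_lit 0x264088812) (nat_lit 1539))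
)))) (.node (nat_lit 0x3957f9ea3) (.node (nat_lit 0x264481102) (.node (nat_lit 0x264408802) (.leaf (nat_lit 0x264401112) (nat_lit 1538))
 (.leaf (nat_lit 0x264408802) (nat_lit 1027))
) (.node (nat_lit 0x264488810) (.leaf (nat_lit 0x264481102) (nat_lit 1285))
 (.node (nat_lit 0x3957f7bfc) (.leaf (nat_lit 0x264488810) (nat_lit 1283))
 (.leaf (nat_lit 0x3957f7bfc) (nat_lit 1286))
))) (.node (nat_lit 0x3958f9ebc) (.node (nat_lit 0x3958f7bdf) (.leaf (nat_lit 0x3957f9ea3) (nat_lit 773))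
 (.leaf (nat_lit 0x3958f7bdf) (nat_lit 1029))
) (.node (nat_lit 0x395f37be3) (.leaf (nat_lit 0x3958f9ebc) (nat_lit 1286))
 (.node (nat_lit 0x395f39e9f) (.leaf (nat_lit 0x395f37be3) (nat_lit 1280))
 (.leaf (nat_lit 0x395f39e9f) (nat_lit 1024))
))))) (.node (nat_lit 0x3a3eb77d5) (.node (nat_lit 0x39feb98ef) (.node (nat_lit 0x39fbf7f3a) (.node (nat_lit 0x39f5798fa) (.leaf (nat_lit 0x39f577f2f) (nat_lit 1285))
 (.leaf (nat_lit 0x39f5798fa) (nat_lit 774))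
) (.node (nat_lit 0x39fbf98d5) (.leaf (nat_lit 0x39fbf7f3a) (nat_lit 1285))
 (.node (nat_lit 0x39feb7f15) (.leaf (nat_lit 0x39fbf98d5) (nat_lit 1024))
 (.leaf (nat_lit 0x39feb7f15) (nat_lit 1283))
))) (.node (nat_lit 0x3a3579f3a) (.node (nat_lit 0x3a35777ef) (.leaf (nat_lit 0x39feb98ef) (nat_lit 1030))
 (.leaf (nat_lit 0x3a35777ef) (nat_lit 1285))
) (.node (nat_lit 0x3a3bf77fa) (.leaf (nat_lit 0x3a3579f3a) (nat_lit 1030))
 (.node (nat_lit 0x3a3bf9f15) (.leaf (nat_lit 0x3a3bf77fa) (nat_lit 1282))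
 (.leaf (nat_lit 0x3a3bf9f15) (nat_lit 1030))
)))) (.node (nat_lit 0x3af8f957c) (.node (nat_lit 0x3af7f7ebc) (.node (nat_lit 0x3a3eb9f2f) (.leaf (nat_lit 0x3a3eb77d5) (nat_lit 1026))
 (.leaf (nat_lit 0x3a3eb9f2f) (nat_lit 1280))
) (.node (nat_lit 0x3af7f9563) (.leaf (nat_lit 0x3af7f7ebc) (nat_lit 1538))
 (.node (nat_lit 0x3af8f7e9f) (.leaf (nat_lit 0x3af7f9563) (nat_lit 1025))
 (.leaf (nat_lit 0x3af8f7e9f) (nat_lit 1538))
))) (.node (nat_lit 0x3ba7f757c) (.node (nat_lit 0x3aff37ea3) (.leaf (nat_lit 0x3af8f957c) (nat_lit 1029))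
 (.node (nat_lit 0x3aff3955f) (.leaf (nat_lit 0x3aff37ea3) (nat_lit 1283))
 (.leaf (nat_lit 0x3aff3955f) (nat_lit 1281))
)) (.node (nat_lit 0x3ba7f9be3) (.leaf (nat_lit 0x3ba7f757c) (nat_lit 1285))
 (.node (nat_lit 0x3ba8f755f) (.leaf (nat_lit 0x3ba7f9be3) (nat_lit 1286))
 (.leaf (nat_lit 0x3ba8f755f) (nat_lit 1282))
))))))) (.node (nat_lit 0x3fd73eaa7) (.node (nat_lit 0x3dcf7e9ea) (.node (nat_lit 0x3d773ef67) (.node (nat_lit 0x3bcbf78fa) (.node (nat_lit 0x3baf39bdf) (.node (nat_lit 0x3baf37563) (.leaf (nat_lit 0x3ba8f9bfc) (nat_lit 1281))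
 (.leaf (nat_lit 0x3baf37563) (nat_lit 1283))
) (.node (nat_lit 0x3bc5778ef) (.leaf (nat_lit 0x3baf39bdf) (nat_lit 1285))
 (.node (nat_lit 0x3bc5797fa) (.leaf (nat_lit 0x3bc5778ef) (nat_lit 1282))
 (.leaf (nat_lit 0x3bc5797fa) (nat_lit 1025))
))) (.node (nat_lit 0x3bceb78d5) (.node (nat_lit 0x3bcbf97d5) (.leaf (nat_lit 0x3bcbf78fa) (nat_lit 1283))
 (.leaf (nat_lit 0x3bcbf97d5) (nat_lit 1286))
) (.node (nat_lit 0x3bceb97ef) (.leaf (nat_lit 0x3bceb78d5) (nat_lit 1282))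
 (.node (nat_lit 0x3d7731abb) (.leaf (nat_lit 0x3bceb97ef) (nat_lit 1286))
 (.leaf (nat_lit 0x3d7731abb) (nat_lit 1030))
)))) (.node (nat_lit 0x3dc5f1eea) (.node (nat_lit 0x3d79fef7b) (.node (nat_lit 0x3d79f1a9c) (.leaf (nat_lit 0x3d773ef67) (nat_lit 1027))
 (.leaf (nat_lit 0x3d79f1a9c) (nat_lit 1280))
) (.node (nat_lit 0x3d7ef1aa7) (.leaf (nat_lit 0x3d79fef7b) (nat_lit 1027))
 (.node (nat_lit 0x3d7efef5c) (.leaf (nat_lit 0x3d7ef1aa7) (nat_lit 1286))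
 (.leaf (nat_lit 0x3d7efef5c) (nat_lit 1282))
))) (.node (nat_lit 0x3dcab1efd) (.node (nat_lit 0x3dc5fe9fd) (.leaf (nat_lit 0x3dc5f1eea) (nat_lit 773))
 (.leaf (nat_lit 0x3dc5fe9fd) (nat_lit 1284))
) (.node (nat_lit 0x3dcabe9d7) (.leaf (nat_lit 0x3dcab1efd) (nat_lit 1282))
 (.node (nat_lit 0x3dcf71ed7) (.leaf (nat_lit 0x3dcabe9d7) (nat_lit 1285))
 (.leaf (nat_lit 0x3dcf71ed7) (nat_lit 1024))
))))) (.node (nat_lit 0x3ea9fe5fb) (.node (nat_lit 0x3e7f71717) (.node (nat_lit 0x3e75feefd) (.node (nat_lit 0x3e75f172a) (.leaf (nat_lit 0x3dcf7e9ea) (nat_lit 1536))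
 (.leaf (nat_lit 0x3e75f172a) (nat_lit 1025))
) (.node (nat_lit 0x3e7ab173d) (.leaf (nat_lit 0x3e75feefd) (nat_lit 1285))
 (.node (nat_lit 0x3e7abeed7) (.leaf (nat_lit 0x3e7ab173d) (nat_lit 1029))
 (.leaf (nat_lit 0x3e7abeed7) (nat_lit 1539))
))) (.node (nat_lit 0x3ea731f7b) (.node (nat_lit 0x3e7f7eeea) (.leaf (nat_lit 0x3e7f71717) (nat_lit 1281))
 (.leaf (nat_lit 0x3e7f7eeea) (nat_lit 1282))
) (.node (nat_lit 0x3ea73e5e7) (.leaf (nat_lit 0x3ea731f7b) (nat_lit 1286))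
 (.node (nat_lit 0x3ea9f1f5c) (.leaf (nat_lit 0x3ea73e5e7) (nat_lit 1283))
 (.leaf (nat_lit 0x3ea9f1f5c) (nat_lit 1286))
)))) (.node (nat_lit 0x3fbab19fd) (.node (nat_lit 0x3eaefe5dc) (.node (nat_lit 0x3eaef1f67) (.leaf (nat_lit 0x3ea9fe5fb) (nat_lit 1283))
 (.leaf (nat_lit 0x3eaef1f67) (nat_lit 1282))
) (.node (nat_lit 0x3fb5f19ea) (.leaf (nat_lit 0x3eaefe5dc) (nat_lit 1282))
 (.node (nat_lit 0x3fb5fe73d) (.leaf (nat_lit 0x3fb5f19ea) (nat_lit 1285))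
 (.leaf (nat_lit 0x3fb5fe73d) (nat_lit 1541))
))) (.node (nat_lit 0x3fbf719d7) (.node (nat_lit 0x3fbabe717) (.leaf (nat_lit 0x3fbab19fd) (nat_lit 1282))
 (.leaf (nat_lit 0x3fbabe717) (nat_lit 1286))
) (.node (nat_lit 0x3fbf7e72a) (.leaf (nat_lit 0x3fbf719d7) (nat_lit 1285))
 (.node (nat_lit 0x3fd7315fb) (.leaf (nat_lit 0x3fbf7e72a) (nat_lit 1282))
 (.leaf (nat_lit 0x3fd7315fb) (nat_lit 1281))
)))))) (.node (nat_lit 0x408812264) (.node (nat_lit 0x401912204) (.node (nat_lit 0x401102264) (.node (nat_lit 0x3fd9feabb) (.node (nat_lit 0x3fd9f15dc) (.leaf (nat_lit 0x3fd73eaa7) (nat_lit 1282))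
 (.leaf (nat_lit 0x3fd9f15dc) (nat_lit 1542))
) (.node (nat_lit 0x3fdef15e7) (.leaf (nat_lit 0x3fd9feabb) (nat_lit 1026))
 (.node (nat_lit 0x3fdefea9c) (.leaf (nat_lit 0x3fdef15e7) (nat_lit 1285))
 (.leaf (nat_lit 0x3fdefea9c) (nat_lit 1026))
))) (.node (nat_lit 0x401802244) (.node (nat_lit 0x401112220) (.leaf (nat_lit 0x401102264) (nat_lit 1283))
 (.leaf (nat_lit 0x401112220) (nat_lit 774))
) (.node (nat_lit 0x401812224) (.leaf (nat_lit 0x401802244) (nat_lit 771))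
 (.node (nat_lit 0x401902260) (.leaf (nat_lit 0x401812224) (nat_lit 1030))
 (.leaf (nat_lit 0x401902260) (nat_lit 1027))
)))) (.node (nat_lit 0x404242908) (.node (nat_lit 0x404052808) (.node (nat_lit 0x404042909) (.leaf (nat_lit 0x401912204) (nat_lit 1024))
 (.leaf (nat_lit 0x404042909) (nat_lit 1285))
) (.node (nat_lit 0x404202901) (.leaf (nat_lit 0x404052808) (nat_lit 1030))
 (.node (nat_lit 0x404212809) (.leaf (nat_lit 0x404202901) (nat_lit 1028))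
 (.leaf (nat_lit 0x404212809) (nat_lit 1286))
))) (.node (nat_lit 0x408102064) (.node (nat_lit 0x404252801) (.leaf (nat_lit 0x404242908) (nat_lit 1284))
 (.leaf (nat_lit 0x404252801) (nat_lit 1280))
) (.node (nat_lit 0x408112260) (.leaf (nat_lit 0x408102064) (nat_lit 771))
 (.node (nat_lit 0x408802044) (.leaf (nat_lit 0x408112260) (nat_lit 1030))
 (.leaf (nat_lit 0x408802044) (nat_lit 259))
))))) (.node (nat_lit 0x420052908) (.node (nat_lit 0x409802204) (.node (nat_lit 0x408912244) (.node (nat_lit 0x408902060) (.leaf (nat_lit 0x408812264) (nat_lit 1286))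
 (.leaf (nat_lit 0x408902060) (nat_lit 515))
) (.node (nat_lit 0x409102224) (.leaf (nat_lit 0x408912244) (nat_lit 1280))
 (.node (nat_lit 0x409112060) (.leaf (nat_lit 0x409102224) (nat_lit 1027))
 (.leaf (nat_lit 0x409112060) (nat_lit 1025))
))) (.node (nat_lit 0x409902220) (.node (nat_lit 0x409812064) (.leaf (nat_lit 0x409802204) (nat_lit 515))
 (.leaf (nat_lit 0x409812064) (nat_lit 1281))
) (.node (nat_lit 0x409912044) (.leaf (nat_lit 0x409902220) (nat_lit 771))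
 (.node (nat_lit 0x420042109) (.leaf (nat_lit 0x409912044) (nat_lit 1281))
 (.leaf (nat_lit 0x420042109) (nat_lit 1028))
)))) (.node (nat_lit 0x424042809) (.node (nat_lit 0x420212909) (.node (nat_lit 0x420202101) (.leaf (nat_lit 0x420052908) (nat_lit 1286))
 (.leaf (nat_lit 0x420202101) (nat_lit 516))
) (.node (nat_lit 0x420242108) (.leaf (nat_lit 0x420212909) (nat_lit 1542))
 (.node (nat_lit 0x420252901) (.leaf (nat_lit 0x420242108) (nat_lit 772))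
 (.leaf (nat_lit 0x420252901) (nat_lit 1536))
))) (.node (nat_lit 0x424212109) (.node (nat_lit 0x424052108) (.leaf (nat_lit 0x424042809) (nat_lit 1029))
 (.node (nat_lit 0x424202801) (.leaf (nat_lit 0x424052108) (nat_lit 1281))
 (.leaf (nat_lit 0x424202801) (nat_lit 772))
)) (.node (nat_lit 0x424242808) (.leaf (nat_lit 0x424212109) (nat_lit 1537))
 (.node (nat_lit 0x424252101) (.leaf (nat_lit 0x424242808) (nat_lit 1028))
 (.leaf (nat_lit 0x424252101) (nat_lit 1537))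
))))))))) (.node (nat_lit 0x7751eeaff) (.node (nat_lit 0x5dcc7d9cf) (.node (nat_lit 0x54ef2fde3) (.node (nat_lit 0x489802064) (.node (nat_lit 0x484242801) (.node (nat_lit 0x481910260) (.node (nat_lit 0x481802224) (.node (nat_lit 0x481110264) (.leaf (nat_lit 0x481102220) (nat_lit 770))
 (.leaf (nat_lit 0x481110264) (nat_lit 1539))
) (.node (nat_lit 0x481810244) (.leaf (nat_lit 0x481802224) (nat_lit 1026))
 (.node (nat_lit 0x481902204) (.leaf (nat_lit 0x481810244) (nat_lit 1027))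
 (.leaf (nat_lit 0x481902204) (nat_lit 1026))
))) (.node (nat_lit 0x484050909) (.node (nat_lit 0x484042808) (.leaf (nat_lit 0x481910260) (nat_lit 1283))
 (.leaf (nat_lit 0x484042808) (nat_lit 1026))
) (.node (nat_lit 0x484202809) (.leaf (nat_lit 0x484050909) (nat_lit 1285))
 (.node (nat_lit 0x484210901) (.leaf (nat_lit 0x484202809) (nat_lit 1282))
 (.leaf (nat_lit 0x484210901) (nat_lit 1284))
)))) (.node (nat_lit 0x488810044) (.node (nat_lit 0x488102260) (.node (nat_lit 0x484250908) (.leaf (nat_lit 0x484242801) (nat_lit 1282))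
 (.leaf (nat_lit 0x484250908) (nat_lit 1540))
) (.node (nat_lit 0x488110064) (.leaf (nat_lit 0x488102260) (nat_lit 1026))
 (.node (nat_lit 0x488802264) (.leaf (nat_lit 0x488110064) (nat_lit 1027))
 (.leaf (nat_lit 0x488802264) (nat_lit 1282))
))) (.node (nat_lit 0x488910060) (.node (nat_lit 0x488902244) (.leaf (nat_lit 0x488810044) (nat_lit 515))
 (.leaf (nat_lit 0x488902244) (nat_lit 1282))
) (.node (nat_lit 0x489102060) (.leaf (nat_lit 0x488910060) (nat_lit 771))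
 (.node (nat_lit 0x489110224) (.leaf (nat_lit 0x489102060) (nat_lit 1026))
 (.leaf (nat_lit 0x489110224) (nat_lit 1283))
))))) (.node (nat_lit 0x4a4042108) (.node (nat_lit 0x4a0050109) (.node (nat_lit 0x489902044) (.node (nat_lit 0x489810204) (.leaf (nat_lit 0x489802064) (nat_lit 1282))
 (.leaf (nat_lit 0x489810204) (nat_lit 771))
) (.node (nat_lit 0x489910220) (.leaf (nat_lit 0x489902044) (nat_lit 1282))
 (.node (nat_lit 0x4a0042908) (.leaf (nat_lit 0x489910220) (nat_lit 1027))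
 (.leaf (nat_lit 0x4a0042908) (nat_lit 1282))
))) (.node (nat_lit 0x4a0210101) (.node (nat_lit 0x4a0202909) (.leaf (nat_lit 0x4a0050109) (nat_lit 1284))
 (.leaf (nat_lit 0x4a0202909) (nat_lit 1538))
) (.node (nat_lit 0x4a0242901) (.leaf (nat_lit 0x4a0210101) (nat_lit 772))
 (.node (nat_lit 0x4a0250108) (.leaf (nat_lit 0x4a0242901) (nat_lit 1538))
 (.leaf (nat_lit 0x4a0250108) (nat_lit 1028))
)))) (.node (nat_lit 0x4a4250808) (.node (nat_lit 0x4a4202109) (.node (nat_lit 0x4a4050809) (.leaf (nat_lit 0x4a4042108) (nat_lit 1282))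
 (.leaf (nat_lit 0x4a4050809) (nat_lit 1285))
) (.node (nat_lit 0x4a4210801) (.leaf (nat_lit 0x4a4202109) (nat_lit 1538))
 (.node (nat_lit 0x4a4242101) (.leaf (nat_lit 0x4a4210801) (nat_lit 1028))
 (.leaf (nat_lit 0x4a4242101) (nat_lit 1538))
))) (.node (nat_lit 0x54e7fae63) (.node (nat_lit 0x54e7efdfc) (.leaf (nat_lit 0x4a4250808) (nat_lit 1284))
 (.leaf (nat_lit 0x54e7efdfc) (nat_lit 1285))
) (.node (nat_lit 0x54e8efddf) (.leaf (nat_lit 0x54e7fae63) (nat_lit 774))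
 (.node (nat_lit 0x54e8fae7c) (.leaf (nat_lit 0x54e8efddf) (nat_lit 1285))
 (.leaf (nat_lit 0x54e8fae7c) (nat_lit 1030))
)))))) (.node (nat_lit 0x5797ef3bc) (.node (nat_lit 0x563def7f9) (.node (nat_lit 0x55fdfa8ce) (.node (nat_lit 0x55f3aff37) (.node (nat_lit 0x54ef3ae5f) (.leaf (nat_lit 0x54ef2fde3) (nat_lit 1283))
 (.leaf (nat_lit 0x54ef3ae5f) (nat_lit 1024))
) (.node (nat_lit 0x55f3ba8f9) (.leaf (nat_lit 0x55f3aff37) (nat_lit 1286))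
 (.node (nat_lit 0x55fdeff39) (.leaf (nat_lit 0x55f3ba8f9) (nat_lit 773))
 (.leaf (nat_lit 0x55fdeff39) (nat_lit 1541))
))) (.node (nat_lit 0x55fe7a8f7) (.node (nat_lit 0x55fe6ff0e) (.leaf (nat_lit 0x55fdfa8ce) (nat_lit 1024))
 (.leaf (nat_lit 0x55fe6ff0e) (nat_lit 1539))
) (.node (nat_lit 0x5633af7f7) (.leaf (nat_lit 0x55fe7a8f7) (nat_lit 1286))
 (.node (nat_lit 0x5633baf39) (.leaf (nat_lit 0x5633af7f7) (nat_lit 1029))
 (.leaf (nat_lit 0x5633baf39) (nat_lit 1286))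
)))) (.node (nat_lit 0x5777fa3a3) (.node (nat_lit 0x563e6f7ce) (.node (nat_lit 0x563dfaf0e) (.leaf (nat_lit 0x563def7f9) (nat_lit 1538))
 (.leaf (nat_lit 0x563dfaf0e) (nat_lit 1285))
) (.node (nat_lit 0x563e7af37) (.leaf (nat_lit 0x563e6f7ce) (nat_lit 1282))
 (.node (nat_lit 0x5777efe7c) (.leaf (nat_lit 0x563e7af37) (nat_lit 1281))
 (.leaf (nat_lit 0x5777efe7c) (nat_lit 1285))
))) (.node (nat_lit 0x5778fa3bc) (.node (nat_lit 0x5778efe5f) (.leaf (nat_lit 0x5777fa3a3) (nat_lit 1025))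
 (.leaf (nat_lit 0x5778efe5f) (nat_lit 1282))
) (.node (nat_lit 0x577f2fe63) (.leaf (nat_lit 0x5778fa3bc) (nat_lit 1286))
 (.node (nat_lit 0x577f3a39f) (.leaf (nat_lit 0x577f2fe63) (nat_lit 1027))
 (.leaf (nat_lit 0x577f3a39f) (nat_lit 1286))
))))) (.node (nat_lit 0x57ce6f8ce) (.node (nat_lit 0x579f3addf) (.node (nat_lit 0x5798ef39f) (.node (nat_lit 0x5797fade3) (.leaf (nat_lit 0x5797ef3bc) (nat_lit 1283))
 (.leaf (nat_lit 0x5797fade3) (nat_lit 1030))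
) (.node (nat_lit 0x5798fadfc) (.leaf (nat_lit 0x5798ef39f) (nat_lit 1026))
 (.node (nat_lit 0x579f2f3a3) (.leaf (nat_lit 0x5798fadfc) (nat_lit 1280))
 (.leaf (nat_lit 0x579f2f3a3) (nat_lit 1027))
))) (.node (nat_lit 0x57c3ba7f9) (.node (nat_lit 0x57c3af8f7) (.leaf (nat_lit 0x579f3addf) (nat_lit 1030))
 (.leaf (nat_lit 0x57c3af8f7) (nat_lit 1281))
) (.node (nat_lit 0x57cdef8f9) (.leaf (nat_lit 0x57c3ba7f9) (nat_lit 1025))
 (.node (nat_lit 0x57cdfa7ce) (.leaf (nat_lit 0x57cdef8f9) (nat_lit 1284))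
 (.leaf (nat_lit 0x57cdfa7ce) (nat_lit 1281))
)))) (.node (nat_lit 0x5cf9fdfbb) (.node (nat_lit 0x5cf72ac7b) (.node (nat_lit 0x57ce7a7f7) (.leaf (nat_lit 0x57ce6f8ce) (nat_lit 1283))
 (.leaf (nat_lit 0x57ce7a7f7) (nat_lit 1029))
) (.node (nat_lit 0x5cf73dfa7) (.leaf (nat_lit 0x5cf72ac7b) (nat_lit 773))
 (.node (nat_lit 0x5cf9eac5c) (.leaf (nat_lit 0x5cf73dfa7) (nat_lit 1283))
 (.leaf (nat_lit 0x5cf9eac5c) (nat_lit 1024))
))) (.node (nat_lit 0x5dc3eaef1) (.node (nat_lit 0x5cfeeac67) (.leaf (nat_lit 0x5cf9fdfbb) (nat_lit 1285))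
 (.node (nat_lit 0x5cfefdf9c) (.leaf (nat_lit 0x5cfeeac67) (nat_lit 1285))
 (.leaf (nat_lit 0x5cfefdf9c) (nat_lit 1538))
)) (.node (nat_lit 0x5dc3fd9fe) (.leaf (nat_lit 0x5dc3eaef1) (nat_lit 1030))
 (.node (nat_lit 0x5dcc6aefe) (.leaf (nat_lit 0x5dc3fd9fe) (nat_lit 1283))
 (.leaf (nat_lit 0x5dcc6aefe) (nat_lit 1286))
))))))) (.node (nat_lit 0x72a3fbf71) (.node (nat_lit 0x5fbfbd731) (.node (nat_lit 0x5f173d3e7) (.node (nat_lit 0x5e7c6a73e) (.node (nat_lit 0x5dcfbd9f1) (.node (nat_lit 0x5dcfaaecf) (.leaf (nat_lit 0x5dcc7d9cf) (nat_lit 1282))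
 (.leaf (nat_lit 0x5dcfaaecf) (nat_lit 1280))
) (.node (nat_lit 0x5e73ea731) (.leaf (nat_lit 0x5dcfbd9f1) (nat_lit 1282))
 (.node (nat_lit 0x5e73fdefe) (.leaf (nat_lit 0x5e73ea731) (nat_lit 1281))
 (.leaf (nat_lit 0x5e73fdefe) (nat_lit 1029))
))) (.node (nat_lit 0x5e7faa70f) (.node (nat_lit 0x5e7c7decf) (.leaf (nat_lit 0x5e7c6a73e) (nat_lit 1285))
 (.leaf (nat_lit 0x5e7c7decf) (nat_lit 1280))
) (.node (nat_lit 0x5e7fbdef1) (.leaf (nat_lit 0x5e7faa70f) (nat_lit 1541))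
 (.node (nat_lit 0x5f172afbb) (.leaf (nat_lit 0x5e7fbdef1) (nat_lit 1026))
 (.leaf (nat_lit 0x5f172afbb) (nat_lit 1282))
)))) (.node (nat_lit 0x5fb3ea9f1) (.node (nat_lit 0x5f19fd3fb) (.node (nat_lit 0x5f19eaf9c) (.leaf (nat_lit 0x5f173d3e7) (nat_lit 1285))
 (.leaf (nat_lit 0x5f19eaf9c) (nat_lit 1285))
) (.node (nat_lit 0x5f1eeafa7) (.leaf (nat_lit 0x5f19fd3fb) (nat_lit 1537))
 (.node (nat_lit 0x5f1efd3dc) (.leaf (nat_lit 0x5f1eeafa7) (nat_lit 1282))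
 (.leaf (nat_lit 0x5f1efd3dc) (nat_lit 1286))
))) (.node (nat_lit 0x5fbc6a9fe) (.node (nat_lit 0x5fb3fd73e) (.leaf (nat_lit 0x5fb3ea9f1) (nat_lit 1286))
 (.leaf (nat_lit 0x5fb3fd73e) (nat_lit 1282))
) (.node (nat_lit 0x5fbc7d70f) (.leaf (nat_lit 0x5fbc6a9fe) (nat_lit 1282))
 (.node (nat_lit 0x5fbfaa9cf) (.leaf (nat_lit 0x5fbc7d70f) (nat_lit 1282))
 (.leaf (nat_lit 0x5fbfaa9cf) (nat_lit 1286))
))))) (.node (nat_lit 0x70fabbc7d) (.node (nat_lit 0x5feeea3e7) (.node (nat_lit 0x5fe73dc67) (.node (nat_lit 0x5fe72a3fb) (.leaf (nat_lit 0x5fbfbd731) (nat_lit 1026))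
 (.leaf (nat_lit 0x5fe72a3fb) (nat_lit 1025))
) (.node (nat_lit 0x5fe9ea3dc) (.leaf (nat_lit 0x5fe73dc67) (nat_lit 1538))
 (.node (nat_lit 0x5fe9fdc7b) (.leaf (nat_lit 0x5fe9ea3dc) (nat_lit 1281))
 (.leaf (nat_lit 0x5fe9fdc7b) (nat_lit 1282))
))) (.node (nat_lit 0x70f5e7fbd) (.node (nat_lit 0x5feefdc5c) (.leaf (nat_lit 0x5feeea3e7) (nat_lit 1029))
 (.leaf (nat_lit 0x5feefdc5c) (nat_lit 1282))
) (.node (nat_lit 0x70f5fbc6a) (.leaf (nat_lit 0x70f5e7fbd) (nat_lit 773))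
 (.node (nat_lit 0x70faa7f97) (.leaf (nat_lit 0x70f5fbc6a) (nat_lit 1030))
 (.leaf (nat_lit 0x70faa7f97) (nat_lit 1024))
)))) (.node (nat_lit 0x717c67f4f) (.node (nat_lit 0x70ff7bc57) (.node (nat_lit 0x70ff67faa) (.leaf (nat_lit 0x70fabbc7d) (nat_lit 1286))
 (.leaf (nat_lit 0x70ff67faa) (nat_lit 1280))
) (.node (nat_lit 0x7173e7f7e) (.leaf (nat_lit 0x70ff7bc57) (nat_lit 1280))
 (.node (nat_lit 0x7173fbab1) (.leaf (nat_lit 0x7173e7f7e) (nat_lit 1029))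
 (.leaf (nat_lit 0x7173fbab1) (nat_lit 1029))
))) (.node (nat_lit 0x717fa7f71) (.node (nat_lit 0x717c7babe) (.leaf (nat_lit 0x717c67f4f) (nat_lit 1285))
 (.leaf (nat_lit 0x717c7babe) (nat_lit 1542))
) (.node (nat_lit 0x717fbba8f) (.leaf (nat_lit 0x717fa7f71) (nat_lit 1286))
 (.node (nat_lit 0x72a3e75fe) (.leaf (nat_lit 0x717fbba8f) (nat_lit 1280))
 (.leaf (nat_lit 0x72a3e75fe) (nat_lit 1285))
)))))) (.node (nat_lit 0x73eabb3fd) (.node (nat_lit 0x731f7bf97) (.node (nat_lit 0x7315e73fd) (.node (nat_lit 0x72ac7bf7e) (.node (nat_lit 0x72ac675cf) (.leaf (nat_lit 0x72a3fbf71) (nat_lit 1542))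
 (.leaf (nat_lit 0x72ac675cf) (nat_lit 1538))
) (.node (nat_lit 0x72afa75f1) (.leaf (nat_lit 0x72ac7bf7e) (nat_lit 1285))
 (.node (nat_lit 0x72afbbf4f) (.leaf (nat_lit 0x72afa75f1) (nat_lit 1285))
 (.leaf (nat_lit 0x72afbbf4f) (nat_lit 1541))
))) (.node (nat_lit 0x731aa73d7) (.node (nat_lit 0x7315fbfaa) (.leaf (nat_lit 0x7315e73fd) (nat_lit 1025))
 (.leaf (nat_lit 0x7315fbfaa) (nat_lit 1286))
) (.node (nat_lit 0x731abbfbd) (.leaf (nat_lit 0x731aa73d7) (nat_lit 1282))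
 (.node (nat_lit 0x731f673ea) (.leaf (nat_lit 0x731abbfbd) (nat_lit 1286))
 (.leaf (nat_lit 0x731f673ea) (nat_lit 1029))
)))) (.node (nat_lit 0x73dfa7ab1) (.node (nat_lit 0x73d3fb5f1) (.node (nat_lit 0x73d3e7abe) (.leaf (nat_lit 0x731f7bf97) (nat_lit 1286))
 (.leaf (nat_lit 0x73d3e7abe) (nat_lit 1286))
) (.node (nat_lit 0x73dc67a8f) (.leaf (nat_lit 0x73d3fb5f1) (nat_lit 1281))
 (.node (nat_lit 0x73dc7b5fe) (.leaf (nat_lit 0x73dc67a8f) (nat_lit 1285))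
 (.leaf (nat_lit 0x73dc7b5fe) (nat_lit 1285))
))) (.node (nat_lit 0x73e5e7c7d) (.node (nat_lit 0x73dfbb5cf) (.leaf (nat_lit 0x73dfa7ab1) (nat_lit 1540))
 (.leaf (nat_lit 0x73dfbb5cf) (nat_lit 1285))
) (.node (nat_lit 0x73e5fb3ea) (.leaf (nat_lit 0x73e5e7c7d) (nat_lit 1281))
 (.node (nat_lit 0x73eaa7c57) (.leaf (nat_lit 0x73e5fb3ea) (nat_lit 1281))
 (.leaf (nat_lit 0x73eaa7c57) (nat_lit 1285))
))))) (.node (nat_lit 0x75e1f3af8) (.node (nat_lit 0x747aeefde) (.node (nat_lit 0x73ef7b3d7) (.node (nat_lit 0x73ef67c6a) (.leaf (nat_lit 0x73eabb3fd) (nat_lit 1542))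
 (.leaf (nat_lit 0x73ef67c6a) (nat_lit 1283))
) (.node (nat_lit 0x7477aeff5) (.leaf (nat_lit 0x73ef7b3d7) (nat_lit 1286))
 (.node (nat_lit 0x7477b3e2b) (.leaf (nat_lit 0x7477aeff5) (nat_lit 1029))
 (.leaf (nat_lit 0x7477b3e2b) (nat_lit 1030))
))) (.node (nat_lit 0x747d6efeb) (.node (nat_lit 0x747af3e35) (.leaf (nat_lit 0x747aeefde) (nat_lit 1280))
 (.leaf (nat_lit 0x747af3e35) (nat_lit 1286))
) (.node (nat_lit 0x747d73e1e) (.leaf (nat_lit 0x747d6efeb) (nat_lit 1283))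
 (.node (nat_lit 0x75e1eed7f) (.leaf (nat_lit 0x747d73e1e) (nat_lit 1280))
 (.leaf (nat_lit 0x75e1eed7f) (nat_lit 1285))
)))) (.node (nat_lit 0x76b1ee7bf) (.node (nat_lit 0x75ee33aff) (.node (nat_lit 0x75ee2ed47) (.leaf (nat_lit 0x75e1f3af8) (nat_lit 771))
 (.leaf (nat_lit 0x75ee2ed47) (nat_lit 1283))
) (.node (nat_lit 0x75efeed78) (.leaf (nat_lit 0x75ee33aff) (nat_lit 1286))
 (.node (nat_lit 0x75eff3ac7) (.leaf (nat_lit 0x75efeed78) (nat_lit 1285))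
 (.leaf (nat_lit 0x75eff3ac7) (nat_lit 1027))
))) (.node (nat_lit 0x76be33d7f) (.node (nat_lit 0x76b1f3d78) (.leaf (nat_lit 0x76b1ee7bf) (nat_lit 1541))
 (.node (nat_lit 0x76be2e787) (.leaf (nat_lit 0x76b1f3d78) (nat_lit 1286))
 (.leaf (nat_lit 0x76be2e787) (nat_lit 1283))
)) (.node (nat_lit 0x76bfee7b8) (.leaf (nat_lit 0x76be33d7f) (nat_lit 1282))
 (.node (nat_lit 0x76bff3d47) (.leaf (nat_lit 0x76bfee7b8) (nat_lit 1541))
 (.leaf (nat_lit 0x76bff3d47) (nat_lit 1541))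
)))))))) (.node (nat_lit 0x7f9bfc3ba) (.node (nat_lit 0x7b3febb87) (.node (nat_lit 0x787babe1d) (.node (nat_lit 0x778d6e1eb) (.node (nat_lit 0x775ff3787) (.node (nat_lit 0x775e2eac7) (.node (nat_lit 0x7751f37b8) (.leaf (nat_lit 0x7751eeaff) (nat_lit 1542))
 (.leaf (nat_lit 0x7751f37b8) (nat_lit 1027))
) (.node (nat_lit 0x775e337bf) (.leaf (nat_lit 0x775e2eac7) (nat_lit 1027))
 (.node (nat_lit 0x775feeaf8) (.leaf (nat_lit 0x775e337bf) (nat_lit 1285))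
 (.leaf (nat_lit 0x775feeaf8) (nat_lit 1283))
))) (.node (nat_lit 0x7787b3feb) (.node (nat_lit 0x7787ae1f5) (.leaf (nat_lit 0x775ff3787) (nat_lit 1283))
 (.leaf (nat_lit 0x7787ae1f5) (nat_lit 1281))
) (.node (nat_lit 0x778aee1de) (.leaf (nat_lit 0x7787b3feb) (nat_lit 1286))
 (.node (nat_lit 0x778af3ff5) (.leaf (nat_lit 0x778aee1de) (nat_lit 1283))
 (.leaf (nat_lit 0x778af3ff5) (nat_lit 1542))
)))) (.node (nat_lit 0x77faf31f5) (.node (nat_lit 0x77f7aee35) (.node (nat_lit 0x778d73fde) (.leaf (nat_lit 0x778d6e1eb) (nat_lit 1027))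
 (.leaf (nat_lit 0x778d73fde) (nat_lit 1542))
) (.node (nat_lit 0x77f7b31eb) (.leaf (nat_lit 0x77f7aee35) (nat_lit 1029))
 (.node (nat_lit 0x77faeee1e) (.leaf (nat_lit 0x77f7b31eb) (nat_lit 1281))
 (.leaf (nat_lit 0x77faeee1e) (nat_lit 1282))
))) (.node (nat_lit 0x77fd731de) (.node (nat_lit 0x77fd6ee2b) (.leaf (nat_lit 0x77faf31f5) (nat_lit 1541))
 (.leaf (nat_lit 0x77fd6ee2b) (nat_lit 1282))
) (.node (nat_lit 0x78776be33) (.leaf (nat_lit 0x77fd731de) (nat_lit 1542))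
 (.node (nat_lit 0x787775fee) (.leaf (nat_lit 0x78776be33) (nat_lit 1029))
 (.leaf (nat_lit 0x787775fee) (nat_lit 1285))
))))) (.node (nat_lit 0x7ae1eb778) (.node (nat_lit 0x79d1f5bbf) (.node (nat_lit 0x787cebe2e) (.node (nat_lit 0x787bb5ff3) (.leaf (nat_lit 0x787babe1d) (nat_lit 1280))
 (.leaf (nat_lit 0x787bb5ff3) (nat_lit 1541))
) (.node (nat_lit 0x787cf5fdd) (.leaf (nat_lit 0x787cebe2e) (nat_lit 1286))
 (.node (nat_lit 0x79d1ebcf8) (.leaf (nat_lit 0x787cf5fdd) (nat_lit 1541))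
 (.leaf (nat_lit 0x79d1ebcf8) (nat_lit 774))
))) (.node (nat_lit 0x79de35b87) (.node (nat_lit 0x79de2bcff) (.leaf (nat_lit 0x79d1f5bbf) (nat_lit 1029))
 (.leaf (nat_lit 0x79de2bcff) (nat_lit 1030))
) (.node (nat_lit 0x79dfebcc7) (.leaf (nat_lit 0x79de35b87) (nat_lit 1027))
 (.node (nat_lit 0x79dff5bb8) (.leaf (nat_lit 0x79dfebcc7) (nat_lit 1024))
 (.leaf (nat_lit 0x79dff5bb8) (nat_lit 1029))
)))) (.node (nat_lit 0x7aeff5cf8) (.node (nat_lit 0x7aee2b77f) (.node (nat_lit 0x7ae1f5cff) (.leaf (nat_lit 0x7ae1eb778) (nat_lit 1025))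
 (.leaf (nat_lit 0x7ae1f5cff) (nat_lit 1285))
) (.node (nat_lit 0x7aee35cc7) (.leaf (nat_lit 0x7aee2b77f) (nat_lit 1281))
 (.node (nat_lit 0x7aefeb747) (.leaf (nat_lit 0x7aee35cc7) (nat_lit 1027))
 (.leaf (nat_lit 0x7aefeb747) (nat_lit 1281))
))) (.node (nat_lit 0x7b31f577f) (.node (nat_lit 0x7b31ebbb8) (.leaf (nat_lit 0x7aeff5cf8) (nat_lit 1282))
 (.leaf (nat_lit 0x7b31ebbb8) (nat_lit 1030))
) (.node (nat_lit 0x7b3e2bbbf) (.leaf (nat_lit 0x7b31f577f) (nat_lit 1281))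
 (.node (nat_lit 0x7b3e35747) (.leaf (nat_lit 0x7b3e2bbbf) (nat_lit 1286))
 (.leaf (nat_lit 0x7b3e35747) (nat_lit 1027))
)))))) (.node (nat_lit 0x7d53a3eb9) (.node (nat_lit 0x7bfbab1dd) (.node (nat_lit 0x7b8bb51f3) (.node (nat_lit 0x7b876bff3) (.node (nat_lit 0x7b3ff5778) (.leaf (nat_lit 0x7b3febb87) (nat_lit 1280))
 (.leaf (nat_lit 0x7b3ff5778) (nat_lit 1282))
) (.node (nat_lit 0x7b87751ee) (.leaf (nat_lit 0x7b876bff3) (nat_lit 1286))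
 (.node (nat_lit 0x7b8babfdd) (.leaf (nat_lit 0x7b87751ee) (nat_lit 1284))
 (.leaf (nat_lit 0x7b8babfdd) (nat_lit 1541))
))) (.node (nat_lit 0x7b8cf51dd) (.node (nat_lit 0x7b8cebfee) (.leaf (nat_lit 0x7b8bb51f3) (nat_lit 1284))
 (.leaf (nat_lit 0x7b8cebfee) (nat_lit 1282))
) (.node (nat_lit 0x7bf76b1f3) (.leaf (nat_lit 0x7b8cf51dd) (nat_lit 1284))
 (.node (nat_lit 0x7bf775e2e) (.leaf (nat_lit 0x7bf76b1f3) (nat_lit 1281))
 (.leaf (nat_lit 0x7bf775e2e) (nat_lit 1285))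
)))) (.node (nat_lit 0x7ce57cdef) (.node (nat_lit 0x7bfceb1ee) (.node (nat_lit 0x7bfbb5e33) (.leaf (nat_lit 0x7bfbab1dd) (nat_lit 1537))
 (.leaf (nat_lit 0x7bfbb5e33) (nat_lit 1538))
) (.node (nat_lit 0x7bfcf5e1d) (.leaf (nat_lit 0x7bfceb1ee) (nat_lit 1285))
 (.node (nat_lit 0x7ce563e7a) (.leaf (nat_lit 0x7bfcf5e1d) (nat_lit 1538))
 (.leaf (nat_lit 0x7ce563e7a) (nat_lit 1027))
))) (.node (nat_lit 0x7cebfcdfa) (.node (nat_lit 0x7cebe3e55) (.leaf (nat_lit 0x7ce57cdef) (nat_lit 1541))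
 (.leaf (nat_lit 0x7cebe3e55) (nat_lit 1283))
) (.node (nat_lit 0x7ceea3e6f) (.leaf (nat_lit 0x7cebfcdfa) (nat_lit 1282))
 (.node (nat_lit 0x7ceebcdd5) (.leaf (nat_lit 0x7ceea3e6f) (nat_lit 1282))
 (.leaf (nat_lit 0x7ceebcdd5) (nat_lit 1282))
))))) (.node (nat_lit 0x7efe63577) (.node (nat_lit 0x7d5e7cbce) (.node (nat_lit 0x7d5de3e8e) (.node (nat_lit 0x7d53bcbf7) (.leaf (nat_lit 0x7d53a3eb9) (nat_lit 1030))
 (.leaf (nat_lit 0x7d53bcbf7) (nat_lit 1285))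
) (.node (nat_lit 0x7d5dfcbf9) (.leaf (nat_lit 0x7d5de3e8e) (nat_lit 1280))
 (.node (nat_lit 0x7d5e63eb7) (.leaf (nat_lit 0x7d5dfcbf9) (nat_lit 1026))
 (.leaf (nat_lit 0x7d5e63eb7) (nat_lit 1286))
))) (.node (nat_lit 0x7ef3bceb7) (.node (nat_lit 0x7ef3a3579) (.leaf (nat_lit 0x7d5e7cbce) (nat_lit 1026))
 (.leaf (nat_lit 0x7ef3a3579) (nat_lit 1281))
) (.node (nat_lit 0x7efde354e) (.leaf (nat_lit 0x7ef3bceb7) (nat_lit 1026))
 (.node (nat_lit 0x7efdfceb9) (.leaf (nat_lit 0x7efde354e) (nat_lit 1285))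
 (.leaf (nat_lit 0x7efdfceb9) (nat_lit 770))
)))) (.node (nat_lit 0x7f7bfce7a) (.node (nat_lit 0x7f75633ba) (.node (nat_lit 0x7efe7ce8e) (.leaf (nat_lit 0x7efe63577) (nat_lit 1282))
 (.leaf (nat_lit 0x7efe7ce8e) (nat_lit 1283))
) (.node (nat_lit 0x7f757ce6f) (.leaf (nat_lit 0x7f75633ba) (nat_lit 1283))
 (.node (nat_lit 0x7f7be3395) (.leaf (nat_lit 0x7f757ce6f) (nat_lit 1282))
 (.leaf (nat_lit 0x7f7be3395) (nat_lit 1285))
))) (.node (nat_lit 0x7f9563dfa) (.node (nat_lit 0x7f7ea33af) (.leaf (nat_lit 0x7f7bfce7a) (nat_lit 1026))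
 (.node (nat_lit 0x7f7ebce55) (.leaf (nat_lit 0x7f7ea33af) (nat_lit 1285))
 (.leaf (nat_lit 0x7f7ebce55) (nat_lit 1283))
)) (.node (nat_lit 0x7f957c3af) (.leaf (nat_lit 0x7f9563dfa) (nat_lit 1282))
 (.node (nat_lit 0x7f9be3dd5) (.leaf (nat_lit 0x7f957c3af) (nat_lit 1282))
 (.leaf (nat_lit 0x7f9be3dd5) (nat_lit 1538))
))))))) (.node (nat_lit 0x812064088) (.node (nat_lit 0x802264401) (.node (nat_lit 0x8010a4210) (.node (nat_lit 0x7fade3bce) (.node (nat_lit 0x7f9ebc395) (.node (nat_lit 0x7f9ea3def) (.leaf (nat_lit 0x7f9bfc3ba) (nat_lit 1540))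
 (.leaf (nat_lit 0x7f9ea3def) (nat_lit 1026))
) (.node (nat_lit 0x7fa3a3bf9) (.leaf (nat_lit 0x7f9ebc395) (nat_lit 1540))
 (.node (nat_lit 0x7fa3bc577) (.leaf (nat_lit 0x7fa3a3bf9) (nat_lit 1286))
 (.leaf (nat_lit 0x7fa3bc577) (nat_lit 1282))
))) (.node (nat_lit 0x7fae63bf7) (.node (nat_lit 0x7fadfc579) (.leaf (nat_lit 0x7fade3bce) (nat_lit 1282))
 (.leaf (nat_lit 0x7fadfc579) (nat_lit 1283))
) (.node (nat_lit 0x7fae7c54e) (.leaf (nat_lit 0x7fae63bf7) (nat_lit 1026))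
 (.node (nat_lit 0x801084252) (.leaf (nat_lit 0x7fae7c54e) (nat_lit 1283))
 (.leaf (nat_lit 0x801084252) (nat_lit 1029))
)))) (.node (nat_lit 0x802044489) (.node (nat_lit 0x801424212) (.node (nat_lit 0x801404242) (.leaf (nat_lit 0x8010a4210) (nat_lit 774))
 (.leaf (nat_lit 0x801404242) (nat_lit 772))
) (.node (nat_lit 0x801484250) (.leaf (nat_lit 0x801424212) (nat_lit 1030))
 (.node (nat_lit 0x8014a4202) (.leaf (nat_lit 0x801484250) (nat_lit 1028))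
 (.leaf (nat_lit 0x8014a4202) (nat_lit 1024))
))) (.node (nat_lit 0x802204481) (.node (nat_lit 0x802064408) (.leaf (nat_lit 0x802044489) (nat_lit 1025))
 (.leaf (nat_lit 0x802064408) (nat_lit 518))
) (.node (nat_lit 0x802224409) (.leaf (nat_lit 0x802204481) (nat_lit 513))
 (.node (nat_lit 0x802244488) (.leaf (nat_lit 0x802224409) (nat_lit 774))
 (.leaf (nat_lit 0x802244488) (nat_lit 769))
))))) (.node (nat_lit 0x809424052) (.node (nat_lit 0x808484050) (.node (nat_lit 0x8080a4250) (.node (nat_lit 0x808084052) (.leaf (nat_lit 0x802264401) (nat_lit 768))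
 (.leaf (nat_lit 0x808084052) (nat_lit 772))
) (.node (nat_lit 0x808404042) (.leaf (nat_lit 0x8080a4250) (nat_lit 1030))
 (.node (nat_lit 0x808424252) (.leaf (nat_lit 0x808404042) (nat_lit 260))
 (.leaf (nat_lit 0x808424252) (nat_lit 1286))
))) (.node (nat_lit 0x809084212) (.node (nat_lit 0x8084a4242) (.leaf (nat_lit 0x808484050) (nat_lit 516))
 (.leaf (nat_lit 0x8084a4242) (nat_lit 1280))
) (.node (nat_lit 0x8090a4050) (.leaf (nat_lit 0x809084212) (nat_lit 773))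
 (.node (nat_lit 0x809404202) (.leaf (nat_lit 0x8090a4050) (nat_lit 1025))
 (.leaf (nat_lit 0x809404202) (nat_lit 516))
)))) (.node (nat_lit 0x810204081) (.node (nat_lit 0x8094a4042) (.node (nat_lit 0x809484210) (.leaf (nat_lit 0x809424052) (nat_lit 1281))
 (.leaf (nat_lit 0x809484210) (nat_lit 772))
) (.node (nat_lit 0x810044089) (.leaf (nat_lit 0x8094a4042) (nat_lit 1281))
 (.node (nat_lit 0x810064488) (.leaf (nat_lit 0x810044089) (nat_lit 512))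
 (.leaf (nat_lit 0x810064488) (nat_lit 774))
))) (.node (nat_lit 0x810244088) (.node (nat_lit 0x810224489) (.leaf (nat_lit 0x810204081) (nat_lit 0))
 (.leaf (nat_lit 0x810224489) (nat_lit 1030))
) (.node (nat_lit 0x810264481) (.leaf (nat_lit 0x810244088) (nat_lit 256))
 (.node (nat_lit 0x812044409) (.leaf (nat_lit 0x810264481) (nat_lit 1024))
 (.leaf (nat_lit 0x812044409) (nat_lit 769))
)))))) (.node (nat_lit 0x8efdfc54e) (.node (nat_lit 0x8ceebce6f) (.node (nat_lit 0x8ce55fdef) (.node (nat_lit 0x812224089) (.node (nat_lit 0x812204401) (.leaf (nat_lit 0x812064088) (nat_lit 769))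
 (.leaf (nat_lit 0x812204401) (nat_lit 257))
) (.node (nat_lit 0x812244408) (.leaf (nat_lit 0x812224089) (nat_lit 1025))
 (.node (nat_lit 0x812264081) (.leaf (nat_lit 0x812244408) (nat_lit 513))
 (.leaf (nat_lit 0x812264081) (nat_lit 1025))
))) (.node (nat_lit 0x8cebdfdfa) (.node (nat_lit 0x8ce57ce7a) (.leaf (nat_lit 0x8ce55fdef) (nat_lit 1029))
 (.leaf (nat_lit 0x8ce57ce7a) (nat_lit 1281))
) (.node (nat_lit 0x8cebfce55) (.leaf (nat_lit 0x8cebdfdfa) (nat_lit 1538))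
 (.node (nat_lit 0x8cee9fdd5) (.leaf (nat_lit 0x8cebfce55) (nat_lit 1029))
 (.leaf (nat_lit 0x8cee9fdd5) (nat_lit 1280))
)))) (.node (nat_lit 0x8d5e5fbce) (.node (nat_lit 0x8d53bceb9) (.node (nat_lit 0x8d539fbf7) (.leaf (nat_lit 0x8ceebce6f) (nat_lit 1025))
 (.leaf (nat_lit 0x8d539fbf7) (nat_lit 1285))
) (.node (nat_lit 0x8d5ddfbf9) (.leaf (nat_lit 0x8d53bceb9) (nat_lit 1286))
 (.node (nat_lit 0x8d5dfce8e) (.leaf (nat_lit 0x8d5ddfbf9) (nat_lit 1282))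
 (.leaf (nat_lit 0x8d5dfce8e) (nat_lit 1286))
))) (.node (nat_lit 0x8ef39feb7) (.node (nat_lit 0x8d5e7ceb7) (.leaf (nat_lit 0x8d5e5fbce) (nat_lit 1283))
 (.leaf (nat_lit 0x8d5e7ceb7) (nat_lit 1025))
) (.node (nat_lit 0x8ef3bc579) (.leaf (nat_lit 0x8ef39feb7) (nat_lit 1282))
 (.node (nat_lit 0x8efddfeb9) (.leaf (nat_lit 0x8ef3bc579) (nat_lit 1030))
 (.leaf (nat_lit 0x8efddfeb9) (nat_lit 1026))
))))) (.node (nat_lit 0x8f957cdfa) (.node (nat_lit 0x8f7bdfe7a) (.node (nat_lit 0x8efe7c577) (.node (nat_lit 0x8efe5fe8e) (.leaf (nat_lit 0x8efdfc54e) (nat_lit 1280))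
 (.leaf (nat_lit 0x8efe5fe8e) (nat_lit 1027))
) (.node (nat_lit 0x8f755fe6f) (.leaf (nat_lit 0x8efe7c577) (nat_lit 1030))
 (.node (nat_lit 0x8f757c3ba) (.leaf (nat_lit 0x8f755fe6f) (nat_lit 1541))
 (.leaf (nat_lit 0x8f757c3ba) (nat_lit 1285))
))) (.node (nat_lit 0x8f7e9fe55) (.node (nat_lit 0x8f7bfc395) (.leaf (nat_lit 0x8f7bdfe7a) (nat_lit 1282))
 (.leaf (nat_lit 0x8f7bfc395) (nat_lit 1281))
) (.node (nat_lit 0x8f7ebc3af) (.leaf (nat_lit 0x8f7e9fe55) (nat_lit 1284))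
 (.node (nat_lit 0x8f955f3af) (.leaf (nat_lit 0x8f7ebc3af) (nat_lit 1286))
 (.leaf (nat_lit 0x8f955f3af) (nat_lit 1281))
)))) (.node (nat_lit 0x8fa39f577) (.node (nat_lit 0x8f9bfcdd5) (.node (nat_lit 0x8f9bdf3ba) (.leaf (nat_lit 0x8f957cdfa) (nat_lit 1024))
 (.leaf (nat_lit 0x8f9bdf3ba) (nat_lit 1284))
) (.node (nat_lit 0x8f9e9f395) (.leaf (nat_lit 0x8f9bfcdd5) (nat_lit 1286))
 (.node (nat_lit 0x8f9ebcdef) (.leaf (nat_lit 0x8f9e9f395) (nat_lit 1028))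
 (.leaf (nat_lit 0x8f9ebcdef) (nat_lit 773))
))) (.node (nat_lit 0x8fadfcbce) (.node (nat_lit 0x8fa3bcbf9) (.leaf (nat_lit 0x8fa39f577) (nat_lit 1283))
 (.node (nat_lit 0x8faddf579) (.leaf (nat_lit 0x8fa3bcbf9) (nat_lit 1024))
 (.leaf (nat_lit 0x8faddf579) (nat_lit 1027))
)) (.node (nat_lit 0x8fae5f54e) (.leaf (nat_lit 0x8fadfcbce) (nat_lit 1030))
 (.node (nat_lit 0x8fae7cbf7) (.leaf (nat_lit 0x8fae5f54e) (nat_lit 771))
 (.leaf (nat_lit 0x8fae7cbf7) (nat_lit 774))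
)))))))))) (.node (nat_lit 0xdd57ceea3) (.node (nat_lit 0xbb51dd7b8) (.node (nat_lit 0xa9cc7defe) (.node (nat_lit 0x9cff5cc57) (.node (nat_lit 0x909404052) (.node (nat_lit 0x902244401) (.node (nat_lit 0x9014a0250) (.node (nat_lit 0x901404212) (.node (nat_lit 0x9010a0252) (.leaf (nat_lit 0x901084210) (nat_lit 770))
 (.leaf (nat_lit 0x9010a0252) (nat_lit 1285))
) (.node (nat_lit 0x901420242) (.leaf (nat_lit 0x901404212) (nat_lit 1026))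
 (.node (nat_lit 0x901484202) (.leaf (nat_lit 0x901420242) (nat_lit 1028))
 (.leaf (nat_lit 0x901484202) (nat_lit 1026))
))) (.node (nat_lit 0x902060489) (.node (nat_lit 0x902044408) (.leaf (nat_lit 0x9014a0250) (nat_lit 1284))
 (.leaf (nat_lit 0x902044408) (nat_lit 514))
) (.node (nat_lit 0x902204409) (.leaf (nat_lit 0x902060489) (nat_lit 1282))
 (.node (nat_lit 0x902220481) (.leaf (nat_lit 0x902204409) (nat_lit 770))
 (.leaf (nat_lit 0x902220481) (nat_lit 770))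
)))) (.node (nat_lit 0x908420042) (.node (nat_lit 0x908084250) (.node (nat_lit 0x902260488) (.leaf (nat_lit 0x902244401) (nat_lit 770))
 (.leaf (nat_lit 0x902260488) (nat_lit 1026))
) (.node (nat_lit 0x9080a0052) (.leaf (nat_lit 0x908084250) (nat_lit 1026))
 (.node (nat_lit 0x908404252) (.leaf (nat_lit 0x9080a0052) (nat_lit 1028))
 (.leaf (nat_lit 0x908404252) (nat_lit 1282))
))) (.node (nat_lit 0x9084a0050) (.node (nat_lit 0x908484242) (.leaf (nat_lit 0x908420042) (nat_lit 516))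
 (.leaf (nat_lit 0x908484242) (nat_lit 1282))
) (.node (nat_lit 0x909084050) (.leaf (nat_lit 0x9084a0050) (nat_lit 772))
 (.node (nat_lit 0x9090a0212) (.leaf (nat_lit 0x909084050) (nat_lit 1026))
 (.leaf (nat_lit 0x9090a0212) (nat_lit 1029))
))))) (.node (nat_lit 0x912044088) (.node (nat_lit 0x910060089) (.node (nat_lit 0x909484042) (.node (nat_lit 0x909420202) (.leaf (nat_lit 0x909404052) (nat_lit 1282))
 (.leaf (nat_lit 0x909420202) (nat_lit 772))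
) (.node (nat_lit 0x9094a0210) (.leaf (nat_lit 0x909484042) (nat_lit 1282))
 (.node (nat_lit 0x910044488) (.leaf (nat_lit 0x9094a0210) (nat_lit 1028))
 (.leaf (nat_lit 0x910044488) (nat_lit 770))
))) (.node (nat_lit 0x910220081) (.node (nat_lit 0x910204489) (.leaf (nat_lit 0x910060089) (nat_lit 770))
 (.leaf (nat_lit 0x910204489) (nat_lit 1026))
) (.node (nat_lit 0x910244481) (.leaf (nat_lit 0x910220081) (nat_lit 258))
 (.node (nat_lit 0x910260088) (.leaf (nat_lit 0x910244481) (nat_lit 1026))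
 (.leaf (nat_lit 0x910260088) (nat_lit 514))
)))) (.node (nat_lit 0x912260408) (.node (nat_lit 0x912204089) (.node (nat_lit 0x912060409) (.leaf (nat_lit 0x912044088) (nat_lit 770))
 (.leaf (nat_lit 0x912060409) (nat_lit 1026))
) (.node (nat_lit 0x912220401) (.leaf (nat_lit 0x912204089) (nat_lit 1026))
 (.node (nat_lit 0x912244081) (.leaf (nat_lit 0x912220401) (nat_lit 514))
 (.leaf (nat_lit 0x912244081) (nat_lit 1026))
))) (.node (nat_lit 0x9cf5fbfbd) (.node (nat_lit 0x9cf5dcc6a) (.leaf (nat_lit 0x912260408) (nat_lit 770))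
 (.leaf (nat_lit 0x9cf5dcc6a) (nat_lit 1282))
) (.node (nat_lit 0x9cfa9cc7d) (.leaf (nat_lit 0x9cf5fbfbd) (nat_lit 773))
 (.node (nat_lit 0x9cfabbf97) (.leaf (nat_lit 0x9cfa9cc7d) (nat_lit 1286))
 (.leaf (nat_lit 0x9cfabbf97) (nat_lit 1024))
)))))) (.node (nat_lit 0x9fd3dc5f1) (.node (nat_lit 0x9eac5cf7e) (.node (nat_lit 0x9d7c7bf4f) (.node (nat_lit 0x9d73dcab1) (.node (nat_lit 0x9cff7bfaa) (.leaf (nat_lit 0x9cff5cc57) (nat_lit 1285))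
 (.leaf (nat_lit 0x9cff7bfaa) (nat_lit 1283))
) (.node (nat_lit 0x9d73fbf7e) (.leaf (nat_lit 0x9d73dcab1) (nat_lit 1282))
 (.node (nat_lit 0x9d7c5cabe) (.leaf (nat_lit 0x9d73fbf7e) (nat_lit 1029))
 (.leaf (nat_lit 0x9d7c5cabe) (nat_lit 1285))
))) (.node (nat_lit 0x9d7fbbf71) (.node (nat_lit 0x9d7f9ca8f) (.leaf (nat_lit 0x9d7c7bf4f) (nat_lit 1280))
 (.leaf (nat_lit 0x9d7f9ca8f) (nat_lit 1285))
) (.node (nat_lit 0x9ea3dcf71) (.leaf (nat_lit 0x9d7fbbf71) (nat_lit 1538))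
 (.node (nat_lit 0x9ea3fb5fe) (.leaf (nat_lit 0x9ea3dcf71) (nat_lit 1029))
 (.leaf (nat_lit 0x9ea3fb5fe) (nat_lit 1281))
)))) (.node (nat_lit 0x9f15fb3fd) (.node (nat_lit 0x9eaf9cf4f) (.node (nat_lit 0x9eac7b5cf) (.leaf (nat_lit 0x9eac5cf7e) (nat_lit 1281))
 (.leaf (nat_lit 0x9eac7b5cf) (nat_lit 1282))
) (.node (nat_lit 0x9eafbb5f1) (.leaf (nat_lit 0x9eaf9cf4f) (nat_lit 1025))
 (.node (nat_lit 0x9f15dcfaa) (.leaf (nat_lit 0x9eafbb5f1) (nat_lit 1285))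
 (.leaf (nat_lit 0x9f15dcfaa) (nat_lit 1285))
))) (.node (nat_lit 0x9f1abb3d7) (.node (nat_lit 0x9f1a9cfbd) (.leaf (nat_lit 0x9f15fb3fd) (nat_lit 1025))
 (.leaf (nat_lit 0x9f1a9cfbd) (nat_lit 1542))
) (.node (nat_lit 0x9f1f5cf97) (.leaf (nat_lit 0x9f1abb3d7) (nat_lit 1026))
 (.node (nat_lit 0x9f1f7b3ea) (.leaf (nat_lit 0x9f1f5cf97) (nat_lit 1281))
 (.leaf (nat_lit 0x9f1f7b3ea) (nat_lit 1029))
))))) (.node (nat_lit 0x9fef5c3d7) (.node (nat_lit 0x9fdfbbab1) (.node (nat_lit 0x9fdc5c5fe) (.node (nat_lit 0x9fd3fbabe) (.leaf (nat_lit 0x9fd3dc5f1) (nat_lit 1285))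
 (.leaf (nat_lit 0x9fd3fbabe) (nat_lit 1538))
) (.node (nat_lit 0x9fdc7ba8f) (.leaf (nat_lit 0x9fdc5c5fe) (nat_lit 1024))
 (.node (nat_lit 0x9fdf9c5cf) (.leaf (nat_lit 0x9fdc7ba8f) (nat_lit 1285))
 (.leaf (nat_lit 0x9fdf9c5cf) (nat_lit 773))
))) (.node (nat_lit 0x9fe5fbc7d) (.node (nat_lit 0x9fe5dc3ea) (.leaf (nat_lit 0x9fdfbbab1) (nat_lit 1284))
 (.leaf (nat_lit 0x9fe5dc3ea) (nat_lit 1285))
) (.node (nat_lit 0x9fea9c3fd) (.leaf (nat_lit 0x9fe5fbc7d) (nat_lit 1282))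
 (.node (nat_lit 0x9feabbc57) (.leaf (nat_lit 0x9fea9c3fd) (nat_lit 1280))
 (.leaf (nat_lit 0x9feabbc57) (nat_lit 1282))
)))) (.node (nat_lit 0xa8f9fdc5c) (.node (nat_lit 0xa8f717fa7) (.node (nat_lit 0x9fef7bc6a) (.leaf (nat_lit 0x9fef5c3d7) (nat_lit 1030))
 (.leaf (nat_lit 0x9fef7bc6a) (nat_lit 1027))
) (.node (nat_lit 0xa8f73dc7b) (.leaf (nat_lit 0xa8f717fa7) (nat_lit 1285))
 (.node (nat_lit 0xa8f9d7fbb) (.leaf (nat_lit 0xa8f73dc7b) (nat_lit 1281))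
 (.leaf (nat_lit 0xa8f9d7fbb) (nat_lit 1285))
))) (.node (nat_lit 0xa9c3d79fe) (.node (nat_lit 0xa8fed7f9c) (.leaf (nat_lit 0xa8f9fdc5c) (nat_lit 1285))
 (.node (nat_lit 0xa8fefdc67) (.leaf (nat_lit 0xa8fed7f9c) (nat_lit 1286))
 (.leaf (nat_lit 0xa8fefdc67) (nat_lit 1281))
)) (.node (nat_lit 0xa9c3fdef1) (.leaf (nat_lit 0xa9c3d79fe) (nat_lit 1281))
 (.node (nat_lit 0xa9cc579cf) (.leaf (nat_lit 0xa9c3fdef1) (nat_lit 1286))
 (.leaf (nat_lit 0xa9cc579cf) (nat_lit 1281))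
))))))) (.node (nat_lit 0xaee1f5778) (.node (nat_lit 0xabbfbd9cf) (.node (nat_lit 0xab173dfbb) (.node (nat_lit 0xaa7c57ecf) (.node (nat_lit 0xa9cfbdecf) (.node (nat_lit 0xa9cf979f1) (.leaf (nat_lit 0xa9cc7defe) (nat_lit 1030))
 (.leaf (nat_lit 0xa9cf979f1) (nat_lit 1285))
) (.node (nat_lit 0xaa73d7efe) (.leaf (nat_lit 0xa9cfbdecf) (nat_lit 1286))
 (.node (nat_lit 0xaa73fd731) (.leaf (nat_lit 0xaa73d7efe) (nat_lit 1029))
 (.leaf (nat_lit 0xaa73fd731) (nat_lit 1286))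
))) (.node (nat_lit 0xaa7f97ef1) (.node (nat_lit 0xaa7c7d73e) (.leaf (nat_lit 0xaa7c57ecf) (nat_lit 1025))
 (.leaf (nat_lit 0xaa7c7d73e) (nat_lit 1286))
) (.node (nat_lit 0xaa7fbd70f) (.leaf (nat_lit 0xaa7f97ef1) (nat_lit 1282))
 (.node (nat_lit 0xab17173e7) (.leaf (nat_lit 0xaa7fbd70f) (nat_lit 1536))
 (.leaf (nat_lit 0xab17173e7) (nat_lit 1286))
)))) (.node (nat_lit 0xabb3d773e) (.node (nat_lit 0xab19fdf9c) (.node (nat_lit 0xab19d73fb) (.leaf (nat_lit 0xab173dfbb) (nat_lit 1029))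
 (.leaf (nat_lit 0xab19d73fb) (nat_lit 1280))
) (.node (nat_lit 0xab1ed73dc) (.leaf (nat_lit 0xab19fdf9c) (nat_lit 1280))
 (.node (nat_lit 0xab1efdfa7) (.leaf (nat_lit 0xab1ed73dc) (nat_lit 1029))
 (.leaf (nat_lit 0xab1efdfa7) (nat_lit 1029))
))) (.node (nat_lit 0xabbc5770f) (.node (nat_lit 0xabb3fd9f1) (.leaf (nat_lit 0xabb3d773e) (nat_lit 1280))
 (.leaf (nat_lit 0xabb3fd9f1) (nat_lit 1280))
) (.node (nat_lit 0xabbc7d9fe) (.leaf (nat_lit 0xabbc5770f) (nat_lit 773))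
 (.node (nat_lit 0xabbf97731) (.leaf (nat_lit 0xabbc7d9fe) (nat_lit 1030))
 (.leaf (nat_lit 0xabbf97731) (nat_lit 1024))
))))) (.node (nat_lit 0xac7bb5e1d) (.node (nat_lit 0xabeed7c5c) (.node (nat_lit 0xabe73d3fb) (.node (nat_lit 0xabe717c67) (.leaf (nat_lit 0xabbfbd9cf) (nat_lit 1286))
 (.leaf (nat_lit 0xabe717c67) (nat_lit 1285))
) (.node (nat_lit 0xabe9d7c7b) (.leaf (nat_lit 0xabe73d3fb) (nat_lit 1541))
 (.node (nat_lit 0xabe9fd3dc) (.leaf (nat_lit 0xabe9d7c7b) (nat_lit 1538))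
 (.leaf (nat_lit 0xabe9fd3dc) (nat_lit 1283))
))) (.node (nat_lit 0xac775efee) (.node (nat_lit 0xabeefd3e7) (.leaf (nat_lit 0xabeed7c5c) (nat_lit 1281))
 (.leaf (nat_lit 0xabeefd3e7) (nat_lit 1542))
) (.node (nat_lit 0xac7775e33) (.leaf (nat_lit 0xac775efee) (nat_lit 1541))
 (.node (nat_lit 0xac7b9eff3) (.leaf (nat_lit 0xac7775e33) (nat_lit 1286))
 (.leaf (nat_lit 0xac7b9eff3) (nat_lit 1541))
)))) (.node (nat_lit 0xadde1eb87) (.node (nat_lit 0xac7cf5e2e) (.node (nat_lit 0xac7cdefdd) (.leaf (nat_lit 0xac7bb5e1d) (nat_lit 1285))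
 (.leaf (nat_lit 0xac7cdefdd) (nat_lit 1284))
) (.node (nat_lit 0xadd1debbf) (.leaf (nat_lit 0xac7cf5e2e) (nat_lit 1281))
 (.node (nat_lit 0xadd1f5cf8) (.leaf (nat_lit 0xadd1debbf) (nat_lit 1282))
 (.leaf (nat_lit 0xadd1f5cf8) (nat_lit 1030))
))) (.node (nat_lit 0xaddfdebb8) (.node (nat_lit 0xadde35cff) (.leaf (nat_lit 0xadde1eb87) (nat_lit 1027))
 (.leaf (nat_lit 0xadde35cff) (nat_lit 1286))
) (.node (nat_lit 0xaddff5cc7) (.leaf (nat_lit 0xaddfdebb8) (nat_lit 1282))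
 (.node (nat_lit 0xaee1decff) (.leaf (nat_lit 0xaddff5cc7) (nat_lit 1280))
 (.leaf (nat_lit 0xaee1decff) (nat_lit 1285))
)))))) (.node (nat_lit 0xaffbb51dd) (.node (nat_lit 0xaf3ff5b87) (.node (nat_lit 0xaf31de77f) (.node (nat_lit 0xaeee3577f) (.node (nat_lit 0xaeee1ecc7) (.leaf (nat_lit 0xaee1f5778) (nat_lit 1030))
 (.leaf (nat_lit 0xaeee1ecc7) (nat_lit 771))
) (.node (nat_lit 0xaeefdecf8) (.leaf (nat_lit 0xaeee3577f) (nat_lit 1286))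
 (.node (nat_lit 0xaeeff5747) (.leaf (nat_lit 0xaeefdecf8) (nat_lit 1027))
 (.leaf (nat_lit 0xaeeff5747) (nat_lit 1286))
))) (.node (nat_lit 0xaf3e1e747) (.node (nat_lit 0xaf31f5bb8) (.leaf (nat_lit 0xaf31de77f) (nat_lit 1027))
 (.leaf (nat_lit 0xaf31f5bb8) (nat_lit 1281))
) (.node (nat_lit 0xaf3e35bbf) (.leaf (nat_lit 0xaf3e1e747) (nat_lit 515))
 (.node (nat_lit 0xaf3fde778) (.leaf (nat_lit 0xaf3e35bbf) (nat_lit 1286))
 (.leaf (nat_lit 0xaf3fde778) (nat_lit 771))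
)))) (.node (nat_lit 0xaf8cde1dd) (.node (nat_lit 0xaf8775ff3) (.node (nat_lit 0xaf875e1ee) (.leaf (nat_lit 0xaf3ff5b87) (nat_lit 1542))
 (.leaf (nat_lit 0xaf875e1ee) (nat_lit 1284))
) (.node (nat_lit 0xaf8b9e1f3) (.leaf (nat_lit 0xaf8775ff3) (nat_lit 1285))
 (.node (nat_lit 0xaf8bb5fdd) (.leaf (nat_lit 0xaf8b9e1f3) (nat_lit 1028))
 (.leaf (nat_lit 0xaf8bb5fdd) (nat_lit 1536))
))) (.node (nat_lit 0xaff75ee2e) (.node (nat_lit 0xaf8cf5fee) (.leaf (nat_lit 0xaf8cde1dd) (nat_lit 772))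
 (.leaf (nat_lit 0xaf8cf5fee) (nat_lit 1029))
) (.node (nat_lit 0xaff7751f3) (.leaf (nat_lit 0xaff75ee2e) (nat_lit 1285))
 (.node (nat_lit 0xaffb9ee33) (.leaf (nat_lit 0xaff7751f3) (nat_lit 1541))
 (.leaf (nat_lit 0xaffb9ee33) (nat_lit 1284))
))))) (.node (nat_lit 0xb9e1f3d7f) (.node (nat_lit 0xb87adde35) (.node (nat_lit 0xaffcf51ee) (.node (nat_lit 0xaffcdee1d) (.leaf (nat_lit 0xaffbb51dd) (nat_lit 1285))
 (.leaf (nat_lit 0xaffcdee1d) (nat_lit 1028))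
) (.node (nat_lit 0xb8779de2b) (.leaf (nat_lit 0xaffcf51ee) (nat_lit 1285))
 (.node (nat_lit 0xb877b3ff5) (.leaf (nat_lit 0xb8779de2b) (nat_lit 1282))
 (.leaf (nat_lit 0xb877b3ff5) (nat_lit 1029))
))) (.node (nat_lit 0xb87d5de1e) (.node (nat_lit 0xb87af3fde) (.leaf (nat_lit 0xb87adde35) (nat_lit 1286))
 (.leaf (nat_lit 0xb87af3fde) (nat_lit 1280))
) (.node (nat_lit 0xb87d73feb) (.leaf (nat_lit 0xb87d5de1e) (nat_lit 1541))
 (.node (nat_lit 0xb9e1ddaf8) (.leaf (nat_lit 0xb87d73feb) (nat_lit 1281))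
 (.leaf (nat_lit 0xb9e1ddaf8) (nat_lit 1027))
)))) (.node (nat_lit 0xbab1ddd78) (.node (nat_lit 0xb9ee33d47) (.node (nat_lit 0xb9ee1daff) (.leaf (nat_lit 0xb9e1f3d7f) (nat_lit 1285))
 (.leaf (nat_lit 0xb9ee1daff) (nat_lit 1541))
) (.node (nat_lit 0xb9efddac7) (.leaf (nat_lit 0xb9ee33d47) (nat_lit 1027))
 (.node (nat_lit 0xb9eff3d78) (.leaf (nat_lit 0xb9efddac7) (nat_lit 1285))
 (.leaf (nat_lit 0xb9eff3d78) (nat_lit 1283))
))) (.node (nat_lit 0xbabe33787) (.node (nat_lit 0xbab1f37bf) (.leaf (nat_lit 0xbab1ddd78) (nat_lit 1027))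
 (.node (nat_lit 0xbabe1dd7f) (.leaf (nat_lit 0xbab1f37bf) (nat_lit 1537))
 (.leaf (nat_lit 0xbabe1dd7f) (nat_lit 1285))
)) (.node (nat_lit 0xbabfddd47) (.leaf (nat_lit 0xbabe33787) (nat_lit 1027))
 (.node (nat_lit 0xbabff37b8) (.leaf (nat_lit 0xbabfddd47) (nat_lit 1281))
 (.leaf (nat_lit 0xbabff37b8) (nat_lit 1285))
)))))))) (.node (nat_lit 0xc7babe9fd) (.node (nat_lit 0xbf7f1539f) (.node (nat_lit 0xbce8d5e7c) (.node (nat_lit 0xbb8d5dfde) (.node (nat_lit 0xbb5ff3af8) (.node (nat_lit 0xbb5e1d7bf) (.node (nat_lit 0xbb51f3aff) (.leaf (nat_lit 0xbb51dd7b8) (nat_lit 1283))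
 (.leaf (nat_lit 0xbb51f3aff) (nat_lit 1536))
) (.node (nat_lit 0xbb5e33ac7) (.leaf (nat_lit 0xbb5e1d7bf) (nat_lit 1280))
 (.node (nat_lit 0xbb5fdd787) (.leaf (nat_lit 0xbb5e33ac7) (nat_lit 1283))
 (.leaf (nat_lit 0xbb5fdd787) (nat_lit 1029))
))) (.node (nat_lit 0xbb87b31f5) (.node (nat_lit 0xbb879dfeb) (.leaf (nat_lit 0xbb5ff3af8) (nat_lit 1285))
 (.leaf (nat_lit 0xbb879dfeb) (nat_lit 1541))
) (.node (nat_lit 0xbb8addff5) (.leaf (nat_lit 0xbb87b31f5) (nat_lit 1281))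
 (.node (nat_lit 0xbb8af31de) (.leaf (nat_lit 0xbb8addff5) (nat_lit 1542))
 (.leaf (nat_lit 0xbb8af31de) (nat_lit 1027))
)))) (.node (nat_lit 0xbbfaf3e1e) (.node (nat_lit 0xbbf79d1eb) (.node (nat_lit 0xbb8d731eb) (.leaf (nat_lit 0xbb8d5dfde) (nat_lit 1286))
 (.leaf (nat_lit 0xbb8d731eb) (nat_lit 1285))
) (.node (nat_lit 0xbbf7b3e35) (.leaf (nat_lit 0xbbf79d1eb) (nat_lit 1541))
 (.node (nat_lit 0xbbfadd1f5) (.leaf (nat_lit 0xbbf7b3e35) (nat_lit 1280))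
 (.leaf (nat_lit 0xbbfadd1f5) (nat_lit 1536))
))) (.node (nat_lit 0xbbfd73e2b) (.node (nat_lit 0xbbfd5d1de) (.leaf (nat_lit 0xbbfaf3e1e) (nat_lit 1029))
 (.leaf (nat_lit 0xbbfd5d1de) (nat_lit 1286))
) (.node (nat_lit 0xbce7d5e63) (.leaf (nat_lit 0xbbfd73e2b) (nat_lit 1029))
 (.node (nat_lit 0xbce7fadfc) (.leaf (nat_lit 0xbce7d5e63) (nat_lit 1026))
 (.leaf (nat_lit 0xbce7fadfc) (nat_lit 1285))
))))) (.node (nat_lit 0xbe3395f39) (.node (nat_lit 0xbdf3baf37) (.node (nat_lit 0xbcef15e5f) (.node (nat_lit 0xbce8faddf) (.leaf (nat_lit 0xbce8d5e7c) (nat_lit 1282))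
 (.leaf (nat_lit 0xbce8faddf) (nat_lit 1282))
) (.node (nat_lit 0xbcef3ade3) (.leaf (nat_lit 0xbcef15e5f) (nat_lit 1282))
 (.node (nat_lit 0xbdf3958f9) (.leaf (nat_lit 0xbcef3ade3) (nat_lit 1027))
 (.leaf (nat_lit 0xbdf3958f9) (nat_lit 1026))
))) (.node (nat_lit 0xbdfdfaf39) (.node (nat_lit 0xbdfdd58ce) (.leaf (nat_lit 0xbdf3baf37) (nat_lit 1541))
 (.leaf (nat_lit 0xbdfdd58ce) (nat_lit 1029))
) (.node (nat_lit 0xbdfe558f7) (.leaf (nat_lit 0xbdfdfaf39) (nat_lit 1282))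
 (.node (nat_lit 0xbdfe7af0e) (.leaf (nat_lit 0xbdfe558f7) (nat_lit 1280))
 (.leaf (nat_lit 0xbdfe7af0e) (nat_lit 1283))
)))) (.node (nat_lit 0xbe3e7a7ce) (.node (nat_lit 0xbe3dd5f0e) (.node (nat_lit 0xbe33ba7f7) (.leaf (nat_lit 0xbe3395f39) (nat_lit 1283))
 (.leaf (nat_lit 0xbe33ba7f7) (nat_lit 1538))
) (.node (nat_lit 0xbe3dfa7f9) (.leaf (nat_lit 0xbe3dd5f0e) (nat_lit 1281))
 (.node (nat_lit 0xbe3e55f37) (.leaf (nat_lit 0xbe3dfa7f9) (nat_lit 1282))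
 (.leaf (nat_lit 0xbe3e55f37) (nat_lit 1541))
))) (.node (nat_lit 0xbf77fae7c) (.node (nat_lit 0xbf77d53a3) (.leaf (nat_lit 0xbe3e7a7ce) (nat_lit 1026))
 (.leaf (nat_lit 0xbf77d53a3) (nat_lit 1029))
) (.node (nat_lit 0xbf78d53bc) (.leaf (nat_lit 0xbf77fae7c) (nat_lit 1026))
 (.node (nat_lit 0xbf78fae5f) (.leaf (nat_lit 0xbf78d53bc) (nat_lit 1538))
 (.leaf (nat_lit 0xbf78fae5f) (nat_lit 1026))
)))))) (.node (nat_lit 0xc5c5cf9fd) (.node (nat_lit 0xbfcdd57ce) (.node (nat_lit 0xbf98fa39f) (.node (nat_lit 0xbf97d5de3) (.node (nat_lit 0xbf7f3ae63) (.leaf (nat_lit 0xbf7f1539f) (nat_lit 1285))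
 (.leaf (nat_lit 0xbf7f3ae63) (nat_lit 771))
) (.node (nat_lit 0xbf97fa3bc) (.leaf (nat_lit 0xbf97d5de3) (nat_lit 1282))
 (.node (nat_lit 0xbf98d5dfc) (.leaf (nat_lit 0xbf97fa3bc) (nat_lit 1282))
 (.leaf (nat_lit 0xbf98d5dfc) (nat_lit 1286))
))) (.node (nat_lit 0xbf9f3a3a3) (.node (nat_lit 0xbf9f15ddf) (.leaf (nat_lit 0xbf98fa39f) (nat_lit 770))
 (.leaf (nat_lit 0xbf9f15ddf) (nat_lit 1282))
) (.node (nat_lit 0xbfc3957f9) (.leaf (nat_lit 0xbf9f3a3a3) (nat_lit 1026))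
 (.node (nat_lit 0xbfc3ba8f7) (.leaf (nat_lit 0xbfc3957f9) (nat_lit 1282))
 (.leaf (nat_lit 0xbfc3ba8f7) (nat_lit 1282))
)))) (.node (nat_lit 0xc5773eabb) (.node (nat_lit 0xbfce557f7) (.node (nat_lit 0xbfcdfa8f9) (.leaf (nat_lit 0xbfcdd57ce) (nat_lit 1029))
 (.leaf (nat_lit 0xbfcdfa8f9) (nat_lit 1028))
) (.node (nat_lit 0xbfce7a8ce) (.leaf (nat_lit 0xbfce557f7) (nat_lit 1282))
 (.node (nat_lit 0xc5770ff67) (.leaf (nat_lit 0xbfce7a8ce) (nat_lit 1282))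
 (.leaf (nat_lit 0xc5770ff67) (nat_lit 1281))
))) (.node (nat_lit 0xc579fea9c) (.node (nat_lit 0xc579cff7b) (.leaf (nat_lit 0xc5773eabb) (nat_lit 1286))
 (.leaf (nat_lit 0xc579cff7b) (nat_lit 1285))
) (.node (nat_lit 0xc57ecff5c) (.leaf (nat_lit 0xc579fea9c) (nat_lit 1536))
 (.node (nat_lit 0xc57efeaa7) (.leaf (nat_lit 0xc57ecff5c) (nat_lit 1281))
 (.leaf (nat_lit 0xc57efeaa7) (nat_lit 1281))
))))) (.node (nat_lit 0xc67f4feea) (.node (nat_lit 0xc5cf7eed7) (.node (nat_lit 0xc5ca8f9d7) (.node (nat_lit 0xc5c5feeea) (.leaf (nat_lit 0xc5c5cf9fd) (nat_lit 1285))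
 (.leaf (nat_lit 0xc5c5feeea) (nat_lit 1280))
) (.node (nat_lit 0xc5cabeefd) (.leaf (nat_lit 0xc5ca8f9d7) (nat_lit 1286))
 (.node (nat_lit 0xc5cf4f9ea) (.leaf (nat_lit 0xc5cabeefd) (nat_lit 1029))
 (.leaf (nat_lit 0xc5cf4f9ea) (nat_lit 1285))
))) (.node (nat_lit 0xc675fe72a) (.node (nat_lit 0xc675cfefd) (.leaf (nat_lit 0xc5cf7eed7) (nat_lit 1285))
 (.leaf (nat_lit 0xc675cfefd) (nat_lit 1285))
) (.node (nat_lit 0xc67a8fed7) (.leaf (nat_lit 0xc675fe72a) (nat_lit 1538))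
 (.node (nat_lit 0xc67abe73d) (.leaf (nat_lit 0xc67a8fed7) (nat_lit 1281))
 (.leaf (nat_lit 0xc67abe73d) (nat_lit 1281))
)))) (.node (nat_lit 0xc6a9fef5c) (.node (nat_lit 0xc6a70f5e7) (.node (nat_lit 0xc67f7e717) (.leaf (nat_lit 0xc67f4feea) (nat_lit 1537))
 (.leaf (nat_lit 0xc67f7e717) (nat_lit 1285))
) (.node (nat_lit 0xc6a73ef7b) (.leaf (nat_lit 0xc6a70f5e7) (nat_lit 1280))
 (.node (nat_lit 0xc6a9cf5fb) (.leaf (nat_lit 0xc6a73ef7b) (nat_lit 1030))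
 (.leaf (nat_lit 0xc6a9cf5fb) (nat_lit 1024))
))) (.node (nat_lit 0xc7b5cf73d) (.node (nat_lit 0xc6aecf5dc) (.leaf (nat_lit 0xc6a9fef5c) (nat_lit 1286))
 (.node (nat_lit 0xc6aefef67) (.leaf (nat_lit 0xc6aecf5dc) (nat_lit 773))
 (.leaf (nat_lit 0xc6aefef67) (nat_lit 1030))
)) (.node (nat_lit 0xc7b5fe9ea) (.leaf (nat_lit 0xc7b5cf73d) (nat_lit 1286))
 (.node (nat_lit 0xc7ba8f717) (.leaf (nat_lit 0xc7b5fe9ea) (nat_lit 1280))
 (.leaf (nat_lit 0xc7ba8f717) (nat_lit 1029))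
))))))) (.node (nat_lit 0xcff7ae1eb) (.node (nat_lit 0xcdefeeac7) (.node (nat_lit 0xcc77aee2b) (.node (nat_lit 0xc7d9cfabb) (.node (nat_lit 0xc7bf7e9d7) (.node (nat_lit 0xc7bf4f72a) (.leaf (nat_lit 0xc7babe9fd) (nat_lit 1029))
 (.leaf (nat_lit 0xc7bf4f72a) (nat_lit 1280))
) (.node (nat_lit 0xc7d70faa7) (.leaf (nat_lit 0xc7bf7e9d7) (nat_lit 1539))
 (.node (nat_lit 0xc7d73e5fb) (.leaf (nat_lit 0xc7d70faa7) (nat_lit 1029))
 (.leaf (nat_lit 0xc7d73e5fb) (nat_lit 1286))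
))) (.node (nat_lit 0xc7decfa9c) (.node (nat_lit 0xc7d9fe5dc) (.leaf (nat_lit 0xc7d9cfabb) (nat_lit 1281))
 (.leaf (nat_lit 0xc7d9fe5dc) (nat_lit 1286))
) (.node (nat_lit 0xc7defe5e7) (.leaf (nat_lit 0xc7decfa9c) (nat_lit 1025))
 (.node (nat_lit 0xcc779dff5) (.leaf (nat_lit 0xc7defe5e7) (nat_lit 1286))
 (.leaf (nat_lit 0xcc779dff5) (nat_lit 1282))
)))) (.node (nat_lit 0xcde1ddd7f) (.node (nat_lit 0xcc7aeee35) (.node (nat_lit 0xcc7addfde) (.leaf (nat_lit 0xcc77aee2b) (nat_lit 1286))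
 (.leaf (nat_lit 0xcc7addfde) (nat_lit 1285))
) (.node (nat_lit 0xcc7d5dfeb) (.leaf (nat_lit 0xcc7aeee35) (nat_lit 1542))
 (.node (nat_lit 0xcc7d6ee1e) (.leaf (nat_lit 0xcc7d5dfeb) (nat_lit 1541))
 (.leaf (nat_lit 0xcc7d6ee1e) (nat_lit 1542))
))) (.node (nat_lit 0xcdee1dd47) (.node (nat_lit 0xcde1eeaf8) (.leaf (nat_lit 0xcde1ddd7f) (nat_lit 1538))
 (.leaf (nat_lit 0xcde1eeaf8) (nat_lit 1286))
) (.node (nat_lit 0xcdee2eaff) (.leaf (nat_lit 0xcdee1dd47) (nat_lit 1283))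
 (.node (nat_lit 0xcdefddd78) (.leaf (nat_lit 0xcdee2eaff) (nat_lit 1285))
 (.leaf (nat_lit 0xcdefddd78) (nat_lit 1541))
))))) (.node (nat_lit 0xcf5e2e7bf) (.node (nat_lit 0xcebfdd7b8) (.node (nat_lit 0xceb1eed78) (.node (nat_lit 0xceb1dd7bf) (.leaf (nat_lit 0xcdefeeac7) (nat_lit 1285))
 (.leaf (nat_lit 0xceb1dd7bf) (nat_lit 1283))
) (.node (nat_lit 0xcebe1d787) (.leaf (nat_lit 0xceb1eed78) (nat_lit 1280))
 (.node (nat_lit 0xcebe2ed7f) (.leaf (nat_lit 0xcebe1d787) (nat_lit 771))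
 (.leaf (nat_lit 0xcebe2ed7f) (nat_lit 1029))
))) (.node (nat_lit 0xcf51ddaff) (.node (nat_lit 0xcebfeed47) (.leaf (nat_lit 0xcebfdd7b8) (nat_lit 1027))
 (.leaf (nat_lit 0xcebfeed47) (nat_lit 1285))
) (.node (nat_lit 0xcf51ee7b8) (.leaf (nat_lit 0xcf51ddaff) (nat_lit 1541))
 (.node (nat_lit 0xcf5e1dac7) (.leaf (nat_lit 0xcf51ee7b8) (nat_lit 1283))
 (.leaf (nat_lit 0xcf5e1dac7) (nat_lit 1027))
)))) (.node (nat_lit 0xcf8add1de) (.node (nat_lit 0xcf5fee787) (.node (nat_lit 0xcf5fddaf8) (.leaf (nat_lit 0xcf5e2e7bf) (nat_lit 1536))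
 (.leaf (nat_lit 0xcf5fddaf8) (nat_lit 1283))
) (.node (nat_lit 0xcf879d1f5) (.leaf (nat_lit 0xcf5fee787) (nat_lit 1285))
 (.node (nat_lit 0xcf87aefeb) (.leaf (nat_lit 0xcf879d1f5) (nat_lit 1283))
 (.leaf (nat_lit 0xcf87aefeb) (nat_lit 1286))
))) (.node (nat_lit 0xcf8d5d1eb) (.node (nat_lit 0xcf8aeeff5) (.leaf (nat_lit 0xcf8add1de) (nat_lit 771))
 (.leaf (nat_lit 0xcf8aeeff5) (nat_lit 1286))
) (.node (nat_lit 0xcf8d6efde) (.leaf (nat_lit 0xcf8d5d1eb) (nat_lit 1027))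
 (.node (nat_lit 0xcff79de35) (.leaf (nat_lit 0xcf8d6efde) (nat_lit 1537))
 (.leaf (nat_lit 0xcff79de35) (nat_lit 1285))
)))))) (.node (nat_lit 0xd6ee2bcc7) (.node (nat_lit 0xd47cebfdd) (.node (nat_lit 0xd4775ee33) (.node (nat_lit 0xcffaee1f5) (.node (nat_lit 0xcffadde1e) (.leaf (nat_lit 0xcff7ae1eb) (nat_lit 1542))
 (.leaf (nat_lit 0xcffadde1e) (nat_lit 1027))
) (.node (nat_lit 0xcffd5de2b) (.leaf (nat_lit 0xcffaee1f5) (nat_lit 1536))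
 (.node (nat_lit 0xcffd6e1de) (.leaf (nat_lit 0xcffd5de2b) (nat_lit 1285))
 (.leaf (nat_lit 0xcffd6e1de) (nat_lit 1286))
))) (.node (nat_lit 0xd47b9ee1d) (.node (nat_lit 0xd4776bfee) (.leaf (nat_lit 0xd4775ee33) (nat_lit 1282))
 (.leaf (nat_lit 0xd4776bfee) (nat_lit 1285))
) (.node (nat_lit 0xd47babff3) (.leaf (nat_lit 0xd47b9ee1d) (nat_lit 1541))
 (.node (nat_lit 0xd47cdee2e) (.leaf (nat_lit 0xd47babff3) (nat_lit 1537))
 (.leaf (nat_lit 0xd47cdee2e) (nat_lit 1541))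
)))) (.node (nat_lit 0xd5dfdecc7) (.node (nat_lit 0xd5d1ebbbf) (.node (nat_lit 0xd5d1decf8) (.leaf (nat_lit 0xd47cebfdd) (nat_lit 1541))
 (.leaf (nat_lit 0xd5d1decf8) (nat_lit 1026))
) (.node (nat_lit 0xd5de1ecff) (.leaf (nat_lit 0xd5d1ebbbf) (nat_lit 1029))
 (.node (nat_lit 0xd5de2bb87) (.leaf (nat_lit 0xd5de1ecff) (nat_lit 1282))
 (.leaf (nat_lit 0xd5de2bb87) (nat_lit 771))
))) (.node (nat_lit 0xd6e1de778) (.node (nat_lit 0xd5dfebbb8) (.leaf (nat_lit 0xd5dfdecc7) (nat_lit 1282))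
 (.leaf (nat_lit 0xd5dfebbb8) (nat_lit 1027))
) (.node (nat_lit 0xd6e1ebcff) (.leaf (nat_lit 0xd6e1de778) (nat_lit 1286))
 (.node (nat_lit 0xd6ee1e77f) (.leaf (nat_lit 0xd6e1ebcff) (nat_lit 1280))
 (.leaf (nat_lit 0xd6ee1e77f) (nat_lit 1286))
))))) (.node (nat_lit 0xd7876b1ee) (.node (nat_lit 0xd73e1ebbf) (.node (nat_lit 0xd6efebcf8) (.node (nat_lit 0xd6efde747) (.leaf (nat_lit 0xd6ee2bcc7) (nat_lit 1027))
 (.leaf (nat_lit 0xd6efde747) (nat_lit 1286))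
) (.node (nat_lit 0xd731debb8) (.leaf (nat_lit 0xd6efebcf8) (nat_lit 1029))
 (.node (nat_lit 0xd731eb77f) (.leaf (nat_lit 0xd731debb8) (nat_lit 1286))
 (.leaf (nat_lit 0xd731eb77f) (nat_lit 1280))
))) (.node (nat_lit 0xd73fdeb87) (.node (nat_lit 0xd73e2b747) (.leaf (nat_lit 0xd73e1ebbf) (nat_lit 1542))
 (.leaf (nat_lit 0xd73e2b747) (nat_lit 771))
) (.node (nat_lit 0xd73feb778) (.leaf (nat_lit 0xd73fdeb87) (nat_lit 1542))
 (.node (nat_lit 0xd7875eff3) (.leaf (nat_lit 0xd73feb778) (nat_lit 1029))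
 (.leaf (nat_lit 0xd7875eff3) (nat_lit 1285))
)))) (.node (nat_lit 0xd7f75e1f3) (.node (nat_lit 0xd78bab1f3) (.node (nat_lit 0xd78b9efdd) (.leaf (nat_lit 0xd7876b1ee) (nat_lit 1028))
 (.leaf (nat_lit 0xd78b9efdd) (nat_lit 1281))
) (.node (nat_lit 0xd78cdefee) (.leaf (nat_lit 0xd78bab1f3) (nat_lit 1284))
 (.node (nat_lit 0xd78ceb1dd) (.leaf (nat_lit 0xd78cdefee) (nat_lit 1285))
 (.leaf (nat_lit 0xd78ceb1dd) (nat_lit 1028))
))) (.node (nat_lit 0xd7fbabe33) (.node (nat_lit 0xd7f76be2e) (.leaf (nat_lit 0xd7f75e1f3) (nat_lit 1285))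
 (.node (nat_lit 0xd7fb9e1dd) (.leaf (nat_lit 0xd7f76be2e) (nat_lit 1284))
 (.leaf (nat_lit 0xd7fb9e1dd) (nat_lit 1029))
)) (.node (nat_lit 0xd7fcde1ee) (.leaf (nat_lit 0xd7fbabe33) (nat_lit 1285))
 (.node (nat_lit 0xd7fcebe1d) (.leaf (nat_lit 0xd7fcde1ee) (nat_lit 1280))
 (.leaf (nat_lit 0xd7fcebe1d) (nat_lit 1285))
))))))))) (.node (nat_lit 0xef15dc3fd) (.node (nat_lit 0xe5fbf78d5) (.node (nat_lit 0xe1dd47bab) (.node (nat_lit 0xdef8ce57c) (.node (nat_lit 0xddfe8e8ef) (.node (nat_lit 0xdd5f39be3) (.node (nat_lit 0xdd58ceebc) (.node (nat_lit 0xdd57f9bfc) (.leaf (nat_lit 0xdd57ceea3) (nat_lit 1026))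
 (.leaf (nat_lit 0xdd57f9bfc) (nat_lit 1538))
) (.node (nat_lit 0xdd58f9bdf) (.leaf (nat_lit 0xdd58ceebc) (nat_lit 1538))
 (.node (nat_lit 0xdd5f0ee9f) (.leaf (nat_lit 0xdd58f9bdf) (nat_lit 1538))
 (.leaf (nat_lit 0xdd5f0ee9f) (nat_lit 1282))
))) (.node (nat_lit 0xddf579f2f) (.node (nat_lit 0xddf54e8fa) (.leaf (nat_lit 0xdd5f39be3) (nat_lit 1282))
 (.leaf (nat_lit 0xddf54e8fa) (nat_lit 1026))
) (.node (nat_lit 0xddfbce8d5) (.leaf (nat_lit 0xddf579f2f) (nat_lit 1282))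
 (.node (nat_lit 0xddfbf9f3a) (.leaf (nat_lit 0xddfbce8d5) (nat_lit 1029))
 (.leaf (nat_lit 0xddfbf9f3a) (nat_lit 1282))
)))) (.node (nat_lit 0xde3bf97fa) (.node (nat_lit 0xde354ef3a) (.node (nat_lit 0xddfeb9f15) (.leaf (nat_lit 0xddfe8e8ef) (nat_lit 1282))
 (.leaf (nat_lit 0xddfeb9f15) (nat_lit 1027))
) (.node (nat_lit 0xde35797ef) (.leaf (nat_lit 0xde354ef3a) (nat_lit 1282))
 (.node (nat_lit 0xde3bcef15) (.leaf (nat_lit 0xde35797ef) (nat_lit 1282))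
 (.leaf (nat_lit 0xde3bcef15) (nat_lit 1282))
))) (.node (nat_lit 0xde3eb97d5) (.node (nat_lit 0xde3e8ef2f) (.leaf (nat_lit 0xde3bf97fa) (nat_lit 1026))
 (.leaf (nat_lit 0xde3e8ef2f) (nat_lit 1538))
) (.node (nat_lit 0xdef7ce563) (.leaf (nat_lit 0xde3eb97d5) (nat_lit 770))
 (.node (nat_lit 0xdef7f9ebc) (.leaf (nat_lit 0xdef7ce563) (nat_lit 1029))
 (.leaf (nat_lit 0xdef7f9ebc) (nat_lit 1282))
))))) (.node (nat_lit 0xdfc54e7fa) (.node (nat_lit 0xdfa7f957c) (.node (nat_lit 0xdeff0e55f) (.node (nat_lit 0xdef8f9e9f) (.leaf (nat_lit 0xdef8ce57c) (nat_lit 1282))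
 (.leaf (nat_lit 0xdef8f9e9f) (nat_lit 1282))
) (.node (nat_lit 0xdeff39ea3) (.leaf (nat_lit 0xdeff0e55f) (nat_lit 1029))
 (.node (nat_lit 0xdfa7cebe3) (.leaf (nat_lit 0xdeff39ea3) (nat_lit 1027))
 (.leaf (nat_lit 0xdfa7cebe3) (nat_lit 1285))
))) (.node (nat_lit 0xdfa8f955f) (.node (nat_lit 0xdfa8cebfc) (.leaf (nat_lit 0xdfa7f957c) (nat_lit 1284))
 (.leaf (nat_lit 0xdfa8cebfc) (nat_lit 1285))
) (.node (nat_lit 0xdfaf0ebdf) (.leaf (nat_lit 0xdfa8f955f) (nat_lit 1026))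
 (.node (nat_lit 0xdfaf39563) (.leaf (nat_lit 0xdfaf0ebdf) (nat_lit 1281))
 (.leaf (nat_lit 0xdfaf39563) (nat_lit 1282))
)))) (.node (nat_lit 0xdfceb98d5) (.node (nat_lit 0xdfcbce7d5) (.node (nat_lit 0xdfc5798ef) (.leaf (nat_lit 0xdfc54e7fa) (nat_lit 1282))
 (.leaf (nat_lit 0xdfc5798ef) (nat_lit 1026))
) (.node (nat_lit 0xdfcbf98fa) (.leaf (nat_lit 0xdfcbce7d5) (nat_lit 1285))
 (.node (nat_lit 0xdfce8e7ef) (.leaf (nat_lit 0xdfcbf98fa) (nat_lit 1027))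
 (.leaf (nat_lit 0xdfce8e7ef) (nat_lit 1538))
))) (.node (nat_lit 0xe1d7bfceb) (.node (nat_lit 0xe1d787bb5) (.leaf (nat_lit 0xdfceb98d5) (nat_lit 1026))
 (.leaf (nat_lit 0xe1d787bb5) (nat_lit 1024))
) (.node (nat_lit 0xe1dac7b9e) (.leaf (nat_lit 0xe1d7bfceb) (nat_lit 1030))
 (.node (nat_lit 0xe1daffcf5) (.leaf (nat_lit 0xe1dac7b9e) (nat_lit 1025))
 (.leaf (nat_lit 0xe1daffcf5) (nat_lit 1285))
)))))) (.node (nat_lit 0xe33787775) (.node (nat_lit 0xe2bb877b3) (.node (nat_lit 0xe1ebbfadd) (.node (nat_lit 0xe1e747d6e) (.node (nat_lit 0xe1dd7fcde) (.leaf (nat_lit 0xe1dd47bab) (nat_lit 773))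
 (.leaf (nat_lit 0xe1dd7fcde) (nat_lit 1280))
) (.node (nat_lit 0xe1e77faf3) (.leaf (nat_lit 0xe1e747d6e) (nat_lit 769))
 (.node (nat_lit 0xe1eb87d73) (.leaf (nat_lit 0xe1e77faf3) (nat_lit 774))
 (.leaf (nat_lit 0xe1eb87d73) (nat_lit 773))
))) (.node (nat_lit 0xe1ecffaee) (.node (nat_lit 0xe1ecc7d5d) (.leaf (nat_lit 0xe1ebbfadd) (nat_lit 1024))
 (.leaf (nat_lit 0xe1ecc7d5d) (nat_lit 769))
) (.node (nat_lit 0xe2b7477ae) (.leaf (nat_lit 0xe1ecffaee) (nat_lit 1030))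
 (.node (nat_lit 0xe2b77fd73) (.leaf (nat_lit 0xe2b7477ae) (nat_lit 768))
 (.leaf (nat_lit 0xe2b77fd73) (nat_lit 1030))
)))) (.node (nat_lit 0xe2e7bf76b) (.node (nat_lit 0xe2bcc779d) (.node (nat_lit 0xe2bbbfd5d) (.leaf (nat_lit 0xe2bb877b3) (nat_lit 512))
 (.leaf (nat_lit 0xe2bbbfd5d) (nat_lit 1030))
) (.node (nat_lit 0xe2bcffd6e) (.leaf (nat_lit 0xe2bcc779d) (nat_lit 261))
 (.node (nat_lit 0xe2e787cf5) (.leaf (nat_lit 0xe2bcffd6e) (nat_lit 1286))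
 (.leaf (nat_lit 0xe2e787cf5) (nat_lit 773))
))) (.node (nat_lit 0xe2eaff775) (.node (nat_lit 0xe2eac7cde) (.leaf (nat_lit 0xe2e7bf76b) (nat_lit 1281))
 (.leaf (nat_lit 0xe2eac7cde) (nat_lit 769))
) (.node (nat_lit 0xe2ed47ceb) (.leaf (nat_lit 0xe2eaff775) (nat_lit 1286))
 (.node (nat_lit 0xe2ed7f75e) (.leaf (nat_lit 0xe2ed47ceb) (nat_lit 1025))
 (.leaf (nat_lit 0xe2ed7f75e) (nat_lit 1541))
))))) (.node (nat_lit 0xe35cc7add) (.node (nat_lit 0xe33d7fb9e) (.node (nat_lit 0xe33ac775e) (.node (nat_lit 0xe337bfbab) (.leaf (nat_lit 0xe33787775) (nat_lit 1024))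
 (.leaf (nat_lit 0xe337bfbab) (nat_lit 1285))
) (.node (nat_lit 0xe33affbb5) (.leaf (nat_lit 0xe33ac775e) (nat_lit 517))
 (.node (nat_lit 0xe33d4776b) (.leaf (nat_lit 0xe33affbb5) (nat_lit 1285))
 (.leaf (nat_lit 0xe33d4776b) (nat_lit 768))
))) (.node (nat_lit 0xe3577f7b3) (.node (nat_lit 0xe35747aee) (.leaf (nat_lit 0xe33d7fb9e) (nat_lit 1286))
 (.leaf (nat_lit 0xe35747aee) (nat_lit 517))
) (.node (nat_lit 0xe35b87af3) (.leaf (nat_lit 0xe3577f7b3) (nat_lit 1025))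
 (.node (nat_lit 0xe35bbf79d) (.leaf (nat_lit 0xe35b87af3) (nat_lit 769))
 (.leaf (nat_lit 0xe35bbf79d) (nat_lit 1286))
)))) (.node (nat_lit 0xe558f7ebc) (.node (nat_lit 0xe557cebfc) (.node (nat_lit 0xe35cff7ae) (.leaf (nat_lit 0xe35cc7add) (nat_lit 513))
 (.leaf (nat_lit 0xe35cff7ae) (nat_lit 1286))
) (.node (nat_lit 0xe557f7ea3) (.leaf (nat_lit 0xe557cebfc) (nat_lit 1280))
 (.node (nat_lit 0xe558cebdf) (.leaf (nat_lit 0xe557f7ea3) (nat_lit 1286))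
 (.leaf (nat_lit 0xe558cebdf) (nat_lit 1281))
))) (.node (nat_lit 0xe5f54ef2f) (.node (nat_lit 0xe55f0ebe3) (.leaf (nat_lit 0xe558f7ebc) (nat_lit 1283))
 (.node (nat_lit 0xe55f37e9f) (.leaf (nat_lit 0xe55f0ebe3) (nat_lit 1029))
 (.leaf (nat_lit 0xe55f37e9f) (nat_lit 1536))
)) (.node (nat_lit 0xe5f5778fa) (.leaf (nat_lit 0xe5f54ef2f) (nat_lit 1025))
 (.node (nat_lit 0xe5fbcef3a) (.leaf (nat_lit 0xe5f5778fa) (nat_lit 1030))
 (.leaf (nat_lit 0xe5fbcef3a) (nat_lit 1029))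
))))))) (.node (nat_lit 0xea33aff39) (.node (nat_lit 0xe7af37bdf) (.node (nat_lit 0xe6f7f7563) (.node (nat_lit 0xe63bce7fa) (.node (nat_lit 0xe5feb78ef) (.node (nat_lit 0xe5fe8ef15) (.leaf (nat_lit 0xe5fbf78d5) (nat_lit 1280))
 (.leaf (nat_lit 0xe5fe8ef15) (nat_lit 1025))
) (.node (nat_lit 0xe6354e7ef) (.leaf (nat_lit 0xe5feb78ef) (nat_lit 1286))
 (.node (nat_lit 0xe63577f3a) (.leaf (nat_lit 0xe6354e7ef) (nat_lit 1024))
 (.leaf (nat_lit 0xe63577f3a) (nat_lit 1286))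
))) (.node (nat_lit 0xe63e8e7d5) (.node (nat_lit 0xe63bf7f15) (.leaf (nat_lit 0xe63bce7fa) (nat_lit 768))
 (.leaf (nat_lit 0xe63bf7f15) (nat_lit 1286))
) (.node (nat_lit 0xe63eb7f2f) (.leaf (nat_lit 0xe63e8e7d5) (nat_lit 517))
 (.node (nat_lit 0xe6f7ceebc) (.leaf (nat_lit 0xe63eb7f2f) (nat_lit 1286))
 (.leaf (nat_lit 0xe6f7ceebc) (nat_lit 1029))
)))) (.node (nat_lit 0xe7a7ce57c) (.node (nat_lit 0xe6f8f757c) (.node (nat_lit 0xe6f8cee9f) (.leaf (nat_lit 0xe6f7f7563) (nat_lit 1282))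
 (.leaf (nat_lit 0xe6f8cee9f) (nat_lit 1025))
) (.node (nat_lit 0xe6ff0eea3) (.leaf (nat_lit 0xe6f8f757c) (nat_lit 1542))
 (.node (nat_lit 0xe6ff3755f) (.leaf (nat_lit 0xe6ff0eea3) (nat_lit 1281))
 (.leaf (nat_lit 0xe6ff3755f) (nat_lit 1282))
))) (.node (nat_lit 0xe7a8ce55f) (.node (nat_lit 0xe7a7f7be3) (.leaf (nat_lit 0xe7a7ce57c) (nat_lit 1280))
 (.leaf (nat_lit 0xe7a7f7be3) (nat_lit 1283))
) (.node (nat_lit 0xe7a8f7bfc) (.leaf (nat_lit 0xe7a8ce55f) (nat_lit 773))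
 (.node (nat_lit 0xe7af0e563) (.leaf (nat_lit 0xe7a8f7bfc) (nat_lit 1027))
 (.leaf (nat_lit 0xe7af0e563) (nat_lit 1024))
))))) (.node (nat_lit 0xe8e8efe7c) (.node (nat_lit 0xe7ce8e8d5) (.node (nat_lit 0xe7c5777fa) (.node (nat_lit 0xe7c54e8ef) (.leaf (nat_lit 0xe7af37bdf) (nat_lit 1283))
 (.leaf (nat_lit 0xe7c54e8ef) (nat_lit 773))
) (.node (nat_lit 0xe7cbce8fa) (.leaf (nat_lit 0xe7c5777fa) (nat_lit 1281))
 (.node (nat_lit 0xe7cbf77d5) (.leaf (nat_lit 0xe7cbce8fa) (nat_lit 1025))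
 (.leaf (nat_lit 0xe7cbf77d5) (nat_lit 1542))
))) (.node (nat_lit 0xe8e7d5dfc) (.node (nat_lit 0xe7ceb77ef) (.leaf (nat_lit 0xe7ce8e8d5) (nat_lit 769))
 (.leaf (nat_lit 0xe7ceb77ef) (nat_lit 1542))
) (.node (nat_lit 0xe8e7efe63) (.leaf (nat_lit 0xe8e7d5dfc) (nat_lit 1025))
 (.node (nat_lit 0xe8e8d5ddf) (.leaf (nat_lit 0xe8e7efe63) (nat_lit 1030))
 (.leaf (nat_lit 0xe8e8d5ddf) (nat_lit 1025))
)))) (.node (nat_lit 0xe9fdd5f39) (.node (nat_lit 0xe8ef2fe5f) (.node (nat_lit 0xe8ef15de3) (.leaf (nat_lit 0xe8e8efe7c) (nat_lit 1286))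
 (.leaf (nat_lit 0xe8ef15de3) (nat_lit 1029))
) (.node (nat_lit 0xe9f395f37) (.leaf (nat_lit 0xe8ef2fe5f) (nat_lit 1280))
 (.node (nat_lit 0xe9f3af8f9) (.leaf (nat_lit 0xe9f395f37) (nat_lit 1280))
 (.leaf (nat_lit 0xe9f3af8f9) (nat_lit 1286))
))) (.node (nat_lit 0xe9fe55f0e) (.node (nat_lit 0xe9fdef8ce) (.leaf (nat_lit 0xe9fdd5f39) (nat_lit 1029))
 (.leaf (nat_lit 0xe9fdef8ce) (nat_lit 1282))
) (.node (nat_lit 0xe9fe6f8f7) (.leaf (nat_lit 0xe9fe55f0e) (nat_lit 1281))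
 (.node (nat_lit 0xea33957f7) (.leaf (nat_lit 0xe9fe6f8f7) (nat_lit 1541))
 (.leaf (nat_lit 0xea33957f7) (nat_lit 1280))
)))))) (.node (nat_lit 0xebcdef7ce) (.node (nat_lit 0xeb7f2f39f) (.node (nat_lit 0xeb77d5e7c) (.node (nat_lit 0xea3deff0e) (.node (nat_lit 0xea3dd57f9) (.leaf (nat_lit 0xea33aff39) (nat_lit 1536))
 (.leaf (nat_lit 0xea3dd57f9) (nat_lit 1024))
) (.node (nat_lit 0xea3e557ce) (.leaf (nat_lit 0xea3deff0e) (nat_lit 1541))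
 (.node (nat_lit 0xea3e6ff37) (.leaf (nat_lit 0xea3e557ce) (nat_lit 773))
 (.leaf (nat_lit 0xea3e6ff37) (nat_lit 1285))
))) (.node (nat_lit 0xeb78d5e5f) (.node (nat_lit 0xeb77ef3a3) (.leaf (nat_lit 0xeb77d5e7c) (nat_lit 773))
 (.leaf (nat_lit 0xeb77ef3a3) (nat_lit 1281))
) (.node (nat_lit 0xeb78ef3bc) (.leaf (nat_lit 0xeb78d5e5f) (nat_lit 769))
 (.node (nat_lit 0xeb7f15e63) (.leaf (nat_lit 0xeb78ef3bc) (nat_lit 1286))
 (.leaf (nat_lit 0xeb7f15e63) (nat_lit 1025))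
)))) (.node (nat_lit 0xeb9f153a3) (.node (nat_lit 0xeb97efde3) (.node (nat_lit 0xeb97d53bc) (.leaf (nat_lit 0xeb7f2f39f) (nat_lit 1542))
 (.leaf (nat_lit 0xeb97d53bc) (nat_lit 1024))
) (.node (nat_lit 0xeb98d539f) (.leaf (nat_lit 0xeb97efde3) (nat_lit 1286))
 (.node (nat_lit 0xeb98efdfc) (.leaf (nat_lit 0xeb98d539f) (nat_lit 517))
 (.leaf (nat_lit 0xeb98efdfc) (nat_lit 1030))
))) (.node (nat_lit 0xebc3958f7) (.node (nat_lit 0xeb9f2fddf) (.leaf (nat_lit 0xeb9f153a3) (nat_lit 768))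
 (.leaf (nat_lit 0xeb9f2fddf) (nat_lit 1286))
) (.node (nat_lit 0xebc3af7f9) (.leaf (nat_lit 0xebc3958f7) (nat_lit 1029))
 (.node (nat_lit 0xebcdd58f9) (.leaf (nat_lit 0xebc3af7f9) (nat_lit 1539))
 (.leaf (nat_lit 0xebcdd58f9) (nat_lit 1281))
))))) (.node (nat_lit 0xed73e7ab1) (.node (nat_lit 0xecfa9cf97) (.node (nat_lit 0xebce6f7f7) (.node (nat_lit 0xebce558ce) (.leaf (nat_lit 0xebcdef7ce) (nat_lit 1282))
 (.leaf (nat_lit 0xebce558ce) (nat_lit 1025))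
) (.node (nat_lit 0xecf5dcfbd) (.leaf (nat_lit 0xebce6f7f7) (nat_lit 1285))
 (.node (nat_lit 0xecf5e7c6a) (.leaf (nat_lit 0xecf5dcfbd) (nat_lit 1026))
 (.leaf (nat_lit 0xecf5e7c6a) (nat_lit 1286))
))) (.node (nat_lit 0xecff5cfaa) (.node (nat_lit 0xecfaa7c7d) (.leaf (nat_lit 0xecfa9cf97) (nat_lit 1281))
 (.leaf (nat_lit 0xecfaa7c7d) (nat_lit 1286))
) (.node (nat_lit 0xecff67c57) (.leaf (nat_lit 0xecff5cfaa) (nat_lit 1285))
 (.node (nat_lit 0xed73dcf7e) (.leaf (nat_lit 0xecff67c57) (nat_lit 1286))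
 (.leaf (nat_lit 0xed73dcf7e) (nat_lit 1282))
)))) (.node (nat_lit 0xeea3dc5fe) (.node (nat_lit 0xed7c67abe) (.node (nat_lit 0xed7c5cf4f) (.leaf (nat_lit 0xed73e7ab1) (nat_lit 1542))
 (.leaf (nat_lit 0xed7c5cf4f) (nat_lit 1537))
) (.node (nat_lit 0xed7f9cf71) (.leaf (nat_lit 0xed7c67abe) (nat_lit 1539))
 (.node (nat_lit 0xed7fa7a8f) (.leaf (nat_lit 0xed7f9cf71) (nat_lit 1285))
 (.leaf (nat_lit 0xed7fa7a8f) (nat_lit 1538))
))) (.node (nat_lit 0xeeac67f7e) (.node (nat_lit 0xeea3e7f71) (.leaf (nat_lit 0xeea3dc5fe) (nat_lit 1536))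
 (.node (nat_lit 0xeeac5c5cf) (.leaf (nat_lit 0xeea3e7f71) (nat_lit 1282))
 (.leaf (nat_lit 0xeeac5c5cf) (nat_lit 1029))
)) (.node (nat_lit 0xeeaf9c5f1) (.leaf (nat_lit 0xeeac67f7e) (nat_lit 1283))
 (.node (nat_lit 0xeeafa7f4f) (.leaf (nat_lit 0xeeaf9c5f1) (nat_lit 1280))
 (.leaf (nat_lit 0xeeafa7f4f) (nat_lit 1281))
)))))))) (.node (nat_lit 0xf7bc6a70f) (.node (nat_lit 0xf37e9f3af) (.node (nat_lit 0xf0ebdfe55) (.node (nat_lit 0xefdf9cab1) (.node (nat_lit 0xef1f67f97) (.node (nat_lit 0xef1a9c3d7) (.node (nat_lit 0xef15e7faa) (.leaf (nat_lit 0xef15dc3fd) (nat_lit 1280))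
 (.leaf (nat_lit 0xef15e7faa) (nat_lit 1542))
) (.node (nat_lit 0xef1aa7fbd) (.leaf (nat_lit 0xef1a9c3d7) (nat_lit 773))
 (.node (nat_lit 0xef1f5c3ea) (.leaf (nat_lit 0xef1aa7fbd) (nat_lit 1286))
 (.leaf (nat_lit 0xef1f5c3ea) (nat_lit 1024))
))) (.node (nat_lit 0xefd3e75f1) (.node (nat_lit 0xefd3dcabe) (.leaf (nat_lit 0xef1f67f97) (nat_lit 1281))
 (.leaf (nat_lit 0xefd3dcabe) (nat_lit 1285))
) (.node (nat_lit 0xefdc5ca8f) (.leaf (nat_lit 0xefd3e75f1) (nat_lit 1538))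
 (.node (nat_lit 0xefdc675fe) (.leaf (nat_lit 0xefdc5ca8f) (nat_lit 1281))
 (.leaf (nat_lit 0xefdc675fe) (nat_lit 1280))
)))) (.node (nat_lit 0xefeaa73fd) (.node (nat_lit 0xefe5dcc7d) (.node (nat_lit 0xefdfa75cf) (.leaf (nat_lit 0xefdf9cab1) (nat_lit 1285))
 (.leaf (nat_lit 0xefdfa75cf) (nat_lit 1029))
) (.node (nat_lit 0xefe5e73ea) (.leaf (nat_lit 0xefe5dcc7d) (nat_lit 1029))
 (.node (nat_lit 0xefea9cc57) (.leaf (nat_lit 0xefe5e73ea) (nat_lit 1286))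
 (.leaf (nat_lit 0xefea9cc57) (nat_lit 1025))
))) (.node (nat_lit 0xefef673d7) (.node (nat_lit 0xefef5cc6a) (.leaf (nat_lit 0xefeaa73fd) (nat_lit 1280))
 (.leaf (nat_lit 0xefef5cc6a) (nat_lit 1029))
) (.node (nat_lit 0xf0e55fe7a) (.leaf (nat_lit 0xefef673d7) (nat_lit 1030))
 (.node (nat_lit 0xf0e563def) (.leaf (nat_lit 0xf0e55fe7a) (nat_lit 1283))
 (.leaf (nat_lit 0xf0e563def) (nat_lit 1281))
))))) (.node (nat_lit 0xf2f39f579) (.node (nat_lit 0xf153a3bf7) (.node (nat_lit 0xf0ee9fe6f) (.node (nat_lit 0xf0ebe3dfa) (.leaf (nat_lit 0xf0ebdfe55) (nat_lit 1285))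
 (.leaf (nat_lit 0xf0ebe3dfa) (nat_lit 1025))
) (.node (nat_lit 0xf0eea3dd5) (.leaf (nat_lit 0xf0ee9fe6f) (nat_lit 1281))
 (.node (nat_lit 0xf1539feb9) (.leaf (nat_lit 0xf0eea3dd5) (nat_lit 1029))
 (.leaf (nat_lit 0xf1539feb9) (nat_lit 1282))
))) (.node (nat_lit 0xf15de3bf9) (.node (nat_lit 0xf15ddfe8e) (.leaf (nat_lit 0xf153a3bf7) (nat_lit 1025))
 (.leaf (nat_lit 0xf15ddfe8e) (nat_lit 1285))
) (.node (nat_lit 0xf15e5feb7) (.leaf (nat_lit 0xf15de3bf9) (nat_lit 769))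
 (.node (nat_lit 0xf15e63bce) (.leaf (nat_lit 0xf15e5feb7) (nat_lit 1281))
 (.leaf (nat_lit 0xf15e63bce) (nat_lit 773))
)))) (.node (nat_lit 0xf2fe63e8e) (.node (nat_lit 0xf2fddf54e) (.node (nat_lit 0xf2f3a3eb7) (.leaf (nat_lit 0xf2f39f579) (nat_lit 1286))
 (.leaf (nat_lit 0xf2f3a3eb7) (nat_lit 768))
) (.node (nat_lit 0xf2fde3eb9) (.leaf (nat_lit 0xf2fddf54e) (nat_lit 1542))
 (.node (nat_lit 0xf2fe5f577) (.leaf (nat_lit 0xf2fde3eb9) (nat_lit 517))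
 (.leaf (nat_lit 0xf2fe5f577) (nat_lit 1286))
))) (.node (nat_lit 0xf37563e6f) (.node (nat_lit 0xf3755f3ba) (.leaf (nat_lit 0xf2fe63e8e) (nat_lit 1024))
 (.leaf (nat_lit 0xf3755f3ba) (nat_lit 1541))
) (.node (nat_lit 0xf37bdf395) (.leaf (nat_lit 0xf37563e6f) (nat_lit 1024))
 (.node (nat_lit 0xf37be3e7a) (.leaf (nat_lit 0xf37bdf395) (nat_lit 1285))
 (.leaf (nat_lit 0xf37be3e7a) (nat_lit 773))
)))))) (.node (nat_lit 0xf5c3d7ef1) (.node (nat_lit 0xf3addfbce) (.node (nat_lit 0xf39be33ba) (.node (nat_lit 0xf3955fdfa) (.node (nat_lit 0xf37ea3e55) (.leaf (nat_lit 0xf37e9f3af) (nat_lit 1536))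
 (.leaf (nat_lit 0xf37ea3e55) (nat_lit 1280))
) (.node (nat_lit 0xf395633af) (.leaf (nat_lit 0xf3955fdfa) (nat_lit 1283))
 (.node (nat_lit 0xf39bdfdd5) (.leaf (nat_lit 0xf395633af) (nat_lit 1029))
 (.leaf (nat_lit 0xf39bdfdd5) (nat_lit 1537))
))) (.node (nat_lit 0xf39ea3395) (.node (nat_lit 0xf39e9fdef) (.leaf (nat_lit 0xf39be33ba) (nat_lit 1281))
 (.leaf (nat_lit 0xf39e9fdef) (nat_lit 1029))
) (.node (nat_lit 0xf3a39fbf9) (.leaf (nat_lit 0xf39ea3395) (nat_lit 1284))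
 (.node (nat_lit 0xf3a3a3577) (.leaf (nat_lit 0xf3a39fbf9) (nat_lit 1280))
 (.leaf (nat_lit 0xf3a3a3577) (nat_lit 1029))
)))) (.node (nat_lit 0xf4f72afa7) (.node (nat_lit 0xf3ae5fbf7) (.node (nat_lit 0xf3ade3579) (.leaf (nat_lit 0xf3addfbce) (nat_lit 1286))
 (.leaf (nat_lit 0xf3ade3579) (nat_lit 1025))
) (.node (nat_lit 0xf3ae6354e) (.leaf (nat_lit 0xf3ae5fbf7) (nat_lit 1030))
 (.node (nat_lit 0xf4f717c7b) (.leaf (nat_lit 0xf3ae6354e) (nat_lit 1027))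
 (.leaf (nat_lit 0xf4f717c7b) (nat_lit 1026))
))) (.node (nat_lit 0xf4f9eafbb) (.node (nat_lit 0xf4f9d7c5c) (.leaf (nat_lit 0xf4f72afa7) (nat_lit 1285))
 (.leaf (nat_lit 0xf4f9d7c5c) (nat_lit 1285))
) (.node (nat_lit 0xf4fed7c67) (.leaf (nat_lit 0xf4f9eafbb) (nat_lit 1281))
 (.node (nat_lit 0xf4feeaf9c) (.leaf (nat_lit 0xf4fed7c67) (nat_lit 1537))
 (.leaf (nat_lit 0xf4feeaf9c) (nat_lit 1285))
))))) (.node (nat_lit 0xf67f9770f) (.node (nat_lit 0xf5cfaa9f1) (.node (nat_lit 0xf5cc57efe) (.node (nat_lit 0xf5c3ea9fe) (.leaf (nat_lit 0xf5c3d7ef1) (nat_lit 1282))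
 (.leaf (nat_lit 0xf5c3ea9fe) (nat_lit 1281))
) (.node (nat_lit 0xf5cc6a9cf) (.leaf (nat_lit 0xf5cc57efe) (nat_lit 1286))
 (.node (nat_lit 0xf5cf97ecf) (.leaf (nat_lit 0xf5cc6a9cf) (nat_lit 1029))
 (.leaf (nat_lit 0xf5cf97ecf) (nat_lit 1541))
))) (.node (nat_lit 0xf673eaefe) (.node (nat_lit 0xf673d7731) (.leaf (nat_lit 0xf5cfaa9f1) (nat_lit 1025))
 (.leaf (nat_lit 0xf673d7731) (nat_lit 1285))
) (.node (nat_lit 0xf67c5773e) (.leaf (nat_lit 0xf673eaefe) (nat_lit 1024))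
 (.node (nat_lit 0xf67c6aecf) (.leaf (nat_lit 0xf67c5773e) (nat_lit 1542))
 (.leaf (nat_lit 0xf67c6aecf) (nat_lit 1029))
)))) (.node (nat_lit 0xf719ea3fb) (.node (nat_lit 0xf71717fbb) (.node (nat_lit 0xf67faaef1) (.leaf (nat_lit 0xf67f9770f) (nat_lit 1284))
 (.leaf (nat_lit 0xf67faaef1) (nat_lit 773))
) (.node (nat_lit 0xf7172a3e7) (.leaf (nat_lit 0xf71717fbb) (nat_lit 1539))
 (.node (nat_lit 0xf719d7f9c) (.leaf (nat_lit 0xf7172a3e7) (nat_lit 1285))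
 (.leaf (nat_lit 0xf719d7f9c) (nat_lit 1283))
))) (.node (nat_lit 0xf7b3d79f1) (.node (nat_lit 0xf71ed7fa7) (.leaf (nat_lit 0xf719ea3fb) (nat_lit 1285))
 (.node (nat_lit 0xf71eea3dc) (.leaf (nat_lit 0xf71ed7fa7) (nat_lit 1285))
 (.leaf (nat_lit 0xf71eea3dc) (nat_lit 1282))
)) (.node (nat_lit 0xf7b3ea73e) (.leaf (nat_lit 0xf7b3d79f1) (nat_lit 1536))
 (.node (nat_lit 0xf7bc579fe) (.leaf (nat_lit 0xf7b3ea73e) (nat_lit 1024))
 (.leaf (nat_lit 0xf7bc579fe) (nat_lit 1286))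
))))))) (.node (nat_lit 0xfbd731aa7) (.node (nat_lit 0xf9cf719ea) (.node (nat_lit 0xf97731f67) (.node (nat_lit 0xf7e9d73dc) (.node (nat_lit 0xf7bfaa731) (.node (nat_lit 0xf7bf979cf) (.leaf (nat_lit 0xf7bc6a70f) (nat_lit 1026))
 (.leaf (nat_lit 0xf7bf979cf) (nat_lit 1286))
) (.node (nat_lit 0xf7e7173fb) (.leaf (nat_lit 0xf7bfaa731) (nat_lit 773))
 (.node (nat_lit 0xf7e72ac67) (.leaf (nat_lit 0xf7e7173fb) (nat_lit 1282))
 (.leaf (nat_lit 0xf7e72ac67) (nat_lit 1280))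
))) (.node (nat_lit 0xf7eed73e7) (.node (nat_lit 0xf7e9eac7b) (.leaf (nat_lit 0xf7e9d73dc) (nat_lit 1027))
 (.leaf (nat_lit 0xf7e9eac7b) (nat_lit 1029))
) (.node (nat_lit 0xf7eeeac5c) (.leaf (nat_lit 0xf7eed73e7) (nat_lit 1285))
 (.node (nat_lit 0xf9770fabb) (.leaf (nat_lit 0xf7eeeac5c) (nat_lit 1029))
 (.leaf (nat_lit 0xf9770fabb) (nat_lit 1282))
)))) (.node (nat_lit 0xf9c5cfeea) (.node (nat_lit 0xf979f1f7b) (.node (nat_lit 0xf979cfa9c) (.leaf (nat_lit 0xf97731f67) (nat_lit 1029))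
 (.leaf (nat_lit 0xf979cfa9c) (nat_lit 1285))
) (.node (nat_lit 0xf97ecfaa7) (.leaf (nat_lit 0xf979f1f7b) (nat_lit 1025))
 (.node (nat_lit 0xf97ef1f5c) (.leaf (nat_lit 0xf97ecfaa7) (nat_lit 1538))
 (.leaf (nat_lit 0xf97ef1f5c) (nat_lit 1029))
))) (.node (nat_lit 0xf9ca8fefd) (.node (nat_lit 0xf9c5f19fd) (.leaf (nat_lit 0xf9c5cfeea) (nat_lit 1026))
 (.leaf (nat_lit 0xf9c5f19fd) (nat_lit 1285))
) (.node (nat_lit 0xf9cab19d7) (.leaf (nat_lit 0xf9ca8fefd) (nat_lit 1537))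
 (.node (nat_lit 0xf9cf4fed7) (.leaf (nat_lit 0xf9cab19d7) (nat_lit 1285))
 (.leaf (nat_lit 0xf9cf4fed7) (nat_lit 1282))
))))) (.node (nat_lit 0xfaa9f15fb) (.node (nat_lit 0xfa7f4f717) (.node (nat_lit 0xfa75f1efd) (.node (nat_lit 0xfa75cf72a) (.leaf (nat_lit 0xf9cf719ea) (nat_lit 1281))
 (.leaf (nat_lit 0xfa75cf72a) (nat_lit 1285))
) (.node (nat_lit 0xfa7a8f73d) (.leaf (nat_lit 0xfa75f1efd) (nat_lit 1280))
 (.node (nat_lit 0xfa7ab1ed7) (.leaf (nat_lit 0xfa7a8f73d) (nat_lit 1282))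
 (.leaf (nat_lit 0xfa7ab1ed7) (nat_lit 1285))
))) (.node (nat_lit 0xfaa70ff7b) (.node (nat_lit 0xfa7f71eea) (.leaf (nat_lit 0xfa7f4f717) (nat_lit 1285))
 (.leaf (nat_lit 0xfa7f71eea) (nat_lit 1029))
) (.node (nat_lit 0xfaa7315e7) (.leaf (nat_lit 0xfaa70ff7b) (nat_lit 1286))
 (.node (nat_lit 0xfaa9cff5c) (.leaf (nat_lit 0xfaa7315e7) (nat_lit 1285))
 (.leaf (nat_lit 0xfaa9cff5c) (nat_lit 1538))
)))) (.node (nat_lit 0xfbba8f9fd) (.node (nat_lit 0xfaaef15dc) (.node (nat_lit 0xfaaecff67) (.leaf (nat_lit 0xfaa9f15fb) (nat_lit 1282))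
 (.leaf (nat_lit 0xfaaecff67) (nat_lit 1286))
) (.node (nat_lit 0xfbb5cf9ea) (.leaf (nat_lit 0xfaaef15dc) (nat_lit 1026))
 (.node (nat_lit 0xfbb5f173d) (.leaf (nat_lit 0xfbb5cf9ea) (nat_lit 1283))
 (.leaf (nat_lit 0xfbb5f173d) (nat_lit 1285))
))) (.node (nat_lit 0xfbbf4f9d7) (.node (nat_lit 0xfbbab1717) (.leaf (nat_lit 0xfbba8f9fd) (nat_lit 1285))
 (.leaf (nat_lit 0xfbbab1717) (nat_lit 1282))
) (.node (nat_lit 0xfbbf7172a) (.leaf (nat_lit 0xfbbf4f9d7) (nat_lit 1537))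
 (.node (nat_lit 0xfbd70f5fb) (.leaf (nat_lit 0xfbbf7172a) (nat_lit 1029))
 (.leaf (nat_lit 0xfbd70f5fb) (nat_lit 1538))
)))))) (.node (nat_lit 0xfebbb87b3) (.node (nat_lit 0xfddd78bab) (.node (nat_lit 0xfdd787ceb) (.node (nat_lit 0xfbd9f1abb) (.node (nat_lit 0xfbd9cf5dc) (.leaf (nat_lit 0xfbd731aa7) (nat_lit 1024))
 (.leaf (nat_lit 0xfbd9cf5dc) (nat_lit 1286))
) (.node (nat_lit 0xfbdecf5e7) (.leaf (nat_lit 0xfbd9f1abb) (nat_lit 773))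
 (.node (nat_lit 0xfbdef1a9c) (.leaf (nat_lit 0xfbdecf5e7) (nat_lit 1286))
 (.leaf (nat_lit 0xfbdef1a9c) (nat_lit 773))
))) (.node (nat_lit 0xfddac7cf5) (.node (nat_lit 0xfdd7b8bb5) (.leaf (nat_lit 0xfdd787ceb) (nat_lit 770))
 (.leaf (nat_lit 0xfdd7b8bb5) (nat_lit 1282))
) (.node (nat_lit 0xfddaf8b9e) (.leaf (nat_lit 0xfddac7cf5) (nat_lit 1282))
 (.node (nat_lit 0xfddd47cde) (.leaf (nat_lit 0xfddaf8b9e) (nat_lit 1282))
 (.leaf (nat_lit 0xfddd47cde) (nat_lit 1026))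
)))) (.node (nat_lit 0xfdecc7aee) (.node (nat_lit 0xfde778d6e) (.node (nat_lit 0xfde747af3) (.leaf (nat_lit 0xfddd78bab) (nat_lit 1026))
 (.leaf (nat_lit 0xfde747af3) (nat_lit 770))
) (.node (nat_lit 0xfdeb87add) (.leaf (nat_lit 0xfde778d6e) (nat_lit 1026))
 (.node (nat_lit 0xfdebb8d73) (.leaf (nat_lit 0xfdeb87add) (nat_lit 1026))
 (.leaf (nat_lit 0xfdebb8d73) (nat_lit 1026))
))) (.node (nat_lit 0xfeb747d73) (.node (nat_lit 0xfdecf8d5d) (.leaf (nat_lit 0xfdecc7aee) (nat_lit 1026))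
 (.leaf (nat_lit 0xfdecf8d5d) (nat_lit 1026))
) (.node (nat_lit 0xfeb7787ae) (.leaf (nat_lit 0xfeb747d73) (nat_lit 1026))
 (.node (nat_lit 0xfebb87d5d) (.leaf (nat_lit 0xfeb7787ae) (nat_lit 1026))
 (.leaf (nat_lit 0xfebb87d5d) (nat_lit 1026))
))))) (.node (nat_lit 0xff37b8775) (.node (nat_lit 0xfeeac7775) (.node (nat_lit 0xfebcf879d) (.node (nat_lit 0xfebcc7d6e) (.leaf (nat_lit 0xfebbb87b3) (nat_lit 770))
 (.leaf (nat_lit 0xfebcc7d6e) (nat_lit 1282))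
) (.node (nat_lit 0xfee78776b) (.leaf (nat_lit 0xfebcf879d) (nat_lit 514))
 (.node (nat_lit 0xfee7b8cf5) (.leaf (nat_lit 0xfee78776b) (nat_lit 1026))
 (.leaf (nat_lit 0xfee7b8cf5) (nat_lit 1026))
))) (.node (nat_lit 0xfeed4775e) (.node (nat_lit 0xfeeaf8cde) (.leaf (nat_lit 0xfeeac7775) (nat_lit 1026))
 (.leaf (nat_lit 0xfeeaf8cde) (nat_lit 1026))
) (.node (nat_lit 0xfeed78ceb) (.leaf (nat_lit 0xfeed4775e) (nat_lit 1283))
 (.node (nat_lit 0xff3787bab) (.leaf (nat_lit 0xfeed78ceb) (nat_lit 1285))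
 (.leaf (nat_lit 0xff3787bab) (nat_lit 1282))
)))) (.node (nat_lit 0xff57477b3) (.node (nat_lit 0xff3af875e) (.node (nat_lit 0xff3ac7bb5) (.leaf (nat_lit 0xff37b8775) (nat_lit 1282))
 (.leaf (nat_lit 0xff3ac7bb5) (nat_lit 1282))
) (.node (nat_lit 0xff3d47b9e) (.leaf (nat_lit 0xff3af875e) (nat_lit 770))
 (.node (nat_lit 0xff3d7876b) (.leaf (nat_lit 0xff3d47b9e) (nat_lit 1282))
 (.leaf (nat_lit 0xff3d7876b) (nat_lit 1026))
))) (.node (nat_lit 0xff5bb8af3) (.node (nat_lit 0xff5778aee) (.leaf (nat_lit 0xff57477b3) (nat_lit 1026))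
 (.node (nat_lit 0xff5b8779d) (.leaf (nat_lit 0xff5778aee) (nat_lit 770))
 (.leaf (nat_lit 0xff5b8779d) (nat_lit 1282))
)) (.node (nat_lit 0xff5cc77ae) (.leaf (nat_lit 0xff5bb8af3) (nat_lit 1029))
 (.node (nat_lit 0xff5cf8add) (.leaf (nat_lit 0xff5cc77ae) (nat_lit 1282))
 (.leaf (nat_lit 0xff5cf8add) (nat_lit 770))
)))))))))))

theorem N6_ok : genOK B6.A [(nat_lit 0x810244088), (nat_lit 0x812204401), (nat_lit 0x910220081), (nat_lit 0x408802044), (nat_lit 0x808404042), (nat_lit 0xe2bcc779d), (nat_lit 0x102060408)] N6_t (nat_lit 1296) = true := by decide +kernel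

noncomputable def A6_t : ST :=
(.node (nat_lit 0x810204081) (.node (nat_lit 0x112264408) (.node (nat_lit 0x110224081) (.leaf (nat_lit 0x102064489) (nat_lit 1025))
 (.leaf (nat_lit 0x110224081) (nat_lit 513))
) (.node (nat_lit 0x802044489) (.leaf (nat_lit 0x112264408) (nat_lit 769))
 (.leaf (nat_lit 0x802044489) (nat_lit 512))
)) (.node (nat_lit 0x902060489) (.node (nat_lit 0x812244408) (.leaf (nat_lit 0x810204081) (nat_lit 0))
 (.leaf (nat_lit 0x812244408) (nat_lit 256))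
) (.node (nat_lit 0x910220081) (.leaf (nat_lit 0x902060489) (nat_lit 769))
 (.node (nat_lit 0x912260408) (.leaf (nat_lit 0x910220081) (nat_lit 257))
 (.leaf (nat_lit 0x912260408) (nat_lit 513))
))))

theorem A6_ok : genOK B6.A [(nat_lit 0x812244408), (nat_lit 0x910220081)] A6_t (nat_lit 9) = true := by decide +kernel

noncomputable def S16_t : ST :=
(.node (nat_lit 0x810204081) (.node (nat_lit 0x112224401) (.node (nat_lit 0x110264088) (.leaf (nat_lit 0x102064489) (nat_lit 512))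
 (.leaf (nat_lit 0x110264088) (nat_lit 1025))
) (.node (nat_lit 0x802244488) (.leaf (nat_lit 0x112224401) (nat_lit 769))
 (.leaf (nat_lit 0x802244488) (nat_lit 257))
)) (.node (nat_lit 0x902220481) (.node (nat_lit 0x812044409) (.leaf (nat_lit 0x810204081) (nat_lit 0))
 (.leaf (nat_lit 0x812044409) (nat_lit 513))
) (.node (nat_lit 0x910060089) (.leaf (nat_lit 0x902220481) (nat_lit 769))
 (.node (nat_lit 0x912260408) (.leaf (nat_lit 0x910060089) (nat_lit 513))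
 (.leaf (nat_lit 0x912260408) (nat_lit 256))
))))

theorem S16_ok : genOK B6.A [(nat_lit 0x912260408), (nat_lit 0x802244488)] S16_t (nat_lit 9) = true := by decide +kernel

noncomputable def R6_t : ST :=
(.node (nat_lit 0x260088112) (.node (nat_lit 0x102064489) (.node (nat_lit 0x81112264) (.node (nat_lit 0x60489110) (.leaf (nat_lit 0x44089912) (nat_lit 1026))
 (.node (nat_lit 0x64409802) (.leaf (nat_lit 0x60489110) (nat_lit 1026))
 (.leaf (nat_lit 0x64409802) (nat_lit 770))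
)) (.node (nat_lit 0x88912060) (.leaf (nat_lit 0x81112264) (nat_lit 770))
 (.node (nat_lit 0x89812204) (.leaf (nat_lit 0x88912060) (nat_lit 769))
 (.leaf (nat_lit 0x89812204) (nat_lit 514))
))) (.node (nat_lit 0x204481910) (.node (nat_lit 0x110264088) (.leaf (nat_lit 0x102064489) (nat_lit 512))
 (.node (nat_lit 0x112224401) (.leaf (nat_lit 0x110264088) (nat_lit 1025))
 (.leaf (nat_lit 0x112224401) (nat_lit 769))
)) (.node (nat_lit 0x224081812) (.node (nat_lit 0x220401102) (.leaf (nat_lit 0x204481910) (nat_lit 769))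
 (.leaf (nat_lit 0x220401102) (nat_lit 514))
) (.node (nat_lit 0x244408902) (.leaf (nat_lit 0x224081812) (nat_lit 1026))
 (.leaf (nat_lit 0x244408902) (nat_lit 1025))
)))) (.node (nat_lit 0x489910220) (.node (nat_lit 0x408802044) (.node (nat_lit 0x264488810) (.leaf (nat_lit 0x260088112) (nat_lit 770))
 (.node (nat_lit 0x401902260) (.leaf (nat_lit 0x264488810) (nat_lit 770))
 (.leaf (nat_lit 0x401902260) (nat_lit 513))
)) (.node (nat_lit 0x481810244) (.node (nat_lit 0x409102224) (.leaf (nat_lit 0x408802044) (nat_lit 258))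
 (.leaf (nat_lit 0x409102224) (nat_lit 769))
) (.node (nat_lit 0x488110064) (.leaf (nat_lit 0x481810244) (nat_lit 770))
 (.leaf (nat_lit 0x488110064) (nat_lit 769))
))) (.node (nat_lit 0x812044409) (.node (nat_lit 0x802244488) (.leaf (nat_lit 0x489910220) (nat_lit 514))
 (.node (nat_lit 0x810204081) (.leaf (nat_lit 0x802244488) (nat_lit 257))
 (.leaf (nat_lit 0x810204081) (nat_lit 0))
)) (.node (nat_lit 0x910060089) (.node (nat_lit 0x902220481) (.leaf (nat_lit 0x812044409) (nat_lit 513))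
 (.leaf (nat_lit 0x902220481) (nat_lit 769))
) (.node (nat_lit 0x912260408) (.leaf (nat_lit 0x910060089) (nat_lit 513))
 (.leaf (nat_lit 0x912260408) (nat_lit 256))
)))))

theorem R6_ok : genOK B6.A [(nat_lit 0x912260408), (nat_lit 0x802244488), (nat_lit 0x408802044)] R6_t (nat_lit 27) = true := by decide +kernel

noncomputable def Q6_t : ST :=
(.node (nat_lit 0xe2bcc779d) (.node (nat_lit 0x8efddfeb9) (.node (nat_lit 0x810204081) (.leaf (nat_lit 0x808404042) (nat_lit 512))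
 (.leaf (nat_lit 0x810204081) (nat_lit 0))
) (.node (nat_lit 0x8f7bdfe7a) (.leaf (nat_lit 0x8efddfeb9) (nat_lit 512))
 (.leaf (nat_lit 0x8f7bdfe7a) (nat_lit 513))
)) (.node (nat_lit 0xecf5dcfbd) (.node (nat_lit 0xe33ac775e) (.leaf (nat_lit 0xe2bcc779d) (nat_lit 256))
 (.leaf (nat_lit 0xe33ac775e) (nat_lit 768))
) (.node (nat_lit 0xed73dcf7e) (.leaf (nat_lit 0xecf5dcfbd) (nat_lit 257))
 (.leaf (nat_lit 0xed73dcf7e) (nat_lit 769))
)))

theorem Q6_ok : genOK B6.A [(nat_lit 0xe2bcc779d), (nat_lit 0xecf5dcfbd)] Q6_t (nat_lit 8) = true := by decide +kernel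

noncomputable def JT6_t : ST :=
(.node (nat_lit 0x809084212) (.node (nat_lit 0x110224081) (.node (nat_lit 0x1080a4052) (.node (nat_lit 0x102064489) (.node (nat_lit 0x101424242) (.leaf (nat_lit 0x1010a4252) (nat_lit 1795))
 (.node (nat_lit 0x1014a4250) (.leaf (nat_lit 0x101424242) (nat_lit 1283))
 (.leaf (nat_lit 0x1014a4250) (nat_lit 1539))
)) (.node (nat_lit 0x102224481) (.leaf (nat_lit 0x102064489) (nat_lit 1538))
 (.node (nat_lit 0x102264488) (.leaf (nat_lit 0x102224481) (nat_lit 1026))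
 (.leaf (nat_lit 0x102264488) (nat_lit 1282))
))) (.node (nat_lit 0x1090a4212) (.node (nat_lit 0x108424042) (.leaf (nat_lit 0x1080a4052) (nat_lit 1283))
 (.node (nat_lit 0x1084a4050) (.leaf (nat_lit 0x108424042) (nat_lit 771))
 (.leaf (nat_lit 0x1084a4050) (nat_lit 1027))
)) (.node (nat_lit 0x1094a4210) (.node (nat_lit 0x109424202) (.leaf (nat_lit 0x1090a4212) (nat_lit 1539))
 (.leaf (nat_lit 0x109424202) (nat_lit 1027))
) (.node (nat_lit 0x110064089) (.leaf (nat_lit 0x1094a4210) (nat_lit 1283))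
 (.leaf (nat_lit 0x110064089) (nat_lit 1026))
)))) (.node (nat_lit 0x801484250) (.node (nat_lit 0x112224401) (.node (nat_lit 0x110264088) (.leaf (nat_lit 0x110224081) (nat_lit 514))
 (.node (nat_lit 0x112064409) (.leaf (nat_lit 0x110264088) (nat_lit 770))
 (.leaf (nat_lit 0x112064409) (nat_lit 1282))
)) (.node (nat_lit 0x801084252) (.node (nat_lit 0x112264408) (.leaf (nat_lit 0x112224401) (nat_lit 770))
 (.leaf (nat_lit 0x112264408) (nat_lit 1026))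
) (.node (nat_lit 0x801404242) (.leaf (nat_lit 0x801084252) (nat_lit 1283))
 (.leaf (nat_lit 0x801404242) (nat_lit 771))
))) (.node (nat_lit 0x802244488) (.node (nat_lit 0x802044489) (.leaf (nat_lit 0x801484250) (nat_lit 1027))
 (.node (nat_lit 0x802204481) (.leaf (nat_lit 0x802044489) (nat_lit 1025))
 (.leaf (nat_lit 0x802204481) (nat_lit 513))
)) (.node (nat_lit 0x808404042) (.node (nat_lit 0x808084052) (.leaf (nat_lit 0x802244488) (nat_lit 769))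
 (.leaf (nat_lit 0x808084052) (nat_lit 771))
) (.node (nat_lit 0x808484050) (.leaf (nat_lit 0x808404042) (nat_lit 259))
 (.leaf (nat_lit 0x808484050) (nat_lit 515))
))))) (.node (nat_lit 0x902220481) (.node (nat_lit 0x812044409) (.node (nat_lit 0x810044089) (.node (nat_lit 0x809404202) (.leaf (nat_lit 0x809084212) (nat_lit 1027))
 (.node (nat_lit 0x809484210) (.leaf (nat_lit 0x809404202) (nat_lit 515))
 (.leaf (nat_lit 0x809484210) (nat_lit 771))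
)) (.node (nat_lit 0x810204081) (.leaf (nat_lit 0x810044089) (nat_lit 512))
 (.node (nat_lit 0x810244088) (.leaf (nat_lit 0x810204081) (nat_lit 0))
 (.leaf (nat_lit 0x810244088) (nat_lit 256))
))) (.node (nat_lit 0x9010a0252) (.node (nat_lit 0x812204401) (.leaf (nat_lit 0x812044409) (nat_lit 769))
 (.node (nat_lit 0x812244408) (.leaf (nat_lit 0x812204401) (nat_lit 257))
 (.leaf (nat_lit 0x812244408) (nat_lit 513))
)) (.node (nat_lit 0x9014a0250) (.node (nat_lit 0x901420242) (.leaf (nat_lit 0x9010a0252) (nat_lit 1539))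
 (.leaf (nat_lit 0x901420242) (nat_lit 1027))
) (.node (nat_lit 0x902060489) (.leaf (nat_lit 0x9014a0250) (nat_lit 1283))
 (.leaf (nat_lit 0x902060489) (nat_lit 1282))
)))) (.node (nat_lit 0x9094a0210) (.node (nat_lit 0x908420042) (.node (nat_lit 0x902260488) (.leaf (nat_lit 0x902220481) (nat_lit 770))
 (.node (nat_lit 0x9080a0052) (.leaf (nat_lit 0x902260488) (nat_lit 1026))
 (.leaf (nat_lit 0x9080a0052) (nat_lit 1027))
)) (.node (nat_lit 0x9090a0212) (.node (nat_lit 0x9084a0050) (.leaf (nat_lit 0x908420042) (nat_lit 515))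
 (.leaf (nat_lit 0x9084a0050) (nat_lit 771))
) (.node (nat_lit 0x909420202) (.leaf (nat_lit 0x9090a0212) (nat_lit 1283))
 (.leaf (nat_lit 0x909420202) (nat_lit 771))
))) (.node (nat_lit 0x910260088) (.node (nat_lit 0x910060089) (.leaf (nat_lit 0x9094a0210) (nat_lit 1027))
 (.node (nat_lit 0x910220081) (.leaf (nat_lit 0x910060089) (nat_lit 770))
 (.leaf (nat_lit 0x910220081) (nat_lit 258))
)) (.node (nat_lit 0x912220401) (.node (nat_lit 0x912060409) (.leaf (nat_lit 0x910260088) (nat_lit 514))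
 (.leaf (nat_lit 0x912060409) (nat_lit 1026))
) (.node (nat_lit 0x912260408) (.leaf (nat_lit 0x912220401) (nat_lit 514))
 (.leaf (nat_lit 0x912260408) (nat_lit 770))
))))))

theorem JT6_ok : genOK B6.A [(nat_lit 0x810244088), (nat_lit 0x812204401), (nat_lit 0x910220081), (nat_lit 0x808404042)] JT6_t (nat_lit 54) = true := by decide +kernel

noncomputable def D6_t : ST :=
(.node (nat_lit 0x9010a0252) (.node (nat_lit 0x7ce57cdef) (.node (nat_lit 0x1eed7fceb) (.node (nat_lit 0x110224081) (.node (nat_lit 0x108424042) (.node (nat_lit 0x102064489) (.leaf (nat_lit 0x1010a4252) (nat_lit 1538))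
 (.leaf (nat_lit 0x102064489) (nat_lit 1025))
) (.node (nat_lit 0x1094a4210) (.leaf (nat_lit 0x108424042) (nat_lit 1026))
 (.leaf (nat_lit 0x1094a4210) (nat_lit 1282))
)) (.node (nat_lit 0x1dd7bfbb5) (.node (nat_lit 0x112264408) (.leaf (nat_lit 0x110224081) (nat_lit 513))
 (.leaf (nat_lit 0x112264408) (nat_lit 769))
) (.node (nat_lit 0x1de77fd6e) (.leaf (nat_lit 0x1dd7bfbb5) (nat_lit 1537))
 (.node (nat_lit 0x1ebcff79d) (.leaf (nat_lit 0x1de77fd6e) (nat_lit 1282))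
 (.leaf (nat_lit 0x1ebcff79d) (nat_lit 769))
)))) (.node (nat_lit 0x7173e7f7e) (.node (nat_lit 0x1f5bbfaf3) (.node (nat_lit 0x1f3aff75e) (.leaf (nat_lit 0x1eed7fceb) (nat_lit 1282))
 (.leaf (nat_lit 0x1f3aff75e) (nat_lit 1282))
) (.node (nat_lit 0x70f5e7fbd) (.leaf (nat_lit 0x1f5bbfaf3) (nat_lit 1025))
 (.leaf (nat_lit 0x70f5e7fbd) (nat_lit 770))
)) (.node (nat_lit 0x731aa73d7) (.node (nat_lit 0x72ac675cf) (.leaf (nat_lit 0x7173e7f7e) (nat_lit 1282))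
 (.leaf (nat_lit 0x72ac675cf) (nat_lit 1281))
) (.node (nat_lit 0x73dfa7ab1) (.leaf (nat_lit 0x731aa73d7) (nat_lit 1025))
 (.node (nat_lit 0x73ef67c6a) (.leaf (nat_lit 0x73dfa7ab1) (nat_lit 1538))
 (.leaf (nat_lit 0x73ef67c6a) (nat_lit 1281))
))))) (.node (nat_lit 0x809484210) (.node (nat_lit 0x7f9ebc395) (.node (nat_lit 0x7efdfceb9) (.node (nat_lit 0x7d53bcbf7) (.leaf (nat_lit 0x7ce57cdef) (nat_lit 1281))
 (.leaf (nat_lit 0x7d53bcbf7) (nat_lit 1026))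
) (.node (nat_lit 0x7f7bfce7a) (.leaf (nat_lit 0x7efdfceb9) (nat_lit 769))
 (.leaf (nat_lit 0x7f7bfce7a) (nat_lit 1026))
)) (.node (nat_lit 0x801084252) (.node (nat_lit 0x7fae7c54e) (.leaf (nat_lit 0x7f9ebc395) (nat_lit 1537))
 (.leaf (nat_lit 0x7fae7c54e) (nat_lit 1281))
) (.node (nat_lit 0x802044489) (.leaf (nat_lit 0x801084252) (nat_lit 1026))
 (.node (nat_lit 0x808404042) (.leaf (nat_lit 0x802044489) (nat_lit 512))
 (.leaf (nat_lit 0x808404042) (nat_lit 514))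
)))) (.node (nat_lit 0x8d539fbf7) (.node (nat_lit 0x812244408) (.node (nat_lit 0x810204081) (.leaf (nat_lit 0x809484210) (nat_lit 770))
 (.leaf (nat_lit 0x810204081) (nat_lit 0))
) (.node (nat_lit 0x8ce55fdef) (.leaf (nat_lit 0x812244408) (nat_lit 256))
 (.leaf (nat_lit 0x8ce55fdef) (nat_lit 770))
)) (.node (nat_lit 0x8f7bdfe7a) (.node (nat_lit 0x8efddfeb9) (.leaf (nat_lit 0x8d539fbf7) (nat_lit 1280))
 (.leaf (nat_lit 0x8efddfeb9) (nat_lit 1024))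
) (.node (nat_lit 0x8f9e9f395) (.leaf (nat_lit 0x8f7bdfe7a) (nat_lit 1280))
 (.node (nat_lit 0x8fae5f54e) (.leaf (nat_lit 0x8f9e9f395) (nat_lit 1024))
 (.leaf (nat_lit 0x8fae5f54e) (nat_lit 770))
)))))) (.node (nat_lit 0xecf5dcfbd) (.node (nat_lit 0x9f1abb3d7) (.node (nat_lit 0x910220081) (.node (nat_lit 0x908420042) (.node (nat_lit 0x902060489) (.leaf (nat_lit 0x9010a0252) (nat_lit 1282))
 (.leaf (nat_lit 0x902060489) (nat_lit 769))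
) (.node (nat_lit 0x9094a0210) (.leaf (nat_lit 0x908420042) (nat_lit 770))
 (.leaf (nat_lit 0x9094a0210) (nat_lit 1026))
)) (.node (nat_lit 0x9cf5fbfbd) (.node (nat_lit 0x912260408) (.leaf (nat_lit 0x910220081) (nat_lit 257))
 (.leaf (nat_lit 0x912260408) (nat_lit 513))
) (.node (nat_lit 0x9d73fbf7e) (.leaf (nat_lit 0x9cf5fbfbd) (nat_lit 770))
 (.node (nat_lit 0x9eac7b5cf) (.leaf (nat_lit 0x9d73fbf7e) (nat_lit 1282))
 (.leaf (nat_lit 0x9eac7b5cf) (nat_lit 1026))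
)))) (.node (nat_lit 0xe1e747d6e) (.node (nat_lit 0x9fef7bc6a) (.node (nat_lit 0x9fdfbbab1) (.leaf (nat_lit 0x9f1abb3d7) (nat_lit 769))
 (.leaf (nat_lit 0x9fdfbbab1) (nat_lit 1280))
) (.node (nat_lit 0xe1d787bb5) (.leaf (nat_lit 0x9fef7bc6a) (nat_lit 1026))
 (.leaf (nat_lit 0xe1d787bb5) (nat_lit 1026))
)) (.node (nat_lit 0xe2ed47ceb) (.node (nat_lit 0xe2bcc779d) (.leaf (nat_lit 0xe1e747d6e) (nat_lit 768))
 (.leaf (nat_lit 0xe2bcc779d) (nat_lit 258))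
) (.node (nat_lit 0xe33ac775e) (.leaf (nat_lit 0xe2ed47ceb) (nat_lit 1026))
 (.node (nat_lit 0xe35b87af3) (.leaf (nat_lit 0xe33ac775e) (nat_lit 770))
 (.leaf (nat_lit 0xe35b87af3) (nat_lit 512))
))))) (.node (nat_lit 0xf37be3e7a) (.node (nat_lit 0xefdf9cab1) (.node (nat_lit 0xeeac5c5cf) (.node (nat_lit 0xed73dcf7e) (.leaf (nat_lit 0xecf5dcfbd) (nat_lit 1024))
 (.leaf (nat_lit 0xed73dcf7e) (nat_lit 1282))
) (.node (nat_lit 0xef1a9c3d7) (.leaf (nat_lit 0xeeac5c5cf) (nat_lit 1026))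
 (.leaf (nat_lit 0xef1a9c3d7) (nat_lit 514))
)) (.node (nat_lit 0xf0e563def) (.node (nat_lit 0xefef5cc6a) (.leaf (nat_lit 0xefdf9cab1) (nat_lit 1282))
 (.leaf (nat_lit 0xefef5cc6a) (nat_lit 768))
) (.node (nat_lit 0xf153a3bf7) (.leaf (nat_lit 0xf0e563def) (nat_lit 1025))
 (.node (nat_lit 0xf2fde3eb9) (.leaf (nat_lit 0xf153a3bf7) (nat_lit 768))
 (.leaf (nat_lit 0xf2fde3eb9) (nat_lit 514))
)))) (.node (nat_lit 0xfde778d6e) (.node (nat_lit 0xf3ae6354e) (.node (nat_lit 0xf39ea3395) (.leaf (nat_lit 0xf37be3e7a) (nat_lit 1026))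
 (.leaf (nat_lit 0xf39ea3395) (nat_lit 1282))
) (.node (nat_lit 0xfdd7b8bb5) (.leaf (nat_lit 0xf3ae6354e) (nat_lit 1025))
 (.leaf (nat_lit 0xfdd7b8bb5) (nat_lit 1281))
)) (.node (nat_lit 0xfeed78ceb) (.node (nat_lit 0xfebcf879d) (.leaf (nat_lit 0xfde778d6e) (nat_lit 1024))
 (.leaf (nat_lit 0xfebcf879d) (nat_lit 513))
) (.node (nat_lit 0xff3af875e) (.leaf (nat_lit 0xfeed78ceb) (nat_lit 1282))
 (.node (nat_lit 0xff5bb8af3) (.leaf (nat_lit 0xff3af875e) (nat_lit 1026))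
 (.leaf (nat_lit 0xff5bb8af3) (nat_lit 770))
)))))))

theorem D6_ok : genOK B6.A [(nat_lit 0x812244408), (nat_lit 0x910220081), (nat_lit 0xe2bcc779d)] D6_t (nat_lit 72) = true := by decide +kernel

noncomputable def MW6_t : ST :=
(.node (nat_lit 0x2521010a0) (.node (nat_lit 0x102224481) (.node (nat_lit 0x81910204) (.node (nat_lit 0x528080a4) (.node (nat_lit 0x44488802) (.node (nat_lit 0x429094a0) (.node (nat_lit 0x42808424) (.node (nat_lit 0x421094a4) (.leaf (nat_lit 0x42108420) (nat_lit 773))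
 (.leaf (nat_lit 0x421094a4) (nat_lit 1797))
) (.node (nat_lit 0x42809484) (.leaf (nat_lit 0x42808424) (nat_lit 1029))
 (.node (nat_lit 0x42908404) (.leaf (nat_lit 0x42809484) (nat_lit 1539))
 (.leaf (nat_lit 0x42908404) (nat_lit 1024))
))) (.node (nat_lit 0x44089912) (.node (nat_lit 0x44088810) (.leaf (nat_lit 0x429094a0) (nat_lit 1795))
 (.leaf (nat_lit 0x44088810) (nat_lit 773))
) (.node (nat_lit 0x44408812) (.leaf (nat_lit 0x44089912) (nat_lit 1797))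
 (.node (nat_lit 0x44409902) (.leaf (nat_lit 0x44408812) (nat_lit 1029))
 (.leaf (nat_lit 0x44409902) (nat_lit 1539))
)))) (.node (nat_lit 0x50809084) (.node (nat_lit 0x501084a0) (.node (nat_lit 0x44489910) (.leaf (nat_lit 0x44488802) (nat_lit 1024))
 (.leaf (nat_lit 0x44489910) (nat_lit 1795))
) (.node (nat_lit 0x501090a4) (.leaf (nat_lit 0x501084a0) (nat_lit 1029))
 (.node (nat_lit 0x508084a4) (.leaf (nat_lit 0x501090a4) (nat_lit 1539))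
 (.leaf (nat_lit 0x508084a4) (nat_lit 1285))
))) (.node (nat_lit 0x509090a0) (.node (nat_lit 0x50908484) (.leaf (nat_lit 0x50809084) (nat_lit 1027))
 (.leaf (nat_lit 0x50908484) (nat_lit 1280))
) (.node (nat_lit 0x521080a0) (.leaf (nat_lit 0x509090a0) (nat_lit 1283))
 (.node (nat_lit 0x52109424) (.leaf (nat_lit 0x521080a0) (nat_lit 1025))
 (.leaf (nat_lit 0x52109424) (nat_lit 1795))
))))) (.node (nat_lit 0x64088110) (.node (nat_lit 0x60089112) (.node (nat_lit 0x52908084) (.node (nat_lit 0x52809404) (.leaf (nat_lit 0x528080a4) (nat_lit 1281))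
 (.leaf (nat_lit 0x52809404) (nat_lit 1283))
) (.node (nat_lit 0x52909420) (.leaf (nat_lit 0x52908084) (nat_lit 1281))
 (.node (nat_lit 0x60088910) (.leaf (nat_lit 0x52909420) (nat_lit 1539))
 (.leaf (nat_lit 0x60088910) (nat_lit 1029))
))) (.node (nat_lit 0x60409102) (.node (nat_lit 0x60408912) (.leaf (nat_lit 0x60089112) (nat_lit 1539))
 (.leaf (nat_lit 0x60408912) (nat_lit 1285))
) (.node (nat_lit 0x60488902) (.leaf (nat_lit 0x60409102) (nat_lit 1027))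
 (.node (nat_lit 0x60489110) (.leaf (nat_lit 0x60488902) (nat_lit 1280))
 (.leaf (nat_lit 0x60489110) (nat_lit 1283))
)))) (.node (nat_lit 0x64489810) (.node (nat_lit 0x64408112) (.node (nat_lit 0x64089812) (.leaf (nat_lit 0x64088110) (nat_lit 1025))
 (.leaf (nat_lit 0x64089812) (nat_lit 1795))
) (.node (nat_lit 0x64409802) (.leaf (nat_lit 0x64408112) (nat_lit 1281))
 (.node (nat_lit 0x64488102) (.leaf (nat_lit 0x64409802) (nat_lit 1283))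
 (.leaf (nat_lit 0x64488102) (nat_lit 1281))
))) (.node (nat_lit 0x81112264) (.node (nat_lit 0x81110220) (.leaf (nat_lit 0x64489810) (nat_lit 1539))
 (.leaf (nat_lit 0x81110220) (nat_lit 517))
) (.node (nat_lit 0x81810224) (.leaf (nat_lit 0x81112264) (nat_lit 1541))
 (.node (nat_lit 0x81812244) (.leaf (nat_lit 0x81810224) (nat_lit 773))
 (.leaf (nat_lit 0x81812244) (nat_lit 1283))
)))))) (.node (nat_lit 0xa0050908) (.node (nat_lit 0x88810264) (.node (nat_lit 0x84212901) (.node (nat_lit 0x84050808) (.node (nat_lit 0x81912260) (.leaf (nat_lit 0x81910204) (nat_lit 768))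
 (.leaf (nat_lit 0x81912260) (nat_lit 1539))
) (.node (nat_lit 0x84052909) (.leaf (nat_lit 0x84050808) (nat_lit 773))
 (.node (nat_lit 0x84210809) (.leaf (nat_lit 0x84052909) (nat_lit 1797))
 (.leaf (nat_lit 0x84210809) (nat_lit 1029))
))) (.node (nat_lit 0x84252908) (.node (nat_lit 0x84250801) (.leaf (nat_lit 0x84212901) (nat_lit 1540))
 (.leaf (nat_lit 0x84250801) (nat_lit 1024))
) (.node (nat_lit 0x88110260) (.leaf (nat_lit 0x84252908) (nat_lit 1796))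
 (.node (nat_lit 0x88112064) (.leaf (nat_lit 0x88110260) (nat_lit 773))
 (.leaf (nat_lit 0x88112064) (nat_lit 1283))
)))) (.node (nat_lit 0x89112224) (.node (nat_lit 0x88910244) (.node (nat_lit 0x88812044) (.leaf (nat_lit 0x88810264) (nat_lit 1029))
 (.leaf (nat_lit 0x88812044) (nat_lit 771))
) (.node (nat_lit 0x88912060) (.leaf (nat_lit 0x88910244) (nat_lit 1024))
 (.node (nat_lit 0x89110060) (.leaf (nat_lit 0x88912060) (nat_lit 1027))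
 (.leaf (nat_lit 0x89110060) (nat_lit 769))
))) (.node (nat_lit 0x89812204) (.node (nat_lit 0x89810064) (.leaf (nat_lit 0x89112224) (nat_lit 1539))
 (.leaf (nat_lit 0x89810064) (nat_lit 1025))
) (.node (nat_lit 0x89910044) (.leaf (nat_lit 0x89812204) (nat_lit 1027))
 (.node (nat_lit 0x89912220) (.leaf (nat_lit 0x89910044) (nat_lit 1025))
 (.leaf (nat_lit 0x89912220) (nat_lit 1283))
))))) (.node (nat_lit 0xa4250101) (.node (nat_lit 0xa0252108) (.node (nat_lit 0xa0210909) (.node (nat_lit 0xa0052109) (.leaf (nat_lit 0xa0050908) (nat_lit 1029))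
 (.leaf (nat_lit 0xa0052109) (nat_lit 1540))
) (.node (nat_lit 0xa0212101) (.leaf (nat_lit 0xa0210909) (nat_lit 1285))
 (.node (nat_lit 0xa0250901) (.leaf (nat_lit 0xa0212101) (nat_lit 1028))
 (.leaf (nat_lit 0xa0250901) (nat_lit 1280))
))) (.node (nat_lit 0xa4052809) (.node (nat_lit 0xa4050108) (.leaf (nat_lit 0xa0252108) (nat_lit 1284))
 (.leaf (nat_lit 0xa4050108) (nat_lit 1025))
) (.node (nat_lit 0xa4210109) (.leaf (nat_lit 0xa4052809) (nat_lit 1796))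
 (.node (nat_lit 0xa4212801) (.leaf (nat_lit 0xa4210109) (nat_lit 1281))
 (.leaf (nat_lit 0xa4212801) (nat_lit 1284))
)))) (.node (nat_lit 0x101424242) (.node (nat_lit 0x1010a0210) (.node (nat_lit 0xa4252808) (.leaf (nat_lit 0xa4250101) (nat_lit 1281))
 (.leaf (nat_lit 0xa4252808) (nat_lit 1540))
) (.node (nat_lit 0x1010a4252) (.leaf (nat_lit 0x1010a0210) (nat_lit 517))
 (.node (nat_lit 0x101420212) (.leaf (nat_lit 0x1010a4252) (nat_lit 1541))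
 (.leaf (nat_lit 0x101420212) (nat_lit 773))
))) (.node (nat_lit 0x102060408) (.node (nat_lit 0x1014a0202) (.leaf (nat_lit 0x101424242) (nat_lit 1284))
 (.node (nat_lit 0x1014a4250) (.leaf (nat_lit 0x1014a0202) (nat_lit 768))
 (.leaf (nat_lit 0x1014a4250) (nat_lit 1540))
)) (.node (nat_lit 0x102064489) (.leaf (nat_lit 0x102060408) (nat_lit 261))
 (.node (nat_lit 0x102220409) (.leaf (nat_lit 0x102064489) (nat_lit 1285))
 (.leaf (nat_lit 0x102220409) (nat_lit 517))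
))))))) (.node (nat_lit 0x2101094a0) (.node (nat_lit 0x110264088) (.node (nat_lit 0x1090a4212) (.node (nat_lit 0x108420252) (.node (nat_lit 0x102264488) (.node (nat_lit 0x102260401) (.leaf (nat_lit 0x102224481) (nat_lit 1026))
 (.leaf (nat_lit 0x102260401) (nat_lit 512))
) (.node (nat_lit 0x1080a0250) (.leaf (nat_lit 0x102264488) (nat_lit 1282))
 (.node (nat_lit 0x1080a4052) (.leaf (nat_lit 0x1080a0250) (nat_lit 773))
 (.leaf (nat_lit 0x1080a4052) (nat_lit 1284))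
))) (.node (nat_lit 0x1084a0242) (.node (nat_lit 0x108424042) (.leaf (nat_lit 0x108420252) (nat_lit 1029))
 (.leaf (nat_lit 0x108424042) (nat_lit 772))
) (.node (nat_lit 0x1084a4050) (.leaf (nat_lit 0x1084a0242) (nat_lit 1024))
 (.node (nat_lit 0x1090a0050) (.leaf (nat_lit 0x1084a4050) (nat_lit 1028))
 (.leaf (nat_lit 0x1090a0050) (nat_lit 769))
)))) (.node (nat_lit 0x110060488) (.node (nat_lit 0x109424202) (.node (nat_lit 0x109420052) (.leaf (nat_lit 0x1090a4212) (nat_lit 1540))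
 (.leaf (nat_lit 0x109420052) (nat_lit 1025))
) (.node (nat_lit 0x1094a0042) (.leaf (nat_lit 0x109424202) (nat_lit 1028))
 (.node (nat_lit 0x1094a4210) (.leaf (nat_lit 0x1094a0042) (nat_lit 1025))
 (.leaf (nat_lit 0x1094a4210) (nat_lit 1284))
))) (.node (nat_lit 0x110220489) (.node (nat_lit 0x110064089) (.leaf (nat_lit 0x110060488) (nat_lit 517))
 (.leaf (nat_lit 0x110064089) (nat_lit 1026))
) (.node (nat_lit 0x110224081) (.leaf (nat_lit 0x110220489) (nat_lit 773))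
 (.node (nat_lit 0x110260481) (.leaf (nat_lit 0x110224081) (nat_lit 514))
 (.leaf (nat_lit 0x110260481) (nat_lit 768))
))))) (.node (nat_lit 0x202809424) (.node (nat_lit 0x112260081) (.node (nat_lit 0x112064409) (.node (nat_lit 0x112060088) (.leaf (nat_lit 0x110264088) (nat_lit 770))
 (.leaf (nat_lit 0x112060088) (nat_lit 513))
) (.node (nat_lit 0x112220089) (.leaf (nat_lit 0x112064409) (nat_lit 1282))
 (.node (nat_lit 0x112224401) (.leaf (nat_lit 0x112220089) (nat_lit 769))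
 (.leaf (nat_lit 0x112224401) (nat_lit 770))
))) (.node (nat_lit 0x2021014a4) (.node (nat_lit 0x112264408) (.leaf (nat_lit 0x112260081) (nat_lit 769))
 (.leaf (nat_lit 0x112264408) (nat_lit 1026))
) (.node (nat_lit 0x202109420) (.leaf (nat_lit 0x2021014a4) (nat_lit 1539))
 (.node (nat_lit 0x202801484) (.leaf (nat_lit 0x202109420) (nat_lit 1029))
 (.leaf (nat_lit 0x202801484) (nat_lit 1027))
)))) (.node (nat_lit 0x204401902) (.node (nat_lit 0x202909404) (.node (nat_lit 0x2029014a0) (.leaf (nat_lit 0x202809424) (nat_lit 1285))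
 (.leaf (nat_lit 0x2029014a0) (nat_lit 1283))
) (.node (nat_lit 0x204081912) (.leaf (nat_lit 0x202909404) (nat_lit 1280))
 (.node (nat_lit 0x204089810) (.leaf (nat_lit 0x204081912) (nat_lit 1539))
 (.leaf (nat_lit 0x204089810) (nat_lit 1029))
))) (.node (nat_lit 0x204481910) (.node (nat_lit 0x204409812) (.leaf (nat_lit 0x204401902) (nat_lit 1027))
 (.leaf (nat_lit 0x204409812) (nat_lit 1285))
) (.node (nat_lit 0x204489802) (.leaf (nat_lit 0x204481910) (nat_lit 1283))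
 (.node (nat_lit 0x2101010a4) (.leaf (nat_lit 0x204489802) (nat_lit 1280))
 (.leaf (nat_lit 0x2101010a4) (nat_lit 1027))
)))))) (.node (nat_lit 0x224409112) (.node (nat_lit 0x212909084) (.node (nat_lit 0x212101424) (.node (nat_lit 0x2108094a4) (.node (nat_lit 0x210801084) (.leaf (nat_lit 0x2101094a0) (nat_lit 1285))
 (.leaf (nat_lit 0x210801084) (nat_lit 515))
) (.node (nat_lit 0x2109010a0) (.leaf (nat_lit 0x2108094a4) (nat_lit 1541))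
 (.node (nat_lit 0x210909484) (.leaf (nat_lit 0x2109010a0) (nat_lit 771))
 (.leaf (nat_lit 0x210909484) (nat_lit 1536))
))) (.node (nat_lit 0x212801404) (.node (nat_lit 0x2121090a0) (.leaf (nat_lit 0x212101424) (nat_lit 1283))
 (.leaf (nat_lit 0x2121090a0) (nat_lit 1281))
) (.node (nat_lit 0x2128090a4) (.leaf (nat_lit 0x212801404) (nat_lit 771))
 (.node (nat_lit 0x212901420) (.leaf (nat_lit 0x2128090a4) (nat_lit 1537))
 (.leaf (nat_lit 0x212901420) (nat_lit 1027))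
)))) (.node (nat_lit 0x220481110) (.node (nat_lit 0x220089910) (.node (nat_lit 0x220081112) (.leaf (nat_lit 0x212909084) (nat_lit 1537))
 (.leaf (nat_lit 0x220081112) (nat_lit 1027))
) (.node (nat_lit 0x220401102) (.leaf (nat_lit 0x220089910) (nat_lit 1285))
 (.node (nat_lit 0x220409912) (.leaf (nat_lit 0x220401102) (nat_lit 515))
 (.leaf (nat_lit 0x220409912) (nat_lit 1541))
))) (.node (nat_lit 0x224081812) (.node (nat_lit 0x220489902) (.leaf (nat_lit 0x220481110) (nat_lit 771))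
 (.leaf (nat_lit 0x220489902) (nat_lit 1536))
) (.node (nat_lit 0x224089110) (.leaf (nat_lit 0x224081812) (nat_lit 1283))
 (.node (nat_lit 0x224401802) (.leaf (nat_lit 0x224089110) (nat_lit 1281))
 (.leaf (nat_lit 0x224401802) (nat_lit 771))
))))) (.node (nat_lit 0x244088912) (.node (nat_lit 0x242801424) (.node (nat_lit 0x224489102) (.node (nat_lit 0x224481810) (.leaf (nat_lit 0x224409112) (nat_lit 1537))
 (.leaf (nat_lit 0x224481810) (nat_lit 1027))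
) (.node (nat_lit 0x242101420) (.leaf (nat_lit 0x224489102) (nat_lit 1537))
 (.node (nat_lit 0x2421084a4) (.leaf (nat_lit 0x242101420) (nat_lit 1026))
 (.leaf (nat_lit 0x2421084a4) (nat_lit 1795))
))) (.node (nat_lit 0x242901404) (.node (nat_lit 0x242808484) (.leaf (nat_lit 0x242801424) (nat_lit 1282))
 (.leaf (nat_lit 0x242808484) (nat_lit 1283))
) (.node (nat_lit 0x2429084a0) (.leaf (nat_lit 0x242901404) (nat_lit 1282))
 (.node (nat_lit 0x244081810) (.leaf (nat_lit 0x2429084a0) (nat_lit 1539))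
 (.leaf (nat_lit 0x244081810) (nat_lit 1026))
)))) (.node (nat_lit 0x2501014a0) (.node (nat_lit 0x244408902) (.node (nat_lit 0x244401812) (.leaf (nat_lit 0x244088912) (nat_lit 1795))
 (.leaf (nat_lit 0x244401812) (nat_lit 1282))
) (.node (nat_lit 0x244481802) (.leaf (nat_lit 0x244408902) (nat_lit 1283))
 (.node (nat_lit 0x244488910) (.leaf (nat_lit 0x244481802) (nat_lit 1282))
 (.leaf (nat_lit 0x244488910) (nat_lit 1539))
))) (.node (nat_lit 0x250808084) (.node (nat_lit 0x2501080a4) (.leaf (nat_lit 0x2501014a0) (nat_lit 1282))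
 (.node (nat_lit 0x2508014a4) (.leaf (nat_lit 0x2501080a4) (nat_lit 1283))
 (.leaf (nat_lit 0x2508014a4) (nat_lit 1538))
)) (.node (nat_lit 0x250901484) (.leaf (nat_lit 0x250808084) (nat_lit 771))
 (.node (nat_lit 0x2509080a0) (.leaf (nat_lit 0x250901484) (nat_lit 1538))
 (.leaf (nat_lit 0x2509080a0) (nat_lit 1027))
)))))))) (.node (nat_lit 0x4a0210101) (.node (nat_lit 0x409902220) (.node (nat_lit 0x401802244) (.node (nat_lit 0x260481902) (.node (nat_lit 0x252908420) (.node (nat_lit 0x2528010a4) (.node (nat_lit 0x252108424) (.leaf (nat_lit 0x2521010a0) (nat_lit 1282))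
 (.leaf (nat_lit 0x252108424) (nat_lit 1539))
) (.node (nat_lit 0x252808404) (.leaf (nat_lit 0x2528010a4) (nat_lit 1538))
 (.node (nat_lit 0x252901084) (.leaf (nat_lit 0x252808404) (nat_lit 1027))
 (.leaf (nat_lit 0x252901084) (nat_lit 1538))
))) (.node (nat_lit 0x260088112) (.node (nat_lit 0x260081910) (.leaf (nat_lit 0x252908420) (nat_lit 1283))
 (.leaf (nat_lit 0x260081910) (nat_lit 1282))
) (.node (nat_lit 0x260401912) (.leaf (nat_lit 0x260088112) (nat_lit 1283))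
 (.node (nat_lit 0x260408102) (.leaf (nat_lit 0x260401912) (nat_lit 1538))
 (.leaf (nat_lit 0x260408102) (nat_lit 771))
)))) (.node (nat_lit 0x264408802) (.node (nat_lit 0x264081110) (.node (nat_lit 0x260488110) (.leaf (nat_lit 0x260481902) (nat_lit 1538))
 (.leaf (nat_lit 0x260488110) (nat_lit 1027))
) (.node (nat_lit 0x264088812) (.leaf (nat_lit 0x264081110) (nat_lit 1282))
 (.node (nat_lit 0x264401112) (.leaf (nat_lit 0x264088812) (nat_lit 1539))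
 (.leaf (nat_lit 0x264401112) (nat_lit 1538))
))) (.node (nat_lit 0x264488810) (.node (nat_lit 0x264481102) (.leaf (nat_lit 0x264408802) (nat_lit 1027))
 (.leaf (nat_lit 0x264481102) (nat_lit 1538))
) (.node (nat_lit 0x401102264) (.leaf (nat_lit 0x264488810) (nat_lit 1283))
 (.node (nat_lit 0x401112220) (.leaf (nat_lit 0x401102264) (nat_lit 1283))
 (.leaf (nat_lit 0x401112220) (nat_lit 773))
))))) (.node (nat_lit 0x408102064) (.node (nat_lit 0x404052808) (.node (nat_lit 0x401902260) (.node (nat_lit 0x401812224) (.leaf (nat_lit 0x401802244) (nat_lit 771))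
 (.leaf (nat_lit 0x401812224) (nat_lit 1029))
) (.node (nat_lit 0x401912204) (.leaf (nat_lit 0x401902260) (nat_lit 1027))
 (.node (nat_lit 0x404042909) (.leaf (nat_lit 0x401912204) (nat_lit 1024))
 (.leaf (nat_lit 0x404042909) (nat_lit 1540))
))) (.node (nat_lit 0x404212809) (.node (nat_lit 0x404202901) (.leaf (nat_lit 0x404052808) (nat_lit 1029))
 (.leaf (nat_lit 0x404202901) (nat_lit 1028))
) (.node (nat_lit 0x404242908) (.leaf (nat_lit 0x404212809) (nat_lit 1285))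
 (.node (nat_lit 0x404252801) (.leaf (nat_lit 0x404242908) (nat_lit 1284))
 (.leaf (nat_lit 0x404252801) (nat_lit 1280))
)))) (.node (nat_lit 0x408912244) (.node (nat_lit 0x408802044) (.node (nat_lit 0x408112260) (.leaf (nat_lit 0x408102064) (nat_lit 771))
 (.leaf (nat_lit 0x408112260) (nat_lit 1029))
) (.node (nat_lit 0x408812264) (.leaf (nat_lit 0x408802044) (nat_lit 259))
 (.node (nat_lit 0x408902060) (.leaf (nat_lit 0x408812264) (nat_lit 1285))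
 (.leaf (nat_lit 0x408902060) (nat_lit 515))
))) (.node (nat_lit 0x409112060) (.node (nat_lit 0x409102224) (.leaf (nat_lit 0x408912244) (nat_lit 1280))
 (.leaf (nat_lit 0x409102224) (nat_lit 1027))
) (.node (nat_lit 0x409802204) (.leaf (nat_lit 0x409112060) (nat_lit 1025))
 (.node (nat_lit 0x409812064) (.leaf (nat_lit 0x409802204) (nat_lit 515))
 (.leaf (nat_lit 0x409812064) (nat_lit 1281))
)))))) (.node (nat_lit 0x484042808) (.node (nat_lit 0x424202801) (.node (nat_lit 0x420212909) (.node (nat_lit 0x420042109) (.node (nat_lit 0x409912044) (.leaf (nat_lit 0x409902220) (nat_lit 771))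
 (.leaf (nat_lit 0x409912044) (nat_lit 1281))
) (.node (nat_lit 0x420052908) (.leaf (nat_lit 0x420042109) (nat_lit 1028))
 (.node (nat_lit 0x420202101) (.leaf (nat_lit 0x420052908) (nat_lit 1285))
 (.leaf (nat_lit 0x420202101) (nat_lit 516))
))) (.node (nat_lit 0x420252901) (.node (nat_lit 0x420242108) (.leaf (nat_lit 0x420212909) (nat_lit 1541))
 (.leaf (nat_lit 0x420242108) (nat_lit 772))
) (.node (nat_lit 0x424042809) (.leaf (nat_lit 0x420252901) (nat_lit 1536))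
 (.node (nat_lit 0x424052108) (.leaf (nat_lit 0x424042809) (nat_lit 1284))
 (.leaf (nat_lit 0x424052108) (nat_lit 1281))
)))) (.node (nat_lit 0x481110264) (.node (nat_lit 0x424242808) (.node (nat_lit 0x424212109) (.leaf (nat_lit 0x424202801) (nat_lit 772))
 (.leaf (nat_lit 0x424212109) (nat_lit 1537))
) (.node (nat_lit 0x424252101) (.leaf (nat_lit 0x424242808) (nat_lit 1028))
 (.node (nat_lit 0x481102220) (.leaf (nat_lit 0x424252101) (nat_lit 1537))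
 (.leaf (nat_lit 0x481102220) (nat_lit 770))
))) (.node (nat_lit 0x481810244) (.node (nat_lit 0x481802224) (.leaf (nat_lit 0x481110264) (nat_lit 1539))
 (.leaf (nat_lit 0x481802224) (nat_lit 1026))
) (.node (nat_lit 0x481902204) (.leaf (nat_lit 0x481810244) (nat_lit 1027))
 (.node (nat_lit 0x481910260) (.leaf (nat_lit 0x481902204) (nat_lit 1026))
 (.leaf (nat_lit 0x481910260) (nat_lit 1283))
))))) (.node (nat_lit 0x488902244) (.node (nat_lit 0x484250908) (.node (nat_lit 0x484202809) (.node (nat_lit 0x484050909) (.leaf (nat_lit 0x484042808) (nat_lit 1026))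
 (.leaf (nat_lit 0x484050909) (nat_lit 1796))
) (.node (nat_lit 0x484210901) (.leaf (nat_lit 0x484202809) (nat_lit 1282))
 (.node (nat_lit 0x484242801) (.leaf (nat_lit 0x484210901) (nat_lit 1284))
 (.leaf (nat_lit 0x484242801) (nat_lit 1282))
))) (.node (nat_lit 0x488110064) (.node (nat_lit 0x488102260) (.leaf (nat_lit 0x484250908) (nat_lit 1540))
 (.leaf (nat_lit 0x488102260) (nat_lit 1026))
) (.node (nat_lit 0x488802264) (.leaf (nat_lit 0x488110064) (nat_lit 1027))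
 (.node (nat_lit 0x488810044) (.leaf (nat_lit 0x488802264) (nat_lit 1282))
 (.leaf (nat_lit 0x488810044) (nat_lit 515))
)))) (.node (nat_lit 0x489810204) (.node (nat_lit 0x489102060) (.node (nat_lit 0x488910060) (.leaf (nat_lit 0x488902244) (nat_lit 1282))
 (.leaf (nat_lit 0x488910060) (nat_lit 771))
) (.node (nat_lit 0x489110224) (.leaf (nat_lit 0x489102060) (nat_lit 1026))
 (.node (nat_lit 0x489802064) (.leaf (nat_lit 0x489110224) (nat_lit 1283))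
 (.leaf (nat_lit 0x489802064) (nat_lit 1282))
))) (.node (nat_lit 0x4a0042908) (.node (nat_lit 0x489902044) (.leaf (nat_lit 0x489810204) (nat_lit 771))
 (.node (nat_lit 0x489910220) (.leaf (nat_lit 0x489902044) (nat_lit 1282))
 (.leaf (nat_lit 0x489910220) (nat_lit 1027))
)) (.node (nat_lit 0x4a0050109) (.leaf (nat_lit 0x4a0042908) (nat_lit 1282))
 (.node (nat_lit 0x4a0202909) (.leaf (nat_lit 0x4a0050109) (nat_lit 1284))
 (.leaf (nat_lit 0x4a0202909) (nat_lit 1538))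
))))))) (.node (nat_lit 0x812064088) (.node (nat_lit 0x802264401) (.node (nat_lit 0x8010a4210) (.node (nat_lit 0x4a4202109) (.node (nat_lit 0x4a0250108) (.node (nat_lit 0x4a0242901) (.leaf (nat_lit 0x4a0210101) (nat_lit 772))
 (.leaf (nat_lit 0x4a0242901) (nat_lit 1538))
) (.node (nat_lit 0x4a4042108) (.leaf (nat_lit 0x4a0250108) (nat_lit 1028))
 (.node (nat_lit 0x4a4050809) (.leaf (nat_lit 0x4a4042108) (nat_lit 1282))
 (.leaf (nat_lit 0x4a4050809) (nat_lit 1540))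
))) (.node (nat_lit 0x4a4242101) (.node (nat_lit 0x4a4210801) (.leaf (nat_lit 0x4a4202109) (nat_lit 1538))
 (.leaf (nat_lit 0x4a4210801) (nat_lit 1028))
) (.node (nat_lit 0x4a4250808) (.leaf (nat_lit 0x4a4242101) (nat_lit 1538))
 (.node (nat_lit 0x801084252) (.leaf (nat_lit 0x4a4250808) (nat_lit 1284))
 (.leaf (nat_lit 0x801084252) (nat_lit 1284))
)))) (.node (nat_lit 0x802044489) (.node (nat_lit 0x801424212) (.node (nat_lit 0x801404242) (.leaf (nat_lit 0x8010a4210) (nat_lit 773))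
 (.leaf (nat_lit 0x801404242) (nat_lit 772))
) (.node (nat_lit 0x801484250) (.leaf (nat_lit 0x801424212) (nat_lit 1029))
 (.node (nat_lit 0x8014a4202) (.leaf (nat_lit 0x801484250) (nat_lit 1028))
 (.leaf (nat_lit 0x8014a4202) (nat_lit 1024))
))) (.node (nat_lit 0x802204481) (.node (nat_lit 0x802064408) (.leaf (nat_lit 0x802044489) (nat_lit 1025))
 (.leaf (nat_lit 0x802064408) (nat_lit 517))
) (.node (nat_lit 0x802224409) (.leaf (nat_lit 0x802204481) (nat_lit 513))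
 (.node (nat_lit 0x802244488) (.leaf (nat_lit 0x802224409) (nat_lit 773))
 (.leaf (nat_lit 0x802244488) (nat_lit 769))
))))) (.node (nat_lit 0x809424052) (.node (nat_lit 0x808484050) (.node (nat_lit 0x8080a4250) (.node (nat_lit 0x808084052) (.leaf (nat_lit 0x802264401) (nat_lit 768))
 (.leaf (nat_lit 0x808084052) (nat_lit 772))
) (.node (nat_lit 0x808404042) (.leaf (nat_lit 0x8080a4250) (nat_lit 1029))
 (.node (nat_lit 0x808424252) (.leaf (nat_lit 0x808404042) (nat_lit 260))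
 (.leaf (nat_lit 0x808424252) (nat_lit 1285))
))) (.node (nat_lit 0x809084212) (.node (nat_lit 0x8084a4242) (.leaf (nat_lit 0x808484050) (nat_lit 516))
 (.leaf (nat_lit 0x8084a4242) (nat_lit 1280))
) (.node (nat_lit 0x8090a4050) (.leaf (nat_lit 0x809084212) (nat_lit 1028))
 (.node (nat_lit 0x809404202) (.leaf (nat_lit 0x8090a4050) (nat_lit 1025))
 (.leaf (nat_lit 0x809404202) (nat_lit 516))
)))) (.node (nat_lit 0x810204081) (.node (nat_lit 0x8094a4042) (.node (nat_lit 0x809484210) (.leaf (nat_lit 0x809424052) (nat_lit 1281))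
 (.leaf (nat_lit 0x809484210) (nat_lit 772))
) (.node (nat_lit 0x810044089) (.leaf (nat_lit 0x8094a4042) (nat_lit 1281))
 (.node (nat_lit 0x810064488) (.leaf (nat_lit 0x810044089) (nat_lit 512))
 (.leaf (nat_lit 0x810064488) (nat_lit 773))
))) (.node (nat_lit 0x810244088) (.node (nat_lit 0x810224489) (.leaf (nat_lit 0x810204081) (nat_lit 0))
 (.leaf (nat_lit 0x810224489) (nat_lit 1029))
) (.node (nat_lit 0x810264481) (.leaf (nat_lit 0x810244088) (nat_lit 256))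
 (.node (nat_lit 0x812044409) (.leaf (nat_lit 0x810264481) (nat_lit 1024))
 (.leaf (nat_lit 0x812044409) (nat_lit 769))
)))))) (.node (nat_lit 0x908420042) (.node (nat_lit 0x9014a0250) (.node (nat_lit 0x901084210) (.node (nat_lit 0x812224089) (.node (nat_lit 0x812204401) (.leaf (nat_lit 0x812064088) (nat_lit 769))
 (.leaf (nat_lit 0x812204401) (nat_lit 257))
) (.node (nat_lit 0x812244408) (.leaf (nat_lit 0x812224089) (nat_lit 1025))
 (.node (nat_lit 0x812264081) (.leaf (nat_lit 0x812244408) (nat_lit 513))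
 (.leaf (nat_lit 0x812264081) (nat_lit 1025))
))) (.node (nat_lit 0x901404212) (.node (nat_lit 0x9010a0252) (.leaf (nat_lit 0x901084210) (nat_lit 770))
 (.leaf (nat_lit 0x9010a0252) (nat_lit 1540))
) (.node (nat_lit 0x901420242) (.leaf (nat_lit 0x901404212) (nat_lit 1026))
 (.node (nat_lit 0x901484202) (.leaf (nat_lit 0x901420242) (nat_lit 1028))
 (.leaf (nat_lit 0x901484202) (nat_lit 1026))
)))) (.node (nat_lit 0x902244401) (.node (nat_lit 0x902060489) (.node (nat_lit 0x902044408) (.leaf (nat_lit 0x9014a0250) (nat_lit 1284))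
 (.leaf (nat_lit 0x902044408) (nat_lit 514))
) (.node (nat_lit 0x902204409) (.leaf (nat_lit 0x902060489) (nat_lit 1282))
 (.node (nat_lit 0x902220481) (.leaf (nat_lit 0x902204409) (nat_lit 770))
 (.leaf (nat_lit 0x902220481) (nat_lit 770))
))) (.node (nat_lit 0x908084250) (.node (nat_lit 0x902260488) (.leaf (nat_lit 0x902244401) (nat_lit 770))
 (.leaf (nat_lit 0x902260488) (nat_lit 1026))
) (.node (nat_lit 0x9080a0052) (.leaf (nat_lit 0x908084250) (nat_lit 1026))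
 (.node (nat_lit 0x908404252) (.leaf (nat_lit 0x9080a0052) (nat_lit 1028))
 (.leaf (nat_lit 0x908404252) (nat_lit 1282))
))))) (.node (nat_lit 0x910060089) (.node (nat_lit 0x909404052) (.node (nat_lit 0x9084a0050) (.node (nat_lit 0x908484242) (.leaf (nat_lit 0x908420042) (nat_lit 516))
 (.leaf (nat_lit 0x908484242) (nat_lit 1282))
) (.node (nat_lit 0x909084050) (.leaf (nat_lit 0x9084a0050) (nat_lit 772))
 (.node (nat_lit 0x9090a0212) (.leaf (nat_lit 0x909084050) (nat_lit 1026))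
 (.leaf (nat_lit 0x9090a0212) (nat_lit 1284))
))) (.node (nat_lit 0x909484042) (.node (nat_lit 0x909420202) (.leaf (nat_lit 0x909404052) (nat_lit 1282))
 (.leaf (nat_lit 0x909420202) (nat_lit 772))
) (.node (nat_lit 0x9094a0210) (.leaf (nat_lit 0x909484042) (nat_lit 1282))
 (.node (nat_lit 0x910044488) (.leaf (nat_lit 0x9094a0210) (nat_lit 1028))
 (.leaf (nat_lit 0x910044488) (nat_lit 770))
)))) (.node (nat_lit 0x912044088) (.node (nat_lit 0x910220081) (.node (nat_lit 0x910204489) (.leaf (nat_lit 0x910060089) (nat_lit 770))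
 (.leaf (nat_lit 0x910204489) (nat_lit 1026))
) (.node (nat_lit 0x910244481) (.leaf (nat_lit 0x910220081) (nat_lit 258))
 (.node (nat_lit 0x910260088) (.leaf (nat_lit 0x910244481) (nat_lit 1026))
 (.leaf (nat_lit 0x910260088) (nat_lit 514))
))) (.node (nat_lit 0x912220401) (.node (nat_lit 0x912060409) (.leaf (nat_lit 0x912044088) (nat_lit 770))
 (.node (nat_lit 0x912204089) (.leaf (nat_lit 0x912060409) (nat_lit 1026))
 (.leaf (nat_lit 0x912204089) (nat_lit 1026))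
)) (.node (nat_lit 0x912244081) (.leaf (nat_lit 0x912220401) (nat_lit 514))
 (.node (nat_lit 0x912260408) (.leaf (nat_lit 0x912244081) (nat_lit 1026))
 (.leaf (nat_lit 0x912260408) (nat_lit 770))
)))))))))

theorem MW6_ok : genOK B6.A [(nat_lit 0x810244088), (nat_lit 0x812204401), (nat_lit 0x910220081), (nat_lit 0x408802044), (nat_lit 0x808404042), (nat_lit 0x102060408)] MW6_t (nat_lit 324) = true := by decide +kernel

noncomputable def L6_t : ST :=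
(.node (nat_lit 0x9010a0210) (.node (nat_lit 0x7c94a4def) (.node (nat_lit 0x1eed64042) (.node (nat_lit 0x1173e7081) (.node (nat_lit 0x10e57c408) (.node (nat_lit 0x108424252) (.node (nat_lit 0x102064408) (.node (nat_lit 0x1010a7395) (.node (nat_lit 0x1010a4252) (.leaf (nat_lit 0x1010a4210) (nat_lit 1028))
 (.leaf (nat_lit 0x1010a4252) (nat_lit 1283))
) (.node (nat_lit 0x1010a73d7) (.leaf (nat_lit 0x1010a7395) (nat_lit 2052))
 (.leaf (nat_lit 0x1010a73d7) (nat_lit 1537))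
)) (.node (nat_lit 0x10206754e) (.node (nat_lit 0x102064489) (.leaf (nat_lit 0x102064408) (nat_lit 772))
 (.leaf (nat_lit 0x102064489) (nat_lit 1027))
) (.node (nat_lit 0x1020675cf) (.leaf (nat_lit 0x10206754e) (nat_lit 1796))
 (.node (nat_lit 0x108424042) (.leaf (nat_lit 0x1020675cf) (nat_lit 1281))
 (.leaf (nat_lit 0x108424042) (nat_lit 770))
)))) (.node (nat_lit 0x1094a4210) (.node (nat_lit 0x10843c75e) (.node (nat_lit 0x10843c54e) (.leaf (nat_lit 0x108424252) (nat_lit 1284))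
 (.leaf (nat_lit 0x10843c54e) (nat_lit 1793))
) (.node (nat_lit 0x1094a4042) (.leaf (nat_lit 0x10843c75e) (nat_lit 1793))
 (.leaf (nat_lit 0x1094a4042) (nat_lit 1283))
)) (.node (nat_lit 0x1094bf79d) (.node (nat_lit 0x1094bf5cf) (.leaf (nat_lit 0x1094a4210) (nat_lit 1027))
 (.leaf (nat_lit 0x1094bf5cf) (nat_lit 2051))
) (.node (nat_lit 0x10e567042) (.leaf (nat_lit 0x1094bf79d) (nat_lit 1793))
 (.node (nat_lit 0x10e5673d7) (.leaf (nat_lit 0x10e567042) (nat_lit 1795))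
 (.leaf (nat_lit 0x10e5673d7) (nat_lit 2051))
))))) (.node (nat_lit 0x11023c79d) (.node (nat_lit 0x10f5ff489) (.node (nat_lit 0x10f5e7042) (.node (nat_lit 0x10e57c79d) (.leaf (nat_lit 0x10e57c408) (nat_lit 1796))
 (.leaf (nat_lit 0x10e57c79d) (nat_lit 1794))
) (.node (nat_lit 0x10f5e7395) (.leaf (nat_lit 0x10f5e7042) (nat_lit 1796))
 (.leaf (nat_lit 0x10f5e7395) (nat_lit 1794))
)) (.node (nat_lit 0x110224081) (.node (nat_lit 0x10f5ff75e) (.leaf (nat_lit 0x10f5ff489) (nat_lit 1795))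
 (.leaf (nat_lit 0x10f5ff75e) (nat_lit 1540))
) (.node (nat_lit 0x110224489) (.leaf (nat_lit 0x110224081) (nat_lit 514))
 (.node (nat_lit 0x11023c395) (.leaf (nat_lit 0x110224489) (nat_lit 1028))
 (.leaf (nat_lit 0x11023c395) (nat_lit 1537))
)))) (.node (nat_lit 0x11227f75e) (.node (nat_lit 0x112264408) (.node (nat_lit 0x112264081) (.leaf (nat_lit 0x11023c79d) (nat_lit 1537))
 (.leaf (nat_lit 0x112264081) (nat_lit 1027))
) (.node (nat_lit 0x11227f3d7) (.leaf (nat_lit 0x112264408) (nat_lit 771))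
 (.leaf (nat_lit 0x11227f3d7) (nat_lit 1795))
)) (.node (nat_lit 0x1153a75cf) (.node (nat_lit 0x1153a7081) (.leaf (nat_lit 0x11227f75e) (nat_lit 1537))
 (.leaf (nat_lit 0x1153a7081) (nat_lit 1539))
) (.node (nat_lit 0x1153bc210) (.leaf (nat_lit 0x1153a75cf) (nat_lit 1795))
 (.node (nat_lit 0x1153bc75e) (.leaf (nat_lit 0x1153bc210) (nat_lit 2052))
 (.leaf (nat_lit 0x1153bc75e) (nat_lit 1793))
)))))) (.node (nat_lit 0x1c2067c6a) (.node (nat_lit 0x11e77c408) (.node (nat_lit 0x11d7bc210) (.node (nat_lit 0x1173ff252) (.node (nat_lit 0x1173e754e) (.leaf (nat_lit 0x1173e7081) (nat_lit 1540))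
 (.leaf (nat_lit 0x1173e754e) (nat_lit 1538))
) (.node (nat_lit 0x1173ff79d) (.leaf (nat_lit 0x1173ff252) (nat_lit 1794))
 (.leaf (nat_lit 0x1173ff79d) (nat_lit 1796))
)) (.node (nat_lit 0x11d7bf3d7) (.node (nat_lit 0x11d7bc54e) (.leaf (nat_lit 0x11d7bc210) (nat_lit 2049))
 (.leaf (nat_lit 0x11d7bc54e) (nat_lit 2050))
) (.node (nat_lit 0x11d7bf489) (.leaf (nat_lit 0x11d7bf3d7) (nat_lit 1282))
 (.node (nat_lit 0x11e77c395) (.leaf (nat_lit 0x11d7bf489) (nat_lit 1796))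
 (.leaf (nat_lit 0x11e77c395) (nat_lit 1794))
)))) (.node (nat_lit 0x1c10a4bf7) (.node (nat_lit 0x11e77f5cf) (.node (nat_lit 0x11e77f252) (.leaf (nat_lit 0x11e77c408) (nat_lit 1793))
 (.leaf (nat_lit 0x11e77f252) (nat_lit 2052))
) (.node (nat_lit 0x1c10a4bb5) (.leaf (nat_lit 0x11e77f5cf) (nat_lit 1538))
 (.leaf (nat_lit 0x1c10a4bb5) (nat_lit 2052))
)) (.node (nat_lit 0x1c10a7af3) (.node (nat_lit 0x1c10a7ab1) (.leaf (nat_lit 0x1c10a4bf7) (nat_lit 1794))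
 (.leaf (nat_lit 0x1c10a7ab1) (nat_lit 2052))
) (.node (nat_lit 0x1c2064d6e) (.leaf (nat_lit 0x1c10a7af3) (nat_lit 1793))
 (.node (nat_lit 0x1c2064def) (.leaf (nat_lit 0x1c2064d6e) (nat_lit 1796))
 (.leaf (nat_lit 0x1c2064def) (nat_lit 1538))
))))) (.node (nat_lit 0x1de77fd6e) (.node (nat_lit 0x1dd7bfbb5) (.node (nat_lit 0x1dd7bcab1) (.node (nat_lit 0x1c2067ceb) (.leaf (nat_lit 0x1c2067c6a) (nat_lit 1796))
 (.leaf (nat_lit 0x1c2067ceb) (nat_lit 1537))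
) (.node (nat_lit 0x1dd7bcdef) (.leaf (nat_lit 0x1dd7bcab1) (nat_lit 1540))
 (.leaf (nat_lit 0x1dd7bcdef) (nat_lit 1025))
)) (.node (nat_lit 0x1de77cbf7) (.node (nat_lit 0x1dd7bfceb) (.leaf (nat_lit 0x1dd7bfbb5) (nat_lit 1539))
 (.leaf (nat_lit 0x1dd7bfceb) (nat_lit 1284))
) (.node (nat_lit 0x1de77cc6a) (.leaf (nat_lit 0x1de77cbf7) (nat_lit 1281))
 (.node (nat_lit 0x1de77faf3) (.leaf (nat_lit 0x1de77cc6a) (nat_lit 1796))
 (.leaf (nat_lit 0x1de77faf3) (nat_lit 1028))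
)))) (.node (nat_lit 0x1eac7cdef) (.node (nat_lit 0x1eac67af3) (.node (nat_lit 0x1eac67042) (.leaf (nat_lit 0x1de77fd6e) (nat_lit 1283))
 (.leaf (nat_lit 0x1eac67042) (nat_lit 1794))
) (.node (nat_lit 0x1eac7c75e) (.leaf (nat_lit 0x1eac67af3) (nat_lit 2052))
 (.leaf (nat_lit 0x1eac7c75e) (nat_lit 1283))
)) (.node (nat_lit 0x1ebce7ab1) (.node (nat_lit 0x1ebce7042) (.leaf (nat_lit 0x1eac7cdef) (nat_lit 1539))
 (.leaf (nat_lit 0x1ebce7042) (nat_lit 1794))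
) (.node (nat_lit 0x1ebcff79d) (.leaf (nat_lit 0x1ebce7ab1) (nat_lit 1793))
 (.node (nat_lit 0x1ebcffd6e) (.leaf (nat_lit 0x1ebcff79d) (nat_lit 770))
 (.leaf (nat_lit 0x1ebcffd6e) (nat_lit 1284))
))))))) (.node (nat_lit 0x7173e7ab1) (.node (nat_lit 0x1f5bbf79d) (.node (nat_lit 0x1f1aa7ceb) (.node (nat_lit 0x1efde4042) (.node (nat_lit 0x1eed7f75e) (.node (nat_lit 0x1eed64bf7) (.leaf (nat_lit 0x1eed64042) (nat_lit 1793))
 (.leaf (nat_lit 0x1eed64bf7) (nat_lit 2051))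
) (.node (nat_lit 0x1eed7fceb) (.leaf (nat_lit 0x1eed7f75e) (nat_lit 1539))
 (.leaf (nat_lit 0x1eed7fceb) (nat_lit 1283))
)) (.node (nat_lit 0x1efdfc79d) (.node (nat_lit 0x1efde4bb5) (.leaf (nat_lit 0x1efde4042) (nat_lit 1793))
 (.leaf (nat_lit 0x1efde4bb5) (nat_lit 1794))
) (.node (nat_lit 0x1efdfcc6a) (.leaf (nat_lit 0x1efdfc79d) (nat_lit 1540))
 (.node (nat_lit 0x1f1aa7081) (.leaf (nat_lit 0x1efdfcc6a) (nat_lit 1538))
 (.leaf (nat_lit 0x1f1aa7081) (nat_lit 1538))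
)))) (.node (nat_lit 0x1f3ae7c6a) (.node (nat_lit 0x1f1abcbf7) (.node (nat_lit 0x1f1abc79d) (.leaf (nat_lit 0x1f1aa7ceb) (nat_lit 1796))
 (.leaf (nat_lit 0x1f1abc79d) (nat_lit 1539))
) (.node (nat_lit 0x1f3ae7081) (.leaf (nat_lit 0x1f1abcbf7) (nat_lit 1795))
 (.leaf (nat_lit 0x1f3ae7081) (nat_lit 1538))
)) (.node (nat_lit 0x1f3affbb5) (.node (nat_lit 0x1f3aff75e) (.leaf (nat_lit 0x1f3ae7c6a) (nat_lit 1537))
 (.leaf (nat_lit 0x1f3aff75e) (nat_lit 1026))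
) (.node (nat_lit 0x1f5ba4081) (.leaf (nat_lit 0x1f3affbb5) (nat_lit 1540))
 (.node (nat_lit 0x1f5ba4def) (.leaf (nat_lit 0x1f5ba4081) (nat_lit 1537))
 (.leaf (nat_lit 0x1f5ba4def) (nat_lit 1795))
))))) (.node (nat_lit 0x70843ce7a) (.node (nat_lit 0x1f7bfc75e) (.node (nat_lit 0x1f7be4081) (.node (nat_lit 0x1f5bbfaf3) (.leaf (nat_lit 0x1f5bbf79d) (nat_lit 1283))
 (.leaf (nat_lit 0x1f5bbfaf3) (nat_lit 1027))
) (.node (nat_lit 0x1f7be4d6e) (.leaf (nat_lit 0x1f7be4081) (nat_lit 1537))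
 (.leaf (nat_lit 0x1f7be4d6e) (nat_lit 1538))
)) (.node (nat_lit 0x708424d6e) (.node (nat_lit 0x1f7bfcab1) (.leaf (nat_lit 0x1f7bfc75e) (nat_lit 1284))
 (.leaf (nat_lit 0x1f7bfcab1) (nat_lit 1282))
) (.node (nat_lit 0x708424f7e) (.leaf (nat_lit 0x708424d6e) (nat_lit 1794))
 (.node (nat_lit 0x70843cc6a) (.leaf (nat_lit 0x708424f7e) (nat_lit 1796))
 (.leaf (nat_lit 0x70843cc6a) (nat_lit 1794))
)))) (.node (nat_lit 0x70f5ffeb9) (.node (nat_lit 0x70f5e7fbd) (.node (nat_lit 0x70f5e7c6a) (.leaf (nat_lit 0x70843ce7a) (nat_lit 1796))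
 (.leaf (nat_lit 0x70f5e7c6a) (nat_lit 1284))
) (.node (nat_lit 0x70f5ffd6e) (.leaf (nat_lit 0x70f5e7fbd) (nat_lit 769))
 (.leaf (nat_lit 0x70f5ffd6e) (nat_lit 1537))
)) (.node (nat_lit 0x710224fbd) (.node (nat_lit 0x710224bb5) (.leaf (nat_lit 0x70f5ffeb9) (nat_lit 1540))
 (.leaf (nat_lit 0x710224bb5) (nat_lit 1538))
) (.node (nat_lit 0x71023cab1) (.leaf (nat_lit 0x710224fbd) (nat_lit 1540))
 (.node (nat_lit 0x71023ceb9) (.leaf (nat_lit 0x71023cab1) (nat_lit 1538))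
 (.leaf (nat_lit 0x71023ceb9) (nat_lit 1540))
)))))) (.node (nat_lit 0x735bbf3d7) (.node (nat_lit 0x72ed64fbd) (.node (nat_lit 0x72ac675cf) (.node (nat_lit 0x7173ffbb5) (.node (nat_lit 0x7173e7f7e) (.leaf (nat_lit 0x7173e7ab1) (nat_lit 1540))
 (.leaf (nat_lit 0x7173e7f7e) (nat_lit 1025))
) (.node (nat_lit 0x7173ffe7a) (.leaf (nat_lit 0x7173ffbb5) (nat_lit 1281))
 (.leaf (nat_lit 0x7173ffe7a) (nat_lit 1284))
)) (.node (nat_lit 0x72ac7c408) (.node (nat_lit 0x72ac67f7e) (.leaf (nat_lit 0x72ac675cf) (nat_lit 1283))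
 (.leaf (nat_lit 0x72ac67f7e) (nat_lit 1539))
) (.node (nat_lit 0x72ac7ceb9) (.leaf (nat_lit 0x72ac7c408) (nat_lit 1795))
 (.node (nat_lit 0x72ed64408) (.leaf (nat_lit 0x72ac7ceb9) (nat_lit 1537))
 (.leaf (nat_lit 0x72ed64408) (nat_lit 1795))
)))) (.node (nat_lit 0x731aa7fbd) (.node (nat_lit 0x72ed7fe7a) (.node (nat_lit 0x72ed7f5cf) (.leaf (nat_lit 0x72ed64fbd) (nat_lit 1539))
 (.leaf (nat_lit 0x72ed7f5cf) (nat_lit 1540))
) (.node (nat_lit 0x731aa73d7) (.leaf (nat_lit 0x72ed7fe7a) (nat_lit 1282))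
 (.leaf (nat_lit 0x731aa73d7) (nat_lit 1027))
)) (.node (nat_lit 0x731abce7a) (.node (nat_lit 0x731abc210) (.leaf (nat_lit 0x731aa7fbd) (nat_lit 1283))
 (.leaf (nat_lit 0x731abc210) (nat_lit 2051))
) (.node (nat_lit 0x735ba4210) (.leaf (nat_lit 0x731abce7a) (nat_lit 1793))
 (.node (nat_lit 0x735ba4f7e) (.leaf (nat_lit 0x735ba4210) (nat_lit 2051))
 (.leaf (nat_lit 0x735ba4f7e) (nat_lit 1795))
))))) (.node (nat_lit 0x73ae7fd6e) (.node (nat_lit 0x739ebf5cf) (.node (nat_lit 0x739ebc210) (.node (nat_lit 0x735bbfeb9) (.leaf (nat_lit 0x735bbf3d7) (nat_lit 1796))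
 (.leaf (nat_lit 0x735bbfeb9) (nat_lit 1538))
) (.node (nat_lit 0x739ebcc6a) (.leaf (nat_lit 0x739ebc210) (nat_lit 1538))
 (.leaf (nat_lit 0x739ebcc6a) (nat_lit 2052))
)) (.node (nat_lit 0x73ae7c408) (.node (nat_lit 0x739ebfbb5) (.leaf (nat_lit 0x739ebf5cf) (nat_lit 1026))
 (.leaf (nat_lit 0x739ebfbb5) (nat_lit 1540))
) (.node (nat_lit 0x73ae7cab1) (.leaf (nat_lit 0x73ae7c408) (nat_lit 1282))
 (.node (nat_lit 0x73ae7f3d7) (.leaf (nat_lit 0x73ae7cab1) (nat_lit 1796))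
 (.leaf (nat_lit 0x73ae7f3d7) (nat_lit 1282))
)))) (.node (nat_lit 0x73dfa7ab1) (.node (nat_lit 0x73dfa4d6e) (.node (nat_lit 0x73dfa4210) (.leaf (nat_lit 0x73ae7fd6e) (nat_lit 1796))
 (.leaf (nat_lit 0x73dfa4210) (nat_lit 1537))
) (.node (nat_lit 0x73dfa75cf) (.leaf (nat_lit 0x73dfa4d6e) (nat_lit 2052))
 (.leaf (nat_lit 0x73dfa75cf) (nat_lit 1284))
)) (.node (nat_lit 0x73ef64bb5) (.node (nat_lit 0x73ef64408) (.leaf (nat_lit 0x73dfa7ab1) (nat_lit 1539))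
 (.leaf (nat_lit 0x73ef64408) (nat_lit 1281))
) (.node (nat_lit 0x73ef673d7) (.leaf (nat_lit 0x73ef64bb5) (nat_lit 1796))
 (.node (nat_lit 0x73ef67c6a) (.leaf (nat_lit 0x73ef673d7) (nat_lit 1028))
 (.leaf (nat_lit 0x73ef67c6a) (nat_lit 1283))
)))))))) (.node (nat_lit 0x82ac47042) (.node (nat_lit 0x7fae7c54e) (.node (nat_lit 0x7ebcff489) (.node (nat_lit 0x7d2264f7e) (.node (nat_lit 0x7ce567ceb) (.node (nat_lit 0x7c94bfceb) (.node (nat_lit 0x7c94a4fbd) (.leaf (nat_lit 0x7c94a4def) (nat_lit 2052))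
 (.leaf (nat_lit 0x7c94a4fbd) (nat_lit 1794))
) (.node (nat_lit 0x7c94bfeb9) (.leaf (nat_lit 0x7c94bfceb) (nat_lit 2051))
 (.leaf (nat_lit 0x7c94bfeb9) (nat_lit 1795))
)) (.node (nat_lit 0x7ce57cdef) (.node (nat_lit 0x7ce567f7e) (.leaf (nat_lit 0x7ce567ceb) (nat_lit 1539))
 (.leaf (nat_lit 0x7ce567f7e) (nat_lit 1281))
) (.node (nat_lit 0x7ce57ce7a) (.leaf (nat_lit 0x7ce57cdef) (nat_lit 1283))
 (.node (nat_lit 0x7d2264bf7) (.leaf (nat_lit 0x7ce57ce7a) (nat_lit 1539))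
 (.leaf (nat_lit 0x7d2264bf7) (nat_lit 1796))
)))) (.node (nat_lit 0x7d53a7fbd) (.node (nat_lit 0x7d227fe7a) (.node (nat_lit 0x7d227faf3) (.leaf (nat_lit 0x7d2264f7e) (nat_lit 1538))
 (.leaf (nat_lit 0x7d227faf3) (nat_lit 1795))
) (.node (nat_lit 0x7d53a7af3) (.leaf (nat_lit 0x7d227fe7a) (nat_lit 1539))
 (.leaf (nat_lit 0x7d53a7af3) (nat_lit 1795))
)) (.node (nat_lit 0x7d53bceb9) (.node (nat_lit 0x7d53bcbf7) (.leaf (nat_lit 0x7d53a7fbd) (nat_lit 1537))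
 (.leaf (nat_lit 0x7d53bcbf7) (nat_lit 1027))
) (.node (nat_lit 0x7ebce754e) (.leaf (nat_lit 0x7d53bceb9) (nat_lit 1283))
 (.node (nat_lit 0x7ebce7fbd) (.leaf (nat_lit 0x7ebce754e) (nat_lit 1538))
 (.leaf (nat_lit 0x7ebce7fbd) (nat_lit 1540))
))))) (.node (nat_lit 0x7f3affeb9) (.node (nat_lit 0x7efdfc54e) (.node (nat_lit 0x7efde4489) (.node (nat_lit 0x7ebcffe7a) (.leaf (nat_lit 0x7ebcff489) (nat_lit 1538))
 (.leaf (nat_lit 0x7ebcffe7a) (nat_lit 1540))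
) (.node (nat_lit 0x7efde4f7e) (.leaf (nat_lit 0x7efde4489) (nat_lit 1537))
 (.leaf (nat_lit 0x7efde4f7e) (nat_lit 1540))
)) (.node (nat_lit 0x7f3ae7395) (.node (nat_lit 0x7efdfceb9) (.leaf (nat_lit 0x7efdfc54e) (nat_lit 1284))
 (.leaf (nat_lit 0x7efdfceb9) (nat_lit 770))
) (.node (nat_lit 0x7f3ae7f7e) (.leaf (nat_lit 0x7f3ae7395) (nat_lit 1282))
 (.node (nat_lit 0x7f3aff252) (.leaf (nat_lit 0x7f3ae7f7e) (nat_lit 1284))
 (.leaf (nat_lit 0x7f3aff252) (nat_lit 1794))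
)))) (.node (nat_lit 0x7f7bfce7a) (.node (nat_lit 0x7f7be4fbd) (.node (nat_lit 0x7f7be4252) (.leaf (nat_lit 0x7f3affeb9) (nat_lit 1796))
 (.leaf (nat_lit 0x7f7be4252) (nat_lit 1793))
) (.node (nat_lit 0x7f7bfc395) (.leaf (nat_lit 0x7f7be4fbd) (nat_lit 1796))
 (.leaf (nat_lit 0x7f7bfc395) (nat_lit 1540))
)) (.node (nat_lit 0x7f9ebcdef) (.node (nat_lit 0x7f9ebc395) (.leaf (nat_lit 0x7f7bfce7a) (nat_lit 1026))
 (.leaf (nat_lit 0x7f9ebc395) (nat_lit 1539))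
) (.node (nat_lit 0x7f9ebf489) (.leaf (nat_lit 0x7f9ebcdef) (nat_lit 1284))
 (.node (nat_lit 0x7f9ebfaf3) (.leaf (nat_lit 0x7f9ebf489) (nat_lit 1796))
 (.leaf (nat_lit 0x7f9ebfaf3) (nat_lit 1281))
)))))) (.node (nat_lit 0x802047c6a) (.node (nat_lit 0x7fef64def) (.node (nat_lit 0x7fdfa4489) (.node (nat_lit 0x7fae7f252) (.node (nat_lit 0x7fae7cbf7) (.leaf (nat_lit 0x7fae7c54e) (nat_lit 1283))
 (.leaf (nat_lit 0x7fae7cbf7) (nat_lit 1028))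
) (.node (nat_lit 0x7fae7fceb) (.leaf (nat_lit 0x7fae7f252) (nat_lit 2052))
 (.leaf (nat_lit 0x7fae7fceb) (nat_lit 1537))
)) (.node (nat_lit 0x7fdfa7395) (.node (nat_lit 0x7fdfa4bf7) (.leaf (nat_lit 0x7fdfa4489) (nat_lit 1796))
 (.leaf (nat_lit 0x7fdfa4bf7) (nat_lit 1282))
) (.node (nat_lit 0x7fdfa7ceb) (.leaf (nat_lit 0x7fdfa7395) (nat_lit 1540))
 (.node (nat_lit 0x7fef64252) (.leaf (nat_lit 0x7fdfa7ceb) (nat_lit 1026))
 (.leaf (nat_lit 0x7fef64252) (nat_lit 2052))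
)))) (.node (nat_lit 0x801084252) (.node (nat_lit 0x7fef67af3) (.node (nat_lit 0x7fef6754e) (.leaf (nat_lit 0x7fef64def) (nat_lit 1538))
 (.leaf (nat_lit 0x7fef6754e) (nat_lit 1796))
) (.node (nat_lit 0x801084210) (.leaf (nat_lit 0x7fef67af3) (nat_lit 1282))
 (.leaf (nat_lit 0x801084210) (nat_lit 516))
)) (.node (nat_lit 0x801087af3) (.node (nat_lit 0x801087ab1) (.leaf (nat_lit 0x801084252) (nat_lit 771))
 (.leaf (nat_lit 0x801087ab1) (nat_lit 1537))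
) (.node (nat_lit 0x802044408) (.leaf (nat_lit 0x801087af3) (nat_lit 1537))
 (.node (nat_lit 0x802044489) (.leaf (nat_lit 0x802044408) (nat_lit 260))
 (.leaf (nat_lit 0x802044489) (nat_lit 515))
))))) (.node (nat_lit 0x80949feb9) (.node (nat_lit 0x80841cc6a) (.node (nat_lit 0x808404042) (.node (nat_lit 0x802047ceb) (.leaf (nat_lit 0x802047c6a) (nat_lit 1281))
 (.leaf (nat_lit 0x802047ceb) (nat_lit 1537))
) (.node (nat_lit 0x808404252) (.leaf (nat_lit 0x808404042) (nat_lit 256))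
 (.leaf (nat_lit 0x808404252) (nat_lit 772))
)) (.node (nat_lit 0x809484042) (.node (nat_lit 0x80841ce7a) (.leaf (nat_lit 0x80841cc6a) (nat_lit 1281))
 (.leaf (nat_lit 0x80841ce7a) (nat_lit 1796))
) (.node (nat_lit 0x809484210) (.leaf (nat_lit 0x809484042) (nat_lit 771))
 (.node (nat_lit 0x80949fceb) (.leaf (nat_lit 0x809484210) (nat_lit 515))
 (.leaf (nat_lit 0x80949fceb) (nat_lit 1793))
)))) (.node (nat_lit 0x81021ceb9) (.node (nat_lit 0x810204489) (.node (nat_lit 0x810204081) (.leaf (nat_lit 0x80949feb9) (nat_lit 1537))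
 (.leaf (nat_lit 0x810204081) (nat_lit 0))
) (.node (nat_lit 0x81021cab1) (.leaf (nat_lit 0x810204489) (nat_lit 516))
 (.leaf (nat_lit 0x81021cab1) (nat_lit 1025))
)) (.node (nat_lit 0x812244408) (.node (nat_lit 0x812244081) (.leaf (nat_lit 0x81021ceb9) (nat_lit 1540))
 (.leaf (nat_lit 0x812244081) (nat_lit 515))
) (.node (nat_lit 0x81225faf3) (.leaf (nat_lit 0x812244408) (nat_lit 259))
 (.node (nat_lit 0x81225fe7a) (.leaf (nat_lit 0x81225faf3) (nat_lit 1537))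
 (.leaf (nat_lit 0x81225fe7a) (nat_lit 1281))
))))))) (.node (nat_lit 0x8cf5c4042) (.node (nat_lit 0x839e9f489) (.node (nat_lit 0x831a87ceb) (.node (nat_lit 0x82bcc7042) (.node (nat_lit 0x82ac5c408) (.node (nat_lit 0x82ac47af3) (.leaf (nat_lit 0x82ac47042) (nat_lit 1796))
 (.leaf (nat_lit 0x82ac47af3) (nat_lit 1537))
) (.node (nat_lit 0x82ac5ceb9) (.leaf (nat_lit 0x82ac5c408) (nat_lit 1284))
 (.leaf (nat_lit 0x82ac5ceb9) (nat_lit 1537))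
)) (.node (nat_lit 0x82bcdf489) (.node (nat_lit 0x82bcc7ab1) (.leaf (nat_lit 0x82bcc7042) (nat_lit 1795))
 (.leaf (nat_lit 0x82bcc7ab1) (nat_lit 1796))
) (.node (nat_lit 0x82bcdfe7a) (.leaf (nat_lit 0x82bcdf489) (nat_lit 1539))
 (.node (nat_lit 0x831a87081) (.leaf (nat_lit 0x82bcdfe7a) (nat_lit 1795))
 (.leaf (nat_lit 0x831a87081) (nat_lit 1540))
)))) (.node (nat_lit 0x833ac7c6a) (.node (nat_lit 0x831a9ce7a) (.node (nat_lit 0x831a9c210) (.leaf (nat_lit 0x831a87ceb) (nat_lit 1793))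
 (.leaf (nat_lit 0x831a9c210) (nat_lit 1540))
) (.node (nat_lit 0x833ac7081) (.leaf (nat_lit 0x831a9ce7a) (nat_lit 1281))
 (.leaf (nat_lit 0x833ac7081) (nat_lit 1539))
)) (.node (nat_lit 0x833adfeb9) (.node (nat_lit 0x833adf252) (.leaf (nat_lit 0x833ac7c6a) (nat_lit 1794))
 (.leaf (nat_lit 0x833adf252) (nat_lit 1795))
) (.node (nat_lit 0x839e9c210) (.leaf (nat_lit 0x833adfeb9) (nat_lit 1796))
 (.node (nat_lit 0x839e9cc6a) (.leaf (nat_lit 0x839e9c210) (nat_lit 1539))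
 (.leaf (nat_lit 0x839e9cc6a) (nat_lit 1540))
))))) (.node (nat_lit 0x8c1087bf7) (.node (nat_lit 0x83ae5f252) (.node (nat_lit 0x83ae5c408) (.node (nat_lit 0x839e9faf3) (.leaf (nat_lit 0x839e9f489) (nat_lit 1537))
 (.leaf (nat_lit 0x839e9faf3) (nat_lit 1538))
) (.node (nat_lit 0x83ae5cab1) (.leaf (nat_lit 0x83ae5c408) (nat_lit 1283))
 (.leaf (nat_lit 0x83ae5cab1) (nat_lit 1539))
)) (.node (nat_lit 0x8c1084395) (.node (nat_lit 0x83ae5fceb) (.leaf (nat_lit 0x83ae5f252) (nat_lit 1793))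
 (.leaf (nat_lit 0x83ae5fceb) (nat_lit 1537))
) (.node (nat_lit 0x8c10843d7) (.leaf (nat_lit 0x8c1084395) (nat_lit 1540))
 (.node (nat_lit 0x8c1087bb5) (.leaf (nat_lit 0x8c10843d7) (nat_lit 1537))
 (.leaf (nat_lit 0x8c1087bb5) (nat_lit 1795))
)))) (.node (nat_lit 0x8c2047def) (.node (nat_lit 0x8c20445cf) (.node (nat_lit 0x8c204454e) (.leaf (nat_lit 0x8c1087bf7) (nat_lit 1539))
 (.leaf (nat_lit 0x8c204454e) (nat_lit 1284))
) (.node (nat_lit 0x8c2047d6e) (.leaf (nat_lit 0x8c20445cf) (nat_lit 1538))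
 (.leaf (nat_lit 0x8c2047d6e) (nat_lit 1539))
)) (.node (nat_lit 0x8ce5443d7) (.node (nat_lit 0x8ce544042) (.leaf (nat_lit 0x8c2047def) (nat_lit 1283))
 (.leaf (nat_lit 0x8ce544042) (nat_lit 1281))
) (.node (nat_lit 0x8ce55fdef) (.leaf (nat_lit 0x8ce5443d7) (nat_lit 1796))
 (.node (nat_lit 0x8ce55fe7a) (.leaf (nat_lit 0x8ce55fdef) (nat_lit 769))
 (.leaf (nat_lit 0x8ce55fe7a) (nat_lit 1284))
)))))) (.node (nat_lit 0x8efddf54e) (.node (nat_lit 0x8d73c454e) (.node (nat_lit 0x8d5384081) (.node (nat_lit 0x8cf5dcd6e) (.node (nat_lit 0x8cf5c4395) (.leaf (nat_lit 0x8cf5c4042) (nat_lit 1795))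
 (.leaf (nat_lit 0x8cf5c4395) (nat_lit 1539))
) (.node (nat_lit 0x8cf5dceb9) (.leaf (nat_lit 0x8cf5dcd6e) (nat_lit 1283))
 (.leaf (nat_lit 0x8cf5dceb9) (nat_lit 1028))
)) (.node (nat_lit 0x8d539fbf7) (.node (nat_lit 0x8d53845cf) (.leaf (nat_lit 0x8d5384081) (nat_lit 1025))
 (.leaf (nat_lit 0x8d53845cf) (nat_lit 1540))
) (.node (nat_lit 0x8d539feb9) (.leaf (nat_lit 0x8d539fbf7) (nat_lit 1025))
 (.node (nat_lit 0x8d73c4081) (.leaf (nat_lit 0x8d539feb9) (nat_lit 1028))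
 (.leaf (nat_lit 0x8d73c4081) (nat_lit 1539))
)))) (.node (nat_lit 0x8eed47bf7) (.node (nat_lit 0x8d73dce7a) (.node (nat_lit 0x8d73dcbb5) (.leaf (nat_lit 0x8d73c454e) (nat_lit 1283))
 (.leaf (nat_lit 0x8d73dcbb5) (nat_lit 1027))
) (.node (nat_lit 0x8eed47042) (.leaf (nat_lit 0x8d73dce7a) (nat_lit 772))
 (.leaf (nat_lit 0x8eed47042) (nat_lit 1795))
)) (.node (nat_lit 0x8eed5ce7a) (.node (nat_lit 0x8eed5c5cf) (.leaf (nat_lit 0x8eed47bf7) (nat_lit 1540))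
 (.leaf (nat_lit 0x8eed5c5cf) (nat_lit 1027))
) (.node (nat_lit 0x8efdc7042) (.leaf (nat_lit 0x8eed5ce7a) (nat_lit 771))
 (.node (nat_lit 0x8efdc7bb5) (.leaf (nat_lit 0x8efdc7042) (nat_lit 1796))
 (.leaf (nat_lit 0x8efdc7bb5) (nat_lit 1281))
))))) (.node (nat_lit 0x8f7bdfe7a) (.node (nat_lit 0x8f5b9c3d7) (.node (nat_lit 0x8f5b87081) (.node (nat_lit 0x8efddfeb9) (.leaf (nat_lit 0x8efddf54e) (nat_lit 1284))
 (.leaf (nat_lit 0x8efddfeb9) (nat_lit 1026))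
) (.node (nat_lit 0x8f5b87def) (.leaf (nat_lit 0x8f5b87081) (nat_lit 1539))
 (.leaf (nat_lit 0x8f5b87def) (nat_lit 1284))
)) (.node (nat_lit 0x8f7bc7081) (.node (nat_lit 0x8f5b9ceb9) (.leaf (nat_lit 0x8f5b9c3d7) (nat_lit 1283))
 (.leaf (nat_lit 0x8f5b9ceb9) (nat_lit 1027))
) (.node (nat_lit 0x8f7bc7d6e) (.leaf (nat_lit 0x8f7bc7081) (nat_lit 1540))
 (.node (nat_lit 0x8f7bdf395) (.leaf (nat_lit 0x8f7bc7d6e) (nat_lit 1025))
 (.leaf (nat_lit 0x8f7bdf395) (nat_lit 1028))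
)))) (.node (nat_lit 0x8f9e9fdef) (.node (nat_lit 0x8f9e9cbb5) (.node (nat_lit 0x8f9e9c5cf) (.leaf (nat_lit 0x8f7bdfe7a) (nat_lit 1282))
 (.leaf (nat_lit 0x8f9e9c5cf) (nat_lit 513))
) (.node (nat_lit 0x8f9e9f395) (.leaf (nat_lit 0x8f9e9cbb5) (nat_lit 1028))
 (.leaf (nat_lit 0x8f9e9f395) (nat_lit 1025))
)) (.node (nat_lit 0x8fae5cd6e) (.node (nat_lit 0x8fae5c3d7) (.leaf (nat_lit 0x8f9e9fdef) (nat_lit 1283))
 (.leaf (nat_lit 0x8fae5c3d7) (nat_lit 769))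
) (.node (nat_lit 0x8fae5f54e) (.leaf (nat_lit 0x8fae5cd6e) (nat_lit 1284))
 (.node (nat_lit 0x8fae5fbf7) (.leaf (nat_lit 0x8fae5f54e) (nat_lit 769))
 (.leaf (nat_lit 0x8fae5fbf7) (nat_lit 1284))
))))))))) (.node (nat_lit 0xec94845cf) (.node (nat_lit 0x9eac60042) (.node (nat_lit 0x937be3081) (.node (nat_lit 0x910238bb5) (.node (nat_lit 0x908420252) (.node (nat_lit 0x902060408) (.node (nat_lit 0x9010a3bb5) (.node (nat_lit 0x9010a0252) (.leaf (nat_lit 0x9010a0210) (nat_lit 772))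
 (.leaf (nat_lit 0x9010a0252) (nat_lit 1027))
) (.node (nat_lit 0x9010a3bf7) (.leaf (nat_lit 0x9010a3bb5) (nat_lit 1793))
 (.leaf (nat_lit 0x9010a3bf7) (nat_lit 1537))
)) (.node (nat_lit 0x902063d6e) (.node (nat_lit 0x902060489) (.leaf (nat_lit 0x902060408) (nat_lit 516))
 (.leaf (nat_lit 0x902060489) (nat_lit 771))
) (.node (nat_lit 0x902063def) (.leaf (nat_lit 0x902063d6e) (nat_lit 1537))
 (.node (nat_lit 0x908420042) (.leaf (nat_lit 0x902063def) (nat_lit 1281))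
 (.leaf (nat_lit 0x908420042) (nat_lit 514))
)))) (.node (nat_lit 0x9094a0210) (.node (nat_lit 0x908438f7e) (.node (nat_lit 0x908438d6e) (.leaf (nat_lit 0x908420252) (nat_lit 1028))
 (.leaf (nat_lit 0x908438d6e) (nat_lit 1537))
) (.node (nat_lit 0x9094a0042) (.leaf (nat_lit 0x908438f7e) (nat_lit 1793))
 (.leaf (nat_lit 0x9094a0042) (nat_lit 1027))
)) (.node (nat_lit 0x9094bbfbd) (.node (nat_lit 0x9094bbdef) (.leaf (nat_lit 0x9094a0210) (nat_lit 771))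
 (.leaf (nat_lit 0x9094bbdef) (nat_lit 1795))
) (.node (nat_lit 0x910220081) (.leaf (nat_lit 0x9094bbfbd) (nat_lit 1537))
 (.node (nat_lit 0x910220489) (.leaf (nat_lit 0x910220081) (nat_lit 258))
 (.leaf (nat_lit 0x910220489) (nat_lit 772))
))))) (.node (nat_lit 0x92ed78fbd) (.node (nat_lit 0x91227bbf7) (.node (nat_lit 0x912260081) (.node (nat_lit 0x910238fbd) (.leaf (nat_lit 0x910238bb5) (nat_lit 1281))
 (.leaf (nat_lit 0x910238fbd) (nat_lit 1537))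
) (.node (nat_lit 0x912260408) (.leaf (nat_lit 0x912260081) (nat_lit 771))
 (.leaf (nat_lit 0x912260408) (nat_lit 515))
)) (.node (nat_lit 0x92ed63042) (.node (nat_lit 0x91227bf7e) (.leaf (nat_lit 0x91227bbf7) (nat_lit 1539))
 (.leaf (nat_lit 0x91227bf7e) (nat_lit 1281))
) (.node (nat_lit 0x92ed63bf7) (.leaf (nat_lit 0x92ed63042) (nat_lit 1795))
 (.node (nat_lit 0x92ed78408) (.leaf (nat_lit 0x92ed63bf7) (nat_lit 1796))
 (.leaf (nat_lit 0x92ed78408) (nat_lit 1540))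
)))) (.node (nat_lit 0x92fdfbf7e) (.node (nat_lit 0x92fde3bb5) (.node (nat_lit 0x92fde3042) (.leaf (nat_lit 0x92ed78fbd) (nat_lit 1538))
 (.leaf (nat_lit 0x92fde3042) (nat_lit 1796))
) (.node (nat_lit 0x92fdfb489) (.leaf (nat_lit 0x92fde3bb5) (nat_lit 1538))
 (.leaf (nat_lit 0x92fdfb489) (nat_lit 1539))
)) (.node (nat_lit 0x935ba3def) (.node (nat_lit 0x935ba3081) (.leaf (nat_lit 0x92fdfbf7e) (nat_lit 1284))
 (.leaf (nat_lit 0x935ba3081) (nat_lit 1539))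
) (.node (nat_lit 0x935bb8210) (.leaf (nat_lit 0x935ba3def) (nat_lit 1540))
 (.node (nat_lit 0x935bb8f7e) (.leaf (nat_lit 0x935bb8210) (nat_lit 1796))
 (.leaf (nat_lit 0x935bb8f7e) (nat_lit 1537))
)))))) (.node (nat_lit 0x9c206354e) (.node (nat_lit 0x93ef78bb5) (.node (nat_lit 0x93dfb8210) (.node (nat_lit 0x937bfb252) (.node (nat_lit 0x937be3d6e) (.leaf (nat_lit 0x937be3081) (nat_lit 1540))
 (.leaf (nat_lit 0x937be3d6e) (nat_lit 1282))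
) (.node (nat_lit 0x937bfbfbd) (.leaf (nat_lit 0x937bfb252) (nat_lit 1795))
 (.leaf (nat_lit 0x937bfbfbd) (nat_lit 1540))
)) (.node (nat_lit 0x93dfbb489) (.node (nat_lit 0x93dfb8d6e) (.leaf (nat_lit 0x93dfb8210) (nat_lit 1795))
 (.leaf (nat_lit 0x93dfb8d6e) (nat_lit 1794))
) (.node (nat_lit 0x93dfbbbf7) (.leaf (nat_lit 0x93dfbb489) (nat_lit 1540))
 (.node (nat_lit 0x93ef78408) (.leaf (nat_lit 0x93dfbbbf7) (nat_lit 1026))
 (.leaf (nat_lit 0x93ef78408) (nat_lit 1539))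
)))) (.node (nat_lit 0x9c10a0af3) (.node (nat_lit 0x93ef7bdef) (.node (nat_lit 0x93ef7b252) (.leaf (nat_lit 0x93ef78bb5) (nat_lit 1538))
 (.leaf (nat_lit 0x93ef7b252) (nat_lit 1796))
) (.node (nat_lit 0x9c10a0ab1) (.leaf (nat_lit 0x93ef7bdef) (nat_lit 1282))
 (.leaf (nat_lit 0x9c10a0ab1) (nat_lit 1796))
)) (.node (nat_lit 0x9c10a33d7) (.node (nat_lit 0x9c10a3395) (.leaf (nat_lit 0x9c10a0af3) (nat_lit 1796))
 (.leaf (nat_lit 0x9c10a3395) (nat_lit 1796))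
) (.node (nat_lit 0x9c2060c6a) (.leaf (nat_lit 0x9c10a33d7) (nat_lit 1537))
 (.node (nat_lit 0x9c2060ceb) (.leaf (nat_lit 0x9c2060c6a) (nat_lit 1540))
 (.leaf (nat_lit 0x9c2060ceb) (nat_lit 1540))
))))) (.node (nat_lit 0x9cf5fbfbd) (.node (nat_lit 0x9ce578ceb) (.node (nat_lit 0x9ce563042) (.node (nat_lit 0x9c20635cf) (.leaf (nat_lit 0x9c206354e) (nat_lit 1540))
 (.leaf (nat_lit 0x9c20635cf) (nat_lit 1281))
) (.node (nat_lit 0x9ce5633d7) (.leaf (nat_lit 0x9ce563042) (nat_lit 1538))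
 (.leaf (nat_lit 0x9ce5633d7) (nat_lit 1796))
)) (.node (nat_lit 0x9cf5e3042) (.node (nat_lit 0x9ce578f7e) (.leaf (nat_lit 0x9ce578ceb) (nat_lit 1283))
 (.leaf (nat_lit 0x9ce578f7e) (nat_lit 1027))
) (.node (nat_lit 0x9cf5e3395) (.leaf (nat_lit 0x9cf5e3042) (nat_lit 1796))
 (.node (nat_lit 0x9cf5fbc6a) (.leaf (nat_lit 0x9cf5e3395) (nat_lit 1537))
 (.leaf (nat_lit 0x9cf5fbc6a) (nat_lit 1028))
)))) (.node (nat_lit 0x9d53b8fbd) (.node (nat_lit 0x9d53a35cf) (.node (nat_lit 0x9d53a3081) (.leaf (nat_lit 0x9cf5fbfbd) (nat_lit 769))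
 (.leaf (nat_lit 0x9d53a3081) (nat_lit 1282))
) (.node (nat_lit 0x9d53b8af3) (.leaf (nat_lit 0x9d53a35cf) (nat_lit 1540))
 (.leaf (nat_lit 0x9d53b8af3) (nat_lit 1539))
)) (.node (nat_lit 0x9d73e354e) (.node (nat_lit 0x9d73e3081) (.leaf (nat_lit 0x9d53b8fbd) (nat_lit 1283))
 (.leaf (nat_lit 0x9d73e3081) (nat_lit 1540))
) (.node (nat_lit 0x9d73fbab1) (.leaf (nat_lit 0x9d73e354e) (nat_lit 1281))
 (.node (nat_lit 0x9d73fbf7e) (.leaf (nat_lit 0x9d73fbab1) (nat_lit 1284))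
 (.leaf (nat_lit 0x9d73fbf7e) (nat_lit 1025))
))))))) (.node (nat_lit 0xe15384210) (.node (nat_lit 0x9fdfbb5cf) (.node (nat_lit 0x9f1aa0ceb) (.node (nat_lit 0x9ebce0042) (.node (nat_lit 0x9eac7b5cf) (.node (nat_lit 0x9eac60af3) (.leaf (nat_lit 0x9eac60042) (nat_lit 1537))
 (.leaf (nat_lit 0x9eac60af3) (nat_lit 1795))
) (.node (nat_lit 0x9eac7bf7e) (.leaf (nat_lit 0x9eac7b5cf) (nat_lit 1026))
 (.leaf (nat_lit 0x9eac7bf7e) (nat_lit 1539))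
)) (.node (nat_lit 0x9ebcf854e) (.node (nat_lit 0x9ebce0ab1) (.leaf (nat_lit 0x9ebce0042) (nat_lit 1537))
 (.leaf (nat_lit 0x9ebce0ab1) (nat_lit 1795))
) (.node (nat_lit 0x9ebcf8fbd) (.leaf (nat_lit 0x9ebcf854e) (nat_lit 1282))
 (.node (nat_lit 0x9f1aa0081) (.leaf (nat_lit 0x9ebcf8fbd) (nat_lit 1284))
 (.leaf (nat_lit 0x9f1aa0081) (nat_lit 1281))
)))) (.node (nat_lit 0x9f3ae0c6a) (.node (nat_lit 0x9f1abbfbd) (.node (nat_lit 0x9f1abb3d7) (.leaf (nat_lit 0x9f1aa0ceb) (nat_lit 1539))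
 (.leaf (nat_lit 0x9f1abb3d7) (nat_lit 770))
) (.node (nat_lit 0x9f3ae0081) (.leaf (nat_lit 0x9f1abbfbd) (nat_lit 1283))
 (.leaf (nat_lit 0x9f3ae0081) (nat_lit 1281))
)) (.node (nat_lit 0x9f3af8f7e) (.node (nat_lit 0x9f3af8395) (.leaf (nat_lit 0x9f3ae0c6a) (nat_lit 1539))
 (.leaf (nat_lit 0x9f3af8395) (nat_lit 1026))
) (.node (nat_lit 0x9fdfb8395) (.leaf (nat_lit 0x9f3af8f7e) (nat_lit 1028))
 (.node (nat_lit 0x9fdfb8ceb) (.leaf (nat_lit 0x9fdfb8395) (nat_lit 1284))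
 (.leaf (nat_lit 0x9fdfb8ceb) (nat_lit 769))
))))) (.node (nat_lit 0xe0841cf7e) (.node (nat_lit 0x9fef7b3d7) (.node (nat_lit 0x9fef7854e) (.node (nat_lit 0x9fdfbbab1) (.leaf (nat_lit 0x9fdfbb5cf) (nat_lit 1284))
 (.leaf (nat_lit 0x9fdfbbab1) (nat_lit 1281))
) (.node (nat_lit 0x9fef78af3) (.leaf (nat_lit 0x9fef7854e) (nat_lit 1540))
 (.leaf (nat_lit 0x9fef78af3) (nat_lit 1025))
)) (.node (nat_lit 0xe0840454e) (.node (nat_lit 0x9fef7bc6a) (.leaf (nat_lit 0x9fef7b3d7) (nat_lit 1028))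
 (.leaf (nat_lit 0x9fef7bc6a) (nat_lit 1025))
) (.node (nat_lit 0xe0840475e) (.leaf (nat_lit 0xe0840454e) (nat_lit 1796))
 (.node (nat_lit 0xe0841cd6e) (.leaf (nat_lit 0xe0840475e) (nat_lit 1796))
 (.leaf (nat_lit 0xe0841cd6e) (nat_lit 1795))
)))) (.node (nat_lit 0xe0e55ff7e) (.node (nat_lit 0xe0e54479d) (.node (nat_lit 0xe0e544408) (.leaf (nat_lit 0xe0841cf7e) (nat_lit 1795))
 (.leaf (nat_lit 0xe0e544408) (nat_lit 1281))
) (.node (nat_lit 0xe0e55fceb) (.leaf (nat_lit 0xe0e54479d) (nat_lit 1539))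
 (.leaf (nat_lit 0xe0e55fceb) (nat_lit 1028))
)) (.node (nat_lit 0xe1020479d) (.node (nat_lit 0xe10204395) (.leaf (nat_lit 0xe0e55ff7e) (nat_lit 1281))
 (.leaf (nat_lit 0xe10204395) (nat_lit 1540))
) (.node (nat_lit 0xe1021cbb5) (.leaf (nat_lit 0xe1020479d) (nat_lit 1540))
 (.node (nat_lit 0xe1021cfbd) (.leaf (nat_lit 0xe1021cbb5) (nat_lit 1539))
 (.leaf (nat_lit 0xe1021cfbd) (nat_lit 1539))
)))))) (.node (nat_lit 0xe2ed5c408) (.node (nat_lit 0xe1e744408) (.node (nat_lit 0xe1d784210) (.node (nat_lit 0xe1539faf3) (.node (nat_lit 0xe1538475e) (.leaf (nat_lit 0xe15384210) (nat_lit 1537))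
 (.leaf (nat_lit 0xe1538475e) (nat_lit 1795))
) (.node (nat_lit 0xe1539ffbd) (.leaf (nat_lit 0xe1539faf3) (nat_lit 1284))
 (.leaf (nat_lit 0xe1539ffbd) (nat_lit 1025))
)) (.node (nat_lit 0xe1d787bb5) (.node (nat_lit 0xe1d78454e) (.leaf (nat_lit 0xe1d784210) (nat_lit 1537))
 (.leaf (nat_lit 0xe1d78454e) (nat_lit 1793))
) (.node (nat_lit 0xe1d787ceb) (.leaf (nat_lit 0xe1d787bb5) (nat_lit 1027))
 (.node (nat_lit 0xe1e744395) (.leaf (nat_lit 0xe1d787ceb) (nat_lit 772))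
 (.leaf (nat_lit 0xe1e744395) (nat_lit 1537))
)))) (.node (nat_lit 0xe2bcc7d6e) (.node (nat_lit 0xe1e747d6e) (.node (nat_lit 0xe1e747af3) (.leaf (nat_lit 0xe1e744408) (nat_lit 1281))
 (.leaf (nat_lit 0xe1e747af3) (nat_lit 516))
) (.node (nat_lit 0xe2bcc779d) (.leaf (nat_lit 0xe1e747d6e) (nat_lit 771))
 (.leaf (nat_lit 0xe2bcc779d) (nat_lit 257))
)) (.node (nat_lit 0xe2bcdffbd) (.node (nat_lit 0xe2bcdf54e) (.leaf (nat_lit 0xe2bcc7d6e) (nat_lit 772))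
 (.leaf (nat_lit 0xe2bcdf54e) (nat_lit 1025))
) (.node (nat_lit 0xe2ed4775e) (.leaf (nat_lit 0xe2bcdffbd) (nat_lit 1540))
 (.node (nat_lit 0xe2ed47ceb) (.leaf (nat_lit 0xe2ed4775e) (nat_lit 1027))
 (.leaf (nat_lit 0xe2ed47ceb) (nat_lit 771))
))))) (.node (nat_lit 0xe35b9cf7e) (.node (nat_lit 0xe33adf395) (.node (nat_lit 0xe33ac775e) (.node (nat_lit 0xe2ed5cfbd) (.leaf (nat_lit 0xe2ed5c408) (nat_lit 1796))
 (.leaf (nat_lit 0xe2ed5cfbd) (nat_lit 1281))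
) (.node (nat_lit 0xe33ac7bb5) (.leaf (nat_lit 0xe33ac775e) (nat_lit 513))
 (.leaf (nat_lit 0xe33ac7bb5) (nat_lit 1028))
)) (.node (nat_lit 0xe35b8779d) (.node (nat_lit 0xe33adff7e) (.leaf (nat_lit 0xe33adf395) (nat_lit 769))
 (.leaf (nat_lit 0xe33adff7e) (nat_lit 1284))
) (.node (nat_lit 0xe35b87af3) (.leaf (nat_lit 0xe35b8779d) (nat_lit 771))
 (.node (nat_lit 0xe35b9c210) (.leaf (nat_lit 0xe35b87af3) (nat_lit 515))
 (.leaf (nat_lit 0xe35b9c210) (nat_lit 1793))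
)))) (.node (nat_lit 0xe3df9fceb) (.node (nat_lit 0xe3df9cd6e) (.node (nat_lit 0xe3df9c210) (.leaf (nat_lit 0xe35b9cf7e) (nat_lit 1537))
 (.leaf (nat_lit 0xe3df9c210) (nat_lit 1794))
) (.node (nat_lit 0xe3df9f395) (.leaf (nat_lit 0xe3df9cd6e) (nat_lit 1537))
 (.leaf (nat_lit 0xe3df9f395) (nat_lit 1283))
)) (.node (nat_lit 0xe3ef5cbb5) (.node (nat_lit 0xe3ef5c408) (.leaf (nat_lit 0xe3df9fceb) (nat_lit 1027))
 (.leaf (nat_lit 0xe3ef5c408) (nat_lit 1538))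
) (.node (nat_lit 0xe3ef5f54e) (.leaf (nat_lit 0xe3ef5cbb5) (nat_lit 1281))
 (.node (nat_lit 0xe3ef5faf3) (.leaf (nat_lit 0xe3ef5f54e) (nat_lit 1284))
 (.leaf (nat_lit 0xe3ef5faf3) (nat_lit 1283))
)))))))) (.node (nat_lit 0xf2ac60408) (.node (nat_lit 0xef7bc775e) (.node (nat_lit 0xedd787ab1) (.node (nat_lit 0xed224475e) (.node (nat_lit 0xecf5c4489) (.node (nat_lit 0xec949fdef) (.node (nat_lit 0xec948479d) (.leaf (nat_lit 0xec94845cf) (nat_lit 1540))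
 (.leaf (nat_lit 0xec948479d) (nat_lit 1795))
) (.node (nat_lit 0xec949ffbd) (.leaf (nat_lit 0xec949fdef) (nat_lit 1539))
 (.leaf (nat_lit 0xec949ffbd) (nat_lit 1283))
)) (.node (nat_lit 0xecf5dcc6a) (.node (nat_lit 0xecf5c475e) (.leaf (nat_lit 0xecf5c4489) (nat_lit 1537))
 (.leaf (nat_lit 0xecf5c475e) (nat_lit 1796))
) (.node (nat_lit 0xecf5dcfbd) (.leaf (nat_lit 0xecf5dcc6a) (nat_lit 772))
 (.node (nat_lit 0xed22443d7) (.leaf (nat_lit 0xecf5dcfbd) (nat_lit 1026))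
 (.leaf (nat_lit 0xed22443d7) (nat_lit 1796))
)))) (.node (nat_lit 0xed73c479d) (.node (nat_lit 0xed225ff7e) (.node (nat_lit 0xed225fbf7) (.leaf (nat_lit 0xed224475e) (nat_lit 1794))
 (.leaf (nat_lit 0xed225fbf7) (nat_lit 1283))
) (.node (nat_lit 0xed73c4252) (.leaf (nat_lit 0xed225ff7e) (nat_lit 1027))
 (.leaf (nat_lit 0xed73c4252) (nat_lit 1281))
)) (.node (nat_lit 0xed73dcf7e) (.node (nat_lit 0xed73dcab1) (.leaf (nat_lit 0xed73c479d) (nat_lit 1796))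
 (.leaf (nat_lit 0xed73dcab1) (nat_lit 1028))
) (.node (nat_lit 0xedd7843d7) (.leaf (nat_lit 0xed73dcf7e) (nat_lit 1282))
 (.node (nat_lit 0xedd784489) (.leaf (nat_lit 0xedd7843d7) (nat_lit 1538))
 (.leaf (nat_lit 0xedd784489) (nat_lit 1537))
))))) (.node (nat_lit 0xeeac5cf7e) (.node (nat_lit 0xede747bf7) (.node (nat_lit 0xede744252) (.node (nat_lit 0xedd787def) (.leaf (nat_lit 0xedd787ab1) (nat_lit 1028))
 (.leaf (nat_lit 0xedd787def) (nat_lit 1282))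
) (.node (nat_lit 0xede7445cf) (.leaf (nat_lit 0xede744252) (nat_lit 1537))
 (.leaf (nat_lit 0xede7445cf) (nat_lit 1539))
)) (.node (nat_lit 0xeeac4775e) (.node (nat_lit 0xede747c6a) (.leaf (nat_lit 0xede747bf7) (nat_lit 1281))
 (.leaf (nat_lit 0xede747c6a) (nat_lit 1284))
) (.node (nat_lit 0xeeac47def) (.leaf (nat_lit 0xeeac4775e) (nat_lit 769))
 (.node (nat_lit 0xeeac5c5cf) (.leaf (nat_lit 0xeeac47def) (nat_lit 1284))
 (.leaf (nat_lit 0xeeac5c5cf) (nat_lit 769))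
)))) (.node (nat_lit 0xeefddff7e) (.node (nat_lit 0xeefdc7c6a) (.node (nat_lit 0xeefdc779d) (.leaf (nat_lit 0xeeac5cf7e) (nat_lit 1284))
 (.leaf (nat_lit 0xeefdc779d) (nat_lit 1539))
) (.node (nat_lit 0xeefddf489) (.leaf (nat_lit 0xeefdc7c6a) (nat_lit 1283))
 (.leaf (nat_lit 0xeefddf489) (nat_lit 1283))
)) (.node (nat_lit 0xef1a87bf7) (.node (nat_lit 0xef1a8779d) (.leaf (nat_lit 0xeefddff7e) (nat_lit 1028))
 (.leaf (nat_lit 0xef1a8779d) (nat_lit 1025))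
) (.node (nat_lit 0xef1a9c3d7) (.leaf (nat_lit 0xef1a87bf7) (nat_lit 1540))
 (.node (nat_lit 0xef1a9cfbd) (.leaf (nat_lit 0xef1a9c3d7) (nat_lit 513))
 (.leaf (nat_lit 0xef1a9cfbd) (nat_lit 1028))
)))))) (.node (nat_lit 0xf0e578408) (.node (nat_lit 0xefef5cc6a) (.node (nat_lit 0xefdf9c5cf) (.node (nat_lit 0xef7bdf252) (.node (nat_lit 0xef7bc7ab1) (.leaf (nat_lit 0xef7bc775e) (nat_lit 1283))
 (.leaf (nat_lit 0xef7bc7ab1) (nat_lit 1027))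
) (.node (nat_lit 0xef7bdffbd) (.leaf (nat_lit 0xef7bdf252) (nat_lit 1539))
 (.leaf (nat_lit 0xef7bdffbd) (nat_lit 1284))
)) (.node (nat_lit 0xefdf9f489) (.node (nat_lit 0xefdf9cab1) (.leaf (nat_lit 0xefdf9c5cf) (nat_lit 1283))
 (.leaf (nat_lit 0xefdf9cab1) (nat_lit 1027))
) (.node (nat_lit 0xefdf9fbf7) (.leaf (nat_lit 0xefdf9f489) (nat_lit 1284))
 (.node (nat_lit 0xefef5c3d7) (.leaf (nat_lit 0xefdf9fbf7) (nat_lit 769))
 (.leaf (nat_lit 0xefef5c3d7) (nat_lit 1027))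
)))) (.node (nat_lit 0xf08420e7a) (.node (nat_lit 0xefef5fdef) (.node (nat_lit 0xefef5f252) (.leaf (nat_lit 0xefef5cc6a) (nat_lit 771))
 (.leaf (nat_lit 0xefef5f252) (nat_lit 1540))
) (.node (nat_lit 0xf08420c6a) (.leaf (nat_lit 0xefef5fdef) (nat_lit 1025))
 (.leaf (nat_lit 0xf08420c6a) (nat_lit 1538))
)) (.node (nat_lit 0xf0843875e) (.node (nat_lit 0xf0843854e) (.leaf (nat_lit 0xf08420e7a) (nat_lit 1540))
 (.leaf (nat_lit 0xf0843854e) (nat_lit 1793))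
) (.node (nat_lit 0xf0e563def) (.leaf (nat_lit 0xf0843875e) (nat_lit 1793))
 (.node (nat_lit 0xf0e563e7a) (.leaf (nat_lit 0xf0e563def) (nat_lit 1027))
 (.leaf (nat_lit 0xf0e563e7a) (nat_lit 1283))
))))) (.node (nat_lit 0xf153b875e) (.node (nat_lit 0xf10238395) (.node (nat_lit 0xf10220ab1) (.node (nat_lit 0xf0e57879d) (.leaf (nat_lit 0xf0e578408) (nat_lit 1538))
 (.leaf (nat_lit 0xf0e57879d) (nat_lit 1537))
) (.node (nat_lit 0xf10220eb9) (.leaf (nat_lit 0xf10220ab1) (nat_lit 1282))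
 (.leaf (nat_lit 0xf10220eb9) (nat_lit 1284))
)) (.node (nat_lit 0xf153a3bf7) (.node (nat_lit 0xf1023879d) (.leaf (nat_lit 0xf10238395) (nat_lit 1537))
 (.leaf (nat_lit 0xf1023879d) (nat_lit 1537))
) (.node (nat_lit 0xf153a3eb9) (.leaf (nat_lit 0xf153a3bf7) (nat_lit 771))
 (.node (nat_lit 0xf153b8210) (.leaf (nat_lit 0xf153a3eb9) (nat_lit 1027))
 (.leaf (nat_lit 0xf153b8210) (nat_lit 1794))
)))) (.node (nat_lit 0xf1d7bbdef) (.node (nat_lit 0xf1d7b854e) (.node (nat_lit 0xf1d7b8210) (.leaf (nat_lit 0xf153b875e) (nat_lit 1793))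
 (.leaf (nat_lit 0xf1d7b8210) (nat_lit 1794))
) (.node (nat_lit 0xf1d7bbab1) (.leaf (nat_lit 0xf1d7b854e) (nat_lit 1793))
 (.leaf (nat_lit 0xf1d7bbab1) (nat_lit 1284))
)) (.node (nat_lit 0xf1e778408) (.node (nat_lit 0xf1e778395) (.leaf (nat_lit 0xf1d7bbdef) (nat_lit 1025))
 (.leaf (nat_lit 0xf1e778395) (nat_lit 1537))
) (.node (nat_lit 0xf1e77bbf7) (.leaf (nat_lit 0xf1e778408) (nat_lit 1538))
 (.node (nat_lit 0xf1e77bc6a) (.leaf (nat_lit 0xf1e77bbf7) (nat_lit 1281))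
 (.leaf (nat_lit 0xf1e77bc6a) (nat_lit 1540))
))))))) (.node (nat_lit 0xfd73e3bb5) (.node (nat_lit 0xf39ea3395) (.node (nat_lit 0xf31aa0e7a) (.node (nat_lit 0xf2fde354e) (.node (nat_lit 0xf2ac7b75e) (.node (nat_lit 0xf2ac60eb9) (.leaf (nat_lit 0xf2ac60408) (nat_lit 1539))
 (.leaf (nat_lit 0xf2ac60eb9) (nat_lit 1283))
) (.node (nat_lit 0xf2ac7bdef) (.leaf (nat_lit 0xf2ac7b75e) (nat_lit 1026))
 (.leaf (nat_lit 0xf2ac7bdef) (nat_lit 1284))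
)) (.node (nat_lit 0xf2fdfb79d) (.node (nat_lit 0xf2fde3eb9) (.leaf (nat_lit 0xf2fde354e) (nat_lit 1028))
 (.leaf (nat_lit 0xf2fde3eb9) (nat_lit 513))
) (.node (nat_lit 0xf2fdfbc6a) (.leaf (nat_lit 0xf2fdfb79d) (nat_lit 1540))
 (.node (nat_lit 0xf31aa0210) (.leaf (nat_lit 0xf2fdfbc6a) (nat_lit 1281))
 (.leaf (nat_lit 0xf31aa0210) (nat_lit 1795))
)))) (.node (nat_lit 0xf37be3e7a) (.node (nat_lit 0xf31abbbf7) (.node (nat_lit 0xf31abb79d) (.leaf (nat_lit 0xf31aa0e7a) (nat_lit 1539))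
 (.leaf (nat_lit 0xf31abb79d) (nat_lit 1282))
) (.node (nat_lit 0xf37be3395) (.leaf (nat_lit 0xf31abbbf7) (nat_lit 1540))
 (.leaf (nat_lit 0xf37be3395) (nat_lit 1284))
)) (.node (nat_lit 0xf37bfbab1) (.node (nat_lit 0xf37bfb75e) (.leaf (nat_lit 0xf37be3e7a) (nat_lit 769))
 (.leaf (nat_lit 0xf37bfb75e) (nat_lit 1284))
) (.node (nat_lit 0xf39ea0210) (.leaf (nat_lit 0xf37bfbab1) (nat_lit 1025))
 (.node (nat_lit 0xf39ea0c6a) (.leaf (nat_lit 0xf39ea0210) (nat_lit 1281))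
 (.leaf (nat_lit 0xf39ea0c6a) (nat_lit 1796))
))))) (.node (nat_lit 0xfc94bb79d) (.node (nat_lit 0xf3ae6354e) (.node (nat_lit 0xf3ae60408) (.node (nat_lit 0xf39ea3def) (.leaf (nat_lit 0xf39ea3395) (nat_lit 1283))
 (.leaf (nat_lit 0xf39ea3def) (nat_lit 1028))
) (.node (nat_lit 0xf3ae60ab1) (.leaf (nat_lit 0xf3ae60408) (nat_lit 1025))
 (.leaf (nat_lit 0xf3ae60ab1) (nat_lit 1540))
)) (.node (nat_lit 0xfc94a0ceb) (.node (nat_lit 0xf3ae63bf7) (.leaf (nat_lit 0xf3ae6354e) (nat_lit 1027))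
 (.leaf (nat_lit 0xf3ae63bf7) (nat_lit 772))
) (.node (nat_lit 0xfc94a0eb9) (.leaf (nat_lit 0xfc94a0ceb) (nat_lit 1796))
 (.node (nat_lit 0xfc94bb5cf) (.leaf (nat_lit 0xfc94a0eb9) (nat_lit 1794))
 (.leaf (nat_lit 0xfc94bb5cf) (nat_lit 1795))
)))) (.node (nat_lit 0xfcf5fb75e) (.node (nat_lit 0xfcf5e3eb9) (.node (nat_lit 0xfcf5e3d6e) (.leaf (nat_lit 0xfc94bb79d) (nat_lit 1539))
 (.leaf (nat_lit 0xfcf5e3d6e) (nat_lit 1539))
) (.node (nat_lit 0xfcf5fb489) (.leaf (nat_lit 0xfcf5e3eb9) (nat_lit 1284))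
 (.leaf (nat_lit 0xfcf5fb489) (nat_lit 1539))
)) (.node (nat_lit 0xfd2260e7a) (.node (nat_lit 0xfd2260af3) (.leaf (nat_lit 0xfcf5fb75e) (nat_lit 1284))
 (.leaf (nat_lit 0xfd2260af3) (nat_lit 1540))
) (.node (nat_lit 0xfd227b3d7) (.leaf (nat_lit 0xfd2260e7a) (nat_lit 1538))
 (.node (nat_lit 0xfd227b75e) (.leaf (nat_lit 0xfd227b3d7) (nat_lit 1539))
 (.leaf (nat_lit 0xfd227b75e) (nat_lit 1283))
)))))) (.node (nat_lit 0xfeed7875e) (.node (nat_lit 0xfde778d6e) (.node (nat_lit 0xfdd7b8bb5) (.node (nat_lit 0xfd73fb252) (.node (nat_lit 0xfd73e3e7a) (.leaf (nat_lit 0xfd73e3bb5) (nat_lit 1283))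
 (.leaf (nat_lit 0xfd73e3e7a) (nat_lit 1028))
) (.node (nat_lit 0xfd73fb79d) (.leaf (nat_lit 0xfd73fb252) (nat_lit 1538))
 (.leaf (nat_lit 0xfd73fb79d) (nat_lit 1540))
)) (.node (nat_lit 0xfdd7bb3d7) (.node (nat_lit 0xfdd7b8ceb) (.leaf (nat_lit 0xfdd7b8bb5) (nat_lit 1283))
 (.leaf (nat_lit 0xfdd7b8ceb) (nat_lit 1028))
) (.node (nat_lit 0xfdd7bb489) (.leaf (nat_lit 0xfdd7bb3d7) (nat_lit 1025))
 (.node (nat_lit 0xfde778af3) (.leaf (nat_lit 0xfdd7bb489) (nat_lit 1540))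
 (.leaf (nat_lit 0xfde778af3) (nat_lit 772))
)))) (.node (nat_lit 0xfebce0e7a) (.node (nat_lit 0xfde77b5cf) (.node (nat_lit 0xfde77b252) (.leaf (nat_lit 0xfde778d6e) (nat_lit 1027))
 (.leaf (nat_lit 0xfde77b252) (nat_lit 1796))
) (.node (nat_lit 0xfebce0489) (.leaf (nat_lit 0xfde77b5cf) (nat_lit 1281))
 (.leaf (nat_lit 0xfebce0489) (nat_lit 1281))
)) (.node (nat_lit 0xfebcf8d6e) (.node (nat_lit 0xfebcf879d) (.leaf (nat_lit 0xfebce0e7a) (nat_lit 1793))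
 (.leaf (nat_lit 0xfebcf879d) (nat_lit 514))
) (.node (nat_lit 0xfeed635cf) (.leaf (nat_lit 0xfebcf8d6e) (nat_lit 1028))
 (.node (nat_lit 0xfeed63e7a) (.leaf (nat_lit 0xfeed635cf) (nat_lit 1283))
 (.leaf (nat_lit 0xfeed63e7a) (nat_lit 1025))
))))) (.node (nat_lit 0xff5bb8af3) (.node (nat_lit 0xff3af875e) (.node (nat_lit 0xff3ae0252) (.node (nat_lit 0xfeed78ceb) (.leaf (nat_lit 0xfeed7875e) (nat_lit 1283))
 (.leaf (nat_lit 0xfeed78ceb) (nat_lit 1027))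
) (.node (nat_lit 0xff3ae0eb9) (.leaf (nat_lit 0xff3ae0252) (nat_lit 1537))
 (.leaf (nat_lit 0xff3ae0eb9) (nat_lit 2049))
)) (.node (nat_lit 0xff5ba33d7) (.node (nat_lit 0xff3af8bb5) (.leaf (nat_lit 0xff3af875e) (nat_lit 770))
 (.leaf (nat_lit 0xff3af8bb5) (nat_lit 1284))
) (.node (nat_lit 0xff5ba3eb9) (.leaf (nat_lit 0xff5ba33d7) (nat_lit 1539))
 (.node (nat_lit 0xff5bb879d) (.leaf (nat_lit 0xff5ba3eb9) (nat_lit 1281))
 (.leaf (nat_lit 0xff5bb879d) (nat_lit 1027))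
)))) (.node (nat_lit 0xff9ea3bb5) (.node (nat_lit 0xff9ea0af3) (.node (nat_lit 0xff9ea0489) (.leaf (nat_lit 0xff5bb8af3) (nat_lit 771))
 (.leaf (nat_lit 0xff9ea0489) (nat_lit 1537))
) (.node (nat_lit 0xff9ea35cf) (.leaf (nat_lit 0xff9ea0af3) (nat_lit 1539))
 (.leaf (nat_lit 0xff9ea35cf) (nat_lit 770))
)) (.node (nat_lit 0xffae60ceb) (.node (nat_lit 0xffae60252) (.leaf (nat_lit 0xff9ea3bb5) (nat_lit 1284))
 (.leaf (nat_lit 0xffae60252) (nat_lit 1793))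
) (.node (nat_lit 0xffae633d7) (.leaf (nat_lit 0xffae60ceb) (nat_lit 1795))
 (.node (nat_lit 0xffae63d6e) (.leaf (nat_lit 0xffae633d7) (nat_lit 1026))
 (.leaf (nat_lit 0xffae63d6e) (nat_lit 1540))
))))))))))

theorem L6_ok : genOK B6.A [(nat_lit 0x808404042), (nat_lit 0xe2bcc779d), (nat_lit 0x910220081), (nat_lit 0x812244408), (nat_lit 0x802044408)] L6_t (nat_lit 576) = true := by decide +kernel

noncomputable def E6_t : ST :=
(.node (nat_lit 0xe0840475e) (.node (nat_lit 0x8cf5c4042) (.node (nat_lit 0x82bcc7042) (.node (nat_lit 0x810204081) (.node (nat_lit 0x80841ce7a) (.leaf (nat_lit 0x808404042) (nat_lit 512))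
 (.leaf (nat_lit 0x80841ce7a) (nat_lit 771))
) (.node (nat_lit 0x81021ceb9) (.leaf (nat_lit 0x810204081) (nat_lit 0))
 (.leaf (nat_lit 0x81021ceb9) (nat_lit 770))
)) (.node (nat_lit 0x833ac7081) (.node (nat_lit 0x82bcdfe7a) (.leaf (nat_lit 0x82bcc7042) (nat_lit 770))
 (.leaf (nat_lit 0x82bcdfe7a) (nat_lit 515))
) (.node (nat_lit 0x833adfeb9) (.leaf (nat_lit 0x833ac7081) (nat_lit 770))
 (.leaf (nat_lit 0x833adfeb9) (nat_lit 1027))
))) (.node (nat_lit 0x8efdc7042) (.node (nat_lit 0x8d73c4081) (.node (nat_lit 0x8cf5dceb9) (.leaf (nat_lit 0x8cf5c4042) (nat_lit 1027))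
 (.leaf (nat_lit 0x8cf5dceb9) (nat_lit 770))
) (.node (nat_lit 0x8d73dce7a) (.leaf (nat_lit 0x8d73c4081) (nat_lit 515))
 (.leaf (nat_lit 0x8d73dce7a) (nat_lit 258))
)) (.node (nat_lit 0x8f7bc7081) (.node (nat_lit 0x8efddfeb9) (.leaf (nat_lit 0x8efdc7042) (nat_lit 771))
 (.leaf (nat_lit 0x8efddfeb9) (nat_lit 512))
) (.node (nat_lit 0x8f7bdfe7a) (.leaf (nat_lit 0x8f7bc7081) (nat_lit 770))
 (.leaf (nat_lit 0x8f7bdfe7a) (nat_lit 513))
)))) (.node (nat_lit 0xecf5c475e) (.node (nat_lit 0xe2bcc779d) (.node (nat_lit 0xe1020479d) (.node (nat_lit 0xe0841cf7e) (.leaf (nat_lit 0xe0840475e) (nat_lit 1026))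
 (.leaf (nat_lit 0xe0841cf7e) (nat_lit 771))
) (.node (nat_lit 0xe1021cfbd) (.leaf (nat_lit 0xe1020479d) (nat_lit 514))
 (.leaf (nat_lit 0xe1021cfbd) (nat_lit 771))
)) (.node (nat_lit 0xe33ac775e) (.node (nat_lit 0xe2bcdffbd) (.leaf (nat_lit 0xe2bcc779d) (nat_lit 256))
 (.leaf (nat_lit 0xe2bcdffbd) (nat_lit 515))
) (.node (nat_lit 0xe33adff7e) (.leaf (nat_lit 0xe33ac775e) (nat_lit 768))
 (.leaf (nat_lit 0xe33adff7e) (nat_lit 514))
))) (.node (nat_lit 0xeefdc779d) (.node (nat_lit 0xed73c479d) (.node (nat_lit 0xecf5dcfbd) (.leaf (nat_lit 0xecf5c475e) (nat_lit 1027))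
 (.leaf (nat_lit 0xecf5dcfbd) (nat_lit 257))
) (.node (nat_lit 0xed73dcf7e) (.leaf (nat_lit 0xed73c479d) (nat_lit 1026))
 (.leaf (nat_lit 0xed73dcf7e) (nat_lit 769))
)) (.node (nat_lit 0xef7bc775e) (.node (nat_lit 0xeefddff7e) (.leaf (nat_lit 0xeefdc779d) (nat_lit 771))
 (.leaf (nat_lit 0xeefddff7e) (nat_lit 514))
) (.node (nat_lit 0xef7bdffbd) (.leaf (nat_lit 0xef7bc775e) (nat_lit 259))
 (.leaf (nat_lit 0xef7bdffbd) (nat_lit 1026))
)))))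

theorem E6_ok : genOK B6.A [(nat_lit 0xe2bcc779d), (nat_lit 0xecf5dcfbd), (nat_lit 0x8d73dce7a), (nat_lit 0xef7bc775e)] E6_t (nat_lit 32) = true := by decide +kernel

noncomputable def gC6_t : ST :=
(.node (nat_lit 0x9010a0252) (.node (nat_lit 0x481110264) (.node (nat_lit 0x212101424) (.node (nat_lit 0x102224481) (.node (nat_lit 0x81912260) (.node (nat_lit 0x52809404) (.node (nat_lit 0x44489910) (.node (nat_lit 0x429094a0) (.node (nat_lit 0x42809484) (.leaf (nat_lit 0x421094a4) (nat_lit 1033))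
 (.leaf (nat_lit 0x42809484) (nat_lit 1032))
) (.node (nat_lit 0x44089912) (.leaf (nat_lit 0x429094a0) (nat_lit 1288))
 (.node (nat_lit 0x44409902) (.leaf (nat_lit 0x44089912) (nat_lit 1031))
 (.leaf (nat_lit 0x44409902) (nat_lit 775))
))) (.node (nat_lit 0x50809084) (.node (nat_lit 0x501090a4) (.leaf (nat_lit 0x44489910) (nat_lit 1031))
 (.leaf (nat_lit 0x501090a4) (nat_lit 1032))
) (.node (nat_lit 0x509090a0) (.leaf (nat_lit 0x50809084) (nat_lit 776))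
 (.node (nat_lit 0x52109424) (.leaf (nat_lit 0x509090a0) (nat_lit 1032))
 (.leaf (nat_lit 0x52109424) (nat_lit 1288))
)))) (.node (nat_lit 0x64089812) (.node (nat_lit 0x60089112) (.node (nat_lit 0x52909420) (.leaf (nat_lit 0x52809404) (nat_lit 1032))
 (.leaf (nat_lit 0x52909420) (nat_lit 1289))
) (.node (nat_lit 0x60409102) (.leaf (nat_lit 0x60089112) (nat_lit 775))
 (.node (nat_lit 0x60489110) (.leaf (nat_lit 0x60409102) (nat_lit 519))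
 (.leaf (nat_lit 0x60489110) (nat_lit 775))
))) (.node (nat_lit 0x64489810) (.node (nat_lit 0x64409802) (.leaf (nat_lit 0x64089812) (nat_lit 1031))
 (.leaf (nat_lit 0x64409802) (nat_lit 775))
) (.node (nat_lit 0x81112264) (.leaf (nat_lit 0x64489810) (nat_lit 1031))
 (.node (nat_lit 0x81812244) (.leaf (nat_lit 0x81112264) (nat_lit 1030))
 (.leaf (nat_lit 0x81812244) (nat_lit 774))
))))) (.node (nat_lit 0xa0052109) (.node (nat_lit 0x88812044) (.node (nat_lit 0x84212901) (.node (nat_lit 0x84052909) (.leaf (nat_lit 0x81912260) (nat_lit 1030))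
 (.leaf (nat_lit 0x84052909) (nat_lit 1033))
) (.node (nat_lit 0x84252908) (.leaf (nat_lit 0x84212901) (nat_lit 1032))
 (.node (nat_lit 0x88112064) (.leaf (nat_lit 0x84252908) (nat_lit 1288))
 (.leaf (nat_lit 0x88112064) (nat_lit 774))
))) (.node (nat_lit 0x89112224) (.node (nat_lit 0x88912060) (.leaf (nat_lit 0x88812044) (nat_lit 518))
 (.leaf (nat_lit 0x88912060) (nat_lit 774))
) (.node (nat_lit 0x89812204) (.leaf (nat_lit 0x89112224) (nat_lit 1030))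
 (.node (nat_lit 0x89912220) (.leaf (nat_lit 0x89812204) (nat_lit 774))
 (.leaf (nat_lit 0x89912220) (nat_lit 1030))
)))) (.node (nat_lit 0xa4252808) (.node (nat_lit 0xa0252108) (.node (nat_lit 0xa0212101) (.leaf (nat_lit 0xa0052109) (nat_lit 1032))
 (.leaf (nat_lit 0xa0212101) (nat_lit 776))
) (.node (nat_lit 0xa4052809) (.leaf (nat_lit 0xa0252108) (nat_lit 1032))
 (.node (nat_lit 0xa4212801) (.leaf (nat_lit 0xa4052809) (nat_lit 1288))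
 (.leaf (nat_lit 0xa4212801) (nat_lit 1032))
))) (.node (nat_lit 0x101424242) (.node (nat_lit 0x1010a4252) (.leaf (nat_lit 0xa4252808) (nat_lit 1288))
 (.leaf (nat_lit 0x1010a4252) (nat_lit 1032))
) (.node (nat_lit 0x1014a4250) (.leaf (nat_lit 0x101424242) (nat_lit 776))
 (.node (nat_lit 0x102064489) (.leaf (nat_lit 0x1014a4250) (nat_lit 1032))
 (.leaf (nat_lit 0x102064489) (nat_lit 773))
)))))) (.node (nat_lit 0x1eb77f7ae) (.node (nat_lit 0x110264088) (.node (nat_lit 0x1090a4212) (.node (nat_lit 0x1080a4052) (.node (nat_lit 0x102264488) (.leaf (nat_lit 0x102224481) (nat_lit 517))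
 (.leaf (nat_lit 0x102264488) (nat_lit 773))
) (.node (nat_lit 0x108424042) (.leaf (nat_lit 0x1080a4052) (nat_lit 776))
 (.node (nat_lit 0x1084a4050) (.leaf (nat_lit 0x108424042) (nat_lit 520))
 (.leaf (nat_lit 0x1084a4050) (nat_lit 776))
))) (.node (nat_lit 0x1094a4210) (.node (nat_lit 0x109424202) (.leaf (nat_lit 0x1090a4212) (nat_lit 1032))
 (.leaf (nat_lit 0x109424202) (nat_lit 776))
) (.node (nat_lit 0x110064089) (.leaf (nat_lit 0x1094a4210) (nat_lit 1032))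
 (.node (nat_lit 0x110224081) (.leaf (nat_lit 0x110064089) (nat_lit 517))
 (.leaf (nat_lit 0x110224081) (nat_lit 261))
)))) (.node (nat_lit 0x1ddaffb9e) (.node (nat_lit 0x112224401) (.node (nat_lit 0x112064409) (.leaf (nat_lit 0x110264088) (nat_lit 517))
 (.leaf (nat_lit 0x112064409) (nat_lit 773))
) (.node (nat_lit 0x112264408) (.leaf (nat_lit 0x112224401) (nat_lit 517))
 (.node (nat_lit 0x1dd7bfbb5) (.leaf (nat_lit 0x112264408) (nat_lit 773))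
 (.leaf (nat_lit 0x1dd7bfbb5) (nat_lit 1031))
))) (.node (nat_lit 0x1de77fd6e) (.node (nat_lit 0x1ddd7fbab) (.leaf (nat_lit 0x1ddaffb9e) (nat_lit 773))
 (.leaf (nat_lit 0x1ddd7fbab) (nat_lit 773))
) (.node (nat_lit 0x1debbfd73) (.leaf (nat_lit 0x1de77fd6e) (nat_lit 1030))
 (.node (nat_lit 0x1decffd5d) (.leaf (nat_lit 0x1debbfd73) (nat_lit 773))
 (.leaf (nat_lit 0x1decffd5d) (nat_lit 773))
))))) (.node (nat_lit 0x1f5bbfaf3) (.node (nat_lit 0x1eed7fceb) (.node (nat_lit 0x1ebcff79d) (.node (nat_lit 0x1ebbbf7b3) (.leaf (nat_lit 0x1eb77f7ae) (nat_lit 773))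
 (.leaf (nat_lit 0x1ebbbf7b3) (nat_lit 773))
) (.node (nat_lit 0x1ee7bfcf5) (.leaf (nat_lit 0x1ebcff79d) (nat_lit 517))
 (.node (nat_lit 0x1eeaffcde) (.leaf (nat_lit 0x1ee7bfcf5) (nat_lit 773))
 (.leaf (nat_lit 0x1eeaffcde) (nat_lit 773))
))) (.node (nat_lit 0x1f3aff75e) (.node (nat_lit 0x1f37bf775) (.leaf (nat_lit 0x1eed7fceb) (nat_lit 1029))
 (.leaf (nat_lit 0x1f37bf775) (nat_lit 773))
) (.node (nat_lit 0x1f3d7f76b) (.leaf (nat_lit 0x1f3aff75e) (nat_lit 517))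
 (.node (nat_lit 0x1f577faee) (.leaf (nat_lit 0x1f3d7f76b) (nat_lit 773))
 (.leaf (nat_lit 0x1f577faee) (nat_lit 773))
)))) (.node (nat_lit 0x204081912) (.node (nat_lit 0x2021014a4) (.node (nat_lit 0x1f5cffadd) (.leaf (nat_lit 0x1f5bbfaf3) (nat_lit 1029))
 (.leaf (nat_lit 0x1f5cffadd) (nat_lit 773))
) (.node (nat_lit 0x202801484) (.leaf (nat_lit 0x2021014a4) (nat_lit 1032))
 (.node (nat_lit 0x2029014a0) (.leaf (nat_lit 0x202801484) (nat_lit 776))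
 (.leaf (nat_lit 0x2029014a0) (nat_lit 1032))
))) (.node (nat_lit 0x2101010a4) (.node (nat_lit 0x204401902) (.leaf (nat_lit 0x204081912) (nat_lit 775))
 (.node (nat_lit 0x204481910) (.leaf (nat_lit 0x204401902) (nat_lit 519))
 (.leaf (nat_lit 0x204481910) (nat_lit 775))
)) (.node (nat_lit 0x210801084) (.leaf (nat_lit 0x2101010a4) (nat_lit 776))
 (.node (nat_lit 0x2109010a0) (.leaf (nat_lit 0x210801084) (nat_lit 520))
 (.leaf (nat_lit 0x2109010a0) (nat_lit 776))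
))))))) (.node (nat_lit 0x3ba8f755f) (.node (nat_lit 0x252908420) (.node (nat_lit 0x242808484) (.node (nat_lit 0x220481110) (.node (nat_lit 0x212901420) (.node (nat_lit 0x212801404) (.leaf (nat_lit 0x212101424) (nat_lit 1032))
 (.leaf (nat_lit 0x212801404) (nat_lit 776))
) (.node (nat_lit 0x220081112) (.leaf (nat_lit 0x212901420) (nat_lit 1032))
 (.node (nat_lit 0x220401102) (.leaf (nat_lit 0x220081112) (nat_lit 519))
 (.leaf (nat_lit 0x220401102) (nat_lit 263))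
))) (.node (nat_lit 0x224401802) (.node (nat_lit 0x224081812) (.leaf (nat_lit 0x220481110) (nat_lit 519))
 (.leaf (nat_lit 0x224081812) (nat_lit 775))
) (.node (nat_lit 0x224481810) (.leaf (nat_lit 0x224401802) (nat_lit 519))
 (.node (nat_lit 0x2421084a4) (.leaf (nat_lit 0x224481810) (nat_lit 775))
 (.leaf (nat_lit 0x2421084a4) (nat_lit 1288))
)))) (.node (nat_lit 0x2501080a4) (.node (nat_lit 0x244088912) (.node (nat_lit 0x2429084a0) (.leaf (nat_lit 0x242808484) (nat_lit 1032))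
 (.leaf (nat_lit 0x2429084a0) (nat_lit 1288))
) (.node (nat_lit 0x244408902) (.leaf (nat_lit 0x244088912) (nat_lit 1031))
 (.node (nat_lit 0x244488910) (.leaf (nat_lit 0x244408902) (nat_lit 775))
 (.leaf (nat_lit 0x244488910) (nat_lit 1031))
))) (.node (nat_lit 0x2509080a0) (.node (nat_lit 0x250808084) (.leaf (nat_lit 0x2501080a4) (nat_lit 1032))
 (.leaf (nat_lit 0x250808084) (nat_lit 776))
) (.node (nat_lit 0x252108424) (.leaf (nat_lit 0x2509080a0) (nat_lit 1032))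
 (.node (nat_lit 0x252808404) (.leaf (nat_lit 0x252108424) (nat_lit 1288))
 (.leaf (nat_lit 0x252808404) (nat_lit 1032))
))))) (.node (nat_lit 0x39f577f2f) (.node (nat_lit 0x264408802) (.node (nat_lit 0x260408102) (.node (nat_lit 0x260088112) (.leaf (nat_lit 0x252908420) (nat_lit 1033))
 (.leaf (nat_lit 0x260088112) (nat_lit 775))
) (.node (nat_lit 0x260488110) (.leaf (nat_lit 0x260408102) (nat_lit 519))
 (.node (nat_lit 0x264088812) (.leaf (nat_lit 0x260488110) (nat_lit 775))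
 (.leaf (nat_lit 0x264088812) (nat_lit 1031))
))) (.node (nat_lit 0x3957f7bfc) (.node (nat_lit 0x264488810) (.leaf (nat_lit 0x264408802) (nat_lit 775))
 (.leaf (nat_lit 0x264488810) (nat_lit 1031))
) (.node (nat_lit 0x3958f7bdf) (.leaf (nat_lit 0x3957f7bfc) (nat_lit 778))
 (.node (nat_lit 0x395f37be3) (.leaf (nat_lit 0x3958f7bdf) (nat_lit 777))
 (.leaf (nat_lit 0x395f37be3) (nat_lit 1029))
)))) (.node (nat_lit 0x3a3eb77d5) (.node (nat_lit 0x39feb7f15) (.node (nat_lit 0x39fbf7f3a) (.leaf (nat_lit 0x39f577f2f) (nat_lit 777))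
 (.leaf (nat_lit 0x39fbf7f3a) (nat_lit 1029))
) (.node (nat_lit 0x3a35777ef) (.leaf (nat_lit 0x39feb7f15) (nat_lit 1029))
 (.node (nat_lit 0x3a3bf77fa) (.leaf (nat_lit 0x3a35777ef) (nat_lit 778))
 (.leaf (nat_lit 0x3a3bf77fa) (nat_lit 1029))
))) (.node (nat_lit 0x3af8f7e9f) (.node (nat_lit 0x3af7f7ebc) (.leaf (nat_lit 0x3a3eb77d5) (nat_lit 773))
 (.leaf (nat_lit 0x3af7f7ebc) (nat_lit 1029))
) (.node (nat_lit 0x3aff37ea3) (.leaf (nat_lit 0x3af8f7e9f) (nat_lit 1029))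
 (.node (nat_lit 0x3ba7f757c) (.leaf (nat_lit 0x3aff37ea3) (nat_lit 1030))
 (.leaf (nat_lit 0x3ba7f757c) (nat_lit 1029))
)))))) (.node (nat_lit 0x3fd73eaa7) (.node (nat_lit 0x3dcf7e9ea) (.node (nat_lit 0x3d773ef67) (.node (nat_lit 0x3bc5778ef) (.node (nat_lit 0x3baf37563) (.leaf (nat_lit 0x3ba8f755f) (nat_lit 773))
 (.leaf (nat_lit 0x3baf37563) (nat_lit 1029))
) (.node (nat_lit 0x3bcbf78fa) (.leaf (nat_lit 0x3bc5778ef) (nat_lit 1029))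
 (.node (nat_lit 0x3bceb78d5) (.leaf (nat_lit 0x3bcbf78fa) (nat_lit 1031))
 (.leaf (nat_lit 0x3bceb78d5) (nat_lit 1029))
))) (.node (nat_lit 0x3d7efef5c) (.node (nat_lit 0x3d79fef7b) (.leaf (nat_lit 0x3d773ef67) (nat_lit 774))
 (.leaf (nat_lit 0x3d79fef7b) (nat_lit 1029))
) (.node (nat_lit 0x3dc5fe9fd) (.leaf (nat_lit 0x3d7efef5c) (nat_lit 1029))
 (.node (nat_lit 0x3dcabe9d7) (.leaf (nat_lit 0x3dc5fe9fd) (nat_lit 775))
 (.leaf (nat_lit 0x3dcabe9d7) (nat_lit 1033))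
)))) (.node (nat_lit 0x3ea9fe5fb) (.node (nat_lit 0x3e7abeed7) (.node (nat_lit 0x3e75feefd) (.leaf (nat_lit 0x3dcf7e9ea) (nat_lit 1029))
 (.leaf (nat_lit 0x3e75feefd) (nat_lit 1029))
) (.node (nat_lit 0x3e7f7eeea) (.leaf (nat_lit 0x3e7abeed7) (nat_lit 1029))
 (.node (nat_lit 0x3ea73e5e7) (.leaf (nat_lit 0x3e7f7eeea) (nat_lit 1028))
 (.leaf (nat_lit 0x3ea73e5e7) (nat_lit 1034))
))) (.node (nat_lit 0x3fb5fe73d) (.node (nat_lit 0x3eaefe5dc) (.leaf (nat_lit 0x3ea9fe5fb) (nat_lit 1029))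
 (.leaf (nat_lit 0x3eaefe5dc) (nat_lit 773))
) (.node (nat_lit 0x3fbabe717) (.leaf (nat_lit 0x3fb5fe73d) (nat_lit 1029))
 (.node (nat_lit 0x3fbf7e72a) (.leaf (nat_lit 0x3fbabe717) (nat_lit 773))
 (.leaf (nat_lit 0x3fbf7e72a) (nat_lit 1029))
))))) (.node (nat_lit 0x408802044) (.node (nat_lit 0x401902260) (.node (nat_lit 0x3fdefea9c) (.node (nat_lit 0x3fd9feabb) (.leaf (nat_lit 0x3fd73eaa7) (nat_lit 1029))
 (.leaf (nat_lit 0x3fd9feabb) (nat_lit 1028))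
) (.node (nat_lit 0x401102264) (.leaf (nat_lit 0x3fdefea9c) (nat_lit 1029))
 (.node (nat_lit 0x401802244) (.leaf (nat_lit 0x401102264) (nat_lit 774))
 (.leaf (nat_lit 0x401802244) (nat_lit 518))
))) (.node (nat_lit 0x404202901) (.node (nat_lit 0x404042909) (.leaf (nat_lit 0x401902260) (nat_lit 774))
 (.leaf (nat_lit 0x404042909) (nat_lit 1032))
) (.node (nat_lit 0x404242908) (.leaf (nat_lit 0x404202901) (nat_lit 776))
 (.node (nat_lit 0x408102064) (.leaf (nat_lit 0x404242908) (nat_lit 1032))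
 (.leaf (nat_lit 0x408102064) (nat_lit 518))
)))) (.node (nat_lit 0x420042109) (.node (nat_lit 0x409102224) (.node (nat_lit 0x408902060) (.leaf (nat_lit 0x408802044) (nat_lit 262))
 (.leaf (nat_lit 0x408902060) (nat_lit 518))
) (.node (nat_lit 0x409802204) (.leaf (nat_lit 0x409102224) (nat_lit 774))
 (.node (nat_lit 0x409902220) (.leaf (nat_lit 0x409802204) (nat_lit 518))
 (.leaf (nat_lit 0x409902220) (nat_lit 774))
))) (.node (nat_lit 0x424042809) (.node (nat_lit 0x420202101) (.leaf (nat_lit 0x420042109) (nat_lit 776))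
 (.node (nat_lit 0x420242108) (.leaf (nat_lit 0x420202101) (nat_lit 520))
 (.leaf (nat_lit 0x420242108) (nat_lit 776))
)) (.node (nat_lit 0x424202801) (.leaf (nat_lit 0x424042809) (nat_lit 1032))
 (.node (nat_lit 0x424242808) (.leaf (nat_lit 0x424202801) (nat_lit 776))
 (.leaf (nat_lit 0x424242808) (nat_lit 1032))
)))))))) (.node (nat_lit 0x7751eeaff) (.node (nat_lit 0x5dcc7d9cf) (.node (nat_lit 0x54ef2fde3) (.node (nat_lit 0x489810204) (.node (nat_lit 0x484250908) (.node (nat_lit 0x481910260) (.node (nat_lit 0x481810244) (.leaf (nat_lit 0x481110264) (nat_lit 1030))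
 (.leaf (nat_lit 0x481810244) (nat_lit 774))
) (.node (nat_lit 0x484050909) (.leaf (nat_lit 0x481910260) (nat_lit 1030))
 (.node (nat_lit 0x484210901) (.leaf (nat_lit 0x484050909) (nat_lit 1288))
 (.leaf (nat_lit 0x484210901) (nat_lit 1032))
))) (.node (nat_lit 0x488810044) (.node (nat_lit 0x488110064) (.leaf (nat_lit 0x484250908) (nat_lit 1288))
 (.leaf (nat_lit 0x488110064) (nat_lit 774))
) (.node (nat_lit 0x488910060) (.leaf (nat_lit 0x488810044) (nat_lit 518))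
 (.node (nat_lit 0x489110224) (.leaf (nat_lit 0x488910060) (nat_lit 774))
 (.leaf (nat_lit 0x489110224) (nat_lit 1030))
)))) (.node (nat_lit 0x4a4050809) (.node (nat_lit 0x4a0050109) (.node (nat_lit 0x489910220) (.leaf (nat_lit 0x489810204) (nat_lit 774))
 (.leaf (nat_lit 0x489910220) (nat_lit 1030))
) (.node (nat_lit 0x4a0210101) (.leaf (nat_lit 0x4a0050109) (nat_lit 1032))
 (.node (nat_lit 0x4a0250108) (.leaf (nat_lit 0x4a0210101) (nat_lit 776))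
 (.leaf (nat_lit 0x4a0250108) (nat_lit 1032))
))) (.node (nat_lit 0x4a4250808) (.node (nat_lit 0x4a4210801) (.leaf (nat_lit 0x4a4050809) (nat_lit 1289))
 (.leaf (nat_lit 0x4a4210801) (nat_lit 1032))
) (.node (nat_lit 0x54e7efdfc) (.leaf (nat_lit 0x4a4250808) (nat_lit 1033))
 (.node (nat_lit 0x54e8efddf) (.leaf (nat_lit 0x54e7efdfc) (nat_lit 777))
 (.leaf (nat_lit 0x54e8efddf) (nat_lit 778))
))))) (.node (nat_lit 0x5797ef3bc) (.node (nat_lit 0x563def7f9) (.node (nat_lit 0x55fdeff39) (.node (nat_lit 0x55f3aff37) (.leaf (nat_lit 0x54ef2fde3) (nat_lit 1025))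
 (.leaf (nat_lit 0x55f3aff37) (nat_lit 778))
) (.node (nat_lit 0x55fe6ff0e) (.leaf (nat_lit 0x55fdeff39) (nat_lit 1025))
 (.node (nat_lit 0x5633af7f7) (.leaf (nat_lit 0x55fe6ff0e) (nat_lit 1024))
 (.leaf (nat_lit 0x5633af7f7) (nat_lit 777))
))) (.node (nat_lit 0x5777efe7c) (.node (nat_lit 0x563e6f7ce) (.leaf (nat_lit 0x563def7f9) (nat_lit 1034))
 (.leaf (nat_lit 0x563e6f7ce) (nat_lit 773))
) (.node (nat_lit 0x5778efe5f) (.leaf (nat_lit 0x5777efe7c) (nat_lit 1027))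
 (.node (nat_lit 0x577f2fe63) (.leaf (nat_lit 0x5778efe5f) (nat_lit 1033))
 (.leaf (nat_lit 0x577f2fe63) (nat_lit 1030))
)))) (.node (nat_lit 0x57ce6f8ce) (.node (nat_lit 0x579f2f3a3) (.node (nat_lit 0x5798ef39f) (.leaf (nat_lit 0x5797ef3bc) (nat_lit 1026))
 (.leaf (nat_lit 0x5798ef39f) (nat_lit 773))
) (.node (nat_lit 0x57c3af8f7) (.leaf (nat_lit 0x579f2f3a3) (nat_lit 1031))
 (.node (nat_lit 0x57cdef8f9) (.leaf (nat_lit 0x57c3af8f7) (nat_lit 1027))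
 (.leaf (nat_lit 0x57cdef8f9) (nat_lit 1031))
))) (.node (nat_lit 0x5cf9fdfbb) (.node (nat_lit 0x5cf73dfa7) (.leaf (nat_lit 0x57ce6f8ce) (nat_lit 1030))
 (.leaf (nat_lit 0x5cf73dfa7) (nat_lit 774))
) (.node (nat_lit 0x5cfefdf9c) (.leaf (nat_lit 0x5cf9fdfbb) (nat_lit 1029))
 (.node (nat_lit 0x5dc3fd9fe) (.leaf (nat_lit 0x5cfefdf9c) (nat_lit 1029))
 (.leaf (nat_lit 0x5dc3fd9fe) (nat_lit 775))
)))))) (.node (nat_lit 0x72a3e75fe) (.node (nat_lit 0x5fbfbd731) (.node (nat_lit 0x5f173d3e7) (.node (nat_lit 0x5e73fdefe) (.node (nat_lit 0x5dcfbd9f1) (.leaf (nat_lit 0x5dcc7d9cf) (nat_lit 1034))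
 (.leaf (nat_lit 0x5dcfbd9f1) (nat_lit 1029))
) (.node (nat_lit 0x5e7c7decf) (.leaf (nat_lit 0x5e73fdefe) (nat_lit 1029))
 (.node (nat_lit 0x5e7fbdef1) (.leaf (nat_lit 0x5e7c7decf) (nat_lit 1030))
 (.leaf (nat_lit 0x5e7fbdef1) (nat_lit 1028))
))) (.node (nat_lit 0x5f1efd3dc) (.node (nat_lit 0x5f19fd3fb) (.leaf (nat_lit 0x5f173d3e7) (nat_lit 1033))
 (.leaf (nat_lit 0x5f19fd3fb) (nat_lit 1031))
) (.node (nat_lit 0x5fb3fd73e) (.leaf (nat_lit 0x5f1efd3dc) (nat_lit 773))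
 (.node (nat_lit 0x5fbc7d70f) (.leaf (nat_lit 0x5fb3fd73e) (nat_lit 1029))
 (.leaf (nat_lit 0x5fbc7d70f) (nat_lit 773))
)))) (.node (nat_lit 0x70faa7f97) (.node (nat_lit 0x5fe9fdc7b) (.node (nat_lit 0x5fe73dc67) (.leaf (nat_lit 0x5fbfbd731) (nat_lit 1029))
 (.leaf (nat_lit 0x5fe73dc67) (nat_lit 1029))
) (.node (nat_lit 0x5feefdc5c) (.leaf (nat_lit 0x5fe9fdc7b) (nat_lit 1028))
 (.node (nat_lit 0x70f5e7fbd) (.leaf (nat_lit 0x5feefdc5c) (nat_lit 1029))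
 (.leaf (nat_lit 0x70f5e7fbd) (nat_lit 521))
))) (.node (nat_lit 0x7173e7f7e) (.node (nat_lit 0x70ff67faa) (.leaf (nat_lit 0x70faa7f97) (nat_lit 768))
 (.leaf (nat_lit 0x70ff67faa) (nat_lit 769))
) (.node (nat_lit 0x717c67f4f) (.leaf (nat_lit 0x7173e7f7e) (nat_lit 522))
 (.node (nat_lit 0x717fa7f71) (.leaf (nat_lit 0x717c67f4f) (nat_lit 768))
 (.leaf (nat_lit 0x717fa7f71) (nat_lit 769))
))))) (.node (nat_lit 0x73eaa7c57) (.node (nat_lit 0x731f673ea) (.node (nat_lit 0x72afa75f1) (.node (nat_lit 0x72ac675cf) (.leaf (nat_lit 0x72a3e75fe) (nat_lit 770))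
 (.leaf (nat_lit 0x72ac675cf) (nat_lit 1029))
) (.node (nat_lit 0x7315e73fd) (.leaf (nat_lit 0x72afa75f1) (nat_lit 778))
 (.node (nat_lit 0x731aa73d7) (.leaf (nat_lit 0x7315e73fd) (nat_lit 770))
 (.leaf (nat_lit 0x731aa73d7) (nat_lit 1029))
))) (.node (nat_lit 0x73dc67a8f) (.node (nat_lit 0x73d3e7abe) (.leaf (nat_lit 0x731f673ea) (nat_lit 777))
 (.leaf (nat_lit 0x73d3e7abe) (nat_lit 771))
) (.node (nat_lit 0x73dfa7ab1) (.leaf (nat_lit 0x73dc67a8f) (nat_lit 778))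
 (.node (nat_lit 0x73e5e7c7d) (.leaf (nat_lit 0x73dfa7ab1) (nat_lit 1024))
 (.leaf (nat_lit 0x73e5e7c7d) (nat_lit 771))
)))) (.node (nat_lit 0x75e1eed7f) (.node (nat_lit 0x7477aeff5) (.node (nat_lit 0x73ef67c6a) (.leaf (nat_lit 0x73eaa7c57) (nat_lit 777))
 (.leaf (nat_lit 0x73ef67c6a) (nat_lit 1026))
) (.node (nat_lit 0x747aeefde) (.leaf (nat_lit 0x7477aeff5) (nat_lit 777))
 (.node (nat_lit 0x747d6efeb) (.leaf (nat_lit 0x747aeefde) (nat_lit 1024))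
 (.leaf (nat_lit 0x747d6efeb) (nat_lit 1025))
))) (.node (nat_lit 0x76b1ee7bf) (.node (nat_lit 0x75ee2ed47) (.leaf (nat_lit 0x75e1eed7f) (nat_lit 778))
 (.node (nat_lit 0x75efeed78) (.leaf (nat_lit 0x75ee2ed47) (nat_lit 1024))
 (.leaf (nat_lit 0x75efeed78) (nat_lit 1025))
)) (.node (nat_lit 0x76be2e787) (.leaf (nat_lit 0x76b1ee7bf) (nat_lit 1026))
 (.node (nat_lit 0x76bfee7b8) (.leaf (nat_lit 0x76be2e787) (nat_lit 774))
 (.leaf (nat_lit 0x76bfee7b8) (nat_lit 1034))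
))))))) (.node (nat_lit 0x7f9bfc3ba) (.node (nat_lit 0x7b3ff5778) (.node (nat_lit 0x787bb5ff3) (.node (nat_lit 0x778d6e1eb) (.node (nat_lit 0x775feeaf8) (.node (nat_lit 0x775e2eac7) (.leaf (nat_lit 0x7751eeaff) (nat_lit 1027))
 (.leaf (nat_lit 0x775e2eac7) (nat_lit 774))
) (.node (nat_lit 0x7787ae1f5) (.leaf (nat_lit 0x775feeaf8) (nat_lit 1028))
 (.node (nat_lit 0x778aee1de) (.leaf (nat_lit 0x7787ae1f5) (nat_lit 1026))
 (.leaf (nat_lit 0x778aee1de) (nat_lit 775))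
))) (.node (nat_lit 0x77faeee1e) (.node (nat_lit 0x77f7aee35) (.leaf (nat_lit 0x778d6e1eb) (nat_lit 775))
 (.leaf (nat_lit 0x77f7aee35) (nat_lit 1027))
) (.node (nat_lit 0x77fd6ee2b) (.leaf (nat_lit 0x77faeee1e) (nat_lit 1033))
 (.node (nat_lit 0x787775fee) (.leaf (nat_lit 0x77fd6ee2b) (nat_lit 1028))
 (.leaf (nat_lit 0x787775fee) (nat_lit 778))
)))) (.node (nat_lit 0x7ae1f5cff) (.node (nat_lit 0x79d1f5bbf) (.node (nat_lit 0x787cf5fdd) (.leaf (nat_lit 0x787bb5ff3) (nat_lit 1025))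
 (.leaf (nat_lit 0x787cf5fdd) (nat_lit 1024))
) (.node (nat_lit 0x79de35b87) (.leaf (nat_lit 0x79d1f5bbf) (nat_lit 777))
 (.node (nat_lit 0x79dff5bb8) (.leaf (nat_lit 0x79de35b87) (nat_lit 1024))
 (.leaf (nat_lit 0x79dff5bb8) (nat_lit 1025))
))) (.node (nat_lit 0x7aeff5cf8) (.node (nat_lit 0x7aee35cc7) (.leaf (nat_lit 0x7ae1f5cff) (nat_lit 1027))
 (.leaf (nat_lit 0x7aee35cc7) (nat_lit 774))
) (.node (nat_lit 0x7b31f577f) (.leaf (nat_lit 0x7aeff5cf8) (nat_lit 1028))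
 (.node (nat_lit 0x7b3e35747) (.leaf (nat_lit 0x7b31f577f) (nat_lit 1026))
 (.leaf (nat_lit 0x7b3e35747) (nat_lit 774))
))))) (.node (nat_lit 0x7d53bcbf7) (.node (nat_lit 0x7bfbb5e33) (.node (nat_lit 0x7b8bb51f3) (.node (nat_lit 0x7b87751ee) (.leaf (nat_lit 0x7b3ff5778) (nat_lit 1033))
 (.leaf (nat_lit 0x7b87751ee) (nat_lit 1026))
) (.node (nat_lit 0x7b8cf51dd) (.leaf (nat_lit 0x7b8bb51f3) (nat_lit 775))
 (.node (nat_lit 0x7bf775e2e) (.leaf (nat_lit 0x7b8cf51dd) (nat_lit 775))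
 (.leaf (nat_lit 0x7bf775e2e) (nat_lit 1027))
))) (.node (nat_lit 0x7ce57cdef) (.node (nat_lit 0x7bfcf5e1d) (.leaf (nat_lit 0x7bfbb5e33) (nat_lit 1028))
 (.leaf (nat_lit 0x7bfcf5e1d) (nat_lit 1034))
) (.node (nat_lit 0x7cebfcdfa) (.leaf (nat_lit 0x7ce57cdef) (nat_lit 1034))
 (.node (nat_lit 0x7ceebcdd5) (.leaf (nat_lit 0x7cebfcdfa) (nat_lit 1028))
 (.leaf (nat_lit 0x7ceebcdd5) (nat_lit 1028))
)))) (.node (nat_lit 0x7efe7ce8e) (.node (nat_lit 0x7d5e7cbce) (.node (nat_lit 0x7d5dfcbf9) (.leaf (nat_lit 0x7d53bcbf7) (nat_lit 1033))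
 (.leaf (nat_lit 0x7d5dfcbf9) (nat_lit 1028))
) (.node (nat_lit 0x7ef3bceb7) (.leaf (nat_lit 0x7d5e7cbce) (nat_lit 1028))
 (.node (nat_lit 0x7efdfceb9) (.leaf (nat_lit 0x7ef3bceb7) (nat_lit 1028))
 (.leaf (nat_lit 0x7efdfceb9) (nat_lit 772))
))) (.node (nat_lit 0x7f7bfce7a) (.node (nat_lit 0x7f757ce6f) (.leaf (nat_lit 0x7efe7ce8e) (nat_lit 1030))
 (.leaf (nat_lit 0x7f757ce6f) (nat_lit 1028))
) (.node (nat_lit 0x7f7ebce55) (.leaf (nat_lit 0x7f7bfce7a) (nat_lit 772))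
 (.node (nat_lit 0x7f957c3af) (.leaf (nat_lit 0x7f7ebce55) (nat_lit 1030))
 (.leaf (nat_lit 0x7f957c3af) (nat_lit 1028))
)))))) (.node (nat_lit 0x812044409) (.node (nat_lit 0x802244488) (.node (nat_lit 0x801084252) (.node (nat_lit 0x7fa3bc577) (.node (nat_lit 0x7f9ebc395) (.leaf (nat_lit 0x7f9bfc3ba) (nat_lit 1031))
 (.leaf (nat_lit 0x7f9ebc395) (nat_lit 1031))
) (.node (nat_lit 0x7fadfc579) (.leaf (nat_lit 0x7fa3bc577) (nat_lit 1028))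
 (.node (nat_lit 0x7fae7c54e) (.leaf (nat_lit 0x7fadfc579) (nat_lit 1031))
 (.leaf (nat_lit 0x7fae7c54e) (nat_lit 1030))
))) (.node (nat_lit 0x801484250) (.node (nat_lit 0x801404242) (.leaf (nat_lit 0x801084252) (nat_lit 776))
 (.leaf (nat_lit 0x801404242) (nat_lit 520))
) (.node (nat_lit 0x802044489) (.leaf (nat_lit 0x801484250) (nat_lit 776))
 (.node (nat_lit 0x802204481) (.leaf (nat_lit 0x802044489) (nat_lit 515))
 (.leaf (nat_lit 0x802204481) (nat_lit 259))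
)))) (.node (nat_lit 0x809404202) (.node (nat_lit 0x808404042) (.node (nat_lit 0x808084052) (.leaf (nat_lit 0x802244488) (nat_lit 515))
 (.leaf (nat_lit 0x808084052) (nat_lit 520))
) (.node (nat_lit 0x808484050) (.leaf (nat_lit 0x808404042) (nat_lit 264))
 (.node (nat_lit 0x809084212) (.leaf (nat_lit 0x808484050) (nat_lit 520))
 (.leaf (nat_lit 0x809084212) (nat_lit 776))
))) (.node (nat_lit 0x810044089) (.node (nat_lit 0x809484210) (.leaf (nat_lit 0x809404202) (nat_lit 520))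
 (.leaf (nat_lit 0x809484210) (nat_lit 776))
) (.node (nat_lit 0x810204081) (.leaf (nat_lit 0x810044089) (nat_lit 257))
 (.node (nat_lit 0x810244088) (.leaf (nat_lit 0x810204081) (nat_lit 0))
 (.leaf (nat_lit 0x810244088) (nat_lit 256))
))))) (.node (nat_lit 0x8efddfeb9) (.node (nat_lit 0x8cee9fdd5) (.node (nat_lit 0x812244408) (.node (nat_lit 0x812204401) (.leaf (nat_lit 0x812044409) (nat_lit 514))
 (.leaf (nat_lit 0x812204401) (nat_lit 258))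
) (.node (nat_lit 0x8ce55fdef) (.leaf (nat_lit 0x812244408) (nat_lit 514))
 (.node (nat_lit 0x8cebdfdfa) (.leaf (nat_lit 0x8ce55fdef) (nat_lit 1033))
 (.leaf (nat_lit 0x8cebdfdfa) (nat_lit 1034))
))) (.node (nat_lit 0x8d5ddfbf9) (.node (nat_lit 0x8d539fbf7) (.leaf (nat_lit 0x8cee9fdd5) (nat_lit 1031))
 (.leaf (nat_lit 0x8d539fbf7) (nat_lit 1034))
) (.node (nat_lit 0x8d5e5fbce) (.leaf (nat_lit 0x8d5ddfbf9) (nat_lit 1033))
 (.node (nat_lit 0x8ef39feb7) (.leaf (nat_lit 0x8d5e5fbce) (nat_lit 1030))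
 (.leaf (nat_lit 0x8ef39feb7) (nat_lit 1033))
)))) (.node (nat_lit 0x8f955f3af) (.node (nat_lit 0x8f755fe6f) (.node (nat_lit 0x8efe5fe8e) (.leaf (nat_lit 0x8efddfeb9) (nat_lit 773))
 (.leaf (nat_lit 0x8efe5fe8e) (nat_lit 1030))
) (.node (nat_lit 0x8f7bdfe7a) (.leaf (nat_lit 0x8f755fe6f) (nat_lit 1034))
 (.node (nat_lit 0x8f7e9fe55) (.leaf (nat_lit 0x8f7bdfe7a) (nat_lit 773))
 (.leaf (nat_lit 0x8f7e9fe55) (nat_lit 1031))
))) (.node (nat_lit 0x8fa39f577) (.node (nat_lit 0x8f9bdf3ba) (.leaf (nat_lit 0x8f955f3af) (nat_lit 1031))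
 (.node (nat_lit 0x8f9e9f395) (.leaf (nat_lit 0x8f9bdf3ba) (nat_lit 1031))
 (.leaf (nat_lit 0x8f9e9f395) (nat_lit 775))
)) (.node (nat_lit 0x8faddf579) (.leaf (nat_lit 0x8fa39f577) (nat_lit 1030))
 (.node (nat_lit 0x8fae5f54e) (.leaf (nat_lit 0x8faddf579) (nat_lit 1030))
 (.leaf (nat_lit 0x8fae5f54e) (nat_lit 774))
))))))))) (.node (nat_lit 0xdd57f9bfc) (.node (nat_lit 0xbb51f3aff) (.node (nat_lit 0xa9cc579cf) (.node (nat_lit 0x9cff7bfaa) (.node (nat_lit 0x909420202) (.node (nat_lit 0x902260488) (.node (nat_lit 0x9014a0250) (.node (nat_lit 0x901420242) (.leaf (nat_lit 0x9010a0252) (nat_lit 1032))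
 (.leaf (nat_lit 0x901420242) (nat_lit 776))
) (.node (nat_lit 0x902060489) (.leaf (nat_lit 0x9014a0250) (nat_lit 1032))
 (.node (nat_lit 0x902220481) (.leaf (nat_lit 0x902060489) (nat_lit 772))
 (.leaf (nat_lit 0x902220481) (nat_lit 516))
))) (.node (nat_lit 0x908420042) (.node (nat_lit 0x9080a0052) (.leaf (nat_lit 0x902260488) (nat_lit 772))
 (.leaf (nat_lit 0x9080a0052) (nat_lit 776))
) (.node (nat_lit 0x9084a0050) (.leaf (nat_lit 0x908420042) (nat_lit 520))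
 (.node (nat_lit 0x9090a0212) (.leaf (nat_lit 0x9084a0050) (nat_lit 776))
 (.leaf (nat_lit 0x9090a0212) (nat_lit 1032))
)))) (.node (nat_lit 0x912060409) (.node (nat_lit 0x910060089) (.node (nat_lit 0x9094a0210) (.leaf (nat_lit 0x909420202) (nat_lit 776))
 (.leaf (nat_lit 0x9094a0210) (nat_lit 1032))
) (.node (nat_lit 0x910220081) (.leaf (nat_lit 0x910060089) (nat_lit 516))
 (.node (nat_lit 0x910260088) (.leaf (nat_lit 0x910220081) (nat_lit 260))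
 (.leaf (nat_lit 0x910260088) (nat_lit 516))
))) (.node (nat_lit 0x912260408) (.node (nat_lit 0x912220401) (.leaf (nat_lit 0x912060409) (nat_lit 772))
 (.leaf (nat_lit 0x912220401) (nat_lit 516))
) (.node (nat_lit 0x9cf5fbfbd) (.leaf (nat_lit 0x912260408) (nat_lit 772))
 (.node (nat_lit 0x9cfabbf97) (.leaf (nat_lit 0x9cf5fbfbd) (nat_lit 773))
 (.leaf (nat_lit 0x9cfabbf97) (nat_lit 1030))
))))) (.node (nat_lit 0x9fd3fbabe) (.node (nat_lit 0x9eac7b5cf) (.node (nat_lit 0x9d7c7bf4f) (.node (nat_lit 0x9d73fbf7e) (.leaf (nat_lit 0x9cff7bfaa) (nat_lit 1029))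
 (.leaf (nat_lit 0x9d73fbf7e) (nat_lit 773))
) (.node (nat_lit 0x9d7fbbf71) (.leaf (nat_lit 0x9d7c7bf4f) (nat_lit 1030))
 (.node (nat_lit 0x9ea3fb5fe) (.leaf (nat_lit 0x9d7fbbf71) (nat_lit 1029))
 (.leaf (nat_lit 0x9ea3fb5fe) (nat_lit 1031))
))) (.node (nat_lit 0x9f15fb3fd) (.node (nat_lit 0x9eafbb5f1) (.leaf (nat_lit 0x9eac7b5cf) (nat_lit 1028))
 (.leaf (nat_lit 0x9eafbb5f1) (nat_lit 1029))
) (.node (nat_lit 0x9f1abb3d7) (.leaf (nat_lit 0x9f15fb3fd) (nat_lit 1031))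
 (.node (nat_lit 0x9f1f7b3ea) (.leaf (nat_lit 0x9f1abb3d7) (nat_lit 1028))
 (.leaf (nat_lit 0x9f1f7b3ea) (nat_lit 1029))
)))) (.node (nat_lit 0x9fef7bc6a) (.node (nat_lit 0x9fdfbbab1) (.node (nat_lit 0x9fdc7ba8f) (.leaf (nat_lit 0x9fd3fbabe) (nat_lit 1029))
 (.leaf (nat_lit 0x9fdc7ba8f) (nat_lit 1029))
) (.node (nat_lit 0x9fe5fbc7d) (.leaf (nat_lit 0x9fdfbbab1) (nat_lit 1031))
 (.node (nat_lit 0x9feabbc57) (.leaf (nat_lit 0x9fe5fbc7d) (nat_lit 1029))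
 (.leaf (nat_lit 0x9feabbc57) (nat_lit 1029))
))) (.node (nat_lit 0xa8f9d7fbb) (.node (nat_lit 0xa8f717fa7) (.leaf (nat_lit 0x9fef7bc6a) (nat_lit 1030))
 (.leaf (nat_lit 0xa8f717fa7) (nat_lit 1024))
) (.node (nat_lit 0xa8fed7f9c) (.leaf (nat_lit 0xa8f9d7fbb) (nat_lit 778))
 (.node (nat_lit 0xa9c3d79fe) (.leaf (nat_lit 0xa8fed7f9c) (nat_lit 771))
 (.leaf (nat_lit 0xa9c3d79fe) (nat_lit 1026))
)))))) (.node (nat_lit 0xaee1decff) (.node (nat_lit 0xabbf97731) (.node (nat_lit 0xab17173e7) (.node (nat_lit 0xaa73d7efe) (.node (nat_lit 0xa9cf979f1) (.leaf (nat_lit 0xa9cc579cf) (nat_lit 771))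
 (.leaf (nat_lit 0xa9cf979f1) (nat_lit 777))
) (.node (nat_lit 0xaa7c57ecf) (.leaf (nat_lit 0xaa73d7efe) (nat_lit 777))
 (.node (nat_lit 0xaa7f97ef1) (.leaf (nat_lit 0xaa7c57ecf) (nat_lit 770))
 (.leaf (nat_lit 0xaa7f97ef1) (nat_lit 1029))
))) (.node (nat_lit 0xab1ed73dc) (.node (nat_lit 0xab19d73fb) (.leaf (nat_lit 0xab17173e7) (nat_lit 769))
 (.leaf (nat_lit 0xab19d73fb) (nat_lit 768))
) (.node (nat_lit 0xabb3d773e) (.leaf (nat_lit 0xab1ed73dc) (nat_lit 522))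
 (.node (nat_lit 0xabbc5770f) (.leaf (nat_lit 0xabb3d773e) (nat_lit 769))
 (.leaf (nat_lit 0xabbc5770f) (nat_lit 521))
)))) (.node (nat_lit 0xac7b9eff3) (.node (nat_lit 0xabe9d7c7b) (.node (nat_lit 0xabe717c67) (.leaf (nat_lit 0xabbf97731) (nat_lit 768))
 (.leaf (nat_lit 0xabe717c67) (nat_lit 778))
) (.node (nat_lit 0xabeed7c5c) (.leaf (nat_lit 0xabe9d7c7b) (nat_lit 1029))
 (.node (nat_lit 0xac775efee) (.leaf (nat_lit 0xabeed7c5c) (nat_lit 770))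
 (.leaf (nat_lit 0xac775efee) (nat_lit 1028))
))) (.node (nat_lit 0xadd1debbf) (.node (nat_lit 0xac7cdefdd) (.leaf (nat_lit 0xac7b9eff3) (nat_lit 1034))
 (.leaf (nat_lit 0xac7cdefdd) (nat_lit 775))
) (.node (nat_lit 0xadde1eb87) (.leaf (nat_lit 0xadd1debbf) (nat_lit 1028))
 (.node (nat_lit 0xaddfdebb8) (.leaf (nat_lit 0xadde1eb87) (nat_lit 774))
 (.leaf (nat_lit 0xaddfdebb8) (nat_lit 1033))
))))) (.node (nat_lit 0xaffb9ee33) (.node (nat_lit 0xaf3fde778) (.node (nat_lit 0xaeefdecf8) (.node (nat_lit 0xaeee1ecc7) (.leaf (nat_lit 0xaee1decff) (nat_lit 1033))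
 (.leaf (nat_lit 0xaeee1ecc7) (nat_lit 774))
) (.node (nat_lit 0xaf31de77f) (.leaf (nat_lit 0xaeefdecf8) (nat_lit 1029))
 (.node (nat_lit 0xaf3e1e747) (.leaf (nat_lit 0xaf31de77f) (nat_lit 774))
 (.leaf (nat_lit 0xaf3e1e747) (nat_lit 518))
))) (.node (nat_lit 0xaf8b9e1f3) (.node (nat_lit 0xaf875e1ee) (.leaf (nat_lit 0xaf3fde778) (nat_lit 774))
 (.leaf (nat_lit 0xaf875e1ee) (nat_lit 775))
) (.node (nat_lit 0xaf8cde1dd) (.leaf (nat_lit 0xaf8b9e1f3) (nat_lit 775))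
 (.node (nat_lit 0xaff75ee2e) (.leaf (nat_lit 0xaf8cde1dd) (nat_lit 519))
 (.leaf (nat_lit 0xaff75ee2e) (nat_lit 1034))
)))) (.node (nat_lit 0xb9e1f3d7f) (.node (nat_lit 0xb877b3ff5) (.node (nat_lit 0xaffcdee1d) (.leaf (nat_lit 0xaffb9ee33) (nat_lit 1029))
 (.leaf (nat_lit 0xaffcdee1d) (nat_lit 775))
) (.node (nat_lit 0xb87af3fde) (.leaf (nat_lit 0xb877b3ff5) (nat_lit 1029))
 (.node (nat_lit 0xb87d73feb) (.leaf (nat_lit 0xb87af3fde) (nat_lit 1033))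
 (.leaf (nat_lit 0xb87d73feb) (nat_lit 1026))
))) (.node (nat_lit 0xbab1f37bf) (.node (nat_lit 0xb9ee33d47) (.leaf (nat_lit 0xb9e1f3d7f) (nat_lit 1029))
 (.node (nat_lit 0xb9eff3d78) (.leaf (nat_lit 0xb9ee33d47) (nat_lit 774))
 (.leaf (nat_lit 0xb9eff3d78) (nat_lit 1026))
)) (.node (nat_lit 0xbabe33787) (.leaf (nat_lit 0xbab1f37bf) (nat_lit 1034))
 (.node (nat_lit 0xbabff37b8) (.leaf (nat_lit 0xbabe33787) (nat_lit 774))
 (.leaf (nat_lit 0xbabff37b8) (nat_lit 1034))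
))))))) (.node (nat_lit 0xc7ba8f717) (.node (nat_lit 0xbf7f3ae63) (.node (nat_lit 0xbce8faddf) (.node (nat_lit 0xbb8d731eb) (.node (nat_lit 0xbb5ff3af8) (.node (nat_lit 0xbb5e33ac7) (.leaf (nat_lit 0xbb51f3aff) (nat_lit 1024))
 (.leaf (nat_lit 0xbb5e33ac7) (nat_lit 1025))
) (.node (nat_lit 0xbb87b31f5) (.leaf (nat_lit 0xbb5ff3af8) (nat_lit 778))
 (.node (nat_lit 0xbb8af31de) (.leaf (nat_lit 0xbb87b31f5) (nat_lit 775))
 (.leaf (nat_lit 0xbb8af31de) (nat_lit 775))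
))) (.node (nat_lit 0xbbfaf3e1e) (.node (nat_lit 0xbbf7b3e35) (.leaf (nat_lit 0xbb8d731eb) (nat_lit 1027))
 (.leaf (nat_lit 0xbbf7b3e35) (nat_lit 1024))
) (.node (nat_lit 0xbbfd73e2b) (.leaf (nat_lit 0xbbfaf3e1e) (nat_lit 1033))
 (.node (nat_lit 0xbce7fadfc) (.leaf (nat_lit 0xbbfd73e2b) (nat_lit 777))
 (.leaf (nat_lit 0xbce7fadfc) (nat_lit 1029))
)))) (.node (nat_lit 0xbe33ba7f7) (.node (nat_lit 0xbdf3baf37) (.node (nat_lit 0xbcef3ade3) (.leaf (nat_lit 0xbce8faddf) (nat_lit 1028))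
 (.leaf (nat_lit 0xbcef3ade3) (nat_lit 1028))
) (.node (nat_lit 0xbdfdfaf39) (.leaf (nat_lit 0xbdf3baf37) (nat_lit 1029))
 (.node (nat_lit 0xbdfe7af0e) (.leaf (nat_lit 0xbdfdfaf39) (nat_lit 1028))
 (.leaf (nat_lit 0xbdfe7af0e) (nat_lit 1030))
))) (.node (nat_lit 0xbe3e7a7ce) (.node (nat_lit 0xbe3dfa7f9) (.leaf (nat_lit 0xbe33ba7f7) (nat_lit 1028))
 (.leaf (nat_lit 0xbe3dfa7f9) (nat_lit 1028))
) (.node (nat_lit 0xbf77fae7c) (.leaf (nat_lit 0xbe3e7a7ce) (nat_lit 772))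
 (.node (nat_lit 0xbf78fae5f) (.leaf (nat_lit 0xbf77fae7c) (nat_lit 1028))
 (.leaf (nat_lit 0xbf78fae5f) (nat_lit 1028))
))))) (.node (nat_lit 0xc5c5cf9fd) (.node (nat_lit 0xbfcdfa8f9) (.node (nat_lit 0xbf98fa39f) (.node (nat_lit 0xbf97fa3bc) (.leaf (nat_lit 0xbf7f3ae63) (nat_lit 774))
 (.leaf (nat_lit 0xbf97fa3bc) (nat_lit 1031))
) (.node (nat_lit 0xbf9f3a3a3) (.leaf (nat_lit 0xbf98fa39f) (nat_lit 772))
 (.node (nat_lit 0xbfc3ba8f7) (.leaf (nat_lit 0xbf9f3a3a3) (nat_lit 1028))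
 (.leaf (nat_lit 0xbfc3ba8f7) (nat_lit 1028))
))) (.node (nat_lit 0xc5770ff67) (.node (nat_lit 0xbfce7a8ce) (.leaf (nat_lit 0xbfcdfa8f9) (nat_lit 775))
 (.leaf (nat_lit 0xbfce7a8ce) (nat_lit 1028))
) (.node (nat_lit 0xc579cff7b) (.leaf (nat_lit 0xc5770ff67) (nat_lit 1026))
 (.node (nat_lit 0xc57ecff5c) (.leaf (nat_lit 0xc579cff7b) (nat_lit 777))
 (.leaf (nat_lit 0xc57ecff5c) (nat_lit 771))
)))) (.node (nat_lit 0xc67f4feea) (.node (nat_lit 0xc5cf4f9ea) (.node (nat_lit 0xc5ca8f9d7) (.leaf (nat_lit 0xc5c5cf9fd) (nat_lit 1024))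
 (.leaf (nat_lit 0xc5ca8f9d7) (nat_lit 771))
) (.node (nat_lit 0xc675cfefd) (.leaf (nat_lit 0xc5cf4f9ea) (nat_lit 778))
 (.node (nat_lit 0xc67a8fed7) (.leaf (nat_lit 0xc675cfefd) (nat_lit 778))
 (.leaf (nat_lit 0xc67a8fed7) (nat_lit 770))
))) (.node (nat_lit 0xc6a9cf5fb) (.node (nat_lit 0xc6a70f5e7) (.leaf (nat_lit 0xc67f4feea) (nat_lit 1027))
 (.leaf (nat_lit 0xc6a70f5e7) (nat_lit 769))
) (.node (nat_lit 0xc6aecf5dc) (.leaf (nat_lit 0xc6a9cf5fb) (nat_lit 768))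
 (.node (nat_lit 0xc7b5cf73d) (.leaf (nat_lit 0xc6aecf5dc) (nat_lit 521))
 (.leaf (nat_lit 0xc7b5cf73d) (nat_lit 769))
)))))) (.node (nat_lit 0xcff79de35) (.node (nat_lit 0xcdefddd78) (.node (nat_lit 0xcc779dff5) (.node (nat_lit 0xc7d70faa7) (.node (nat_lit 0xc7bf4f72a) (.leaf (nat_lit 0xc7ba8f717) (nat_lit 522))
 (.leaf (nat_lit 0xc7bf4f72a) (nat_lit 768))
) (.node (nat_lit 0xc7d9cfabb) (.leaf (nat_lit 0xc7d70faa7) (nat_lit 777))
 (.node (nat_lit 0xc7decfa9c) (.leaf (nat_lit 0xc7d9cfabb) (nat_lit 1025))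
 (.leaf (nat_lit 0xc7decfa9c) (nat_lit 770))
))) (.node (nat_lit 0xcc7d5dfeb) (.node (nat_lit 0xcc7addfde) (.leaf (nat_lit 0xcc779dff5) (nat_lit 1028))
 (.leaf (nat_lit 0xcc7addfde) (nat_lit 775))
) (.node (nat_lit 0xcde1ddd7f) (.leaf (nat_lit 0xcc7d5dfeb) (nat_lit 1033))
 (.node (nat_lit 0xcdee1dd47) (.leaf (nat_lit 0xcde1ddd7f) (nat_lit 1028))
 (.leaf (nat_lit 0xcdee1dd47) (nat_lit 774))
)))) (.node (nat_lit 0xcf5e1dac7) (.node (nat_lit 0xcebe1d787) (.node (nat_lit 0xceb1dd7bf) (.leaf (nat_lit 0xcdefddd78) (nat_lit 1034))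
 (.leaf (nat_lit 0xceb1dd7bf) (nat_lit 774))
) (.node (nat_lit 0xcebfdd7b8) (.leaf (nat_lit 0xcebe1d787) (nat_lit 518))
 (.node (nat_lit 0xcf51ddaff) (.leaf (nat_lit 0xcebfdd7b8) (nat_lit 774))
 (.leaf (nat_lit 0xcf51ddaff) (nat_lit 1034))
))) (.node (nat_lit 0xcf879d1f5) (.node (nat_lit 0xcf5fddaf8) (.leaf (nat_lit 0xcf5e1dac7) (nat_lit 774))
 (.leaf (nat_lit 0xcf5fddaf8) (nat_lit 1029))
) (.node (nat_lit 0xcf8add1de) (.leaf (nat_lit 0xcf879d1f5) (nat_lit 775))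
 (.node (nat_lit 0xcf8d5d1eb) (.leaf (nat_lit 0xcf8add1de) (nat_lit 519))
 (.leaf (nat_lit 0xcf8d5d1eb) (nat_lit 775))
))))) (.node (nat_lit 0xd6ee2bcc7) (.node (nat_lit 0xd47cebfdd) (.node (nat_lit 0xcffd5de2b) (.node (nat_lit 0xcffadde1e) (.leaf (nat_lit 0xcff79de35) (nat_lit 1033))
 (.leaf (nat_lit 0xcffadde1e) (nat_lit 775))
) (.node (nat_lit 0xd4776bfee) (.leaf (nat_lit 0xcffd5de2b) (nat_lit 1029))
 (.node (nat_lit 0xd47babff3) (.leaf (nat_lit 0xd4776bfee) (nat_lit 1029))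
 (.leaf (nat_lit 0xd47babff3) (nat_lit 1026))
))) (.node (nat_lit 0xd5de2bb87) (.node (nat_lit 0xd5d1ebbbf) (.leaf (nat_lit 0xd47cebfdd) (nat_lit 1034))
 (.leaf (nat_lit 0xd5d1ebbbf) (nat_lit 1029))
) (.node (nat_lit 0xd5dfebbb8) (.leaf (nat_lit 0xd5de2bb87) (nat_lit 774))
 (.node (nat_lit 0xd6e1ebcff) (.leaf (nat_lit 0xd5dfebbb8) (nat_lit 1026))
 (.leaf (nat_lit 0xd6e1ebcff) (nat_lit 1024))
)))) (.node (nat_lit 0xd7876b1ee) (.node (nat_lit 0xd731eb77f) (.node (nat_lit 0xd6efebcf8) (.leaf (nat_lit 0xd6ee2bcc7) (nat_lit 1025))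
 (.leaf (nat_lit 0xd6efebcf8) (nat_lit 777))
) (.node (nat_lit 0xd73e2b747) (.leaf (nat_lit 0xd731eb77f) (nat_lit 1033))
 (.node (nat_lit 0xd73feb778) (.leaf (nat_lit 0xd73e2b747) (nat_lit 774))
 (.leaf (nat_lit 0xd73feb778) (nat_lit 1033))
))) (.node (nat_lit 0xd7f76be2e) (.node (nat_lit 0xd78bab1f3) (.leaf (nat_lit 0xd7876b1ee) (nat_lit 775))
 (.node (nat_lit 0xd78ceb1dd) (.leaf (nat_lit 0xd78bab1f3) (nat_lit 1027))
 (.leaf (nat_lit 0xd78ceb1dd) (nat_lit 775))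
)) (.node (nat_lit 0xd7fbabe33) (.leaf (nat_lit 0xd7f76be2e) (nat_lit 1024))
 (.node (nat_lit 0xd7fcebe1d) (.leaf (nat_lit 0xd7fbabe33) (nat_lit 778))
 (.leaf (nat_lit 0xd7fcebe1d) (nat_lit 1034))
)))))))) (.node (nat_lit 0xef15dc3fd) (.node (nat_lit 0xe5fbcef3a) (.node (nat_lit 0xe1dd47bab) (.node (nat_lit 0xdef8f9e9f) (.node (nat_lit 0xddfeb9f15) (.node (nat_lit 0xdd5f39be3) (.node (nat_lit 0xdd58f9bdf) (.leaf (nat_lit 0xdd57f9bfc) (nat_lit 1029))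
 (.leaf (nat_lit 0xdd58f9bdf) (nat_lit 1028))
) (.node (nat_lit 0xddf579f2f) (.leaf (nat_lit 0xdd5f39be3) (nat_lit 1028))
 (.node (nat_lit 0xddfbf9f3a) (.leaf (nat_lit 0xddf579f2f) (nat_lit 1029))
 (.leaf (nat_lit 0xddfbf9f3a) (nat_lit 1028))
))) (.node (nat_lit 0xde3bf97fa) (.node (nat_lit 0xde35797ef) (.leaf (nat_lit 0xddfeb9f15) (nat_lit 1028))
 (.leaf (nat_lit 0xde35797ef) (nat_lit 1028))
) (.node (nat_lit 0xde3eb97d5) (.leaf (nat_lit 0xde3bf97fa) (nat_lit 1028))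
 (.node (nat_lit 0xdef7f9ebc) (.leaf (nat_lit 0xde3eb97d5) (nat_lit 772))
 (.leaf (nat_lit 0xdef7f9ebc) (nat_lit 1028))
)))) (.node (nat_lit 0xdfc5798ef) (.node (nat_lit 0xdfa7f957c) (.node (nat_lit 0xdeff39ea3) (.leaf (nat_lit 0xdef8f9e9f) (nat_lit 1028))
 (.leaf (nat_lit 0xdeff39ea3) (nat_lit 774))
) (.node (nat_lit 0xdfa8f955f) (.leaf (nat_lit 0xdfa7f957c) (nat_lit 1028))
 (.node (nat_lit 0xdfaf39563) (.leaf (nat_lit 0xdfa8f955f) (nat_lit 772))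
 (.leaf (nat_lit 0xdfaf39563) (nat_lit 1028))
))) (.node (nat_lit 0xdfceb98d5) (.node (nat_lit 0xdfcbf98fa) (.leaf (nat_lit 0xdfc5798ef) (nat_lit 1028))
 (.leaf (nat_lit 0xdfcbf98fa) (nat_lit 775))
) (.node (nat_lit 0xe1d787bb5) (.leaf (nat_lit 0xdfceb98d5) (nat_lit 1028))
 (.node (nat_lit 0xe1dac7b9e) (.leaf (nat_lit 0xe1d787bb5) (nat_lit 768))
 (.leaf (nat_lit 0xe1dac7b9e) (nat_lit 515))
))))) (.node (nat_lit 0xe33787775) (.node (nat_lit 0xe2bb877b3) (.node (nat_lit 0xe1eb87d73) (.node (nat_lit 0xe1e747d6e) (.leaf (nat_lit 0xe1dd47bab) (nat_lit 522))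
 (.leaf (nat_lit 0xe1e747d6e) (nat_lit 770))
) (.node (nat_lit 0xe1ecc7d5d) (.leaf (nat_lit 0xe1eb87d73) (nat_lit 521))
 (.node (nat_lit 0xe2b7477ae) (.leaf (nat_lit 0xe1ecc7d5d) (nat_lit 515))
 (.leaf (nat_lit 0xe2b7477ae) (nat_lit 513))
))) (.node (nat_lit 0xe2e787cf5) (.node (nat_lit 0xe2bcc779d) (.leaf (nat_lit 0xe2bb877b3) (nat_lit 512))
 (.leaf (nat_lit 0xe2bcc779d) (nat_lit 265))
) (.node (nat_lit 0xe2eac7cde) (.leaf (nat_lit 0xe2e787cf5) (nat_lit 522))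
 (.node (nat_lit 0xe2ed47ceb) (.leaf (nat_lit 0xe2eac7cde) (nat_lit 514))
 (.leaf (nat_lit 0xe2ed47ceb) (nat_lit 771))
)))) (.node (nat_lit 0xe35cc7add) (.node (nat_lit 0xe33d4776b) (.node (nat_lit 0xe33ac775e) (.leaf (nat_lit 0xe33787775) (nat_lit 513))
 (.leaf (nat_lit 0xe33ac775e) (nat_lit 266))
) (.node (nat_lit 0xe35747aee) (.leaf (nat_lit 0xe33d4776b) (nat_lit 512))
 (.node (nat_lit 0xe35b87af3) (.leaf (nat_lit 0xe35747aee) (nat_lit 521))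
 (.leaf (nat_lit 0xe35b87af3) (nat_lit 769))
))) (.node (nat_lit 0xe558cebdf) (.node (nat_lit 0xe557cebfc) (.leaf (nat_lit 0xe35cc7add) (nat_lit 514))
 (.leaf (nat_lit 0xe557cebfc) (nat_lit 1024))
) (.node (nat_lit 0xe55f0ebe3) (.leaf (nat_lit 0xe558cebdf) (nat_lit 771))
 (.node (nat_lit 0xe5f54ef2f) (.leaf (nat_lit 0xe55f0ebe3) (nat_lit 778))
 (.leaf (nat_lit 0xe5f54ef2f) (nat_lit 1026))
)))))) (.node (nat_lit 0xea33957f7) (.node (nat_lit 0xe7af0e563) (.node (nat_lit 0xe6f7ceebc) (.node (nat_lit 0xe6354e7ef) (.node (nat_lit 0xe5fe8ef15) (.leaf (nat_lit 0xe5fbcef3a) (nat_lit 777))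
 (.leaf (nat_lit 0xe5fe8ef15) (nat_lit 771))
) (.node (nat_lit 0xe63bce7fa) (.leaf (nat_lit 0xe6354e7ef) (nat_lit 769))
 (.node (nat_lit 0xe63e8e7d5) (.leaf (nat_lit 0xe63bce7fa) (nat_lit 768))
 (.leaf (nat_lit 0xe63e8e7d5) (nat_lit 521))
))) (.node (nat_lit 0xe6ff0eea3) (.node (nat_lit 0xe6f8cee9f) (.leaf (nat_lit 0xe6f7ceebc) (nat_lit 778))
 (.leaf (nat_lit 0xe6f8cee9f) (nat_lit 770))
) (.node (nat_lit 0xe7a7ce57c) (.leaf (nat_lit 0xe6ff0eea3) (nat_lit 1027))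
 (.node (nat_lit 0xe7a8ce55f) (.leaf (nat_lit 0xe7a7ce57c) (nat_lit 769))
 (.leaf (nat_lit 0xe7a8ce55f) (nat_lit 522))
)))) (.node (nat_lit 0xe8e8d5ddf) (.node (nat_lit 0xe7cbce8fa) (.node (nat_lit 0xe7c54e8ef) (.leaf (nat_lit 0xe7af0e563) (nat_lit 768))
 (.leaf (nat_lit 0xe7c54e8ef) (nat_lit 777))
) (.node (nat_lit 0xe7ce8e8d5) (.leaf (nat_lit 0xe7cbce8fa) (nat_lit 1025))
 (.node (nat_lit 0xe8e7d5dfc) (.leaf (nat_lit 0xe7ce8e8d5) (nat_lit 770))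
 (.leaf (nat_lit 0xe8e7d5dfc) (nat_lit 1028))
))) (.node (nat_lit 0xe9f395f37) (.node (nat_lit 0xe8ef15de3) (.leaf (nat_lit 0xe8e8d5ddf) (nat_lit 771))
 (.leaf (nat_lit 0xe8ef15de3) (nat_lit 777))
) (.node (nat_lit 0xe9fdd5f39) (.leaf (nat_lit 0xe9f395f37) (nat_lit 1028))
 (.node (nat_lit 0xe9fe55f0e) (.leaf (nat_lit 0xe9fdd5f39) (nat_lit 778))
 (.leaf (nat_lit 0xe9fe55f0e) (nat_lit 771))
))))) (.node (nat_lit 0xebcdd58f9) (.node (nat_lit 0xeb7f15e63) (.node (nat_lit 0xea3e557ce) (.node (nat_lit 0xea3dd57f9) (.leaf (nat_lit 0xea33957f7) (nat_lit 769))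
 (.leaf (nat_lit 0xea3dd57f9) (nat_lit 768))
) (.node (nat_lit 0xeb77d5e7c) (.leaf (nat_lit 0xea3e557ce) (nat_lit 522))
 (.node (nat_lit 0xeb78d5e5f) (.leaf (nat_lit 0xeb77d5e7c) (nat_lit 777))
 (.leaf (nat_lit 0xeb78d5e5f) (nat_lit 770))
))) (.node (nat_lit 0xeb98d539f) (.node (nat_lit 0xeb97d53bc) (.leaf (nat_lit 0xeb7f15e63) (nat_lit 1025))
 (.leaf (nat_lit 0xeb97d53bc) (nat_lit 769))
) (.node (nat_lit 0xeb9f153a3) (.leaf (nat_lit 0xeb98d539f) (nat_lit 521))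
 (.node (nat_lit 0xebc3958f7) (.leaf (nat_lit 0xeb9f153a3) (nat_lit 768))
 (.leaf (nat_lit 0xebc3958f7) (nat_lit 778))
)))) (.node (nat_lit 0xed73dcf7e) (.node (nat_lit 0xecf5dcfbd) (.node (nat_lit 0xebce558ce) (.leaf (nat_lit 0xebcdd58f9) (nat_lit 1027))
 (.leaf (nat_lit 0xebce558ce) (nat_lit 770))
) (.node (nat_lit 0xecfa9cf97) (.leaf (nat_lit 0xecf5dcfbd) (nat_lit 772))
 (.node (nat_lit 0xecff5cfaa) (.leaf (nat_lit 0xecfa9cf97) (nat_lit 1027))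
 (.leaf (nat_lit 0xecff5cfaa) (nat_lit 1033))
))) (.node (nat_lit 0xeea3dc5fe) (.node (nat_lit 0xed7c5cf4f) (.leaf (nat_lit 0xed73dcf7e) (nat_lit 772))
 (.node (nat_lit 0xed7f9cf71) (.leaf (nat_lit 0xed7c5cf4f) (nat_lit 1027))
 (.leaf (nat_lit 0xed7f9cf71) (nat_lit 1034))
)) (.node (nat_lit 0xeeac5c5cf) (.leaf (nat_lit 0xeea3dc5fe) (nat_lit 1025))
 (.node (nat_lit 0xeeaf9c5f1) (.leaf (nat_lit 0xeeac5c5cf) (nat_lit 778))
 (.leaf (nat_lit 0xeeaf9c5f1) (nat_lit 1024))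
))))))) (.node (nat_lit 0xf7bc6a70f) (.node (nat_lit 0xf37ea3e55) (.node (nat_lit 0xf0ebe3dfa) (.node (nat_lit 0xefdf9cab1) (.node (nat_lit 0xef1f5c3ea) (.node (nat_lit 0xef1a9c3d7) (.leaf (nat_lit 0xef15dc3fd) (nat_lit 1025))
 (.leaf (nat_lit 0xef1a9c3d7) (nat_lit 777))
) (.node (nat_lit 0xefd3dcabe) (.leaf (nat_lit 0xef1f5c3ea) (nat_lit 1024))
 (.node (nat_lit 0xefdc5ca8f) (.leaf (nat_lit 0xefd3dcabe) (nat_lit 1034))
 (.leaf (nat_lit 0xefdc5ca8f) (nat_lit 1026))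
))) (.node (nat_lit 0xefea9cc57) (.node (nat_lit 0xefe5dcc7d) (.leaf (nat_lit 0xefdf9cab1) (nat_lit 1034))
 (.leaf (nat_lit 0xefe5dcc7d) (nat_lit 1033))
) (.node (nat_lit 0xefef5cc6a) (.leaf (nat_lit 0xefea9cc57) (nat_lit 1026))
 (.node (nat_lit 0xf0e563def) (.leaf (nat_lit 0xefef5cc6a) (nat_lit 1033))
 (.leaf (nat_lit 0xf0e563def) (nat_lit 1027))
)))) (.node (nat_lit 0xf2f3a3eb7) (.node (nat_lit 0xf153a3bf7) (.node (nat_lit 0xf0eea3dd5) (.leaf (nat_lit 0xf0ebe3dfa) (nat_lit 770))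
 (.leaf (nat_lit 0xf0eea3dd5) (nat_lit 778))
) (.node (nat_lit 0xf15de3bf9) (.leaf (nat_lit 0xf153a3bf7) (nat_lit 1025))
 (.node (nat_lit 0xf15e63bce) (.leaf (nat_lit 0xf15de3bf9) (nat_lit 770))
 (.leaf (nat_lit 0xf15e63bce) (nat_lit 777))
))) (.node (nat_lit 0xf2fe63e8e) (.node (nat_lit 0xf2fde3eb9) (.leaf (nat_lit 0xf2f3a3eb7) (nat_lit 768))
 (.leaf (nat_lit 0xf2fde3eb9) (nat_lit 521))
) (.node (nat_lit 0xf37563e6f) (.leaf (nat_lit 0xf2fe63e8e) (nat_lit 769))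
 (.node (nat_lit 0xf37be3e7a) (.leaf (nat_lit 0xf37563e6f) (nat_lit 768))
 (.leaf (nat_lit 0xf37be3e7a) (nat_lit 522))
))))) (.node (nat_lit 0xf5c3ea9fe) (.node (nat_lit 0xf3ade3579) (.node (nat_lit 0xf39be33ba) (.node (nat_lit 0xf395633af) (.leaf (nat_lit 0xf37ea3e55) (nat_lit 769))
 (.leaf (nat_lit 0xf395633af) (nat_lit 778))
) (.node (nat_lit 0xf39ea3395) (.leaf (nat_lit 0xf39be33ba) (nat_lit 771))
 (.node (nat_lit 0xf3a3a3577) (.leaf (nat_lit 0xf39ea3395) (nat_lit 1031))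
 (.leaf (nat_lit 0xf3a3a3577) (nat_lit 777))
))) (.node (nat_lit 0xf4f72afa7) (.node (nat_lit 0xf3ae6354e) (.leaf (nat_lit 0xf3ade3579) (nat_lit 771))
 (.leaf (nat_lit 0xf3ae6354e) (nat_lit 1030))
) (.node (nat_lit 0xf4f9eafbb) (.leaf (nat_lit 0xf4f72afa7) (nat_lit 1030))
 (.node (nat_lit 0xf4feeaf9c) (.leaf (nat_lit 0xf4f9eafbb) (nat_lit 1026))
 (.leaf (nat_lit 0xf4feeaf9c) (nat_lit 1034))
)))) (.node (nat_lit 0xf67faaef1) (.node (nat_lit 0xf5cfaa9f1) (.node (nat_lit 0xf5cc6a9cf) (.leaf (nat_lit 0xf5c3ea9fe) (nat_lit 1031))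
 (.leaf (nat_lit 0xf5cc6a9cf) (nat_lit 1033))
) (.node (nat_lit 0xf673eaefe) (.leaf (nat_lit 0xf5cfaa9f1) (nat_lit 1026))
 (.node (nat_lit 0xf67c6aecf) (.leaf (nat_lit 0xf673eaefe) (nat_lit 1024))
 (.leaf (nat_lit 0xf67c6aecf) (nat_lit 1025))
))) (.node (nat_lit 0xf719ea3fb) (.node (nat_lit 0xf7172a3e7) (.leaf (nat_lit 0xf67faaef1) (nat_lit 777))
 (.leaf (nat_lit 0xf7172a3e7) (nat_lit 1034))
) (.node (nat_lit 0xf71eea3dc) (.leaf (nat_lit 0xf719ea3fb) (nat_lit 1027))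
 (.node (nat_lit 0xf7b3ea73e) (.leaf (nat_lit 0xf71eea3dc) (nat_lit 772))
 (.leaf (nat_lit 0xf7b3ea73e) (nat_lit 1033))
)))))) (.node (nat_lit 0xfbd731aa7) (.node (nat_lit 0xf9cf719ea) (.node (nat_lit 0xf97731f67) (.node (nat_lit 0xf7e72ac67) (.node (nat_lit 0xf7bfaa731) (.leaf (nat_lit 0xf7bc6a70f) (nat_lit 772))
 (.leaf (nat_lit 0xf7bfaa731) (nat_lit 777))
) (.node (nat_lit 0xf7e9eac7b) (.leaf (nat_lit 0xf7e72ac67) (nat_lit 1024))
 (.node (nat_lit 0xf7eeeac5c) (.leaf (nat_lit 0xf7e9eac7b) (nat_lit 778))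
 (.leaf (nat_lit 0xf7eeeac5c) (nat_lit 778))
))) (.node (nat_lit 0xf97ef1f5c) (.node (nat_lit 0xf979f1f7b) (.leaf (nat_lit 0xf97731f67) (nat_lit 1030))
 (.leaf (nat_lit 0xf979f1f7b) (nat_lit 1028))
) (.node (nat_lit 0xf9c5f19fd) (.leaf (nat_lit 0xf97ef1f5c) (nat_lit 1028))
 (.node (nat_lit 0xf9cab19d7) (.leaf (nat_lit 0xf9c5f19fd) (nat_lit 1031))
 (.leaf (nat_lit 0xf9cab19d7) (nat_lit 1028))
)))) (.node (nat_lit 0xfaa9f15fb) (.node (nat_lit 0xfa7ab1ed7) (.node (nat_lit 0xfa75f1efd) (.leaf (nat_lit 0xf9cf719ea) (nat_lit 1028))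
 (.leaf (nat_lit 0xfa75f1efd) (nat_lit 1028))
) (.node (nat_lit 0xfa7f71eea) (.leaf (nat_lit 0xfa7ab1ed7) (nat_lit 1028))
 (.node (nat_lit 0xfaa7315e7) (.leaf (nat_lit 0xfa7f71eea) (nat_lit 778))
 (.leaf (nat_lit 0xfaa7315e7) (nat_lit 1028))
))) (.node (nat_lit 0xfbb5f173d) (.node (nat_lit 0xfaaef15dc) (.leaf (nat_lit 0xfaa9f15fb) (nat_lit 1028))
 (.leaf (nat_lit 0xfaaef15dc) (nat_lit 772))
) (.node (nat_lit 0xfbbab1717) (.leaf (nat_lit 0xfbb5f173d) (nat_lit 1028))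
 (.node (nat_lit 0xfbbf7172a) (.leaf (nat_lit 0xfbbab1717) (nat_lit 772))
 (.leaf (nat_lit 0xfbbf7172a) (nat_lit 778))
))))) (.node (nat_lit 0xfebbb87b3) (.node (nat_lit 0xfddd78bab) (.node (nat_lit 0xfbdef1a9c) (.node (nat_lit 0xfbd9f1abb) (.leaf (nat_lit 0xfbd731aa7) (nat_lit 1028))
 (.leaf (nat_lit 0xfbd9f1abb) (nat_lit 777))
) (.node (nat_lit 0xfdd7b8bb5) (.leaf (nat_lit 0xfbdef1a9c) (nat_lit 777))
 (.node (nat_lit 0xfddaf8b9e) (.leaf (nat_lit 0xfdd7b8bb5) (nat_lit 1028))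
 (.leaf (nat_lit 0xfddaf8b9e) (nat_lit 772))
))) (.node (nat_lit 0xfdebb8d73) (.node (nat_lit 0xfde778d6e) (.leaf (nat_lit 0xfddd78bab) (nat_lit 772))
 (.leaf (nat_lit 0xfde778d6e) (nat_lit 1028))
) (.node (nat_lit 0xfdecf8d5d) (.leaf (nat_lit 0xfdebb8d73) (nat_lit 772))
 (.node (nat_lit 0xfeb7787ae) (.leaf (nat_lit 0xfdecf8d5d) (nat_lit 772))
 (.leaf (nat_lit 0xfeb7787ae) (nat_lit 772))
)))) (.node (nat_lit 0xff37b8775) (.node (nat_lit 0xfee7b8cf5) (.node (nat_lit 0xfebcf879d) (.leaf (nat_lit 0xfebbb87b3) (nat_lit 772))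
 (.leaf (nat_lit 0xfebcf879d) (nat_lit 516))
) (.node (nat_lit 0xfeeaf8cde) (.leaf (nat_lit 0xfee7b8cf5) (nat_lit 772))
 (.node (nat_lit 0xfeed78ceb) (.leaf (nat_lit 0xfeeaf8cde) (nat_lit 772))
 (.leaf (nat_lit 0xfeed78ceb) (nat_lit 1034))
))) (.node (nat_lit 0xff5778aee) (.node (nat_lit 0xff3af875e) (.leaf (nat_lit 0xff37b8775) (nat_lit 772))
 (.node (nat_lit 0xff3d7876b) (.leaf (nat_lit 0xff3af875e) (nat_lit 516))
 (.leaf (nat_lit 0xff3d7876b) (nat_lit 772))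
)) (.node (nat_lit 0xff5bb8af3) (.leaf (nat_lit 0xff5778aee) (nat_lit 772))
 (.node (nat_lit 0xff5cf8add) (.leaf (nat_lit 0xff5bb8af3) (nat_lit 1033))
 (.leaf (nat_lit 0xff5cf8add) (nat_lit 772))
))))))))))

theorem gC6_ok : genOK B6.A [(nat_lit 0x810244088), (nat_lit 0x810044089), (nat_lit 0x812204401), (nat_lit 0x802204481), (nat_lit 0x910220081), (nat_lit 0x110224081), (nat_lit 0x408802044), (nat_lit 0x220401102), (nat_lit 0x808404042), (nat_lit 0xe2bcc779d), (nat_lit 0xe33ac775e)] gC6_t (nat_lit 648) = true := by decide +kernel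

noncomputable def gN6_t : ST :=
(.node (nat_lit 0x901084210) (.node (nat_lit 0x481102220) (.node (nat_lit 0x212101424) (.node (nat_lit 0x102224481) (.node (nat_lit 0x81910204) (.node (nat_lit 0x528080a4) (.node (nat_lit 0x44488802) (.node (nat_lit 0x429094a0) (.node (nat_lit 0x42808424) (.node (nat_lit 0x421094a4) (.leaf (nat_lit 0x42108420) (nat_lit 779))
 (.leaf (nat_lit 0x421094a4) (nat_lit 1033))
) (.node (nat_lit 0x42809484) (.leaf (nat_lit 0x42808424) (nat_lit 1035))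
 (.node (nat_lit 0x42908404) (.leaf (nat_lit 0x42809484) (nat_lit 1032))
 (.leaf (nat_lit 0x42908404) (nat_lit 1035))
))) (.node (nat_lit 0x44089912) (.node (nat_lit 0x44088810) (.leaf (nat_lit 0x429094a0) (nat_lit 1288))
 (.leaf (nat_lit 0x44088810) (nat_lit 523))
) (.node (nat_lit 0x44408812) (.leaf (nat_lit 0x44089912) (nat_lit 1031))
 (.node (nat_lit 0x44409902) (.leaf (nat_lit 0x44408812) (nat_lit 779))
 (.leaf (nat_lit 0x44409902) (nat_lit 775))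
)))) (.node (nat_lit 0x50809084) (.node (nat_lit 0x501084a0) (.node (nat_lit 0x44489910) (.leaf (nat_lit 0x44488802) (nat_lit 779))
 (.leaf (nat_lit 0x44489910) (nat_lit 1031))
) (.node (nat_lit 0x501090a4) (.leaf (nat_lit 0x501084a0) (nat_lit 1035))
 (.node (nat_lit 0x508084a4) (.leaf (nat_lit 0x501090a4) (nat_lit 1032))
 (.leaf (nat_lit 0x508084a4) (nat_lit 1291))
))) (.node (nat_lit 0x509090a0) (.node (nat_lit 0x50908484) (.leaf (nat_lit 0x50809084) (nat_lit 776))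
 (.leaf (nat_lit 0x50908484) (nat_lit 1291))
) (.node (nat_lit 0x521080a0) (.leaf (nat_lit 0x509090a0) (nat_lit 1032))
 (.node (nat_lit 0x52109424) (.leaf (nat_lit 0x521080a0) (nat_lit 1035))
 (.leaf (nat_lit 0x52109424) (nat_lit 1288))
))))) (.node (nat_lit 0x64088110) (.node (nat_lit 0x60089112) (.node (nat_lit 0x52908084) (.node (nat_lit 0x52809404) (.leaf (nat_lit 0x528080a4) (nat_lit 1291))
 (.leaf (nat_lit 0x52809404) (nat_lit 1032))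
) (.node (nat_lit 0x52909420) (.leaf (nat_lit 0x52908084) (nat_lit 1291))
 (.node (nat_lit 0x60088910) (.leaf (nat_lit 0x52909420) (nat_lit 1289))
 (.leaf (nat_lit 0x60088910) (nat_lit 779))
))) (.node (nat_lit 0x60409102) (.node (nat_lit 0x60408912) (.leaf (nat_lit 0x60089112) (nat_lit 775))
 (.leaf (nat_lit 0x60408912) (nat_lit 1035))
) (.node (nat_lit 0x60488902) (.leaf (nat_lit 0x60409102) (nat_lit 519))
 (.node (nat_lit 0x60489110) (.leaf (nat_lit 0x60488902) (nat_lit 1035))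
 (.leaf (nat_lit 0x60489110) (nat_lit 775))
)))) (.node (nat_lit 0x64489810) (.node (nat_lit 0x64408112) (.node (nat_lit 0x64089812) (.leaf (nat_lit 0x64088110) (nat_lit 779))
 (.leaf (nat_lit 0x64089812) (nat_lit 1031))
) (.node (nat_lit 0x64409802) (.leaf (nat_lit 0x64408112) (nat_lit 1035))
 (.node (nat_lit 0x64488102) (.leaf (nat_lit 0x64409802) (nat_lit 775))
 (.leaf (nat_lit 0x64488102) (nat_lit 1035))
))) (.node (nat_lit 0x81112264) (.node (nat_lit 0x81110220) (.leaf (nat_lit 0x64489810) (nat_lit 1031))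
 (.leaf (nat_lit 0x81110220) (nat_lit 523))
) (.node (nat_lit 0x81810224) (.leaf (nat_lit 0x81112264) (nat_lit 1030))
 (.node (nat_lit 0x81812244) (.leaf (nat_lit 0x81810224) (nat_lit 779))
 (.leaf (nat_lit 0x81812244) (nat_lit 774))
)))))) (.node (nat_lit 0xa0050908) (.node (nat_lit 0x88810264) (.node (nat_lit 0x84212901) (.node (nat_lit 0x84050808) (.node (nat_lit 0x81912260) (.leaf (nat_lit 0x81910204) (nat_lit 779))
 (.leaf (nat_lit 0x81912260) (nat_lit 1030))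
) (.node (nat_lit 0x84052909) (.leaf (nat_lit 0x84050808) (nat_lit 779))
 (.node (nat_lit 0x84210809) (.leaf (nat_lit 0x84052909) (nat_lit 1033))
 (.leaf (nat_lit 0x84210809) (nat_lit 1035))
))) (.node (nat_lit 0x84252908) (.node (nat_lit 0x84250801) (.leaf (nat_lit 0x84212901) (nat_lit 1032))
 (.leaf (nat_lit 0x84250801) (nat_lit 1035))
) (.node (nat_lit 0x88110260) (.leaf (nat_lit 0x84252908) (nat_lit 1288))
 (.node (nat_lit 0x88112064) (.leaf (nat_lit 0x88110260) (nat_lit 779))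
 (.leaf (nat_lit 0x88112064) (nat_lit 774))
)))) (.node (nat_lit 0x89112224) (.node (nat_lit 0x88910244) (.node (nat_lit 0x88812044) (.leaf (nat_lit 0x88810264) (nat_lit 1035))
 (.leaf (nat_lit 0x88812044) (nat_lit 518))
) (.node (nat_lit 0x88912060) (.leaf (nat_lit 0x88910244) (nat_lit 1035))
 (.node (nat_lit 0x89110060) (.leaf (nat_lit 0x88912060) (nat_lit 774))
 (.leaf (nat_lit 0x89110060) (nat_lit 779))
))) (.node (nat_lit 0x89812204) (.node (nat_lit 0x89810064) (.leaf (nat_lit 0x89112224) (nat_lit 1030))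
 (.leaf (nat_lit 0x89810064) (nat_lit 1035))
) (.node (nat_lit 0x89910044) (.leaf (nat_lit 0x89812204) (nat_lit 774))
 (.node (nat_lit 0x89912220) (.leaf (nat_lit 0x89910044) (nat_lit 1035))
 (.leaf (nat_lit 0x89912220) (nat_lit 1030))
))))) (.node (nat_lit 0xa4250101) (.node (nat_lit 0xa0252108) (.node (nat_lit 0xa0210909) (.node (nat_lit 0xa0052109) (.leaf (nat_lit 0xa0050908) (nat_lit 1035))
 (.leaf (nat_lit 0xa0052109) (nat_lit 1032))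
) (.node (nat_lit 0xa0212101) (.leaf (nat_lit 0xa0210909) (nat_lit 1291))
 (.node (nat_lit 0xa0250901) (.leaf (nat_lit 0xa0212101) (nat_lit 776))
 (.leaf (nat_lit 0xa0250901) (nat_lit 1291))
))) (.node (nat_lit 0xa4052809) (.node (nat_lit 0xa4050108) (.leaf (nat_lit 0xa0252108) (nat_lit 1032))
 (.leaf (nat_lit 0xa4050108) (nat_lit 1035))
) (.node (nat_lit 0xa4210109) (.leaf (nat_lit 0xa4052809) (nat_lit 1288))
 (.node (nat_lit 0xa4212801) (.leaf (nat_lit 0xa4210109) (nat_lit 1291))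
 (.leaf (nat_lit 0xa4212801) (nat_lit 1032))
)))) (.node (nat_lit 0x101424242) (.node (nat_lit 0x1010a0210) (.node (nat_lit 0xa4252808) (.leaf (nat_lit 0xa4250101) (nat_lit 1291))
 (.leaf (nat_lit 0xa4252808) (nat_lit 1288))
) (.node (nat_lit 0x1010a4252) (.leaf (nat_lit 0x1010a0210) (nat_lit 523))
 (.node (nat_lit 0x101420212) (.leaf (nat_lit 0x1010a4252) (nat_lit 1032))
 (.leaf (nat_lit 0x101420212) (nat_lit 779))
))) (.node (nat_lit 0x102060408) (.node (nat_lit 0x1014a0202) (.leaf (nat_lit 0x101424242) (nat_lit 776))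
 (.node (nat_lit 0x1014a4250) (.leaf (nat_lit 0x1014a0202) (nat_lit 779))
 (.leaf (nat_lit 0x1014a4250) (nat_lit 1032))
)) (.node (nat_lit 0x102064489) (.leaf (nat_lit 0x102060408) (nat_lit 267))
 (.node (nat_lit 0x102220409) (.leaf (nat_lit 0x102064489) (nat_lit 773))
 (.leaf (nat_lit 0x102220409) (nat_lit 523))
))))))) (.node (nat_lit 0x1eb77f7ae) (.node (nat_lit 0x110264088) (.node (nat_lit 0x1090a4212) (.node (nat_lit 0x108420252) (.node (nat_lit 0x102264488) (.node (nat_lit 0x102260401) (.leaf (nat_lit 0x102224481) (nat_lit 517))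
 (.leaf (nat_lit 0x102260401) (nat_lit 523))
) (.node (nat_lit 0x1080a0250) (.leaf (nat_lit 0x102264488) (nat_lit 773))
 (.node (nat_lit 0x1080a4052) (.leaf (nat_lit 0x1080a0250) (nat_lit 779))
 (.leaf (nat_lit 0x1080a4052) (nat_lit 776))
))) (.node (nat_lit 0x1084a0242) (.node (nat_lit 0x108424042) (.leaf (nat_lit 0x108420252) (nat_lit 1035))
 (.leaf (nat_lit 0x108424042) (nat_lit 520))
) (.node (nat_lit 0x1084a4050) (.leaf (nat_lit 0x1084a0242) (nat_lit 1035))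
 (.node (nat_lit 0x1090a0050) (.leaf (nat_lit 0x1084a4050) (nat_lit 776))
 (.leaf (nat_lit 0x1090a0050) (nat_lit 779))
)))) (.node (nat_lit 0x110060488) (.node (nat_lit 0x109424202) (.node (nat_lit 0x109420052) (.leaf (nat_lit 0x1090a4212) (nat_lit 1032))
 (.leaf (nat_lit 0x109420052) (nat_lit 1035))
) (.node (nat_lit 0x1094a0042) (.leaf (nat_lit 0x109424202) (nat_lit 776))
 (.node (nat_lit 0x1094a4210) (.leaf (nat_lit 0x1094a0042) (nat_lit 1035))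
 (.leaf (nat_lit 0x1094a4210) (nat_lit 1032))
))) (.node (nat_lit 0x110220489) (.node (nat_lit 0x110064089) (.leaf (nat_lit 0x110060488) (nat_lit 523))
 (.leaf (nat_lit 0x110064089) (nat_lit 517))
) (.node (nat_lit 0x110224081) (.leaf (nat_lit 0x110220489) (nat_lit 779))
 (.node (nat_lit 0x110260481) (.leaf (nat_lit 0x110224081) (nat_lit 261))
 (.leaf (nat_lit 0x110260481) (nat_lit 779))
))))) (.node (nat_lit 0x1ddaffb9e) (.node (nat_lit 0x112260081) (.node (nat_lit 0x112064409) (.node (nat_lit 0x112060088) (.leaf (nat_lit 0x110264088) (nat_lit 517))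
 (.leaf (nat_lit 0x112060088) (nat_lit 523))
) (.node (nat_lit 0x112220089) (.leaf (nat_lit 0x112064409) (nat_lit 773))
 (.node (nat_lit 0x112224401) (.leaf (nat_lit 0x112220089) (nat_lit 779))
 (.leaf (nat_lit 0x112224401) (nat_lit 517))
))) (.node (nat_lit 0x1dd7b8ceb) (.node (nat_lit 0x112264408) (.leaf (nat_lit 0x112260081) (nat_lit 779))
 (.leaf (nat_lit 0x112264408) (nat_lit 773))
) (.node (nat_lit 0x1dd7bfbb5) (.leaf (nat_lit 0x1dd7b8ceb) (nat_lit 523))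
 (.node (nat_lit 0x1ddaf8cf5) (.leaf (nat_lit 0x1dd7bfbb5) (nat_lit 1031))
 (.leaf (nat_lit 0x1ddaf8cf5) (nat_lit 779))
)))) (.node (nat_lit 0x1debb8add) (.node (nat_lit 0x1ddd7fbab) (.node (nat_lit 0x1ddd78cde) (.leaf (nat_lit 0x1ddaffb9e) (nat_lit 773))
 (.leaf (nat_lit 0x1ddd78cde) (nat_lit 779))
) (.node (nat_lit 0x1de778af3) (.leaf (nat_lit 0x1ddd7fbab) (nat_lit 773))
 (.node (nat_lit 0x1de77fd6e) (.leaf (nat_lit 0x1de778af3) (nat_lit 523))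
 (.leaf (nat_lit 0x1de77fd6e) (nat_lit 1030))
))) (.node (nat_lit 0x1decf8aee) (.node (nat_lit 0x1debbfd73) (.leaf (nat_lit 0x1debb8add) (nat_lit 779))
 (.leaf (nat_lit 0x1debbfd73) (nat_lit 773))
) (.node (nat_lit 0x1decffd5d) (.leaf (nat_lit 0x1decf8aee) (nat_lit 779))
 (.node (nat_lit 0x1eb778d73) (.leaf (nat_lit 0x1decffd5d) (nat_lit 773))
 (.leaf (nat_lit 0x1eb778d73) (nat_lit 779))
)))))) (.node (nat_lit 0x1f5bbfaf3) (.node (nat_lit 0x1eed7fceb) (.node (nat_lit 0x1ee7b876b) (.node (nat_lit 0x1ebbbf7b3) (.node (nat_lit 0x1ebbb8d5d) (.leaf (nat_lit 0x1eb77f7ae) (nat_lit 773))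
 (.leaf (nat_lit 0x1ebbb8d5d) (nat_lit 779))
) (.node (nat_lit 0x1ebcf8d6e) (.leaf (nat_lit 0x1ebbbf7b3) (nat_lit 773))
 (.node (nat_lit 0x1ebcff79d) (.leaf (nat_lit 0x1ebcf8d6e) (nat_lit 1035))
 (.leaf (nat_lit 0x1ebcff79d) (nat_lit 517))
))) (.node (nat_lit 0x1eeaf8775) (.node (nat_lit 0x1ee7bfcf5) (.leaf (nat_lit 0x1ee7b876b) (nat_lit 779))
 (.leaf (nat_lit 0x1ee7bfcf5) (nat_lit 773))
) (.node (nat_lit 0x1eeaffcde) (.leaf (nat_lit 0x1eeaf8775) (nat_lit 779))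
 (.node (nat_lit 0x1eed7875e) (.leaf (nat_lit 0x1eeaffcde) (nat_lit 773))
 (.leaf (nat_lit 0x1eed7875e) (nat_lit 1035))
)))) (.node (nat_lit 0x1f3d78b9e) (.node (nat_lit 0x1f37bf775) (.node (nat_lit 0x1f37b8bab) (.leaf (nat_lit 0x1eed7fceb) (nat_lit 1029))
 (.leaf (nat_lit 0x1f37b8bab) (nat_lit 779))
) (.node (nat_lit 0x1f3af8bb5) (.leaf (nat_lit 0x1f37bf775) (nat_lit 773))
 (.node (nat_lit 0x1f3aff75e) (.leaf (nat_lit 0x1f3af8bb5) (nat_lit 1035))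
 (.leaf (nat_lit 0x1f3aff75e) (nat_lit 517))
))) (.node (nat_lit 0x1f57787b3) (.node (nat_lit 0x1f3d7f76b) (.leaf (nat_lit 0x1f3d78b9e) (nat_lit 779))
 (.leaf (nat_lit 0x1f3d7f76b) (nat_lit 773))
) (.node (nat_lit 0x1f577faee) (.leaf (nat_lit 0x1f57787b3) (nat_lit 779))
 (.node (nat_lit 0x1f5bb879d) (.leaf (nat_lit 0x1f577faee) (nat_lit 773))
 (.leaf (nat_lit 0x1f5bb879d) (nat_lit 1035))
))))) (.node (nat_lit 0x204089810) (.node (nat_lit 0x202801484) (.node (nat_lit 0x1f5cffadd) (.node (nat_lit 0x1f5cf87ae) (.leaf (nat_lit 0x1f5bbfaf3) (nat_lit 1029))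
 (.leaf (nat_lit 0x1f5cf87ae) (nat_lit 779))
) (.node (nat_lit 0x2021014a4) (.leaf (nat_lit 0x1f5cffadd) (nat_lit 773))
 (.node (nat_lit 0x202109420) (.leaf (nat_lit 0x2021014a4) (nat_lit 1032))
 (.leaf (nat_lit 0x202109420) (nat_lit 1035))
))) (.node (nat_lit 0x2029014a0) (.node (nat_lit 0x202809424) (.leaf (nat_lit 0x202801484) (nat_lit 776))
 (.leaf (nat_lit 0x202809424) (nat_lit 1291))
) (.node (nat_lit 0x202909404) (.leaf (nat_lit 0x2029014a0) (nat_lit 1032))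
 (.node (nat_lit 0x204081912) (.leaf (nat_lit 0x202909404) (nat_lit 1291))
 (.leaf (nat_lit 0x204081912) (nat_lit 775))
)))) (.node (nat_lit 0x2101010a4) (.node (nat_lit 0x204409812) (.node (nat_lit 0x204401902) (.leaf (nat_lit 0x204089810) (nat_lit 779))
 (.leaf (nat_lit 0x204401902) (nat_lit 519))
) (.node (nat_lit 0x204481910) (.leaf (nat_lit 0x204409812) (nat_lit 1035))
 (.node (nat_lit 0x204489802) (.leaf (nat_lit 0x204481910) (nat_lit 775))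
 (.leaf (nat_lit 0x204489802) (nat_lit 1035))
))) (.node (nat_lit 0x2108094a4) (.node (nat_lit 0x2101094a0) (.leaf (nat_lit 0x2101010a4) (nat_lit 776))
 (.node (nat_lit 0x210801084) (.leaf (nat_lit 0x2101094a0) (nat_lit 1291))
 (.leaf (nat_lit 0x210801084) (nat_lit 520))
)) (.node (nat_lit 0x2109010a0) (.leaf (nat_lit 0x2108094a4) (nat_lit 1291))
 (.node (nat_lit 0x210909484) (.leaf (nat_lit 0x2109010a0) (nat_lit 776))
 (.leaf (nat_lit 0x210909484) (nat_lit 1547))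
)))))))) (.node (nat_lit 0x3ba8f9bfc) (.node (nat_lit 0x252901084) (.node (nat_lit 0x242801424) (.node (nat_lit 0x220481110) (.node (nat_lit 0x212909084) (.node (nat_lit 0x212801404) (.node (nat_lit 0x2121090a0) (.leaf (nat_lit 0x212101424) (nat_lit 1032))
 (.leaf (nat_lit 0x2121090a0) (nat_lit 1291))
) (.node (nat_lit 0x2128090a4) (.leaf (nat_lit 0x212801404) (nat_lit 776))
 (.node (nat_lit 0x212901420) (.leaf (nat_lit 0x2128090a4) (nat_lit 1547))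
 (.leaf (nat_lit 0x212901420) (nat_lit 1032))
))) (.node (nat_lit 0x220089910) (.node (nat_lit 0x220081112) (.leaf (nat_lit 0x212909084) (nat_lit 1547))
 (.leaf (nat_lit 0x220081112) (nat_lit 519))
) (.node (nat_lit 0x220401102) (.leaf (nat_lit 0x220089910) (nat_lit 1035))
 (.node (nat_lit 0x220409912) (.leaf (nat_lit 0x220401102) (nat_lit 263))
 (.leaf (nat_lit 0x220409912) (nat_lit 1291))
)))) (.node (nat_lit 0x224409112) (.node (nat_lit 0x224081812) (.node (nat_lit 0x220489902) (.leaf (nat_lit 0x220481110) (nat_lit 519))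
 (.leaf (nat_lit 0x220489902) (nat_lit 1291))
) (.node (nat_lit 0x224089110) (.leaf (nat_lit 0x224081812) (nat_lit 775))
 (.node (nat_lit 0x224401802) (.leaf (nat_lit 0x224089110) (nat_lit 1035))
 (.leaf (nat_lit 0x224401802) (nat_lit 519))
))) (.node (nat_lit 0x224489102) (.node (nat_lit 0x224481810) (.leaf (nat_lit 0x224409112) (nat_lit 1291))
 (.leaf (nat_lit 0x224481810) (nat_lit 775))
) (.node (nat_lit 0x242101420) (.leaf (nat_lit 0x224489102) (nat_lit 1291))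
 (.node (nat_lit 0x2421084a4) (.leaf (nat_lit 0x242101420) (nat_lit 1035))
 (.leaf (nat_lit 0x2421084a4) (nat_lit 1288))
))))) (.node (nat_lit 0x2501014a0) (.node (nat_lit 0x244088912) (.node (nat_lit 0x242901404) (.node (nat_lit 0x242808484) (.leaf (nat_lit 0x242801424) (nat_lit 1291))
 (.leaf (nat_lit 0x242808484) (nat_lit 1032))
) (.node (nat_lit 0x2429084a0) (.leaf (nat_lit 0x242901404) (nat_lit 1291))
 (.node (nat_lit 0x244081810) (.leaf (nat_lit 0x2429084a0) (nat_lit 1288))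
 (.leaf (nat_lit 0x244081810) (nat_lit 779))
))) (.node (nat_lit 0x244408902) (.node (nat_lit 0x244401812) (.leaf (nat_lit 0x244088912) (nat_lit 1031))
 (.leaf (nat_lit 0x244401812) (nat_lit 1035))
) (.node (nat_lit 0x244481802) (.leaf (nat_lit 0x244408902) (nat_lit 775))
 (.node (nat_lit 0x244488910) (.leaf (nat_lit 0x244481802) (nat_lit 1035))
 (.leaf (nat_lit 0x244488910) (nat_lit 1031))
)))) (.node (nat_lit 0x2509080a0) (.node (nat_lit 0x2508014a4) (.node (nat_lit 0x2501080a4) (.leaf (nat_lit 0x2501014a0) (nat_lit 1291))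
 (.leaf (nat_lit 0x2501080a4) (nat_lit 1032))
) (.node (nat_lit 0x250808084) (.leaf (nat_lit 0x2508014a4) (nat_lit 1547))
 (.node (nat_lit 0x250901484) (.leaf (nat_lit 0x250808084) (nat_lit 776))
 (.leaf (nat_lit 0x250901484) (nat_lit 1547))
))) (.node (nat_lit 0x252108424) (.node (nat_lit 0x2521010a0) (.leaf (nat_lit 0x2509080a0) (nat_lit 1032))
 (.leaf (nat_lit 0x2521010a0) (nat_lit 1291))
) (.node (nat_lit 0x2528010a4) (.leaf (nat_lit 0x252108424) (nat_lit 1288))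
 (.node (nat_lit 0x252808404) (.leaf (nat_lit 0x2528010a4) (nat_lit 1547))
 (.leaf (nat_lit 0x252808404) (nat_lit 1032))
)))))) (.node (nat_lit 0x39f577f2f) (.node (nat_lit 0x264401112) (.node (nat_lit 0x260408102) (.node (nat_lit 0x260081910) (.node (nat_lit 0x252908420) (.leaf (nat_lit 0x252901084) (nat_lit 1291))
 (.leaf (nat_lit 0x252908420) (nat_lit 1033))
) (.node (nat_lit 0x260088112) (.leaf (nat_lit 0x260081910) (nat_lit 1035))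
 (.node (nat_lit 0x260401912) (.leaf (nat_lit 0x260088112) (nat_lit 775))
 (.leaf (nat_lit 0x260401912) (nat_lit 1291))
))) (.node (nat_lit 0x260488110) (.node (nat_lit 0x260481902) (.leaf (nat_lit 0x260408102) (nat_lit 519))
 (.leaf (nat_lit 0x260481902) (nat_lit 1291))
) (.node (nat_lit 0x264081110) (.leaf (nat_lit 0x260488110) (nat_lit 775))
 (.node (nat_lit 0x264088812) (.leaf (nat_lit 0x264081110) (nat_lit 1035))
 (.leaf (nat_lit 0x264088812) (nat_lit 1031))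
)))) (.node (nat_lit 0x3957f9ea3) (.node (nat_lit 0x264481102) (.node (nat_lit 0x264408802) (.leaf (nat_lit 0x264401112) (nat_lit 1291))
 (.leaf (nat_lit 0x264408802) (nat_lit 775))
) (.node (nat_lit 0x264488810) (.leaf (nat_lit 0x264481102) (nat_lit 1291))
 (.node (nat_lit 0x3957f7bfc) (.leaf (nat_lit 0x264488810) (nat_lit 1031))
 (.leaf (nat_lit 0x3957f7bfc) (nat_lit 778))
))) (.node (nat_lit 0x3958f9ebc) (.node (nat_lit 0x3958f7bdf) (.leaf (nat_lit 0x3957f9ea3) (nat_lit 779))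
 (.leaf (nat_lit 0x3958f7bdf) (nat_lit 777))
) (.node (nat_lit 0x395f37be3) (.leaf (nat_lit 0x3958f9ebc) (nat_lit 1035))
 (.node (nat_lit 0x395f39e9f) (.leaf (nat_lit 0x395f37be3) (nat_lit 1029))
 (.leaf (nat_lit 0x395f39e9f) (nat_lit 1035))
))))) (.node (nat_lit 0x3a3eb77d5) (.node (nat_lit 0x39feb98ef) (.node (nat_lit 0x39fbf7f3a) (.node (nat_lit 0x39f5798fa) (.leaf (nat_lit 0x39f577f2f) (nat_lit 777))
 (.leaf (nat_lit 0x39f5798fa) (nat_lit 779))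
) (.node (nat_lit 0x39fbf98d5) (.leaf (nat_lit 0x39fbf7f3a) (nat_lit 1029))
 (.node (nat_lit 0x39feb7f15) (.leaf (nat_lit 0x39fbf98d5) (nat_lit 1035))
 (.leaf (nat_lit 0x39feb7f15) (nat_lit 1029))
))) (.node (nat_lit 0x3a3579f3a) (.node (nat_lit 0x3a35777ef) (.leaf (nat_lit 0x39feb98ef) (nat_lit 1035))
 (.leaf (nat_lit 0x3a35777ef) (nat_lit 778))
) (.node (nat_lit 0x3a3bf77fa) (.leaf (nat_lit 0x3a3579f3a) (nat_lit 1035))
 (.node (nat_lit 0x3a3bf9f15) (.leaf (nat_lit 0x3a3bf77fa) (nat_lit 1029))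
 (.leaf (nat_lit 0x3a3bf9f15) (nat_lit 1035))
)))) (.node (nat_lit 0x3af8f957c) (.node (nat_lit 0x3af7f7ebc) (.node (nat_lit 0x3a3eb9f2f) (.leaf (nat_lit 0x3a3eb77d5) (nat_lit 773))
 (.leaf (nat_lit 0x3a3eb9f2f) (nat_lit 1291))
) (.node (nat_lit 0x3af7f9563) (.leaf (nat_lit 0x3af7f7ebc) (nat_lit 1029))
 (.node (nat_lit 0x3af8f7e9f) (.leaf (nat_lit 0x3af7f9563) (nat_lit 1035))
 (.leaf (nat_lit 0x3af8f7e9f) (nat_lit 1029))
))) (.node (nat_lit 0x3ba7f757c) (.node (nat_lit 0x3aff37ea3) (.leaf (nat_lit 0x3af8f957c) (nat_lit 1035))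
 (.node (nat_lit 0x3aff3955f) (.leaf (nat_lit 0x3aff37ea3) (nat_lit 1030))
 (.leaf (nat_lit 0x3aff3955f) (nat_lit 1291))
)) (.node (nat_lit 0x3ba7f9be3) (.leaf (nat_lit 0x3ba7f757c) (nat_lit 1029))
 (.node (nat_lit 0x3ba8f755f) (.leaf (nat_lit 0x3ba7f9be3) (nat_lit 1035))
 (.leaf (nat_lit 0x3ba8f755f) (nat_lit 773))
))))))) (.node (nat_lit 0x3fd73eaa7) (.node (nat_lit 0x3dcf7e9ea) (.node (nat_lit 0x3d773ef67) (.node (nat_lit 0x3bcbf78fa) (.node (nat_lit 0x3baf39bdf) (.node (nat_lit 0x3baf37563) (.leaf (nat_lit 0x3ba8f9bfc) (nat_lit 1291))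
 (.leaf (nat_lit 0x3baf37563) (nat_lit 1029))
) (.node (nat_lit 0x3bc5778ef) (.leaf (nat_lit 0x3baf39bdf) (nat_lit 1035))
 (.node (nat_lit 0x3bc5797fa) (.leaf (nat_lit 0x3bc5778ef) (nat_lit 1029))
 (.leaf (nat_lit 0x3bc5797fa) (nat_lit 1035))
))) (.node (nat_lit 0x3bceb78d5) (.node (nat_lit 0x3bcbf97d5) (.leaf (nat_lit 0x3bcbf78fa) (nat_lit 1031))
 (.leaf (nat_lit 0x3bcbf97d5) (nat_lit 1291))
) (.node (nat_lit 0x3bceb97ef) (.leaf (nat_lit 0x3bceb78d5) (nat_lit 1029))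
 (.node (nat_lit 0x3d7731abb) (.leaf (nat_lit 0x3bceb97ef) (nat_lit 1035))
 (.leaf (nat_lit 0x3d7731abb) (nat_lit 779))
)))) (.node (nat_lit 0x3dc5f1eea) (.node (nat_lit 0x3d79fef7b) (.node (nat_lit 0x3d79f1a9c) (.leaf (nat_lit 0x3d773ef67) (nat_lit 774))
 (.leaf (nat_lit 0x3d79f1a9c) (nat_lit 1035))
) (.node (nat_lit 0x3d7ef1aa7) (.leaf (nat_lit 0x3d79fef7b) (nat_lit 1029))
 (.node (nat_lit 0x3d7efef5c) (.leaf (nat_lit 0x3d7ef1aa7) (nat_lit 1035))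
 (.leaf (nat_lit 0x3d7efef5c) (nat_lit 1029))
))) (.node (nat_lit 0x3dcab1efd) (.node (nat_lit 0x3dc5fe9fd) (.leaf (nat_lit 0x3dc5f1eea) (nat_lit 779))
 (.leaf (nat_lit 0x3dc5fe9fd) (nat_lit 775))
) (.node (nat_lit 0x3dcabe9d7) (.leaf (nat_lit 0x3dcab1efd) (nat_lit 1035))
 (.node (nat_lit 0x3dcf71ed7) (.leaf (nat_lit 0x3dcabe9d7) (nat_lit 1033))
 (.leaf (nat_lit 0x3dcf71ed7) (nat_lit 1035))
))))) (.node (nat_lit 0x3ea9fe5fb) (.node (nat_lit 0x3e7f71717) (.node (nat_lit 0x3e75feefd) (.node (nat_lit 0x3e75f172a) (.leaf (nat_lit 0x3dcf7e9ea) (nat_lit 1029))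
 (.leaf (nat_lit 0x3e75f172a) (nat_lit 1035))
) (.node (nat_lit 0x3e7ab173d) (.leaf (nat_lit 0x3e75feefd) (nat_lit 1029))
 (.node (nat_lit 0x3e7abeed7) (.leaf (nat_lit 0x3e7ab173d) (nat_lit 1035))
 (.leaf (nat_lit 0x3e7abeed7) (nat_lit 1029))
))) (.node (nat_lit 0x3ea731f7b) (.node (nat_lit 0x3e7f7eeea) (.leaf (nat_lit 0x3e7f71717) (nat_lit 1291))
 (.leaf (nat_lit 0x3e7f7eeea) (nat_lit 1028))
) (.node (nat_lit 0x3ea73e5e7) (.leaf (nat_lit 0x3ea731f7b) (nat_lit 1035))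
 (.node (nat_lit 0x3ea9f1f5c) (.leaf (nat_lit 0x3ea73e5e7) (nat_lit 1034))
 (.leaf (nat_lit 0x3ea9f1f5c) (nat_lit 1035))
)))) (.node (nat_lit 0x3fbab19fd) (.node (nat_lit 0x3eaefe5dc) (.node (nat_lit 0x3eaef1f67) (.leaf (nat_lit 0x3ea9fe5fb) (nat_lit 1029))
 (.leaf (nat_lit 0x3eaef1f67) (nat_lit 1291))
) (.node (nat_lit 0x3fb5f19ea) (.leaf (nat_lit 0x3eaefe5dc) (nat_lit 773))
 (.node (nat_lit 0x3fb5fe73d) (.leaf (nat_lit 0x3fb5f19ea) (nat_lit 1035))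
 (.leaf (nat_lit 0x3fb5fe73d) (nat_lit 1029))
))) (.node (nat_lit 0x3fbf719d7) (.node (nat_lit 0x3fbabe717) (.leaf (nat_lit 0x3fbab19fd) (nat_lit 1291))
 (.leaf (nat_lit 0x3fbabe717) (nat_lit 773))
) (.node (nat_lit 0x3fbf7e72a) (.leaf (nat_lit 0x3fbf719d7) (nat_lit 1035))
 (.node (nat_lit 0x3fd7315fb) (.leaf (nat_lit 0x3fbf7e72a) (nat_lit 1029))
 (.leaf (nat_lit 0x3fd7315fb) (nat_lit 1035))
)))))) (.node (nat_lit 0x408812264) (.node (nat_lit 0x401912204) (.node (nat_lit 0x401102264) (.node (nat_lit 0x3fd9feabb) (.node (nat_lit 0x3fd9f15dc) (.leaf (nat_lit 0x3fd73eaa7) (nat_lit 1029))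
 (.leaf (nat_lit 0x3fd9f15dc) (nat_lit 1291))
) (.node (nat_lit 0x3fdef15e7) (.leaf (nat_lit 0x3fd9feabb) (nat_lit 1028))
 (.node (nat_lit 0x3fdefea9c) (.leaf (nat_lit 0x3fdef15e7) (nat_lit 1035))
 (.leaf (nat_lit 0x3fdefea9c) (nat_lit 1029))
))) (.node (nat_lit 0x401802244) (.node (nat_lit 0x401112220) (.leaf (nat_lit 0x401102264) (nat_lit 774))
 (.leaf (nat_lit 0x401112220) (nat_lit 779))
) (.node (nat_lit 0x401812224) (.leaf (nat_lit 0x401802244) (nat_lit 518))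
 (.node (nat_lit 0x401902260) (.leaf (nat_lit 0x401812224) (nat_lit 1035))
 (.leaf (nat_lit 0x401902260) (nat_lit 774))
)))) (.node (nat_lit 0x404242908) (.node (nat_lit 0x404052808) (.node (nat_lit 0x404042909) (.leaf (nat_lit 0x401912204) (nat_lit 1035))
 (.leaf (nat_lit 0x404042909) (nat_lit 1032))
) (.node (nat_lit 0x404202901) (.leaf (nat_lit 0x404052808) (nat_lit 1035))
 (.node (nat_lit 0x404212809) (.leaf (nat_lit 0x404202901) (nat_lit 776))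
 (.leaf (nat_lit 0x404212809) (nat_lit 1291))
))) (.node (nat_lit 0x408102064) (.node (nat_lit 0x404252801) (.leaf (nat_lit 0x404242908) (nat_lit 1032))
 (.leaf (nat_lit 0x404252801) (nat_lit 1291))
) (.node (nat_lit 0x408112260) (.leaf (nat_lit 0x408102064) (nat_lit 518))
 (.node (nat_lit 0x408802044) (.leaf (nat_lit 0x408112260) (nat_lit 1035))
 (.leaf (nat_lit 0x408802044) (nat_lit 262))
))))) (.node (nat_lit 0x420052908) (.node (nat_lit 0x409802204) (.node (nat_lit 0x408912244) (.node (nat_lit 0x408902060) (.leaf (nat_lit 0x408812264) (nat_lit 1291))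
 (.leaf (nat_lit 0x408902060) (nat_lit 518))
) (.node (nat_lit 0x409102224) (.leaf (nat_lit 0x408912244) (nat_lit 1291))
 (.node (nat_lit 0x409112060) (.leaf (nat_lit 0x409102224) (nat_lit 774))
 (.leaf (nat_lit 0x409112060) (nat_lit 1035))
))) (.node (nat_lit 0x409902220) (.node (nat_lit 0x409812064) (.leaf (nat_lit 0x409802204) (nat_lit 518))
 (.leaf (nat_lit 0x409812064) (nat_lit 1291))
) (.node (nat_lit 0x409912044) (.leaf (nat_lit 0x409902220) (nat_lit 774))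
 (.node (nat_lit 0x420042109) (.leaf (nat_lit 0x409912044) (nat_lit 1291))
 (.leaf (nat_lit 0x420042109) (nat_lit 776))
)))) (.node (nat_lit 0x424042809) (.node (nat_lit 0x420212909) (.node (nat_lit 0x420202101) (.leaf (nat_lit 0x420052908) (nat_lit 1291))
 (.leaf (nat_lit 0x420202101) (nat_lit 520))
) (.node (nat_lit 0x420242108) (.leaf (nat_lit 0x420212909) (nat_lit 1291))
 (.node (nat_lit 0x420252901) (.leaf (nat_lit 0x420242108) (nat_lit 776))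
 (.leaf (nat_lit 0x420252901) (nat_lit 1547))
))) (.node (nat_lit 0x424212109) (.node (nat_lit 0x424052108) (.leaf (nat_lit 0x424042809) (nat_lit 1032))
 (.node (nat_lit 0x424202801) (.leaf (nat_lit 0x424052108) (nat_lit 1291))
 (.leaf (nat_lit 0x424202801) (nat_lit 776))
)) (.node (nat_lit 0x424242808) (.leaf (nat_lit 0x424212109) (nat_lit 1547))
 (.node (nat_lit 0x424252101) (.leaf (nat_lit 0x424242808) (nat_lit 1032))
 (.leaf (nat_lit 0x424252101) (nat_lit 1547))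
))))))))) (.node (nat_lit 0x7751eeaff) (.node (nat_lit 0x5dcc7d9cf) (.node (nat_lit 0x54ef2fde3) (.node (nat_lit 0x489802064) (.node (nat_lit 0x484242801) (.node (nat_lit 0x481910260) (.node (nat_lit 0x481802224) (.node (nat_lit 0x481110264) (.leaf (nat_lit 0x481102220) (nat_lit 779))
 (.leaf (nat_lit 0x481110264) (nat_lit 1030))
) (.node (nat_lit 0x481810244) (.leaf (nat_lit 0x481802224) (nat_lit 1035))
 (.node (nat_lit 0x481902204) (.leaf (nat_lit 0x481810244) (nat_lit 774))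
 (.leaf (nat_lit 0x481902204) (nat_lit 1035))
))) (.node (nat_lit 0x484050909) (.node (nat_lit 0x484042808) (.leaf (nat_lit 0x481910260) (nat_lit 1030))
 (.leaf (nat_lit 0x484042808) (nat_lit 1035))
) (.node (nat_lit 0x484202809) (.leaf (nat_lit 0x484050909) (nat_lit 1288))
 (.node (nat_lit 0x484210901) (.leaf (nat_lit 0x484202809) (nat_lit 1291))
 (.leaf (nat_lit 0x484210901) (nat_lit 1032))
)))) (.node (nat_lit 0x488810044) (.node (nat_lit 0x488102260) (.node (nat_lit 0x484250908) (.leaf (nat_lit 0x484242801) (nat_lit 1291))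
 (.leaf (nat_lit 0x484250908) (nat_lit 1288))
) (.node (nat_lit 0x488110064) (.leaf (nat_lit 0x488102260) (nat_lit 1035))
 (.node (nat_lit 0x488802264) (.leaf (nat_lit 0x488110064) (nat_lit 774))
 (.leaf (nat_lit 0x488802264) (nat_lit 1291))
))) (.node (nat_lit 0x488910060) (.node (nat_lit 0x488902244) (.leaf (nat_lit 0x488810044) (nat_lit 518))
 (.leaf (nat_lit 0x488902244) (nat_lit 1291))
) (.node (nat_lit 0x489102060) (.leaf (nat_lit 0x488910060) (nat_lit 774))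
 (.node (nat_lit 0x489110224) (.leaf (nat_lit 0x489102060) (nat_lit 1035))
 (.leaf (nat_lit 0x489110224) (nat_lit 1030))
))))) (.node (nat_lit 0x4a4042108) (.node (nat_lit 0x4a0050109) (.node (nat_lit 0x489902044) (.node (nat_lit 0x489810204) (.leaf (nat_lit 0x489802064) (nat_lit 1291))
 (.leaf (nat_lit 0x489810204) (nat_lit 774))
) (.node (nat_lit 0x489910220) (.leaf (nat_lit 0x489902044) (nat_lit 1291))
 (.node (nat_lit 0x4a0042908) (.leaf (nat_lit 0x489910220) (nat_lit 1030))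
 (.leaf (nat_lit 0x4a0042908) (nat_lit 1291))
))) (.node (nat_lit 0x4a0210101) (.node (nat_lit 0x4a0202909) (.leaf (nat_lit 0x4a0050109) (nat_lit 1032))
 (.leaf (nat_lit 0x4a0202909) (nat_lit 1547))
) (.node (nat_lit 0x4a0242901) (.leaf (nat_lit 0x4a0210101) (nat_lit 776))
 (.node (nat_lit 0x4a0250108) (.leaf (nat_lit 0x4a0242901) (nat_lit 1547))
 (.leaf (nat_lit 0x4a0250108) (nat_lit 1032))
)))) (.node (nat_lit 0x4a4250808) (.node (nat_lit 0x4a4202109) (.node (nat_lit 0x4a4050809) (.leaf (nat_lit 0x4a4042108) (nat_lit 1291))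
 (.leaf (nat_lit 0x4a4050809) (nat_lit 1289))
) (.node (nat_lit 0x4a4210801) (.leaf (nat_lit 0x4a4202109) (nat_lit 1547))
 (.node (nat_lit 0x4a4242101) (.leaf (nat_lit 0x4a4210801) (nat_lit 1032))
 (.leaf (nat_lit 0x4a4242101) (nat_lit 1291))
))) (.node (nat_lit 0x54e7fae63) (.node (nat_lit 0x54e7efdfc) (.leaf (nat_lit 0x4a4250808) (nat_lit 1033))
 (.leaf (nat_lit 0x54e7efdfc) (nat_lit 777))
) (.node (nat_lit 0x54e8efddf) (.leaf (nat_lit 0x54e7fae63) (nat_lit 779))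
 (.node (nat_lit 0x54e8fae7c) (.leaf (nat_lit 0x54e8efddf) (nat_lit 778))
 (.leaf (nat_lit 0x54e8fae7c) (nat_lit 1035))
)))))) (.node (nat_lit 0x5797ef3bc) (.node (nat_lit 0x563def7f9) (.node (nat_lit 0x55fdfa8ce) (.node (nat_lit 0x55f3aff37) (.node (nat_lit 0x54ef3ae5f) (.leaf (nat_lit 0x54ef2fde3) (nat_lit 1025))
 (.leaf (nat_lit 0x54ef3ae5f) (nat_lit 1035))
) (.node (nat_lit 0x55f3ba8f9) (.leaf (nat_lit 0x55f3aff37) (nat_lit 778))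
 (.node (nat_lit 0x55fdeff39) (.leaf (nat_lit 0x55f3ba8f9) (nat_lit 779))
 (.leaf (nat_lit 0x55fdeff39) (nat_lit 1025))
))) (.node (nat_lit 0x55fe7a8f7) (.node (nat_lit 0x55fe6ff0e) (.leaf (nat_lit 0x55fdfa8ce) (nat_lit 1035))
 (.leaf (nat_lit 0x55fe6ff0e) (nat_lit 1024))
) (.node (nat_lit 0x5633af7f7) (.leaf (nat_lit 0x55fe7a8f7) (nat_lit 1035))
 (.node (nat_lit 0x5633baf39) (.leaf (nat_lit 0x5633af7f7) (nat_lit 777))
 (.leaf (nat_lit 0x5633baf39) (nat_lit 1035))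
)))) (.node (nat_lit 0x5777fa3a3) (.node (nat_lit 0x563e6f7ce) (.node (nat_lit 0x563dfaf0e) (.leaf (nat_lit 0x563def7f9) (nat_lit 1034))
 (.leaf (nat_lit 0x563dfaf0e) (nat_lit 1035))
) (.node (nat_lit 0x563e7af37) (.leaf (nat_lit 0x563e6f7ce) (nat_lit 773))
 (.node (nat_lit 0x5777efe7c) (.leaf (nat_lit 0x563e7af37) (nat_lit 1291))
 (.leaf (nat_lit 0x5777efe7c) (nat_lit 1027))
))) (.node (nat_lit 0x5778fa3bc) (.node (nat_lit 0x5778efe5f) (.leaf (nat_lit 0x5777fa3a3) (nat_lit 1035))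
 (.leaf (nat_lit 0x5778efe5f) (nat_lit 1033))
) (.node (nat_lit 0x577f2fe63) (.leaf (nat_lit 0x5778fa3bc) (nat_lit 1035))
 (.node (nat_lit 0x577f3a39f) (.leaf (nat_lit 0x577f2fe63) (nat_lit 1030))
 (.leaf (nat_lit 0x577f3a39f) (nat_lit 1291))
))))) (.node (nat_lit 0x57ce6f8ce) (.node (nat_lit 0x579f3addf) (.node (nat_lit 0x5798ef39f) (.node (nat_lit 0x5797fade3) (.leaf (nat_lit 0x5797ef3bc) (nat_lit 1026))
 (.leaf (nat_lit 0x5797fade3) (nat_lit 1035))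
) (.node (nat_lit 0x5798fadfc) (.leaf (nat_lit 0x5798ef39f) (nat_lit 773))
 (.node (nat_lit 0x579f2f3a3) (.leaf (nat_lit 0x5798fadfc) (nat_lit 1291))
 (.leaf (nat_lit 0x579f2f3a3) (nat_lit 1031))
))) (.node (nat_lit 0x57c3ba7f9) (.node (nat_lit 0x57c3af8f7) (.leaf (nat_lit 0x579f3addf) (nat_lit 1035))
 (.leaf (nat_lit 0x57c3af8f7) (nat_lit 1027))
) (.node (nat_lit 0x57cdef8f9) (.leaf (nat_lit 0x57c3ba7f9) (nat_lit 1035))
 (.node (nat_lit 0x57cdfa7ce) (.leaf (nat_lit 0x57cdef8f9) (nat_lit 1031))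
 (.leaf (nat_lit 0x57cdfa7ce) (nat_lit 1291))
)))) (.node (nat_lit 0x5cf9fdfbb) (.node (nat_lit 0x5cf72ac7b) (.node (nat_lit 0x57ce7a7f7) (.leaf (nat_lit 0x57ce6f8ce) (nat_lit 1030))
 (.leaf (nat_lit 0x57ce7a7f7) (nat_lit 1035))
) (.node (nat_lit 0x5cf73dfa7) (.leaf (nat_lit 0x5cf72ac7b) (nat_lit 779))
 (.node (nat_lit 0x5cf9eac5c) (.leaf (nat_lit 0x5cf73dfa7) (nat_lit 774))
 (.leaf (nat_lit 0x5cf9eac5c) (nat_lit 1035))
))) (.node (nat_lit 0x5dc3eaef1) (.node (nat_lit 0x5cfeeac67) (.leaf (nat_lit 0x5cf9fdfbb) (nat_lit 1029))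
 (.node (nat_lit 0x5cfefdf9c) (.leaf (nat_lit 0x5cfeeac67) (nat_lit 1035))
 (.leaf (nat_lit 0x5cfefdf9c) (nat_lit 1029))
)) (.node (nat_lit 0x5dc3fd9fe) (.leaf (nat_lit 0x5dc3eaef1) (nat_lit 779))
 (.node (nat_lit 0x5dcc6aefe) (.leaf (nat_lit 0x5dc3fd9fe) (nat_lit 775))
 (.leaf (nat_lit 0x5dcc6aefe) (nat_lit 1035))
))))))) (.node (nat_lit 0x72a3fbf71) (.node (nat_lit 0x5fbfbd731) (.node (nat_lit 0x5f173d3e7) (.node (nat_lit 0x5e7c6a73e) (.node (nat_lit 0x5dcfbd9f1) (.node (nat_lit 0x5dcfaaecf) (.leaf (nat_lit 0x5dcc7d9cf) (nat_lit 1034))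
 (.leaf (nat_lit 0x5dcfaaecf) (nat_lit 1035))
) (.node (nat_lit 0x5e73ea731) (.leaf (nat_lit 0x5dcfbd9f1) (nat_lit 1029))
 (.node (nat_lit 0x5e73fdefe) (.leaf (nat_lit 0x5e73ea731) (nat_lit 1035))
 (.leaf (nat_lit 0x5e73fdefe) (nat_lit 1029))
))) (.node (nat_lit 0x5e7faa70f) (.node (nat_lit 0x5e7c7decf) (.leaf (nat_lit 0x5e7c6a73e) (nat_lit 1035))
 (.leaf (nat_lit 0x5e7c7decf) (nat_lit 1030))
) (.node (nat_lit 0x5e7fbdef1) (.leaf (nat_lit 0x5e7faa70f) (nat_lit 1291))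
 (.node (nat_lit 0x5f172afbb) (.leaf (nat_lit 0x5e7fbdef1) (nat_lit 1028))
 (.leaf (nat_lit 0x5f172afbb) (nat_lit 1035))
)))) (.node (nat_lit 0x5fb3ea9f1) (.node (nat_lit 0x5f19fd3fb) (.node (nat_lit 0x5f19eaf9c) (.leaf (nat_lit 0x5f173d3e7) (nat_lit 1033))
 (.leaf (nat_lit 0x5f19eaf9c) (nat_lit 1035))
) (.node (nat_lit 0x5f1eeafa7) (.leaf (nat_lit 0x5f19fd3fb) (nat_lit 1031))
 (.node (nat_lit 0x5f1efd3dc) (.leaf (nat_lit 0x5f1eeafa7) (nat_lit 1291))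
 (.leaf (nat_lit 0x5f1efd3dc) (nat_lit 773))
))) (.node (nat_lit 0x5fbc6a9fe) (.node (nat_lit 0x5fb3fd73e) (.leaf (nat_lit 0x5fb3ea9f1) (nat_lit 1035))
 (.leaf (nat_lit 0x5fb3fd73e) (nat_lit 1029))
) (.node (nat_lit 0x5fbc7d70f) (.leaf (nat_lit 0x5fbc6a9fe) (nat_lit 1291))
 (.node (nat_lit 0x5fbfaa9cf) (.leaf (nat_lit 0x5fbc7d70f) (nat_lit 773))
 (.leaf (nat_lit 0x5fbfaa9cf) (nat_lit 1035))
))))) (.node (nat_lit 0x70fabbc7d) (.node (nat_lit 0x5feeea3e7) (.node (nat_lit 0x5fe73dc67) (.node (nat_lit 0x5fe72a3fb) (.leaf (nat_lit 0x5fbfbd731) (nat_lit 1029))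
 (.leaf (nat_lit 0x5fe72a3fb) (nat_lit 1035))
) (.node (nat_lit 0x5fe9ea3dc) (.leaf (nat_lit 0x5fe73dc67) (nat_lit 1029))
 (.node (nat_lit 0x5fe9fdc7b) (.leaf (nat_lit 0x5fe9ea3dc) (nat_lit 1291))
 (.leaf (nat_lit 0x5fe9fdc7b) (nat_lit 1028))
))) (.node (nat_lit 0x70f5e7fbd) (.node (nat_lit 0x5feefdc5c) (.leaf (nat_lit 0x5feeea3e7) (nat_lit 1035))
 (.leaf (nat_lit 0x5feefdc5c) (nat_lit 1029))
) (.node (nat_lit 0x70f5fbc6a) (.leaf (nat_lit 0x70f5e7fbd) (nat_lit 521))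
 (.node (nat_lit 0x70faa7f97) (.leaf (nat_lit 0x70f5fbc6a) (nat_lit 1035))
 (.leaf (nat_lit 0x70faa7f97) (nat_lit 768))
)))) (.node (nat_lit 0x717c67f4f) (.node (nat_lit 0x70ff7bc57) (.node (nat_lit 0x70ff67faa) (.leaf (nat_lit 0x70fabbc7d) (nat_lit 1291))
 (.leaf (nat_lit 0x70ff67faa) (nat_lit 769))
) (.node (nat_lit 0x7173e7f7e) (.leaf (nat_lit 0x70ff7bc57) (nat_lit 1291))
 (.node (nat_lit 0x7173fbab1) (.leaf (nat_lit 0x7173e7f7e) (nat_lit 522))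
 (.leaf (nat_lit 0x7173fbab1) (nat_lit 1035))
))) (.node (nat_lit 0x717fa7f71) (.node (nat_lit 0x717c7babe) (.leaf (nat_lit 0x717c67f4f) (nat_lit 768))
 (.leaf (nat_lit 0x717c7babe) (nat_lit 1291))
) (.node (nat_lit 0x717fbba8f) (.leaf (nat_lit 0x717fa7f71) (nat_lit 769))
 (.node (nat_lit 0x72a3e75fe) (.leaf (nat_lit 0x717fbba8f) (nat_lit 1291))
 (.leaf (nat_lit 0x72a3e75fe) (nat_lit 770))
)))))) (.node (nat_lit 0x73eabb3fd) (.node (nat_lit 0x731f7bf97) (.node (nat_lit 0x7315e73fd) (.node (nat_lit 0x72ac7bf7e) (.node (nat_lit 0x72ac675cf) (.leaf (nat_lit 0x72a3fbf71) (nat_lit 1291))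
 (.leaf (nat_lit 0x72ac675cf) (nat_lit 1029))
) (.node (nat_lit 0x72afa75f1) (.leaf (nat_lit 0x72ac7bf7e) (nat_lit 1291))
 (.node (nat_lit 0x72afbbf4f) (.leaf (nat_lit 0x72afa75f1) (nat_lit 778))
 (.leaf (nat_lit 0x72afbbf4f) (nat_lit 1291))
))) (.node (nat_lit 0x731aa73d7) (.node (nat_lit 0x7315fbfaa) (.leaf (nat_lit 0x7315e73fd) (nat_lit 770))
 (.leaf (nat_lit 0x7315fbfaa) (nat_lit 1291))
) (.node (nat_lit 0x731abbfbd) (.leaf (nat_lit 0x731aa73d7) (nat_lit 1029))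
 (.node (nat_lit 0x731f673ea) (.leaf (nat_lit 0x731abbfbd) (nat_lit 1291))
 (.leaf (nat_lit 0x731f673ea) (nat_lit 777))
)))) (.node (nat_lit 0x73dfa7ab1) (.node (nat_lit 0x73d3fb5f1) (.node (nat_lit 0x73d3e7abe) (.leaf (nat_lit 0x731f7bf97) (nat_lit 1291))
 (.leaf (nat_lit 0x73d3e7abe) (nat_lit 771))
) (.node (nat_lit 0x73dc67a8f) (.leaf (nat_lit 0x73d3fb5f1) (nat_lit 1291))
 (.node (nat_lit 0x73dc7b5fe) (.leaf (nat_lit 0x73dc67a8f) (nat_lit 778))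
 (.leaf (nat_lit 0x73dc7b5fe) (nat_lit 1291))
))) (.node (nat_lit 0x73e5e7c7d) (.node (nat_lit 0x73dfbb5cf) (.leaf (nat_lit 0x73dfa7ab1) (nat_lit 1024))
 (.leaf (nat_lit 0x73dfbb5cf) (nat_lit 1035))
) (.node (nat_lit 0x73e5fb3ea) (.leaf (nat_lit 0x73e5e7c7d) (nat_lit 771))
 (.node (nat_lit 0x73eaa7c57) (.leaf (nat_lit 0x73e5fb3ea) (nat_lit 1291))
 (.leaf (nat_lit 0x73eaa7c57) (nat_lit 777))
))))) (.node (nat_lit 0x75e1f3af8) (.node (nat_lit 0x747aeefde) (.node (nat_lit 0x73ef7b3d7) (.node (nat_lit 0x73ef67c6a) (.leaf (nat_lit 0x73eabb3fd) (nat_lit 1291))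
 (.leaf (nat_lit 0x73ef67c6a) (nat_lit 1026))
) (.node (nat_lit 0x7477aeff5) (.leaf (nat_lit 0x73ef7b3d7) (nat_lit 1035))
 (.node (nat_lit 0x7477b3e2b) (.leaf (nat_lit 0x7477aeff5) (nat_lit 777))
 (.leaf (nat_lit 0x7477b3e2b) (nat_lit 779))
))) (.node (nat_lit 0x747d6efeb) (.node (nat_lit 0x747af3e35) (.leaf (nat_lit 0x747aeefde) (nat_lit 1024))
 (.leaf (nat_lit 0x747af3e35) (nat_lit 1035))
) (.node (nat_lit 0x747d73e1e) (.leaf (nat_lit 0x747d6efeb) (nat_lit 1025))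
 (.node (nat_lit 0x75e1eed7f) (.leaf (nat_lit 0x747d73e1e) (nat_lit 1035))
 (.leaf (nat_lit 0x75e1eed7f) (nat_lit 778))
)))) (.node (nat_lit 0x76b1ee7bf) (.node (nat_lit 0x75ee33aff) (.node (nat_lit 0x75ee2ed47) (.leaf (nat_lit 0x75e1f3af8) (nat_lit 779))
 (.leaf (nat_lit 0x75ee2ed47) (nat_lit 1024))
) (.node (nat_lit 0x75efeed78) (.leaf (nat_lit 0x75ee33aff) (nat_lit 1035))
 (.node (nat_lit 0x75eff3ac7) (.leaf (nat_lit 0x75efeed78) (nat_lit 1025))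
 (.leaf (nat_lit 0x75eff3ac7) (nat_lit 1035))
))) (.node (nat_lit 0x76be33d7f) (.node (nat_lit 0x76b1f3d78) (.leaf (nat_lit 0x76b1ee7bf) (nat_lit 1026))
 (.node (nat_lit 0x76be2e787) (.leaf (nat_lit 0x76b1f3d78) (nat_lit 1035))
 (.leaf (nat_lit 0x76be2e787) (nat_lit 774))
)) (.node (nat_lit 0x76bfee7b8) (.leaf (nat_lit 0x76be33d7f) (nat_lit 1291))
 (.node (nat_lit 0x76bff3d47) (.leaf (nat_lit 0x76bfee7b8) (nat_lit 1034))
 (.leaf (nat_lit 0x76bff3d47) (nat_lit 1291))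
)))))))) (.node (nat_lit 0x7f9bfc3ba) (.node (nat_lit 0x7b3febb87) (.node (nat_lit 0x787babe1d) (.node (nat_lit 0x778d6e1eb) (.node (nat_lit 0x775ff3787) (.node (nat_lit 0x775e2eac7) (.node (nat_lit 0x7751f37b8) (.leaf (nat_lit 0x7751eeaff) (nat_lit 1027))
 (.leaf (nat_lit 0x7751f37b8) (nat_lit 1035))
) (.node (nat_lit 0x775e337bf) (.leaf (nat_lit 0x775e2eac7) (nat_lit 774))
 (.node (nat_lit 0x775feeaf8) (.leaf (nat_lit 0x775e337bf) (nat_lit 1291))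
 (.leaf (nat_lit 0x775feeaf8) (nat_lit 1028))
))) (.node (nat_lit 0x7787b3feb) (.node (nat_lit 0x7787ae1f5) (.leaf (nat_lit 0x775ff3787) (nat_lit 1291))
 (.leaf (nat_lit 0x7787ae1f5) (nat_lit 1026))
) (.node (nat_lit 0x778aee1de) (.leaf (nat_lit 0x7787b3feb) (nat_lit 1035))
 (.node (nat_lit 0x778af3ff5) (.leaf (nat_lit 0x778aee1de) (nat_lit 775))
 (.leaf (nat_lit 0x778af3ff5) (nat_lit 1291))
)))) (.node (nat_lit 0x77faf31f5) (.node (nat_lit 0x77f7aee35) (.node (nat_lit 0x778d73fde) (.leaf (nat_lit 0x778d6e1eb) (nat_lit 775))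
 (.leaf (nat_lit 0x778d73fde) (nat_lit 1291))
) (.node (nat_lit 0x77f7b31eb) (.leaf (nat_lit 0x77f7aee35) (nat_lit 1027))
 (.node (nat_lit 0x77faeee1e) (.leaf (nat_lit 0x77f7b31eb) (nat_lit 1035))
 (.leaf (nat_lit 0x77faeee1e) (nat_lit 1033))
))) (.node (nat_lit 0x77fd731de) (.node (nat_lit 0x77fd6ee2b) (.leaf (nat_lit 0x77faf31f5) (nat_lit 1291))
 (.leaf (nat_lit 0x77fd6ee2b) (nat_lit 1028))
) (.node (nat_lit 0x78776be33) (.leaf (nat_lit 0x77fd731de) (nat_lit 1291))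
 (.node (nat_lit 0x787775fee) (.leaf (nat_lit 0x78776be33) (nat_lit 779))
 (.leaf (nat_lit 0x787775fee) (nat_lit 778))
))))) (.node (nat_lit 0x7ae1eb778) (.node (nat_lit 0x79d1f5bbf) (.node (nat_lit 0x787cebe2e) (.node (nat_lit 0x787bb5ff3) (.leaf (nat_lit 0x787babe1d) (nat_lit 1035))
 (.leaf (nat_lit 0x787bb5ff3) (nat_lit 1025))
) (.node (nat_lit 0x787cf5fdd) (.leaf (nat_lit 0x787cebe2e) (nat_lit 1035))
 (.node (nat_lit 0x79d1ebcf8) (.leaf (nat_lit 0x787cf5fdd) (nat_lit 1024))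
 (.leaf (nat_lit 0x79d1ebcf8) (nat_lit 779))
))) (.node (nat_lit 0x79de35b87) (.node (nat_lit 0x79de2bcff) (.leaf (nat_lit 0x79d1f5bbf) (nat_lit 777))
 (.leaf (nat_lit 0x79de2bcff) (nat_lit 1035))
) (.node (nat_lit 0x79dfebcc7) (.leaf (nat_lit 0x79de35b87) (nat_lit 1024))
 (.node (nat_lit 0x79dff5bb8) (.leaf (nat_lit 0x79dfebcc7) (nat_lit 1035))
 (.leaf (nat_lit 0x79dff5bb8) (nat_lit 1025))
)))) (.node (nat_lit 0x7aeff5cf8) (.node (nat_lit 0x7aee2b77f) (.node (nat_lit 0x7ae1f5cff) (.leaf (nat_lit 0x7ae1eb778) (nat_lit 1035))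
 (.leaf (nat_lit 0x7ae1f5cff) (nat_lit 1027))
) (.node (nat_lit 0x7aee35cc7) (.leaf (nat_lit 0x7aee2b77f) (nat_lit 1291))
 (.node (nat_lit 0x7aefeb747) (.leaf (nat_lit 0x7aee35cc7) (nat_lit 774))
 (.leaf (nat_lit 0x7aefeb747) (nat_lit 1291))
))) (.node (nat_lit 0x7b31f577f) (.node (nat_lit 0x7b31ebbb8) (.leaf (nat_lit 0x7aeff5cf8) (nat_lit 1028))
 (.leaf (nat_lit 0x7b31ebbb8) (nat_lit 1035))
) (.node (nat_lit 0x7b3e2bbbf) (.leaf (nat_lit 0x7b31f577f) (nat_lit 1026))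
 (.node (nat_lit 0x7b3e35747) (.leaf (nat_lit 0x7b3e2bbbf) (nat_lit 1291))
 (.leaf (nat_lit 0x7b3e35747) (nat_lit 774))
)))))) (.node (nat_lit 0x7d53a3eb9) (.node (nat_lit 0x7bfbab1dd) (.node (nat_lit 0x7b8bb51f3) (.node (nat_lit 0x7b876bff3) (.node (nat_lit 0x7b3ff5778) (.leaf (nat_lit 0x7b3febb87) (nat_lit 1291))
 (.leaf (nat_lit 0x7b3ff5778) (nat_lit 1033))
) (.node (nat_lit 0x7b87751ee) (.leaf (nat_lit 0x7b876bff3) (nat_lit 1035))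
 (.node (nat_lit 0x7b8babfdd) (.leaf (nat_lit 0x7b87751ee) (nat_lit 1026))
 (.leaf (nat_lit 0x7b8babfdd) (nat_lit 1291))
))) (.node (nat_lit 0x7b8cf51dd) (.node (nat_lit 0x7b8cebfee) (.leaf (nat_lit 0x7b8bb51f3) (nat_lit 775))
 (.leaf (nat_lit 0x7b8cebfee) (nat_lit 1291))
) (.node (nat_lit 0x7bf76b1f3) (.leaf (nat_lit 0x7b8cf51dd) (nat_lit 775))
 (.node (nat_lit 0x7bf775e2e) (.leaf (nat_lit 0x7bf76b1f3) (nat_lit 1035))
 (.leaf (nat_lit 0x7bf775e2e) (nat_lit 1027))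
)))) (.node (nat_lit 0x7ce57cdef) (.node (nat_lit 0x7bfceb1ee) (.node (nat_lit 0x7bfbb5e33) (.leaf (nat_lit 0x7bfbab1dd) (nat_lit 1291))
 (.leaf (nat_lit 0x7bfbb5e33) (nat_lit 1028))
) (.node (nat_lit 0x7bfcf5e1d) (.leaf (nat_lit 0x7bfceb1ee) (nat_lit 1291))
 (.node (nat_lit 0x7ce563e7a) (.leaf (nat_lit 0x7bfcf5e1d) (nat_lit 1034))
 (.leaf (nat_lit 0x7ce563e7a) (nat_lit 1035))
))) (.node (nat_lit 0x7cebfcdfa) (.node (nat_lit 0x7cebe3e55) (.leaf (nat_lit 0x7ce57cdef) (nat_lit 1034))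
 (.leaf (nat_lit 0x7cebe3e55) (nat_lit 1291))
) (.node (nat_lit 0x7ceea3e6f) (.leaf (nat_lit 0x7cebfcdfa) (nat_lit 1028))
 (.node (nat_lit 0x7ceebcdd5) (.leaf (nat_lit 0x7ceea3e6f) (nat_lit 1291))
 (.leaf (nat_lit 0x7ceebcdd5) (nat_lit 1028))
))))) (.node (nat_lit 0x7efe63577) (.node (nat_lit 0x7d5e7cbce) (.node (nat_lit 0x7d5de3e8e) (.node (nat_lit 0x7d53bcbf7) (.leaf (nat_lit 0x7d53a3eb9) (nat_lit 1035))
 (.leaf (nat_lit 0x7d53bcbf7) (nat_lit 1033))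
) (.node (nat_lit 0x7d5dfcbf9) (.leaf (nat_lit 0x7d5de3e8e) (nat_lit 1291))
 (.node (nat_lit 0x7d5e63eb7) (.leaf (nat_lit 0x7d5dfcbf9) (nat_lit 1028))
 (.leaf (nat_lit 0x7d5e63eb7) (nat_lit 1291))
))) (.node (nat_lit 0x7ef3bceb7) (.node (nat_lit 0x7ef3a3579) (.leaf (nat_lit 0x7d5e7cbce) (nat_lit 1028))
 (.leaf (nat_lit 0x7ef3a3579) (nat_lit 1291))
) (.node (nat_lit 0x7efde354e) (.leaf (nat_lit 0x7ef3bceb7) (nat_lit 1028))
 (.node (nat_lit 0x7efdfceb9) (.leaf (nat_lit 0x7efde354e) (nat_lit 1291))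
 (.leaf (nat_lit 0x7efdfceb9) (nat_lit 772))
)))) (.node (nat_lit 0x7f7bfce7a) (.node (nat_lit 0x7f75633ba) (.node (nat_lit 0x7efe7ce8e) (.leaf (nat_lit 0x7efe63577) (nat_lit 1291))
 (.leaf (nat_lit 0x7efe7ce8e) (nat_lit 1030))
) (.node (nat_lit 0x7f757ce6f) (.leaf (nat_lit 0x7f75633ba) (nat_lit 1291))
 (.node (nat_lit 0x7f7be3395) (.leaf (nat_lit 0x7f757ce6f) (nat_lit 1028))
 (.leaf (nat_lit 0x7f7be3395) (nat_lit 1291))
))) (.node (nat_lit 0x7f9563dfa) (.node (nat_lit 0x7f7ea33af) (.leaf (nat_lit 0x7f7bfce7a) (nat_lit 772))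
 (.node (nat_lit 0x7f7ebce55) (.leaf (nat_lit 0x7f7ea33af) (nat_lit 1291))
 (.leaf (nat_lit 0x7f7ebce55) (nat_lit 1030))
)) (.node (nat_lit 0x7f957c3af) (.leaf (nat_lit 0x7f9563dfa) (nat_lit 1291))
 (.node (nat_lit 0x7f9be3dd5) (.leaf (nat_lit 0x7f957c3af) (nat_lit 1028))
 (.leaf (nat_lit 0x7f9be3dd5) (nat_lit 1291))
))))))) (.node (nat_lit 0x812064088) (.node (nat_lit 0x802264401) (.node (nat_lit 0x8010a4210) (.node (nat_lit 0x7fade3bce) (.node (nat_lit 0x7f9ebc395) (.node (nat_lit 0x7f9ea3def) (.leaf (nat_lit 0x7f9bfc3ba) (nat_lit 1031))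
 (.leaf (nat_lit 0x7f9ea3def) (nat_lit 1035))
) (.node (nat_lit 0x7fa3a3bf9) (.leaf (nat_lit 0x7f9ebc395) (nat_lit 1031))
 (.node (nat_lit 0x7fa3bc577) (.leaf (nat_lit 0x7fa3a3bf9) (nat_lit 1291))
 (.leaf (nat_lit 0x7fa3bc577) (nat_lit 1028))
))) (.node (nat_lit 0x7fae63bf7) (.node (nat_lit 0x7fadfc579) (.leaf (nat_lit 0x7fade3bce) (nat_lit 1291))
 (.leaf (nat_lit 0x7fadfc579) (nat_lit 1031))
) (.node (nat_lit 0x7fae7c54e) (.leaf (nat_lit 0x7fae63bf7) (nat_lit 1035))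
 (.node (nat_lit 0x801084252) (.leaf (nat_lit 0x7fae7c54e) (nat_lit 1030))
 (.leaf (nat_lit 0x801084252) (nat_lit 776))
)))) (.node (nat_lit 0x802044489) (.node (nat_lit 0x801424212) (.node (nat_lit 0x801404242) (.leaf (nat_lit 0x8010a4210) (nat_lit 779))
 (.leaf (nat_lit 0x801404242) (nat_lit 520))
) (.node (nat_lit 0x801484250) (.leaf (nat_lit 0x801424212) (nat_lit 1035))
 (.node (nat_lit 0x8014a4202) (.leaf (nat_lit 0x801484250) (nat_lit 776))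
 (.leaf (nat_lit 0x8014a4202) (nat_lit 1035))
))) (.node (nat_lit 0x802204481) (.node (nat_lit 0x802064408) (.leaf (nat_lit 0x802044489) (nat_lit 515))
 (.leaf (nat_lit 0x802064408) (nat_lit 523))
) (.node (nat_lit 0x802224409) (.leaf (nat_lit 0x802204481) (nat_lit 259))
 (.node (nat_lit 0x802244488) (.leaf (nat_lit 0x802224409) (nat_lit 779))
 (.leaf (nat_lit 0x802244488) (nat_lit 515))
))))) (.node (nat_lit 0x809424052) (.node (nat_lit 0x808484050) (.node (nat_lit 0x8080a4250) (.node (nat_lit 0x808084052) (.leaf (nat_lit 0x802264401) (nat_lit 779))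
 (.leaf (nat_lit 0x808084052) (nat_lit 520))
) (.node (nat_lit 0x808404042) (.leaf (nat_lit 0x8080a4250) (nat_lit 1035))
 (.node (nat_lit 0x808424252) (.leaf (nat_lit 0x808404042) (nat_lit 264))
 (.leaf (nat_lit 0x808424252) (nat_lit 1291))
))) (.node (nat_lit 0x809084212) (.node (nat_lit 0x8084a4242) (.leaf (nat_lit 0x808484050) (nat_lit 520))
 (.leaf (nat_lit 0x8084a4242) (nat_lit 1291))
) (.node (nat_lit 0x8090a4050) (.leaf (nat_lit 0x809084212) (nat_lit 776))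
 (.node (nat_lit 0x809404202) (.leaf (nat_lit 0x8090a4050) (nat_lit 1035))
 (.leaf (nat_lit 0x809404202) (nat_lit 520))
)))) (.node (nat_lit 0x810204081) (.node (nat_lit 0x8094a4042) (.node (nat_lit 0x809484210) (.leaf (nat_lit 0x809424052) (nat_lit 1291))
 (.leaf (nat_lit 0x809484210) (nat_lit 776))
) (.node (nat_lit 0x810044089) (.leaf (nat_lit 0x8094a4042) (nat_lit 1291))
 (.node (nat_lit 0x810064488) (.leaf (nat_lit 0x810044089) (nat_lit 257))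
 (.leaf (nat_lit 0x810064488) (nat_lit 779))
))) (.node (nat_lit 0x810244088) (.node (nat_lit 0x810224489) (.leaf (nat_lit 0x810204081) (nat_lit 0))
 (.leaf (nat_lit 0x810224489) (nat_lit 1035))
) (.node (nat_lit 0x810264481) (.leaf (nat_lit 0x810244088) (nat_lit 256))
 (.node (nat_lit 0x812044409) (.leaf (nat_lit 0x810264481) (nat_lit 1035))
 (.leaf (nat_lit 0x812044409) (nat_lit 514))
)))))) (.node (nat_lit 0x8efdfc54e) (.node (nat_lit 0x8ceebce6f) (.node (nat_lit 0x8ce55fdef) (.node (nat_lit 0x812224089) (.node (nat_lit 0x812204401) (.leaf (nat_lit 0x812064088) (nat_lit 779))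
 (.leaf (nat_lit 0x812204401) (nat_lit 258))
) (.node (nat_lit 0x812244408) (.leaf (nat_lit 0x812224089) (nat_lit 1035))
 (.node (nat_lit 0x812264081) (.leaf (nat_lit 0x812244408) (nat_lit 514))
 (.leaf (nat_lit 0x812264081) (nat_lit 1035))
))) (.node (nat_lit 0x8cebdfdfa) (.node (nat_lit 0x8ce57ce7a) (.leaf (nat_lit 0x8ce55fdef) (nat_lit 1033))
 (.leaf (nat_lit 0x8ce57ce7a) (nat_lit 1291))
) (.node (nat_lit 0x8cebfce55) (.leaf (nat_lit 0x8cebdfdfa) (nat_lit 1034))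
 (.node (nat_lit 0x8cee9fdd5) (.leaf (nat_lit 0x8cebfce55) (nat_lit 1035))
 (.leaf (nat_lit 0x8cee9fdd5) (nat_lit 1031))
)))) (.node (nat_lit 0x8d5e5fbce) (.node (nat_lit 0x8d53bceb9) (.node (nat_lit 0x8d539fbf7) (.leaf (nat_lit 0x8ceebce6f) (nat_lit 1035))
 (.leaf (nat_lit 0x8d539fbf7) (nat_lit 1034))
) (.node (nat_lit 0x8d5ddfbf9) (.leaf (nat_lit 0x8d53bceb9) (nat_lit 1291))
 (.node (nat_lit 0x8d5dfce8e) (.leaf (nat_lit 0x8d5ddfbf9) (nat_lit 1033))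
 (.leaf (nat_lit 0x8d5dfce8e) (nat_lit 1035))
))) (.node (nat_lit 0x8ef39feb7) (.node (nat_lit 0x8d5e7ceb7) (.leaf (nat_lit 0x8d5e5fbce) (nat_lit 1030))
 (.leaf (nat_lit 0x8d5e7ceb7) (nat_lit 1035))
) (.node (nat_lit 0x8ef3bc579) (.leaf (nat_lit 0x8ef39feb7) (nat_lit 1033))
 (.node (nat_lit 0x8efddfeb9) (.leaf (nat_lit 0x8ef3bc579) (nat_lit 1035))
 (.leaf (nat_lit 0x8efddfeb9) (nat_lit 773))
))))) (.node (nat_lit 0x8f957cdfa) (.node (nat_lit 0x8f7bdfe7a) (.node (nat_lit 0x8efe7c577) (.node (nat_lit 0x8efe5fe8e) (.leaf (nat_lit 0x8efdfc54e) (nat_lit 1291))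
 (.leaf (nat_lit 0x8efe5fe8e) (nat_lit 1030))
) (.node (nat_lit 0x8f755fe6f) (.leaf (nat_lit 0x8efe7c577) (nat_lit 1035))
 (.node (nat_lit 0x8f757c3ba) (.leaf (nat_lit 0x8f755fe6f) (nat_lit 1034))
 (.leaf (nat_lit 0x8f757c3ba) (nat_lit 1035))
))) (.node (nat_lit 0x8f7e9fe55) (.node (nat_lit 0x8f7bfc395) (.leaf (nat_lit 0x8f7bdfe7a) (nat_lit 773))
 (.leaf (nat_lit 0x8f7bfc395) (nat_lit 1291))
) (.node (nat_lit 0x8f7ebc3af) (.leaf (nat_lit 0x8f7e9fe55) (nat_lit 1031))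
 (.node (nat_lit 0x8f955f3af) (.leaf (nat_lit 0x8f7ebc3af) (nat_lit 1035))
 (.leaf (nat_lit 0x8f955f3af) (nat_lit 1031))
)))) (.node (nat_lit 0x8fa39f577) (.node (nat_lit 0x8f9bfcdd5) (.node (nat_lit 0x8f9bdf3ba) (.leaf (nat_lit 0x8f957cdfa) (nat_lit 1035))
 (.leaf (nat_lit 0x8f9bdf3ba) (nat_lit 1031))
) (.node (nat_lit 0x8f9e9f395) (.leaf (nat_lit 0x8f9bfcdd5) (nat_lit 1035))
 (.node (nat_lit 0x8f9ebcdef) (.leaf (nat_lit 0x8f9e9f395) (nat_lit 775))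
 (.leaf (nat_lit 0x8f9ebcdef) (nat_lit 779))
))) (.node (nat_lit 0x8fadfcbce) (.node (nat_lit 0x8fa3bcbf9) (.leaf (nat_lit 0x8fa39f577) (nat_lit 1030))
 (.node (nat_lit 0x8faddf579) (.leaf (nat_lit 0x8fa3bcbf9) (nat_lit 1035))
 (.leaf (nat_lit 0x8faddf579) (nat_lit 1030))
)) (.node (nat_lit 0x8fae5f54e) (.leaf (nat_lit 0x8fadfcbce) (nat_lit 1035))
 (.node (nat_lit 0x8fae7cbf7) (.leaf (nat_lit 0x8fae5f54e) (nat_lit 774))
 (.leaf (nat_lit 0x8fae7cbf7) (nat_lit 779))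
)))))))))) (.node (nat_lit 0xdd57ceea3) (.node (nat_lit 0xbb51dd7b8) (.node (nat_lit 0xa9cc7defe) (.node (nat_lit 0x9cff5cc57) (.node (nat_lit 0x909404052) (.node (nat_lit 0x902244401) (.node (nat_lit 0x9014a0250) (.node (nat_lit 0x901404212) (.node (nat_lit 0x9010a0252) (.leaf (nat_lit 0x901084210) (nat_lit 779))
 (.leaf (nat_lit 0x9010a0252) (nat_lit 1032))
) (.node (nat_lit 0x901420242) (.leaf (nat_lit 0x901404212) (nat_lit 1035))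
 (.node (nat_lit 0x901484202) (.leaf (nat_lit 0x901420242) (nat_lit 776))
 (.leaf (nat_lit 0x901484202) (nat_lit 1035))
))) (.node (nat_lit 0x902060489) (.node (nat_lit 0x902044408) (.leaf (nat_lit 0x9014a0250) (nat_lit 1032))
 (.leaf (nat_lit 0x902044408) (nat_lit 523))
) (.node (nat_lit 0x902204409) (.leaf (nat_lit 0x902060489) (nat_lit 772))
 (.node (nat_lit 0x902220481) (.leaf (nat_lit 0x902204409) (nat_lit 779))
 (.leaf (nat_lit 0x902220481) (nat_lit 516))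
)))) (.node (nat_lit 0x908420042) (.node (nat_lit 0x908084250) (.node (nat_lit 0x902260488) (.leaf (nat_lit 0x902244401) (nat_lit 779))
 (.leaf (nat_lit 0x902260488) (nat_lit 772))
) (.node (nat_lit 0x9080a0052) (.leaf (nat_lit 0x908084250) (nat_lit 1035))
 (.node (nat_lit 0x908404252) (.leaf (nat_lit 0x9080a0052) (nat_lit 776))
 (.leaf (nat_lit 0x908404252) (nat_lit 1291))
))) (.node (nat_lit 0x9084a0050) (.node (nat_lit 0x908484242) (.leaf (nat_lit 0x908420042) (nat_lit 520))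
 (.leaf (nat_lit 0x908484242) (nat_lit 1291))
) (.node (nat_lit 0x909084050) (.leaf (nat_lit 0x9084a0050) (nat_lit 776))
 (.node (nat_lit 0x9090a0212) (.leaf (nat_lit 0x909084050) (nat_lit 1035))
 (.leaf (nat_lit 0x9090a0212) (nat_lit 1032))
))))) (.node (nat_lit 0x912044088) (.node (nat_lit 0x910060089) (.node (nat_lit 0x909484042) (.node (nat_lit 0x909420202) (.leaf (nat_lit 0x909404052) (nat_lit 1291))
 (.leaf (nat_lit 0x909420202) (nat_lit 776))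
) (.node (nat_lit 0x9094a0210) (.leaf (nat_lit 0x909484042) (nat_lit 1291))
 (.node (nat_lit 0x910044488) (.leaf (nat_lit 0x9094a0210) (nat_lit 1032))
 (.leaf (nat_lit 0x910044488) (nat_lit 779))
))) (.node (nat_lit 0x910220081) (.node (nat_lit 0x910204489) (.leaf (nat_lit 0x910060089) (nat_lit 516))
 (.leaf (nat_lit 0x910204489) (nat_lit 1035))
) (.node (nat_lit 0x910244481) (.leaf (nat_lit 0x910220081) (nat_lit 260))
 (.node (nat_lit 0x910260088) (.leaf (nat_lit 0x910244481) (nat_lit 1035))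
 (.leaf (nat_lit 0x910260088) (nat_lit 516))
)))) (.node (nat_lit 0x912260408) (.node (nat_lit 0x912204089) (.node (nat_lit 0x912060409) (.leaf (nat_lit 0x912044088) (nat_lit 779))
 (.leaf (nat_lit 0x912060409) (nat_lit 772))
) (.node (nat_lit 0x912220401) (.leaf (nat_lit 0x912204089) (nat_lit 1035))
 (.node (nat_lit 0x912244081) (.leaf (nat_lit 0x912220401) (nat_lit 516))
 (.leaf (nat_lit 0x912244081) (nat_lit 1035))
))) (.node (nat_lit 0x9cf5fbfbd) (.node (nat_lit 0x9cf5dcc6a) (.leaf (nat_lit 0x912260408) (nat_lit 772))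
 (.leaf (nat_lit 0x9cf5dcc6a) (nat_lit 1291))
) (.node (nat_lit 0x9cfa9cc7d) (.leaf (nat_lit 0x9cf5fbfbd) (nat_lit 773))
 (.node (nat_lit 0x9cfabbf97) (.leaf (nat_lit 0x9cfa9cc7d) (nat_lit 1035))
 (.leaf (nat_lit 0x9cfabbf97) (nat_lit 1030))
)))))) (.node (nat_lit 0x9fd3dc5f1) (.node (nat_lit 0x9eac5cf7e) (.node (nat_lit 0x9d7c7bf4f) (.node (nat_lit 0x9d73dcab1) (.node (nat_lit 0x9cff7bfaa) (.leaf (nat_lit 0x9cff5cc57) (nat_lit 1035))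
 (.leaf (nat_lit 0x9cff7bfaa) (nat_lit 1029))
) (.node (nat_lit 0x9d73fbf7e) (.leaf (nat_lit 0x9d73dcab1) (nat_lit 1291))
 (.node (nat_lit 0x9d7c5cabe) (.leaf (nat_lit 0x9d73fbf7e) (nat_lit 773))
 (.leaf (nat_lit 0x9d7c5cabe) (nat_lit 1035))
))) (.node (nat_lit 0x9d7fbbf71) (.node (nat_lit 0x9d7f9ca8f) (.leaf (nat_lit 0x9d7c7bf4f) (nat_lit 1030))
 (.leaf (nat_lit 0x9d7f9ca8f) (nat_lit 1035))
) (.node (nat_lit 0x9ea3dcf71) (.leaf (nat_lit 0x9d7fbbf71) (nat_lit 1029))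
 (.node (nat_lit 0x9ea3fb5fe) (.leaf (nat_lit 0x9ea3dcf71) (nat_lit 1035))
 (.leaf (nat_lit 0x9ea3fb5fe) (nat_lit 1031))
)))) (.node (nat_lit 0x9f15fb3fd) (.node (nat_lit 0x9eaf9cf4f) (.node (nat_lit 0x9eac7b5cf) (.leaf (nat_lit 0x9eac5cf7e) (nat_lit 1291))
 (.leaf (nat_lit 0x9eac7b5cf) (nat_lit 1028))
) (.node (nat_lit 0x9eafbb5f1) (.leaf (nat_lit 0x9eaf9cf4f) (nat_lit 1035))
 (.node (nat_lit 0x9f15dcfaa) (.leaf (nat_lit 0x9eafbb5f1) (nat_lit 1029))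
 (.leaf (nat_lit 0x9f15dcfaa) (nat_lit 1035))
))) (.node (nat_lit 0x9f1abb3d7) (.node (nat_lit 0x9f1a9cfbd) (.leaf (nat_lit 0x9f15fb3fd) (nat_lit 1031))
 (.leaf (nat_lit 0x9f1a9cfbd) (nat_lit 1291))
) (.node (nat_lit 0x9f1f5cf97) (.leaf (nat_lit 0x9f1abb3d7) (nat_lit 1028))
 (.node (nat_lit 0x9f1f7b3ea) (.leaf (nat_lit 0x9f1f5cf97) (nat_lit 1035))
 (.leaf (nat_lit 0x9f1f7b3ea) (nat_lit 1029))
))))) (.node (nat_lit 0x9fef5c3d7) (.node (nat_lit 0x9fdfbbab1) (.node (nat_lit 0x9fdc5c5fe) (.node (nat_lit 0x9fd3fbabe) (.leaf (nat_lit 0x9fd3dc5f1) (nat_lit 1035))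
 (.leaf (nat_lit 0x9fd3fbabe) (nat_lit 1029))
) (.node (nat_lit 0x9fdc7ba8f) (.leaf (nat_lit 0x9fdc5c5fe) (nat_lit 1035))
 (.node (nat_lit 0x9fdf9c5cf) (.leaf (nat_lit 0x9fdc7ba8f) (nat_lit 1029))
 (.leaf (nat_lit 0x9fdf9c5cf) (nat_lit 779))
))) (.node (nat_lit 0x9fe5fbc7d) (.node (nat_lit 0x9fe5dc3ea) (.leaf (nat_lit 0x9fdfbbab1) (nat_lit 1031))
 (.leaf (nat_lit 0x9fe5dc3ea) (nat_lit 1035))
) (.node (nat_lit 0x9fea9c3fd) (.leaf (nat_lit 0x9fe5fbc7d) (nat_lit 1029))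
 (.node (nat_lit 0x9feabbc57) (.leaf (nat_lit 0x9fea9c3fd) (nat_lit 1035))
 (.leaf (nat_lit 0x9feabbc57) (nat_lit 1029))
)))) (.node (nat_lit 0xa8f9fdc5c) (.node (nat_lit 0xa8f717fa7) (.node (nat_lit 0x9fef7bc6a) (.leaf (nat_lit 0x9fef5c3d7) (nat_lit 779))
 (.leaf (nat_lit 0x9fef7bc6a) (nat_lit 1030))
) (.node (nat_lit 0xa8f73dc7b) (.leaf (nat_lit 0xa8f717fa7) (nat_lit 1024))
 (.node (nat_lit 0xa8f9d7fbb) (.leaf (nat_lit 0xa8f73dc7b) (nat_lit 1035))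
 (.leaf (nat_lit 0xa8f9d7fbb) (nat_lit 778))
))) (.node (nat_lit 0xa9c3d79fe) (.node (nat_lit 0xa8fed7f9c) (.leaf (nat_lit 0xa8f9fdc5c) (nat_lit 1291))
 (.node (nat_lit 0xa8fefdc67) (.leaf (nat_lit 0xa8fed7f9c) (nat_lit 771))
 (.leaf (nat_lit 0xa8fefdc67) (nat_lit 1291))
)) (.node (nat_lit 0xa9c3fdef1) (.leaf (nat_lit 0xa9c3d79fe) (nat_lit 1026))
 (.node (nat_lit 0xa9cc579cf) (.leaf (nat_lit 0xa9c3fdef1) (nat_lit 1035))
 (.leaf (nat_lit 0xa9cc579cf) (nat_lit 771))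
))))))) (.node (nat_lit 0xaee1f5778) (.node (nat_lit 0xabbfbd9cf) (.node (nat_lit 0xab173dfbb) (.node (nat_lit 0xaa7c57ecf) (.node (nat_lit 0xa9cfbdecf) (.node (nat_lit 0xa9cf979f1) (.leaf (nat_lit 0xa9cc7defe) (nat_lit 1035))
 (.leaf (nat_lit 0xa9cf979f1) (nat_lit 777))
) (.node (nat_lit 0xaa73d7efe) (.leaf (nat_lit 0xa9cfbdecf) (nat_lit 1291))
 (.node (nat_lit 0xaa73fd731) (.leaf (nat_lit 0xaa73d7efe) (nat_lit 777))
 (.leaf (nat_lit 0xaa73fd731) (nat_lit 1291))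
))) (.node (nat_lit 0xaa7f97ef1) (.node (nat_lit 0xaa7c7d73e) (.leaf (nat_lit 0xaa7c57ecf) (nat_lit 770))
 (.leaf (nat_lit 0xaa7c7d73e) (nat_lit 1291))
) (.node (nat_lit 0xaa7fbd70f) (.leaf (nat_lit 0xaa7f97ef1) (nat_lit 1029))
 (.node (nat_lit 0xab17173e7) (.leaf (nat_lit 0xaa7fbd70f) (nat_lit 1291))
 (.leaf (nat_lit 0xab17173e7) (nat_lit 769))
)))) (.node (nat_lit 0xabb3d773e) (.node (nat_lit 0xab19fdf9c) (.node (nat_lit 0xab19d73fb) (.leaf (nat_lit 0xab173dfbb) (nat_lit 1035))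
 (.leaf (nat_lit 0xab19d73fb) (nat_lit 768))
) (.node (nat_lit 0xab1ed73dc) (.leaf (nat_lit 0xab19fdf9c) (nat_lit 1291))
 (.node (nat_lit 0xab1efdfa7) (.leaf (nat_lit 0xab1ed73dc) (nat_lit 522))
 (.leaf (nat_lit 0xab1efdfa7) (nat_lit 1035))
))) (.node (nat_lit 0xabbc5770f) (.node (nat_lit 0xabb3fd9f1) (.leaf (nat_lit 0xabb3d773e) (nat_lit 769))
 (.leaf (nat_lit 0xabb3fd9f1) (nat_lit 1291))
) (.node (nat_lit 0xabbc7d9fe) (.leaf (nat_lit 0xabbc5770f) (nat_lit 521))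
 (.node (nat_lit 0xabbf97731) (.leaf (nat_lit 0xabbc7d9fe) (nat_lit 1035))
 (.leaf (nat_lit 0xabbf97731) (nat_lit 768))
))))) (.node (nat_lit 0xac7bb5e1d) (.node (nat_lit 0xabeed7c5c) (.node (nat_lit 0xabe73d3fb) (.node (nat_lit 0xabe717c67) (.leaf (nat_lit 0xabbfbd9cf) (nat_lit 1291))
 (.leaf (nat_lit 0xabe717c67) (nat_lit 778))
) (.node (nat_lit 0xabe9d7c7b) (.leaf (nat_lit 0xabe73d3fb) (nat_lit 1291))
 (.node (nat_lit 0xabe9fd3dc) (.leaf (nat_lit 0xabe9d7c7b) (nat_lit 1029))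
 (.leaf (nat_lit 0xabe9fd3dc) (nat_lit 1291))
))) (.node (nat_lit 0xac775efee) (.node (nat_lit 0xabeefd3e7) (.leaf (nat_lit 0xabeed7c5c) (nat_lit 770))
 (.leaf (nat_lit 0xabeefd3e7) (nat_lit 1291))
) (.node (nat_lit 0xac7775e33) (.leaf (nat_lit 0xac775efee) (nat_lit 1028))
 (.node (nat_lit 0xac7b9eff3) (.leaf (nat_lit 0xac7775e33) (nat_lit 1035))
 (.leaf (nat_lit 0xac7b9eff3) (nat_lit 1034))
)))) (.node (nat_lit 0xadde1eb87) (.node (nat_lit 0xac7cf5e2e) (.node (nat_lit 0xac7cdefdd) (.leaf (nat_lit 0xac7bb5e1d) (nat_lit 1035))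
 (.leaf (nat_lit 0xac7cdefdd) (nat_lit 775))
) (.node (nat_lit 0xadd1debbf) (.leaf (nat_lit 0xac7cf5e2e) (nat_lit 1291))
 (.node (nat_lit 0xadd1f5cf8) (.leaf (nat_lit 0xadd1debbf) (nat_lit 1028))
 (.leaf (nat_lit 0xadd1f5cf8) (nat_lit 1035))
))) (.node (nat_lit 0xaddfdebb8) (.node (nat_lit 0xadde35cff) (.leaf (nat_lit 0xadde1eb87) (nat_lit 774))
 (.leaf (nat_lit 0xadde35cff) (nat_lit 1291))
) (.node (nat_lit 0xaddff5cc7) (.leaf (nat_lit 0xaddfdebb8) (nat_lit 1033))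
 (.node (nat_lit 0xaee1decff) (.leaf (nat_lit 0xaddff5cc7) (nat_lit 1291))
 (.leaf (nat_lit 0xaee1decff) (nat_lit 1033))
)))))) (.node (nat_lit 0xaffbb51dd) (.node (nat_lit 0xaf3ff5b87) (.node (nat_lit 0xaf31de77f) (.node (nat_lit 0xaeee3577f) (.node (nat_lit 0xaeee1ecc7) (.leaf (nat_lit 0xaee1f5778) (nat_lit 1035))
 (.leaf (nat_lit 0xaeee1ecc7) (nat_lit 774))
) (.node (nat_lit 0xaeefdecf8) (.leaf (nat_lit 0xaeee3577f) (nat_lit 1291))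
 (.node (nat_lit 0xaeeff5747) (.leaf (nat_lit 0xaeefdecf8) (nat_lit 1029))
 (.leaf (nat_lit 0xaeeff5747) (nat_lit 1291))
))) (.node (nat_lit 0xaf3e1e747) (.node (nat_lit 0xaf31f5bb8) (.leaf (nat_lit 0xaf31de77f) (nat_lit 774))
 (.leaf (nat_lit 0xaf31f5bb8) (nat_lit 1291))
) (.node (nat_lit 0xaf3e35bbf) (.leaf (nat_lit 0xaf3e1e747) (nat_lit 518))
 (.node (nat_lit 0xaf3fde778) (.leaf (nat_lit 0xaf3e35bbf) (nat_lit 1035))
 (.leaf (nat_lit 0xaf3fde778) (nat_lit 774))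
)))) (.node (nat_lit 0xaf8cde1dd) (.node (nat_lit 0xaf8775ff3) (.node (nat_lit 0xaf875e1ee) (.leaf (nat_lit 0xaf3ff5b87) (nat_lit 1291))
 (.leaf (nat_lit 0xaf875e1ee) (nat_lit 775))
) (.node (nat_lit 0xaf8b9e1f3) (.leaf (nat_lit 0xaf8775ff3) (nat_lit 1291))
 (.node (nat_lit 0xaf8bb5fdd) (.leaf (nat_lit 0xaf8b9e1f3) (nat_lit 775))
 (.leaf (nat_lit 0xaf8bb5fdd) (nat_lit 1291))
))) (.node (nat_lit 0xaff75ee2e) (.node (nat_lit 0xaf8cf5fee) (.leaf (nat_lit 0xaf8cde1dd) (nat_lit 519))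
 (.leaf (nat_lit 0xaf8cf5fee) (nat_lit 1035))
) (.node (nat_lit 0xaff7751f3) (.leaf (nat_lit 0xaff75ee2e) (nat_lit 1034))
 (.node (nat_lit 0xaffb9ee33) (.leaf (nat_lit 0xaff7751f3) (nat_lit 1291))
 (.leaf (nat_lit 0xaffb9ee33) (nat_lit 1029))
))))) (.node (nat_lit 0xb9e1f3d7f) (.node (nat_lit 0xb87adde35) (.node (nat_lit 0xaffcf51ee) (.node (nat_lit 0xaffcdee1d) (.leaf (nat_lit 0xaffbb51dd) (nat_lit 1291))
 (.leaf (nat_lit 0xaffcdee1d) (nat_lit 775))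
) (.node (nat_lit 0xb8779de2b) (.leaf (nat_lit 0xaffcf51ee) (nat_lit 1291))
 (.node (nat_lit 0xb877b3ff5) (.leaf (nat_lit 0xb8779de2b) (nat_lit 1035))
 (.leaf (nat_lit 0xb877b3ff5) (nat_lit 1029))
))) (.node (nat_lit 0xb87d5de1e) (.node (nat_lit 0xb87af3fde) (.leaf (nat_lit 0xb87adde35) (nat_lit 1035))
 (.leaf (nat_lit 0xb87af3fde) (nat_lit 1033))
) (.node (nat_lit 0xb87d73feb) (.leaf (nat_lit 0xb87d5de1e) (nat_lit 1291))
 (.node (nat_lit 0xb9e1ddaf8) (.leaf (nat_lit 0xb87d73feb) (nat_lit 1026))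
 (.leaf (nat_lit 0xb9e1ddaf8) (nat_lit 1035))
)))) (.node (nat_lit 0xbab1ddd78) (.node (nat_lit 0xb9ee33d47) (.node (nat_lit 0xb9ee1daff) (.leaf (nat_lit 0xb9e1f3d7f) (nat_lit 1029))
 (.leaf (nat_lit 0xb9ee1daff) (nat_lit 1291))
) (.node (nat_lit 0xb9efddac7) (.leaf (nat_lit 0xb9ee33d47) (nat_lit 774))
 (.node (nat_lit 0xb9eff3d78) (.leaf (nat_lit 0xb9efddac7) (nat_lit 1291))
 (.leaf (nat_lit 0xb9eff3d78) (nat_lit 1026))
))) (.node (nat_lit 0xbabe33787) (.node (nat_lit 0xbab1f37bf) (.leaf (nat_lit 0xbab1ddd78) (nat_lit 1035))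
 (.node (nat_lit 0xbabe1dd7f) (.leaf (nat_lit 0xbab1f37bf) (nat_lit 1034))
 (.leaf (nat_lit 0xbabe1dd7f) (nat_lit 1291))
)) (.node (nat_lit 0xbabfddd47) (.leaf (nat_lit 0xbabe33787) (nat_lit 774))
 (.node (nat_lit 0xbabff37b8) (.leaf (nat_lit 0xbabfddd47) (nat_lit 1291))
 (.leaf (nat_lit 0xbabff37b8) (nat_lit 1034))
)))))))) (.node (nat_lit 0xc7babe9fd) (.node (nat_lit 0xbf7f1539f) (.node (nat_lit 0xbce8d5e7c) (.node (nat_lit 0xbb8d5dfde) (.node (nat_lit 0xbb5ff3af8) (.node (nat_lit 0xbb5e1d7bf) (.node (nat_lit 0xbb51f3aff) (.leaf (nat_lit 0xbb51dd7b8) (nat_lit 1291))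
 (.leaf (nat_lit 0xbb51f3aff) (nat_lit 1024))
) (.node (nat_lit 0xbb5e33ac7) (.leaf (nat_lit 0xbb5e1d7bf) (nat_lit 1291))
 (.node (nat_lit 0xbb5fdd787) (.leaf (nat_lit 0xbb5e33ac7) (nat_lit 1025))
 (.leaf (nat_lit 0xbb5fdd787) (nat_lit 1035))
))) (.node (nat_lit 0xbb87b31f5) (.node (nat_lit 0xbb879dfeb) (.leaf (nat_lit 0xbb5ff3af8) (nat_lit 778))
 (.leaf (nat_lit 0xbb879dfeb) (nat_lit 1291))
) (.node (nat_lit 0xbb8addff5) (.leaf (nat_lit 0xbb87b31f5) (nat_lit 775))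
 (.node (nat_lit 0xbb8af31de) (.leaf (nat_lit 0xbb8addff5) (nat_lit 1291))
 (.leaf (nat_lit 0xbb8af31de) (nat_lit 775))
)))) (.node (nat_lit 0xbbfaf3e1e) (.node (nat_lit 0xbbf79d1eb) (.node (nat_lit 0xbb8d731eb) (.leaf (nat_lit 0xbb8d5dfde) (nat_lit 1291))
 (.leaf (nat_lit 0xbb8d731eb) (nat_lit 1027))
) (.node (nat_lit 0xbbf7b3e35) (.leaf (nat_lit 0xbbf79d1eb) (nat_lit 1291))
 (.node (nat_lit 0xbbfadd1f5) (.leaf (nat_lit 0xbbf7b3e35) (nat_lit 1024))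
 (.leaf (nat_lit 0xbbfadd1f5) (nat_lit 1291))
))) (.node (nat_lit 0xbbfd73e2b) (.node (nat_lit 0xbbfd5d1de) (.leaf (nat_lit 0xbbfaf3e1e) (nat_lit 1033))
 (.leaf (nat_lit 0xbbfd5d1de) (nat_lit 1035))
) (.node (nat_lit 0xbce7d5e63) (.leaf (nat_lit 0xbbfd73e2b) (nat_lit 777))
 (.node (nat_lit 0xbce7fadfc) (.leaf (nat_lit 0xbce7d5e63) (nat_lit 1035))
 (.leaf (nat_lit 0xbce7fadfc) (nat_lit 1029))
))))) (.node (nat_lit 0xbe3395f39) (.node (nat_lit 0xbdf3baf37) (.node (nat_lit 0xbcef15e5f) (.node (nat_lit 0xbce8faddf) (.leaf (nat_lit 0xbce8d5e7c) (nat_lit 1291))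
 (.leaf (nat_lit 0xbce8faddf) (nat_lit 1028))
) (.node (nat_lit 0xbcef3ade3) (.leaf (nat_lit 0xbcef15e5f) (nat_lit 1291))
 (.node (nat_lit 0xbdf3958f9) (.leaf (nat_lit 0xbcef3ade3) (nat_lit 1028))
 (.leaf (nat_lit 0xbdf3958f9) (nat_lit 1035))
))) (.node (nat_lit 0xbdfdfaf39) (.node (nat_lit 0xbdfdd58ce) (.leaf (nat_lit 0xbdf3baf37) (nat_lit 1029))
 (.leaf (nat_lit 0xbdfdd58ce) (nat_lit 1035))
) (.node (nat_lit 0xbdfe558f7) (.leaf (nat_lit 0xbdfdfaf39) (nat_lit 1028))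
 (.node (nat_lit 0xbdfe7af0e) (.leaf (nat_lit 0xbdfe558f7) (nat_lit 1291))
 (.leaf (nat_lit 0xbdfe7af0e) (nat_lit 1030))
)))) (.node (nat_lit 0xbe3e7a7ce) (.node (nat_lit 0xbe3dd5f0e) (.node (nat_lit 0xbe33ba7f7) (.leaf (nat_lit 0xbe3395f39) (nat_lit 1291))
 (.leaf (nat_lit 0xbe33ba7f7) (nat_lit 1028))
) (.node (nat_lit 0xbe3dfa7f9) (.leaf (nat_lit 0xbe3dd5f0e) (nat_lit 1291))
 (.node (nat_lit 0xbe3e55f37) (.leaf (nat_lit 0xbe3dfa7f9) (nat_lit 1028))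
 (.leaf (nat_lit 0xbe3e55f37) (nat_lit 1291))
))) (.node (nat_lit 0xbf77fae7c) (.node (nat_lit 0xbf77d53a3) (.leaf (nat_lit 0xbe3e7a7ce) (nat_lit 772))
 (.leaf (nat_lit 0xbf77d53a3) (nat_lit 1035))
) (.node (nat_lit 0xbf78d53bc) (.leaf (nat_lit 0xbf77fae7c) (nat_lit 1028))
 (.node (nat_lit 0xbf78fae5f) (.leaf (nat_lit 0xbf78d53bc) (nat_lit 1291))
 (.leaf (nat_lit 0xbf78fae5f) (nat_lit 1028))
)))))) (.node (nat_lit 0xc5c5cf9fd) (.node (nat_lit 0xbfcdd57ce) (.node (nat_lit 0xbf98fa39f) (.node (nat_lit 0xbf97d5de3) (.node (nat_lit 0xbf7f3ae63) (.leaf (nat_lit 0xbf7f1539f) (nat_lit 1035))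
 (.leaf (nat_lit 0xbf7f3ae63) (nat_lit 774))
) (.node (nat_lit 0xbf97fa3bc) (.leaf (nat_lit 0xbf97d5de3) (nat_lit 1291))
 (.node (nat_lit 0xbf98d5dfc) (.leaf (nat_lit 0xbf97fa3bc) (nat_lit 1031))
 (.leaf (nat_lit 0xbf98d5dfc) (nat_lit 1291))
))) (.node (nat_lit 0xbf9f3a3a3) (.node (nat_lit 0xbf9f15ddf) (.leaf (nat_lit 0xbf98fa39f) (nat_lit 772))
 (.leaf (nat_lit 0xbf9f15ddf) (nat_lit 1291))
) (.node (nat_lit 0xbfc3957f9) (.leaf (nat_lit 0xbf9f3a3a3) (nat_lit 1028))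
 (.node (nat_lit 0xbfc3ba8f7) (.leaf (nat_lit 0xbfc3957f9) (nat_lit 1291))
 (.leaf (nat_lit 0xbfc3ba8f7) (nat_lit 1028))
)))) (.node (nat_lit 0xc5773eabb) (.node (nat_lit 0xbfce557f7) (.node (nat_lit 0xbfcdfa8f9) (.leaf (nat_lit 0xbfcdd57ce) (nat_lit 1035))
 (.leaf (nat_lit 0xbfcdfa8f9) (nat_lit 775))
) (.node (nat_lit 0xbfce7a8ce) (.leaf (nat_lit 0xbfce557f7) (nat_lit 1291))
 (.node (nat_lit 0xc5770ff67) (.leaf (nat_lit 0xbfce7a8ce) (nat_lit 1028))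
 (.leaf (nat_lit 0xc5770ff67) (nat_lit 1026))
))) (.node (nat_lit 0xc579fea9c) (.node (nat_lit 0xc579cff7b) (.leaf (nat_lit 0xc5773eabb) (nat_lit 1035))
 (.leaf (nat_lit 0xc579cff7b) (nat_lit 777))
) (.node (nat_lit 0xc57ecff5c) (.leaf (nat_lit 0xc579fea9c) (nat_lit 1291))
 (.node (nat_lit 0xc57efeaa7) (.leaf (nat_lit 0xc57ecff5c) (nat_lit 771))
 (.leaf (nat_lit 0xc57efeaa7) (nat_lit 1291))
))))) (.node (nat_lit 0xc67f4feea) (.node (nat_lit 0xc5cf7eed7) (.node (nat_lit 0xc5ca8f9d7) (.node (nat_lit 0xc5c5feeea) (.leaf (nat_lit 0xc5c5cf9fd) (nat_lit 1024))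
 (.leaf (nat_lit 0xc5c5feeea) (nat_lit 1035))
) (.node (nat_lit 0xc5cabeefd) (.leaf (nat_lit 0xc5ca8f9d7) (nat_lit 771))
 (.node (nat_lit 0xc5cf4f9ea) (.leaf (nat_lit 0xc5cabeefd) (nat_lit 1035))
 (.leaf (nat_lit 0xc5cf4f9ea) (nat_lit 778))
))) (.node (nat_lit 0xc675fe72a) (.node (nat_lit 0xc675cfefd) (.leaf (nat_lit 0xc5cf7eed7) (nat_lit 1291))
 (.leaf (nat_lit 0xc675cfefd) (nat_lit 778))
) (.node (nat_lit 0xc67a8fed7) (.leaf (nat_lit 0xc675fe72a) (nat_lit 1291))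
 (.node (nat_lit 0xc67abe73d) (.leaf (nat_lit 0xc67a8fed7) (nat_lit 770))
 (.leaf (nat_lit 0xc67abe73d) (nat_lit 1291))
)))) (.node (nat_lit 0xc6a9fef5c) (.node (nat_lit 0xc6a70f5e7) (.node (nat_lit 0xc67f7e717) (.leaf (nat_lit 0xc67f4feea) (nat_lit 1027))
 (.leaf (nat_lit 0xc67f7e717) (nat_lit 1291))
) (.node (nat_lit 0xc6a73ef7b) (.leaf (nat_lit 0xc6a70f5e7) (nat_lit 769))
 (.node (nat_lit 0xc6a9cf5fb) (.leaf (nat_lit 0xc6a73ef7b) (nat_lit 1035))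
 (.leaf (nat_lit 0xc6a9cf5fb) (nat_lit 768))
))) (.node (nat_lit 0xc7b5cf73d) (.node (nat_lit 0xc6aecf5dc) (.leaf (nat_lit 0xc6a9fef5c) (nat_lit 1291))
 (.node (nat_lit 0xc6aefef67) (.leaf (nat_lit 0xc6aecf5dc) (nat_lit 521))
 (.leaf (nat_lit 0xc6aefef67) (nat_lit 1035))
)) (.node (nat_lit 0xc7b5fe9ea) (.leaf (nat_lit 0xc7b5cf73d) (nat_lit 769))
 (.node (nat_lit 0xc7ba8f717) (.leaf (nat_lit 0xc7b5fe9ea) (nat_lit 1291))
 (.leaf (nat_lit 0xc7ba8f717) (nat_lit 522))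
))))))) (.node (nat_lit 0xcff7ae1eb) (.node (nat_lit 0xcdefeeac7) (.node (nat_lit 0xcc77aee2b) (.node (nat_lit 0xc7d9cfabb) (.node (nat_lit 0xc7bf7e9d7) (.node (nat_lit 0xc7bf4f72a) (.leaf (nat_lit 0xc7babe9fd) (nat_lit 1035))
 (.leaf (nat_lit 0xc7bf4f72a) (nat_lit 768))
) (.node (nat_lit 0xc7d70faa7) (.leaf (nat_lit 0xc7bf7e9d7) (nat_lit 1291))
 (.node (nat_lit 0xc7d73e5fb) (.leaf (nat_lit 0xc7d70faa7) (nat_lit 777))
 (.leaf (nat_lit 0xc7d73e5fb) (nat_lit 1291))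
))) (.node (nat_lit 0xc7decfa9c) (.node (nat_lit 0xc7d9fe5dc) (.leaf (nat_lit 0xc7d9cfabb) (nat_lit 1025))
 (.leaf (nat_lit 0xc7d9fe5dc) (nat_lit 1291))
) (.node (nat_lit 0xc7defe5e7) (.leaf (nat_lit 0xc7decfa9c) (nat_lit 770))
 (.node (nat_lit 0xcc779dff5) (.leaf (nat_lit 0xc7defe5e7) (nat_lit 1291))
 (.leaf (nat_lit 0xcc779dff5) (nat_lit 1028))
)))) (.node (nat_lit 0xcde1ddd7f) (.node (nat_lit 0xcc7aeee35) (.node (nat_lit 0xcc7addfde) (.leaf (nat_lit 0xcc77aee2b) (nat_lit 1035))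
 (.leaf (nat_lit 0xcc7addfde) (nat_lit 775))
) (.node (nat_lit 0xcc7d5dfeb) (.leaf (nat_lit 0xcc7aeee35) (nat_lit 1291))
 (.node (nat_lit 0xcc7d6ee1e) (.leaf (nat_lit 0xcc7d5dfeb) (nat_lit 1033))
 (.leaf (nat_lit 0xcc7d6ee1e) (nat_lit 1035))
))) (.node (nat_lit 0xcdee1dd47) (.node (nat_lit 0xcde1eeaf8) (.leaf (nat_lit 0xcde1ddd7f) (nat_lit 1028))
 (.leaf (nat_lit 0xcde1eeaf8) (nat_lit 1035))
) (.node (nat_lit 0xcdee2eaff) (.leaf (nat_lit 0xcdee1dd47) (nat_lit 774))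
 (.node (nat_lit 0xcdefddd78) (.leaf (nat_lit 0xcdee2eaff) (nat_lit 1291))
 (.leaf (nat_lit 0xcdefddd78) (nat_lit 1034))
))))) (.node (nat_lit 0xcf5e2e7bf) (.node (nat_lit 0xcebfdd7b8) (.node (nat_lit 0xceb1eed78) (.node (nat_lit 0xceb1dd7bf) (.leaf (nat_lit 0xcdefeeac7) (nat_lit 1291))
 (.leaf (nat_lit 0xceb1dd7bf) (nat_lit 774))
) (.node (nat_lit 0xcebe1d787) (.leaf (nat_lit 0xceb1eed78) (nat_lit 1291))
 (.node (nat_lit 0xcebe2ed7f) (.leaf (nat_lit 0xcebe1d787) (nat_lit 518))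
 (.leaf (nat_lit 0xcebe2ed7f) (nat_lit 1035))
))) (.node (nat_lit 0xcf51ddaff) (.node (nat_lit 0xcebfeed47) (.leaf (nat_lit 0xcebfdd7b8) (nat_lit 774))
 (.leaf (nat_lit 0xcebfeed47) (nat_lit 1291))
) (.node (nat_lit 0xcf51ee7b8) (.leaf (nat_lit 0xcf51ddaff) (nat_lit 1034))
 (.node (nat_lit 0xcf5e1dac7) (.leaf (nat_lit 0xcf51ee7b8) (nat_lit 1035))
 (.leaf (nat_lit 0xcf5e1dac7) (nat_lit 774))
)))) (.node (nat_lit 0xcf8add1de) (.node (nat_lit 0xcf5fee787) (.node (nat_lit 0xcf5fddaf8) (.leaf (nat_lit 0xcf5e2e7bf) (nat_lit 1291))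
 (.leaf (nat_lit 0xcf5fddaf8) (nat_lit 1029))
) (.node (nat_lit 0xcf879d1f5) (.leaf (nat_lit 0xcf5fee787) (nat_lit 1291))
 (.node (nat_lit 0xcf87aefeb) (.leaf (nat_lit 0xcf879d1f5) (nat_lit 775))
 (.leaf (nat_lit 0xcf87aefeb) (nat_lit 1291))
))) (.node (nat_lit 0xcf8d5d1eb) (.node (nat_lit 0xcf8aeeff5) (.leaf (nat_lit 0xcf8add1de) (nat_lit 519))
 (.leaf (nat_lit 0xcf8aeeff5) (nat_lit 1035))
) (.node (nat_lit 0xcf8d6efde) (.leaf (nat_lit 0xcf8d5d1eb) (nat_lit 775))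
 (.node (nat_lit 0xcff79de35) (.leaf (nat_lit 0xcf8d6efde) (nat_lit 1291))
 (.leaf (nat_lit 0xcff79de35) (nat_lit 1033))
)))))) (.node (nat_lit 0xd6ee2bcc7) (.node (nat_lit 0xd47cebfdd) (.node (nat_lit 0xd4775ee33) (.node (nat_lit 0xcffaee1f5) (.node (nat_lit 0xcffadde1e) (.leaf (nat_lit 0xcff7ae1eb) (nat_lit 1291))
 (.leaf (nat_lit 0xcffadde1e) (nat_lit 775))
) (.node (nat_lit 0xcffd5de2b) (.leaf (nat_lit 0xcffaee1f5) (nat_lit 1291))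
 (.node (nat_lit 0xcffd6e1de) (.leaf (nat_lit 0xcffd5de2b) (nat_lit 1029))
 (.leaf (nat_lit 0xcffd6e1de) (nat_lit 1291))
))) (.node (nat_lit 0xd47b9ee1d) (.node (nat_lit 0xd4776bfee) (.leaf (nat_lit 0xd4775ee33) (nat_lit 1035))
 (.leaf (nat_lit 0xd4776bfee) (nat_lit 1029))
) (.node (nat_lit 0xd47babff3) (.leaf (nat_lit 0xd47b9ee1d) (nat_lit 1291))
 (.node (nat_lit 0xd47cdee2e) (.leaf (nat_lit 0xd47babff3) (nat_lit 1026))
 (.leaf (nat_lit 0xd47cdee2e) (nat_lit 1035))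
)))) (.node (nat_lit 0xd5dfdecc7) (.node (nat_lit 0xd5d1ebbbf) (.node (nat_lit 0xd5d1decf8) (.leaf (nat_lit 0xd47cebfdd) (nat_lit 1034))
 (.leaf (nat_lit 0xd5d1decf8) (nat_lit 1035))
) (.node (nat_lit 0xd5de1ecff) (.leaf (nat_lit 0xd5d1ebbbf) (nat_lit 1029))
 (.node (nat_lit 0xd5de2bb87) (.leaf (nat_lit 0xd5de1ecff) (nat_lit 1291))
 (.leaf (nat_lit 0xd5de2bb87) (nat_lit 774))
))) (.node (nat_lit 0xd6e1de778) (.node (nat_lit 0xd5dfebbb8) (.leaf (nat_lit 0xd5dfdecc7) (nat_lit 1291))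
 (.leaf (nat_lit 0xd5dfebbb8) (nat_lit 1026))
) (.node (nat_lit 0xd6e1ebcff) (.leaf (nat_lit 0xd6e1de778) (nat_lit 1291))
 (.node (nat_lit 0xd6ee1e77f) (.leaf (nat_lit 0xd6e1ebcff) (nat_lit 1024))
 (.leaf (nat_lit 0xd6ee1e77f) (nat_lit 1291))
))))) (.node (nat_lit 0xd7876b1ee) (.node (nat_lit 0xd73e1ebbf) (.node (nat_lit 0xd6efebcf8) (.node (nat_lit 0xd6efde747) (.leaf (nat_lit 0xd6ee2bcc7) (nat_lit 1025))
 (.leaf (nat_lit 0xd6efde747) (nat_lit 1035))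
) (.node (nat_lit 0xd731debb8) (.leaf (nat_lit 0xd6efebcf8) (nat_lit 777))
 (.node (nat_lit 0xd731eb77f) (.leaf (nat_lit 0xd731debb8) (nat_lit 1035))
 (.leaf (nat_lit 0xd731eb77f) (nat_lit 1033))
))) (.node (nat_lit 0xd73fdeb87) (.node (nat_lit 0xd73e2b747) (.leaf (nat_lit 0xd73e1ebbf) (nat_lit 1291))
 (.leaf (nat_lit 0xd73e2b747) (nat_lit 774))
) (.node (nat_lit 0xd73feb778) (.leaf (nat_lit 0xd73fdeb87) (nat_lit 1291))
 (.node (nat_lit 0xd7875eff3) (.leaf (nat_lit 0xd73feb778) (nat_lit 1033))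
 (.leaf (nat_lit 0xd7875eff3) (nat_lit 1291))
)))) (.node (nat_lit 0xd7f75e1f3) (.node (nat_lit 0xd78bab1f3) (.node (nat_lit 0xd78b9efdd) (.leaf (nat_lit 0xd7876b1ee) (nat_lit 775))
 (.leaf (nat_lit 0xd78b9efdd) (nat_lit 1291))
) (.node (nat_lit 0xd78cdefee) (.leaf (nat_lit 0xd78bab1f3) (nat_lit 1027))
 (.node (nat_lit 0xd78ceb1dd) (.leaf (nat_lit 0xd78cdefee) (nat_lit 1291))
 (.leaf (nat_lit 0xd78ceb1dd) (nat_lit 775))
))) (.node (nat_lit 0xd7fbabe33) (.node (nat_lit 0xd7f76be2e) (.leaf (nat_lit 0xd7f75e1f3) (nat_lit 1291))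
 (.node (nat_lit 0xd7fb9e1dd) (.leaf (nat_lit 0xd7f76be2e) (nat_lit 1024))
 (.leaf (nat_lit 0xd7fb9e1dd) (nat_lit 1035))
)) (.node (nat_lit 0xd7fcde1ee) (.leaf (nat_lit 0xd7fbabe33) (nat_lit 778))
 (.node (nat_lit 0xd7fcebe1d) (.leaf (nat_lit 0xd7fcde1ee) (nat_lit 1291))
 (.leaf (nat_lit 0xd7fcebe1d) (nat_lit 1034))
))))))))) (.node (nat_lit 0xef15dc3fd) (.node (nat_lit 0xe5fbf78d5) (.node (nat_lit 0xe1dd47bab) (.node (nat_lit 0xdef8ce57c) (.node (nat_lit 0xddfe8e8ef) (.node (nat_lit 0xdd5f39be3) (.node (nat_lit 0xdd58ceebc) (.node (nat_lit 0xdd57f9bfc) (.leaf (nat_lit 0xdd57ceea3) (nat_lit 1035))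
 (.leaf (nat_lit 0xdd57f9bfc) (nat_lit 1029))
) (.node (nat_lit 0xdd58f9bdf) (.leaf (nat_lit 0xdd58ceebc) (nat_lit 1291))
 (.node (nat_lit 0xdd5f0ee9f) (.leaf (nat_lit 0xdd58f9bdf) (nat_lit 1028))
 (.leaf (nat_lit 0xdd5f0ee9f) (nat_lit 1291))
))) (.node (nat_lit 0xddf579f2f) (.node (nat_lit 0xddf54e8fa) (.leaf (nat_lit 0xdd5f39be3) (nat_lit 1028))
 (.leaf (nat_lit 0xddf54e8fa) (nat_lit 1035))
) (.node (nat_lit 0xddfbce8d5) (.leaf (nat_lit 0xddf579f2f) (nat_lit 1029))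
 (.node (nat_lit 0xddfbf9f3a) (.leaf (nat_lit 0xddfbce8d5) (nat_lit 1035))
 (.leaf (nat_lit 0xddfbf9f3a) (nat_lit 1028))
)))) (.node (nat_lit 0xde3bf97fa) (.node (nat_lit 0xde354ef3a) (.node (nat_lit 0xddfeb9f15) (.leaf (nat_lit 0xddfe8e8ef) (nat_lit 1291))
 (.leaf (nat_lit 0xddfeb9f15) (nat_lit 1028))
) (.node (nat_lit 0xde35797ef) (.leaf (nat_lit 0xde354ef3a) (nat_lit 1291))
 (.node (nat_lit 0xde3bcef15) (.leaf (nat_lit 0xde35797ef) (nat_lit 1028))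
 (.leaf (nat_lit 0xde3bcef15) (nat_lit 1291))
))) (.node (nat_lit 0xde3eb97d5) (.node (nat_lit 0xde3e8ef2f) (.leaf (nat_lit 0xde3bf97fa) (nat_lit 1028))
 (.leaf (nat_lit 0xde3e8ef2f) (nat_lit 1291))
) (.node (nat_lit 0xdef7ce563) (.leaf (nat_lit 0xde3eb97d5) (nat_lit 772))
 (.node (nat_lit 0xdef7f9ebc) (.leaf (nat_lit 0xdef7ce563) (nat_lit 1035))
 (.leaf (nat_lit 0xdef7f9ebc) (nat_lit 1028))
))))) (.node (nat_lit 0xdfc54e7fa) (.node (nat_lit 0xdfa7f957c) (.node (nat_lit 0xdeff0e55f) (.node (nat_lit 0xdef8f9e9f) (.leaf (nat_lit 0xdef8ce57c) (nat_lit 1291))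
 (.leaf (nat_lit 0xdef8f9e9f) (nat_lit 1028))
) (.node (nat_lit 0xdeff39ea3) (.leaf (nat_lit 0xdeff0e55f) (nat_lit 1035))
 (.node (nat_lit 0xdfa7cebe3) (.leaf (nat_lit 0xdeff39ea3) (nat_lit 774))
 (.leaf (nat_lit 0xdfa7cebe3) (nat_lit 1291))
))) (.node (nat_lit 0xdfa8f955f) (.node (nat_lit 0xdfa8cebfc) (.leaf (nat_lit 0xdfa7f957c) (nat_lit 1028))
 (.leaf (nat_lit 0xdfa8cebfc) (nat_lit 1291))
) (.node (nat_lit 0xdfaf0ebdf) (.leaf (nat_lit 0xdfa8f955f) (nat_lit 772))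
 (.node (nat_lit 0xdfaf39563) (.leaf (nat_lit 0xdfaf0ebdf) (nat_lit 1291))
 (.leaf (nat_lit 0xdfaf39563) (nat_lit 1028))
)))) (.node (nat_lit 0xdfceb98d5) (.node (nat_lit 0xdfcbce7d5) (.node (nat_lit 0xdfc5798ef) (.leaf (nat_lit 0xdfc54e7fa) (nat_lit 1291))
 (.leaf (nat_lit 0xdfc5798ef) (nat_lit 1028))
) (.node (nat_lit 0xdfcbf98fa) (.leaf (nat_lit 0xdfcbce7d5) (nat_lit 1035))
 (.node (nat_lit 0xdfce8e7ef) (.leaf (nat_lit 0xdfcbf98fa) (nat_lit 775))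
 (.leaf (nat_lit 0xdfce8e7ef) (nat_lit 1291))
))) (.node (nat_lit 0xe1d7bfceb) (.node (nat_lit 0xe1d787bb5) (.leaf (nat_lit 0xdfceb98d5) (nat_lit 1028))
 (.leaf (nat_lit 0xe1d787bb5) (nat_lit 768))
) (.node (nat_lit 0xe1dac7b9e) (.leaf (nat_lit 0xe1d7bfceb) (nat_lit 779))
 (.node (nat_lit 0xe1daffcf5) (.leaf (nat_lit 0xe1dac7b9e) (nat_lit 515))
 (.leaf (nat_lit 0xe1daffcf5) (nat_lit 1035))
)))))) (.node (nat_lit 0xe33787775) (.node (nat_lit 0xe2bb877b3) (.node (nat_lit 0xe1ebbfadd) (.node (nat_lit 0xe1e747d6e) (.node (nat_lit 0xe1dd7fcde) (.leaf (nat_lit 0xe1dd47bab) (nat_lit 522))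
 (.leaf (nat_lit 0xe1dd7fcde) (nat_lit 1035))
) (.node (nat_lit 0xe1e77faf3) (.leaf (nat_lit 0xe1e747d6e) (nat_lit 770))
 (.node (nat_lit 0xe1eb87d73) (.leaf (nat_lit 0xe1e77faf3) (nat_lit 779))
 (.leaf (nat_lit 0xe1eb87d73) (nat_lit 521))
))) (.node (nat_lit 0xe1ecffaee) (.node (nat_lit 0xe1ecc7d5d) (.leaf (nat_lit 0xe1ebbfadd) (nat_lit 1035))
 (.leaf (nat_lit 0xe1ecc7d5d) (nat_lit 515))
) (.node (nat_lit 0xe2b7477ae) (.leaf (nat_lit 0xe1ecffaee) (nat_lit 1035))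
 (.node (nat_lit 0xe2b77fd73) (.leaf (nat_lit 0xe2b7477ae) (nat_lit 513))
 (.leaf (nat_lit 0xe2b77fd73) (nat_lit 1035))
)))) (.node (nat_lit 0xe2e7bf76b) (.node (nat_lit 0xe2bcc779d) (.node (nat_lit 0xe2bbbfd5d) (.leaf (nat_lit 0xe2bb877b3) (nat_lit 512))
 (.leaf (nat_lit 0xe2bbbfd5d) (nat_lit 1035))
) (.node (nat_lit 0xe2bcffd6e) (.leaf (nat_lit 0xe2bcc779d) (nat_lit 265))
 (.node (nat_lit 0xe2e787cf5) (.leaf (nat_lit 0xe2bcffd6e) (nat_lit 1291))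
 (.leaf (nat_lit 0xe2e787cf5) (nat_lit 522))
))) (.node (nat_lit 0xe2eaff775) (.node (nat_lit 0xe2eac7cde) (.leaf (nat_lit 0xe2e7bf76b) (nat_lit 1035))
 (.leaf (nat_lit 0xe2eac7cde) (nat_lit 514))
) (.node (nat_lit 0xe2ed47ceb) (.leaf (nat_lit 0xe2eaff775) (nat_lit 1035))
 (.node (nat_lit 0xe2ed7f75e) (.leaf (nat_lit 0xe2ed47ceb) (nat_lit 771))
 (.leaf (nat_lit 0xe2ed7f75e) (nat_lit 1291))
))))) (.node (nat_lit 0xe35cc7add) (.node (nat_lit 0xe33d7fb9e) (.node (nat_lit 0xe33ac775e) (.node (nat_lit 0xe337bfbab) (.leaf (nat_lit 0xe33787775) (nat_lit 513))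
 (.leaf (nat_lit 0xe337bfbab) (nat_lit 1035))
) (.node (nat_lit 0xe33affbb5) (.leaf (nat_lit 0xe33ac775e) (nat_lit 266))
 (.node (nat_lit 0xe33d4776b) (.leaf (nat_lit 0xe33affbb5) (nat_lit 1291))
 (.leaf (nat_lit 0xe33d4776b) (nat_lit 512))
))) (.node (nat_lit 0xe3577f7b3) (.node (nat_lit 0xe35747aee) (.leaf (nat_lit 0xe33d7fb9e) (nat_lit 1035))
 (.leaf (nat_lit 0xe35747aee) (nat_lit 521))
) (.node (nat_lit 0xe35b87af3) (.leaf (nat_lit 0xe3577f7b3) (nat_lit 1035))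
 (.node (nat_lit 0xe35bbf79d) (.leaf (nat_lit 0xe35b87af3) (nat_lit 769))
 (.leaf (nat_lit 0xe35bbf79d) (nat_lit 1291))
)))) (.node (nat_lit 0xe558f7ebc) (.node (nat_lit 0xe557cebfc) (.node (nat_lit 0xe35cff7ae) (.leaf (nat_lit 0xe35cc7add) (nat_lit 514))
 (.leaf (nat_lit 0xe35cff7ae) (nat_lit 1035))
) (.node (nat_lit 0xe557f7ea3) (.leaf (nat_lit 0xe557cebfc) (nat_lit 1024))
 (.node (nat_lit 0xe558cebdf) (.leaf (nat_lit 0xe557f7ea3) (nat_lit 1035))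
 (.leaf (nat_lit 0xe558cebdf) (nat_lit 771))
))) (.node (nat_lit 0xe5f54ef2f) (.node (nat_lit 0xe55f0ebe3) (.leaf (nat_lit 0xe558f7ebc) (nat_lit 1291))
 (.node (nat_lit 0xe55f37e9f) (.leaf (nat_lit 0xe55f0ebe3) (nat_lit 778))
 (.leaf (nat_lit 0xe55f37e9f) (nat_lit 1291))
)) (.node (nat_lit 0xe5f5778fa) (.leaf (nat_lit 0xe5f54ef2f) (nat_lit 1026))
 (.node (nat_lit 0xe5fbcef3a) (.leaf (nat_lit 0xe5f5778fa) (nat_lit 1035))
 (.leaf (nat_lit 0xe5fbcef3a) (nat_lit 777))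
))))))) (.node (nat_lit 0xea33aff39) (.node (nat_lit 0xe7af37bdf) (.node (nat_lit 0xe6f7f7563) (.node (nat_lit 0xe63bce7fa) (.node (nat_lit 0xe5feb78ef) (.node (nat_lit 0xe5fe8ef15) (.leaf (nat_lit 0xe5fbf78d5) (nat_lit 1291))
 (.leaf (nat_lit 0xe5fe8ef15) (nat_lit 771))
) (.node (nat_lit 0xe6354e7ef) (.leaf (nat_lit 0xe5feb78ef) (nat_lit 1291))
 (.node (nat_lit 0xe63577f3a) (.leaf (nat_lit 0xe6354e7ef) (nat_lit 769))
 (.leaf (nat_lit 0xe63577f3a) (nat_lit 1291))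
))) (.node (nat_lit 0xe63e8e7d5) (.node (nat_lit 0xe63bf7f15) (.leaf (nat_lit 0xe63bce7fa) (nat_lit 768))
 (.leaf (nat_lit 0xe63bf7f15) (nat_lit 1291))
) (.node (nat_lit 0xe63eb7f2f) (.leaf (nat_lit 0xe63e8e7d5) (nat_lit 521))
 (.node (nat_lit 0xe6f7ceebc) (.leaf (nat_lit 0xe63eb7f2f) (nat_lit 1035))
 (.leaf (nat_lit 0xe6f7ceebc) (nat_lit 778))
)))) (.node (nat_lit 0xe7a7ce57c) (.node (nat_lit 0xe6f8f757c) (.node (nat_lit 0xe6f8cee9f) (.leaf (nat_lit 0xe6f7f7563) (nat_lit 1291))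
 (.leaf (nat_lit 0xe6f8cee9f) (nat_lit 770))
) (.node (nat_lit 0xe6ff0eea3) (.leaf (nat_lit 0xe6f8f757c) (nat_lit 1291))
 (.node (nat_lit 0xe6ff3755f) (.leaf (nat_lit 0xe6ff0eea3) (nat_lit 1027))
 (.leaf (nat_lit 0xe6ff3755f) (nat_lit 1291))
))) (.node (nat_lit 0xe7a8ce55f) (.node (nat_lit 0xe7a7f7be3) (.leaf (nat_lit 0xe7a7ce57c) (nat_lit 769))
 (.leaf (nat_lit 0xe7a7f7be3) (nat_lit 1291))
) (.node (nat_lit 0xe7a8f7bfc) (.leaf (nat_lit 0xe7a8ce55f) (nat_lit 522))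
 (.node (nat_lit 0xe7af0e563) (.leaf (nat_lit 0xe7a8f7bfc) (nat_lit 1035))
 (.leaf (nat_lit 0xe7af0e563) (nat_lit 768))
))))) (.node (nat_lit 0xe8e8efe7c) (.node (nat_lit 0xe7ce8e8d5) (.node (nat_lit 0xe7c5777fa) (.node (nat_lit 0xe7c54e8ef) (.leaf (nat_lit 0xe7af37bdf) (nat_lit 1291))
 (.leaf (nat_lit 0xe7c54e8ef) (nat_lit 777))
) (.node (nat_lit 0xe7cbce8fa) (.leaf (nat_lit 0xe7c5777fa) (nat_lit 1291))
 (.node (nat_lit 0xe7cbf77d5) (.leaf (nat_lit 0xe7cbce8fa) (nat_lit 1025))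
 (.leaf (nat_lit 0xe7cbf77d5) (nat_lit 1291))
))) (.node (nat_lit 0xe8e7d5dfc) (.node (nat_lit 0xe7ceb77ef) (.leaf (nat_lit 0xe7ce8e8d5) (nat_lit 770))
 (.leaf (nat_lit 0xe7ceb77ef) (nat_lit 1291))
) (.node (nat_lit 0xe8e7efe63) (.leaf (nat_lit 0xe8e7d5dfc) (nat_lit 1028))
 (.node (nat_lit 0xe8e8d5ddf) (.leaf (nat_lit 0xe8e7efe63) (nat_lit 1035))
 (.leaf (nat_lit 0xe8e8d5ddf) (nat_lit 771))
)))) (.node (nat_lit 0xe9fdd5f39) (.node (nat_lit 0xe8ef2fe5f) (.node (nat_lit 0xe8ef15de3) (.leaf (nat_lit 0xe8e8efe7c) (nat_lit 1291))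
 (.leaf (nat_lit 0xe8ef15de3) (nat_lit 777))
) (.node (nat_lit 0xe9f395f37) (.leaf (nat_lit 0xe8ef2fe5f) (nat_lit 1291))
 (.node (nat_lit 0xe9f3af8f9) (.leaf (nat_lit 0xe9f395f37) (nat_lit 1028))
 (.leaf (nat_lit 0xe9f3af8f9) (nat_lit 1035))
))) (.node (nat_lit 0xe9fe55f0e) (.node (nat_lit 0xe9fdef8ce) (.leaf (nat_lit 0xe9fdd5f39) (nat_lit 778))
 (.leaf (nat_lit 0xe9fdef8ce) (nat_lit 1291))
) (.node (nat_lit 0xe9fe6f8f7) (.leaf (nat_lit 0xe9fe55f0e) (nat_lit 771))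
 (.node (nat_lit 0xea33957f7) (.leaf (nat_lit 0xe9fe6f8f7) (nat_lit 1291))
 (.leaf (nat_lit 0xea33957f7) (nat_lit 769))
)))))) (.node (nat_lit 0xebcdef7ce) (.node (nat_lit 0xeb7f2f39f) (.node (nat_lit 0xeb77d5e7c) (.node (nat_lit 0xea3deff0e) (.node (nat_lit 0xea3dd57f9) (.leaf (nat_lit 0xea33aff39) (nat_lit 1291))
 (.leaf (nat_lit 0xea3dd57f9) (nat_lit 768))
) (.node (nat_lit 0xea3e557ce) (.leaf (nat_lit 0xea3deff0e) (nat_lit 1291))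
 (.node (nat_lit 0xea3e6ff37) (.leaf (nat_lit 0xea3e557ce) (nat_lit 522))
 (.leaf (nat_lit 0xea3e6ff37) (nat_lit 1035))
))) (.node (nat_lit 0xeb78d5e5f) (.node (nat_lit 0xeb77ef3a3) (.leaf (nat_lit 0xeb77d5e7c) (nat_lit 777))
 (.leaf (nat_lit 0xeb77ef3a3) (nat_lit 1291))
) (.node (nat_lit 0xeb78ef3bc) (.leaf (nat_lit 0xeb78d5e5f) (nat_lit 770))
 (.node (nat_lit 0xeb7f15e63) (.leaf (nat_lit 0xeb78ef3bc) (nat_lit 1291))
 (.leaf (nat_lit 0xeb7f15e63) (nat_lit 1025))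
)))) (.node (nat_lit 0xeb9f153a3) (.node (nat_lit 0xeb97efde3) (.node (nat_lit 0xeb97d53bc) (.leaf (nat_lit 0xeb7f2f39f) (nat_lit 1291))
 (.leaf (nat_lit 0xeb97d53bc) (nat_lit 769))
) (.node (nat_lit 0xeb98d539f) (.leaf (nat_lit 0xeb97efde3) (nat_lit 1291))
 (.node (nat_lit 0xeb98efdfc) (.leaf (nat_lit 0xeb98d539f) (nat_lit 521))
 (.leaf (nat_lit 0xeb98efdfc) (nat_lit 1035))
))) (.node (nat_lit 0xebc3958f7) (.node (nat_lit 0xeb9f2fddf) (.leaf (nat_lit 0xeb9f153a3) (nat_lit 768))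
 (.leaf (nat_lit 0xeb9f2fddf) (nat_lit 1291))
) (.node (nat_lit 0xebc3af7f9) (.leaf (nat_lit 0xebc3958f7) (nat_lit 778))
 (.node (nat_lit 0xebcdd58f9) (.leaf (nat_lit 0xebc3af7f9) (nat_lit 1291))
 (.leaf (nat_lit 0xebcdd58f9) (nat_lit 1027))
))))) (.node (nat_lit 0xed73e7ab1) (.node (nat_lit 0xecfa9cf97) (.node (nat_lit 0xebce6f7f7) (.node (nat_lit 0xebce558ce) (.leaf (nat_lit 0xebcdef7ce) (nat_lit 1291))
 (.leaf (nat_lit 0xebce558ce) (nat_lit 770))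
) (.node (nat_lit 0xecf5dcfbd) (.leaf (nat_lit 0xebce6f7f7) (nat_lit 1291))
 (.node (nat_lit 0xecf5e7c6a) (.leaf (nat_lit 0xecf5dcfbd) (nat_lit 772))
 (.leaf (nat_lit 0xecf5e7c6a) (nat_lit 1291))
))) (.node (nat_lit 0xecff5cfaa) (.node (nat_lit 0xecfaa7c7d) (.leaf (nat_lit 0xecfa9cf97) (nat_lit 1027))
 (.leaf (nat_lit 0xecfaa7c7d) (nat_lit 1291))
) (.node (nat_lit 0xecff67c57) (.leaf (nat_lit 0xecff5cfaa) (nat_lit 1033))
 (.node (nat_lit 0xed73dcf7e) (.leaf (nat_lit 0xecff67c57) (nat_lit 1291))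
 (.leaf (nat_lit 0xed73dcf7e) (nat_lit 772))
)))) (.node (nat_lit 0xeea3dc5fe) (.node (nat_lit 0xed7c67abe) (.node (nat_lit 0xed7c5cf4f) (.leaf (nat_lit 0xed73e7ab1) (nat_lit 1291))
 (.leaf (nat_lit 0xed7c5cf4f) (nat_lit 1027))
) (.node (nat_lit 0xed7f9cf71) (.leaf (nat_lit 0xed7c67abe) (nat_lit 1291))
 (.node (nat_lit 0xed7fa7a8f) (.leaf (nat_lit 0xed7f9cf71) (nat_lit 1034))
 (.leaf (nat_lit 0xed7fa7a8f) (nat_lit 1291))
))) (.node (nat_lit 0xeeac67f7e) (.node (nat_lit 0xeea3e7f71) (.leaf (nat_lit 0xeea3dc5fe) (nat_lit 1025))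
 (.node (nat_lit 0xeeac5c5cf) (.leaf (nat_lit 0xeea3e7f71) (nat_lit 1291))
 (.leaf (nat_lit 0xeeac5c5cf) (nat_lit 778))
)) (.node (nat_lit 0xeeaf9c5f1) (.leaf (nat_lit 0xeeac67f7e) (nat_lit 1291))
 (.node (nat_lit 0xeeafa7f4f) (.leaf (nat_lit 0xeeaf9c5f1) (nat_lit 1024))
 (.leaf (nat_lit 0xeeafa7f4f) (nat_lit 1291))
)))))))) (.node (nat_lit 0xf7bc6a70f) (.node (nat_lit 0xf37e9f3af) (.node (nat_lit 0xf0ebdfe55) (.node (nat_lit 0xefdf9cab1) (.node (nat_lit 0xef1f67f97) (.node (nat_lit 0xef1a9c3d7) (.node (nat_lit 0xef15e7faa) (.leaf (nat_lit 0xef15dc3fd) (nat_lit 1025))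
 (.leaf (nat_lit 0xef15e7faa) (nat_lit 1291))
) (.node (nat_lit 0xef1aa7fbd) (.leaf (nat_lit 0xef1a9c3d7) (nat_lit 777))
 (.node (nat_lit 0xef1f5c3ea) (.leaf (nat_lit 0xef1aa7fbd) (nat_lit 1291))
 (.leaf (nat_lit 0xef1f5c3ea) (nat_lit 1024))
))) (.node (nat_lit 0xefd3e75f1) (.node (nat_lit 0xefd3dcabe) (.leaf (nat_lit 0xef1f67f97) (nat_lit 1291))
 (.leaf (nat_lit 0xefd3dcabe) (nat_lit 1034))
) (.node (nat_lit 0xefdc5ca8f) (.leaf (nat_lit 0xefd3e75f1) (nat_lit 1291))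
 (.node (nat_lit 0xefdc675fe) (.leaf (nat_lit 0xefdc5ca8f) (nat_lit 1026))
 (.leaf (nat_lit 0xefdc675fe) (nat_lit 1291))
)))) (.node (nat_lit 0xefeaa73fd) (.node (nat_lit 0xefe5dcc7d) (.node (nat_lit 0xefdfa75cf) (.leaf (nat_lit 0xefdf9cab1) (nat_lit 1034))
 (.leaf (nat_lit 0xefdfa75cf) (nat_lit 1035))
) (.node (nat_lit 0xefe5e73ea) (.leaf (nat_lit 0xefe5dcc7d) (nat_lit 1033))
 (.node (nat_lit 0xefea9cc57) (.leaf (nat_lit 0xefe5e73ea) (nat_lit 1291))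
 (.leaf (nat_lit 0xefea9cc57) (nat_lit 1026))
))) (.node (nat_lit 0xefef673d7) (.node (nat_lit 0xefef5cc6a) (.leaf (nat_lit 0xefeaa73fd) (nat_lit 1291))
 (.leaf (nat_lit 0xefef5cc6a) (nat_lit 1033))
) (.node (nat_lit 0xf0e55fe7a) (.leaf (nat_lit 0xefef673d7) (nat_lit 1035))
 (.node (nat_lit 0xf0e563def) (.leaf (nat_lit 0xf0e55fe7a) (nat_lit 1291))
 (.leaf (nat_lit 0xf0e563def) (nat_lit 1027))
))))) (.node (nat_lit 0xf2f39f579) (.node (nat_lit 0xf153a3bf7) (.node (nat_lit 0xf0ee9fe6f) (.node (nat_lit 0xf0ebe3dfa) (.leaf (nat_lit 0xf0ebdfe55) (nat_lit 1291))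
 (.leaf (nat_lit 0xf0ebe3dfa) (nat_lit 770))
) (.node (nat_lit 0xf0eea3dd5) (.leaf (nat_lit 0xf0ee9fe6f) (nat_lit 1291))
 (.node (nat_lit 0xf1539feb9) (.leaf (nat_lit 0xf0eea3dd5) (nat_lit 778))
 (.leaf (nat_lit 0xf1539feb9) (nat_lit 1291))
))) (.node (nat_lit 0xf15de3bf9) (.node (nat_lit 0xf15ddfe8e) (.leaf (nat_lit 0xf153a3bf7) (nat_lit 1025))
 (.leaf (nat_lit 0xf15ddfe8e) (nat_lit 1291))
) (.node (nat_lit 0xf15e5feb7) (.leaf (nat_lit 0xf15de3bf9) (nat_lit 770))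
 (.node (nat_lit 0xf15e63bce) (.leaf (nat_lit 0xf15e5feb7) (nat_lit 1291))
 (.leaf (nat_lit 0xf15e63bce) (nat_lit 777))
)))) (.node (nat_lit 0xf2fe63e8e) (.node (nat_lit 0xf2fddf54e) (.node (nat_lit 0xf2f3a3eb7) (.leaf (nat_lit 0xf2f39f579) (nat_lit 1291))
 (.leaf (nat_lit 0xf2f3a3eb7) (nat_lit 768))
) (.node (nat_lit 0xf2fde3eb9) (.leaf (nat_lit 0xf2fddf54e) (nat_lit 1291))
 (.node (nat_lit 0xf2fe5f577) (.leaf (nat_lit 0xf2fde3eb9) (nat_lit 521))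
 (.leaf (nat_lit 0xf2fe5f577) (nat_lit 1291))
))) (.node (nat_lit 0xf37563e6f) (.node (nat_lit 0xf3755f3ba) (.leaf (nat_lit 0xf2fe63e8e) (nat_lit 769))
 (.leaf (nat_lit 0xf3755f3ba) (nat_lit 1291))
) (.node (nat_lit 0xf37bdf395) (.leaf (nat_lit 0xf37563e6f) (nat_lit 768))
 (.node (nat_lit 0xf37be3e7a) (.leaf (nat_lit 0xf37bdf395) (nat_lit 1291))
 (.leaf (nat_lit 0xf37be3e7a) (nat_lit 522))
)))))) (.node (nat_lit 0xf5c3d7ef1) (.node (nat_lit 0xf3addfbce) (.node (nat_lit 0xf39be33ba) (.node (nat_lit 0xf3955fdfa) (.node (nat_lit 0xf37ea3e55) (.leaf (nat_lit 0xf37e9f3af) (nat_lit 1291))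
 (.leaf (nat_lit 0xf37ea3e55) (nat_lit 769))
) (.node (nat_lit 0xf395633af) (.leaf (nat_lit 0xf3955fdfa) (nat_lit 1291))
 (.node (nat_lit 0xf39bdfdd5) (.leaf (nat_lit 0xf395633af) (nat_lit 778))
 (.leaf (nat_lit 0xf39bdfdd5) (nat_lit 1291))
))) (.node (nat_lit 0xf39ea3395) (.node (nat_lit 0xf39e9fdef) (.leaf (nat_lit 0xf39be33ba) (nat_lit 771))
 (.leaf (nat_lit 0xf39e9fdef) (nat_lit 1035))
) (.node (nat_lit 0xf3a39fbf9) (.leaf (nat_lit 0xf39ea3395) (nat_lit 1031))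
 (.node (nat_lit 0xf3a3a3577) (.leaf (nat_lit 0xf3a39fbf9) (nat_lit 1291))
 (.leaf (nat_lit 0xf3a3a3577) (nat_lit 777))
)))) (.node (nat_lit 0xf4f72afa7) (.node (nat_lit 0xf3ae5fbf7) (.node (nat_lit 0xf3ade3579) (.leaf (nat_lit 0xf3addfbce) (nat_lit 1291))
 (.leaf (nat_lit 0xf3ade3579) (nat_lit 771))
) (.node (nat_lit 0xf3ae6354e) (.leaf (nat_lit 0xf3ae5fbf7) (nat_lit 1035))
 (.node (nat_lit 0xf4f717c7b) (.leaf (nat_lit 0xf3ae6354e) (nat_lit 1030))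
 (.leaf (nat_lit 0xf4f717c7b) (nat_lit 1035))
))) (.node (nat_lit 0xf4f9eafbb) (.node (nat_lit 0xf4f9d7c5c) (.leaf (nat_lit 0xf4f72afa7) (nat_lit 1030))
 (.leaf (nat_lit 0xf4f9d7c5c) (nat_lit 1291))
) (.node (nat_lit 0xf4fed7c67) (.leaf (nat_lit 0xf4f9eafbb) (nat_lit 1026))
 (.node (nat_lit 0xf4feeaf9c) (.leaf (nat_lit 0xf4fed7c67) (nat_lit 1291))
 (.leaf (nat_lit 0xf4feeaf9c) (nat_lit 1034))
))))) (.node (nat_lit 0xf67f9770f) (.node (nat_lit 0xf5cfaa9f1) (.node (nat_lit 0xf5cc57efe) (.node (nat_lit 0xf5c3ea9fe) (.leaf (nat_lit 0xf5c3d7ef1) (nat_lit 1035))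
 (.leaf (nat_lit 0xf5c3ea9fe) (nat_lit 1031))
) (.node (nat_lit 0xf5cc6a9cf) (.leaf (nat_lit 0xf5cc57efe) (nat_lit 1291))
 (.node (nat_lit 0xf5cf97ecf) (.leaf (nat_lit 0xf5cc6a9cf) (nat_lit 1033))
 (.leaf (nat_lit 0xf5cf97ecf) (nat_lit 1291))
))) (.node (nat_lit 0xf673eaefe) (.node (nat_lit 0xf673d7731) (.leaf (nat_lit 0xf5cfaa9f1) (nat_lit 1026))
 (.leaf (nat_lit 0xf673d7731) (nat_lit 1291))
) (.node (nat_lit 0xf67c5773e) (.leaf (nat_lit 0xf673eaefe) (nat_lit 1024))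
 (.node (nat_lit 0xf67c6aecf) (.leaf (nat_lit 0xf67c5773e) (nat_lit 1291))
 (.leaf (nat_lit 0xf67c6aecf) (nat_lit 1025))
)))) (.node (nat_lit 0xf719ea3fb) (.node (nat_lit 0xf71717fbb) (.node (nat_lit 0xf67faaef1) (.leaf (nat_lit 0xf67f9770f) (nat_lit 1035))
 (.leaf (nat_lit 0xf67faaef1) (nat_lit 777))
) (.node (nat_lit 0xf7172a3e7) (.leaf (nat_lit 0xf71717fbb) (nat_lit 1291))
 (.node (nat_lit 0xf719d7f9c) (.leaf (nat_lit 0xf7172a3e7) (nat_lit 1034))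
 (.leaf (nat_lit 0xf719d7f9c) (nat_lit 1291))
))) (.node (nat_lit 0xf7b3d79f1) (.node (nat_lit 0xf71ed7fa7) (.leaf (nat_lit 0xf719ea3fb) (nat_lit 1027))
 (.node (nat_lit 0xf71eea3dc) (.leaf (nat_lit 0xf71ed7fa7) (nat_lit 1291))
 (.leaf (nat_lit 0xf71eea3dc) (nat_lit 772))
)) (.node (nat_lit 0xf7b3ea73e) (.leaf (nat_lit 0xf7b3d79f1) (nat_lit 1291))
 (.node (nat_lit 0xf7bc579fe) (.leaf (nat_lit 0xf7b3ea73e) (nat_lit 1033))
 (.leaf (nat_lit 0xf7bc579fe) (nat_lit 1291))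
))))))) (.node (nat_lit 0xfbd731aa7) (.node (nat_lit 0xf9cf719ea) (.node (nat_lit 0xf97731f67) (.node (nat_lit 0xf7e9d73dc) (.node (nat_lit 0xf7bfaa731) (.node (nat_lit 0xf7bf979cf) (.leaf (nat_lit 0xf7bc6a70f) (nat_lit 772))
 (.leaf (nat_lit 0xf7bf979cf) (nat_lit 1291))
) (.node (nat_lit 0xf7e7173fb) (.leaf (nat_lit 0xf7bfaa731) (nat_lit 777))
 (.node (nat_lit 0xf7e72ac67) (.leaf (nat_lit 0xf7e7173fb) (nat_lit 1291))
 (.leaf (nat_lit 0xf7e72ac67) (nat_lit 1024))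
))) (.node (nat_lit 0xf7eed73e7) (.node (nat_lit 0xf7e9eac7b) (.leaf (nat_lit 0xf7e9d73dc) (nat_lit 1035))
 (.leaf (nat_lit 0xf7e9eac7b) (nat_lit 778))
) (.node (nat_lit 0xf7eeeac5c) (.leaf (nat_lit 0xf7eed73e7) (nat_lit 1291))
 (.node (nat_lit 0xf9770fabb) (.leaf (nat_lit 0xf7eeeac5c) (nat_lit 778))
 (.leaf (nat_lit 0xf9770fabb) (nat_lit 1035))
)))) (.node (nat_lit 0xf9c5cfeea) (.node (nat_lit 0xf979f1f7b) (.node (nat_lit 0xf979cfa9c) (.leaf (nat_lit 0xf97731f67) (nat_lit 1030))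
 (.leaf (nat_lit 0xf979cfa9c) (nat_lit 1291))
) (.node (nat_lit 0xf97ecfaa7) (.leaf (nat_lit 0xf979f1f7b) (nat_lit 1028))
 (.node (nat_lit 0xf97ef1f5c) (.leaf (nat_lit 0xf97ecfaa7) (nat_lit 1291))
 (.leaf (nat_lit 0xf97ef1f5c) (nat_lit 1028))
))) (.node (nat_lit 0xf9ca8fefd) (.node (nat_lit 0xf9c5f19fd) (.leaf (nat_lit 0xf9c5cfeea) (nat_lit 1035))
 (.leaf (nat_lit 0xf9c5f19fd) (nat_lit 1031))
) (.node (nat_lit 0xf9cab19d7) (.leaf (nat_lit 0xf9ca8fefd) (nat_lit 1291))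
 (.node (nat_lit 0xf9cf4fed7) (.leaf (nat_lit 0xf9cab19d7) (nat_lit 1028))
 (.leaf (nat_lit 0xf9cf4fed7) (nat_lit 1291))
))))) (.node (nat_lit 0xfaa9f15fb) (.node (nat_lit 0xfa7f4f717) (.node (nat_lit 0xfa75f1efd) (.node (nat_lit 0xfa75cf72a) (.leaf (nat_lit 0xf9cf719ea) (nat_lit 1028))
 (.leaf (nat_lit 0xfa75cf72a) (nat_lit 1291))
) (.node (nat_lit 0xfa7a8f73d) (.leaf (nat_lit 0xfa75f1efd) (nat_lit 1028))
 (.node (nat_lit 0xfa7ab1ed7) (.leaf (nat_lit 0xfa7a8f73d) (nat_lit 1291))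
 (.leaf (nat_lit 0xfa7ab1ed7) (nat_lit 1028))
))) (.node (nat_lit 0xfaa70ff7b) (.node (nat_lit 0xfa7f71eea) (.leaf (nat_lit 0xfa7f4f717) (nat_lit 1035))
 (.leaf (nat_lit 0xfa7f71eea) (nat_lit 778))
) (.node (nat_lit 0xfaa7315e7) (.leaf (nat_lit 0xfaa70ff7b) (nat_lit 1291))
 (.node (nat_lit 0xfaa9cff5c) (.leaf (nat_lit 0xfaa7315e7) (nat_lit 1028))
 (.leaf (nat_lit 0xfaa9cff5c) (nat_lit 1291))
)))) (.node (nat_lit 0xfbba8f9fd) (.node (nat_lit 0xfaaef15dc) (.node (nat_lit 0xfaaecff67) (.leaf (nat_lit 0xfaa9f15fb) (nat_lit 1028))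
 (.leaf (nat_lit 0xfaaecff67) (nat_lit 1291))
) (.node (nat_lit 0xfbb5cf9ea) (.leaf (nat_lit 0xfaaef15dc) (nat_lit 772))
 (.node (nat_lit 0xfbb5f173d) (.leaf (nat_lit 0xfbb5cf9ea) (nat_lit 1291))
 (.leaf (nat_lit 0xfbb5f173d) (nat_lit 1028))
))) (.node (nat_lit 0xfbbf4f9d7) (.node (nat_lit 0xfbbab1717) (.leaf (nat_lit 0xfbba8f9fd) (nat_lit 1291))
 (.leaf (nat_lit 0xfbbab1717) (nat_lit 772))
) (.node (nat_lit 0xfbbf7172a) (.leaf (nat_lit 0xfbbf4f9d7) (nat_lit 1291))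
 (.node (nat_lit 0xfbd70f5fb) (.leaf (nat_lit 0xfbbf7172a) (nat_lit 778))
 (.leaf (nat_lit 0xfbd70f5fb) (nat_lit 1291))
)))))) (.node (nat_lit 0xfebbb87b3) (.node (nat_lit 0xfddd78bab) (.node (nat_lit 0xfdd787ceb) (.node (nat_lit 0xfbd9f1abb) (.node (nat_lit 0xfbd9cf5dc) (.leaf (nat_lit 0xfbd731aa7) (nat_lit 1028))
 (.leaf (nat_lit 0xfbd9cf5dc) (nat_lit 1035))
) (.node (nat_lit 0xfbdecf5e7) (.leaf (nat_lit 0xfbd9f1abb) (nat_lit 777))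
 (.node (nat_lit 0xfbdef1a9c) (.leaf (nat_lit 0xfbdecf5e7) (nat_lit 1291))
 (.leaf (nat_lit 0xfbdef1a9c) (nat_lit 777))
))) (.node (nat_lit 0xfddac7cf5) (.node (nat_lit 0xfdd7b8bb5) (.leaf (nat_lit 0xfdd787ceb) (nat_lit 779))
 (.leaf (nat_lit 0xfdd7b8bb5) (nat_lit 1028))
) (.node (nat_lit 0xfddaf8b9e) (.leaf (nat_lit 0xfddac7cf5) (nat_lit 1035))
 (.node (nat_lit 0xfddd47cde) (.leaf (nat_lit 0xfddaf8b9e) (nat_lit 772))
 (.leaf (nat_lit 0xfddd47cde) (nat_lit 1035))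
)))) (.node (nat_lit 0xfdecc7aee) (.node (nat_lit 0xfde778d6e) (.node (nat_lit 0xfde747af3) (.leaf (nat_lit 0xfddd78bab) (nat_lit 772))
 (.leaf (nat_lit 0xfde747af3) (nat_lit 779))
) (.node (nat_lit 0xfdeb87add) (.leaf (nat_lit 0xfde778d6e) (nat_lit 1028))
 (.node (nat_lit 0xfdebb8d73) (.leaf (nat_lit 0xfdeb87add) (nat_lit 1035))
 (.leaf (nat_lit 0xfdebb8d73) (nat_lit 772))
))) (.node (nat_lit 0xfeb747d73) (.node (nat_lit 0xfdecf8d5d) (.leaf (nat_lit 0xfdecc7aee) (nat_lit 1035))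
 (.leaf (nat_lit 0xfdecf8d5d) (nat_lit 772))
) (.node (nat_lit 0xfeb7787ae) (.leaf (nat_lit 0xfeb747d73) (nat_lit 1035))
 (.node (nat_lit 0xfebb87d5d) (.leaf (nat_lit 0xfeb7787ae) (nat_lit 772))
 (.leaf (nat_lit 0xfebb87d5d) (nat_lit 1035))
))))) (.node (nat_lit 0xff37b8775) (.node (nat_lit 0xfeeac7775) (.node (nat_lit 0xfebcf879d) (.node (nat_lit 0xfebcc7d6e) (.leaf (nat_lit 0xfebbb87b3) (nat_lit 772))
 (.leaf (nat_lit 0xfebcc7d6e) (nat_lit 1291))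
) (.node (nat_lit 0xfee78776b) (.leaf (nat_lit 0xfebcf879d) (nat_lit 516))
 (.node (nat_lit 0xfee7b8cf5) (.leaf (nat_lit 0xfee78776b) (nat_lit 1035))
 (.leaf (nat_lit 0xfee7b8cf5) (nat_lit 772))
))) (.node (nat_lit 0xfeed4775e) (.node (nat_lit 0xfeeaf8cde) (.leaf (nat_lit 0xfeeac7775) (nat_lit 1035))
 (.leaf (nat_lit 0xfeeaf8cde) (nat_lit 772))
) (.node (nat_lit 0xfeed78ceb) (.leaf (nat_lit 0xfeed4775e) (nat_lit 1291))
 (.node (nat_lit 0xff3787bab) (.leaf (nat_lit 0xfeed78ceb) (nat_lit 1034))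
 (.leaf (nat_lit 0xff3787bab) (nat_lit 1035))
)))) (.node (nat_lit 0xff57477b3) (.node (nat_lit 0xff3af875e) (.node (nat_lit 0xff3ac7bb5) (.leaf (nat_lit 0xff37b8775) (nat_lit 772))
 (.leaf (nat_lit 0xff3ac7bb5) (nat_lit 1291))
) (.node (nat_lit 0xff3d47b9e) (.leaf (nat_lit 0xff3af875e) (nat_lit 516))
 (.node (nat_lit 0xff3d7876b) (.leaf (nat_lit 0xff3d47b9e) (nat_lit 1035))
 (.leaf (nat_lit 0xff3d7876b) (nat_lit 772))
))) (.node (nat_lit 0xff5bb8af3) (.node (nat_lit 0xff5778aee) (.leaf (nat_lit 0xff57477b3) (nat_lit 1035))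
 (.node (nat_lit 0xff5b8779d) (.leaf (nat_lit 0xff5778aee) (nat_lit 772))
 (.leaf (nat_lit 0xff5b8779d) (nat_lit 1291))
)) (.node (nat_lit 0xff5cc77ae) (.leaf (nat_lit 0xff5bb8af3) (nat_lit 1033))
 (.node (nat_lit 0xff5cf8add) (.leaf (nat_lit 0xff5cc77ae) (nat_lit 1035))
 (.leaf (nat_lit 0xff5cf8add) (nat_lit 772))
)))))))))))

theorem gN6_ok : genOK B6.A [(nat_lit 0x810244088), (nat_lit 0x810044089), (nat_lit 0x812204401), (nat_lit 0x802204481), (nat_lit 0x910220081), (nat_lit 0x110224081), (nat_lit 0x408802044), (nat_lit 0x220401102), (nat_lit 0x808404042), (nat_lit 0xe2bcc779d), (nat_lit 0xe33ac775e), (nat_lit 0x102060408)] gN6_t (nat_lit 1296) = true := by decide +kernel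

noncomputable def gL6_t : ST :=
(.node (nat_lit 0x9010a0210) (.node (nat_lit 0x7c94a4def) (.node (nat_lit 0x1eed64042) (.node (nat_lit 0x1173e7081) (.node (nat_lit 0x10e57c408) (.node (nat_lit 0x108424252) (.node (nat_lit 0x102064408) (.node (nat_lit 0x1010a7395) (.node (nat_lit 0x1010a4252) (.leaf (nat_lit 0x1010a4210) (nat_lit 775))
 (.leaf (nat_lit 0x1010a4252) (nat_lit 774))
) (.node (nat_lit 0x1010a73d7) (.leaf (nat_lit 0x1010a7395) (nat_lit 1543))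
 (.leaf (nat_lit 0x1010a73d7) (nat_lit 1026))
)) (.node (nat_lit 0x10206754e) (.node (nat_lit 0x102064489) (.leaf (nat_lit 0x102064408) (nat_lit 519))
 (.leaf (nat_lit 0x102064489) (nat_lit 518))
) (.node (nat_lit 0x1020675cf) (.leaf (nat_lit 0x10206754e) (nat_lit 1543))
 (.node (nat_lit 0x108424042) (.leaf (nat_lit 0x1020675cf) (nat_lit 1025))
 (.leaf (nat_lit 0x108424042) (nat_lit 516))
)))) (.node (nat_lit 0x1094a4210) (.node (nat_lit 0x10843c75e) (.node (nat_lit 0x10843c54e) (.leaf (nat_lit 0x108424252) (nat_lit 1031))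
 (.leaf (nat_lit 0x10843c54e) (nat_lit 1282))
) (.node (nat_lit 0x1094a4042) (.leaf (nat_lit 0x10843c75e) (nat_lit 1282))
 (.leaf (nat_lit 0x1094a4042) (nat_lit 1031))
)) (.node (nat_lit 0x1094bf79d) (.node (nat_lit 0x1094bf5cf) (.leaf (nat_lit 0x1094a4210) (nat_lit 773))
 (.leaf (nat_lit 0x1094bf5cf) (nat_lit 1538))
) (.node (nat_lit 0x10e567042) (.leaf (nat_lit 0x1094bf79d) (nat_lit 1282))
 (.node (nat_lit 0x10e5673d7) (.leaf (nat_lit 0x10e567042) (nat_lit 1285))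
 (.leaf (nat_lit 0x10e5673d7) (nat_lit 1543))
))))) (.node (nat_lit 0x11023c79d) (.node (nat_lit 0x10f5ff489) (.node (nat_lit 0x10f5e7042) (.node (nat_lit 0x10e57c79d) (.leaf (nat_lit 0x10e57c408) (nat_lit 1543))
 (.leaf (nat_lit 0x10e57c79d) (nat_lit 1539))
) (.node (nat_lit 0x10f5e7395) (.leaf (nat_lit 0x10f5e7042) (nat_lit 1287))
 (.leaf (nat_lit 0x10f5e7395) (nat_lit 1286))
)) (.node (nat_lit 0x110224081) (.node (nat_lit 0x10f5ff75e) (.leaf (nat_lit 0x10f5ff489) (nat_lit 1540))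
 (.leaf (nat_lit 0x10f5ff75e) (nat_lit 1543))
) (.node (nat_lit 0x110224489) (.leaf (nat_lit 0x110224081) (nat_lit 260))
 (.node (nat_lit 0x11023c395) (.leaf (nat_lit 0x110224489) (nat_lit 775))
 (.leaf (nat_lit 0x11023c395) (nat_lit 1281))
)))) (.node (nat_lit 0x11227f75e) (.node (nat_lit 0x112264408) (.node (nat_lit 0x112264081) (.leaf (nat_lit 0x11023c79d) (nat_lit 1281))
 (.leaf (nat_lit 0x112264081) (nat_lit 775))
) (.node (nat_lit 0x11227f3d7) (.leaf (nat_lit 0x112264408) (nat_lit 517))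
 (.leaf (nat_lit 0x11227f3d7) (nat_lit 1537))
)) (.node (nat_lit 0x1153a75cf) (.node (nat_lit 0x1153a7081) (.leaf (nat_lit 0x11227f75e) (nat_lit 1281))
 (.leaf (nat_lit 0x1153a7081) (nat_lit 1285))
) (.node (nat_lit 0x1153bc210) (.leaf (nat_lit 0x1153a75cf) (nat_lit 1543))
 (.node (nat_lit 0x1153bc75e) (.leaf (nat_lit 0x1153bc210) (nat_lit 1543))
 (.leaf (nat_lit 0x1153bc75e) (nat_lit 1539))
)))))) (.node (nat_lit 0x1c2067c6a) (.node (nat_lit 0x11e77c408) (.node (nat_lit 0x11d7bc210) (.node (nat_lit 0x1173ff252) (.node (nat_lit 0x1173e754e) (.leaf (nat_lit 0x1173e7081) (nat_lit 1287))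
 (.leaf (nat_lit 0x1173e754e) (nat_lit 1286))
) (.node (nat_lit 0x1173ff79d) (.leaf (nat_lit 0x1173ff252) (nat_lit 1540))
 (.leaf (nat_lit 0x1173ff79d) (nat_lit 1543))
)) (.node (nat_lit 0x11d7bf3d7) (.node (nat_lit 0x11d7bc54e) (.leaf (nat_lit 0x11d7bc210) (nat_lit 1540))
 (.leaf (nat_lit 0x11d7bc54e) (nat_lit 1542))
) (.node (nat_lit 0x11d7bf489) (.leaf (nat_lit 0x11d7bf3d7) (nat_lit 1283))
 (.node (nat_lit 0x11e77c395) (.leaf (nat_lit 0x11d7bf489) (nat_lit 1543))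
 (.leaf (nat_lit 0x11e77c395) (nat_lit 1542))
)))) (.node (nat_lit 0x1c10a4bf7) (.node (nat_lit 0x11e77f5cf) (.node (nat_lit 0x11e77f252) (.leaf (nat_lit 0x11e77c408) (nat_lit 1540))
 (.leaf (nat_lit 0x11e77f252) (nat_lit 1543))
) (.node (nat_lit 0x1c10a4bb5) (.leaf (nat_lit 0x11e77f5cf) (nat_lit 1283))
 (.leaf (nat_lit 0x1c10a4bb5) (nat_lit 1543))
)) (.node (nat_lit 0x1c10a7af3) (.node (nat_lit 0x1c10a7ab1) (.leaf (nat_lit 0x1c10a4bf7) (nat_lit 1539))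
 (.leaf (nat_lit 0x1c10a7ab1) (nat_lit 1540))
) (.node (nat_lit 0x1c2064d6e) (.leaf (nat_lit 0x1c10a7af3) (nat_lit 1540))
 (.node (nat_lit 0x1c2064def) (.leaf (nat_lit 0x1c2064d6e) (nat_lit 1543))
 (.leaf (nat_lit 0x1c2064def) (nat_lit 1539))
))))) (.node (nat_lit 0x1de77fd6e) (.node (nat_lit 0x1dd7bfbb5) (.node (nat_lit 0x1dd7bcab1) (.node (nat_lit 0x1c2067ceb) (.leaf (nat_lit 0x1c2067c6a) (nat_lit 1540))
 (.leaf (nat_lit 0x1c2067ceb) (nat_lit 1540))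
) (.node (nat_lit 0x1dd7bcdef) (.leaf (nat_lit 0x1dd7bcab1) (nat_lit 1287))
 (.leaf (nat_lit 0x1dd7bcdef) (nat_lit 769))
)) (.node (nat_lit 0x1de77cbf7) (.node (nat_lit 0x1dd7bfceb) (.leaf (nat_lit 0x1dd7bfbb5) (nat_lit 774))
 (.leaf (nat_lit 0x1dd7bfceb) (nat_lit 775))
) (.node (nat_lit 0x1de77cc6a) (.leaf (nat_lit 0x1de77cbf7) (nat_lit 770))
 (.node (nat_lit 0x1de77faf3) (.leaf (nat_lit 0x1de77cc6a) (nat_lit 1287))
 (.leaf (nat_lit 0x1de77faf3) (nat_lit 775))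
)))) (.node (nat_lit 0x1eac7cdef) (.node (nat_lit 0x1eac67af3) (.node (nat_lit 0x1eac67042) (.leaf (nat_lit 0x1de77fd6e) (nat_lit 774))
 (.leaf (nat_lit 0x1eac67042) (nat_lit 1539))
) (.node (nat_lit 0x1eac7c75e) (.leaf (nat_lit 0x1eac67af3) (nat_lit 1543))
 (.leaf (nat_lit 0x1eac7c75e) (nat_lit 1029))
)) (.node (nat_lit 0x1ebce7ab1) (.node (nat_lit 0x1ebce7042) (.leaf (nat_lit 0x1eac7cdef) (nat_lit 1287))
 (.leaf (nat_lit 0x1ebce7042) (nat_lit 1537))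
) (.node (nat_lit 0x1ebcff79d) (.leaf (nat_lit 0x1ebce7ab1) (nat_lit 1282))
 (.node (nat_lit 0x1ebcffd6e) (.leaf (nat_lit 0x1ebcff79d) (nat_lit 516))
 (.leaf (nat_lit 0x1ebcffd6e) (nat_lit 1031))
))))))) (.node (nat_lit 0x7173e7ab1) (.node (nat_lit 0x1f5bbf79d) (.node (nat_lit 0x1f1aa7ceb) (.node (nat_lit 0x1efde4042) (.node (nat_lit 0x1eed7f75e) (.node (nat_lit 0x1eed64bf7) (.leaf (nat_lit 0x1eed64042) (nat_lit 1282))
 (.leaf (nat_lit 0x1eed64bf7) (nat_lit 1543))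
) (.node (nat_lit 0x1eed7fceb) (.leaf (nat_lit 0x1eed7f75e) (nat_lit 1031))
 (.leaf (nat_lit 0x1eed7fceb) (nat_lit 773))
)) (.node (nat_lit 0x1efdfc79d) (.node (nat_lit 0x1efde4bb5) (.leaf (nat_lit 0x1efde4042) (nat_lit 1538))
 (.leaf (nat_lit 0x1efde4bb5) (nat_lit 1284))
) (.node (nat_lit 0x1efdfcc6a) (.leaf (nat_lit 0x1efdfc79d) (nat_lit 1031))
 (.node (nat_lit 0x1f1aa7081) (.leaf (nat_lit 0x1efdfcc6a) (nat_lit 1030))
 (.leaf (nat_lit 0x1f1aa7081) (nat_lit 1539))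
)))) (.node (nat_lit 0x1f3ae7c6a) (.node (nat_lit 0x1f1abcbf7) (.node (nat_lit 0x1f1abc79d) (.leaf (nat_lit 0x1f1aa7ceb) (nat_lit 1543))
 (.leaf (nat_lit 0x1f1abc79d) (nat_lit 1029))
) (.node (nat_lit 0x1f3ae7081) (.leaf (nat_lit 0x1f1abcbf7) (nat_lit 1287))
 (.leaf (nat_lit 0x1f3ae7081) (nat_lit 1538))
)) (.node (nat_lit 0x1f3affbb5) (.node (nat_lit 0x1f3aff75e) (.leaf (nat_lit 0x1f3ae7c6a) (nat_lit 1281))
 (.leaf (nat_lit 0x1f3aff75e) (nat_lit 516))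
) (.node (nat_lit 0x1f5ba4081) (.leaf (nat_lit 0x1f3affbb5) (nat_lit 1031))
 (.node (nat_lit 0x1f5ba4def) (.leaf (nat_lit 0x1f5ba4081) (nat_lit 1281))
 (.leaf (nat_lit 0x1f5ba4def) (nat_lit 1543))
))))) (.node (nat_lit 0x70843ce7a) (.node (nat_lit 0x1f7bfc75e) (.node (nat_lit 0x1f7be4081) (.node (nat_lit 0x1f5bbfaf3) (.leaf (nat_lit 0x1f5bbf79d) (nat_lit 1031))
 (.leaf (nat_lit 0x1f5bbfaf3) (nat_lit 773))
) (.node (nat_lit 0x1f7be4d6e) (.leaf (nat_lit 0x1f7be4081) (nat_lit 1537))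
 (.leaf (nat_lit 0x1f7be4d6e) (nat_lit 1284))
)) (.node (nat_lit 0x708424d6e) (.node (nat_lit 0x1f7bfcab1) (.leaf (nat_lit 0x1f7bfc75e) (nat_lit 1031))
 (.leaf (nat_lit 0x1f7bfcab1) (nat_lit 1030))
) (.node (nat_lit 0x708424f7e) (.leaf (nat_lit 0x708424d6e) (nat_lit 1542))
 (.node (nat_lit 0x70843cc6a) (.leaf (nat_lit 0x708424f7e) (nat_lit 1543))
 (.leaf (nat_lit 0x70843cc6a) (nat_lit 1284))
)))) (.node (nat_lit 0x70f5ffeb9) (.node (nat_lit 0x70f5e7fbd) (.node (nat_lit 0x70f5e7c6a) (.leaf (nat_lit 0x70843ce7a) (nat_lit 1543))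
 (.leaf (nat_lit 0x70f5e7c6a) (nat_lit 1031))
) (.node (nat_lit 0x70f5ffd6e) (.leaf (nat_lit 0x70f5e7fbd) (nat_lit 513))
 (.leaf (nat_lit 0x70f5ffd6e) (nat_lit 1026))
)) (.node (nat_lit 0x710224fbd) (.node (nat_lit 0x710224bb5) (.leaf (nat_lit 0x70f5ffeb9) (nat_lit 1031))
 (.leaf (nat_lit 0x710224bb5) (nat_lit 1542))
) (.node (nat_lit 0x71023cab1) (.leaf (nat_lit 0x710224fbd) (nat_lit 1543))
 (.node (nat_lit 0x71023ceb9) (.leaf (nat_lit 0x71023cab1) (nat_lit 1284))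
 (.leaf (nat_lit 0x71023ceb9) (nat_lit 1543))
)))))) (.node (nat_lit 0x735bbf3d7) (.node (nat_lit 0x72ed64fbd) (.node (nat_lit 0x72ac675cf) (.node (nat_lit 0x7173ffbb5) (.node (nat_lit 0x7173e7f7e) (.leaf (nat_lit 0x7173e7ab1) (nat_lit 1031))
 (.leaf (nat_lit 0x7173e7f7e) (nat_lit 514))
) (.node (nat_lit 0x7173ffe7a) (.leaf (nat_lit 0x7173ffbb5) (nat_lit 1025))
 (.leaf (nat_lit 0x7173ffe7a) (nat_lit 1031))
)) (.node (nat_lit 0x72ac7c408) (.node (nat_lit 0x72ac67f7e) (.leaf (nat_lit 0x72ac675cf) (nat_lit 773))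
 (.leaf (nat_lit 0x72ac67f7e) (nat_lit 1031))
) (.node (nat_lit 0x72ac7ceb9) (.leaf (nat_lit 0x72ac7c408) (nat_lit 1543))
 (.node (nat_lit 0x72ed64408) (.leaf (nat_lit 0x72ac7ceb9) (nat_lit 1281))
 (.leaf (nat_lit 0x72ed64408) (nat_lit 1537))
)))) (.node (nat_lit 0x731aa7fbd) (.node (nat_lit 0x72ed7fe7a) (.node (nat_lit 0x72ed7f5cf) (.leaf (nat_lit 0x72ed64fbd) (nat_lit 1284))
 (.leaf (nat_lit 0x72ed7f5cf) (nat_lit 1287))
) (.node (nat_lit 0x731aa73d7) (.leaf (nat_lit 0x72ed7fe7a) (nat_lit 1029))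
 (.leaf (nat_lit 0x731aa73d7) (nat_lit 773))
)) (.node (nat_lit 0x731abce7a) (.node (nat_lit 0x731abc210) (.leaf (nat_lit 0x731aa7fbd) (nat_lit 1031))
 (.leaf (nat_lit 0x731abc210) (nat_lit 1543))
) (.node (nat_lit 0x735ba4210) (.leaf (nat_lit 0x731abce7a) (nat_lit 1282))
 (.node (nat_lit 0x735ba4f7e) (.leaf (nat_lit 0x735ba4210) (nat_lit 1538))
 (.leaf (nat_lit 0x735ba4f7e) (nat_lit 1284))
))))) (.node (nat_lit 0x73ae7fd6e) (.node (nat_lit 0x739ebf5cf) (.node (nat_lit 0x739ebc210) (.node (nat_lit 0x735bbfeb9) (.leaf (nat_lit 0x735bbf3d7) (nat_lit 1287))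
 (.leaf (nat_lit 0x735bbfeb9) (nat_lit 1029))
) (.node (nat_lit 0x739ebcc6a) (.leaf (nat_lit 0x739ebc210) (nat_lit 1283))
 (.leaf (nat_lit 0x739ebcc6a) (nat_lit 1543))
)) (.node (nat_lit 0x73ae7c408) (.node (nat_lit 0x739ebfbb5) (.leaf (nat_lit 0x739ebf5cf) (nat_lit 772))
 (.leaf (nat_lit 0x739ebfbb5) (nat_lit 1287))
) (.node (nat_lit 0x73ae7cab1) (.leaf (nat_lit 0x73ae7c408) (nat_lit 1283))
 (.node (nat_lit 0x73ae7f3d7) (.leaf (nat_lit 0x73ae7cab1) (nat_lit 1543))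
 (.leaf (nat_lit 0x73ae7f3d7) (nat_lit 772))
)))) (.node (nat_lit 0x73dfa7ab1) (.node (nat_lit 0x73dfa4d6e) (.node (nat_lit 0x73dfa4210) (.leaf (nat_lit 0x73ae7fd6e) (nat_lit 1287))
 (.leaf (nat_lit 0x73dfa4210) (nat_lit 1281))
) (.node (nat_lit 0x73dfa75cf) (.leaf (nat_lit 0x73dfa4d6e) (nat_lit 1543))
 (.leaf (nat_lit 0x73dfa75cf) (nat_lit 775))
)) (.node (nat_lit 0x73ef64bb5) (.node (nat_lit 0x73ef64408) (.leaf (nat_lit 0x73dfa7ab1) (nat_lit 774))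
 (.leaf (nat_lit 0x73ef64408) (nat_lit 1282))
) (.node (nat_lit 0x73ef673d7) (.leaf (nat_lit 0x73ef64bb5) (nat_lit 1543))
 (.node (nat_lit 0x73ef67c6a) (.leaf (nat_lit 0x73ef673d7) (nat_lit 775))
 (.leaf (nat_lit 0x73ef67c6a) (nat_lit 774))
)))))))) (.node (nat_lit 0x82ac47042) (.node (nat_lit 0x7fae7c54e) (.node (nat_lit 0x7ebcff489) (.node (nat_lit 0x7d2264f7e) (.node (nat_lit 0x7ce567ceb) (.node (nat_lit 0x7c94bfceb) (.node (nat_lit 0x7c94a4fbd) (.leaf (nat_lit 0x7c94a4def) (nat_lit 1543))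
 (.leaf (nat_lit 0x7c94a4fbd) (nat_lit 1285))
) (.node (nat_lit 0x7c94bfeb9) (.leaf (nat_lit 0x7c94bfceb) (nat_lit 1543))
 (.leaf (nat_lit 0x7c94bfeb9) (nat_lit 1285))
)) (.node (nat_lit 0x7ce57cdef) (.node (nat_lit 0x7ce567f7e) (.leaf (nat_lit 0x7ce567ceb) (nat_lit 1287))
 (.leaf (nat_lit 0x7ce567f7e) (nat_lit 1025))
) (.node (nat_lit 0x7ce57ce7a) (.leaf (nat_lit 0x7ce57cdef) (nat_lit 770))
 (.node (nat_lit 0x7d2264bf7) (.leaf (nat_lit 0x7ce57ce7a) (nat_lit 1031))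
 (.leaf (nat_lit 0x7d2264bf7) (nat_lit 1543))
)))) (.node (nat_lit 0x7d53a7fbd) (.node (nat_lit 0x7d227fe7a) (.node (nat_lit 0x7d227faf3) (.leaf (nat_lit 0x7d2264f7e) (nat_lit 1285))
 (.leaf (nat_lit 0x7d227faf3) (nat_lit 1543))
) (.node (nat_lit 0x7d53a7af3) (.leaf (nat_lit 0x7d227fe7a) (nat_lit 1285))
 (.leaf (nat_lit 0x7d53a7af3) (nat_lit 1287))
)) (.node (nat_lit 0x7d53bceb9) (.node (nat_lit 0x7d53bcbf7) (.leaf (nat_lit 0x7d53a7fbd) (nat_lit 1026))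
 (.leaf (nat_lit 0x7d53bcbf7) (nat_lit 769))
) (.node (nat_lit 0x7ebce754e) (.leaf (nat_lit 0x7d53bceb9) (nat_lit 1031))
 (.node (nat_lit 0x7ebce7fbd) (.leaf (nat_lit 0x7ebce754e) (nat_lit 1028))
 (.leaf (nat_lit 0x7ebce7fbd) (nat_lit 1287))
))))) (.node (nat_lit 0x7f3affeb9) (.node (nat_lit 0x7efdfc54e) (.node (nat_lit 0x7efde4489) (.node (nat_lit 0x7ebcffe7a) (.leaf (nat_lit 0x7ebcff489) (nat_lit 1286))
 (.leaf (nat_lit 0x7ebcffe7a) (nat_lit 1287))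
) (.node (nat_lit 0x7efde4f7e) (.leaf (nat_lit 0x7efde4489) (nat_lit 1281))
 (.leaf (nat_lit 0x7efde4f7e) (nat_lit 1287))
)) (.node (nat_lit 0x7f3ae7395) (.node (nat_lit 0x7efdfceb9) (.leaf (nat_lit 0x7efdfc54e) (nat_lit 1031))
 (.leaf (nat_lit 0x7efdfceb9) (nat_lit 770))
) (.node (nat_lit 0x7f3ae7f7e) (.leaf (nat_lit 0x7f3ae7395) (nat_lit 1028))
 (.node (nat_lit 0x7f3aff252) (.leaf (nat_lit 0x7f3ae7f7e) (nat_lit 1287))
 (.leaf (nat_lit 0x7f3aff252) (nat_lit 1286))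
)))) (.node (nat_lit 0x7f7bfce7a) (.node (nat_lit 0x7f7be4fbd) (.node (nat_lit 0x7f7be4252) (.leaf (nat_lit 0x7f3affeb9) (nat_lit 1287))
 (.leaf (nat_lit 0x7f7be4252) (nat_lit 1282))
) (.node (nat_lit 0x7f7bfc395) (.leaf (nat_lit 0x7f7be4fbd) (nat_lit 1287))
 (.leaf (nat_lit 0x7f7bfc395) (nat_lit 1031))
)) (.node (nat_lit 0x7f9ebcdef) (.node (nat_lit 0x7f9ebc395) (.leaf (nat_lit 0x7f7bfce7a) (nat_lit 769))
 (.leaf (nat_lit 0x7f9ebc395) (nat_lit 772))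
) (.node (nat_lit 0x7f9ebf489) (.leaf (nat_lit 0x7f9ebcdef) (nat_lit 1031))
 (.node (nat_lit 0x7f9ebfaf3) (.leaf (nat_lit 0x7f9ebf489) (nat_lit 1543))
 (.leaf (nat_lit 0x7f9ebfaf3) (nat_lit 1025))
)))))) (.node (nat_lit 0x802047c6a) (.node (nat_lit 0x7fef64def) (.node (nat_lit 0x7fdfa4489) (.node (nat_lit 0x7fae7f252) (.node (nat_lit 0x7fae7cbf7) (.leaf (nat_lit 0x7fae7c54e) (nat_lit 772))
 (.leaf (nat_lit 0x7fae7cbf7) (nat_lit 1031))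
) (.node (nat_lit 0x7fae7fceb) (.leaf (nat_lit 0x7fae7f252) (nat_lit 1543))
 (.leaf (nat_lit 0x7fae7fceb) (nat_lit 1026))
)) (.node (nat_lit 0x7fdfa7395) (.node (nat_lit 0x7fdfa4bf7) (.leaf (nat_lit 0x7fdfa4489) (nat_lit 1543))
 (.leaf (nat_lit 0x7fdfa4bf7) (nat_lit 1028))
) (.node (nat_lit 0x7fdfa7ceb) (.leaf (nat_lit 0x7fdfa7395) (nat_lit 1287))
 (.node (nat_lit 0x7fef64252) (.leaf (nat_lit 0x7fdfa7ceb) (nat_lit 1027))
 (.leaf (nat_lit 0x7fef64252) (nat_lit 1543))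
)))) (.node (nat_lit 0x801084252) (.node (nat_lit 0x7fef67af3) (.node (nat_lit 0x7fef6754e) (.leaf (nat_lit 0x7fef64def) (nat_lit 1028))
 (.leaf (nat_lit 0x7fef6754e) (nat_lit 1287))
) (.node (nat_lit 0x801084210) (.leaf (nat_lit 0x7fef67af3) (nat_lit 1027))
 (.leaf (nat_lit 0x801084210) (nat_lit 519))
)) (.node (nat_lit 0x801087af3) (.node (nat_lit 0x801087ab1) (.leaf (nat_lit 0x801084252) (nat_lit 518))
 (.leaf (nat_lit 0x801087ab1) (nat_lit 1282))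
) (.node (nat_lit 0x802044408) (.leaf (nat_lit 0x801087af3) (nat_lit 1282))
 (.node (nat_lit 0x802044489) (.leaf (nat_lit 0x802044408) (nat_lit 263))
 (.leaf (nat_lit 0x802044489) (nat_lit 262))
))))) (.node (nat_lit 0x80949feb9) (.node (nat_lit 0x80841cc6a) (.node (nat_lit 0x808404042) (.node (nat_lit 0x802047ceb) (.leaf (nat_lit 0x802047c6a) (nat_lit 1281))
 (.leaf (nat_lit 0x802047ceb) (nat_lit 1281))
) (.node (nat_lit 0x808404252) (.leaf (nat_lit 0x808404042) (nat_lit 256))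
 (.leaf (nat_lit 0x808404252) (nat_lit 775))
)) (.node (nat_lit 0x809484042) (.node (nat_lit 0x80841ce7a) (.leaf (nat_lit 0x80841cc6a) (nat_lit 1026))
 (.leaf (nat_lit 0x80841ce7a) (nat_lit 1543))
) (.node (nat_lit 0x809484210) (.leaf (nat_lit 0x809484042) (nat_lit 775))
 (.node (nat_lit 0x80949fceb) (.leaf (nat_lit 0x809484210) (nat_lit 517))
 (.leaf (nat_lit 0x80949fceb) (nat_lit 1538))
)))) (.node (nat_lit 0x81021ceb9) (.node (nat_lit 0x810204489) (.node (nat_lit 0x810204081) (.leaf (nat_lit 0x80949feb9) (nat_lit 1282))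
 (.leaf (nat_lit 0x810204081) (nat_lit 0))
) (.node (nat_lit 0x81021cab1) (.leaf (nat_lit 0x810204489) (nat_lit 519))
 (.leaf (nat_lit 0x81021cab1) (nat_lit 1025))
)) (.node (nat_lit 0x812244408) (.node (nat_lit 0x812244081) (.leaf (nat_lit 0x81021ceb9) (nat_lit 1543))
 (.leaf (nat_lit 0x812244081) (nat_lit 519))
) (.node (nat_lit 0x81225faf3) (.leaf (nat_lit 0x812244408) (nat_lit 261))
 (.node (nat_lit 0x81225fe7a) (.leaf (nat_lit 0x81225faf3) (nat_lit 1537))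
 (.leaf (nat_lit 0x81225fe7a) (nat_lit 1281))
))))))) (.node (nat_lit 0x8cf5c4042) (.node (nat_lit 0x839e9f489) (.node (nat_lit 0x831a87ceb) (.node (nat_lit 0x82bcc7042) (.node (nat_lit 0x82ac5c408) (.node (nat_lit 0x82ac47af3) (.leaf (nat_lit 0x82ac47042) (nat_lit 1541))
 (.leaf (nat_lit 0x82ac47af3) (nat_lit 1537))
) (.node (nat_lit 0x82ac5ceb9) (.leaf (nat_lit 0x82ac5c408) (nat_lit 1287))
 (.leaf (nat_lit 0x82ac5ceb9) (nat_lit 1286))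
)) (.node (nat_lit 0x82bcdf489) (.node (nat_lit 0x82bcc7ab1) (.leaf (nat_lit 0x82bcc7042) (nat_lit 1543))
 (.leaf (nat_lit 0x82bcc7ab1) (nat_lit 1542))
) (.node (nat_lit 0x82bcdfe7a) (.leaf (nat_lit 0x82bcdf489) (nat_lit 1541))
 (.node (nat_lit 0x831a87081) (.leaf (nat_lit 0x82bcdfe7a) (nat_lit 1543))
 (.leaf (nat_lit 0x831a87081) (nat_lit 1541))
)))) (.node (nat_lit 0x833ac7c6a) (.node (nat_lit 0x831a9ce7a) (.node (nat_lit 0x831a9c210) (.leaf (nat_lit 0x831a87ceb) (nat_lit 1538))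
 (.leaf (nat_lit 0x831a9c210) (nat_lit 1287))
) (.node (nat_lit 0x833ac7081) (.leaf (nat_lit 0x831a9ce7a) (nat_lit 1286))
 (.leaf (nat_lit 0x833ac7081) (nat_lit 1543))
)) (.node (nat_lit 0x833adfeb9) (.node (nat_lit 0x833adf252) (.leaf (nat_lit 0x833ac7c6a) (nat_lit 1542))
 (.leaf (nat_lit 0x833adf252) (nat_lit 1541))
) (.node (nat_lit 0x839e9c210) (.leaf (nat_lit 0x833adfeb9) (nat_lit 1543))
 (.node (nat_lit 0x839e9cc6a) (.leaf (nat_lit 0x839e9c210) (nat_lit 1284))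
 (.leaf (nat_lit 0x839e9cc6a) (nat_lit 1543))
))))) (.node (nat_lit 0x8c1087bf7) (.node (nat_lit 0x83ae5f252) (.node (nat_lit 0x83ae5c408) (.node (nat_lit 0x839e9faf3) (.leaf (nat_lit 0x839e9f489) (nat_lit 1543))
 (.leaf (nat_lit 0x839e9faf3) (nat_lit 1283))
) (.node (nat_lit 0x83ae5cab1) (.leaf (nat_lit 0x83ae5c408) (nat_lit 1284))
 (.leaf (nat_lit 0x83ae5cab1) (nat_lit 1543))
)) (.node (nat_lit 0x8c1084395) (.node (nat_lit 0x83ae5fceb) (.leaf (nat_lit 0x83ae5f252) (nat_lit 1543))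
 (.leaf (nat_lit 0x83ae5fceb) (nat_lit 1283))
) (.node (nat_lit 0x8c10843d7) (.leaf (nat_lit 0x8c1084395) (nat_lit 1287))
 (.node (nat_lit 0x8c1087bb5) (.leaf (nat_lit 0x8c10843d7) (nat_lit 1283))
 (.leaf (nat_lit 0x8c1087bb5) (nat_lit 1543))
)))) (.node (nat_lit 0x8c2047def) (.node (nat_lit 0x8c20445cf) (.node (nat_lit 0x8c204454e) (.leaf (nat_lit 0x8c1087bf7) (nat_lit 1285))
 (.leaf (nat_lit 0x8c204454e) (nat_lit 1287))
) (.node (nat_lit 0x8c2047d6e) (.leaf (nat_lit 0x8c20445cf) (nat_lit 1283))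
 (.leaf (nat_lit 0x8c2047d6e) (nat_lit 1543))
)) (.node (nat_lit 0x8ce5443d7) (.node (nat_lit 0x8ce544042) (.leaf (nat_lit 0x8c2047def) (nat_lit 1285))
 (.leaf (nat_lit 0x8ce544042) (nat_lit 1026))
) (.node (nat_lit 0x8ce55fdef) (.leaf (nat_lit 0x8ce5443d7) (nat_lit 1543))
 (.node (nat_lit 0x8ce55fe7a) (.leaf (nat_lit 0x8ce55fdef) (nat_lit 769))
 (.leaf (nat_lit 0x8ce55fe7a) (nat_lit 775))
)))))) (.node (nat_lit 0x8efddf54e) (.node (nat_lit 0x8d73c454e) (.node (nat_lit 0x8d5384081) (.node (nat_lit 0x8cf5dcd6e) (.node (nat_lit 0x8cf5c4395) (.leaf (nat_lit 0x8cf5c4042) (nat_lit 1543))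
 (.leaf (nat_lit 0x8cf5c4395) (nat_lit 1285))
) (.node (nat_lit 0x8cf5dceb9) (.leaf (nat_lit 0x8cf5dcd6e) (nat_lit 774))
 (.leaf (nat_lit 0x8cf5dceb9) (nat_lit 775))
)) (.node (nat_lit 0x8d539fbf7) (.node (nat_lit 0x8d53845cf) (.leaf (nat_lit 0x8d5384081) (nat_lit 1025))
 (.leaf (nat_lit 0x8d53845cf) (nat_lit 1543))
) (.node (nat_lit 0x8d539feb9) (.leaf (nat_lit 0x8d539fbf7) (nat_lit 770))
 (.node (nat_lit 0x8d73c4081) (.leaf (nat_lit 0x8d539feb9) (nat_lit 775))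
 (.leaf (nat_lit 0x8d73c4081) (nat_lit 1543))
)))) (.node (nat_lit 0x8eed47bf7) (.node (nat_lit 0x8d73dce7a) (.node (nat_lit 0x8d73dcbb5) (.leaf (nat_lit 0x8d73c454e) (nat_lit 1285))
 (.leaf (nat_lit 0x8d73dcbb5) (nat_lit 774))
) (.node (nat_lit 0x8eed47042) (.leaf (nat_lit 0x8d73dce7a) (nat_lit 775))
 (.leaf (nat_lit 0x8eed47042) (nat_lit 1286))
)) (.node (nat_lit 0x8eed5ce7a) (.node (nat_lit 0x8eed5c5cf) (.leaf (nat_lit 0x8eed47bf7) (nat_lit 1287))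
 (.leaf (nat_lit 0x8eed5c5cf) (nat_lit 1031))
) (.node (nat_lit 0x8efdc7042) (.leaf (nat_lit 0x8eed5ce7a) (nat_lit 773))
 (.node (nat_lit 0x8efdc7bb5) (.leaf (nat_lit 0x8efdc7042) (nat_lit 1543))
 (.leaf (nat_lit 0x8efdc7bb5) (nat_lit 1026))
))))) (.node (nat_lit 0x8f7bdfe7a) (.node (nat_lit 0x8f5b9c3d7) (.node (nat_lit 0x8f5b87081) (.node (nat_lit 0x8efddfeb9) (.leaf (nat_lit 0x8efddf54e) (nat_lit 1031))
 (.leaf (nat_lit 0x8efddfeb9) (nat_lit 772))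
) (.node (nat_lit 0x8f5b87def) (.leaf (nat_lit 0x8f5b87081) (nat_lit 1286))
 (.leaf (nat_lit 0x8f5b87def) (nat_lit 1287))
)) (.node (nat_lit 0x8f7bc7081) (.node (nat_lit 0x8f5b9ceb9) (.leaf (nat_lit 0x8f5b9c3d7) (nat_lit 1031))
 (.leaf (nat_lit 0x8f5b9ceb9) (nat_lit 773))
) (.node (nat_lit 0x8f7bc7d6e) (.leaf (nat_lit 0x8f7bc7081) (nat_lit 1543))
 (.node (nat_lit 0x8f7bdf395) (.leaf (nat_lit 0x8f7bc7d6e) (nat_lit 1025))
 (.leaf (nat_lit 0x8f7bdf395) (nat_lit 1031))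
)))) (.node (nat_lit 0x8f9e9fdef) (.node (nat_lit 0x8f9e9cbb5) (.node (nat_lit 0x8f9e9c5cf) (.leaf (nat_lit 0x8f7bdfe7a) (nat_lit 772))
 (.leaf (nat_lit 0x8f9e9c5cf) (nat_lit 513))
) (.node (nat_lit 0x8f9e9f395) (.leaf (nat_lit 0x8f9e9cbb5) (nat_lit 1031))
 (.leaf (nat_lit 0x8f9e9f395) (nat_lit 514))
)) (.node (nat_lit 0x8fae5cd6e) (.node (nat_lit 0x8fae5c3d7) (.leaf (nat_lit 0x8f9e9fdef) (nat_lit 1031))
 (.leaf (nat_lit 0x8fae5c3d7) (nat_lit 514))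
) (.node (nat_lit 0x8fae5f54e) (.leaf (nat_lit 0x8fae5cd6e) (nat_lit 1031))
 (.node (nat_lit 0x8fae5fbf7) (.leaf (nat_lit 0x8fae5f54e) (nat_lit 513))
 (.leaf (nat_lit 0x8fae5fbf7) (nat_lit 1031))
))))))))) (.node (nat_lit 0xec94845cf) (.node (nat_lit 0x9eac60042) (.node (nat_lit 0x937be3081) (.node (nat_lit 0x910238bb5) (.node (nat_lit 0x908420252) (.node (nat_lit 0x902060408) (.node (nat_lit 0x9010a3bb5) (.node (nat_lit 0x9010a0252) (.leaf (nat_lit 0x9010a0210) (nat_lit 775))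
 (.leaf (nat_lit 0x9010a0252) (nat_lit 774))
) (.node (nat_lit 0x9010a3bf7) (.leaf (nat_lit 0x9010a3bb5) (nat_lit 1538))
 (.leaf (nat_lit 0x9010a3bf7) (nat_lit 1282))
)) (.node (nat_lit 0x902063d6e) (.node (nat_lit 0x902060489) (.leaf (nat_lit 0x902060408) (nat_lit 519))
 (.leaf (nat_lit 0x902060489) (nat_lit 518))
) (.node (nat_lit 0x902063def) (.leaf (nat_lit 0x902063d6e) (nat_lit 1537))
 (.node (nat_lit 0x908420042) (.leaf (nat_lit 0x902063def) (nat_lit 1281))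
 (.leaf (nat_lit 0x908420042) (nat_lit 515))
)))) (.node (nat_lit 0x9094a0210) (.node (nat_lit 0x908438f7e) (.node (nat_lit 0x908438d6e) (.leaf (nat_lit 0x908420252) (nat_lit 1031))
 (.leaf (nat_lit 0x908438d6e) (nat_lit 1282))
) (.node (nat_lit 0x9094a0042) (.leaf (nat_lit 0x908438f7e) (nat_lit 1538))
 (.leaf (nat_lit 0x9094a0042) (nat_lit 1031))
)) (.node (nat_lit 0x9094bbfbd) (.node (nat_lit 0x9094bbdef) (.leaf (nat_lit 0x9094a0210) (nat_lit 773))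
 (.leaf (nat_lit 0x9094bbdef) (nat_lit 1543))
) (.node (nat_lit 0x910220081) (.leaf (nat_lit 0x9094bbfbd) (nat_lit 1282))
 (.node (nat_lit 0x910220489) (.leaf (nat_lit 0x910220081) (nat_lit 259))
 (.leaf (nat_lit 0x910220489) (nat_lit 775))
))))) (.node (nat_lit 0x92ed78fbd) (.node (nat_lit 0x91227bbf7) (.node (nat_lit 0x912260081) (.node (nat_lit 0x910238fbd) (.leaf (nat_lit 0x910238bb5) (nat_lit 1281))
 (.leaf (nat_lit 0x910238fbd) (nat_lit 1537))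
) (.node (nat_lit 0x912260408) (.leaf (nat_lit 0x912260081) (nat_lit 775))
 (.leaf (nat_lit 0x912260408) (nat_lit 517))
)) (.node (nat_lit 0x92ed63042) (.node (nat_lit 0x91227bf7e) (.leaf (nat_lit 0x91227bbf7) (nat_lit 1543))
 (.leaf (nat_lit 0x91227bf7e) (nat_lit 1281))
) (.node (nat_lit 0x92ed63bf7) (.leaf (nat_lit 0x92ed63042) (nat_lit 1541))
 (.node (nat_lit 0x92ed78408) (.leaf (nat_lit 0x92ed63bf7) (nat_lit 1543))
 (.leaf (nat_lit 0x92ed78408) (nat_lit 1543))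
)))) (.node (nat_lit 0x92fdfbf7e) (.node (nat_lit 0x92fde3bb5) (.node (nat_lit 0x92fde3042) (.leaf (nat_lit 0x92ed78fbd) (nat_lit 1283))
 (.leaf (nat_lit 0x92fde3042) (nat_lit 1543))
) (.node (nat_lit 0x92fdfb489) (.leaf (nat_lit 0x92fde3bb5) (nat_lit 1283))
 (.leaf (nat_lit 0x92fdfb489) (nat_lit 1286))
)) (.node (nat_lit 0x935ba3def) (.node (nat_lit 0x935ba3081) (.leaf (nat_lit 0x92fdfbf7e) (nat_lit 1287))
 (.leaf (nat_lit 0x935ba3081) (nat_lit 1541))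
) (.node (nat_lit 0x935bb8210) (.leaf (nat_lit 0x935ba3def) (nat_lit 1543))
 (.node (nat_lit 0x935bb8f7e) (.leaf (nat_lit 0x935bb8210) (nat_lit 1543))
 (.leaf (nat_lit 0x935bb8f7e) (nat_lit 1283))
)))))) (.node (nat_lit 0x9c206354e) (.node (nat_lit 0x93ef78bb5) (.node (nat_lit 0x93dfb8210) (.node (nat_lit 0x937bfb252) (.node (nat_lit 0x937be3d6e) (.leaf (nat_lit 0x937be3081) (nat_lit 1543))
 (.leaf (nat_lit 0x937be3d6e) (nat_lit 1283))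
) (.node (nat_lit 0x937bfbfbd) (.leaf (nat_lit 0x937bfb252) (nat_lit 1286))
 (.leaf (nat_lit 0x937bfbfbd) (nat_lit 1287))
)) (.node (nat_lit 0x93dfbb489) (.node (nat_lit 0x93dfb8d6e) (.leaf (nat_lit 0x93dfb8210) (nat_lit 1540))
 (.leaf (nat_lit 0x93dfb8d6e) (nat_lit 1543))
) (.node (nat_lit 0x93dfbbbf7) (.leaf (nat_lit 0x93dfbb489) (nat_lit 1543))
 (.node (nat_lit 0x93ef78408) (.leaf (nat_lit 0x93dfbbbf7) (nat_lit 1027))
 (.leaf (nat_lit 0x93ef78408) (nat_lit 1540))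
)))) (.node (nat_lit 0x9c10a0af3) (.node (nat_lit 0x93ef7bdef) (.node (nat_lit 0x93ef7b252) (.leaf (nat_lit 0x93ef78bb5) (nat_lit 1543))
 (.leaf (nat_lit 0x93ef7b252) (nat_lit 1543))
) (.node (nat_lit 0x9c10a0ab1) (.leaf (nat_lit 0x93ef7bdef) (nat_lit 1027))
 (.leaf (nat_lit 0x9c10a0ab1) (nat_lit 1543))
)) (.node (nat_lit 0x9c10a33d7) (.node (nat_lit 0x9c10a3395) (.leaf (nat_lit 0x9c10a0af3) (nat_lit 1539))
 (.leaf (nat_lit 0x9c10a3395) (nat_lit 1543))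
) (.node (nat_lit 0x9c2060c6a) (.leaf (nat_lit 0x9c10a33d7) (nat_lit 1284))
 (.node (nat_lit 0x9c2060ceb) (.leaf (nat_lit 0x9c2060c6a) (nat_lit 1543))
 (.leaf (nat_lit 0x9c2060ceb) (nat_lit 1539))
))))) (.node (nat_lit 0x9cf5fbfbd) (.node (nat_lit 0x9ce578ceb) (.node (nat_lit 0x9ce563042) (.node (nat_lit 0x9c20635cf) (.leaf (nat_lit 0x9c206354e) (nat_lit 1543))
 (.leaf (nat_lit 0x9c20635cf) (nat_lit 1284))
) (.node (nat_lit 0x9ce5633d7) (.leaf (nat_lit 0x9ce563042) (nat_lit 1283))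
 (.leaf (nat_lit 0x9ce5633d7) (nat_lit 1543))
)) (.node (nat_lit 0x9cf5e3042) (.node (nat_lit 0x9ce578f7e) (.leaf (nat_lit 0x9ce578ceb) (nat_lit 1287))
 (.leaf (nat_lit 0x9ce578f7e) (nat_lit 1029))
) (.node (nat_lit 0x9cf5e3395) (.leaf (nat_lit 0x9cf5e3042) (nat_lit 1543))
 (.node (nat_lit 0x9cf5fbc6a) (.leaf (nat_lit 0x9cf5e3395) (nat_lit 1282))
 (.leaf (nat_lit 0x9cf5fbc6a) (nat_lit 1031))
)))) (.node (nat_lit 0x9d53b8fbd) (.node (nat_lit 0x9d53a35cf) (.node (nat_lit 0x9d53a3081) (.leaf (nat_lit 0x9cf5fbfbd) (nat_lit 769))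
 (.leaf (nat_lit 0x9d53a3081) (nat_lit 1283))
) (.node (nat_lit 0x9d53b8af3) (.leaf (nat_lit 0x9d53a35cf) (nat_lit 1543))
 (.leaf (nat_lit 0x9d53b8af3) (nat_lit 1287))
)) (.node (nat_lit 0x9d73e354e) (.node (nat_lit 0x9d73e3081) (.leaf (nat_lit 0x9d53b8fbd) (nat_lit 1029))
 (.leaf (nat_lit 0x9d73e3081) (nat_lit 1543))
) (.node (nat_lit 0x9d73fbab1) (.leaf (nat_lit 0x9d73e354e) (nat_lit 1281))
 (.node (nat_lit 0x9d73fbf7e) (.leaf (nat_lit 0x9d73fbab1) (nat_lit 1031))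
 (.leaf (nat_lit 0x9d73fbf7e) (nat_lit 770))
))))))) (.node (nat_lit 0xe15384210) (.node (nat_lit 0x9fdfbb5cf) (.node (nat_lit 0x9f1aa0ceb) (.node (nat_lit 0x9ebce0042) (.node (nat_lit 0x9eac7b5cf) (.node (nat_lit 0x9eac60af3) (.leaf (nat_lit 0x9eac60042) (nat_lit 1282))
 (.leaf (nat_lit 0x9eac60af3) (nat_lit 1541))
) (.node (nat_lit 0x9eac7bf7e) (.leaf (nat_lit 0x9eac7b5cf) (nat_lit 771))
 (.leaf (nat_lit 0x9eac7bf7e) (nat_lit 1031))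
)) (.node (nat_lit 0x9ebcf854e) (.node (nat_lit 0x9ebce0ab1) (.leaf (nat_lit 0x9ebce0042) (nat_lit 1282))
 (.leaf (nat_lit 0x9ebce0ab1) (nat_lit 1541))
) (.node (nat_lit 0x9ebcf8fbd) (.leaf (nat_lit 0x9ebcf854e) (nat_lit 1030))
 (.node (nat_lit 0x9f1aa0081) (.leaf (nat_lit 0x9ebcf8fbd) (nat_lit 1031))
 (.leaf (nat_lit 0x9f1aa0081) (nat_lit 1281))
)))) (.node (nat_lit 0x9f3ae0c6a) (.node (nat_lit 0x9f1abbfbd) (.node (nat_lit 0x9f1abb3d7) (.leaf (nat_lit 0x9f1aa0ceb) (nat_lit 1541))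
 (.leaf (nat_lit 0x9f1abb3d7) (nat_lit 771))
) (.node (nat_lit 0x9f3ae0081) (.leaf (nat_lit 0x9f1abbfbd) (nat_lit 1031))
 (.leaf (nat_lit 0x9f3ae0081) (nat_lit 1281))
)) (.node (nat_lit 0x9f3af8f7e) (.node (nat_lit 0x9f3af8395) (.leaf (nat_lit 0x9f3ae0c6a) (nat_lit 1541))
 (.leaf (nat_lit 0x9f3af8395) (nat_lit 1030))
) (.node (nat_lit 0x9fdfb8395) (.leaf (nat_lit 0x9f3af8f7e) (nat_lit 1031))
 (.node (nat_lit 0x9fdfb8ceb) (.leaf (nat_lit 0x9fdfb8395) (nat_lit 1287))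
 (.leaf (nat_lit 0x9fdfb8ceb) (nat_lit 769))
))))) (.node (nat_lit 0xe0841cf7e) (.node (nat_lit 0x9fef7b3d7) (.node (nat_lit 0x9fef7854e) (.node (nat_lit 0x9fdfbbab1) (.leaf (nat_lit 0x9fdfbb5cf) (nat_lit 1031))
 (.leaf (nat_lit 0x9fdfbbab1) (nat_lit 770))
) (.node (nat_lit 0x9fef78af3) (.leaf (nat_lit 0x9fef7854e) (nat_lit 1287))
 (.leaf (nat_lit 0x9fef78af3) (nat_lit 770))
)) (.node (nat_lit 0xe0840454e) (.node (nat_lit 0x9fef7bc6a) (.leaf (nat_lit 0x9fef7b3d7) (nat_lit 1031))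
 (.leaf (nat_lit 0x9fef7bc6a) (nat_lit 769))
) (.node (nat_lit 0xe0840475e) (.leaf (nat_lit 0xe0840454e) (nat_lit 1542))
 (.node (nat_lit 0xe0841cd6e) (.leaf (nat_lit 0xe0840475e) (nat_lit 1543))
 (.leaf (nat_lit 0xe0841cd6e) (nat_lit 1285))
)))) (.node (nat_lit 0xe0e55ff7e) (.node (nat_lit 0xe0e54479d) (.node (nat_lit 0xe0e544408) (.leaf (nat_lit 0xe0841cf7e) (nat_lit 1543))
 (.leaf (nat_lit 0xe0e544408) (nat_lit 1281))
) (.node (nat_lit 0xe0e55fceb) (.leaf (nat_lit 0xe0e54479d) (nat_lit 1540))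
 (.leaf (nat_lit 0xe0e55fceb) (nat_lit 1031))
)) (.node (nat_lit 0xe1020479d) (.node (nat_lit 0xe10204395) (.leaf (nat_lit 0xe0e55ff7e) (nat_lit 1030))
 (.leaf (nat_lit 0xe10204395) (nat_lit 1542))
) (.node (nat_lit 0xe1021cbb5) (.leaf (nat_lit 0xe1020479d) (nat_lit 1543))
 (.node (nat_lit 0xe1021cfbd) (.leaf (nat_lit 0xe1021cbb5) (nat_lit 1285))
 (.leaf (nat_lit 0xe1021cfbd) (nat_lit 1543))
)))))) (.node (nat_lit 0xe2ed5c408) (.node (nat_lit 0xe1e744408) (.node (nat_lit 0xe1d784210) (.node (nat_lit 0xe1539faf3) (.node (nat_lit 0xe1538475e) (.leaf (nat_lit 0xe15384210) (nat_lit 1282))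
 (.leaf (nat_lit 0xe1538475e) (nat_lit 1540))
) (.node (nat_lit 0xe1539ffbd) (.leaf (nat_lit 0xe1539faf3) (nat_lit 1031))
 (.leaf (nat_lit 0xe1539ffbd) (nat_lit 1030))
)) (.node (nat_lit 0xe1d787bb5) (.node (nat_lit 0xe1d78454e) (.leaf (nat_lit 0xe1d784210) (nat_lit 1282))
 (.leaf (nat_lit 0xe1d78454e) (nat_lit 1538))
) (.node (nat_lit 0xe1d787ceb) (.leaf (nat_lit 0xe1d787bb5) (nat_lit 518))
 (.node (nat_lit 0xe1e744395) (.leaf (nat_lit 0xe1d787ceb) (nat_lit 519))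
 (.leaf (nat_lit 0xe1e744395) (nat_lit 1537))
)))) (.node (nat_lit 0xe2bcc7d6e) (.node (nat_lit 0xe1e747d6e) (.node (nat_lit 0xe1e747af3) (.leaf (nat_lit 0xe1e744408) (nat_lit 1281))
 (.leaf (nat_lit 0xe1e747af3) (nat_lit 519))
) (.node (nat_lit 0xe2bcc779d) (.leaf (nat_lit 0xe1e747d6e) (nat_lit 518))
 (.leaf (nat_lit 0xe2bcc779d) (nat_lit 257))
)) (.node (nat_lit 0xe2bcdffbd) (.node (nat_lit 0xe2bcdf54e) (.leaf (nat_lit 0xe2bcc7d6e) (nat_lit 775))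
 (.leaf (nat_lit 0xe2bcdf54e) (nat_lit 770))
) (.node (nat_lit 0xe2ed4775e) (.leaf (nat_lit 0xe2bcdffbd) (nat_lit 1287))
 (.node (nat_lit 0xe2ed47ceb) (.leaf (nat_lit 0xe2ed4775e) (nat_lit 775))
 (.leaf (nat_lit 0xe2ed47ceb) (nat_lit 517))
))))) (.node (nat_lit 0xe35b9cf7e) (.node (nat_lit 0xe33adf395) (.node (nat_lit 0xe33ac775e) (.node (nat_lit 0xe2ed5cfbd) (.leaf (nat_lit 0xe2ed5c408) (nat_lit 1543))
 (.leaf (nat_lit 0xe2ed5cfbd) (nat_lit 1025))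
) (.node (nat_lit 0xe33ac7bb5) (.leaf (nat_lit 0xe33ac775e) (nat_lit 258))
 (.leaf (nat_lit 0xe33ac7bb5) (nat_lit 775))
)) (.node (nat_lit 0xe35b8779d) (.node (nat_lit 0xe33adff7e) (.leaf (nat_lit 0xe33adf395) (nat_lit 769))
 (.leaf (nat_lit 0xe33adff7e) (nat_lit 1287))
) (.node (nat_lit 0xe35b87af3) (.leaf (nat_lit 0xe35b8779d) (nat_lit 775))
 (.node (nat_lit 0xe35b9c210) (.leaf (nat_lit 0xe35b87af3) (nat_lit 517))
 (.leaf (nat_lit 0xe35b9c210) (nat_lit 1543))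
)))) (.node (nat_lit 0xe3df9fceb) (.node (nat_lit 0xe3df9cd6e) (.node (nat_lit 0xe3df9c210) (.leaf (nat_lit 0xe35b9cf7e) (nat_lit 1026))
 (.leaf (nat_lit 0xe3df9c210) (nat_lit 1286))
) (.node (nat_lit 0xe3df9f395) (.leaf (nat_lit 0xe3df9cd6e) (nat_lit 1287))
 (.leaf (nat_lit 0xe3df9f395) (nat_lit 1287))
)) (.node (nat_lit 0xe3ef5cbb5) (.node (nat_lit 0xe3ef5c408) (.leaf (nat_lit 0xe3df9fceb) (nat_lit 1028))
 (.leaf (nat_lit 0xe3ef5c408) (nat_lit 1286))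
) (.node (nat_lit 0xe3ef5f54e) (.leaf (nat_lit 0xe3ef5cbb5) (nat_lit 1287))
 (.node (nat_lit 0xe3ef5faf3) (.leaf (nat_lit 0xe3ef5f54e) (nat_lit 1287))
 (.leaf (nat_lit 0xe3ef5faf3) (nat_lit 1028))
)))))))) (.node (nat_lit 0xf2ac60408) (.node (nat_lit 0xef7bc775e) (.node (nat_lit 0xedd787ab1) (.node (nat_lit 0xed224475e) (.node (nat_lit 0xecf5c4489) (.node (nat_lit 0xec949fdef) (.node (nat_lit 0xec948479d) (.leaf (nat_lit 0xec94845cf) (nat_lit 1543))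
 (.leaf (nat_lit 0xec948479d) (nat_lit 1542))
) (.node (nat_lit 0xec949ffbd) (.leaf (nat_lit 0xec949fdef) (nat_lit 1287))
 (.leaf (nat_lit 0xec949ffbd) (nat_lit 1029))
)) (.node (nat_lit 0xecf5dcc6a) (.node (nat_lit 0xecf5c475e) (.leaf (nat_lit 0xecf5c4489) (nat_lit 1282))
 (.leaf (nat_lit 0xecf5c475e) (nat_lit 1543))
) (.node (nat_lit 0xecf5dcfbd) (.leaf (nat_lit 0xecf5dcc6a) (nat_lit 775))
 (.node (nat_lit 0xed22443d7) (.leaf (nat_lit 0xecf5dcfbd) (nat_lit 771))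
 (.leaf (nat_lit 0xed22443d7) (nat_lit 1543))
)))) (.node (nat_lit 0xed73c479d) (.node (nat_lit 0xed225ff7e) (.node (nat_lit 0xed225fbf7) (.leaf (nat_lit 0xed224475e) (nat_lit 1542))
 (.leaf (nat_lit 0xed225fbf7) (nat_lit 1287))
) (.node (nat_lit 0xed73c4252) (.leaf (nat_lit 0xed225ff7e) (nat_lit 1029))
 (.leaf (nat_lit 0xed73c4252) (nat_lit 1281))
)) (.node (nat_lit 0xed73dcf7e) (.node (nat_lit 0xed73dcab1) (.leaf (nat_lit 0xed73c479d) (nat_lit 1543))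
 (.leaf (nat_lit 0xed73dcab1) (nat_lit 775))
) (.node (nat_lit 0xedd7843d7) (.leaf (nat_lit 0xed73dcf7e) (nat_lit 771))
 (.node (nat_lit 0xedd784489) (.leaf (nat_lit 0xedd7843d7) (nat_lit 1284))
 (.leaf (nat_lit 0xedd784489) (nat_lit 1537))
))))) (.node (nat_lit 0xeeac5cf7e) (.node (nat_lit 0xede747bf7) (.node (nat_lit 0xede744252) (.node (nat_lit 0xedd787def) (.leaf (nat_lit 0xedd787ab1) (nat_lit 1031))
 (.leaf (nat_lit 0xedd787def) (nat_lit 1027))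
) (.node (nat_lit 0xede7445cf) (.leaf (nat_lit 0xede744252) (nat_lit 1538))
 (.leaf (nat_lit 0xede7445cf) (nat_lit 1284))
)) (.node (nat_lit 0xeeac4775e) (.node (nat_lit 0xede747c6a) (.leaf (nat_lit 0xede747bf7) (nat_lit 1027))
 (.leaf (nat_lit 0xede747c6a) (nat_lit 1031))
) (.node (nat_lit 0xeeac47def) (.leaf (nat_lit 0xeeac4775e) (nat_lit 769))
 (.node (nat_lit 0xeeac5c5cf) (.leaf (nat_lit 0xeeac47def) (nat_lit 1287))
 (.leaf (nat_lit 0xeeac5c5cf) (nat_lit 514))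
)))) (.node (nat_lit 0xeefddff7e) (.node (nat_lit 0xeefdc7c6a) (.node (nat_lit 0xeefdc779d) (.leaf (nat_lit 0xeeac5cf7e) (nat_lit 1031))
 (.leaf (nat_lit 0xeefdc779d) (nat_lit 1287))
) (.node (nat_lit 0xeefddf489) (.leaf (nat_lit 0xeefdc7c6a) (nat_lit 1029))
 (.leaf (nat_lit 0xeefddf489) (nat_lit 1030))
)) (.node (nat_lit 0xef1a87bf7) (.node (nat_lit 0xef1a8779d) (.leaf (nat_lit 0xeefddff7e) (nat_lit 1031))
 (.leaf (nat_lit 0xef1a8779d) (nat_lit 770))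
) (.node (nat_lit 0xef1a9c3d7) (.leaf (nat_lit 0xef1a87bf7) (nat_lit 1287))
 (.node (nat_lit 0xef1a9cfbd) (.leaf (nat_lit 0xef1a9c3d7) (nat_lit 513))
 (.leaf (nat_lit 0xef1a9cfbd) (nat_lit 1031))
)))))) (.node (nat_lit 0xf0e578408) (.node (nat_lit 0xefef5cc6a) (.node (nat_lit 0xefdf9c5cf) (.node (nat_lit 0xef7bdf252) (.node (nat_lit 0xef7bc7ab1) (.leaf (nat_lit 0xef7bc775e) (nat_lit 1287))
 (.leaf (nat_lit 0xef7bc7ab1) (nat_lit 1029))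
) (.node (nat_lit 0xef7bdffbd) (.leaf (nat_lit 0xef7bdf252) (nat_lit 1030))
 (.leaf (nat_lit 0xef7bdffbd) (nat_lit 1031))
)) (.node (nat_lit 0xefdf9f489) (.node (nat_lit 0xefdf9cab1) (.leaf (nat_lit 0xefdf9c5cf) (nat_lit 1031))
 (.leaf (nat_lit 0xefdf9cab1) (nat_lit 770))
) (.node (nat_lit 0xefdf9fbf7) (.leaf (nat_lit 0xefdf9f489) (nat_lit 1287))
 (.node (nat_lit 0xefef5c3d7) (.leaf (nat_lit 0xefdf9fbf7) (nat_lit 769))
 (.leaf (nat_lit 0xefef5c3d7) (nat_lit 1031))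
)))) (.node (nat_lit 0xf08420e7a) (.node (nat_lit 0xefef5fdef) (.node (nat_lit 0xefef5f252) (.leaf (nat_lit 0xefef5cc6a) (nat_lit 769))
 (.leaf (nat_lit 0xefef5f252) (nat_lit 1287))
) (.node (nat_lit 0xf08420c6a) (.leaf (nat_lit 0xefef5fdef) (nat_lit 770))
 (.leaf (nat_lit 0xf08420c6a) (nat_lit 1286))
)) (.node (nat_lit 0xf0843875e) (.node (nat_lit 0xf0843854e) (.leaf (nat_lit 0xf08420e7a) (nat_lit 1287))
 (.leaf (nat_lit 0xf0843854e) (nat_lit 1541))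
) (.node (nat_lit 0xf0e563def) (.leaf (nat_lit 0xf0843875e) (nat_lit 1538))
 (.node (nat_lit 0xf0e563e7a) (.leaf (nat_lit 0xf0e563def) (nat_lit 773))
 (.leaf (nat_lit 0xf0e563e7a) (nat_lit 1031))
))))) (.node (nat_lit 0xf153b875e) (.node (nat_lit 0xf10238395) (.node (nat_lit 0xf10220ab1) (.node (nat_lit 0xf0e57879d) (.leaf (nat_lit 0xf0e578408) (nat_lit 1539))
 (.leaf (nat_lit 0xf0e57879d) (nat_lit 1281))
) (.node (nat_lit 0xf10220eb9) (.leaf (nat_lit 0xf10220ab1) (nat_lit 1286))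
 (.leaf (nat_lit 0xf10220eb9) (nat_lit 1287))
)) (.node (nat_lit 0xf153a3bf7) (.node (nat_lit 0xf1023879d) (.leaf (nat_lit 0xf10238395) (nat_lit 1541))
 (.leaf (nat_lit 0xf1023879d) (nat_lit 1537))
) (.node (nat_lit 0xf153a3eb9) (.leaf (nat_lit 0xf153a3bf7) (nat_lit 773))
 (.node (nat_lit 0xf153b8210) (.leaf (nat_lit 0xf153a3eb9) (nat_lit 1031))
 (.leaf (nat_lit 0xf153b8210) (nat_lit 1539))
)))) (.node (nat_lit 0xf1d7bbdef) (.node (nat_lit 0xf1d7b854e) (.node (nat_lit 0xf1d7b8210) (.leaf (nat_lit 0xf153b875e) (nat_lit 1282))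
 (.leaf (nat_lit 0xf1d7b8210) (nat_lit 1542))
) (.node (nat_lit 0xf1d7bbab1) (.leaf (nat_lit 0xf1d7b854e) (nat_lit 1543))
 (.leaf (nat_lit 0xf1d7bbab1) (nat_lit 1287))
)) (.node (nat_lit 0xf1e778408) (.node (nat_lit 0xf1e778395) (.leaf (nat_lit 0xf1d7bbdef) (nat_lit 1028))
 (.leaf (nat_lit 0xf1e778395) (nat_lit 1543))
) (.node (nat_lit 0xf1e77bbf7) (.leaf (nat_lit 0xf1e778408) (nat_lit 1542))
 (.node (nat_lit 0xf1e77bc6a) (.leaf (nat_lit 0xf1e77bbf7) (nat_lit 1028))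
 (.leaf (nat_lit 0xf1e77bc6a) (nat_lit 1287))
))))))) (.node (nat_lit 0xfd73e3bb5) (.node (nat_lit 0xf39ea3395) (.node (nat_lit 0xf31aa0e7a) (.node (nat_lit 0xf2fde354e) (.node (nat_lit 0xf2ac7b75e) (.node (nat_lit 0xf2ac60eb9) (.leaf (nat_lit 0xf2ac60408) (nat_lit 1543))
 (.leaf (nat_lit 0xf2ac60eb9) (nat_lit 1285))
) (.node (nat_lit 0xf2ac7bdef) (.leaf (nat_lit 0xf2ac7b75e) (nat_lit 1027))
 (.leaf (nat_lit 0xf2ac7bdef) (nat_lit 1287))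
)) (.node (nat_lit 0xf2fdfb79d) (.node (nat_lit 0xf2fde3eb9) (.leaf (nat_lit 0xf2fde354e) (nat_lit 1031))
 (.leaf (nat_lit 0xf2fde3eb9) (nat_lit 513))
) (.node (nat_lit 0xf2fdfbc6a) (.leaf (nat_lit 0xf2fdfb79d) (nat_lit 1287))
 (.node (nat_lit 0xf31aa0210) (.leaf (nat_lit 0xf2fdfbc6a) (nat_lit 1026))
 (.leaf (nat_lit 0xf31aa0210) (nat_lit 1543))
)))) (.node (nat_lit 0xf37be3e7a) (.node (nat_lit 0xf31abbbf7) (.node (nat_lit 0xf31abb79d) (.leaf (nat_lit 0xf31aa0e7a) (nat_lit 1285))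
 (.leaf (nat_lit 0xf31abb79d) (nat_lit 1027))
) (.node (nat_lit 0xf37be3395) (.leaf (nat_lit 0xf31abbbf7) (nat_lit 1287))
 (.leaf (nat_lit 0xf37be3395) (nat_lit 1031))
)) (.node (nat_lit 0xf37bfbab1) (.node (nat_lit 0xf37bfb75e) (.leaf (nat_lit 0xf37be3e7a) (nat_lit 514))
 (.leaf (nat_lit 0xf37bfb75e) (nat_lit 1287))
) (.node (nat_lit 0xf39ea0210) (.leaf (nat_lit 0xf37bfbab1) (nat_lit 1025))
 (.node (nat_lit 0xf39ea0c6a) (.leaf (nat_lit 0xf39ea0210) (nat_lit 1026))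
 (.leaf (nat_lit 0xf39ea0c6a) (nat_lit 1543))
))))) (.node (nat_lit 0xfc94bb79d) (.node (nat_lit 0xf3ae6354e) (.node (nat_lit 0xf3ae60408) (.node (nat_lit 0xf39ea3def) (.leaf (nat_lit 0xf39ea3395) (nat_lit 774))
 (.leaf (nat_lit 0xf39ea3def) (nat_lit 775))
) (.node (nat_lit 0xf3ae60ab1) (.leaf (nat_lit 0xf3ae60408) (nat_lit 1025))
 (.leaf (nat_lit 0xf3ae60ab1) (nat_lit 1543))
)) (.node (nat_lit 0xfc94a0ceb) (.node (nat_lit 0xf3ae63bf7) (.leaf (nat_lit 0xf3ae6354e) (nat_lit 774))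
 (.leaf (nat_lit 0xf3ae63bf7) (nat_lit 775))
) (.node (nat_lit 0xfc94a0eb9) (.leaf (nat_lit 0xfc94a0ceb) (nat_lit 1543))
 (.node (nat_lit 0xfc94bb5cf) (.leaf (nat_lit 0xfc94a0eb9) (nat_lit 1539))
 (.leaf (nat_lit 0xfc94bb5cf) (nat_lit 1543))
)))) (.node (nat_lit 0xfcf5fb75e) (.node (nat_lit 0xfcf5e3eb9) (.node (nat_lit 0xfcf5e3d6e) (.leaf (nat_lit 0xfc94bb79d) (nat_lit 1285))
 (.leaf (nat_lit 0xfcf5e3d6e) (nat_lit 1030))
) (.node (nat_lit 0xfcf5fb489) (.leaf (nat_lit 0xfcf5e3eb9) (nat_lit 1031))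
 (.leaf (nat_lit 0xfcf5fb489) (nat_lit 1286))
)) (.node (nat_lit 0xfd2260e7a) (.node (nat_lit 0xfd2260af3) (.leaf (nat_lit 0xfcf5fb75e) (nat_lit 1287))
 (.leaf (nat_lit 0xfd2260af3) (nat_lit 1543))
) (.node (nat_lit 0xfd227b3d7) (.leaf (nat_lit 0xfd2260e7a) (nat_lit 1539))
 (.node (nat_lit 0xfd227b75e) (.leaf (nat_lit 0xfd227b3d7) (nat_lit 1543))
 (.leaf (nat_lit 0xfd227b75e) (nat_lit 1285))
)))))) (.node (nat_lit 0xfeed7875e) (.node (nat_lit 0xfde778d6e) (.node (nat_lit 0xfdd7b8bb5) (.node (nat_lit 0xfd73fb252) (.node (nat_lit 0xfd73e3e7a) (.leaf (nat_lit 0xfd73e3bb5) (nat_lit 1030))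
 (.leaf (nat_lit 0xfd73e3e7a) (nat_lit 1031))
) (.node (nat_lit 0xfd73fb79d) (.leaf (nat_lit 0xfd73fb252) (nat_lit 1286))
 (.leaf (nat_lit 0xfd73fb79d) (nat_lit 1287))
)) (.node (nat_lit 0xfdd7bb3d7) (.node (nat_lit 0xfdd7b8ceb) (.leaf (nat_lit 0xfdd7b8bb5) (nat_lit 774))
 (.leaf (nat_lit 0xfdd7b8ceb) (nat_lit 775))
) (.node (nat_lit 0xfdd7bb489) (.leaf (nat_lit 0xfdd7bb3d7) (nat_lit 1025))
 (.node (nat_lit 0xfde778af3) (.leaf (nat_lit 0xfdd7bb489) (nat_lit 1543))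
 (.leaf (nat_lit 0xfde778af3) (nat_lit 775))
)))) (.node (nat_lit 0xfebce0e7a) (.node (nat_lit 0xfde77b5cf) (.node (nat_lit 0xfde77b252) (.leaf (nat_lit 0xfde778d6e) (nat_lit 774))
 (.leaf (nat_lit 0xfde77b252) (nat_lit 1543))
) (.node (nat_lit 0xfebce0489) (.leaf (nat_lit 0xfde77b5cf) (nat_lit 1026))
 (.leaf (nat_lit 0xfebce0489) (nat_lit 1281))
)) (.node (nat_lit 0xfebcf8d6e) (.node (nat_lit 0xfebcf879d) (.leaf (nat_lit 0xfebce0e7a) (nat_lit 1543))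
 (.leaf (nat_lit 0xfebcf879d) (nat_lit 515))
) (.node (nat_lit 0xfeed635cf) (.leaf (nat_lit 0xfebcf8d6e) (nat_lit 1031))
 (.node (nat_lit 0xfeed63e7a) (.leaf (nat_lit 0xfeed635cf) (nat_lit 1287))
 (.leaf (nat_lit 0xfeed63e7a) (nat_lit 1025))
))))) (.node (nat_lit 0xff5bb8af3) (.node (nat_lit 0xff3af875e) (.node (nat_lit 0xff3ae0252) (.node (nat_lit 0xfeed78ceb) (.leaf (nat_lit 0xfeed7875e) (nat_lit 1031))
 (.leaf (nat_lit 0xfeed78ceb) (nat_lit 773))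
) (.node (nat_lit 0xff3ae0eb9) (.leaf (nat_lit 0xff3ae0252) (nat_lit 1282))
 (.leaf (nat_lit 0xff3ae0eb9) (nat_lit 1543))
)) (.node (nat_lit 0xff5ba33d7) (.node (nat_lit 0xff3af8bb5) (.leaf (nat_lit 0xff3af875e) (nat_lit 515))
 (.leaf (nat_lit 0xff3af8bb5) (nat_lit 1031))
) (.node (nat_lit 0xff5ba3eb9) (.leaf (nat_lit 0xff5ba33d7) (nat_lit 1287))
 (.node (nat_lit 0xff5bb879d) (.leaf (nat_lit 0xff5ba3eb9) (nat_lit 1026))
 (.leaf (nat_lit 0xff5bb879d) (nat_lit 1031))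
)))) (.node (nat_lit 0xff9ea3bb5) (.node (nat_lit 0xff9ea0af3) (.node (nat_lit 0xff9ea0489) (.leaf (nat_lit 0xff5bb8af3) (nat_lit 773))
 (.leaf (nat_lit 0xff9ea0489) (nat_lit 1537))
) (.node (nat_lit 0xff9ea35cf) (.leaf (nat_lit 0xff9ea0af3) (nat_lit 1284))
 (.leaf (nat_lit 0xff9ea35cf) (nat_lit 771))
)) (.node (nat_lit 0xffae60ceb) (.node (nat_lit 0xffae60252) (.leaf (nat_lit 0xff9ea3bb5) (nat_lit 1287))
 (.leaf (nat_lit 0xffae60252) (nat_lit 1538))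
) (.node (nat_lit 0xffae633d7) (.leaf (nat_lit 0xffae60ceb) (nat_lit 1284))
 (.node (nat_lit 0xffae63d6e) (.leaf (nat_lit 0xffae633d7) (nat_lit 771))
 (.leaf (nat_lit 0xffae63d6e) (nat_lit 1287))
))))))))))

theorem gL6_ok : genOK B6.A [(nat_lit 0x808404042), (nat_lit 0xe2bcc779d), (nat_lit 0xe33ac775e), (nat_lit 0x910220081), (nat_lit 0x110224081), (nat_lit 0x812244408), (nat_lit 0x802044489), (nat_lit 0x802044408)] gL6_t (nat_lit 576) = true := by decide +kernel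

def w43 : List (List ℕ) :=
  [[0],
   [4, 1, 4, 1],
   [3, 1, 4, 1, 3, 4, 1],
   [4],
   [3, 1, 4, 1, 3, 4, 0],
   [4, 3, 1, 4, 3, 1, 0],
   [2],
   [2, 2],
   [3],
   [3, 3]]

noncomputable def c43 : List ℕ := [(nat_lit 0x808404042), (nat_lit 0xeefddff7e), (nat_lit 0x82bcdfe7a), (nat_lit 0x802044408), (nat_lit 0xe0841cf7e), (nat_lit 0x80841ce7a), (nat_lit 0x910220081), (nat_lit 0x110224081), (nat_lit 0x812244408), (nat_lit 0x802044489)]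

theorem w43_ok : beqL (w43.map (evC B6.A cL)) c43 = true := by decide +kernel

theorem rel43_ok : allL S43.relH (fun w => Nat.beq (evC B6.A c43 w) B6.A.one) = true := by decide +kernel

noncomputable def g43_t : ST :=
(.node (nat_lit 0x9010a0210) (.node (nat_lit 0x7c94a4def) (.node (nat_lit 0x1eed64042) (.node (nat_lit 0x1173e7081) (.node (nat_lit 0x10e57c408) (.node (nat_lit 0x108424252) (.node (nat_lit 0x102064408) (.node (nat_lit 0x1010a7395) (.node (nat_lit 0x1010a4252) (.leaf (nat_lit 0x1010a4210) (nat_lit 775))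
 (.leaf (nat_lit 0x1010a4252) (nat_lit 777))
) (.node (nat_lit 0x1010a73d7) (.leaf (nat_lit 0x1010a7395) (nat_lit 773))
 (.leaf (nat_lit 0x1010a73d7) (nat_lit 773))
)) (.node (nat_lit 0x10206754e) (.node (nat_lit 0x102064489) (.leaf (nat_lit 0x102064408) (nat_lit 519))
 (.leaf (nat_lit 0x102064489) (nat_lit 521))
) (.node (nat_lit 0x1020675cf) (.leaf (nat_lit 0x10206754e) (nat_lit 1029))
 (.node (nat_lit 0x108424042) (.leaf (nat_lit 0x1020675cf) (nat_lit 1029))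
 (.leaf (nat_lit 0x108424042) (nat_lit 519))
)))) (.node (nat_lit 0x1094a4210) (.node (nat_lit 0x10843c75e) (.node (nat_lit 0x10843c54e) (.leaf (nat_lit 0x108424252) (nat_lit 1033))
 (.leaf (nat_lit 0x10843c54e) (nat_lit 1029))
) (.node (nat_lit 0x1094a4042) (.leaf (nat_lit 0x10843c75e) (nat_lit 517))
 (.leaf (nat_lit 0x1094a4042) (nat_lit 1032))
)) (.node (nat_lit 0x1094bf79d) (.node (nat_lit 0x1094bf5cf) (.leaf (nat_lit 0x1094a4210) (nat_lit 776))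
 (.leaf (nat_lit 0x1094bf5cf) (nat_lit 773))
) (.node (nat_lit 0x10e567042) (.leaf (nat_lit 0x1094bf79d) (nat_lit 1029))
 (.node (nat_lit 0x10e5673d7) (.leaf (nat_lit 0x10e567042) (nat_lit 1032))
 (.leaf (nat_lit 0x10e5673d7) (nat_lit 1026))
))))) (.node (nat_lit 0x11023c79d) (.node (nat_lit 0x10f5ff489) (.node (nat_lit 0x10f5e7042) (.node (nat_lit 0x10e57c79d) (.leaf (nat_lit 0x10e57c408) (nat_lit 1032))
 (.leaf (nat_lit 0x10e57c79d) (nat_lit 1026))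
) (.node (nat_lit 0x10f5e7395) (.leaf (nat_lit 0x10f5e7042) (nat_lit 1029))
 (.leaf (nat_lit 0x10f5e7395) (nat_lit 1033))
)) (.node (nat_lit 0x110224081) (.node (nat_lit 0x10f5ff75e) (.leaf (nat_lit 0x10f5ff489) (nat_lit 1033))
 (.leaf (nat_lit 0x10f5ff75e) (nat_lit 514))
) (.node (nat_lit 0x110224489) (.leaf (nat_lit 0x110224081) (nat_lit 263))
 (.node (nat_lit 0x11023c395) (.leaf (nat_lit 0x110224489) (nat_lit 777))
 (.leaf (nat_lit 0x11023c395) (nat_lit 1285))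
)))) (.node (nat_lit 0x11227f75e) (.node (nat_lit 0x112264408) (.node (nat_lit 0x112264081) (.leaf (nat_lit 0x11023c79d) (nat_lit 773))
 (.leaf (nat_lit 0x112264081) (nat_lit 776))
) (.node (nat_lit 0x11227f3d7) (.leaf (nat_lit 0x112264408) (nat_lit 520))
 (.leaf (nat_lit 0x11227f3d7) (nat_lit 776))
)) (.node (nat_lit 0x1153a75cf) (.node (nat_lit 0x1153a7081) (.leaf (nat_lit 0x11227f75e) (nat_lit 1032))
 (.leaf (nat_lit 0x1153a7081) (nat_lit 1288))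
) (.node (nat_lit 0x1153bc210) (.leaf (nat_lit 0x1153a75cf) (nat_lit 770))
 (.node (nat_lit 0x1153bc75e) (.leaf (nat_lit 0x1153bc210) (nat_lit 776))
 (.leaf (nat_lit 0x1153bc75e) (nat_lit 1032))
)))))) (.node (nat_lit 0x1c2067c6a) (.node (nat_lit 0x11e77c408) (.node (nat_lit 0x11d7bc210) (.node (nat_lit 0x1173ff252) (.node (nat_lit 0x1173e754e) (.leaf (nat_lit 0x1173e7081) (nat_lit 773))
 (.leaf (nat_lit 0x1173e754e) (nat_lit 1026))
) (.node (nat_lit 0x1173ff79d) (.leaf (nat_lit 0x1173ff252) (nat_lit 1027))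
 (.leaf (nat_lit 0x1173ff79d) (nat_lit 770))
)) (.node (nat_lit 0x11d7bf3d7) (.node (nat_lit 0x11d7bc54e) (.leaf (nat_lit 0x11d7bc210) (nat_lit 771))
 (.leaf (nat_lit 0x11d7bc54e) (nat_lit 777))
) (.node (nat_lit 0x11d7bf489) (.leaf (nat_lit 0x11d7bf3d7) (nat_lit 770))
 (.node (nat_lit 0x11e77c395) (.leaf (nat_lit 0x11d7bf489) (nat_lit 777))
 (.leaf (nat_lit 0x11e77c395) (nat_lit 770))
)))) (.node (nat_lit 0x1c10a4bf7) (.node (nat_lit 0x11e77f5cf) (.node (nat_lit 0x11e77f252) (.leaf (nat_lit 0x11e77c408) (nat_lit 1027))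
 (.leaf (nat_lit 0x11e77f252) (nat_lit 1033))
) (.node (nat_lit 0x1c10a4bb5) (.leaf (nat_lit 0x11e77f5cf) (nat_lit 1026))
 (.leaf (nat_lit 0x1c10a4bb5) (nat_lit 775))
)) (.node (nat_lit 0x1c10a7af3) (.node (nat_lit 0x1c10a7ab1) (.leaf (nat_lit 0x1c10a4bf7) (nat_lit 775))
 (.leaf (nat_lit 0x1c10a7ab1) (nat_lit 772))
) (.node (nat_lit 0x1c2064d6e) (.leaf (nat_lit 0x1c10a7af3) (nat_lit 775))
 (.node (nat_lit 0x1c2064def) (.leaf (nat_lit 0x1c2064d6e) (nat_lit 1031))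
 (.leaf (nat_lit 0x1c2064def) (nat_lit 1031))
))))) (.node (nat_lit 0x1de77fd6e) (.node (nat_lit 0x1dd7bfbb5) (.node (nat_lit 0x1dd7bcab1) (.node (nat_lit 0x1c2067ceb) (.leaf (nat_lit 0x1c2067c6a) (nat_lit 1028))
 (.leaf (nat_lit 0x1c2067ceb) (nat_lit 1031))
) (.node (nat_lit 0x1dd7bcdef) (.leaf (nat_lit 0x1dd7bcab1) (nat_lit 1033))
 (.leaf (nat_lit 0x1dd7bcdef) (nat_lit 1031))
)) (.node (nat_lit 0x1de77cbf7) (.node (nat_lit 0x1dd7bfceb) (.leaf (nat_lit 0x1dd7bfbb5) (nat_lit 1033))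
 (.leaf (nat_lit 0x1dd7bfceb) (nat_lit 1031))
) (.node (nat_lit 0x1de77cc6a) (.leaf (nat_lit 0x1de77cbf7) (nat_lit 1028))
 (.node (nat_lit 0x1de77faf3) (.leaf (nat_lit 0x1de77cc6a) (nat_lit 1025))
 (.leaf (nat_lit 0x1de77faf3) (nat_lit 1031))
)))) (.node (nat_lit 0x1eac7cdef) (.node (nat_lit 0x1eac67af3) (.node (nat_lit 0x1eac67042) (.leaf (nat_lit 0x1de77fd6e) (nat_lit 1031))
 (.leaf (nat_lit 0x1eac67042) (nat_lit 1032))
) (.node (nat_lit 0x1eac7c75e) (.leaf (nat_lit 0x1eac67af3) (nat_lit 1025))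
 (.leaf (nat_lit 0x1eac7c75e) (nat_lit 1288))
)) (.node (nat_lit 0x1ebce7ab1) (.node (nat_lit 0x1ebce7042) (.leaf (nat_lit 0x1eac7cdef) (nat_lit 1032))
 (.leaf (nat_lit 0x1ebce7042) (nat_lit 1031))
) (.node (nat_lit 0x1ebcff79d) (.leaf (nat_lit 0x1ebce7ab1) (nat_lit 1033))
 (.node (nat_lit 0x1ebcffd6e) (.leaf (nat_lit 0x1ebcff79d) (nat_lit 775))
 (.leaf (nat_lit 0x1ebcffd6e) (nat_lit 1285))
))))))) (.node (nat_lit 0x7173e7ab1) (.node (nat_lit 0x1f5bbf79d) (.node (nat_lit 0x1f1aa7ceb) (.node (nat_lit 0x1efde4042) (.node (nat_lit 0x1eed7f75e) (.node (nat_lit 0x1eed64bf7) (.leaf (nat_lit 0x1eed64042) (nat_lit 1032))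
 (.leaf (nat_lit 0x1eed64bf7) (nat_lit 1031))
) (.node (nat_lit 0x1eed7fceb) (.leaf (nat_lit 0x1eed7f75e) (nat_lit 1288))
 (.leaf (nat_lit 0x1eed7fceb) (nat_lit 1032))
)) (.node (nat_lit 0x1efdfc79d) (.node (nat_lit 0x1efde4bb5) (.leaf (nat_lit 0x1efde4042) (nat_lit 1031))
 (.leaf (nat_lit 0x1efde4bb5) (nat_lit 1033))
) (.node (nat_lit 0x1efdfcc6a) (.leaf (nat_lit 0x1efdfc79d) (nat_lit 775))
 (.node (nat_lit 0x1f1aa7081) (.leaf (nat_lit 0x1efdfcc6a) (nat_lit 1289))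
 (.leaf (nat_lit 0x1f1aa7081) (nat_lit 1288))
)))) (.node (nat_lit 0x1f3ae7c6a) (.node (nat_lit 0x1f1abcbf7) (.node (nat_lit 0x1f1abc79d) (.leaf (nat_lit 0x1f1aa7ceb) (nat_lit 769))
 (.leaf (nat_lit 0x1f1abc79d) (nat_lit 1281))
) (.node (nat_lit 0x1f3ae7081) (.leaf (nat_lit 0x1f1abcbf7) (nat_lit 1032))
 (.leaf (nat_lit 0x1f3ae7081) (nat_lit 775))
)) (.node (nat_lit 0x1f3affbb5) (.node (nat_lit 0x1f3aff75e) (.leaf (nat_lit 0x1f3ae7c6a) (nat_lit 1025))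
 (.leaf (nat_lit 0x1f3aff75e) (nat_lit 775))
) (.node (nat_lit 0x1f5ba4081) (.leaf (nat_lit 0x1f3affbb5) (nat_lit 1287))
 (.node (nat_lit 0x1f5ba4def) (.leaf (nat_lit 0x1f5ba4081) (nat_lit 1288))
 (.leaf (nat_lit 0x1f5ba4def) (nat_lit 775))
))))) (.node (nat_lit 0x70843ce7a) (.node (nat_lit 0x1f7bfc75e) (.node (nat_lit 0x1f7be4081) (.node (nat_lit 0x1f5bbfaf3) (.leaf (nat_lit 0x1f5bbf79d) (nat_lit 1287))
 (.leaf (nat_lit 0x1f5bbfaf3) (nat_lit 1032))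
) (.node (nat_lit 0x1f7be4d6e) (.leaf (nat_lit 0x1f7be4081) (nat_lit 775))
 (.leaf (nat_lit 0x1f7be4d6e) (nat_lit 1031))
)) (.node (nat_lit 0x708424d6e) (.node (nat_lit 0x1f7bfcab1) (.leaf (nat_lit 0x1f7bfc75e) (nat_lit 775))
 (.leaf (nat_lit 0x1f7bfcab1) (nat_lit 1284))
) (.node (nat_lit 0x708424f7e) (.leaf (nat_lit 0x708424d6e) (nat_lit 1031))
 (.node (nat_lit 0x70843cc6a) (.leaf (nat_lit 0x708424f7e) (nat_lit 519))
 (.leaf (nat_lit 0x70843cc6a) (nat_lit 1028))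
)))) (.node (nat_lit 0x70f5ffeb9) (.node (nat_lit 0x70f5e7fbd) (.node (nat_lit 0x70f5e7c6a) (.leaf (nat_lit 0x70843ce7a) (nat_lit 519))
 (.leaf (nat_lit 0x70f5e7c6a) (nat_lit 1289))
) (.node (nat_lit 0x70f5ffd6e) (.leaf (nat_lit 0x70f5e7fbd) (nat_lit 770))
 (.leaf (nat_lit 0x70f5ffd6e) (nat_lit 1289))
)) (.node (nat_lit 0x710224fbd) (.node (nat_lit 0x710224bb5) (.leaf (nat_lit 0x70f5ffeb9) (nat_lit 770))
 (.leaf (nat_lit 0x710224bb5) (nat_lit 1287))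
) (.node (nat_lit 0x71023cab1) (.leaf (nat_lit 0x710224fbd) (nat_lit 775))
 (.node (nat_lit 0x71023ceb9) (.leaf (nat_lit 0x71023cab1) (nat_lit 1284))
 (.leaf (nat_lit 0x71023ceb9) (nat_lit 775))
)))))) (.node (nat_lit 0x735bbf3d7) (.node (nat_lit 0x72ed64fbd) (.node (nat_lit 0x72ac675cf) (.node (nat_lit 0x7173ffbb5) (.node (nat_lit 0x7173e7f7e) (.leaf (nat_lit 0x7173e7ab1) (nat_lit 1281))
 (.leaf (nat_lit 0x7173e7f7e) (nat_lit 772))
) (.node (nat_lit 0x7173ffe7a) (.leaf (nat_lit 0x7173ffbb5) (nat_lit 1287))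
 (.leaf (nat_lit 0x7173ffe7a) (nat_lit 1026))
)) (.node (nat_lit 0x72ac7c408) (.node (nat_lit 0x72ac67f7e) (.leaf (nat_lit 0x72ac675cf) (nat_lit 1025))
 (.leaf (nat_lit 0x72ac67f7e) (nat_lit 1288))
) (.node (nat_lit 0x72ac7ceb9) (.leaf (nat_lit 0x72ac7c408) (nat_lit 1032))
 (.node (nat_lit 0x72ed64408) (.leaf (nat_lit 0x72ac7ceb9) (nat_lit 1025))
 (.leaf (nat_lit 0x72ed64408) (nat_lit 1032))
)))) (.node (nat_lit 0x731aa7fbd) (.node (nat_lit 0x72ed7fe7a) (.node (nat_lit 0x72ed7f5cf) (.leaf (nat_lit 0x72ed64fbd) (nat_lit 1031))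
 (.leaf (nat_lit 0x72ed7f5cf) (nat_lit 1031))
) (.node (nat_lit 0x731aa73d7) (.leaf (nat_lit 0x72ed7fe7a) (nat_lit 1288))
 (.leaf (nat_lit 0x731aa73d7) (nat_lit 1032))
)) (.node (nat_lit 0x731abce7a) (.node (nat_lit 0x731abc210) (.leaf (nat_lit 0x731aa7fbd) (nat_lit 1288))
 (.leaf (nat_lit 0x731abc210) (nat_lit 776))
) (.node (nat_lit 0x735ba4210) (.leaf (nat_lit 0x731abce7a) (nat_lit 1032))
 (.node (nat_lit 0x735ba4f7e) (.leaf (nat_lit 0x735ba4210) (nat_lit 776))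
 (.leaf (nat_lit 0x735ba4f7e) (nat_lit 1032))
))))) (.node (nat_lit 0x73ae7fd6e) (.node (nat_lit 0x739ebf5cf) (.node (nat_lit 0x739ebc210) (.node (nat_lit 0x735bbfeb9) (.leaf (nat_lit 0x735bbf3d7) (nat_lit 1032))
 (.leaf (nat_lit 0x735bbfeb9) (nat_lit 1288))
) (.node (nat_lit 0x739ebcc6a) (.leaf (nat_lit 0x739ebc210) (nat_lit 775))
 (.leaf (nat_lit 0x739ebcc6a) (nat_lit 777))
)) (.node (nat_lit 0x73ae7c408) (.node (nat_lit 0x739ebfbb5) (.leaf (nat_lit 0x739ebf5cf) (nat_lit 1031))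
 (.leaf (nat_lit 0x739ebfbb5) (nat_lit 1029))
) (.node (nat_lit 0x73ae7cab1) (.leaf (nat_lit 0x73ae7c408) (nat_lit 1031))
 (.node (nat_lit 0x73ae7f3d7) (.leaf (nat_lit 0x73ae7cab1) (nat_lit 769))
 (.leaf (nat_lit 0x73ae7f3d7) (nat_lit 1031))
)))) (.node (nat_lit 0x73dfa7ab1) (.node (nat_lit 0x73dfa4d6e) (.node (nat_lit 0x73dfa4210) (.leaf (nat_lit 0x73ae7fd6e) (nat_lit 1031))
 (.leaf (nat_lit 0x73dfa4210) (nat_lit 775))
) (.node (nat_lit 0x73dfa75cf) (.leaf (nat_lit 0x73dfa4d6e) (nat_lit 777))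
 (.leaf (nat_lit 0x73dfa75cf) (nat_lit 1031))
)) (.node (nat_lit 0x73ef64bb5) (.node (nat_lit 0x73ef64408) (.leaf (nat_lit 0x73dfa7ab1) (nat_lit 1033))
 (.leaf (nat_lit 0x73ef64408) (nat_lit 1031))
) (.node (nat_lit 0x73ef673d7) (.leaf (nat_lit 0x73ef64bb5) (nat_lit 775))
 (.node (nat_lit 0x73ef67c6a) (.leaf (nat_lit 0x73ef673d7) (nat_lit 1031))
 (.leaf (nat_lit 0x73ef67c6a) (nat_lit 1028))
)))))))) (.node (nat_lit 0x82ac47042) (.node (nat_lit 0x7fae7c54e) (.node (nat_lit 0x7ebcff489) (.node (nat_lit 0x7d2264f7e) (.node (nat_lit 0x7ce567ceb) (.node (nat_lit 0x7c94bfceb) (.node (nat_lit 0x7c94a4fbd) (.leaf (nat_lit 0x7c94a4def) (nat_lit 775))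
 (.leaf (nat_lit 0x7c94a4fbd) (nat_lit 1031))
) (.node (nat_lit 0x7c94bfeb9) (.leaf (nat_lit 0x7c94bfceb) (nat_lit 772))
 (.leaf (nat_lit 0x7c94bfeb9) (nat_lit 1028))
)) (.node (nat_lit 0x7ce57cdef) (.node (nat_lit 0x7ce567f7e) (.leaf (nat_lit 0x7ce567ceb) (nat_lit 1026))
 (.leaf (nat_lit 0x7ce567f7e) (nat_lit 1288))
) (.node (nat_lit 0x7ce57ce7a) (.leaf (nat_lit 0x7ce57cdef) (nat_lit 1032))
 (.node (nat_lit 0x7d2264bf7) (.leaf (nat_lit 0x7ce57ce7a) (nat_lit 1288))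
 (.leaf (nat_lit 0x7d2264bf7) (nat_lit 776))
)))) (.node (nat_lit 0x7d53a7fbd) (.node (nat_lit 0x7d227fe7a) (.node (nat_lit 0x7d227faf3) (.leaf (nat_lit 0x7d2264f7e) (nat_lit 1032))
 (.leaf (nat_lit 0x7d227faf3) (nat_lit 776))
) (.node (nat_lit 0x7d53a7af3) (.leaf (nat_lit 0x7d227fe7a) (nat_lit 1032))
 (.leaf (nat_lit 0x7d53a7af3) (nat_lit 1032))
)) (.node (nat_lit 0x7d53bceb9) (.node (nat_lit 0x7d53bcbf7) (.leaf (nat_lit 0x7d53a7fbd) (nat_lit 1288))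
 (.leaf (nat_lit 0x7d53bcbf7) (nat_lit 1026))
) (.node (nat_lit 0x7ebce754e) (.leaf (nat_lit 0x7d53bceb9) (nat_lit 1282))
 (.node (nat_lit 0x7ebce7fbd) (.leaf (nat_lit 0x7ebce754e) (nat_lit 1289))
 (.leaf (nat_lit 0x7ebce7fbd) (nat_lit 769))
))))) (.node (nat_lit 0x7f3affeb9) (.node (nat_lit 0x7efdfc54e) (.node (nat_lit 0x7efde4489) (.node (nat_lit 0x7ebcffe7a) (.leaf (nat_lit 0x7ebcff489) (nat_lit 1033))
 (.leaf (nat_lit 0x7ebcffe7a) (nat_lit 519))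
) (.node (nat_lit 0x7efde4f7e) (.leaf (nat_lit 0x7efde4489) (nat_lit 1033))
 (.leaf (nat_lit 0x7efde4f7e) (nat_lit 519))
)) (.node (nat_lit 0x7f3ae7395) (.node (nat_lit 0x7efdfceb9) (.leaf (nat_lit 0x7efdfc54e) (nat_lit 1289))
 (.leaf (nat_lit 0x7efdfceb9) (nat_lit 1029))
) (.node (nat_lit 0x7f3ae7f7e) (.leaf (nat_lit 0x7f3ae7395) (nat_lit 1282))
 (.node (nat_lit 0x7f3aff252) (.leaf (nat_lit 0x7f3ae7f7e) (nat_lit 773))
 (.leaf (nat_lit 0x7f3aff252) (nat_lit 1027))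
)))) (.node (nat_lit 0x7f7bfce7a) (.node (nat_lit 0x7f7be4fbd) (.node (nat_lit 0x7f7be4252) (.leaf (nat_lit 0x7f3affeb9) (nat_lit 775))
 (.leaf (nat_lit 0x7f7be4252) (nat_lit 1031))
) (.node (nat_lit 0x7f7bfc395) (.leaf (nat_lit 0x7f7be4fbd) (nat_lit 775))
 (.leaf (nat_lit 0x7f7bfc395) (nat_lit 1285))
)) (.node (nat_lit 0x7f9ebcdef) (.node (nat_lit 0x7f9ebc395) (.leaf (nat_lit 0x7f7bfce7a) (nat_lit 773))
 (.leaf (nat_lit 0x7f9ebc395) (nat_lit 1033))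
) (.node (nat_lit 0x7f9ebf489) (.leaf (nat_lit 0x7f9ebcdef) (nat_lit 1027))
 (.node (nat_lit 0x7f9ebfaf3) (.leaf (nat_lit 0x7f9ebf489) (nat_lit 777))
 (.leaf (nat_lit 0x7f9ebfaf3) (nat_lit 775))
)))))) (.node (nat_lit 0x802047c6a) (.node (nat_lit 0x7fef64def) (.node (nat_lit 0x7fdfa4489) (.node (nat_lit 0x7fae7f252) (.node (nat_lit 0x7fae7cbf7) (.leaf (nat_lit 0x7fae7c54e) (nat_lit 1026))
 (.leaf (nat_lit 0x7fae7cbf7) (nat_lit 1029))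
) (.node (nat_lit 0x7fae7fceb) (.leaf (nat_lit 0x7fae7f252) (nat_lit 1033))
 (.leaf (nat_lit 0x7fae7fceb) (nat_lit 1031))
)) (.node (nat_lit 0x7fdfa7395) (.node (nat_lit 0x7fdfa4bf7) (.leaf (nat_lit 0x7fdfa4489) (nat_lit 777))
 (.leaf (nat_lit 0x7fdfa4bf7) (nat_lit 775))
) (.node (nat_lit 0x7fdfa7ceb) (.leaf (nat_lit 0x7fdfa7395) (nat_lit 1033))
 (.node (nat_lit 0x7fef64252) (.leaf (nat_lit 0x7fdfa7ceb) (nat_lit 1027))
 (.leaf (nat_lit 0x7fef64252) (nat_lit 1033))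
)))) (.node (nat_lit 0x801084252) (.node (nat_lit 0x7fef67af3) (.node (nat_lit 0x7fef6754e) (.leaf (nat_lit 0x7fef64def) (nat_lit 1031))
 (.leaf (nat_lit 0x7fef6754e) (nat_lit 1029))
) (.node (nat_lit 0x801084210) (.leaf (nat_lit 0x7fef67af3) (nat_lit 1029))
 (.leaf (nat_lit 0x801084210) (nat_lit 515))
)) (.node (nat_lit 0x801087af3) (.node (nat_lit 0x801087ab1) (.leaf (nat_lit 0x801084252) (nat_lit 521))
 (.leaf (nat_lit 0x801087ab1) (nat_lit 517))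
) (.node (nat_lit 0x802044408) (.leaf (nat_lit 0x801087af3) (nat_lit 517))
 (.node (nat_lit 0x802044489) (.leaf (nat_lit 0x802044408) (nat_lit 259))
 (.leaf (nat_lit 0x802044489) (nat_lit 265))
))))) (.node (nat_lit 0x80949feb9) (.node (nat_lit 0x80841cc6a) (.node (nat_lit 0x808404042) (.node (nat_lit 0x802047ceb) (.leaf (nat_lit 0x802047c6a) (nat_lit 773))
 (.leaf (nat_lit 0x802047ceb) (nat_lit 773))
) (.node (nat_lit 0x808404252) (.leaf (nat_lit 0x808404042) (nat_lit 256))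
 (.leaf (nat_lit 0x808404252) (nat_lit 777))
)) (.node (nat_lit 0x809484042) (.node (nat_lit 0x80841ce7a) (.leaf (nat_lit 0x80841cc6a) (nat_lit 773))
 (.leaf (nat_lit 0x80841ce7a) (nat_lit 261))
) (.node (nat_lit 0x809484210) (.leaf (nat_lit 0x809484042) (nat_lit 776))
 (.node (nat_lit 0x80949fceb) (.leaf (nat_lit 0x809484210) (nat_lit 520))
 (.leaf (nat_lit 0x80949fceb) (nat_lit 517))
)))) (.node (nat_lit 0x81021ceb9) (.node (nat_lit 0x810204489) (.node (nat_lit 0x810204081) (.leaf (nat_lit 0x80949feb9) (nat_lit 773))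
 (.leaf (nat_lit 0x810204081) (nat_lit 0))
) (.node (nat_lit 0x81021cab1) (.leaf (nat_lit 0x810204489) (nat_lit 521))
 (.leaf (nat_lit 0x81021cab1) (nat_lit 1029))
)) (.node (nat_lit 0x812244408) (.node (nat_lit 0x812244081) (.leaf (nat_lit 0x81021ceb9) (nat_lit 517))
 (.leaf (nat_lit 0x812244081) (nat_lit 520))
) (.node (nat_lit 0x81225faf3) (.leaf (nat_lit 0x812244408) (nat_lit 264))
 (.node (nat_lit 0x81225fe7a) (.leaf (nat_lit 0x81225faf3) (nat_lit 520))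
 (.leaf (nat_lit 0x81225fe7a) (nat_lit 776))
))))))) (.node (nat_lit 0x8cf5c4042) (.node (nat_lit 0x839e9f489) (.node (nat_lit 0x831a87ceb) (.node (nat_lit 0x82bcc7042) (.node (nat_lit 0x82ac5c408) (.node (nat_lit 0x82ac47af3) (.leaf (nat_lit 0x82ac47042) (nat_lit 776))
 (.leaf (nat_lit 0x82ac47af3) (nat_lit 770))
) (.node (nat_lit 0x82ac5ceb9) (.leaf (nat_lit 0x82ac5c408) (nat_lit 776))
 (.leaf (nat_lit 0x82ac5ceb9) (nat_lit 770))
)) (.node (nat_lit 0x82bcdf489) (.node (nat_lit 0x82bcc7ab1) (.leaf (nat_lit 0x82bcc7042) (nat_lit 773))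
 (.leaf (nat_lit 0x82bcc7ab1) (nat_lit 777))
) (.node (nat_lit 0x82bcdfe7a) (.leaf (nat_lit 0x82bcdf489) (nat_lit 777))
 (.node (nat_lit 0x831a87081) (.leaf (nat_lit 0x82bcdfe7a) (nat_lit 258))
 (.leaf (nat_lit 0x831a87081) (nat_lit 1032))
)))) (.node (nat_lit 0x833ac7c6a) (.node (nat_lit 0x831a9ce7a) (.node (nat_lit 0x831a9c210) (.leaf (nat_lit 0x831a87ceb) (nat_lit 514))
 (.leaf (nat_lit 0x831a9c210) (nat_lit 520))
) (.node (nat_lit 0x833ac7081) (.leaf (nat_lit 0x831a9ce7a) (nat_lit 776))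
 (.leaf (nat_lit 0x833ac7081) (nat_lit 517))
)) (.node (nat_lit 0x833adfeb9) (.node (nat_lit 0x833adf252) (.leaf (nat_lit 0x833ac7c6a) (nat_lit 770))
 (.leaf (nat_lit 0x833adf252) (nat_lit 771))
) (.node (nat_lit 0x839e9c210) (.leaf (nat_lit 0x833adfeb9) (nat_lit 514))
 (.node (nat_lit 0x839e9cc6a) (.leaf (nat_lit 0x839e9c210) (nat_lit 515))
 (.leaf (nat_lit 0x839e9cc6a) (nat_lit 521))
))))) (.node (nat_lit 0x8c1087bf7) (.node (nat_lit 0x83ae5f252) (.node (nat_lit 0x83ae5c408) (.node (nat_lit 0x839e9faf3) (.leaf (nat_lit 0x839e9f489) (nat_lit 521))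
 (.leaf (nat_lit 0x839e9faf3) (nat_lit 515))
) (.node (nat_lit 0x83ae5cab1) (.leaf (nat_lit 0x83ae5c408) (nat_lit 771))
 (.leaf (nat_lit 0x83ae5cab1) (nat_lit 514))
)) (.node (nat_lit 0x8c1084395) (.node (nat_lit 0x83ae5fceb) (.leaf (nat_lit 0x83ae5f252) (nat_lit 777))
 (.leaf (nat_lit 0x83ae5fceb) (nat_lit 771))
) (.node (nat_lit 0x8c10843d7) (.leaf (nat_lit 0x8c1084395) (nat_lit 1029))
 (.node (nat_lit 0x8c1087bb5) (.leaf (nat_lit 0x8c10843d7) (nat_lit 1029))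
 (.leaf (nat_lit 0x8c1087bb5) (nat_lit 516))
)))) (.node (nat_lit 0x8c2047def) (.node (nat_lit 0x8c20445cf) (.node (nat_lit 0x8c204454e) (.leaf (nat_lit 0x8c1087bf7) (nat_lit 516))
 (.leaf (nat_lit 0x8c204454e) (nat_lit 773))
) (.node (nat_lit 0x8c2047d6e) (.leaf (nat_lit 0x8c20445cf) (nat_lit 773))
 (.leaf (nat_lit 0x8c2047d6e) (nat_lit 772))
)) (.node (nat_lit 0x8ce5443d7) (.node (nat_lit 0x8ce544042) (.leaf (nat_lit 0x8c2047def) (nat_lit 772))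
 (.leaf (nat_lit 0x8ce544042) (nat_lit 1288))
) (.node (nat_lit 0x8ce55fdef) (.leaf (nat_lit 0x8ce5443d7) (nat_lit 1026))
 (.node (nat_lit 0x8ce55fe7a) (.leaf (nat_lit 0x8ce55fdef) (nat_lit 769))
 (.leaf (nat_lit 0x8ce55fe7a) (nat_lit 1027))
)))))) (.node (nat_lit 0x8efddf54e) (.node (nat_lit 0x8d73c454e) (.node (nat_lit 0x8d5384081) (.node (nat_lit 0x8cf5dcd6e) (.node (nat_lit 0x8cf5c4395) (.leaf (nat_lit 0x8cf5c4042) (nat_lit 1029))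
 (.leaf (nat_lit 0x8cf5c4395) (nat_lit 1026))
) (.node (nat_lit 0x8cf5dceb9) (.leaf (nat_lit 0x8cf5dcd6e) (nat_lit 1033))
 (.leaf (nat_lit 0x8cf5dceb9) (nat_lit 770))
)) (.node (nat_lit 0x8d539fbf7) (.node (nat_lit 0x8d53845cf) (.leaf (nat_lit 0x8d5384081) (nat_lit 1032))
 (.leaf (nat_lit 0x8d53845cf) (nat_lit 770))
) (.node (nat_lit 0x8d539feb9) (.leaf (nat_lit 0x8d539fbf7) (nat_lit 1025))
 (.node (nat_lit 0x8d73c4081) (.leaf (nat_lit 0x8d539feb9) (nat_lit 1026))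
 (.leaf (nat_lit 0x8d73c4081) (nat_lit 1029))
)))) (.node (nat_lit 0x8eed47bf7) (.node (nat_lit 0x8d73dce7a) (.node (nat_lit 0x8d73dcbb5) (.leaf (nat_lit 0x8d73c454e) (nat_lit 1033))
 (.leaf (nat_lit 0x8d73dcbb5) (nat_lit 1025))
) (.node (nat_lit 0x8eed47042) (.leaf (nat_lit 0x8d73dce7a) (nat_lit 772))
 (.leaf (nat_lit 0x8eed47042) (nat_lit 776))
)) (.node (nat_lit 0x8eed5ce7a) (.node (nat_lit 0x8eed5c5cf) (.leaf (nat_lit 0x8eed47bf7) (nat_lit 769))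
 (.leaf (nat_lit 0x8eed5c5cf) (nat_lit 769))
) (.node (nat_lit 0x8efdc7042) (.leaf (nat_lit 0x8eed5ce7a) (nat_lit 1032))
 (.node (nat_lit 0x8efdc7bb5) (.leaf (nat_lit 0x8efdc7042) (nat_lit 772))
 (.leaf (nat_lit 0x8efdc7bb5) (nat_lit 777))
))))) (.node (nat_lit 0x8f7bdfe7a) (.node (nat_lit 0x8f5b9c3d7) (.node (nat_lit 0x8f5b87081) (.node (nat_lit 0x8efddfeb9) (.leaf (nat_lit 0x8efddf54e) (nat_lit 1029))
 (.leaf (nat_lit 0x8efddfeb9) (nat_lit 773))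
) (.node (nat_lit 0x8f5b87def) (.leaf (nat_lit 0x8f5b87081) (nat_lit 1032))
 (.leaf (nat_lit 0x8f5b87def) (nat_lit 513))
)) (.node (nat_lit 0x8f7bc7081) (.node (nat_lit 0x8f5b9ceb9) (.leaf (nat_lit 0x8f5b9c3d7) (nat_lit 769))
 (.leaf (nat_lit 0x8f5b9ceb9) (nat_lit 1032))
) (.node (nat_lit 0x8f7bc7d6e) (.leaf (nat_lit 0x8f7bc7081) (nat_lit 516))
 (.node (nat_lit 0x8f7bdf395) (.leaf (nat_lit 0x8f7bc7d6e) (nat_lit 769))
 (.leaf (nat_lit 0x8f7bdf395) (nat_lit 1029))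
)))) (.node (nat_lit 0x8f9e9fdef) (.node (nat_lit 0x8f9e9cbb5) (.node (nat_lit 0x8f9e9c5cf) (.leaf (nat_lit 0x8f7bdfe7a) (nat_lit 769))
 (.leaf (nat_lit 0x8f9e9c5cf) (nat_lit 770))
) (.node (nat_lit 0x8f9e9f395) (.leaf (nat_lit 0x8f9e9cbb5) (nat_lit 1028))
 (.leaf (nat_lit 0x8f9e9f395) (nat_lit 772))
)) (.node (nat_lit 0x8fae5cd6e) (.node (nat_lit 0x8fae5c3d7) (.leaf (nat_lit 0x8f9e9fdef) (nat_lit 1028))
 (.leaf (nat_lit 0x8fae5c3d7) (nat_lit 772))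
) (.node (nat_lit 0x8fae5f54e) (.leaf (nat_lit 0x8fae5cd6e) (nat_lit 772))
 (.node (nat_lit 0x8fae5fbf7) (.leaf (nat_lit 0x8fae5f54e) (nat_lit 772))
 (.leaf (nat_lit 0x8fae5fbf7) (nat_lit 772))
))))))))) (.node (nat_lit 0xec94845cf) (.node (nat_lit 0x9eac60042) (.node (nat_lit 0x937be3081) (.node (nat_lit 0x910238bb5) (.node (nat_lit 0x908420252) (.node (nat_lit 0x902060408) (.node (nat_lit 0x9010a3bb5) (.node (nat_lit 0x9010a0252) (.leaf (nat_lit 0x9010a0210) (nat_lit 774))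
 (.leaf (nat_lit 0x9010a0252) (nat_lit 777))
) (.node (nat_lit 0x9010a3bf7) (.leaf (nat_lit 0x9010a3bb5) (nat_lit 773))
 (.leaf (nat_lit 0x9010a3bf7) (nat_lit 774))
)) (.node (nat_lit 0x902063d6e) (.node (nat_lit 0x902060489) (.leaf (nat_lit 0x902060408) (nat_lit 518))
 (.leaf (nat_lit 0x902060489) (nat_lit 521))
) (.node (nat_lit 0x902063def) (.leaf (nat_lit 0x902063d6e) (nat_lit 1029))
 (.node (nat_lit 0x908420042) (.leaf (nat_lit 0x902063def) (nat_lit 1030))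
 (.leaf (nat_lit 0x908420042) (nat_lit 518))
)))) (.node (nat_lit 0x9094a0210) (.node (nat_lit 0x908438f7e) (.node (nat_lit 0x908438d6e) (.leaf (nat_lit 0x908420252) (nat_lit 1033))
 (.leaf (nat_lit 0x908438d6e) (nat_lit 1029))
) (.node (nat_lit 0x9094a0042) (.leaf (nat_lit 0x908438f7e) (nat_lit 518))
 (.leaf (nat_lit 0x9094a0042) (nat_lit 1032))
)) (.node (nat_lit 0x9094bbfbd) (.node (nat_lit 0x9094bbdef) (.leaf (nat_lit 0x9094a0210) (nat_lit 776))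
 (.leaf (nat_lit 0x9094bbdef) (nat_lit 773))
) (.node (nat_lit 0x910220081) (.leaf (nat_lit 0x9094bbfbd) (nat_lit 1029))
 (.node (nat_lit 0x910220489) (.leaf (nat_lit 0x910220081) (nat_lit 262))
 (.leaf (nat_lit 0x910220489) (nat_lit 777))
))))) (.node (nat_lit 0x92ed78fbd) (.node (nat_lit 0x91227bbf7) (.node (nat_lit 0x912260081) (.node (nat_lit 0x910238fbd) (.leaf (nat_lit 0x910238bb5) (nat_lit 1285))
 (.leaf (nat_lit 0x910238fbd) (nat_lit 774))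
) (.node (nat_lit 0x912260408) (.leaf (nat_lit 0x912260081) (nat_lit 776))
 (.leaf (nat_lit 0x912260408) (nat_lit 520))
)) (.node (nat_lit 0x92ed63042) (.node (nat_lit 0x91227bf7e) (.leaf (nat_lit 0x91227bbf7) (nat_lit 776))
 (.leaf (nat_lit 0x91227bf7e) (nat_lit 1032))
) (.node (nat_lit 0x92ed63bf7) (.leaf (nat_lit 0x92ed63042) (nat_lit 1032))
 (.node (nat_lit 0x92ed78408) (.leaf (nat_lit 0x92ed63bf7) (nat_lit 1026))
 (.leaf (nat_lit 0x92ed78408) (nat_lit 1032))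
)))) (.node (nat_lit 0x92fdfbf7e) (.node (nat_lit 0x92fde3bb5) (.node (nat_lit 0x92fde3042) (.leaf (nat_lit 0x92ed78fbd) (nat_lit 1026))
 (.leaf (nat_lit 0x92fde3042) (nat_lit 1030))
) (.node (nat_lit 0x92fdfb489) (.leaf (nat_lit 0x92fde3bb5) (nat_lit 1033))
 (.leaf (nat_lit 0x92fdfb489) (nat_lit 1033))
)) (.node (nat_lit 0x935ba3def) (.node (nat_lit 0x935ba3081) (.leaf (nat_lit 0x92fdfbf7e) (nat_lit 518))
 (.leaf (nat_lit 0x935ba3081) (nat_lit 1288))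
) (.node (nat_lit 0x935bb8210) (.leaf (nat_lit 0x935ba3def) (nat_lit 770))
 (.node (nat_lit 0x935bb8f7e) (.leaf (nat_lit 0x935bb8210) (nat_lit 776))
 (.leaf (nat_lit 0x935bb8f7e) (nat_lit 1032))
)))))) (.node (nat_lit 0x9c206354e) (.node (nat_lit 0x93ef78bb5) (.node (nat_lit 0x93dfb8210) (.node (nat_lit 0x937bfb252) (.node (nat_lit 0x937be3d6e) (.leaf (nat_lit 0x937be3081) (nat_lit 774))
 (.leaf (nat_lit 0x937be3d6e) (nat_lit 1026))
) (.node (nat_lit 0x937bfbfbd) (.leaf (nat_lit 0x937bfb252) (nat_lit 1027))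
 (.leaf (nat_lit 0x937bfbfbd) (nat_lit 774))
)) (.node (nat_lit 0x93dfbb489) (.node (nat_lit 0x93dfb8d6e) (.leaf (nat_lit 0x93dfb8210) (nat_lit 774))
 (.leaf (nat_lit 0x93dfb8d6e) (nat_lit 777))
) (.node (nat_lit 0x93dfbbbf7) (.leaf (nat_lit 0x93dfbb489) (nat_lit 777))
 (.node (nat_lit 0x93ef78408) (.leaf (nat_lit 0x93dfbbbf7) (nat_lit 774))
 (.leaf (nat_lit 0x93ef78408) (nat_lit 1030))
)))) (.node (nat_lit 0x9c10a0af3) (.node (nat_lit 0x93ef7bdef) (.node (nat_lit 0x93ef7b252) (.leaf (nat_lit 0x93ef78bb5) (nat_lit 770))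
 (.leaf (nat_lit 0x93ef7b252) (nat_lit 1033))
) (.node (nat_lit 0x9c10a0ab1) (.leaf (nat_lit 0x93ef7bdef) (nat_lit 1030))
 (.leaf (nat_lit 0x9c10a0ab1) (nat_lit 774))
)) (.node (nat_lit 0x9c10a33d7) (.node (nat_lit 0x9c10a3395) (.leaf (nat_lit 0x9c10a0af3) (nat_lit 774))
 (.leaf (nat_lit 0x9c10a3395) (nat_lit 772))
) (.node (nat_lit 0x9c2060c6a) (.leaf (nat_lit 0x9c10a33d7) (nat_lit 772))
 (.node (nat_lit 0x9c2060ceb) (.leaf (nat_lit 0x9c2060c6a) (nat_lit 1030))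
 (.leaf (nat_lit 0x9c2060ceb) (nat_lit 1030))
))))) (.node (nat_lit 0x9cf5fbfbd) (.node (nat_lit 0x9ce578ceb) (.node (nat_lit 0x9ce563042) (.node (nat_lit 0x9c20635cf) (.leaf (nat_lit 0x9c206354e) (nat_lit 1028))
 (.leaf (nat_lit 0x9c20635cf) (nat_lit 1028))
) (.node (nat_lit 0x9ce5633d7) (.leaf (nat_lit 0x9ce563042) (nat_lit 1032))
 (.leaf (nat_lit 0x9ce5633d7) (nat_lit 1025))
)) (.node (nat_lit 0x9cf5e3042) (.node (nat_lit 0x9ce578f7e) (.leaf (nat_lit 0x9ce578ceb) (nat_lit 1025))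
 (.leaf (nat_lit 0x9ce578f7e) (nat_lit 1288))
) (.node (nat_lit 0x9cf5e3395) (.leaf (nat_lit 0x9cf5e3042) (nat_lit 1028))
 (.node (nat_lit 0x9cf5fbc6a) (.leaf (nat_lit 0x9cf5e3395) (nat_lit 1033))
 (.leaf (nat_lit 0x9cf5fbc6a) (nat_lit 1289))
)))) (.node (nat_lit 0x9d53b8fbd) (.node (nat_lit 0x9d53a35cf) (.node (nat_lit 0x9d53a3081) (.leaf (nat_lit 0x9cf5fbfbd) (nat_lit 769))
 (.leaf (nat_lit 0x9d53a3081) (nat_lit 1288))
) (.node (nat_lit 0x9d53b8af3) (.leaf (nat_lit 0x9d53a35cf) (nat_lit 769))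
 (.leaf (nat_lit 0x9d53b8af3) (nat_lit 1025))
)) (.node (nat_lit 0x9d73e354e) (.node (nat_lit 0x9d73e3081) (.leaf (nat_lit 0x9d53b8fbd) (nat_lit 1288))
 (.leaf (nat_lit 0x9d73e3081) (nat_lit 772))
) (.node (nat_lit 0x9d73fbab1) (.leaf (nat_lit 0x9d73e354e) (nat_lit 1025))
 (.node (nat_lit 0x9d73fbf7e) (.leaf (nat_lit 0x9d73fbab1) (nat_lit 1286))
 (.leaf (nat_lit 0x9d73fbf7e) (nat_lit 1025))
))))))) (.node (nat_lit 0xe15384210) (.node (nat_lit 0x9fdfbb5cf) (.node (nat_lit 0x9f1aa0ceb) (.node (nat_lit 0x9ebce0042) (.node (nat_lit 0x9eac7b5cf) (.node (nat_lit 0x9eac60af3) (.leaf (nat_lit 0x9eac60042) (nat_lit 1032))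
 (.leaf (nat_lit 0x9eac60af3) (nat_lit 1030))
) (.node (nat_lit 0x9eac7bf7e) (.leaf (nat_lit 0x9eac7b5cf) (nat_lit 1030))
 (.leaf (nat_lit 0x9eac7bf7e) (nat_lit 1288))
)) (.node (nat_lit 0x9ebcf854e) (.node (nat_lit 0x9ebce0ab1) (.leaf (nat_lit 0x9ebce0042) (nat_lit 1030))
 (.leaf (nat_lit 0x9ebce0ab1) (nat_lit 1033))
) (.node (nat_lit 0x9ebcf8fbd) (.leaf (nat_lit 0x9ebcf854e) (nat_lit 1289))
 (.node (nat_lit 0x9f1aa0081) (.leaf (nat_lit 0x9ebcf8fbd) (nat_lit 1028))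
 (.leaf (nat_lit 0x9f1aa0081) (nat_lit 1288))
)))) (.node (nat_lit 0x9f3ae0c6a) (.node (nat_lit 0x9f1abbfbd) (.node (nat_lit 0x9f1abb3d7) (.leaf (nat_lit 0x9f1aa0ceb) (nat_lit 774))
 (.leaf (nat_lit 0x9f1abb3d7) (nat_lit 1032))
) (.node (nat_lit 0x9f3ae0081) (.leaf (nat_lit 0x9f1abbfbd) (nat_lit 1288))
 (.leaf (nat_lit 0x9f3ae0081) (nat_lit 774))
)) (.node (nat_lit 0x9f3af8f7e) (.node (nat_lit 0x9f3af8395) (.leaf (nat_lit 0x9f3ae0c6a) (nat_lit 1030))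
 (.leaf (nat_lit 0x9f3af8395) (nat_lit 1281))
) (.node (nat_lit 0x9fdfb8395) (.leaf (nat_lit 0x9f3af8f7e) (nat_lit 772))
 (.node (nat_lit 0x9fdfb8ceb) (.leaf (nat_lit 0x9fdfb8395) (nat_lit 1033))
 (.leaf (nat_lit 0x9fdfb8ceb) (nat_lit 1027))
))))) (.node (nat_lit 0xe0841cf7e) (.node (nat_lit 0x9fef7b3d7) (.node (nat_lit 0x9fef7854e) (.node (nat_lit 0x9fdfbbab1) (.leaf (nat_lit 0x9fdfbb5cf) (nat_lit 1030))
 (.leaf (nat_lit 0x9fdfbbab1) (nat_lit 1028))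
) (.node (nat_lit 0x9fef78af3) (.leaf (nat_lit 0x9fef7854e) (nat_lit 1028))
 (.leaf (nat_lit 0x9fef78af3) (nat_lit 1028))
)) (.node (nat_lit 0xe0840454e) (.node (nat_lit 0x9fef7bc6a) (.leaf (nat_lit 0x9fef7b3d7) (nat_lit 1030))
 (.leaf (nat_lit 0x9fef7bc6a) (nat_lit 1030))
) (.node (nat_lit 0xe0840475e) (.leaf (nat_lit 0xe0840454e) (nat_lit 1285))
 (.node (nat_lit 0xe0841cd6e) (.leaf (nat_lit 0xe0840475e) (nat_lit 773))
 (.leaf (nat_lit 0xe0841cd6e) (nat_lit 772))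
)))) (.node (nat_lit 0xe0e55ff7e) (.node (nat_lit 0xe0e54479d) (.node (nat_lit 0xe0e544408) (.leaf (nat_lit 0xe0841cf7e) (nat_lit 260))
 (.leaf (nat_lit 0xe0e544408) (nat_lit 776))
) (.node (nat_lit 0xe0e55fceb) (.leaf (nat_lit 0xe0e54479d) (nat_lit 1026))
 (.leaf (nat_lit 0xe0e55fceb) (nat_lit 770))
)) (.node (nat_lit 0xe1020479d) (.node (nat_lit 0xe10204395) (.leaf (nat_lit 0xe0e55ff7e) (nat_lit 1027))
 (.leaf (nat_lit 0xe10204395) (nat_lit 1029))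
) (.node (nat_lit 0xe1021cbb5) (.leaf (nat_lit 0xe1020479d) (nat_lit 517))
 (.node (nat_lit 0xe1021cfbd) (.leaf (nat_lit 0xe1021cbb5) (nat_lit 1028))
 (.leaf (nat_lit 0xe1021cfbd) (nat_lit 516))
)))))) (.node (nat_lit 0xe2ed5c408) (.node (nat_lit 0xe1e744408) (.node (nat_lit 0xe1d784210) (.node (nat_lit 0xe1539faf3) (.node (nat_lit 0xe1538475e) (.leaf (nat_lit 0xe15384210) (nat_lit 1032))
 (.leaf (nat_lit 0xe1538475e) (nat_lit 1026))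
) (.node (nat_lit 0xe1539ffbd) (.leaf (nat_lit 0xe1539faf3) (nat_lit 1026))
 (.leaf (nat_lit 0xe1539ffbd) (nat_lit 1025))
)) (.node (nat_lit 0xe1d787bb5) (.node (nat_lit 0xe1d78454e) (.leaf (nat_lit 0xe1d784210) (nat_lit 1027))
 (.leaf (nat_lit 0xe1d78454e) (nat_lit 770))
) (.node (nat_lit 0xe1d787ceb) (.leaf (nat_lit 0xe1d787bb5) (nat_lit 777))
 (.node (nat_lit 0xe1e744395) (.leaf (nat_lit 0xe1d787ceb) (nat_lit 771))
 (.leaf (nat_lit 0xe1e744395) (nat_lit 777))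
)))) (.node (nat_lit 0xe2bcc7d6e) (.node (nat_lit 0xe1e747d6e) (.node (nat_lit 0xe1e747af3) (.leaf (nat_lit 0xe1e744408) (nat_lit 771))
 (.leaf (nat_lit 0xe1e747af3) (nat_lit 771))
) (.node (nat_lit 0xe2bcc779d) (.leaf (nat_lit 0xe1e747d6e) (nat_lit 769))
 (.leaf (nat_lit 0xe2bcc779d) (nat_lit 514))
)) (.node (nat_lit 0xe2bcdffbd) (.node (nat_lit 0xe2bcdf54e) (.leaf (nat_lit 0xe2bcc7d6e) (nat_lit 1033))
 (.leaf (nat_lit 0xe2bcdf54e) (nat_lit 1028))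
) (.node (nat_lit 0xe2ed4775e) (.leaf (nat_lit 0xe2bcdffbd) (nat_lit 773))
 (.node (nat_lit 0xe2ed47ceb) (.leaf (nat_lit 0xe2ed4775e) (nat_lit 1032))
 (.leaf (nat_lit 0xe2ed47ceb) (nat_lit 776))
))))) (.node (nat_lit 0xe35b9cf7e) (.node (nat_lit 0xe33adf395) (.node (nat_lit 0xe33ac775e) (.node (nat_lit 0xe2ed5cfbd) (.leaf (nat_lit 0xe2ed5c408) (nat_lit 776))
 (.leaf (nat_lit 0xe2ed5cfbd) (nat_lit 769))
) (.node (nat_lit 0xe33ac7bb5) (.leaf (nat_lit 0xe33ac775e) (nat_lit 516))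
 (.leaf (nat_lit 0xe33ac7bb5) (nat_lit 1028))
)) (.node (nat_lit 0xe35b8779d) (.node (nat_lit 0xe33adff7e) (.leaf (nat_lit 0xe33adf395) (nat_lit 1028))
 (.leaf (nat_lit 0xe33adff7e) (nat_lit 773))
) (.node (nat_lit 0xe35b87af3) (.leaf (nat_lit 0xe35b8779d) (nat_lit 1025))
 (.node (nat_lit 0xe35b9c210) (.leaf (nat_lit 0xe35b87af3) (nat_lit 776))
 (.leaf (nat_lit 0xe35b9c210) (nat_lit 520))
)))) (.node (nat_lit 0xe3df9fceb) (.node (nat_lit 0xe3df9cd6e) (.node (nat_lit 0xe3df9c210) (.leaf (nat_lit 0xe35b9cf7e) (nat_lit 776))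
 (.leaf (nat_lit 0xe3df9c210) (nat_lit 515))
) (.node (nat_lit 0xe3df9f395) (.leaf (nat_lit 0xe3df9cd6e) (nat_lit 521))
 (.leaf (nat_lit 0xe3df9f395) (nat_lit 773))
)) (.node (nat_lit 0xe3ef5cbb5) (.node (nat_lit 0xe3ef5c408) (.leaf (nat_lit 0xe3df9fceb) (nat_lit 1029))
 (.leaf (nat_lit 0xe3ef5c408) (nat_lit 771))
) (.node (nat_lit 0xe3ef5f54e) (.leaf (nat_lit 0xe3ef5cbb5) (nat_lit 513))
 (.node (nat_lit 0xe3ef5faf3) (.leaf (nat_lit 0xe3ef5f54e) (nat_lit 773))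
 (.leaf (nat_lit 0xe3ef5faf3) (nat_lit 773))
)))))))) (.node (nat_lit 0xf2ac60408) (.node (nat_lit 0xef7bc775e) (.node (nat_lit 0xedd787ab1) (.node (nat_lit 0xed224475e) (.node (nat_lit 0xecf5c4489) (.node (nat_lit 0xec949fdef) (.node (nat_lit 0xec948479d) (.leaf (nat_lit 0xec94845cf) (nat_lit 773))
 (.leaf (nat_lit 0xec948479d) (nat_lit 1029))
) (.node (nat_lit 0xec949ffbd) (.leaf (nat_lit 0xec949fdef) (nat_lit 516))
 (.leaf (nat_lit 0xec949ffbd) (nat_lit 772))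
)) (.node (nat_lit 0xecf5dcc6a) (.node (nat_lit 0xecf5c475e) (.leaf (nat_lit 0xecf5c4489) (nat_lit 1033))
 (.leaf (nat_lit 0xecf5c475e) (nat_lit 514))
) (.node (nat_lit 0xecf5dcfbd) (.leaf (nat_lit 0xecf5dcc6a) (nat_lit 1033))
 (.node (nat_lit 0xed22443d7) (.leaf (nat_lit 0xecf5dcfbd) (nat_lit 769))
 (.leaf (nat_lit 0xed22443d7) (nat_lit 776))
)))) (.node (nat_lit 0xed73c479d) (.node (nat_lit 0xed225ff7e) (.node (nat_lit 0xed225fbf7) (.leaf (nat_lit 0xed224475e) (nat_lit 1032))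
 (.leaf (nat_lit 0xed225fbf7) (nat_lit 520))
) (.node (nat_lit 0xed73c4252) (.leaf (nat_lit 0xed225ff7e) (nat_lit 776))
 (.leaf (nat_lit 0xed73c4252) (nat_lit 1027))
)) (.node (nat_lit 0xed73dcf7e) (.node (nat_lit 0xed73dcab1) (.leaf (nat_lit 0xed73c479d) (nat_lit 770))
 (.leaf (nat_lit 0xed73dcab1) (nat_lit 1026))
) (.node (nat_lit 0xedd7843d7) (.leaf (nat_lit 0xed73dcf7e) (nat_lit 773))
 (.node (nat_lit 0xedd784489) (.leaf (nat_lit 0xedd7843d7) (nat_lit 771))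
 (.leaf (nat_lit 0xedd784489) (nat_lit 777))
))))) (.node (nat_lit 0xeeac5cf7e) (.node (nat_lit 0xede747bf7) (.node (nat_lit 0xede744252) (.node (nat_lit 0xedd787def) (.leaf (nat_lit 0xedd787ab1) (nat_lit 777))
 (.leaf (nat_lit 0xedd787def) (nat_lit 771))
) (.node (nat_lit 0xede7445cf) (.leaf (nat_lit 0xede744252) (nat_lit 1033))
 (.leaf (nat_lit 0xede7445cf) (nat_lit 1027))
)) (.node (nat_lit 0xeeac4775e) (.node (nat_lit 0xede747c6a) (.leaf (nat_lit 0xede747bf7) (nat_lit 771))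
 (.leaf (nat_lit 0xede747c6a) (nat_lit 770))
) (.node (nat_lit 0xeeac47def) (.leaf (nat_lit 0xeeac4775e) (nat_lit 1032))
 (.node (nat_lit 0xeeac5c5cf) (.leaf (nat_lit 0xeeac47def) (nat_lit 776))
 (.leaf (nat_lit 0xeeac5c5cf) (nat_lit 770))
)))) (.node (nat_lit 0xeefddff7e) (.node (nat_lit 0xeefdc7c6a) (.node (nat_lit 0xeefdc779d) (.leaf (nat_lit 0xeeac5cf7e) (nat_lit 1032))
 (.leaf (nat_lit 0xeefdc779d) (nat_lit 513))
) (.node (nat_lit 0xeefddf489) (.leaf (nat_lit 0xeefdc7c6a) (nat_lit 1033))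
 (.leaf (nat_lit 0xeefddf489) (nat_lit 777))
)) (.node (nat_lit 0xef1a87bf7) (.node (nat_lit 0xef1a8779d) (.leaf (nat_lit 0xeefddff7e) (nat_lit 257))
 (.leaf (nat_lit 0xef1a8779d) (nat_lit 1026))
) (.node (nat_lit 0xef1a9c3d7) (.leaf (nat_lit 0xef1a87bf7) (nat_lit 776))
 (.node (nat_lit 0xef1a9cfbd) (.leaf (nat_lit 0xef1a9c3d7) (nat_lit 770))
 (.leaf (nat_lit 0xef1a9cfbd) (nat_lit 1032))
)))))) (.node (nat_lit 0xf0e578408) (.node (nat_lit 0xefef5cc6a) (.node (nat_lit 0xefdf9c5cf) (.node (nat_lit 0xef7bdf252) (.node (nat_lit 0xef7bc7ab1) (.leaf (nat_lit 0xef7bc775e) (nat_lit 517))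
 (.leaf (nat_lit 0xef7bc7ab1) (nat_lit 1029))
) (.node (nat_lit 0xef7bdffbd) (.leaf (nat_lit 0xef7bdf252) (nat_lit 771))
 (.leaf (nat_lit 0xef7bdffbd) (nat_lit 513))
)) (.node (nat_lit 0xefdf9f489) (.node (nat_lit 0xefdf9cab1) (.leaf (nat_lit 0xefdf9c5cf) (nat_lit 769))
 (.leaf (nat_lit 0xefdf9cab1) (nat_lit 1029))
) (.node (nat_lit 0xefdf9fbf7) (.leaf (nat_lit 0xefdf9f489) (nat_lit 521))
 (.node (nat_lit 0xefef5c3d7) (.leaf (nat_lit 0xefdf9fbf7) (nat_lit 515))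
 (.leaf (nat_lit 0xefef5c3d7) (nat_lit 773))
)))) (.node (nat_lit 0xf08420e7a) (.node (nat_lit 0xefef5fdef) (.node (nat_lit 0xefef5f252) (.leaf (nat_lit 0xefef5cc6a) (nat_lit 773))
 (.leaf (nat_lit 0xefef5f252) (nat_lit 777))
) (.node (nat_lit 0xf08420c6a) (.leaf (nat_lit 0xefef5fdef) (nat_lit 771))
 (.leaf (nat_lit 0xf08420c6a) (nat_lit 1030))
)) (.node (nat_lit 0xf0843875e) (.node (nat_lit 0xf0843854e) (.leaf (nat_lit 0xf08420e7a) (nat_lit 518))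
 (.leaf (nat_lit 0xf0843854e) (nat_lit 1028))
) (.node (nat_lit 0xf0e563def) (.leaf (nat_lit 0xf0843875e) (nat_lit 516))
 (.node (nat_lit 0xf0e563e7a) (.leaf (nat_lit 0xf0e563def) (nat_lit 1032))
 (.leaf (nat_lit 0xf0e563e7a) (nat_lit 1288))
))))) (.node (nat_lit 0xf153b875e) (.node (nat_lit 0xf10238395) (.node (nat_lit 0xf10220ab1) (.node (nat_lit 0xf0e57879d) (.leaf (nat_lit 0xf0e578408) (nat_lit 1032))
 (.leaf (nat_lit 0xf0e57879d) (nat_lit 1025))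
) (.node (nat_lit 0xf10220eb9) (.leaf (nat_lit 0xf10220ab1) (nat_lit 1286))
 (.leaf (nat_lit 0xf10220eb9) (nat_lit 774))
)) (.node (nat_lit 0xf153a3bf7) (.node (nat_lit 0xf1023879d) (.leaf (nat_lit 0xf10238395) (nat_lit 1284))
 (.leaf (nat_lit 0xf1023879d) (nat_lit 772))
) (.node (nat_lit 0xf153a3eb9) (.leaf (nat_lit 0xf153a3bf7) (nat_lit 1032))
 (.node (nat_lit 0xf153b8210) (.leaf (nat_lit 0xf153a3eb9) (nat_lit 1281))
 (.leaf (nat_lit 0xf153b8210) (nat_lit 776))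
)))) (.node (nat_lit 0xf1d7bbdef) (.node (nat_lit 0xf1d7b854e) (.node (nat_lit 0xf1d7b8210) (.leaf (nat_lit 0xf153b875e) (nat_lit 1032))
 (.leaf (nat_lit 0xf1d7b8210) (nat_lit 771))
) (.node (nat_lit 0xf1d7bbab1) (.leaf (nat_lit 0xf1d7b854e) (nat_lit 777))
 (.leaf (nat_lit 0xf1d7bbab1) (nat_lit 1033))
)) (.node (nat_lit 0xf1e778408) (.node (nat_lit 0xf1e778395) (.leaf (nat_lit 0xf1d7bbdef) (nat_lit 1030))
 (.leaf (nat_lit 0xf1e778395) (nat_lit 769))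
) (.node (nat_lit 0xf1e77bbf7) (.leaf (nat_lit 0xf1e778408) (nat_lit 1027))
 (.node (nat_lit 0xf1e77bc6a) (.leaf (nat_lit 0xf1e77bbf7) (nat_lit 1030))
 (.leaf (nat_lit 0xf1e77bc6a) (nat_lit 1030))
))))))) (.node (nat_lit 0xfd73e3bb5) (.node (nat_lit 0xf39ea3395) (.node (nat_lit 0xf31aa0e7a) (.node (nat_lit 0xf2fde354e) (.node (nat_lit 0xf2ac7b75e) (.node (nat_lit 0xf2ac60eb9) (.leaf (nat_lit 0xf2ac60408) (nat_lit 1032))
 (.leaf (nat_lit 0xf2ac60eb9) (nat_lit 1030))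
) (.node (nat_lit 0xf2ac7bdef) (.leaf (nat_lit 0xf2ac7b75e) (nat_lit 1288))
 (.leaf (nat_lit 0xf2ac7bdef) (nat_lit 1032))
)) (.node (nat_lit 0xf2fdfb79d) (.node (nat_lit 0xf2fde3eb9) (.leaf (nat_lit 0xf2fde354e) (nat_lit 1289))
 (.leaf (nat_lit 0xf2fde3eb9) (nat_lit 770))
) (.node (nat_lit 0xf2fdfbc6a) (.leaf (nat_lit 0xf2fdfb79d) (nat_lit 774))
 (.node (nat_lit 0xf31aa0210) (.leaf (nat_lit 0xf2fdfbc6a) (nat_lit 1284))
 (.leaf (nat_lit 0xf31aa0210) (nat_lit 776))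
)))) (.node (nat_lit 0xf37be3e7a) (.node (nat_lit 0xf31abbbf7) (.node (nat_lit 0xf31abb79d) (.leaf (nat_lit 0xf31aa0e7a) (nat_lit 1032))
 (.leaf (nat_lit 0xf31abb79d) (nat_lit 1286))
) (.node (nat_lit 0xf37be3395) (.leaf (nat_lit 0xf31abbbf7) (nat_lit 1032))
 (.leaf (nat_lit 0xf37be3395) (nat_lit 1284))
)) (.node (nat_lit 0xf37bfbab1) (.node (nat_lit 0xf37bfb75e) (.leaf (nat_lit 0xf37be3e7a) (nat_lit 772))
 (.leaf (nat_lit 0xf37bfb75e) (nat_lit 774))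
) (.node (nat_lit 0xf39ea0210) (.leaf (nat_lit 0xf37bfbab1) (nat_lit 1286))
 (.node (nat_lit 0xf39ea0c6a) (.leaf (nat_lit 0xf39ea0210) (nat_lit 774))
 (.leaf (nat_lit 0xf39ea0c6a) (nat_lit 777))
))))) (.node (nat_lit 0xfc94bb79d) (.node (nat_lit 0xf3ae6354e) (.node (nat_lit 0xf3ae60408) (.node (nat_lit 0xf39ea3def) (.leaf (nat_lit 0xf39ea3395) (nat_lit 1033))
 (.leaf (nat_lit 0xf39ea3def) (nat_lit 1027))
) (.node (nat_lit 0xf3ae60ab1) (.leaf (nat_lit 0xf3ae60408) (nat_lit 1030))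
 (.leaf (nat_lit 0xf3ae60ab1) (nat_lit 774))
)) (.node (nat_lit 0xfc94a0ceb) (.node (nat_lit 0xf3ae63bf7) (.leaf (nat_lit 0xf3ae6354e) (nat_lit 1025))
 (.leaf (nat_lit 0xf3ae63bf7) (nat_lit 1028))
) (.node (nat_lit 0xfc94a0eb9) (.leaf (nat_lit 0xfc94a0ceb) (nat_lit 774))
 (.node (nat_lit 0xfc94bb5cf) (.leaf (nat_lit 0xfc94a0eb9) (nat_lit 1030))
 (.leaf (nat_lit 0xfc94bb5cf) (nat_lit 772))
)))) (.node (nat_lit 0xfcf5fb75e) (.node (nat_lit 0xfcf5e3eb9) (.node (nat_lit 0xfcf5e3d6e) (.leaf (nat_lit 0xfc94bb79d) (nat_lit 1028))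
 (.leaf (nat_lit 0xfcf5e3d6e) (nat_lit 1289))
) (.node (nat_lit 0xfcf5fb489) (.leaf (nat_lit 0xfcf5e3eb9) (nat_lit 769))
 (.leaf (nat_lit 0xfcf5fb489) (nat_lit 1033))
)) (.node (nat_lit 0xfd2260e7a) (.node (nat_lit 0xfd2260af3) (.leaf (nat_lit 0xfcf5fb75e) (nat_lit 513))
 (.leaf (nat_lit 0xfd2260af3) (nat_lit 776))
) (.node (nat_lit 0xfd227b3d7) (.leaf (nat_lit 0xfd2260e7a) (nat_lit 1032))
 (.node (nat_lit 0xfd227b75e) (.leaf (nat_lit 0xfd227b3d7) (nat_lit 776))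
 (.leaf (nat_lit 0xfd227b75e) (nat_lit 1032))
)))))) (.node (nat_lit 0xfeed7875e) (.node (nat_lit 0xfde778d6e) (.node (nat_lit 0xfdd7b8bb5) (.node (nat_lit 0xfd73fb252) (.node (nat_lit 0xfd73e3e7a) (.leaf (nat_lit 0xfd73e3bb5) (nat_lit 1282))
 (.leaf (nat_lit 0xfd73e3e7a) (nat_lit 773))
) (.node (nat_lit 0xfd73fb79d) (.leaf (nat_lit 0xfd73fb252) (nat_lit 1027))
 (.leaf (nat_lit 0xfd73fb79d) (nat_lit 769))
)) (.node (nat_lit 0xfdd7bb3d7) (.node (nat_lit 0xfdd7b8ceb) (.leaf (nat_lit 0xfdd7b8bb5) (nat_lit 1033))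
 (.leaf (nat_lit 0xfdd7b8ceb) (nat_lit 1030))
) (.node (nat_lit 0xfdd7bb489) (.leaf (nat_lit 0xfdd7bb3d7) (nat_lit 769))
 (.node (nat_lit 0xfde778af3) (.leaf (nat_lit 0xfdd7bb489) (nat_lit 777))
 (.leaf (nat_lit 0xfde778af3) (nat_lit 1029))
)))) (.node (nat_lit 0xfebce0e7a) (.node (nat_lit 0xfde77b5cf) (.node (nat_lit 0xfde77b252) (.leaf (nat_lit 0xfde778d6e) (nat_lit 1026))
 (.leaf (nat_lit 0xfde77b252) (nat_lit 1033))
) (.node (nat_lit 0xfebce0489) (.leaf (nat_lit 0xfde77b5cf) (nat_lit 1025))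
 (.leaf (nat_lit 0xfebce0489) (nat_lit 1033))
)) (.node (nat_lit 0xfebcf8d6e) (.node (nat_lit 0xfebcf879d) (.leaf (nat_lit 0xfebce0e7a) (nat_lit 518))
 (.leaf (nat_lit 0xfebcf879d) (nat_lit 774))
) (.node (nat_lit 0xfeed635cf) (.leaf (nat_lit 0xfebcf8d6e) (nat_lit 1289))
 (.node (nat_lit 0xfeed63e7a) (.leaf (nat_lit 0xfeed635cf) (nat_lit 1026))
 (.leaf (nat_lit 0xfeed63e7a) (nat_lit 1288))
))))) (.node (nat_lit 0xff5bb8af3) (.node (nat_lit 0xff3af875e) (.node (nat_lit 0xff3ae0252) (.node (nat_lit 0xfeed78ceb) (.leaf (nat_lit 0xfeed7875e) (nat_lit 1288))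
 (.leaf (nat_lit 0xfeed78ceb) (nat_lit 1032))
) (.node (nat_lit 0xff3ae0eb9) (.leaf (nat_lit 0xff3ae0252) (nat_lit 1030))
 (.leaf (nat_lit 0xff3ae0eb9) (nat_lit 774))
)) (.node (nat_lit 0xff5ba33d7) (.node (nat_lit 0xff3af8bb5) (.leaf (nat_lit 0xff3af875e) (nat_lit 774))
 (.leaf (nat_lit 0xff3af8bb5) (nat_lit 1285))
) (.node (nat_lit 0xff5ba3eb9) (.leaf (nat_lit 0xff5ba33d7) (nat_lit 1032))
 (.node (nat_lit 0xff5bb879d) (.leaf (nat_lit 0xff5ba3eb9) (nat_lit 1288))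
 (.leaf (nat_lit 0xff5bb879d) (nat_lit 1282))
)))) (.node (nat_lit 0xff9ea3bb5) (.node (nat_lit 0xff9ea0af3) (.node (nat_lit 0xff9ea0489) (.leaf (nat_lit 0xff5bb8af3) (nat_lit 1032))
 (.leaf (nat_lit 0xff9ea0489) (nat_lit 777))
) (.node (nat_lit 0xff9ea35cf) (.leaf (nat_lit 0xff9ea0af3) (nat_lit 774))
 (.leaf (nat_lit 0xff9ea35cf) (nat_lit 1030))
)) (.node (nat_lit 0xffae60ceb) (.node (nat_lit 0xffae60252) (.leaf (nat_lit 0xff9ea3bb5) (nat_lit 1033))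
 (.leaf (nat_lit 0xffae60252) (nat_lit 1033))
) (.node (nat_lit 0xffae633d7) (.leaf (nat_lit 0xffae60ceb) (nat_lit 1030))
 (.node (nat_lit 0xffae63d6e) (.leaf (nat_lit 0xffae633d7) (nat_lit 1030))
 (.leaf (nat_lit 0xffae63d6e) (nat_lit 1029))
))))))))))

theorem g43_ok : genOK B6.A [(nat_lit 0x808404042), (nat_lit 0xeefddff7e), (nat_lit 0x82bcdfe7a), (nat_lit 0x802044408), (nat_lit 0xe0841cf7e), (nat_lit 0x80841ce7a), (nat_lit 0x910220081), (nat_lit 0x110224081), (nat_lit 0x812244408), (nat_lit 0x802044489)] g43_t (nat_lit 576) = true := by decide +kernel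

noncomputable def BE_t : ST :=
(.node (nat_lit 0x80706030405000102) (.node (nat_lit 0x80706010200030405) (.node (nat_lit 0x80706000201040305) (.node (nat_lit 0x80706000102050304) (.node (nat_lit 0x80706000102040503) (.leaf (nat_lit 0x80706000102030405) (nat_lit 1027))
 (.leaf (nat_lit 0x80706000102040503) (nat_lit 771))
) (.node (nat_lit 0x80706000201030504) (.leaf (nat_lit 0x80706000102050304) (nat_lit 1025))
 (.leaf (nat_lit 0x80706000201030504) (nat_lit 770))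
)) (.node (nat_lit 0x80706010002030504) (.node (nat_lit 0x80706000201050403) (.leaf (nat_lit 0x80706000201040305) (nat_lit 1026))
 (.leaf (nat_lit 0x80706000201050403) (nat_lit 514))
) (.node (nat_lit 0x80706010002040305) (.leaf (nat_lit 0x80706010002030504) (nat_lit 1026))
 (.node (nat_lit 0x80706010002050403) (.leaf (nat_lit 0x80706010002040305) (nat_lit 1282))
 (.leaf (nat_lit 0x80706010002050403) (nat_lit 770))
)))) (.node (nat_lit 0x80706020001040503) (.node (nat_lit 0x80706010200050304) (.node (nat_lit 0x80706010200040503) (.leaf (nat_lit 0x80706010200030405) (nat_lit 771))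
 (.leaf (nat_lit 0x80706010200040503) (nat_lit 515))
) (.node (nat_lit 0x80706020001030405) (.leaf (nat_lit 0x80706010200050304) (nat_lit 769))
 (.leaf (nat_lit 0x80706020001030405) (nat_lit 1024))
)) (.node (nat_lit 0x80706020100030504) (.node (nat_lit 0x80706020001050304) (.leaf (nat_lit 0x80706020001040503) (nat_lit 768))
 (.leaf (nat_lit 0x80706020001050304) (nat_lit 1025))
) (.node (nat_lit 0x80706020100040305) (.leaf (nat_lit 0x80706020100030504) (nat_lit 514))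
 (.node (nat_lit 0x80706020100050403) (.leaf (nat_lit 0x80706020100040305) (nat_lit 770))
 (.leaf (nat_lit 0x80706020100050403) (nat_lit 258))
))))) (.node (nat_lit 0x80706040503000102) (.node (nat_lit 0x80706030504010002) (.node (nat_lit 0x80706030405020001) (.node (nat_lit 0x80706030405010200) (.leaf (nat_lit 0x80706030405000102) (nat_lit 771))
 (.leaf (nat_lit 0x80706030405010200) (nat_lit 515))
) (.node (nat_lit 0x80706030504000201) (.leaf (nat_lit 0x80706030405020001) (nat_lit 768))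
 (.leaf (nat_lit 0x80706030504000201) (nat_lit 513))
)) (.node (nat_lit 0x80706040305000201) (.node (nat_lit 0x80706030504020100) (.leaf (nat_lit 0x80706030504010002) (nat_lit 769))
 (.leaf (nat_lit 0x80706030504020100) (nat_lit 257))
) (.node (nat_lit 0x80706040305010002) (.leaf (nat_lit 0x80706040305000201) (nat_lit 769))
 (.node (nat_lit 0x80706040305020100) (.leaf (nat_lit 0x80706040305010002) (nat_lit 1025))
 (.leaf (nat_lit 0x80706040305020100) (nat_lit 513))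
)))) (.node (nat_lit 0x80706050304010200) (.node (nat_lit 0x80706040503020001) (.node (nat_lit 0x80706040503010200) (.leaf (nat_lit 0x80706040503000102) (nat_lit 515))
 (.leaf (nat_lit 0x80706040503010200) (nat_lit 259))
) (.node (nat_lit 0x80706050304000102) (.leaf (nat_lit 0x80706040503020001) (nat_lit 512))
 (.leaf (nat_lit 0x80706050304000102) (nat_lit 769))
)) (.node (nat_lit 0x80706050403000201) (.node (nat_lit 0x80706050304020001) (.leaf (nat_lit 0x80706050304010200) (nat_lit 513))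
 (.leaf (nat_lit 0x80706050304020001) (nat_lit 769))
) (.node (nat_lit 0x80706050403010002) (.leaf (nat_lit 0x80706050403000201) (nat_lit 256))
 (.node (nat_lit 0x80706050403020100) (.leaf (nat_lit 0x80706050403010002) (nat_lit 512))
 (.leaf (nat_lit 0x80706050403020100) (nat_lit 0))
))))))

theorem BE_ok : genOK A9 [(nat_lit 0x80706050403000201), (nat_lit 0x80706030504020100), (nat_lit 0x80706020100050403), (nat_lit 0x80706040503010200)] BE_t (nat_lit 36) = true := by decide +kernel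

end Cfsg.Agent.T16
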