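import Mathlib
import Cfsg.Agent.T16.FrData
import Cfsg.Agent.Rec.Orb

/-! Generated by tools/rec: frames with N(J) = S3 wr S3 (tools/t16/x4.py) -/

set_option autoImplicit false
set_option maxRecDepth 100000
set_option linter.unusedVariables false
set_option exponentiation.threshold 100000

namespace Cfsg.Agent.T16.X4

open Cfsg.Agent.Spor Cfsg.Agent.Rec

universe u

noncomputable def cQ : List ℕ := [(nat_lit 0x80706050403000201), (nat_lit 0x80706030504020100), (nat_lit 0x60807050403020100), (nat_lit 0x20100080706050403), (nat_lit 0x80706020100050403), (nat_lit 0x80706050403010200), (nat_lit 0x80706040503020100), (nat_lit 0x70806050403020100), (nat_lit 0x50403080706020100), (nat_lit 0x20100050403080706)]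

noncomputable def U3_t : ST :=
(.node (nat_lit 0x70608040305000201) (.node (nat_lit 0x60807050403020100) (.node (nat_lit 0x60807040305000201) (.leaf (nat_lit 0x60807030504010002) (nat_lit 769))
 (.leaf (nat_lit 0x60807040305000201) (nat_lit 513))
) (.node (nat_lit 0x70608030504010002) (.leaf (nat_lit 0x60807050403020100) (nat_lit 257))
 (.leaf (nat_lit 0x70608030504010002) (nat_lit 1025))
)) (.node (nat_lit 0x80706030504010002) (.node (nat_lit 0x70608050403020100) (.leaf (nat_lit 0x70608040305000201) (nat_lit 769))
 (.leaf (nat_lit 0x70608050403020100) (nat_lit 513))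
) (.node (nat_lit 0x80706040305000201) (.leaf (nat_lit 0x80706030504010002) (nat_lit 512))
 (.node (nat_lit 0x80706050403020100) (.leaf (nat_lit 0x80706040305000201) (nat_lit 256))
 (.leaf (nat_lit 0x80706050403020100) (nat_lit 0))
))))

theorem U3_ok : genOK A9 [(nat_lit 0x80706040305000201), (nat_lit 0x60807050403020100)] U3_t (nat_lit 9) = true := by decide +kernel

noncomputable def Xb_t : ST :=
(.node (nat_lit 0x70806000201040305) (.node (nat_lit 0x60807030504010002) (.node (nat_lit 0x60708040305000201) (.node (nat_lit 0x60708020100050403) (.node (nat_lit 0x60708010002030504) (.leaf (nat_lit 0x60708000201040305) (nat_lit 1027))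
 (.leaf (nat_lit 0x60708010002030504) (nat_lit 1027))
) (.node (nat_lit 0x60708030504010002) (.leaf (nat_lit 0x60708020100050403) (nat_lit 771))
 (.leaf (nat_lit 0x60708030504010002) (nat_lit 1027))
)) (.node (nat_lit 0x60807000201040305) (.node (nat_lit 0x60708050403020100) (.leaf (nat_lit 0x60708040305000201) (nat_lit 771))
 (.leaf (nat_lit 0x60708050403020100) (nat_lit 515))
) (.node (nat_lit 0x60807010002030504) (.leaf (nat_lit 0x60807000201040305) (nat_lit 768))
 (.node (nat_lit 0x60807020100050403) (.leaf (nat_lit 0x60807010002030504) (nat_lit 770))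
 (.leaf (nat_lit 0x60807020100050403) (nat_lit 514))
)))) (.node (nat_lit 0x70608010002030504) (.node (nat_lit 0x60807050403020100) (.node (nat_lit 0x60807040305000201) (.leaf (nat_lit 0x60807030504010002) (nat_lit 769))
 (.leaf (nat_lit 0x60807040305000201) (nat_lit 513))
) (.node (nat_lit 0x70608000201040305) (.leaf (nat_lit 0x60807050403020100) (nat_lit 257))
 (.leaf (nat_lit 0x70608000201040305) (nat_lit 1024))
)) (.node (nat_lit 0x70608030504010002) (.node (nat_lit 0x70608020100050403) (.leaf (nat_lit 0x70608010002030504) (nat_lit 1026))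
 (.leaf (nat_lit 0x70608020100050403) (nat_lit 770))
) (.node (nat_lit 0x70608040305000201) (.leaf (nat_lit 0x70608030504010002) (nat_lit 1025))
 (.node (nat_lit 0x70608050403020100) (.leaf (nat_lit 0x70608040305000201) (nat_lit 769))
 (.leaf (nat_lit 0x70608050403020100) (nat_lit 513))
))))) (.node (nat_lit 0x80607030504010002) (.node (nat_lit 0x70806040305000201) (.node (nat_lit 0x70806020100050403) (.node (nat_lit 0x70806010002030504) (.leaf (nat_lit 0x70806000201040305) (nat_lit 771))
 (.leaf (nat_lit 0x70806010002030504) (nat_lit 771))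
) (.node (nat_lit 0x70806030504010002) (.leaf (nat_lit 0x70806020100050403) (nat_lit 515))
 (.leaf (nat_lit 0x70806030504010002) (nat_lit 771))
)) (.node (nat_lit 0x80607000201040305) (.node (nat_lit 0x70806050403020100) (.leaf (nat_lit 0x70806040305000201) (nat_lit 515))
 (.leaf (nat_lit 0x70806050403020100) (nat_lit 259))
) (.node (nat_lit 0x80607010002030504) (.leaf (nat_lit 0x80607000201040305) (nat_lit 1025))
 (.node (nat_lit 0x80607020100050403) (.leaf (nat_lit 0x80607010002030504) (nat_lit 1025))
 (.leaf (nat_lit 0x80607020100050403) (nat_lit 769))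
)))) (.node (nat_lit 0x80706010002030504) (.node (nat_lit 0x80607050403020100) (.node (nat_lit 0x80607040305000201) (.leaf (nat_lit 0x80607030504010002) (nat_lit 1025))
 (.leaf (nat_lit 0x80607040305000201) (nat_lit 769))
) (.node (nat_lit 0x80706000201040305) (.leaf (nat_lit 0x80607050403020100) (nat_lit 513))
 (.leaf (nat_lit 0x80706000201040305) (nat_lit 512))
)) (.node (nat_lit 0x80706030504010002) (.node (nat_lit 0x80706020100050403) (.leaf (nat_lit 0x80706010002030504) (nat_lit 514))
 (.leaf (nat_lit 0x80706020100050403) (nat_lit 258))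
) (.node (nat_lit 0x80706040305000201) (.leaf (nat_lit 0x80706030504010002) (nat_lit 512))
 (.node (nat_lit 0x80706050403020100) (.leaf (nat_lit 0x80706040305000201) (nat_lit 256))
 (.leaf (nat_lit 0x80706050403020100) (nat_lit 0))
))))))

theorem Xb_ok : genOK A9 [(nat_lit 0x80706040305000201), (nat_lit 0x60807050403020100), (nat_lit 0x80706020100050403), (nat_lit 0x70806050403020100)] Xb_t (nat_lit 36) = true := by decide +kernel

noncomputable def X3_t : ST :=
(.node (nat_lit 0x80706030405000102) (.node (nat_lit 0x80706010200030405) (.node (nat_lit 0x80706000201040503) (.node (nat_lit 0x80706000102050304) (.node (nat_lit 0x80706000102040305) (.node (nat_lit 0x80706000102030504) (.leaf (nat_lit 0x80706000102030405) (nat_lit 1284))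
 (.leaf (nat_lit 0x80706000102030504) (nat_lit 1028))
) (.node (nat_lit 0x80706000102040503) (.leaf (nat_lit 0x80706000102040305) (nat_lit 1284))
 (.leaf (nat_lit 0x80706000102040503) (nat_lit 1028))
)) (.node (nat_lit 0x80706000201030405) (.node (nat_lit 0x80706000102050403) (.leaf (nat_lit 0x80706000102050304) (nat_lit 1284))
 (.leaf (nat_lit 0x80706000102050403) (nat_lit 772))
) (.node (nat_lit 0x80706000201030504) (.leaf (nat_lit 0x80706000201030405) (nat_lit 1028))
 (.node (nat_lit 0x80706000201040305) (.leaf (nat_lit 0x80706000201030504) (nat_lit 772))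
 (.leaf (nat_lit 0x80706000201040305) (nat_lit 1028))
)))) (.node (nat_lit 0x80706010002030504) (.node (nat_lit 0x80706000201050403) (.node (nat_lit 0x80706000201050304) (.leaf (nat_lit 0x80706000201040503) (nat_lit 772))
 (.leaf (nat_lit 0x80706000201050304) (nat_lit 1028))
) (.node (nat_lit 0x80706010002030405) (.leaf (nat_lit 0x80706000201050403) (nat_lit 516))
 (.leaf (nat_lit 0x80706010002030405) (nat_lit 1284))
)) (.node (nat_lit 0x80706010002040503) (.node (nat_lit 0x80706010002040305) (.leaf (nat_lit 0x80706010002030504) (nat_lit 1028))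
 (.leaf (nat_lit 0x80706010002040305) (nat_lit 1284))
) (.node (nat_lit 0x80706010002050304) (.leaf (nat_lit 0x80706010002040503) (nat_lit 1028))
 (.node (nat_lit 0x80706010002050403) (.leaf (nat_lit 0x80706010002050304) (nat_lit 1284))
 (.leaf (nat_lit 0x80706010002050403) (nat_lit 772))
))))) (.node (nat_lit 0x80706020001040503) (.node (nat_lit 0x80706010200050304) (.node (nat_lit 0x80706010200040305) (.node (nat_lit 0x80706010200030504) (.leaf (nat_lit 0x80706010200030405) (nat_lit 1028))
 (.leaf (nat_lit 0x80706010200030504) (nat_lit 772))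
) (.node (nat_lit 0x80706010200040503) (.leaf (nat_lit 0x80706010200040305) (nat_lit 1028))
 (.leaf (nat_lit 0x80706010200040503) (nat_lit 772))
)) (.node (nat_lit 0x80706020001030405) (.node (nat_lit 0x80706010200050403) (.leaf (nat_lit 0x80706010200050304) (nat_lit 1028))
 (.leaf (nat_lit 0x80706010200050403) (nat_lit 516))
) (.node (nat_lit 0x80706020001030504) (.leaf (nat_lit 0x80706020001030405) (nat_lit 1284))
 (.node (nat_lit 0x80706020001040305) (.leaf (nat_lit 0x80706020001030504) (nat_lit 1028))
 (.leaf (nat_lit 0x80706020001040305) (nat_lit 1284))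
)))) (.node (nat_lit 0x80706020100030504) (.node (nat_lit 0x80706020001050403) (.node (nat_lit 0x80706020001050304) (.leaf (nat_lit 0x80706020001040503) (nat_lit 1028))
 (.leaf (nat_lit 0x80706020001050304) (nat_lit 1284))
) (.node (nat_lit 0x80706020100030405) (.leaf (nat_lit 0x80706020001050403) (nat_lit 772))
 (.leaf (nat_lit 0x80706020100030405) (nat_lit 772))
)) (.node (nat_lit 0x80706020100040503) (.node (nat_lit 0x80706020100040305) (.leaf (nat_lit 0x80706020100030504) (nat_lit 516))
 (.leaf (nat_lit 0x80706020100040305) (nat_lit 772))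
) (.node (nat_lit 0x80706020100050304) (.leaf (nat_lit 0x80706020100040503) (nat_lit 516))
 (.node (nat_lit 0x80706020100050403) (.leaf (nat_lit 0x80706020100050304) (nat_lit 772))
 (.leaf (nat_lit 0x80706020100050403) (nat_lit 260))
)))))) (.node (nat_lit 0x80706040503000102) (.node (nat_lit 0x80706030504010200) (.node (nat_lit 0x80706030405020001) (.node (nat_lit 0x80706030405010002) (.node (nat_lit 0x80706030405000201) (.leaf (nat_lit 0x80706030405000102) (nat_lit 1027))
 (.leaf (nat_lit 0x80706030405000201) (nat_lit 771))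
) (.node (nat_lit 0x80706030405010200) (.leaf (nat_lit 0x80706030405010002) (nat_lit 1027))
 (.leaf (nat_lit 0x80706030405010200) (nat_lit 771))
)) (.node (nat_lit 0x80706030504000102) (.node (nat_lit 0x80706030405020100) (.leaf (nat_lit 0x80706030405020001) (nat_lit 1027))
 (.leaf (nat_lit 0x80706030405020100) (nat_lit 515))
) (.node (nat_lit 0x80706030504000201) (.leaf (nat_lit 0x80706030504000102) (nat_lit 770))
 (.node (nat_lit 0x80706030504010002) (.leaf (nat_lit 0x80706030504000201) (nat_lit 513))
 (.leaf (nat_lit 0x80706030504010002) (nat_lit 769))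
)))) (.node (nat_lit 0x80706040305000201) (.node (nat_lit 0x80706030504020100) (.node (nat_lit 0x80706030504020001) (.leaf (nat_lit 0x80706030504010200) (nat_lit 514))
 (.leaf (nat_lit 0x80706030504020001) (nat_lit 768))
) (.node (nat_lit 0x80706040305000102) (.leaf (nat_lit 0x80706030504020100) (nat_lit 257))
 (.leaf (nat_lit 0x80706040305000102) (nat_lit 1026))
)) (.node (nat_lit 0x80706040305010200) (.node (nat_lit 0x80706040305010002) (.leaf (nat_lit 0x80706040305000201) (nat_lit 769))
 (.leaf (nat_lit 0x80706040305010002) (nat_lit 1025))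
) (.node (nat_lit 0x80706040305020001) (.leaf (nat_lit 0x80706040305010200) (nat_lit 770))
 (.node (nat_lit 0x80706040305020100) (.leaf (nat_lit 0x80706040305020001) (nat_lit 1024))
 (.leaf (nat_lit 0x80706040305020100) (nat_lit 513))
))))) (.node (nat_lit 0x80706050304010200) (.node (nat_lit 0x80706040503020001) (.node (nat_lit 0x80706040503010002) (.node (nat_lit 0x80706040503000201) (.leaf (nat_lit 0x80706040503000102) (nat_lit 771))
 (.leaf (nat_lit 0x80706040503000201) (nat_lit 515))
) (.node (nat_lit 0x80706040503010200) (.leaf (nat_lit 0x80706040503010002) (nat_lit 771))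
 (.leaf (nat_lit 0x80706040503010200) (nat_lit 515))
)) (.node (nat_lit 0x80706050304000102) (.node (nat_lit 0x80706040503020100) (.leaf (nat_lit 0x80706040503020001) (nat_lit 771))
 (.leaf (nat_lit 0x80706040503020100) (nat_lit 259))
) (.node (nat_lit 0x80706050304000201) (.leaf (nat_lit 0x80706050304000102) (nat_lit 1025))
 (.node (nat_lit 0x80706050304010002) (.leaf (nat_lit 0x80706050304000201) (nat_lit 769))
 (.leaf (nat_lit 0x80706050304010002) (nat_lit 1025))
)))) (.node (nat_lit 0x80706050403000201) (.node (nat_lit 0x80706050304020100) (.node (nat_lit 0x80706050304020001) (.leaf (nat_lit 0x80706050304010200) (nat_lit 769))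
 (.leaf (nat_lit 0x80706050304020001) (nat_lit 1025))
) (.node (nat_lit 0x80706050403000102) (.leaf (nat_lit 0x80706050304020100) (nat_lit 513))
 (.leaf (nat_lit 0x80706050403000102) (nat_lit 514))
)) (.node (nat_lit 0x80706050403010200) (.node (nat_lit 0x80706050403010002) (.leaf (nat_lit 0x80706050403000201) (nat_lit 256))
 (.leaf (nat_lit 0x80706050403010002) (nat_lit 512))
) (.node (nat_lit 0x80706050403020001) (.leaf (nat_lit 0x80706050403010200) (nat_lit 258))
 (.node (nat_lit 0x80706050403020100) (.leaf (nat_lit 0x80706050403020001) (nat_lit 512))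
 (.leaf (nat_lit 0x80706050403020100) (nat_lit 0))
)))))))

theorem X3_ok : genOK A9 [(nat_lit 0x80706050403000201), (nat_lit 0x80706030504020100), (nat_lit 0x80706050403010200), (nat_lit 0x80706040503020100), (nat_lit 0x80706020100050403)] X3_t (nat_lit 72) = true := by decide +kernel

noncomputable def CD_t : ST :=
(.node (nat_lit 0x80706000102030405) (.node (nat_lit 0x70806030405000102) (.node (nat_lit 0x70806010200030405) (.node (nat_lit 0x70806000201040503) (.node (nat_lit 0x70806000102050304) (.node (nat_lit 0x70806000102040305) (.node (nat_lit 0x70806000102030504) (.leaf (nat_lit 0x70806000102030405) (nat_lit 1541))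
 (.leaf (nat_lit 0x70806000102030504) (nat_lit 1285))
) (.node (nat_lit 0x70806000102040503) (.leaf (nat_lit 0x70806000102040305) (nat_lit 1541))
 (.leaf (nat_lit 0x70806000102040503) (nat_lit 1285))
)) (.node (nat_lit 0x70806000201030405) (.node (nat_lit 0x70806000102050403) (.leaf (nat_lit 0x70806000102050304) (nat_lit 1541))
 (.leaf (nat_lit 0x70806000102050403) (nat_lit 1029))
) (.node (nat_lit 0x70806000201030504) (.leaf (nat_lit 0x70806000201030405) (nat_lit 1285))
 (.node (nat_lit 0x70806000201040305) (.leaf (nat_lit 0x70806000201030504) (nat_lit 1029))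
 (.leaf (nat_lit 0x70806000201040305) (nat_lit 1285))
)))) (.node (nat_lit 0x70806010002030504) (.node (nat_lit 0x70806000201050403) (.node (nat_lit 0x70806000201050304) (.leaf (nat_lit 0x70806000201040503) (nat_lit 1029))
 (.leaf (nat_lit 0x70806000201050304) (nat_lit 1285))
) (.node (nat_lit 0x70806010002030405) (.leaf (nat_lit 0x70806000201050403) (nat_lit 773))
 (.leaf (nat_lit 0x70806010002030405) (nat_lit 1541))
)) (.node (nat_lit 0x70806010002040503) (.node (nat_lit 0x70806010002040305) (.leaf (nat_lit 0x70806010002030504) (nat_lit 1285))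
 (.leaf (nat_lit 0x70806010002040305) (nat_lit 1541))
) (.node (nat_lit 0x70806010002050304) (.leaf (nat_lit 0x70806010002040503) (nat_lit 1285))
 (.node (nat_lit 0x70806010002050403) (.leaf (nat_lit 0x70806010002050304) (nat_lit 1541))
 (.leaf (nat_lit 0x70806010002050403) (nat_lit 1029))
))))) (.node (nat_lit 0x70806020001040503) (.node (nat_lit 0x70806010200050304) (.node (nat_lit 0x70806010200040305) (.node (nat_lit 0x70806010200030504) (.leaf (nat_lit 0x70806010200030405) (nat_lit 1285))
 (.leaf (nat_lit 0x70806010200030504) (nat_lit 1029))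
) (.node (nat_lit 0x70806010200040503) (.leaf (nat_lit 0x70806010200040305) (nat_lit 1285))
 (.leaf (nat_lit 0x70806010200040503) (nat_lit 1029))
)) (.node (nat_lit 0x70806020001030405) (.node (nat_lit 0x70806010200050403) (.leaf (nat_lit 0x70806010200050304) (nat_lit 1285))
 (.leaf (nat_lit 0x70806010200050403) (nat_lit 773))
) (.node (nat_lit 0x70806020001030504) (.leaf (nat_lit 0x70806020001030405) (nat_lit 1541))
 (.node (nat_lit 0x70806020001040305) (.leaf (nat_lit 0x70806020001030504) (nat_lit 1285))
 (.leaf (nat_lit 0x70806020001040305) (nat_lit 1541))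
)))) (.node (nat_lit 0x70806020100030504) (.node (nat_lit 0x70806020001050403) (.node (nat_lit 0x70806020001050304) (.leaf (nat_lit 0x70806020001040503) (nat_lit 1285))
 (.leaf (nat_lit 0x70806020001050304) (nat_lit 1541))
) (.node (nat_lit 0x70806020100030405) (.leaf (nat_lit 0x70806020001050403) (nat_lit 1029))
 (.leaf (nat_lit 0x70806020100030405) (nat_lit 1029))
)) (.node (nat_lit 0x70806020100040503) (.node (nat_lit 0x70806020100040305) (.leaf (nat_lit 0x70806020100030504) (nat_lit 773))
 (.leaf (nat_lit 0x70806020100040305) (nat_lit 1029))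
) (.node (nat_lit 0x70806020100050304) (.leaf (nat_lit 0x70806020100040503) (nat_lit 773))
 (.node (nat_lit 0x70806020100050403) (.leaf (nat_lit 0x70806020100050304) (nat_lit 1029))
 (.leaf (nat_lit 0x70806020100050403) (nat_lit 517))
)))))) (.node (nat_lit 0x70806040503000102) (.node (nat_lit 0x70806030504010200) (.node (nat_lit 0x70806030405020001) (.node (nat_lit 0x70806030405010002) (.node (nat_lit 0x70806030405000201) (.leaf (nat_lit 0x70806030405000102) (nat_lit 1285))
 (.leaf (nat_lit 0x70806030405000201) (nat_lit 1029))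
) (.node (nat_lit 0x70806030405010200) (.leaf (nat_lit 0x70806030405010002) (nat_lit 1285))
 (.leaf (nat_lit 0x70806030405010200) (nat_lit 1029))
)) (.node (nat_lit 0x70806030504000102) (.node (nat_lit 0x70806030405020100) (.leaf (nat_lit 0x70806030405020001) (nat_lit 1285))
 (.leaf (nat_lit 0x70806030405020100) (nat_lit 773))
) (.node (nat_lit 0x70806030504000201) (.leaf (nat_lit 0x70806030504000102) (nat_lit 1029))
 (.node (nat_lit 0x70806030504010002) (.leaf (nat_lit 0x70806030504000201) (nat_lit 773))
 (.leaf (nat_lit 0x70806030504010002) (nat_lit 1029))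
)))) (.node (nat_lit 0x70806040305000201) (.node (nat_lit 0x70806030504020100) (.node (nat_lit 0x70806030504020001) (.leaf (nat_lit 0x70806030504010200) (nat_lit 773))
 (.leaf (nat_lit 0x70806030504020001) (nat_lit 1029))
) (.node (nat_lit 0x70806040305000102) (.leaf (nat_lit 0x70806030504020100) (nat_lit 517))
 (.leaf (nat_lit 0x70806040305000102) (nat_lit 1285))
)) (.node (nat_lit 0x70806040305010200) (.node (nat_lit 0x70806040305010002) (.leaf (nat_lit 0x70806040305000201) (nat_lit 1029))
 (.leaf (nat_lit 0x70806040305010002) (nat_lit 1285))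
) (.node (nat_lit 0x70806040305020001) (.leaf (nat_lit 0x70806040305010200) (nat_lit 1029))
 (.node (nat_lit 0x70806040305020100) (.leaf (nat_lit 0x70806040305020001) (nat_lit 1285))
 (.leaf (nat_lit 0x70806040305020100) (nat_lit 773))
))))) (.node (nat_lit 0x70806050304010200) (.node (nat_lit 0x70806040503020001) (.node (nat_lit 0x70806040503010002) (.node (nat_lit 0x70806040503000201) (.leaf (nat_lit 0x70806040503000102) (nat_lit 1029))
 (.leaf (nat_lit 0x70806040503000201) (nat_lit 773))
) (.node (nat_lit 0x70806040503010200) (.leaf (nat_lit 0x70806040503010002) (nat_lit 1029))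
 (.leaf (nat_lit 0x70806040503010200) (nat_lit 773))
)) (.node (nat_lit 0x70806050304000102) (.node (nat_lit 0x70806040503020100) (.leaf (nat_lit 0x70806040503020001) (nat_lit 1029))
 (.leaf (nat_lit 0x70806040503020100) (nat_lit 517))
) (.node (nat_lit 0x70806050304000201) (.leaf (nat_lit 0x70806050304000102) (nat_lit 1285))
 (.node (nat_lit 0x70806050304010002) (.leaf (nat_lit 0x70806050304000201) (nat_lit 1029))
 (.leaf (nat_lit 0x70806050304010002) (nat_lit 1285))
)))) (.node (nat_lit 0x70806050403000201) (.node (nat_lit 0x70806050304020100) (.node (nat_lit 0x70806050304020001) (.leaf (nat_lit 0x70806050304010200) (nat_lit 1029))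
 (.leaf (nat_lit 0x70806050304020001) (nat_lit 1285))
) (.node (nat_lit 0x70806050403000102) (.leaf (nat_lit 0x70806050304020100) (nat_lit 773))
 (.leaf (nat_lit 0x70806050403000102) (nat_lit 773))
)) (.node (nat_lit 0x70806050403010200) (.node (nat_lit 0x70806050403010002) (.leaf (nat_lit 0x70806050403000201) (nat_lit 517))
 (.leaf (nat_lit 0x70806050403010002) (nat_lit 773))
) (.node (nat_lit 0x70806050403020001) (.leaf (nat_lit 0x70806050403010200) (nat_lit 517))
 (.node (nat_lit 0x70806050403020100) (.leaf (nat_lit 0x70806050403020001) (nat_lit 773))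
 (.leaf (nat_lit 0x70806050403020100) (nat_lit 261))
))))))) (.node (nat_lit 0x80706030405000102) (.node (nat_lit 0x80706010200030405) (.node (nat_lit 0x80706000201040503) (.node (nat_lit 0x80706000102050304) (.node (nat_lit 0x80706000102040305) (.node (nat_lit 0x80706000102030504) (.leaf (nat_lit 0x80706000102030405) (nat_lit 1284))
 (.leaf (nat_lit 0x80706000102030504) (nat_lit 1028))
) (.node (nat_lit 0x80706000102040503) (.leaf (nat_lit 0x80706000102040305) (nat_lit 1284))
 (.leaf (nat_lit 0x80706000102040503) (nat_lit 1028))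
)) (.node (nat_lit 0x80706000201030405) (.node (nat_lit 0x80706000102050403) (.leaf (nat_lit 0x80706000102050304) (nat_lit 1284))
 (.leaf (nat_lit 0x80706000102050403) (nat_lit 772))
) (.node (nat_lit 0x80706000201030504) (.leaf (nat_lit 0x80706000201030405) (nat_lit 1028))
 (.node (nat_lit 0x80706000201040305) (.leaf (nat_lit 0x80706000201030504) (nat_lit 772))
 (.leaf (nat_lit 0x80706000201040305) (nat_lit 1028))
)))) (.node (nat_lit 0x80706010002030504) (.node (nat_lit 0x80706000201050403) (.node (nat_lit 0x80706000201050304) (.leaf (nat_lit 0x80706000201040503) (nat_lit 772))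
 (.leaf (nat_lit 0x80706000201050304) (nat_lit 1028))
) (.node (nat_lit 0x80706010002030405) (.leaf (nat_lit 0x80706000201050403) (nat_lit 516))
 (.leaf (nat_lit 0x80706010002030405) (nat_lit 1284))
)) (.node (nat_lit 0x80706010002040503) (.node (nat_lit 0x80706010002040305) (.leaf (nat_lit 0x80706010002030504) (nat_lit 1028))
 (.leaf (nat_lit 0x80706010002040305) (nat_lit 1284))
) (.node (nat_lit 0x80706010002050304) (.leaf (nat_lit 0x80706010002040503) (nat_lit 1028))
 (.node (nat_lit 0x80706010002050403) (.leaf (nat_lit 0x80706010002050304) (nat_lit 1284))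
 (.leaf (nat_lit 0x80706010002050403) (nat_lit 772))
))))) (.node (nat_lit 0x80706020001040503) (.node (nat_lit 0x80706010200050304) (.node (nat_lit 0x80706010200040305) (.node (nat_lit 0x80706010200030504) (.leaf (nat_lit 0x80706010200030405) (nat_lit 1028))
 (.leaf (nat_lit 0x80706010200030504) (nat_lit 772))
) (.node (nat_lit 0x80706010200040503) (.leaf (nat_lit 0x80706010200040305) (nat_lit 1028))
 (.leaf (nat_lit 0x80706010200040503) (nat_lit 772))
)) (.node (nat_lit 0x80706020001030405) (.node (nat_lit 0x80706010200050403) (.leaf (nat_lit 0x80706010200050304) (nat_lit 1028))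
 (.leaf (nat_lit 0x80706010200050403) (nat_lit 516))
) (.node (nat_lit 0x80706020001030504) (.leaf (nat_lit 0x80706020001030405) (nat_lit 1284))
 (.node (nat_lit 0x80706020001040305) (.leaf (nat_lit 0x80706020001030504) (nat_lit 1028))
 (.leaf (nat_lit 0x80706020001040305) (nat_lit 1284))
)))) (.node (nat_lit 0x80706020100030504) (.node (nat_lit 0x80706020001050403) (.node (nat_lit 0x80706020001050304) (.leaf (nat_lit 0x80706020001040503) (nat_lit 1028))
 (.leaf (nat_lit 0x80706020001050304) (nat_lit 1284))
) (.node (nat_lit 0x80706020100030405) (.leaf (nat_lit 0x80706020001050403) (nat_lit 772))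
 (.leaf (nat_lit 0x80706020100030405) (nat_lit 772))
)) (.node (nat_lit 0x80706020100040503) (.node (nat_lit 0x80706020100040305) (.leaf (nat_lit 0x80706020100030504) (nat_lit 516))
 (.leaf (nat_lit 0x80706020100040305) (nat_lit 772))
) (.node (nat_lit 0x80706020100050304) (.leaf (nat_lit 0x80706020100040503) (nat_lit 516))
 (.node (nat_lit 0x80706020100050403) (.leaf (nat_lit 0x80706020100050304) (nat_lit 772))
 (.leaf (nat_lit 0x80706020100050403) (nat_lit 260))
)))))) (.node (nat_lit 0x80706040503000102) (.node (nat_lit 0x80706030504010200) (.node (nat_lit 0x80706030405020001) (.node (nat_lit 0x80706030405010002) (.node (nat_lit 0x80706030405000201) (.leaf (nat_lit 0x80706030405000102) (nat_lit 1027))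
 (.leaf (nat_lit 0x80706030405000201) (nat_lit 771))
) (.node (nat_lit 0x80706030405010200) (.leaf (nat_lit 0x80706030405010002) (nat_lit 1027))
 (.leaf (nat_lit 0x80706030405010200) (nat_lit 771))
)) (.node (nat_lit 0x80706030504000102) (.node (nat_lit 0x80706030405020100) (.leaf (nat_lit 0x80706030405020001) (nat_lit 1027))
 (.leaf (nat_lit 0x80706030405020100) (nat_lit 515))
) (.node (nat_lit 0x80706030504000201) (.leaf (nat_lit 0x80706030504000102) (nat_lit 770))
 (.node (nat_lit 0x80706030504010002) (.leaf (nat_lit 0x80706030504000201) (nat_lit 513))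
 (.leaf (nat_lit 0x80706030504010002) (nat_lit 769))
)))) (.node (nat_lit 0x80706040305000201) (.node (nat_lit 0x80706030504020100) (.node (nat_lit 0x80706030504020001) (.leaf (nat_lit 0x80706030504010200) (nat_lit 514))
 (.leaf (nat_lit 0x80706030504020001) (nat_lit 768))
) (.node (nat_lit 0x80706040305000102) (.leaf (nat_lit 0x80706030504020100) (nat_lit 257))
 (.leaf (nat_lit 0x80706040305000102) (nat_lit 1026))
)) (.node (nat_lit 0x80706040305010200) (.node (nat_lit 0x80706040305010002) (.leaf (nat_lit 0x80706040305000201) (nat_lit 769))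
 (.leaf (nat_lit 0x80706040305010002) (nat_lit 1025))
) (.node (nat_lit 0x80706040305020001) (.leaf (nat_lit 0x80706040305010200) (nat_lit 770))
 (.node (nat_lit 0x80706040305020100) (.leaf (nat_lit 0x80706040305020001) (nat_lit 1024))
 (.leaf (nat_lit 0x80706040305020100) (nat_lit 513))
))))) (.node (nat_lit 0x80706050304010200) (.node (nat_lit 0x80706040503020001) (.node (nat_lit 0x80706040503010002) (.node (nat_lit 0x80706040503000201) (.leaf (nat_lit 0x80706040503000102) (nat_lit 771))
 (.leaf (nat_lit 0x80706040503000201) (nat_lit 515))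
) (.node (nat_lit 0x80706040503010200) (.leaf (nat_lit 0x80706040503010002) (nat_lit 771))
 (.leaf (nat_lit 0x80706040503010200) (nat_lit 515))
)) (.node (nat_lit 0x80706050304000102) (.node (nat_lit 0x80706040503020100) (.leaf (nat_lit 0x80706040503020001) (nat_lit 771))
 (.leaf (nat_lit 0x80706040503020100) (nat_lit 259))
) (.node (nat_lit 0x80706050304000201) (.leaf (nat_lit 0x80706050304000102) (nat_lit 1025))
 (.node (nat_lit 0x80706050304010002) (.leaf (nat_lit 0x80706050304000201) (nat_lit 769))
 (.leaf (nat_lit 0x80706050304010002) (nat_lit 1025))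
)))) (.node (nat_lit 0x80706050403000201) (.node (nat_lit 0x80706050304020100) (.node (nat_lit 0x80706050304020001) (.leaf (nat_lit 0x80706050304010200) (nat_lit 769))
 (.leaf (nat_lit 0x80706050304020001) (nat_lit 1025))
) (.node (nat_lit 0x80706050403000102) (.leaf (nat_lit 0x80706050304020100) (nat_lit 513))
 (.leaf (nat_lit 0x80706050403000102) (nat_lit 514))
)) (.node (nat_lit 0x80706050403010200) (.node (nat_lit 0x80706050403010002) (.leaf (nat_lit 0x80706050403000201) (nat_lit 256))
 (.leaf (nat_lit 0x80706050403010002) (nat_lit 512))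
) (.node (nat_lit 0x80706050403020001) (.leaf (nat_lit 0x80706050403010200) (nat_lit 258))
 (.node (nat_lit 0x80706050403020100) (.leaf (nat_lit 0x80706050403020001) (nat_lit 512))
 (.leaf (nat_lit 0x80706050403020100) (nat_lit 0))
))))))))

theorem CD_ok : genOK A9 [(nat_lit 0x80706050403000201), (nat_lit 0x80706030504020100), (nat_lit 0x80706050403010200), (nat_lit 0x80706040503020100), (nat_lit 0x80706020100050403), (nat_lit 0x70806050403020100)] CD_t (nat_lit 144) = true := by decide +kernel

noncomputable def CT_t : ST :=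
(.node (nat_lit 0x70806000102030405) (.node (nat_lit 0x60807030405000102) (.node (nat_lit 0x60708040503010200) (.node (nat_lit 0x60708020001050304) (.node (nat_lit 0x60708010002040305) (.node (nat_lit 0x60708000201030504) (.leaf (nat_lit 0x60708000102030405) (nat_lit 1284))
 (.leaf (nat_lit 0x60708000201030504) (nat_lit 1028))
) (.node (nat_lit 0x60708010200040503) (.leaf (nat_lit 0x60708010002040305) (nat_lit 1284))
 (.leaf (nat_lit 0x60708010200040503) (nat_lit 1028))
)) (.node (nat_lit 0x60708030405000102) (.node (nat_lit 0x60708020100050403) (.leaf (nat_lit 0x60708020001050304) (nat_lit 1284))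
 (.leaf (nat_lit 0x60708020100050403) (nat_lit 772))
) (.node (nat_lit 0x60708030504000201) (.leaf (nat_lit 0x60708030405000102) (nat_lit 1028))
 (.node (nat_lit 0x60708040305010002) (.leaf (nat_lit 0x60708030504000201) (nat_lit 772))
 (.leaf (nat_lit 0x60708040305010002) (nat_lit 1028))
)))) (.node (nat_lit 0x60807000201030504) (.node (nat_lit 0x60708050403020100) (.node (nat_lit 0x60708050304020001) (.leaf (nat_lit 0x60708040503010200) (nat_lit 772))
 (.leaf (nat_lit 0x60708050304020001) (nat_lit 1028))
) (.node (nat_lit 0x60807000102030405) (.leaf (nat_lit 0x60708050403020100) (nat_lit 516))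
 (.leaf (nat_lit 0x60807000102030405) (nat_lit 1027))
)) (.node (nat_lit 0x60807010200040503) (.node (nat_lit 0x60807010002040305) (.leaf (nat_lit 0x60807000201030504) (nat_lit 771))
 (.leaf (nat_lit 0x60807010002040305) (nat_lit 1027))
) (.node (nat_lit 0x60807020001050304) (.leaf (nat_lit 0x60807010200040503) (nat_lit 771))
 (.node (nat_lit 0x60807020100050403) (.leaf (nat_lit 0x60807020001050304) (nat_lit 1027))
 (.leaf (nat_lit 0x60807020100050403) (nat_lit 515))
))))) (.node (nat_lit 0x70608010200040503) (.node (nat_lit 0x60807050304020001) (.node (nat_lit 0x60807040305010002) (.node (nat_lit 0x60807030504000201) (.leaf (nat_lit 0x60807030405000102) (nat_lit 771))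
 (.leaf (nat_lit 0x60807030504000201) (nat_lit 515))
) (.node (nat_lit 0x60807040503010200) (.leaf (nat_lit 0x60807040305010002) (nat_lit 771))
 (.leaf (nat_lit 0x60807040503010200) (nat_lit 515))
)) (.node (nat_lit 0x70608000102030405) (.node (nat_lit 0x60807050403020100) (.leaf (nat_lit 0x60807050304020001) (nat_lit 771))
 (.leaf (nat_lit 0x60807050403020100) (nat_lit 259))
) (.node (nat_lit 0x70608000201030504) (.leaf (nat_lit 0x70608000102030405) (nat_lit 1283))
 (.node (nat_lit 0x70608010002040305) (.leaf (nat_lit 0x70608000201030504) (nat_lit 1027))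
 (.leaf (nat_lit 0x70608010002040305) (nat_lit 1283))
)))) (.node (nat_lit 0x70608030504000201) (.node (nat_lit 0x70608020100050403) (.node (nat_lit 0x70608020001050304) (.leaf (nat_lit 0x70608010200040503) (nat_lit 1027))
 (.leaf (nat_lit 0x70608020001050304) (nat_lit 1283))
) (.node (nat_lit 0x70608030405000102) (.leaf (nat_lit 0x70608020100050403) (nat_lit 771))
 (.leaf (nat_lit 0x70608030405000102) (nat_lit 1027))
)) (.node (nat_lit 0x70608040503010200) (.node (nat_lit 0x70608040305010002) (.leaf (nat_lit 0x70608030504000201) (nat_lit 771))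
 (.leaf (nat_lit 0x70608040305010002) (nat_lit 1027))
) (.node (nat_lit 0x70608050304020001) (.leaf (nat_lit 0x70608040503010200) (nat_lit 771))
 (.node (nat_lit 0x70608050403020100) (.leaf (nat_lit 0x70608050304020001) (nat_lit 1027))
 (.leaf (nat_lit 0x70608050403020100) (nat_lit 515))
)))))) (.node (nat_lit 0x80607030405000102) (.node (nat_lit 0x70806040503010200) (.node (nat_lit 0x70806020001050304) (.node (nat_lit 0x70806010002040305) (.node (nat_lit 0x70806000201030504) (.leaf (nat_lit 0x70806000102030405) (nat_lit 1028))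
 (.leaf (nat_lit 0x70806000201030504) (nat_lit 772))
) (.node (nat_lit 0x70806010200040503) (.leaf (nat_lit 0x70806010002040305) (nat_lit 1028))
 (.leaf (nat_lit 0x70806010200040503) (nat_lit 772))
)) (.node (nat_lit 0x70806030405000102) (.node (nat_lit 0x70806020100050403) (.leaf (nat_lit 0x70806020001050304) (nat_lit 1028))
 (.leaf (nat_lit 0x70806020100050403) (nat_lit 516))
) (.node (nat_lit 0x70806030504000201) (.leaf (nat_lit 0x70806030405000102) (nat_lit 772))
 (.node (nat_lit 0x70806040305010002) (.leaf (nat_lit 0x70806030504000201) (nat_lit 516))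
 (.leaf (nat_lit 0x70806040305010002) (nat_lit 772))
)))) (.node (nat_lit 0x80607000201030504) (.node (nat_lit 0x70806050403020100) (.node (nat_lit 0x70806050304020001) (.leaf (nat_lit 0x70806040503010200) (nat_lit 516))
 (.leaf (nat_lit 0x70806050304020001) (nat_lit 772))
) (.node (nat_lit 0x80607000102030405) (.leaf (nat_lit 0x70806050403020100) (nat_lit 260))
 (.leaf (nat_lit 0x80607000102030405) (nat_lit 1283))
)) (.node (nat_lit 0x80607010200040503) (.node (nat_lit 0x80607010002040305) (.leaf (nat_lit 0x80607000201030504) (nat_lit 1027))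
 (.leaf (nat_lit 0x80607010002040305) (nat_lit 1283))
) (.node (nat_lit 0x80607020001050304) (.leaf (nat_lit 0x80607010200040503) (nat_lit 1027))
 (.node (nat_lit 0x80607020100050403) (.leaf (nat_lit 0x80607020001050304) (nat_lit 1283))
 (.leaf (nat_lit 0x80607020100050403) (nat_lit 771))
))))) (.node (nat_lit 0x80706010200040503) (.node (nat_lit 0x80607050304020001) (.node (nat_lit 0x80607040305010002) (.node (nat_lit 0x80607030504000201) (.leaf (nat_lit 0x80607030405000102) (nat_lit 1027))
 (.leaf (nat_lit 0x80607030504000201) (nat_lit 771))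
) (.node (nat_lit 0x80607040503010200) (.leaf (nat_lit 0x80607040305010002) (nat_lit 1027))
 (.leaf (nat_lit 0x80607040503010200) (nat_lit 771))
)) (.node (nat_lit 0x80706000102030405) (.node (nat_lit 0x80607050403020100) (.leaf (nat_lit 0x80607050304020001) (nat_lit 1027))
 (.leaf (nat_lit 0x80607050403020100) (nat_lit 515))
) (.node (nat_lit 0x80706000201030504) (.leaf (nat_lit 0x80706000102030405) (nat_lit 770))
 (.node (nat_lit 0x80706010002040305) (.leaf (nat_lit 0x80706000201030504) (nat_lit 514))
 (.leaf (nat_lit 0x80706010002040305) (nat_lit 770))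
)))) (.node (nat_lit 0x80706030504000201) (.node (nat_lit 0x80706020100050403) (.node (nat_lit 0x80706020001050304) (.leaf (nat_lit 0x80706010200040503) (nat_lit 514))
 (.leaf (nat_lit 0x80706020001050304) (nat_lit 770))
) (.node (nat_lit 0x80706030405000102) (.leaf (nat_lit 0x80706020100050403) (nat_lit 258))
 (.leaf (nat_lit 0x80706030405000102) (nat_lit 513))
)) (.node (nat_lit 0x80706040503010200) (.node (nat_lit 0x80706040305010002) (.leaf (nat_lit 0x80706030504000201) (nat_lit 256))
 (.leaf (nat_lit 0x80706040305010002) (nat_lit 512))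
) (.node (nat_lit 0x80706050304020001) (.leaf (nat_lit 0x80706040503010200) (nat_lit 257))
 (.node (nat_lit 0x80706050403020100) (.leaf (nat_lit 0x80706050304020001) (nat_lit 512))
 (.leaf (nat_lit 0x80706050403020100) (nat_lit 0))
)))))))

theorem CT_ok : genOK A9 [(nat_lit 0x80706030504000201), (nat_lit 0x80706040503010200), (nat_lit 0x80706020100050403), (nat_lit 0x60807050403020100), (nat_lit 0x70806050403020100)] CT_t (nat_lit 72) = true := by decide +kernel

noncomputable def AT_t : ST :=
(.node (nat_lit 0x70608030504000201) (.node (nat_lit 0x60807040305010002) (.node (nat_lit 0x60807020100050403) (.node (nat_lit 0x60807010002040305) (.leaf (nat_lit 0x60807000201030504) (nat_lit 770))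
 (.leaf (nat_lit 0x60807010002040305) (nat_lit 1026))
) (.node (nat_lit 0x60807030504000201) (.leaf (nat_lit 0x60807020100050403) (nat_lit 514))
 (.leaf (nat_lit 0x60807030504000201) (nat_lit 513))
)) (.node (nat_lit 0x70608000201030504) (.node (nat_lit 0x60807050403020100) (.leaf (nat_lit 0x60807040305010002) (nat_lit 769))
 (.leaf (nat_lit 0x60807050403020100) (nat_lit 257))
) (.node (nat_lit 0x70608010002040305) (.leaf (nat_lit 0x70608000201030504) (nat_lit 1026))
 (.node (nat_lit 0x70608020100050403) (.leaf (nat_lit 0x70608010002040305) (nat_lit 1282))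
 (.leaf (nat_lit 0x70608020100050403) (nat_lit 770))
)))) (.node (nat_lit 0x80706010002040305) (.node (nat_lit 0x70608050403020100) (.node (nat_lit 0x70608040305010002) (.leaf (nat_lit 0x70608030504000201) (nat_lit 769))
 (.leaf (nat_lit 0x70608040305010002) (nat_lit 1025))
) (.node (nat_lit 0x80706000201030504) (.leaf (nat_lit 0x70608050403020100) (nat_lit 513))
 (.leaf (nat_lit 0x80706000201030504) (nat_lit 514))
)) (.node (nat_lit 0x80706030504000201) (.node (nat_lit 0x80706020100050403) (.leaf (nat_lit 0x80706010002040305) (nat_lit 770))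
 (.leaf (nat_lit 0x80706020100050403) (nat_lit 258))
) (.node (nat_lit 0x80706040305010002) (.leaf (nat_lit 0x80706030504000201) (nat_lit 256))
 (.node (nat_lit 0x80706050403020100) (.leaf (nat_lit 0x80706040305010002) (nat_lit 512))
 (.leaf (nat_lit 0x80706050403020100) (nat_lit 0))
)))))

theorem AT_ok : genOK A9 [(nat_lit 0x80706030504000201), (nat_lit 0x60807050403020100), (nat_lit 0x80706020100050403)] AT_t (nat_lit 18) = true := by decide +kernel

noncomputable def BD_t : ST :=
(.node (nat_lit 0x80706030504000201) (.node (nat_lit 0x70806040305010002) (.node (nat_lit 0x70806030504020100) (.node (nat_lit 0x70806030504010002) (.leaf (nat_lit 0x70806030504000201) (nat_lit 770))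
 (.leaf (nat_lit 0x70806030504010002) (nat_lit 1026))
) (.node (nat_lit 0x70806040305000201) (.leaf (nat_lit 0x70806030504020100) (nat_lit 514))
 (.leaf (nat_lit 0x70806040305000201) (nat_lit 1026))
)) (.node (nat_lit 0x70806050403000201) (.node (nat_lit 0x70806040305020100) (.leaf (nat_lit 0x70806040305010002) (nat_lit 1282))
 (.leaf (nat_lit 0x70806040305020100) (nat_lit 770))
) (.node (nat_lit 0x70806050403010002) (.leaf (nat_lit 0x70806050403000201) (nat_lit 514))
 (.node (nat_lit 0x70806050403020100) (.leaf (nat_lit 0x70806050403010002) (nat_lit 770))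
 (.leaf (nat_lit 0x70806050403020100) (nat_lit 258))
)))) (.node (nat_lit 0x80706040305010002) (.node (nat_lit 0x80706030504020100) (.node (nat_lit 0x80706030504010002) (.leaf (nat_lit 0x80706030504000201) (nat_lit 513))
 (.leaf (nat_lit 0x80706030504010002) (nat_lit 769))
) (.node (nat_lit 0x80706040305000201) (.leaf (nat_lit 0x80706030504020100) (nat_lit 257))
 (.leaf (nat_lit 0x80706040305000201) (nat_lit 769))
)) (.node (nat_lit 0x80706050403000201) (.node (nat_lit 0x80706040305020100) (.leaf (nat_lit 0x80706040305010002) (nat_lit 1025))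
 (.leaf (nat_lit 0x80706040305020100) (nat_lit 513))
) (.node (nat_lit 0x80706050403010002) (.leaf (nat_lit 0x80706050403000201) (nat_lit 256))
 (.node (nat_lit 0x80706050403020100) (.leaf (nat_lit 0x80706050403010002) (nat_lit 512))
 (.leaf (nat_lit 0x80706050403020100) (nat_lit 0))
)))))

theorem BD_ok : genOK A9 [(nat_lit 0x80706050403000201), (nat_lit 0x80706030504020100), (nat_lit 0x70806050403020100)] BD_t (nat_lit 18) = true := by decide +kernel

noncomputable def R16_t : ST :=
(.node (nat_lit 0x80706010200040503) (.node (nat_lit 0x70806040503010200) (.node (nat_lit 0x70806020100040503) (.node (nat_lit 0x70806010200050403) (.leaf (nat_lit 0x70806010200040503) (nat_lit 1027))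
 (.leaf (nat_lit 0x70806010200050403) (nat_lit 771))
) (.node (nat_lit 0x70806020100050403) (.leaf (nat_lit 0x70806020100040503) (nat_lit 771))
 (.leaf (nat_lit 0x70806020100050403) (nat_lit 515))
)) (.node (nat_lit 0x70806050403010200) (.node (nat_lit 0x70806040503020100) (.leaf (nat_lit 0x70806040503010200) (nat_lit 771))
 (.leaf (nat_lit 0x70806040503020100) (nat_lit 515))
) (.node (nat_lit 0x70806050403020100) (.leaf (nat_lit 0x70806050403010200) (nat_lit 515))
 (.leaf (nat_lit 0x70806050403020100) (nat_lit 259))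
))) (.node (nat_lit 0x80706040503010200) (.node (nat_lit 0x80706020100040503) (.node (nat_lit 0x80706010200050403) (.leaf (nat_lit 0x80706010200040503) (nat_lit 770))
 (.leaf (nat_lit 0x80706010200050403) (nat_lit 514))
) (.node (nat_lit 0x80706020100050403) (.leaf (nat_lit 0x80706020100040503) (nat_lit 514))
 (.leaf (nat_lit 0x80706020100050403) (nat_lit 258))
)) (.node (nat_lit 0x80706050403010200) (.node (nat_lit 0x80706040503020100) (.leaf (nat_lit 0x80706040503010200) (nat_lit 513))
 (.leaf (nat_lit 0x80706040503020100) (nat_lit 257))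
) (.node (nat_lit 0x80706050403020100) (.leaf (nat_lit 0x80706050403010200) (nat_lit 256))
 (.leaf (nat_lit 0x80706050403020100) (nat_lit 0))
))))

theorem R16_ok : genOK A9 [(nat_lit 0x80706050403010200), (nat_lit 0x80706040503020100), (nat_lit 0x80706020100050403), (nat_lit 0x70806050403020100)] R16_t (nat_lit 16) = true := by decide +kernel

noncomputable def W48_t : ST :=
(.node (nat_lit 0x50403010200070806) (.node (nat_lit 0x20100070806040503) (.node (nat_lit 0x10200080706040503) (.node (nat_lit 0x10200050403080706) (.node (nat_lit 0x10200040503080706) (.leaf (nat_lit 0x10200040503070806) (nat_lit 1538))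
 (.node (nat_lit 0x10200050403070806) (.leaf (nat_lit 0x10200040503080706) (nat_lit 1281))
 (.leaf (nat_lit 0x10200050403070806) (nat_lit 1026))
)) (.node (nat_lit 0x10200070806040503) (.leaf (nat_lit 0x10200050403080706) (nat_lit 768))
 (.node (nat_lit 0x10200070806050403) (.leaf (nat_lit 0x10200070806040503) (nat_lit 1794))
 (.leaf (nat_lit 0x10200070806050403) (nat_lit 770))
))) (.node (nat_lit 0x20100040503080706) (.node (nat_lit 0x10200080706050403) (.leaf (nat_lit 0x10200080706040503) (nat_lit 1536))
 (.node (nat_lit 0x20100040503070806) (.leaf (nat_lit 0x10200080706050403) (nat_lit 512))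
 (.leaf (nat_lit 0x20100040503070806) (nat_lit 1282))
)) (.node (nat_lit 0x20100050403070806) (.leaf (nat_lit 0x20100040503080706) (nat_lit 1025))
 (.node (nat_lit 0x20100050403080706) (.leaf (nat_lit 0x20100050403070806) (nat_lit 770))
 (.leaf (nat_lit 0x20100050403080706) (nat_lit 512))
)))) (.node (nat_lit 0x40503020100070806) (.node (nat_lit 0x20100080706050403) (.node (nat_lit 0x20100070806050403) (.leaf (nat_lit 0x20100070806040503) (nat_lit 1538))
 (.node (nat_lit 0x20100080706040503) (.leaf (nat_lit 0x20100070806050403) (nat_lit 514))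
 (.leaf (nat_lit 0x20100080706040503) (nat_lit 1280))
)) (.node (nat_lit 0x40503010200070806) (.leaf (nat_lit 0x20100080706050403) (nat_lit 256))
 (.node (nat_lit 0x40503010200080706) (.leaf (nat_lit 0x40503010200070806) (nat_lit 1282))
 (.leaf (nat_lit 0x40503010200080706) (nat_lit 1024))
))) (.node (nat_lit 0x40503070806020100) (.node (nat_lit 0x40503020100080706) (.leaf (nat_lit 0x40503020100070806) (nat_lit 1026))
 (.node (nat_lit 0x40503070806010200) (.leaf (nat_lit 0x40503020100080706) (nat_lit 768))
 (.leaf (nat_lit 0x40503070806010200) (nat_lit 1538))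
)) (.node (nat_lit 0x40503080706010200) (.leaf (nat_lit 0x40503070806020100) (nat_lit 1026))
 (.node (nat_lit 0x40503080706020100) (.leaf (nat_lit 0x40503080706010200) (nat_lit 1280))
 (.leaf (nat_lit 0x40503080706020100) (nat_lit 769))
))))) (.node (nat_lit 0x70806040503010200) (.node (nat_lit 0x50403080706010200) (.node (nat_lit 0x50403020100080706) (.node (nat_lit 0x50403010200080706) (.leaf (nat_lit 0x50403010200070806) (nat_lit 1026))
 (.node (nat_lit 0x50403020100070806) (.leaf (nat_lit 0x50403010200080706) (nat_lit 768))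
 (.leaf (nat_lit 0x50403020100070806) (nat_lit 770))
)) (.node (nat_lit 0x50403070806010200) (.leaf (nat_lit 0x50403020100080706) (nat_lit 512))
 (.node (nat_lit 0x50403070806020100) (.leaf (nat_lit 0x50403070806010200) (nat_lit 1282))
 (.leaf (nat_lit 0x50403070806020100) (nat_lit 770))
))) (.node (nat_lit 0x70806010200050403) (.node (nat_lit 0x50403080706020100) (.leaf (nat_lit 0x50403080706010200) (nat_lit 1024))
 (.node (nat_lit 0x70806010200040503) (.leaf (nat_lit 0x50403080706020100) (nat_lit 513))
 (.leaf (nat_lit 0x70806010200040503) (nat_lit 1794))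
)) (.node (nat_lit 0x70806020100040503) (.leaf (nat_lit 0x70806010200050403) (nat_lit 1282))
 (.node (nat_lit 0x70806020100050403) (.leaf (nat_lit 0x70806020100040503) (nat_lit 1538))
 (.leaf (nat_lit 0x70806020100050403) (nat_lit 514))
)))) (.node (nat_lit 0x80706020100040503) (.node (nat_lit 0x70806050403020100) (.node (nat_lit 0x70806040503020100) (.leaf (nat_lit 0x70806040503010200) (nat_lit 1538))
 (.node (nat_lit 0x70806050403010200) (.leaf (nat_lit 0x70806040503020100) (nat_lit 1282))
 (.leaf (nat_lit 0x70806050403010200) (nat_lit 1282))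
)) (.node (nat_lit 0x80706010200040503) (.leaf (nat_lit 0x70806050403020100) (nat_lit 258))
 (.node (nat_lit 0x80706010200050403) (.leaf (nat_lit 0x80706010200040503) (nat_lit 1537))
 (.leaf (nat_lit 0x80706010200050403) (nat_lit 1024))
))) (.node (nat_lit 0x80706040503020100) (.node (nat_lit 0x80706020100050403) (.leaf (nat_lit 0x80706020100040503) (nat_lit 1281))
 (.node (nat_lit 0x80706040503010200) (.leaf (nat_lit 0x80706020100050403) (nat_lit 257))
 (.leaf (nat_lit 0x80706040503010200) (nat_lit 1280))
)) (.node (nat_lit 0x80706050403010200) (.leaf (nat_lit 0x80706040503020100) (nat_lit 1024))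
 (.node (nat_lit 0x80706050403020100) (.leaf (nat_lit 0x80706050403010200) (nat_lit 1024))
 (.leaf (nat_lit 0x80706050403020100) (nat_lit 0))
))))))

theorem W48_ok : genOK A9 [(nat_lit 0x20100080706050403), (nat_lit 0x80706020100050403), (nat_lit 0x70806050403020100)] W48_t (nat_lit 48) = true := by decide +kernel

noncomputable def S3_t : ST :=
(.node (nat_lit 0x70806050403020100) (.node (nat_lit 0x60807050403020100) (.leaf (nat_lit 0x60708050403020100) (nat_lit 513))
 (.node (nat_lit 0x70608050403020100) (.leaf (nat_lit 0x60807050403020100) (nat_lit 256))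
 (.leaf (nat_lit 0x70608050403020100) (nat_lit 512))
)) (.node (nat_lit 0x80607050403020100) (.leaf (nat_lit 0x70806050403020100) (nat_lit 257))
 (.node (nat_lit 0x80706050403020100) (.leaf (nat_lit 0x80607050403020100) (nat_lit 512))
 (.leaf (nat_lit 0x80706050403020100) (nat_lit 0))
)))

theorem S3_ok : genOK A9 [(nat_lit 0x60807050403020100), (nat_lit 0x70806050403020100)] S3_t (nat_lit 6) = true := by decide +kernel

noncomputable def F4_t : ST :=
(.node (nat_lit 0x80706050403010200) (.node (nat_lit 0x70806050403020100) (.leaf (nat_lit 0x70806050403010200) (nat_lit 513))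
 (.leaf (nat_lit 0x70806050403020100) (nat_lit 257))
) (.node (nat_lit 0x80706050403020100) (.leaf (nat_lit 0x80706050403010200) (nat_lit 256))
 (.leaf (nat_lit 0x80706050403020100) (nat_lit 0))
))

theorem F4_ok : genOK A9 [(nat_lit 0x80706050403010200), (nat_lit 0x70806050403020100)] F4_t (nat_lit 4) = true := by decide +kernel

noncomputable def E8_t : ST :=
(.node (nat_lit 0x80706040503010200) (.node (nat_lit 0x70806050403010200) (.node (nat_lit 0x70806040503020100) (.leaf (nat_lit 0x70806040503010200) (nat_lit 770))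
 (.leaf (nat_lit 0x70806040503020100) (nat_lit 514))
) (.node (nat_lit 0x70806050403020100) (.leaf (nat_lit 0x70806050403010200) (nat_lit 514))
 (.leaf (nat_lit 0x70806050403020100) (nat_lit 258))
)) (.node (nat_lit 0x80706050403010200) (.node (nat_lit 0x80706040503020100) (.leaf (nat_lit 0x80706040503010200) (nat_lit 513))
 (.leaf (nat_lit 0x80706040503020100) (nat_lit 257))
) (.node (nat_lit 0x80706050403020100) (.leaf (nat_lit 0x80706050403010200) (nat_lit 256))
 (.leaf (nat_lit 0x80706050403020100) (nat_lit 0))
)))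

theorem E8_ok : genOK A9 [(nat_lit 0x80706050403010200), (nat_lit 0x80706040503020100), (nat_lit 0x70806050403020100)] E8_t (nat_lit 8) = true := by decide +kernel

noncomputable def mD_t : ST :=
(.node (nat_lit 0x80706040503020100) (.node (nat_lit 0x80607050403020100) (.node (nat_lit 0x70806050403020100) (.leaf (nat_lit 0x60708050403020100) (nat_lit 258))
 (.leaf (nat_lit 0x70806050403020100) (nat_lit 0))
) (.node (nat_lit 0x80706030405020100) (.leaf (nat_lit 0x80607050403020100) (nat_lit 514))
 (.leaf (nat_lit 0x80706030405020100) (nat_lit 771))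
)) (.node (nat_lit 0x80706050403000102) (.node (nat_lit 0x80706050304020100) (.leaf (nat_lit 0x80706040503020100) (nat_lit 515))
 (.leaf (nat_lit 0x80706050304020100) (nat_lit 1027))
) (.node (nat_lit 0x80706050403010200) (.leaf (nat_lit 0x80706050403000102) (nat_lit 515))
 (.node (nat_lit 0x80706050403020001) (.leaf (nat_lit 0x80706050403010200) (nat_lit 259))
 (.leaf (nat_lit 0x80706050403020001) (nat_lit 771))
))))

theorem mD_ok : orbOK A9 [(nat_lit 0x80706050403000201), (nat_lit 0x80706030504020100), (nat_lit 0x60807050403020100), (nat_lit 0x20100080706050403), (nat_lit 0x80706020100050403), (nat_lit 0x70806050403020100)] (nat_lit 0x70806050403020100) mD_t (nat_lit 9) = true := by decide +kernel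

noncomputable def mE_t : ST :=
(.node (nat_lit 0x80607040503020100) (.node (nat_lit 0x70806030405020100) (.node (nat_lit 0x60708050403000102) (.node (nat_lit 0x60708040503020100) (.leaf (nat_lit 0x60708030405020100) (nat_lit 771))
 (.node (nat_lit 0x60708050304020100) (.leaf (nat_lit 0x60708040503020100) (nat_lit 515))
 (.leaf (nat_lit 0x60708050304020100) (nat_lit 1027))
)) (.node (nat_lit 0x60708050403010200) (.leaf (nat_lit 0x60708050403000102) (nat_lit 1027))
 (.node (nat_lit 0x60708050403020001) (.leaf (nat_lit 0x60708050403010200) (nat_lit 771))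
 (.leaf (nat_lit 0x60708050403020001) (nat_lit 1284))
))) (.node (nat_lit 0x70806050403000102) (.node (nat_lit 0x70806040503020100) (.leaf (nat_lit 0x70806030405020100) (nat_lit 515))
 (.node (nat_lit 0x70806050304020100) (.leaf (nat_lit 0x70806040503020100) (nat_lit 259))
 (.leaf (nat_lit 0x70806050304020100) (nat_lit 771))
)) (.node (nat_lit 0x70806050403020001) (.node (nat_lit 0x70806050403010200) (.leaf (nat_lit 0x70806050403000102) (nat_lit 772))
 (.leaf (nat_lit 0x70806050403010200) (nat_lit 515))
) (.node (nat_lit 0x80607030405020100) (.leaf (nat_lit 0x70806050403020001) (nat_lit 1028))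
 (.leaf (nat_lit 0x80607030405020100) (nat_lit 1027))
)))) (.node (nat_lit 0x80706030405020001) (.node (nat_lit 0x80607050403010200) (.node (nat_lit 0x80607050304020100) (.leaf (nat_lit 0x80607040503020100) (nat_lit 771))
 (.node (nat_lit 0x80607050403000102) (.leaf (nat_lit 0x80607050304020100) (nat_lit 1283))
 (.leaf (nat_lit 0x80607050403000102) (nat_lit 1283))
)) (.node (nat_lit 0x80706030405000102) (.node (nat_lit 0x80607050403020001) (.leaf (nat_lit 0x80607050403010200) (nat_lit 1027))
 (.leaf (nat_lit 0x80607050403020001) (nat_lit 1539))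
) (.node (nat_lit 0x80706030405010200) (.leaf (nat_lit 0x80706030405000102) (nat_lit 513))
 (.leaf (nat_lit 0x80706030405010200) (nat_lit 257))
))) (.node (nat_lit 0x80706040503020001) (.node (nat_lit 0x80706040503000102) (.leaf (nat_lit 0x80706030405020001) (nat_lit 769))
 (.node (nat_lit 0x80706040503010200) (.leaf (nat_lit 0x80706040503000102) (nat_lit 256))
 (.leaf (nat_lit 0x80706040503010200) (nat_lit 0))
)) (.node (nat_lit 0x80706050304010200) (.node (nat_lit 0x80706050304000102) (.leaf (nat_lit 0x80706040503020001) (nat_lit 512))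
 (.leaf (nat_lit 0x80706050304000102) (nat_lit 769))
) (.node (nat_lit 0x80706050304020001) (.leaf (nat_lit 0x80706050304010200) (nat_lit 513))
 (.leaf (nat_lit 0x80706050304020001) (nat_lit 1025))
)))))

theorem mE_ok : orbOK A9 [(nat_lit 0x80706050403000201), (nat_lit 0x80706030504020100), (nat_lit 0x60807050403020100), (nat_lit 0x20100080706050403), (nat_lit 0x80706020100050403), (nat_lit 0x70806050403020100)] (nat_lit 0x80706040503010200) mE_t (nat_lit 27) = true := by decide +kernel

noncomputable def mW_t : ST :=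
(.node (nat_lit 0x70806040503010200) (.node (nat_lit 0x60708050304000102) (.node (nat_lit 0x60708040503000102) (.node (nat_lit 0x60708030405010200) (.leaf (nat_lit 0x60708030405000102) (nat_lit 770))
 (.node (nat_lit 0x60708030405020001) (.leaf (nat_lit 0x60708030405010200) (nat_lit 514))
 (.leaf (nat_lit 0x60708030405020001) (nat_lit 1026))
)) (.node (nat_lit 0x60708040503010200) (.leaf (nat_lit 0x60708040503000102) (nat_lit 514))
 (.node (nat_lit 0x60708040503020001) (.leaf (nat_lit 0x60708040503010200) (nat_lit 258))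
 (.leaf (nat_lit 0x60708040503020001) (nat_lit 770))
))) (.node (nat_lit 0x70806030405000102) (.node (nat_lit 0x60708050304010200) (.leaf (nat_lit 0x60708050304000102) (nat_lit 1026))
 (.node (nat_lit 0x60708050304020001) (.leaf (nat_lit 0x60708050304010200) (nat_lit 770))
 (.leaf (nat_lit 0x60708050304020001) (nat_lit 1282))
)) (.node (nat_lit 0x70806030405020001) (.node (nat_lit 0x70806030405010200) (.leaf (nat_lit 0x70806030405000102) (nat_lit 513))
 (.leaf (nat_lit 0x70806030405010200) (nat_lit 257))
) (.node (nat_lit 0x70806040503000102) (.leaf (nat_lit 0x70806030405020001) (nat_lit 769))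
 (.leaf (nat_lit 0x70806040503000102) (nat_lit 256))
)))) (.node (nat_lit 0x80607030405020001) (.node (nat_lit 0x70806050304010200) (.node (nat_lit 0x70806040503020001) (.leaf (nat_lit 0x70806040503010200) (nat_lit 0))
 (.node (nat_lit 0x70806050304000102) (.leaf (nat_lit 0x70806040503020001) (nat_lit 512))
 (.leaf (nat_lit 0x70806050304000102) (nat_lit 769))
)) (.node (nat_lit 0x80607030405000102) (.node (nat_lit 0x70806050304020001) (.leaf (nat_lit 0x70806050304010200) (nat_lit 513))
 (.leaf (nat_lit 0x70806050304020001) (nat_lit 1025))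
) (.node (nat_lit 0x80607030405010200) (.leaf (nat_lit 0x80607030405000102) (nat_lit 1026))
 (.leaf (nat_lit 0x80607030405010200) (nat_lit 770))
))) (.node (nat_lit 0x80607040503020001) (.node (nat_lit 0x80607040503000102) (.leaf (nat_lit 0x80607030405020001) (nat_lit 1282))
 (.node (nat_lit 0x80607040503010200) (.leaf (nat_lit 0x80607040503000102) (nat_lit 770))
 (.leaf (nat_lit 0x80607040503010200) (nat_lit 514))
)) (.node (nat_lit 0x80607050304010200) (.node (nat_lit 0x80607050304000102) (.leaf (nat_lit 0x80607040503020001) (nat_lit 1026))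
 (.leaf (nat_lit 0x80607050304000102) (nat_lit 1282))
) (.node (nat_lit 0x80607050304020001) (.leaf (nat_lit 0x80607050304010200) (nat_lit 1026))
 (.leaf (nat_lit 0x80607050304020001) (nat_lit 1538))
)))))

theorem mW_ok : orbOK A9 [(nat_lit 0x80706050403000201), (nat_lit 0x80706030504020100), (nat_lit 0x60807050403020100), (nat_lit 0x20100080706050403), (nat_lit 0x80706020100050403), (nat_lit 0x70806050403020100)] (nat_lit 0x70806040503010200) mW_t (nat_lit 27) = true := by decide +kernel

noncomputable def mT_t : ST :=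
(.node (nat_lit 0x40503070806020100) (.node (nat_lit 0x20001050403080607) (.node (nat_lit 0x10002050403060807) (.node (nat_lit 0x201050403070608) (.leaf (nat_lit 0x102050403060708) (nat_lit 1029))
 (.leaf (nat_lit 0x201050403070608) (nat_lit 772))
) (.node (nat_lit 0x10200050403070806) (.leaf (nat_lit 0x10002050403060807) (nat_lit 771))
 (.leaf (nat_lit 0x10200050403070806) (nat_lit 773))
)) (.node (nat_lit 0x30405060708020100) (.node (nat_lit 0x20100050403080706) (.leaf (nat_lit 0x20001050403080607) (nat_lit 1029))
 (.leaf (nat_lit 0x20100050403080706) (nat_lit 515))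
) (.node (nat_lit 0x30504070608020100) (.leaf (nat_lit 0x30405060708020100) (nat_lit 773))
 (.node (nat_lit 0x40305060807020100) (.leaf (nat_lit 0x30504070608020100) (nat_lit 515))
 (.leaf (nat_lit 0x40305060807020100) (nat_lit 515))
)))) (.node (nat_lit 0x80706000201040305) (.node (nat_lit 0x50403080706020100) (.node (nat_lit 0x50304080607020100) (.leaf (nat_lit 0x40503070806020100) (nat_lit 517))
 (.leaf (nat_lit 0x50304080607020100) (nat_lit 773))
) (.node (nat_lit 0x80706000102030405) (.leaf (nat_lit 0x50403080706020100) (nat_lit 259))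
 (.leaf (nat_lit 0x80706000102030405) (nat_lit 1283))
)) (.node (nat_lit 0x80706010200040503) (.node (nat_lit 0x80706010002030504) (.leaf (nat_lit 0x80706000201040305) (nat_lit 256))
 (.leaf (nat_lit 0x80706010002030504) (nat_lit 257))
) (.node (nat_lit 0x80706020001050304) (.leaf (nat_lit 0x80706010200040503) (nat_lit 1027))
 (.node (nat_lit 0x80706020100050403) (.leaf (nat_lit 0x80706020001050304) (nat_lit 1283))
 (.leaf (nat_lit 0x80706020100050403) (nat_lit 0))
)))))

theorem mT_ok : orbOK A9 [(nat_lit 0x80706050403000201), (nat_lit 0x80706030504020100), (nat_lit 0x60807050403020100), (nat_lit 0x20100080706050403), (nat_lit 0x80706020100050403), (nat_lit 0x70806050403020100)] (nat_lit 0x80706020100050403) mT_t (nat_lit 18) = true := by decide +kernel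

noncomputable def mO_t : ST :=
(.node (nat_lit 0x40503070806000102) (.node (nat_lit 0x20001040503080607) (.node (nat_lit 0x10002030405060807) (.node (nat_lit 0x201030405070608) (.node (nat_lit 0x102040503060708) (.leaf (nat_lit 0x102030405060708) (nat_lit 1285))
 (.node (nat_lit 0x102050304060708) (.leaf (nat_lit 0x102040503060708) (nat_lit 1029))
 (.leaf (nat_lit 0x102050304060708) (nat_lit 1541))
)) (.node (nat_lit 0x201040503070608) (.leaf (nat_lit 0x201030405070608) (nat_lit 1028))
 (.node (nat_lit 0x201050304070608) (.leaf (nat_lit 0x201040503070608) (nat_lit 772))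
 (.leaf (nat_lit 0x201050304070608) (nat_lit 1284))
))) (.node (nat_lit 0x10200030405070806) (.node (nat_lit 0x10002040503060807) (.leaf (nat_lit 0x10002030405060807) (nat_lit 1027))
 (.node (nat_lit 0x10002050304060807) (.leaf (nat_lit 0x10002040503060807) (nat_lit 771))
 (.leaf (nat_lit 0x10002050304060807) (nat_lit 1283))
)) (.node (nat_lit 0x10200050304070806) (.node (nat_lit 0x10200040503070806) (.leaf (nat_lit 0x10200030405070806) (nat_lit 1029))
 (.leaf (nat_lit 0x10200040503070806) (nat_lit 773))
) (.node (nat_lit 0x20001030405080607) (.leaf (nat_lit 0x10200050304070806) (nat_lit 1285))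
 (.leaf (nat_lit 0x20001030405080607) (nat_lit 1285))
)))) (.node (nat_lit 0x30405060708020001) (.node (nat_lit 0x20100040503080706) (.node (nat_lit 0x20001050304080607) (.leaf (nat_lit 0x20001040503080607) (nat_lit 1029))
 (.node (nat_lit 0x20100030405080706) (.leaf (nat_lit 0x20001050304080607) (nat_lit 1541))
 (.leaf (nat_lit 0x20100030405080706) (nat_lit 771))
)) (.node (nat_lit 0x30405060708000102) (.node (nat_lit 0x20100050304080706) (.leaf (nat_lit 0x20100040503080706) (nat_lit 515))
 (.leaf (nat_lit 0x20100050304080706) (nat_lit 1027))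
) (.node (nat_lit 0x30405060708010200) (.leaf (nat_lit 0x30405060708000102) (nat_lit 1029))
 (.leaf (nat_lit 0x30405060708010200) (nat_lit 773))
))) (.node (nat_lit 0x30504070608020001) (.node (nat_lit 0x30504070608000102) (.leaf (nat_lit 0x30405060708020001) (nat_lit 1285))
 (.node (nat_lit 0x30504070608010200) (.leaf (nat_lit 0x30504070608000102) (nat_lit 771))
 (.leaf (nat_lit 0x30504070608010200) (nat_lit 515))
)) (.node (nat_lit 0x40305060807010200) (.node (nat_lit 0x40305060807000102) (.leaf (nat_lit 0x30504070608020001) (nat_lit 1027))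
 (.leaf (nat_lit 0x40305060807000102) (nat_lit 771))
) (.node (nat_lit 0x40305060807020001) (.leaf (nat_lit 0x40305060807010200) (nat_lit 515))
 (.leaf (nat_lit 0x40305060807020001) (nat_lit 1027))
))))) (.node (nat_lit 0x60708020001050304) (.node (nat_lit 0x50403080706000102) (.node (nat_lit 0x50304080607000102) (.node (nat_lit 0x40503070806010200) (.leaf (nat_lit 0x40503070806000102) (nat_lit 773))
 (.node (nat_lit 0x40503070806020001) (.leaf (nat_lit 0x40503070806010200) (nat_lit 517))
 (.leaf (nat_lit 0x40503070806020001) (nat_lit 1029))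
)) (.node (nat_lit 0x50304080607010200) (.leaf (nat_lit 0x50304080607000102) (nat_lit 1029))
 (.node (nat_lit 0x50304080607020001) (.leaf (nat_lit 0x50304080607010200) (nat_lit 773))
 (.leaf (nat_lit 0x50304080607020001) (nat_lit 1285))
))) (.node (nat_lit 0x60708000102030405) (.node (nat_lit 0x50403080706010200) (.leaf (nat_lit 0x50403080706000102) (nat_lit 515))
 (.node (nat_lit 0x50403080706020001) (.leaf (nat_lit 0x50403080706010200) (nat_lit 259))
 (.leaf (nat_lit 0x50403080706020001) (nat_lit 771))
)) (.node (nat_lit 0x60708010002030504) (.node (nat_lit 0x60708000201040305) (.leaf (nat_lit 0x60708000102030405) (nat_lit 1539))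
 (.leaf (nat_lit 0x60708000201040305) (nat_lit 514))
) (.node (nat_lit 0x60708010200040503) (.leaf (nat_lit 0x60708010002030504) (nat_lit 514))
 (.leaf (nat_lit 0x60708010200040503) (nat_lit 1283))
)))) (.node (nat_lit 0x70806020100050403) (.node (nat_lit 0x70806000201040305) (.node (nat_lit 0x60708020100050403) (.leaf (nat_lit 0x60708020001050304) (nat_lit 1539))
 (.node (nat_lit 0x70806000102030405) (.leaf (nat_lit 0x60708020100050403) (nat_lit 258))
 (.leaf (nat_lit 0x70806000102030405) (nat_lit 1283))
)) (.node (nat_lit 0x70806010200040503) (.node (nat_lit 0x70806010002030504) (.leaf (nat_lit 0x70806000201040305) (nat_lit 256))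
 (.leaf (nat_lit 0x70806010002030504) (nat_lit 257))
) (.node (nat_lit 0x70806020001050304) (.leaf (nat_lit 0x70806010200040503) (nat_lit 1027))
 (.leaf (nat_lit 0x70806020001050304) (nat_lit 1283))
))) (.node (nat_lit 0x80607010002030504) (.node (nat_lit 0x80607000102030405) (.leaf (nat_lit 0x70806020100050403) (nat_lit 0))
 (.node (nat_lit 0x80607000201040305) (.leaf (nat_lit 0x80607000102030405) (nat_lit 1795))
 (.leaf (nat_lit 0x80607000201040305) (nat_lit 770))
)) (.node (nat_lit 0x80607020001050304) (.node (nat_lit 0x80607010200040503) (.leaf (nat_lit 0x80607010002030504) (nat_lit 770))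
 (.leaf (nat_lit 0x80607010200040503) (nat_lit 1539))
) (.node (nat_lit 0x80607020100050403) (.leaf (nat_lit 0x80607020001050304) (nat_lit 1795))
 (.leaf (nat_lit 0x80607020100050403) (nat_lit 514))
))))))

theorem mO_ok : orbOK A9 [(nat_lit 0x80706050403000201), (nat_lit 0x80706030504020100), (nat_lit 0x60807050403020100), (nat_lit 0x20100080706050403), (nat_lit 0x80706020100050403), (nat_lit 0x70806050403020100)] (nat_lit 0x70806020100050403) mO_t (nat_lit 54) = true := by decide +kernel

noncomputable def lK : List ℕ := [(nat_lit 0x80706050403000201), (nat_lit 0x80706050403010002), (nat_lit 0x80706030504020100), (nat_lit 0x80706040305020100), (nat_lit 0x60807050403020100), (nat_lit 0x70608050403020100), (nat_lit 0x80706050403010200), (nat_lit 0x80706040503020100), (nat_lit 0x70806050403020100), (nat_lit 0x80706020100050403), (nat_lit 0x80706050400020103)]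

def exX : List (List ℕ) :=
  [[6, 6],
   [7, 7],
   [8, 8],
   [9, 9],
   [6, 0, 6, 0],
   [6, 2, 6, 3],
   [6, 4, 6, 5],
   [7, 0, 7, 1],
   [7, 2, 7, 2],
   [7, 4, 7, 5],
   [8, 0, 8, 1],
   [8, 2, 8, 3],
   [8, 4, 8, 4],
   [6, 7, 6, 7],
   [6, 8, 6, 8],
   [7, 8, 7, 8],
   [9, 0, 9, 3],
   [9, 4, 9, 5],
   [9, 6, 9, 7],
   [9, 8, 9, 8]]

def exK : List (List ℕ) :=
  [[10, 10],
   [10, 6, 10, 6],
   [10, 7, 10, 7],
   [10, 0, 6, 10, 0, 6, 10, 0, 6],
   [10, 2, 7, 10, 2, 7, 10, 2, 7],
   [10, 4, 10, 5],
   [10, 8, 10, 8],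
   [9, 10, 0, 2, 10, 3, 1, 3, 1, 10, 0, 2]]

def relX : List (List ℕ) := relJ ++ exX

def relK : List (List ℕ) := relX ++ exK

noncomputable def tX_rels : LT :=
(.node (.node (.node (.node (.node (.node (.leaf [])
 (.leaf [nat_lit 9,nat_lit 8,nat_lit 9,nat_lit 8])
) (.leaf [nat_lit 2,nat_lit 4,nat_lit 3,nat_lit 5])
) (.node (.leaf [nat_lit 7,nat_lit 7])
 (.leaf [nat_lit 8,nat_lit 2,nat_lit 8,nat_lit 3])
)) (.node (.node (.leaf [nat_lit 3,nat_lit 2])
 (.leaf [nat_lit 7,nat_lit 0,nat_lit 7,nat_lit 1])
) (.node (.leaf [nat_lit 2,nat_lit 2,nat_lit 2])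
 (.leaf [nat_lit 7,nat_lit 8,nat_lit 7,nat_lit 8])
))) (.node (.node (.node (.leaf [nat_lit 1,nat_lit 0])
 (.leaf [nat_lit 6,nat_lit 2,nat_lit 6,nat_lit 3])
) (.node (.leaf [nat_lit 9,nat_lit 9])
 (.leaf [nat_lit 6,nat_lit 7,nat_lit 6,nat_lit 7])
)) (.node (.node (.leaf [nat_lit 5,nat_lit 4])
 (.leaf [nat_lit 7,nat_lit 4,nat_lit 7,nat_lit 5])
) (.node (.leaf [nat_lit 0,nat_lit 2,nat_lit 1,nat_lit 3])
 (.leaf [nat_lit 9,nat_lit 4,nat_lit 9,nat_lit 5])
)))) (.node (.node (.node (.node (.leaf [nat_lit 0,nat_lit 1])
 (.leaf [nat_lit 6,nat_lit 0,nat_lit 6,nat_lit 0])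
) (.node (.leaf [nat_lit 8,nat_lit 8])
 (.leaf [nat_lit 8,nat_lit 4,nat_lit 8,nat_lit 4])
)) (.node (.node (.leaf [nat_lit 4,nat_lit 5])
 (.leaf [nat_lit 7,nat_lit 2,nat_lit 7,nat_lit 2])
) (.node (.leaf [nat_lit 4,nat_lit 4,nat_lit 4])
 (.leaf [nat_lit 9,nat_lit 0,nat_lit 9,nat_lit 3])
))) (.node (.node (.node (.leaf [nat_lit 2,nat_lit 3])
 (.leaf [nat_lit 6,nat_lit 4,nat_lit 6,nat_lit 5])
) (.node (.leaf [nat_lit 0,nat_lit 0,nat_lit 0])
 (.leaf [nat_lit 6,nat_lit 8,nat_lit 6,nat_lit 8])
)) (.node (.node (.leaf [nat_lit 6,nat_lit 6])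
 (.leaf [nat_lit 8,nat_lit 0,nat_lit 8,nat_lit 1])
) (.node (.leaf [nat_lit 0,nat_lit 4,nat_lit 1,nat_lit 5])
 (.leaf [nat_lit 9,nat_lit 6,nat_lit 9,nat_lit 7])
)))))
noncomputable def tX_hws : LT :=
(.leaf [])

noncomputable def tX_inv : ℕ → ℕ := getP (nat_lit 8) (nat_lit 255) (nat_lit 0x9080706040502030001)

noncomputable def tX_t : BT :=
(.node (.node (.node (.node (.leaf (nat_lit 0x49128f49110e490f8d490e0c310c8b490b4a490a093108c8490787310646190505490404310303190202010101070000))
 (.leaf (nat_lit 0x8913cc8912098910870013ef000c65890c0400122e0008a20010ad000621020c4b000c2a0002e00208880206060202c3))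
) (.leaf (nat_lit 0x59130f59118e59100d590e8c410d0b590bca590a894109485908074106c6290585590484410383290282110181070080))
) (.node (.node (.leaf (nat_lit 0x12ef00116e000fed000e6c390ccb000baa000a693909080007e7390686210545000464390343210242090141070040))
 (.leaf (nat_lit 0xffe000ffe000ffe000ffe000ffe000ffe000ffe000ffe000ffe000ffe000ffe000ffe000ffe000ffe000ffe000ffe0))
) (.leaf (nat_lit 0x81134d8111ca00136f810ec7690d480011ee810ac4000d6b000eec6907036105c2000ae90007260005e50000e00200c1))
)) (.node (.node (.node (.leaf (nat_lit 0x12af00112e000fad000e2c000cab000b6a000a290008e80007a7000666000525000424000323000222000121070020))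
 (.leaf (nat_lit 0x126b0010e8000f66000de502124f000b230009e20210ce000761020f4d020dcc0003e0020b0a0209c90207470203c4))
) (.leaf (nat_lit 0x132f0011ae00102d000eac000d2b000bea000aa90009680008270006e60005a50004a40003a30002a20001a10700a0))
) (.node (.node (.leaf (nat_lit 0x5112cf51114e510fcd510e4c000ceb510b8a510a490009285107c70006a6000565510444000363000262000161070060))
 (.leaf (nat_lit 0x812b0061280061260061250061050041230041220041020041210041010040e10021200021000020e00020c0000000))
) (.leaf (nat_lit 0x71138e0013af71104a710f09790d8600106d000f2c790983710844000dab0004e10008670009a80001e00204c50201c2))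
)))

noncomputable def tX_rules : LT :=
(.node (.node (.node (.node (.node (.leaf [nat_lit 17,nat_lit 2,nat_lit 1,nat_lit 0,nat_lit 6,nat_lit 1,nat_lit 6])
 (.leaf [nat_lit 31,nat_lit 2,nat_lit 1,nat_lit 6,nat_lit 9,nat_lit 7,nat_lit 9])
) (.leaf [nat_lit 25,nat_lit 2,nat_lit 1,nat_lit 4,nat_lit 8,nat_lit 5,nat_lit 8])
) (.node (.leaf [nat_lit 21,nat_lit 2,nat_lit 1,nat_lit 2,nat_lit 7,nat_lit 3,nat_lit 7])
 (.leaf [nat_lit 26,nat_lit 1,nat_lit 1,nat_lit 6,nat_lit 7,nat_lit 6,nat_lit 7])
)) (.node (.node (.leaf [nat_lit 19,nat_lit 2,nat_lit 1,nat_lit 4,nat_lit 6,nat_lit 4,nat_lit 6])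
 (.leaf [nat_lit 29,nat_lit 0,nat_lit 1,nat_lit 3,nat_lit 9,nat_lit 1,nat_lit 9])
) (.node (.leaf [nat_lit 23,nat_lit 2,nat_lit 1,nat_lit 0,nat_lit 8,nat_lit 0,nat_lit 8])
 (.leaf [nat_lit 31,nat_lit 0,nat_lit 1,nat_lit 7,nat_lit 9,nat_lit 6,nat_lit 9])
))) (.node (.node (.node (.node (.leaf [nat_lit 18,nat_lit 2,nat_lit 1,nat_lit 2,nat_lit 6,nat_lit 2,nat_lit 6])
 (.leaf [nat_lit 32,nat_lit 2,nat_lit 1,nat_lit 8,nat_lit 9,nat_lit 8,nat_lit 9])
) (.leaf [nat_lit 29,nat_lit 2,nat_lit 1,nat_lit 0,nat_lit 9,nat_lit 2,nat_lit 9])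
) (.node (.leaf [nat_lit 22,nat_lit 2,nat_lit 1,nat_lit 4,nat_lit 7,nat_lit 4,nat_lit 7])
 (.leaf [nat_lit 27,nat_lit 1,nat_lit 1,nat_lit 6,nat_lit 8,nat_lit 6,nat_lit 8])
)) (.node (.node (.leaf [nat_lit 20,nat_lit 2,nat_lit 1,nat_lit 0,nat_lit 7,nat_lit 0,nat_lit 7])
 (.leaf [nat_lit 30,nat_lit 2,nat_lit 1,nat_lit 4,nat_lit 9,nat_lit 4,nat_lit 9])
) (.node (.leaf [nat_lit 24,nat_lit 2,nat_lit 1,nat_lit 2,nat_lit 8,nat_lit 2,nat_lit 8])
 (.leaf [nat_lit 28,nat_lit 1,nat_lit 1,nat_lit 7,nat_lit 8,nat_lit 7,nat_lit 8])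
))))

noncomputable def tX_subs : LT :=
(.leaf [nat_lit 0,nat_lit 0,nat_lit 0,nat_lit 10])


noncomputable def tX : TC :=
  ⟨fun x c => Nat.shiftRight (BT.get tX_t x) (Nat.mul (nat_lit 24) c),
  (nat_lit 5), (nat_lit 31), (nat_lit 65535), (nat_lit 16), (nat_lit 255), (nat_lit 65504), (nat_lit 16), (nat_lit 16), (nat_lit 10), (nat_lit 6), (nat_lit 10), (nat_lit 11), tX_inv, tX_rules, tX_subs⟩

theorem tX_c1 : tX.rules.all (ruleOK tX.m tX.inv tX_rels) = true := by decide +kernel
theorem tX_c2 : tX.subs.all (subOK tX.m tX.inv tX_hws) = true := by decide +kernel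
theorem tX_c3 : tX.base = true := by decide +kernel

theorem tX_s0 : tX.slots (nat_lit 0) (nat_lit 16) = true := by decide +kernel

theorem tX_c4 : tX.Upto tX.N := ((TC.upto_zero tX).step _ tX_s0)
theorem tX_c5 : tX.UptoE tX.N := (TC.uptoE_n tX)
theorem tX_bound {G : Type*} [Group G] {g : ℕ → G} {H : Subgroup G} (hinv : ∀ x < 10, g x * g (tX_inv x) = 1)
    (hrels : ∀ i, evalW g (tX_rels.get i) = 1) (hH : ∀ x < 6, g x ∈ H) (hhws : ∀ i, evalW g (tX_hws.get i) ∈ H) :
    H.relIndex (genLt g 10) ≠ 0 ∧ H.relIndex (genLt g 10) ≤ 16 :=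
  TC.relIndex_le (T := tX) hinv hrels hH hhws tX_c1 tX_c2 tX_c3 tX_c4 tX_c5

theorem tX_bd : Bound.{u} relX 6 10 16 := fun _ _ _ _ hs hH =>
  tX_bound (hs.hinv (by decide +kernel)) (hs.tree (by decide +kernel)) hH (leaf_nil_mem' _ _ (by decide +kernel))

noncomputable def tK_rels : LT :=
(.node (.node (.node (.node (.node (.node (.leaf [])
 (.leaf [nat_lit 9,nat_lit 6,nat_lit 9,nat_lit 7])
) (.leaf [nat_lit 0,nat_lit 4,nat_lit 1,nat_lit 5])
) (.node (.node (.leaf [nat_lit 7,nat_lit 7])
 (.leaf [nat_lit 9,nat_lit 10,nat_lit 0,nat_lit 2,nat_lit 10,nat_lit 3,nat_lit 1,nat_lit 3,nat_lit 1,nat_lit 10,nat_lit 0,nat_lit 2])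
) (.leaf [nat_lit 8,nat_lit 0,nat_lit 8,nat_lit 1])
)) (.node (.node (.node (.leaf [nat_lit 3,nat_lit 2])
 (.leaf [nat_lit 10,nat_lit 0,nat_lit 6,nat_lit 10,nat_lit 0,nat_lit 6,nat_lit 10,nat_lit 0,nat_lit 6])
) (.leaf [nat_lit 6,nat_lit 4,nat_lit 6,nat_lit 5])
) (.node (.leaf [nat_lit 0,nat_lit 0,nat_lit 0])
 (.leaf [nat_lit 6,nat_lit 8,nat_lit 6,nat_lit 8])
))) (.node (.node (.node (.node (.leaf [nat_lit 1,nat_lit 0])
 (.leaf [nat_lit 10,nat_lit 6,nat_lit 10,nat_lit 6])
) (.leaf [nat_lit 6,nat_lit 0,nat_lit 6,nat_lit 0])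
) (.node (.leaf [nat_lit 9,nat_lit 9])
 (.leaf [nat_lit 8,nat_lit 4,nat_lit 8,nat_lit 4])
)) (.node (.node (.node (.leaf [nat_lit 5,nat_lit 4])
 (.leaf [nat_lit 10,nat_lit 4,nat_lit 10,nat_lit 5])
) (.leaf [nat_lit 7,nat_lit 2,nat_lit 7,nat_lit 2])
) (.node (.leaf [nat_lit 4,nat_lit 4,nat_lit 4])
 (.leaf [nat_lit 9,nat_lit 0,nat_lit 9,nat_lit 3])
)))) (.node (.node (.node (.node (.node (.leaf [nat_lit 0,nat_lit 1])
 (.leaf [nat_lit 9,nat_lit 8,nat_lit 9,nat_lit 8])
) (.leaf [nat_lit 2,nat_lit 4,nat_lit 3,nat_lit 5])
) (.node (.leaf [nat_lit 8,nat_lit 8])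
 (.leaf [nat_lit 8,nat_lit 2,nat_lit 8,nat_lit 3])
)) (.node (.node (.node (.leaf [nat_lit 4,nat_lit 5])
 (.leaf [nat_lit 10,nat_lit 2,nat_lit 7,nat_lit 10,nat_lit 2,nat_lit 7,nat_lit 10,nat_lit 2,nat_lit 7])
) (.leaf [nat_lit 7,nat_lit 0,nat_lit 7,nat_lit 1])
) (.node (.leaf [nat_lit 2,nat_lit 2,nat_lit 2])
 (.leaf [nat_lit 7,nat_lit 8,nat_lit 7,nat_lit 8])
))) (.node (.node (.node (.node (.leaf [nat_lit 2,nat_lit 3])
 (.leaf [nat_lit 10,nat_lit 7,nat_lit 10,nat_lit 7])
) (.leaf [nat_lit 6,nat_lit 2,nat_lit 6,nat_lit 3])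
) (.node (.leaf [nat_lit 10,nat_lit 10])
 (.leaf [nat_lit 6,nat_lit 7,nat_lit 6,nat_lit 7])
)) (.node (.node (.node (.leaf [nat_lit 6,nat_lit 6])
 (.leaf [nat_lit 10,nat_lit 8,nat_lit 10,nat_lit 8])
) (.leaf [nat_lit 7,nat_lit 4,nat_lit 7,nat_lit 5])
) (.node (.leaf [nat_lit 0,nat_lit 2,nat_lit 1,nat_lit 3])
 (.leaf [nat_lit 9,nat_lit 4,nat_lit 9,nat_lit 5])
)))))
noncomputable def tK_hws : LT :=
(.leaf [])

noncomputable def tK_inv : ℕ → ℕ := getP (nat_lit 8) (nat_lit 255) (nat_lit 0xa09080706040502030001)

noncomputable def tK_t : BT :=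
(.node (.node (.node (.node (.leaf (nat_lit 0x1ff80003ff007c8b828f114440002f9200050200008638000e860000c020001a0c0102210070000))
 (.leaf (nat_lit 0x1ff80003ff00588cc488115c8162240e2043d185886428810a040c210060c416080c82008070200))
) (.node (.leaf (nat_lit 0x1ff80003ff00000c2487114c8000228e1c43b180005c287109440000e0608413080081c08070100))
 (.leaf (nat_lit 0x104820030908006061800c083001818400302080040608008081001008200200040021400000000))
)) (.node (.node (.leaf (nat_lit 0x2614003ff00000b2180016c90001f84000411c0005408000b05004269000837180104620070080))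
 (.leaf (nat_lit 0x1ff80003ff00000d030001cc71d2391036467246086628890d040d210860e422080001600020281))
) (.leaf (nat_lit 0x1ff80003ff00508c438791546000319200056205085e287909c40a20e840001e0c0481808070180))
)) (.node (.node (.node (.leaf (nat_lit 0x1ff80003ff00708bc38c913c61c2210a3243910000ba480014880820c8400012040102e18070040))
 (.leaf (nat_lit 0x1b020004a08808d848d11bc7000381034471185c8da18541ac2000370a00849280106a58070240))
) (.leaf (nat_lit 0x1ff80003ff004c8c048001508132220e0003c184c85a280009840920d8600014080001e08070140))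
) (.node (.node (.leaf (nat_lit 0x1ff804244b2c488b440001383122200c000380848856200009010042c120083e1c01052280700c0))
 (.leaf (nat_lit 0x22634831746a10007fe0000ffc0001ff80003ff00007fe0000ffc0001ff80003ff00007fe0000ffc0))
) (.leaf (nat_lit 0x1ff80003ff00548c840001949152230c000471c5486020000c450b20f860a415080881a080701c0))
)))

noncomputable def tK_rules : LT :=
(.node (.node (.node (.node (.node (.node (.leaf [nat_lit 38,nat_lit 2,nat_lit 1,nat_lit 4,nat_lit 10,nat_lit 4,nat_lit 10])
 (.leaf [nat_lit 40,nat_lit 0,nat_lit 0,nat_lit 9,nat_lit 10,nat_lit 0,nat_lit 2,nat_lit 10,nat_lit 3,nat_lit 1,nat_lit 3,nat_lit 1,nat_lit 10,nat_lit 0,nat_lit 2])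
) (.leaf [nat_lit 25,nat_lit 1,nat_lit 1,nat_lit 8,nat_lit 3,nat_lit 8,nat_lit 2])
) (.node (.leaf [nat_lit 12,nat_lit 1,nat_lit 0,nat_lit 1,nat_lit 0,nat_lit 0])
 (.leaf [nat_lit 37,nat_lit 6,nat_lit 0,nat_lit 10,nat_lit 2,nat_lit 7,nat_lit 10,nat_lit 2,nat_lit 7,nat_lit 10,nat_lit 2,nat_lit 7])
)) (.node (.node (.leaf [nat_lit 16,nat_lit 2,nat_lit 1,nat_lit 4,nat_lit 1,nat_lit 4,nat_lit 0])
 (.leaf [nat_lit 19,nat_lit 3,nat_lit 1,nat_lit 6,nat_lit 2,nat_lit 6,nat_lit 3])
) (.node (.leaf [nat_lit 24,nat_lit 3,nat_lit 1,nat_lit 8,nat_lit 0,nat_lit 8,nat_lit 1])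
 (.leaf [nat_lit 15,nat_lit 0,nat_lit 0,nat_lit 1,nat_lit 2,nat_lit 1,nat_lit 3])
))) (.node (.node (.node (.node (.leaf [nat_lit 35,nat_lit 2,nat_lit 1,nat_lit 7,nat_lit 10,nat_lit 7,nat_lit 10])
 (.leaf [nat_lit 40,nat_lit 11,nat_lit 1,nat_lit 11,nat_lit 9,nat_lit 3,nat_lit 1,nat_lit 10,nat_lit 0,nat_lit 2,nat_lit 0,nat_lit 2,nat_lit 10,nat_lit 3,nat_lit 1,nat_lit 10])
) (.leaf [nat_lit 13,nat_lit 1,nat_lit 0,nat_lit 3,nat_lit 2,nat_lit 2])
) (.node (.leaf [nat_lit 18,nat_lit 2,nat_lit 0,nat_lit 6,nat_lit 0,nat_lit 6,nat_lit 0])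
 (.leaf [nat_lit 30,nat_lit 3,nat_lit 1,nat_lit 9,nat_lit 2,nat_lit 9,nat_lit 1])
)) (.node (.node (.leaf [nat_lit 24,nat_lit 1,nat_lit 1,nat_lit 8,nat_lit 1,nat_lit 8,nat_lit 0])
 (.leaf [nat_lit 25,nat_lit 3,nat_lit 1,nat_lit 8,nat_lit 2,nat_lit 8,nat_lit 3])
) (.node (.leaf [nat_lit 17,nat_lit 2,nat_lit 1,nat_lit 4,nat_lit 3,nat_lit 4,nat_lit 2])
 (.leaf [nat_lit 15,nat_lit 2,nat_lit 0,nat_lit 0,nat_lit 3,nat_lit 0,nat_lit 2])
)))) (.node (.node (.node (.node (.node (.leaf [nat_lit 34,nat_lit 2,nat_lit 1,nat_lit 6,nat_lit 10,nat_lit 6,nat_lit 10])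
 (.leaf [nat_lit 30,nat_lit 0,nat_lit 1,nat_lit 3,nat_lit 9,nat_lit 1,nat_lit 9])
) (.leaf [nat_lit 35,nat_lit 1,nat_lit 1,nat_lit 10,nat_lit 7,nat_lit 10,nat_lit 7])
) (.node (.leaf [nat_lit 16,nat_lit 0,nat_lit 1,nat_lit 5,nat_lit 0,nat_lit 5,nat_lit 1])
 (.leaf [nat_lit 15,nat_lit 1,nat_lit 1,nat_lit 1,nat_lit 3,nat_lit 1,nat_lit 2])
)) (.node (.node (.leaf [nat_lit 21,nat_lit 1,nat_lit 1,nat_lit 7,nat_lit 1,nat_lit 7,nat_lit 0])
 (.leaf [nat_lit 22,nat_lit 2,nat_lit 0,nat_lit 7,nat_lit 2,nat_lit 7,nat_lit 2])
) (.node (.leaf [nat_lit 36,nat_lit 6,nat_lit 0,nat_lit 10,nat_lit 0,nat_lit 6,nat_lit 10,nat_lit 0,nat_lit 6,nat_lit 10,nat_lit 0,nat_lit 6])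
 (.leaf [nat_lit 40,nat_lit 10,nat_lit 1,nat_lit 10,nat_lit 9,nat_lit 3,nat_lit 1,nat_lit 10,nat_lit 0,nat_lit 2,nat_lit 0,nat_lit 2,nat_lit 10,nat_lit 3,nat_lit 1])
))) (.node (.node (.node (.leaf [nat_lit 39,nat_lit 2,nat_lit 1,nat_lit 8,nat_lit 10,nat_lit 8,nat_lit 10])
 (.leaf [nat_lit 17,nat_lit 0,nat_lit 1,nat_lit 5,nat_lit 2,nat_lit 5,nat_lit 3])
) (.node (.leaf [nat_lit 21,nat_lit 3,nat_lit 1,nat_lit 7,nat_lit 0,nat_lit 7,nat_lit 1])
 (.leaf [nat_lit 40,nat_lit 7,nat_lit 1,nat_lit 10,nat_lit 3,nat_lit 1,nat_lit 10,nat_lit 9,nat_lit 3,nat_lit 1,nat_lit 10,nat_lit 0,nat_lit 2,nat_lit 0,nat_lit 2])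
)) (.node (.node (.leaf [nat_lit 34,nat_lit 1,nat_lit 1,nat_lit 10,nat_lit 6,nat_lit 10,nat_lit 6])
 (.leaf [nat_lit 30,nat_lit 1,nat_lit 1,nat_lit 9,nat_lit 1,nat_lit 9,nat_lit 2])
) (.node (.leaf [nat_lit 19,nat_lit 1,nat_lit 1,nat_lit 6,nat_lit 3,nat_lit 6,nat_lit 2])
 (.leaf [nat_lit 15,nat_lit 3,nat_lit 1,nat_lit 0,nat_lit 2,nat_lit 0,nat_lit 3])
)))))

noncomputable def tK_subs : LT :=
(.leaf [nat_lit 0,nat_lit 0,nat_lit 0,nat_lit 11])


noncomputable def tK : TC :=
  ⟨fun x c => Nat.shiftRight (BT.get tK_t x) (Nat.mul (nat_lit 27) c),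
  (nat_lit 6), (nat_lit 63), (nat_lit 65535), (nat_lit 16), (nat_lit 2047), (nat_lit 65472), (nat_lit 10), (nat_lit 12), (nat_lit 11), (nat_lit 10), (nat_lit 11), (nat_lit 12), tK_inv, tK_rules, tK_subs⟩

theorem tK_c1 : tK.rules.all (ruleOK tK.m tK.inv tK_rels) = true := by decide +kernel
theorem tK_c2 : tK.subs.all (subOK tK.m tK.inv tK_hws) = true := by decide +kernel
theorem tK_c3 : tK.base = true := by decide +kernel

theorem tK_s0 : tK.slots (nat_lit 0) (nat_lit 12) = true := by decide +kernel

theorem tK_e0 : allRange (nat_lit 10) (nat_lit 2) tK.slotE = true := by decide +kernel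

theorem tK_c4 : tK.Upto tK.N := ((TC.upto_zero tK).step _ tK_s0)
theorem tK_c5 : tK.UptoE tK.N := ((TC.uptoE_n tK).step _ tK_e0)
theorem tK_bound {G : Type*} [Group G] {g : ℕ → G} {H : Subgroup G} (hinv : ∀ x < 11, g x * g (tK_inv x) = 1)
    (hrels : ∀ i, evalW g (tK_rels.get i) = 1) (hH : ∀ x < 10, g x ∈ H) (hhws : ∀ i, evalW g (tK_hws.get i) ∈ H) :
    H.relIndex (genLt g 11) ≠ 0 ∧ H.relIndex (genLt g 11) ≤ 10 :=
  TC.relIndex_le (T := tK) hinv hrels hH hhws tK_c1 tK_c2 tK_c3 tK_c4 tK_c5

theorem tK_bd : Bound.{u} relK 10 11 10 := fun _ _ _ _ hs hH =>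
  tK_bound (hs.hinv (by decide +kernel)) (hs.tree (by decide +kernel)) hH (leaf_nil_mem' _ _ (by decide +kernel))

theorem presX : Pres.{u} relX 10 432 := presJ.step tX_bd (by decide +kernel)

theorem presK : Pres.{u} relK 11 4320 := presX.step tK_bd (by decide +kernel)

theorem lK_ok : allL lK (permOK 9) = true := by decide +kernel

theorem relK_ok : allL relK (fun w => Nat.beq (evC A9 lK w) A9.one) = true := by decide +kernel

noncomputable def cK : List ℕ := [(nat_lit 0x80706050403000201), (nat_lit 0x80706030504020100), (nat_lit 0x60807050403020100), (nat_lit 0x80706050403010200), (nat_lit 0x80706040503020100), (nat_lit 0x70806050403020100), (nat_lit 0x80706020100050403), (nat_lit 0x80706050400020103)]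

noncomputable def N3_t : ST :=
(.node (nat_lit 0x70806000102030405) (.node (nat_lit 0x60807030001020405) (.node (nat_lit 0x60708040203000105) (.node (nat_lit 0x60708020103000405) (.node (nat_lit 0x60708010004030502) (.node (nat_lit 0x60708000305010402) (.node (nat_lit 0x60708000203040501) (.node (nat_lit 0x60708000104050203) (.node (nat_lit 0x60708000103040205) (.node (nat_lit 0x60708000102050304) (.node (nat_lit 0x60708000102040305) (.node (nat_lit 0x60708000102030504) (.leaf (nat_lit 0x60708000102030405) (nat_lit 1801))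
 (.leaf (nat_lit 0x60708000102030504) (nat_lit 1545))
) (.node (nat_lit 0x60708000102040503) (.leaf (nat_lit 0x60708000102040305) (nat_lit 1545))
 (.leaf (nat_lit 0x60708000102040503) (nat_lit 1545))
)) (.node (nat_lit 0x60708000103020405) (.node (nat_lit 0x60708000102050403) (.leaf (nat_lit 0x60708000102050304) (nat_lit 1801))
 (.leaf (nat_lit 0x60708000102050403) (nat_lit 1289))
) (.node (nat_lit 0x60708000103020504) (.leaf (nat_lit 0x60708000103020405) (nat_lit 2049))
 (.leaf (nat_lit 0x60708000103020504) (nat_lit 1793))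
))) (.node (nat_lit 0x60708000104020305) (.node (nat_lit 0x60708000103050204) (.node (nat_lit 0x60708000103040502) (.leaf (nat_lit 0x60708000103040205) (nat_lit 1793))
 (.leaf (nat_lit 0x60708000103040502) (nat_lit 1793))
) (.node (nat_lit 0x60708000103050402) (.leaf (nat_lit 0x60708000103050204) (nat_lit 2049))
 (.leaf (nat_lit 0x60708000103050402) (nat_lit 1537))
)) (.node (nat_lit 0x60708000104030205) (.node (nat_lit 0x60708000104020503) (.leaf (nat_lit 0x60708000104020305) (nat_lit 2050))
 (.leaf (nat_lit 0x60708000104020503) (nat_lit 2058))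
) (.node (nat_lit 0x60708000104030502) (.leaf (nat_lit 0x60708000104030205) (nat_lit 1802))
 (.leaf (nat_lit 0x60708000104030502) (nat_lit 1794))
)))) (.node (nat_lit 0x60708000201030405) (.node (nat_lit 0x60708000105030204) (.node (nat_lit 0x60708000105020304) (.node (nat_lit 0x60708000104050302) (.leaf (nat_lit 0x60708000104050203) (nat_lit 2050))
 (.leaf (nat_lit 0x60708000104050302) (nat_lit 2058))
) (.node (nat_lit 0x60708000105020403) (.leaf (nat_lit 0x60708000105020304) (nat_lit 2048))
 (.leaf (nat_lit 0x60708000105020403) (nat_lit 2051))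
)) (.node (nat_lit 0x60708000105040203) (.node (nat_lit 0x60708000105030402) (.leaf (nat_lit 0x60708000105030204) (nat_lit 2051))
 (.leaf (nat_lit 0x60708000105030402) (nat_lit 2051))
) (.node (nat_lit 0x60708000105040302) (.leaf (nat_lit 0x60708000105040203) (nat_lit 2050))
 (.leaf (nat_lit 0x60708000105040302) (nat_lit 1795))
))) (.node (nat_lit 0x60708000201050304) (.node (nat_lit 0x60708000201040305) (.node (nat_lit 0x60708000201030504) (.leaf (nat_lit 0x60708000201030405) (nat_lit 1545))
 (.leaf (nat_lit 0x60708000201030504) (nat_lit 1289))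
) (.node (nat_lit 0x60708000201040503) (.leaf (nat_lit 0x60708000201040305) (nat_lit 1289))
 (.leaf (nat_lit 0x60708000201040503) (nat_lit 1289))
)) (.node (nat_lit 0x60708000203010405) (.node (nat_lit 0x60708000201050403) (.leaf (nat_lit 0x60708000201050304) (nat_lit 1545))
 (.leaf (nat_lit 0x60708000201050403) (nat_lit 1033))
) (.node (nat_lit 0x60708000203010504) (.leaf (nat_lit 0x60708000203010405) (nat_lit 1792))
 (.node (nat_lit 0x60708000203040105) (.leaf (nat_lit 0x60708000203010504) (nat_lit 1536))
 (.leaf (nat_lit 0x60708000203040105) (nat_lit 1536))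
)))))) (.node (nat_lit 0x60708000301040205) (.node (nat_lit 0x60708000204050301) (.node (nat_lit 0x60708000204010503) (.node (nat_lit 0x60708000203050401) (.node (nat_lit 0x60708000203050104) (.leaf (nat_lit 0x60708000203040501) (nat_lit 1536))
 (.leaf (nat_lit 0x60708000203050104) (nat_lit 1792))
) (.node (nat_lit 0x60708000204010305) (.leaf (nat_lit 0x60708000203050401) (nat_lit 1280))
 (.leaf (nat_lit 0x60708000204010305) (nat_lit 1794))
)) (.node (nat_lit 0x60708000204030501) (.node (nat_lit 0x60708000204030105) (.leaf (nat_lit 0x60708000204010503) (nat_lit 1792))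
 (.leaf (nat_lit 0x60708000204030105) (nat_lit 2048))
) (.node (nat_lit 0x60708000204050103) (.leaf (nat_lit 0x60708000204030501) (nat_lit 1538))
 (.leaf (nat_lit 0x60708000204050103) (nat_lit 1794))
))) (.node (nat_lit 0x60708000205030401) (.node (nat_lit 0x60708000205010403) (.node (nat_lit 0x60708000205010304) (.leaf (nat_lit 0x60708000204050301) (nat_lit 1794))
 (.leaf (nat_lit 0x60708000205010304) (nat_lit 2051))
) (.node (nat_lit 0x60708000205030104) (.leaf (nat_lit 0x60708000205010403) (nat_lit 1795))
 (.leaf (nat_lit 0x60708000205030104) (nat_lit 1795))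
)) (.node (nat_lit 0x60708000205040301) (.node (nat_lit 0x60708000205040103) (.leaf (nat_lit 0x60708000205030401) (nat_lit 1795))
 (.leaf (nat_lit 0x60708000205040103) (nat_lit 1792))
) (.node (nat_lit 0x60708000301020405) (.leaf (nat_lit 0x60708000205040301) (nat_lit 1539))
 (.node (nat_lit 0x60708000301020504) (.leaf (nat_lit 0x60708000301020405) (nat_lit 2049))
 (.leaf (nat_lit 0x60708000301020504) (nat_lit 1793))
))))) (.node (nat_lit 0x60708000302050104) (.node (nat_lit 0x60708000302010405) (.node (nat_lit 0x60708000301050204) (.node (nat_lit 0x60708000301040502) (.leaf (nat_lit 0x60708000301040205) (nat_lit 1793))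
 (.leaf (nat_lit 0x60708000301040502) (nat_lit 1793))
) (.node (nat_lit 0x60708000301050402) (.leaf (nat_lit 0x60708000301050204) (nat_lit 2049))
 (.leaf (nat_lit 0x60708000301050402) (nat_lit 1537))
)) (.node (nat_lit 0x60708000302040105) (.node (nat_lit 0x60708000302010504) (.leaf (nat_lit 0x60708000302010405) (nat_lit 1794))
 (.leaf (nat_lit 0x60708000302010504) (nat_lit 2058))
) (.node (nat_lit 0x60708000302040501) (.leaf (nat_lit 0x60708000302040105) (nat_lit 2058))
 (.leaf (nat_lit 0x60708000302040501) (nat_lit 2050))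
))) (.node (nat_lit 0x60708000304020105) (.node (nat_lit 0x60708000304010205) (.node (nat_lit 0x60708000302050401) (.leaf (nat_lit 0x60708000302050104) (nat_lit 2050))
 (.leaf (nat_lit 0x60708000302050401) (nat_lit 1802))
) (.node (nat_lit 0x60708000304010502) (.leaf (nat_lit 0x60708000304010205) (nat_lit 1795))
 (.leaf (nat_lit 0x60708000304010502) (nat_lit 1795))
)) (.node (nat_lit 0x60708000304050102) (.node (nat_lit 0x60708000304020501) (.leaf (nat_lit 0x60708000304020105) (nat_lit 1539))
 (.leaf (nat_lit 0x60708000304020501) (nat_lit 2051))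
) (.node (nat_lit 0x60708000304050201) (.leaf (nat_lit 0x60708000304050102) (nat_lit 2051))
 (.node (nat_lit 0x60708000305010204) (.leaf (nat_lit 0x60708000304050201) (nat_lit 1795))
 (.leaf (nat_lit 0x60708000305010204) (nat_lit 1538))
))))))) (.node (nat_lit 0x60708000501040302) (.node (nat_lit 0x60708000403010205) (.node (nat_lit 0x60708000401030502) (.node (nat_lit 0x60708000305040201) (.node (nat_lit 0x60708000305020401) (.node (nat_lit 0x60708000305020104) (.leaf (nat_lit 0x60708000305010402) (nat_lit 1538))
 (.leaf (nat_lit 0x60708000305020104) (nat_lit 1282))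
) (.node (nat_lit 0x60708000305040102) (.leaf (nat_lit 0x60708000305020401) (nat_lit 1794))
 (.leaf (nat_lit 0x60708000305040102) (nat_lit 1794))
)) (.node (nat_lit 0x60708000401020503) (.node (nat_lit 0x60708000401020305) (.leaf (nat_lit 0x60708000305040201) (nat_lit 1538))
 (.leaf (nat_lit 0x60708000401020305) (nat_lit 2050))
) (.node (nat_lit 0x60708000401030205) (.leaf (nat_lit 0x60708000401020503) (nat_lit 2058))
 (.leaf (nat_lit 0x60708000401030205) (nat_lit 1802))
))) (.node (nat_lit 0x60708000402010503) (.node (nat_lit 0x60708000401050302) (.node (nat_lit 0x60708000401050203) (.leaf (nat_lit 0x60708000401030502) (nat_lit 1794))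
 (.leaf (nat_lit 0x60708000401050203) (nat_lit 1795))
) (.node (nat_lit 0x60708000402010305) (.leaf (nat_lit 0x60708000401050302) (nat_lit 2058))
 (.leaf (nat_lit 0x60708000402010305) (nat_lit 1802))
)) (.node (nat_lit 0x60708000402030501) (.node (nat_lit 0x60708000402030105) (.leaf (nat_lit 0x60708000402010503) (nat_lit 1795))
 (.leaf (nat_lit 0x60708000402030105) (nat_lit 2051))
) (.node (nat_lit 0x60708000402050103) (.leaf (nat_lit 0x60708000402030501) (nat_lit 2058))
 (.node (nat_lit 0x60708000402050301) (.leaf (nat_lit 0x60708000402050103) (nat_lit 2058))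
 (.leaf (nat_lit 0x60708000402050301) (nat_lit 2051))
))))) (.node (nat_lit 0x60708000405020103) (.node (nat_lit 0x60708000403050102) (.node (nat_lit 0x60708000403020105) (.node (nat_lit 0x60708000403010502) (.leaf (nat_lit 0x60708000403010205) (nat_lit 1539))
 (.leaf (nat_lit 0x60708000403010502) (nat_lit 1539))
) (.node (nat_lit 0x60708000403020501) (.leaf (nat_lit 0x60708000403020105) (nat_lit 1283))
 (.leaf (nat_lit 0x60708000403020501) (nat_lit 1795))
)) (.node (nat_lit 0x60708000405010203) (.node (nat_lit 0x60708000403050201) (.leaf (nat_lit 0x60708000403050102) (nat_lit 1795))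
 (.leaf (nat_lit 0x60708000403050201) (nat_lit 1539))
) (.node (nat_lit 0x60708000405010302) (.leaf (nat_lit 0x60708000405010203) (nat_lit 1546))
 (.leaf (nat_lit 0x60708000405010302) (nat_lit 1546))
))) (.node (nat_lit 0x60708000501020304) (.node (nat_lit 0x60708000405030102) (.node (nat_lit 0x60708000405020301) (.leaf (nat_lit 0x60708000405020103) (nat_lit 1290))
 (.leaf (nat_lit 0x60708000405020301) (nat_lit 1802))
) (.node (nat_lit 0x60708000405030201) (.leaf (nat_lit 0x60708000405030102) (nat_lit 1802))
 (.leaf (nat_lit 0x60708000405030201) (nat_lit 1546))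
)) (.node (nat_lit 0x60708000501030204) (.node (nat_lit 0x60708000501020403) (.leaf (nat_lit 0x60708000501020304) (nat_lit 1802))
 (.leaf (nat_lit 0x60708000501020403) (nat_lit 1802))
) (.node (nat_lit 0x60708000501030402) (.leaf (nat_lit 0x60708000501030204) (nat_lit 1546))
 (.node (nat_lit 0x60708000501040203) (.leaf (nat_lit 0x60708000501030402) (nat_lit 2058))
 (.leaf (nat_lit 0x60708000501040203) (nat_lit 1802))
)))))) (.node (nat_lit 0x60708000504030102) (.node (nat_lit 0x60708000503010402) (.node (nat_lit 0x60708000502030401) (.node (nat_lit 0x60708000502010403) (.node (nat_lit 0x60708000502010304) (.leaf (nat_lit 0x60708000501040302) (nat_lit 1802))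
 (.leaf (nat_lit 0x60708000502010304) (nat_lit 1546))
) (.node (nat_lit 0x60708000502030104) (.leaf (nat_lit 0x60708000502010403) (nat_lit 1802))
 (.leaf (nat_lit 0x60708000502030104) (nat_lit 1802))
)) (.node (nat_lit 0x60708000502040301) (.node (nat_lit 0x60708000502040103) (.leaf (nat_lit 0x60708000502030401) (nat_lit 1802))
 (.leaf (nat_lit 0x60708000502040103) (nat_lit 1802))
) (.node (nat_lit 0x60708000503010204) (.leaf (nat_lit 0x60708000502040301) (nat_lit 2058))
 (.leaf (nat_lit 0x60708000503010204) (nat_lit 1546))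
))) (.node (nat_lit 0x60708000503040201) (.node (nat_lit 0x60708000503020401) (.node (nat_lit 0x60708000503020104) (.leaf (nat_lit 0x60708000503010402) (nat_lit 1546))
 (.leaf (nat_lit 0x60708000503020104) (nat_lit 1290))
) (.node (nat_lit 0x60708000503040102) (.leaf (nat_lit 0x60708000503020401) (nat_lit 1802))
 (.leaf (nat_lit 0x60708000503040102) (nat_lit 1802))
)) (.node (nat_lit 0x60708000504010302) (.node (nat_lit 0x60708000504010203) (.leaf (nat_lit 0x60708000503040201) (nat_lit 1546))
 (.leaf (nat_lit 0x60708000504010203) (nat_lit 1290))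
) (.node (nat_lit 0x60708000504020103) (.leaf (nat_lit 0x60708000504010302) (nat_lit 1290))
 (.node (nat_lit 0x60708000504020301) (.leaf (nat_lit 0x60708000504020103) (nat_lit 1034))
 (.leaf (nat_lit 0x60708000504020301) (nat_lit 1546))
))))) (.node (nat_lit 0x60708010003020405) (.node (nat_lit 0x60708010002040305) (.node (nat_lit 0x60708010002030405) (.node (nat_lit 0x60708000504030201) (.leaf (nat_lit 0x60708000504030102) (nat_lit 1546))
 (.leaf (nat_lit 0x60708000504030201) (nat_lit 1290))
) (.node (nat_lit 0x60708010002030504) (.leaf (nat_lit 0x60708010002030405) (nat_lit 1545))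
 (.leaf (nat_lit 0x60708010002030504) (nat_lit 1289))
)) (.node (nat_lit 0x60708010002050304) (.node (nat_lit 0x60708010002040503) (.leaf (nat_lit 0x60708010002040305) (nat_lit 1289))
 (.leaf (nat_lit 0x60708010002040503) (nat_lit 1289))
) (.node (nat_lit 0x60708010002050403) (.leaf (nat_lit 0x60708010002050304) (nat_lit 1545))
 (.leaf (nat_lit 0x60708010002050403) (nat_lit 1033))
))) (.node (nat_lit 0x60708010003050204) (.node (nat_lit 0x60708010003040205) (.node (nat_lit 0x60708010003020504) (.leaf (nat_lit 0x60708010003020405) (nat_lit 1793))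
 (.leaf (nat_lit 0x60708010003020504) (nat_lit 1537))
) (.node (nat_lit 0x60708010003040502) (.leaf (nat_lit 0x60708010003040205) (nat_lit 1537))
 (.leaf (nat_lit 0x60708010003040502) (nat_lit 1537))
)) (.node (nat_lit 0x60708010004020305) (.node (nat_lit 0x60708010003050402) (.leaf (nat_lit 0x60708010003050204) (nat_lit 1793))
 (.leaf (nat_lit 0x60708010003050402) (nat_lit 1281))
) (.node (nat_lit 0x60708010004020503) (.leaf (nat_lit 0x60708010004020305) (nat_lit 1794))
 (.node (nat_lit 0x60708010004030205) (.leaf (nat_lit 0x60708010004020503) (nat_lit 1793))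
 (.leaf (nat_lit 0x60708010004030205) (nat_lit 2049))
)))))))) (.node (nat_lit 0x60708010402050003) (.node (nat_lit 0x60708010300020405) (.node (nat_lit 0x60708010203000504) (.node (nat_lit 0x60708010005040302) (.node (nat_lit 0x60708010005020403) (.node (nat_lit 0x60708010004050302) (.node (nat_lit 0x60708010004050203) (.leaf (nat_lit 0x60708010004030502) (nat_lit 1538))
 (.leaf (nat_lit 0x60708010004050203) (nat_lit 1794))
) (.node (nat_lit 0x60708010005020304) (.leaf (nat_lit 0x60708010004050302) (nat_lit 1794))
 (.leaf (nat_lit 0x60708010005020304) (nat_lit 2051))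
)) (.node (nat_lit 0x60708010005030402) (.node (nat_lit 0x60708010005030204) (.leaf (nat_lit 0x60708010005020403) (nat_lit 1795))
 (.leaf (nat_lit 0x60708010005030204) (nat_lit 1795))
) (.node (nat_lit 0x60708010005040203) (.leaf (nat_lit 0x60708010005030402) (nat_lit 1795))
 (.leaf (nat_lit 0x60708010005040203) (nat_lit 1793))
))) (.node (nat_lit 0x60708010200040503) (.node (nat_lit 0x60708010200030504) (.node (nat_lit 0x60708010200030405) (.leaf (nat_lit 0x60708010005040302) (nat_lit 1539))
 (.leaf (nat_lit 0x60708010200030405) (nat_lit 1545))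
) (.node (nat_lit 0x60708010200040305) (.leaf (nat_lit 0x60708010200030504) (nat_lit 1289))
 (.leaf (nat_lit 0x60708010200040305) (nat_lit 1289))
)) (.node (nat_lit 0x60708010200050403) (.node (nat_lit 0x60708010200050304) (.leaf (nat_lit 0x60708010200040503) (nat_lit 1289))
 (.leaf (nat_lit 0x60708010200050304) (nat_lit 1545))
) (.node (nat_lit 0x60708010203000405) (.leaf (nat_lit 0x60708010200050403) (nat_lit 1033))
 (.leaf (nat_lit 0x60708010203000405) (nat_lit 1802))
)))) (.node (nat_lit 0x60708010204030500) (.node (nat_lit 0x60708010203050400) (.node (nat_lit 0x60708010203040500) (.node (nat_lit 0x60708010203040005) (.leaf (nat_lit 0x60708010203000504) (nat_lit 1546))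
 (.leaf (nat_lit 0x60708010203040005) (nat_lit 1546))
) (.node (nat_lit 0x60708010203050004) (.leaf (nat_lit 0x60708010203040500) (nat_lit 1546))
 (.leaf (nat_lit 0x60708010203050004) (nat_lit 1802))
)) (.node (nat_lit 0x60708010204000503) (.node (nat_lit 0x60708010204000305) (.leaf (nat_lit 0x60708010203050400) (nat_lit 1290))
 (.leaf (nat_lit 0x60708010204000305) (nat_lit 1794))
) (.node (nat_lit 0x60708010204030005) (.leaf (nat_lit 0x60708010204000503) (nat_lit 1802))
 (.leaf (nat_lit 0x60708010204030005) (nat_lit 2058))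
))) (.node (nat_lit 0x60708010205000403) (.node (nat_lit 0x60708010204050300) (.node (nat_lit 0x60708010204050003) (.leaf (nat_lit 0x60708010204030500) (nat_lit 1538))
 (.leaf (nat_lit 0x60708010204050003) (nat_lit 1794))
) (.node (nat_lit 0x60708010205000304) (.leaf (nat_lit 0x60708010204050300) (nat_lit 1794))
 (.leaf (nat_lit 0x60708010205000304) (nat_lit 2051))
)) (.node (nat_lit 0x60708010205030400) (.node (nat_lit 0x60708010205030004) (.leaf (nat_lit 0x60708010205000403) (nat_lit 1795))
 (.leaf (nat_lit 0x60708010205030004) (nat_lit 1795))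
) (.node (nat_lit 0x60708010205040003) (.leaf (nat_lit 0x60708010205030400) (nat_lit 1795))
 (.node (nat_lit 0x60708010205040300) (.leaf (nat_lit 0x60708010205040003) (nat_lit 1802))
 (.leaf (nat_lit 0x60708010205040300) (nat_lit 1539))
)))))) (.node (nat_lit 0x60708010304050200) (.node (nat_lit 0x60708010302040005) (.node (nat_lit 0x60708010300050204) (.node (nat_lit 0x60708010300040205) (.node (nat_lit 0x60708010300020504) (.leaf (nat_lit 0x60708010300020405) (nat_lit 2058))
 (.leaf (nat_lit 0x60708010300020504) (nat_lit 1802))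
) (.node (nat_lit 0x60708010300040502) (.leaf (nat_lit 0x60708010300040205) (nat_lit 1802))
 (.leaf (nat_lit 0x60708010300040502) (nat_lit 1802))
)) (.node (nat_lit 0x60708010302000405) (.node (nat_lit 0x60708010300050402) (.leaf (nat_lit 0x60708010300050204) (nat_lit 2058))
 (.leaf (nat_lit 0x60708010300050402) (nat_lit 1546))
) (.node (nat_lit 0x60708010302000504) (.leaf (nat_lit 0x60708010302000405) (nat_lit 1802))
 (.leaf (nat_lit 0x60708010302000504) (nat_lit 1546))
))) (.node (nat_lit 0x60708010304000205) (.node (nat_lit 0x60708010302050004) (.node (nat_lit 0x60708010302040500) (.leaf (nat_lit 0x60708010302040005) (nat_lit 1546))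
 (.leaf (nat_lit 0x60708010302040500) (nat_lit 1546))
) (.node (nat_lit 0x60708010302050400) (.leaf (nat_lit 0x60708010302050004) (nat_lit 1802))
 (.leaf (nat_lit 0x60708010302050400) (nat_lit 1290))
)) (.node (nat_lit 0x60708010304020005) (.node (nat_lit 0x60708010304000502) (.leaf (nat_lit 0x60708010304000205) (nat_lit 1795))
 (.leaf (nat_lit 0x60708010304000502) (nat_lit 1802))
) (.node (nat_lit 0x60708010304020500) (.leaf (nat_lit 0x60708010304020005) (nat_lit 2058))
 (.node (nat_lit 0x60708010304050002) (.leaf (nat_lit 0x60708010304020500) (nat_lit 2051))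
 (.leaf (nat_lit 0x60708010304050002) (nat_lit 2051))
))))) (.node (nat_lit 0x60708010400020503) (.node (nat_lit 0x60708010305020400) (.node (nat_lit 0x60708010305000402) (.node (nat_lit 0x60708010305000204) (.leaf (nat_lit 0x60708010304050200) (nat_lit 2058))
 (.leaf (nat_lit 0x60708010305000204) (nat_lit 1538))
) (.node (nat_lit 0x60708010305020004) (.leaf (nat_lit 0x60708010305000402) (nat_lit 2050))
 (.leaf (nat_lit 0x60708010305020004) (nat_lit 1794))
)) (.node (nat_lit 0x60708010305040200) (.node (nat_lit 0x60708010305040002) (.leaf (nat_lit 0x60708010305020400) (nat_lit 1794))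
 (.leaf (nat_lit 0x60708010305040002) (nat_lit 1794))
) (.node (nat_lit 0x60708010400020305) (.leaf (nat_lit 0x60708010305040200) (nat_lit 1794))
 (.leaf (nat_lit 0x60708010400020305) (nat_lit 2050))
))) (.node (nat_lit 0x60708010400050302) (.node (nat_lit 0x60708010400030502) (.node (nat_lit 0x60708010400030205) (.leaf (nat_lit 0x60708010400020503) (nat_lit 2058))
 (.leaf (nat_lit 0x60708010400030205) (nat_lit 1802))
) (.node (nat_lit 0x60708010400050203) (.leaf (nat_lit 0x60708010400030502) (nat_lit 1794))
 (.leaf (nat_lit 0x60708010400050203) (nat_lit 2050))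
)) (.node (nat_lit 0x60708010402000503) (.node (nat_lit 0x60708010402000305) (.leaf (nat_lit 0x60708010400050302) (nat_lit 2058))
 (.leaf (nat_lit 0x60708010402000305) (nat_lit 1794))
) (.node (nat_lit 0x60708010402030005) (.leaf (nat_lit 0x60708010402000503) (nat_lit 1802))
 (.node (nat_lit 0x60708010402030500) (.leaf (nat_lit 0x60708010402030005) (nat_lit 2058))
 (.leaf (nat_lit 0x60708010402030500) (nat_lit 1538))
))))))) (.node (nat_lit 0x60708010504020003) (.node (nat_lit 0x60708010500030402) (.node (nat_lit 0x60708010405000203) (.node (nat_lit 0x60708010403020005) (.node (nat_lit 0x60708010403000205) (.node (nat_lit 0x60708010402050300) (.leaf (nat_lit 0x60708010402050003) (nat_lit 1794))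
 (.leaf (nat_lit 0x60708010402050300) (nat_lit 1794))
) (.node (nat_lit 0x60708010403000502) (.leaf (nat_lit 0x60708010403000205) (nat_lit 1539))
 (.leaf (nat_lit 0x60708010403000502) (nat_lit 2051))
)) (.node (nat_lit 0x60708010403050002) (.node (nat_lit 0x60708010403020500) (.leaf (nat_lit 0x60708010403020005) (nat_lit 1795))
 (.leaf (nat_lit 0x60708010403020500) (nat_lit 1795))
) (.node (nat_lit 0x60708010403050200) (.leaf (nat_lit 0x60708010403050002) (nat_lit 1795))
 (.leaf (nat_lit 0x60708010403050200) (nat_lit 1795))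
))) (.node (nat_lit 0x60708010405030002) (.node (nat_lit 0x60708010405020003) (.node (nat_lit 0x60708010405000302) (.leaf (nat_lit 0x60708010405000203) (nat_lit 1536))
 (.leaf (nat_lit 0x60708010405000302) (nat_lit 2058))
) (.node (nat_lit 0x60708010405020300) (.leaf (nat_lit 0x60708010405020003) (nat_lit 1792))
 (.leaf (nat_lit 0x60708010405020300) (nat_lit 1792))
)) (.node (nat_lit 0x60708010500020304) (.node (nat_lit 0x60708010405030200) (.leaf (nat_lit 0x60708010405030002) (nat_lit 1792))
 (.leaf (nat_lit 0x60708010405030200) (nat_lit 1802))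
) (.node (nat_lit 0x60708010500020403) (.leaf (nat_lit 0x60708010500020304) (nat_lit 1792))
 (.node (nat_lit 0x60708010500030204) (.leaf (nat_lit 0x60708010500020403) (nat_lit 2051))
 (.leaf (nat_lit 0x60708010500030204) (nat_lit 1802))
))))) (.node (nat_lit 0x60708010502040300) (.node (nat_lit 0x60708010502000403) (.node (nat_lit 0x60708010500040302) (.node (nat_lit 0x60708010500040203) (.leaf (nat_lit 0x60708010500030402) (nat_lit 2048))
 (.leaf (nat_lit 0x60708010500040203) (nat_lit 2048))
) (.node (nat_lit 0x60708010502000304) (.leaf (nat_lit 0x60708010500040302) (nat_lit 1795))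
 (.leaf (nat_lit 0x60708010502000304) (nat_lit 2051))
)) (.node (nat_lit 0x60708010502030400) (.node (nat_lit 0x60708010502030004) (.leaf (nat_lit 0x60708010502000403) (nat_lit 1795))
 (.leaf (nat_lit 0x60708010502030004) (nat_lit 1795))
) (.node (nat_lit 0x60708010502040003) (.leaf (nat_lit 0x60708010502030400) (nat_lit 1795))
 (.leaf (nat_lit 0x60708010502040003) (nat_lit 1802))
))) (.node (nat_lit 0x60708010503020400) (.node (nat_lit 0x60708010503000402) (.node (nat_lit 0x60708010503000204) (.leaf (nat_lit 0x60708010502040300) (nat_lit 1539))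
 (.leaf (nat_lit 0x60708010503000204) (nat_lit 1536))
) (.node (nat_lit 0x60708010503020004) (.leaf (nat_lit 0x60708010503000402) (nat_lit 2048))
 (.leaf (nat_lit 0x60708010503020004) (nat_lit 1792))
)) (.node (nat_lit 0x60708010503040200) (.node (nat_lit 0x60708010503040002) (.leaf (nat_lit 0x60708010503020400) (nat_lit 1792))
 (.leaf (nat_lit 0x60708010503040002) (nat_lit 1792))
) (.node (nat_lit 0x60708010504000203) (.leaf (nat_lit 0x60708010503040200) (nat_lit 2048))
 (.node (nat_lit 0x60708010504000302) (.leaf (nat_lit 0x60708010504000203) (nat_lit 1280))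
 (.leaf (nat_lit 0x60708010504000302) (nat_lit 1802))
)))))) (.node (nat_lit 0x60708020004010503) (.node (nat_lit 0x60708020001050304) (.node (nat_lit 0x60708020001030405) (.node (nat_lit 0x60708010504030002) (.node (nat_lit 0x60708010504020300) (.leaf (nat_lit 0x60708010504020003) (nat_lit 1536))
 (.leaf (nat_lit 0x60708010504020300) (nat_lit 1536))
) (.node (nat_lit 0x60708010504030200) (.leaf (nat_lit 0x60708010504030002) (nat_lit 1536))
 (.leaf (nat_lit 0x60708010504030200) (nat_lit 1546))
)) (.node (nat_lit 0x60708020001040305) (.node (nat_lit 0x60708020001030504) (.leaf (nat_lit 0x60708020001030405) (nat_lit 1801))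
 (.leaf (nat_lit 0x60708020001030504) (nat_lit 1545))
) (.node (nat_lit 0x60708020001040503) (.leaf (nat_lit 0x60708020001040305) (nat_lit 1545))
 (.leaf (nat_lit 0x60708020001040503) (nat_lit 1545))
))) (.node (nat_lit 0x60708020003040105) (.node (nat_lit 0x60708020003010405) (.node (nat_lit 0x60708020001050403) (.leaf (nat_lit 0x60708020001050304) (nat_lit 1801))
 (.leaf (nat_lit 0x60708020001050403) (nat_lit 1289))
) (.node (nat_lit 0x60708020003010504) (.leaf (nat_lit 0x60708020003010405) (nat_lit 2048))
 (.leaf (nat_lit 0x60708020003010504) (nat_lit 1792))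
)) (.node (nat_lit 0x60708020003050104) (.node (nat_lit 0x60708020003040501) (.leaf (nat_lit 0x60708020003040105) (nat_lit 1792))
 (.leaf (nat_lit 0x60708020003040501) (nat_lit 1792))
) (.node (nat_lit 0x60708020003050401) (.leaf (nat_lit 0x60708020003050104) (nat_lit 2048))
 (.node (nat_lit 0x60708020004010305) (.leaf (nat_lit 0x60708020003050401) (nat_lit 1536))
 (.leaf (nat_lit 0x60708020004010305) (nat_lit 2050))
))))) (.node (nat_lit 0x60708020005030401) (.node (nat_lit 0x60708020004050301) (.node (nat_lit 0x60708020004030501) (.node (nat_lit 0x60708020004030105) (.leaf (nat_lit 0x60708020004010503) (nat_lit 2051))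
 (.leaf (nat_lit 0x60708020004030105) (nat_lit 2049))
) (.node (nat_lit 0x60708020004050103) (.leaf (nat_lit 0x60708020004030501) (nat_lit 1794))
 (.leaf (nat_lit 0x60708020004050103) (nat_lit 2050))
)) (.node (nat_lit 0x60708020005010403) (.node (nat_lit 0x60708020005010304) (.leaf (nat_lit 0x60708020004050301) (nat_lit 2050))
 (.leaf (nat_lit 0x60708020005010304) (nat_lit 1802))
) (.node (nat_lit 0x60708020005030104) (.leaf (nat_lit 0x60708020005010403) (nat_lit 2051))
 (.leaf (nat_lit 0x60708020005030104) (nat_lit 2051))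
))) (.node (nat_lit 0x60708020100030504) (.node (nat_lit 0x60708020005040301) (.node (nat_lit 0x60708020005040103) (.leaf (nat_lit 0x60708020005030401) (nat_lit 2058))
 (.leaf (nat_lit 0x60708020005040103) (nat_lit 2058))
) (.node (nat_lit 0x60708020100030405) (.leaf (nat_lit 0x60708020005040301) (nat_lit 1795))
 (.leaf (nat_lit 0x60708020100030405) (nat_lit 1289))
)) (.node (nat_lit 0x60708020100040503) (.node (nat_lit 0x60708020100040305) (.leaf (nat_lit 0x60708020100030504) (nat_lit 1033))
 (.leaf (nat_lit 0x60708020100040305) (nat_lit 1033))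
) (.node (nat_lit 0x60708020100050304) (.leaf (nat_lit 0x60708020100040503) (nat_lit 1033))
 (.node (nat_lit 0x60708020100050403) (.leaf (nat_lit 0x60708020100050304) (nat_lit 1289))
 (.leaf (nat_lit 0x60708020100050403) (nat_lit 777))
))))))))) (.node (nat_lit 0x60708030105020400) (.node (nat_lit 0x60708020500010403) (.node (nat_lit 0x60708020304010500) (.node (nat_lit 0x60708020105040003) (.node (nat_lit 0x60708020104030005) (.node (nat_lit 0x60708020103050004) (.node (nat_lit 0x60708020103040005) (.node (nat_lit 0x60708020103000504) (.leaf (nat_lit 0x60708020103000405) (nat_lit 1546))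
 (.leaf (nat_lit 0x60708020103000504) (nat_lit 1290))
) (.node (nat_lit 0x60708020103040500) (.leaf (nat_lit 0x60708020103040005) (nat_lit 1290))
 (.leaf (nat_lit 0x60708020103040500) (nat_lit 1290))
)) (.node (nat_lit 0x60708020104000305) (.node (nat_lit 0x60708020103050400) (.leaf (nat_lit 0x60708020103050004) (nat_lit 1546))
 (.leaf (nat_lit 0x60708020103050400) (nat_lit 1034))
) (.node (nat_lit 0x60708020104000503) (.leaf (nat_lit 0x60708020104000305) (nat_lit 1538))
 (.leaf (nat_lit 0x60708020104000503) (nat_lit 1546))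
))) (.node (nat_lit 0x60708020105000304) (.node (nat_lit 0x60708020104050003) (.node (nat_lit 0x60708020104030500) (.leaf (nat_lit 0x60708020104030005) (nat_lit 1802))
 (.leaf (nat_lit 0x60708020104030500) (nat_lit 1282))
) (.node (nat_lit 0x60708020104050300) (.leaf (nat_lit 0x60708020104050003) (nat_lit 1538))
 (.leaf (nat_lit 0x60708020104050300) (nat_lit 1538))
)) (.node (nat_lit 0x60708020105030004) (.node (nat_lit 0x60708020105000403) (.leaf (nat_lit 0x60708020105000304) (nat_lit 1795))
 (.leaf (nat_lit 0x60708020105000403) (nat_lit 1539))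
) (.node (nat_lit 0x60708020105030400) (.leaf (nat_lit 0x60708020105030004) (nat_lit 1539))
 (.leaf (nat_lit 0x60708020105030400) (nat_lit 1539))
)))) (.node (nat_lit 0x60708020301000405) (.node (nat_lit 0x60708020300040105) (.node (nat_lit 0x60708020300010405) (.node (nat_lit 0x60708020105040300) (.leaf (nat_lit 0x60708020105040003) (nat_lit 1546))
 (.leaf (nat_lit 0x60708020105040300) (nat_lit 1283))
) (.node (nat_lit 0x60708020300010504) (.leaf (nat_lit 0x60708020300010405) (nat_lit 2048))
 (.leaf (nat_lit 0x60708020300010504) (nat_lit 1792))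
)) (.node (nat_lit 0x60708020300050104) (.node (nat_lit 0x60708020300040501) (.leaf (nat_lit 0x60708020300040105) (nat_lit 1792))
 (.leaf (nat_lit 0x60708020300040501) (nat_lit 1792))
) (.node (nat_lit 0x60708020300050401) (.leaf (nat_lit 0x60708020300050104) (nat_lit 2048))
 (.leaf (nat_lit 0x60708020300050401) (nat_lit 1536))
))) (.node (nat_lit 0x60708020301050004) (.node (nat_lit 0x60708020301040005) (.node (nat_lit 0x60708020301000504) (.leaf (nat_lit 0x60708020301000405) (nat_lit 2058))
 (.leaf (nat_lit 0x60708020301000504) (nat_lit 1802))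
) (.node (nat_lit 0x60708020301040500) (.leaf (nat_lit 0x60708020301040005) (nat_lit 1802))
 (.leaf (nat_lit 0x60708020301040500) (nat_lit 1802))
)) (.node (nat_lit 0x60708020304000105) (.node (nat_lit 0x60708020301050400) (.leaf (nat_lit 0x60708020301050004) (nat_lit 2058))
 (.leaf (nat_lit 0x60708020301050400) (nat_lit 1546))
) (.node (nat_lit 0x60708020304000501) (.leaf (nat_lit 0x60708020304000105) (nat_lit 2051))
 (.node (nat_lit 0x60708020304010005) (.leaf (nat_lit 0x60708020304000501) (nat_lit 2051))
 (.leaf (nat_lit 0x60708020304010005) (nat_lit 1795))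
)))))) (.node (nat_lit 0x60708020401030005) (.node (nat_lit 0x60708020305040100) (.node (nat_lit 0x60708020305000401) (.node (nat_lit 0x60708020304050100) (.node (nat_lit 0x60708020304050001) (.leaf (nat_lit 0x60708020304010500) (nat_lit 2051))
 (.leaf (nat_lit 0x60708020304050001) (nat_lit 2307))
) (.node (nat_lit 0x60708020305000104) (.leaf (nat_lit 0x60708020304050100) (nat_lit 2051))
 (.leaf (nat_lit 0x60708020305000104) (nat_lit 1794))
)) (.node (nat_lit 0x60708020305010400) (.node (nat_lit 0x60708020305010004) (.leaf (nat_lit 0x60708020305000401) (nat_lit 1794))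
 (.leaf (nat_lit 0x60708020305010004) (nat_lit 1538))
) (.node (nat_lit 0x60708020305040001) (.leaf (nat_lit 0x60708020305010400) (nat_lit 1794))
 (.leaf (nat_lit 0x60708020305040001) (nat_lit 2050))
))) (.node (nat_lit 0x60708020400030501) (.node (nat_lit 0x60708020400010503) (.node (nat_lit 0x60708020400010305) (.leaf (nat_lit 0x60708020305040100) (nat_lit 1794))
 (.leaf (nat_lit 0x60708020400010305) (nat_lit 1802))
) (.node (nat_lit 0x60708020400030105) (.leaf (nat_lit 0x60708020400010503) (nat_lit 2058))
 (.leaf (nat_lit 0x60708020400030105) (nat_lit 2058))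
)) (.node (nat_lit 0x60708020400050301) (.node (nat_lit 0x60708020400050103) (.leaf (nat_lit 0x60708020400030501) (nat_lit 1794))
 (.leaf (nat_lit 0x60708020400050103) (nat_lit 2058))
) (.node (nat_lit 0x60708020401000305) (.leaf (nat_lit 0x60708020400050301) (nat_lit 2050))
 (.node (nat_lit 0x60708020401000503) (.leaf (nat_lit 0x60708020401000305) (nat_lit 2050))
 (.leaf (nat_lit 0x60708020401000503) (nat_lit 2058))
))))) (.node (nat_lit 0x60708020403050001) (.node (nat_lit 0x60708020403000105) (.node (nat_lit 0x60708020401050003) (.node (nat_lit 0x60708020401030500) (.leaf (nat_lit 0x60708020401030005) (nat_lit 2048))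
 (.leaf (nat_lit 0x60708020401030500) (nat_lit 1794))
) (.node (nat_lit 0x60708020401050300) (.leaf (nat_lit 0x60708020401050003) (nat_lit 2050))
 (.leaf (nat_lit 0x60708020401050300) (nat_lit 2050))
)) (.node (nat_lit 0x60708020403010005) (.node (nat_lit 0x60708020403000501) (.leaf (nat_lit 0x60708020403000105) (nat_lit 1795))
 (.leaf (nat_lit 0x60708020403000501) (nat_lit 1795))
) (.node (nat_lit 0x60708020403010500) (.leaf (nat_lit 0x60708020403010005) (nat_lit 1539))
 (.leaf (nat_lit 0x60708020403010500) (nat_lit 1795))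
))) (.node (nat_lit 0x60708020405010003) (.node (nat_lit 0x60708020405000103) (.node (nat_lit 0x60708020403050100) (.leaf (nat_lit 0x60708020403050001) (nat_lit 2051))
 (.leaf (nat_lit 0x60708020403050100) (nat_lit 1795))
) (.node (nat_lit 0x60708020405000301) (.leaf (nat_lit 0x60708020405000103) (nat_lit 1793))
 (.leaf (nat_lit 0x60708020405000301) (nat_lit 1793))
)) (.node (nat_lit 0x60708020405030001) (.node (nat_lit 0x60708020405010300) (.leaf (nat_lit 0x60708020405010003) (nat_lit 1537))
 (.leaf (nat_lit 0x60708020405010300) (nat_lit 1802))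
) (.node (nat_lit 0x60708020405030100) (.leaf (nat_lit 0x60708020405030001) (nat_lit 2049))
 (.node (nat_lit 0x60708020500010304) (.leaf (nat_lit 0x60708020405030100) (nat_lit 1793))
 (.leaf (nat_lit 0x60708020500010304) (nat_lit 1802))
))))))) (.node (nat_lit 0x60708030002050401) (.node (nat_lit 0x60708020504000103) (.node (nat_lit 0x60708020501030400) (.node (nat_lit 0x60708020500040301) (.node (nat_lit 0x60708020500030401) (.node (nat_lit 0x60708020500030104) (.leaf (nat_lit 0x60708020500010403) (nat_lit 2051))
 (.leaf (nat_lit 0x60708020500030104) (nat_lit 1793))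
) (.node (nat_lit 0x60708020500040103) (.leaf (nat_lit 0x60708020500030401) (nat_lit 2058))
 (.leaf (nat_lit 0x60708020500040103) (nat_lit 2058))
)) (.node (nat_lit 0x60708020501000403) (.node (nat_lit 0x60708020501000304) (.leaf (nat_lit 0x60708020500040301) (nat_lit 1795))
 (.leaf (nat_lit 0x60708020501000304) (nat_lit 1793))
) (.node (nat_lit 0x60708020501030004) (.leaf (nat_lit 0x60708020501000403) (nat_lit 2051))
 (.leaf (nat_lit 0x60708020501030004) (nat_lit 2051))
))) (.node (nat_lit 0x60708020503000401) (.node (nat_lit 0x60708020501040300) (.node (nat_lit 0x60708020501040003) (.leaf (nat_lit 0x60708020501030400) (nat_lit 2049))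
 (.leaf (nat_lit 0x60708020501040003) (nat_lit 2049))
) (.node (nat_lit 0x60708020503000104) (.leaf (nat_lit 0x60708020501040300) (nat_lit 1795))
 (.leaf (nat_lit 0x60708020503000104) (nat_lit 1793))
)) (.node (nat_lit 0x60708020503010400) (.node (nat_lit 0x60708020503010004) (.leaf (nat_lit 0x60708020503000401) (nat_lit 1793))
 (.leaf (nat_lit 0x60708020503010004) (nat_lit 1537))
) (.node (nat_lit 0x60708020503040001) (.leaf (nat_lit 0x60708020503010400) (nat_lit 2049))
 (.node (nat_lit 0x60708020503040100) (.leaf (nat_lit 0x60708020503040001) (nat_lit 2049))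
 (.leaf (nat_lit 0x60708020503040100) (nat_lit 1793))
))))) (.node (nat_lit 0x60708030001040205) (.node (nat_lit 0x60708020504030001) (.node (nat_lit 0x60708020504010003) (.node (nat_lit 0x60708020504000301) (.leaf (nat_lit 0x60708020504000103) (nat_lit 1537))
 (.leaf (nat_lit 0x60708020504000301) (nat_lit 1537))
) (.node (nat_lit 0x60708020504010300) (.leaf (nat_lit 0x60708020504010003) (nat_lit 1281))
 (.leaf (nat_lit 0x60708020504010300) (nat_lit 1546))
)) (.node (nat_lit 0x60708030001020405) (.node (nat_lit 0x60708020504030100) (.leaf (nat_lit 0x60708020504030001) (nat_lit 1793))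
 (.leaf (nat_lit 0x60708020504030100) (nat_lit 1537))
) (.node (nat_lit 0x60708030001020504) (.leaf (nat_lit 0x60708030001020405) (nat_lit 2051))
 (.leaf (nat_lit 0x60708030001020504) (nat_lit 2049))
))) (.node (nat_lit 0x60708030002010405) (.node (nat_lit 0x60708030001050204) (.node (nat_lit 0x60708030001040502) (.leaf (nat_lit 0x60708030001040205) (nat_lit 2049))
 (.leaf (nat_lit 0x60708030001040502) (nat_lit 2051))
) (.node (nat_lit 0x60708030001050402) (.leaf (nat_lit 0x60708030001050204) (nat_lit 1795))
 (.leaf (nat_lit 0x60708030001050402) (nat_lit 1793))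
)) (.node (nat_lit 0x60708030002040105) (.node (nat_lit 0x60708030002010504) (.leaf (nat_lit 0x60708030002010405) (nat_lit 2048))
 (.leaf (nat_lit 0x60708030002010504) (nat_lit 1792))
) (.node (nat_lit 0x60708030002040501) (.leaf (nat_lit 0x60708030002040105) (nat_lit 1792))
 (.node (nat_lit 0x60708030002050104) (.leaf (nat_lit 0x60708030002040501) (nat_lit 1792))
 (.leaf (nat_lit 0x60708030002050104) (nat_lit 2048))
)))))) (.node (nat_lit 0x60708030100050204) (.node (nat_lit 0x60708030005010402) (.node (nat_lit 0x60708030004020501) (.node (nat_lit 0x60708030004010502) (.node (nat_lit 0x60708030004010205) (.leaf (nat_lit 0x60708030002050401) (nat_lit 1536))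
 (.leaf (nat_lit 0x60708030004010205) (nat_lit 1539))
) (.node (nat_lit 0x60708030004020105) (.leaf (nat_lit 0x60708030004010502) (nat_lit 1539))
 (.leaf (nat_lit 0x60708030004020105) (nat_lit 1283))
)) (.node (nat_lit 0x60708030004050201) (.node (nat_lit 0x60708030004050102) (.leaf (nat_lit 0x60708030004020501) (nat_lit 1795))
 (.leaf (nat_lit 0x60708030004050102) (nat_lit 1795))
) (.node (nat_lit 0x60708030005010204) (.leaf (nat_lit 0x60708030004050201) (nat_lit 1539))
 (.leaf (nat_lit 0x60708030005010204) (nat_lit 1802))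
))) (.node (nat_lit 0x60708030005040201) (.node (nat_lit 0x60708030005020401) (.node (nat_lit 0x60708030005020104) (.leaf (nat_lit 0x60708030005010402) (nat_lit 1802))
 (.leaf (nat_lit 0x60708030005020104) (nat_lit 1546))
) (.node (nat_lit 0x60708030005040102) (.leaf (nat_lit 0x60708030005020401) (nat_lit 2058))
 (.leaf (nat_lit 0x60708030005040102) (nat_lit 2058))
)) (.node (nat_lit 0x60708030100020504) (.node (nat_lit 0x60708030100020405) (.leaf (nat_lit 0x60708030005040201) (nat_lit 1802))
 (.leaf (nat_lit 0x60708030100020405) (nat_lit 2049))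
) (.node (nat_lit 0x60708030100040205) (.leaf (nat_lit 0x60708030100020504) (nat_lit 1793))
 (.node (nat_lit 0x60708030100040502) (.leaf (nat_lit 0x60708030100040205) (nat_lit 1793))
 (.leaf (nat_lit 0x60708030100040502) (nat_lit 1793))
))))) (.node (nat_lit 0x60708030104000205) (.node (nat_lit 0x60708030102040005) (.node (nat_lit 0x60708030102000405) (.node (nat_lit 0x60708030100050402) (.leaf (nat_lit 0x60708030100050204) (nat_lit 2049))
 (.leaf (nat_lit 0x60708030100050402) (nat_lit 1537))
) (.node (nat_lit 0x60708030102000504) (.leaf (nat_lit 0x60708030102000405) (nat_lit 2058))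
 (.leaf (nat_lit 0x60708030102000504) (nat_lit 1802))
)) (.node (nat_lit 0x60708030102050004) (.node (nat_lit 0x60708030102040500) (.leaf (nat_lit 0x60708030102040005) (nat_lit 1802))
 (.leaf (nat_lit 0x60708030102040500) (nat_lit 1802))
) (.node (nat_lit 0x60708030102050400) (.leaf (nat_lit 0x60708030102050004) (nat_lit 2058))
 (.leaf (nat_lit 0x60708030102050400) (nat_lit 1546))
))) (.node (nat_lit 0x60708030104050002) (.node (nat_lit 0x60708030104020005) (.node (nat_lit 0x60708030104000502) (.leaf (nat_lit 0x60708030104000205) (nat_lit 1539))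
 (.leaf (nat_lit 0x60708030104000502) (nat_lit 2051))
) (.node (nat_lit 0x60708030104020500) (.leaf (nat_lit 0x60708030104020005) (nat_lit 1795))
 (.leaf (nat_lit 0x60708030104020500) (nat_lit 1795))
)) (.node (nat_lit 0x60708030105000204) (.node (nat_lit 0x60708030104050200) (.leaf (nat_lit 0x60708030104050002) (nat_lit 1795))
 (.leaf (nat_lit 0x60708030104050200) (nat_lit 1795))
) (.node (nat_lit 0x60708030105000402) (.leaf (nat_lit 0x60708030105000204) (nat_lit 1792))
 (.node (nat_lit 0x60708030105020004) (.leaf (nat_lit 0x60708030105000402) (nat_lit 2306))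
 (.leaf (nat_lit 0x60708030105020004) (nat_lit 2048))
)))))))) (.node (nat_lit 0x60708030502040001) (.node (nat_lit 0x60708030401000205) (.node (nat_lit 0x60708030204000501) (.node (nat_lit 0x60708030200050401) (.node (nat_lit 0x60708030200010504) (.node (nat_lit 0x60708030105040200) (.node (nat_lit 0x60708030105040002) (.leaf (nat_lit 0x60708030105020400) (nat_lit 2048))
 (.leaf (nat_lit 0x60708030105040002) (nat_lit 2048))
) (.node (nat_lit 0x60708030200010405) (.leaf (nat_lit 0x60708030105040200) (nat_lit 2050))
 (.leaf (nat_lit 0x60708030200010405) (nat_lit 2058))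
)) (.node (nat_lit 0x60708030200040501) (.node (nat_lit 0x60708030200040105) (.leaf (nat_lit 0x60708030200010504) (nat_lit 1802))
 (.leaf (nat_lit 0x60708030200040105) (nat_lit 1802))
) (.node (nat_lit 0x60708030200050104) (.leaf (nat_lit 0x60708030200040501) (nat_lit 1802))
 (.leaf (nat_lit 0x60708030200050104) (nat_lit 2058))
))) (.node (nat_lit 0x60708030201040500) (.node (nat_lit 0x60708030201000504) (.node (nat_lit 0x60708030201000405) (.leaf (nat_lit 0x60708030200050401) (nat_lit 1546))
 (.leaf (nat_lit 0x60708030201000405) (nat_lit 1802))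
) (.node (nat_lit 0x60708030201040005) (.leaf (nat_lit 0x60708030201000504) (nat_lit 1546))
 (.leaf (nat_lit 0x60708030201040005) (nat_lit 1546))
)) (.node (nat_lit 0x60708030201050400) (.node (nat_lit 0x60708030201050004) (.leaf (nat_lit 0x60708030201040500) (nat_lit 1546))
 (.leaf (nat_lit 0x60708030201050004) (nat_lit 1802))
) (.node (nat_lit 0x60708030204000105) (.leaf (nat_lit 0x60708030201050400) (nat_lit 1290))
 (.leaf (nat_lit 0x60708030204000105) (nat_lit 1795))
)))) (.node (nat_lit 0x60708030205010400) (.node (nat_lit 0x60708030204050100) (.node (nat_lit 0x60708030204010500) (.node (nat_lit 0x60708030204010005) (.leaf (nat_lit 0x60708030204000501) (nat_lit 1795))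
 (.leaf (nat_lit 0x60708030204010005) (nat_lit 1539))
) (.node (nat_lit 0x60708030204050001) (.leaf (nat_lit 0x60708030204010500) (nat_lit 1795))
 (.leaf (nat_lit 0x60708030204050001) (nat_lit 2051))
)) (.node (nat_lit 0x60708030205000401) (.node (nat_lit 0x60708030205000104) (.leaf (nat_lit 0x60708030204050100) (nat_lit 1795))
 (.leaf (nat_lit 0x60708030205000104) (nat_lit 2058))
) (.node (nat_lit 0x60708030205010004) (.leaf (nat_lit 0x60708030205000401) (nat_lit 2049))
 (.leaf (nat_lit 0x60708030205010004) (nat_lit 1793))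
))) (.node (nat_lit 0x60708030400010502) (.node (nat_lit 0x60708030205040100) (.node (nat_lit 0x60708030205040001) (.leaf (nat_lit 0x60708030205010400) (nat_lit 2058))
 (.leaf (nat_lit 0x60708030205040001) (nat_lit 1802))
) (.node (nat_lit 0x60708030400010205) (.leaf (nat_lit 0x60708030205040100) (nat_lit 2049))
 (.leaf (nat_lit 0x60708030400010205) (nat_lit 1539))
)) (.node (nat_lit 0x60708030400020501) (.node (nat_lit 0x60708030400020105) (.leaf (nat_lit 0x60708030400010502) (nat_lit 1539))
 (.leaf (nat_lit 0x60708030400020105) (nat_lit 1283))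
) (.node (nat_lit 0x60708030400050102) (.leaf (nat_lit 0x60708030400020501) (nat_lit 1795))
 (.node (nat_lit 0x60708030400050201) (.leaf (nat_lit 0x60708030400050102) (nat_lit 1795))
 (.leaf (nat_lit 0x60708030400050201) (nat_lit 1539))
)))))) (.node (nat_lit 0x60708030405020100) (.node (nat_lit 0x60708030402010005) (.node (nat_lit 0x60708030401050002) (.node (nat_lit 0x60708030401020005) (.node (nat_lit 0x60708030401000502) (.leaf (nat_lit 0x60708030401000205) (nat_lit 1539))
 (.leaf (nat_lit 0x60708030401000502) (nat_lit 2051))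
) (.node (nat_lit 0x60708030401020500) (.leaf (nat_lit 0x60708030401020005) (nat_lit 1795))
 (.leaf (nat_lit 0x60708030401020500) (nat_lit 1795))
)) (.node (nat_lit 0x60708030402000105) (.node (nat_lit 0x60708030401050200) (.leaf (nat_lit 0x60708030401050002) (nat_lit 1795))
 (.leaf (nat_lit 0x60708030401050200) (nat_lit 1795))
) (.node (nat_lit 0x60708030402000501) (.leaf (nat_lit 0x60708030402000105) (nat_lit 1795))
 (.leaf (nat_lit 0x60708030402000501) (nat_lit 1795))
))) (.node (nat_lit 0x60708030405000102) (.node (nat_lit 0x60708030402050001) (.node (nat_lit 0x60708030402010500) (.leaf (nat_lit 0x60708030402010005) (nat_lit 1539))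
 (.leaf (nat_lit 0x60708030402010500) (nat_lit 1795))
) (.node (nat_lit 0x60708030402050100) (.leaf (nat_lit 0x60708030402050001) (nat_lit 2051))
 (.leaf (nat_lit 0x60708030402050100) (nat_lit 1795))
)) (.node (nat_lit 0x60708030405010002) (.node (nat_lit 0x60708030405000201) (.leaf (nat_lit 0x60708030405000102) (nat_lit 1544))
 (.leaf (nat_lit 0x60708030405000201) (nat_lit 1288))
) (.node (nat_lit 0x60708030405010200) (.leaf (nat_lit 0x60708030405010002) (nat_lit 1288))
 (.node (nat_lit 0x60708030405020001) (.leaf (nat_lit 0x60708030405010200) (nat_lit 1288))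
 (.leaf (nat_lit 0x60708030405020001) (nat_lit 1544))
))))) (.node (nat_lit 0x60708030501000402) (.node (nat_lit 0x60708030500020401) (.node (nat_lit 0x60708030500010402) (.node (nat_lit 0x60708030500010204) (.leaf (nat_lit 0x60708030405020100) (nat_lit 1032))
 (.leaf (nat_lit 0x60708030500010204) (nat_lit 1282))
) (.node (nat_lit 0x60708030500020104) (.leaf (nat_lit 0x60708030500010402) (nat_lit 1282))
 (.leaf (nat_lit 0x60708030500020104) (nat_lit 1026))
)) (.node (nat_lit 0x60708030500040201) (.node (nat_lit 0x60708030500040102) (.leaf (nat_lit 0x60708030500020401) (nat_lit 1538))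
 (.leaf (nat_lit 0x60708030500040102) (nat_lit 1538))
) (.node (nat_lit 0x60708030501000204) (.leaf (nat_lit 0x60708030500040201) (nat_lit 1282))
 (.leaf (nat_lit 0x60708030501000204) (nat_lit 1282))
))) (.node (nat_lit 0x60708030501040200) (.node (nat_lit 0x60708030501020400) (.node (nat_lit 0x60708030501020004) (.leaf (nat_lit 0x60708030501000402) (nat_lit 1794))
 (.leaf (nat_lit 0x60708030501020004) (nat_lit 1538))
) (.node (nat_lit 0x60708030501040002) (.leaf (nat_lit 0x60708030501020400) (nat_lit 1538))
 (.leaf (nat_lit 0x60708030501040002) (nat_lit 1538))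
)) (.node (nat_lit 0x60708030502000401) (.node (nat_lit 0x60708030502000104) (.leaf (nat_lit 0x60708030501040200) (nat_lit 1538))
 (.leaf (nat_lit 0x60708030502000104) (nat_lit 1538))
) (.node (nat_lit 0x60708030502010004) (.leaf (nat_lit 0x60708030502000401) (nat_lit 1538))
 (.node (nat_lit 0x60708030502010400) (.leaf (nat_lit 0x60708030502010004) (nat_lit 1282))
 (.leaf (nat_lit 0x60708030502010400) (nat_lit 1538))
))))))) (.node (nat_lit 0x60708040100030205) (.node (nat_lit 0x60708040002030501) (.node (nat_lit 0x60708040001020305) (.node (nat_lit 0x60708030504010002) (.node (nat_lit 0x60708030504000102) (.node (nat_lit 0x60708030502040100) (.leaf (nat_lit 0x60708030502040001) (nat_lit 1794))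
 (.leaf (nat_lit 0x60708030502040100) (nat_lit 1538))
) (.node (nat_lit 0x60708030504000201) (.leaf (nat_lit 0x60708030504000102) (nat_lit 1288))
 (.leaf (nat_lit 0x60708030504000201) (nat_lit 1032))
)) (.node (nat_lit 0x60708030504020001) (.node (nat_lit 0x60708030504010200) (.leaf (nat_lit 0x60708030504010002) (nat_lit 1032))
 (.leaf (nat_lit 0x60708030504010200) (nat_lit 1032))
) (.node (nat_lit 0x60708030504020100) (.leaf (nat_lit 0x60708030504020001) (nat_lit 1288))
 (.leaf (nat_lit 0x60708030504020100) (nat_lit 776))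
))) (.node (nat_lit 0x60708040001050203) (.node (nat_lit 0x60708040001030205) (.node (nat_lit 0x60708040001020503) (.leaf (nat_lit 0x60708040001020305) (nat_lit 1802))
 (.leaf (nat_lit 0x60708040001020503) (nat_lit 1802))
) (.node (nat_lit 0x60708040001030502) (.leaf (nat_lit 0x60708040001030205) (nat_lit 1546))
 (.leaf (nat_lit 0x60708040001030502) (nat_lit 2058))
)) (.node (nat_lit 0x60708040002010305) (.node (nat_lit 0x60708040001050302) (.leaf (nat_lit 0x60708040001050203) (nat_lit 1802))
 (.leaf (nat_lit 0x60708040001050302) (nat_lit 1802))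
) (.node (nat_lit 0x60708040002010503) (.leaf (nat_lit 0x60708040002010305) (nat_lit 1546))
 (.node (nat_lit 0x60708040002030105) (.leaf (nat_lit 0x60708040002010503) (nat_lit 1802))
 (.leaf (nat_lit 0x60708040002030105) (nat_lit 1802))
))))) (.node (nat_lit 0x60708040003050201) (.node (nat_lit 0x60708040003010502) (.node (nat_lit 0x60708040002050301) (.node (nat_lit 0x60708040002050103) (.leaf (nat_lit 0x60708040002030501) (nat_lit 1802))
 (.leaf (nat_lit 0x60708040002050103) (nat_lit 1802))
) (.node (nat_lit 0x60708040003010205) (.leaf (nat_lit 0x60708040002050301) (nat_lit 2058))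
 (.leaf (nat_lit 0x60708040003010205) (nat_lit 1546))
)) (.node (nat_lit 0x60708040003020501) (.node (nat_lit 0x60708040003020105) (.leaf (nat_lit 0x60708040003010502) (nat_lit 1546))
 (.leaf (nat_lit 0x60708040003020105) (nat_lit 1290))
) (.node (nat_lit 0x60708040003050102) (.leaf (nat_lit 0x60708040003020501) (nat_lit 1802))
 (.leaf (nat_lit 0x60708040003050102) (nat_lit 1802))
))) (.node (nat_lit 0x60708040005020301) (.node (nat_lit 0x60708040005010302) (.node (nat_lit 0x60708040005010203) (.leaf (nat_lit 0x60708040003050201) (nat_lit 1546))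
 (.leaf (nat_lit 0x60708040005010203) (nat_lit 1290))
) (.node (nat_lit 0x60708040005020103) (.leaf (nat_lit 0x60708040005010302) (nat_lit 1290))
 (.leaf (nat_lit 0x60708040005020103) (nat_lit 1034))
)) (.node (nat_lit 0x60708040005030201) (.node (nat_lit 0x60708040005030102) (.leaf (nat_lit 0x60708040005020301) (nat_lit 1546))
 (.leaf (nat_lit 0x60708040005030102) (nat_lit 1546))
) (.node (nat_lit 0x60708040100020305) (.leaf (nat_lit 0x60708040005030201) (nat_lit 1290))
 (.node (nat_lit 0x60708040100020503) (.leaf (nat_lit 0x60708040100020305) (nat_lit 1792))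
 (.leaf (nat_lit 0x60708040100020503) (nat_lit 2058))
)))))) (.node (nat_lit 0x60708040105000302) (.node (nat_lit 0x60708040102050003) (.node (nat_lit 0x60708040102000305) (.node (nat_lit 0x60708040100050203) (.node (nat_lit 0x60708040100030502) (.leaf (nat_lit 0x60708040100030205) (nat_lit 1802))
 (.leaf (nat_lit 0x60708040100030502) (nat_lit 1794))
) (.node (nat_lit 0x60708040100050302) (.leaf (nat_lit 0x60708040100050203) (nat_lit 2048))
 (.leaf (nat_lit 0x60708040100050302) (nat_lit 2058))
)) (.node (nat_lit 0x60708040102030005) (.node (nat_lit 0x60708040102000503) (.leaf (nat_lit 0x60708040102000305) (nat_lit 2050))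
 (.leaf (nat_lit 0x60708040102000503) (nat_lit 2048))
) (.node (nat_lit 0x60708040102030500) (.leaf (nat_lit 0x60708040102030005) (nat_lit 1792))
 (.leaf (nat_lit 0x60708040102030500) (nat_lit 1794))
))) (.node (nat_lit 0x60708040103020005) (.node (nat_lit 0x60708040103000205) (.node (nat_lit 0x60708040102050300) (.leaf (nat_lit 0x60708040102050003) (nat_lit 2050))
 (.leaf (nat_lit 0x60708040102050300) (nat_lit 2048))
) (.node (nat_lit 0x60708040103000502) (.leaf (nat_lit 0x60708040103000205) (nat_lit 1536))
 (.leaf (nat_lit 0x60708040103000502) (nat_lit 2048))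
)) (.node (nat_lit 0x60708040103050002) (.node (nat_lit 0x60708040103020500) (.leaf (nat_lit 0x60708040103020005) (nat_lit 1792))
 (.leaf (nat_lit 0x60708040103020500) (nat_lit 1792))
) (.node (nat_lit 0x60708040103050200) (.leaf (nat_lit 0x60708040103050002) (nat_lit 1792))
 (.node (nat_lit 0x60708040105000203) (.leaf (nat_lit 0x60708040103050200) (nat_lit 2048))
 (.leaf (nat_lit 0x60708040105000203) (nat_lit 1280))
))))) (.node (nat_lit 0x60708040200030501) (.node (nat_lit 0x60708040105030200) (.node (nat_lit 0x60708040105020300) (.node (nat_lit 0x60708040105020003) (.leaf (nat_lit 0x60708040105000302) (nat_lit 1802))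
 (.leaf (nat_lit 0x60708040105020003) (nat_lit 1536))
) (.node (nat_lit 0x60708040105030002) (.leaf (nat_lit 0x60708040105020300) (nat_lit 1536))
 (.leaf (nat_lit 0x60708040105030002) (nat_lit 1536))
)) (.node (nat_lit 0x60708040200010503) (.node (nat_lit 0x60708040200010305) (.leaf (nat_lit 0x60708040105030200) (nat_lit 1546))
 (.leaf (nat_lit 0x60708040200010305) (nat_lit 1802))
) (.node (nat_lit 0x60708040200030105) (.leaf (nat_lit 0x60708040200010503) (nat_lit 2049))
 (.leaf (nat_lit 0x60708040200030105) (nat_lit 1793))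
))) (.node (nat_lit 0x60708040201000503) (.node (nat_lit 0x60708040200050301) (.node (nat_lit 0x60708040200050103) (.leaf (nat_lit 0x60708040200030501) (nat_lit 1794))
 (.leaf (nat_lit 0x60708040200050103) (nat_lit 2058))
) (.node (nat_lit 0x60708040201000305) (.leaf (nat_lit 0x60708040200050301) (nat_lit 2049))
 (.leaf (nat_lit 0x60708040201000305) (nat_lit 1794))
)) (.node (nat_lit 0x60708040201030500) (.node (nat_lit 0x60708040201030005) (.leaf (nat_lit 0x60708040201000503) (nat_lit 1802))
 (.leaf (nat_lit 0x60708040201030005) (nat_lit 2058))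
) (.node (nat_lit 0x60708040201050003) (.leaf (nat_lit 0x60708040201030500) (nat_lit 1538))
 (.node (nat_lit 0x60708040201050300) (.leaf (nat_lit 0x60708040201050003) (nat_lit 1794))
 (.leaf (nat_lit 0x60708040201050300) (nat_lit 1794))
)))))))))) (.node (nat_lit 0x60807000405010203) (.node (nat_lit 0x60708050300020401) (.node (nat_lit 0x60708050002010403) (.node (nat_lit 0x60708040305010200) (.node (nat_lit 0x60708040300050102) (.node (nat_lit 0x60708040205010003) (.node (nat_lit 0x60708040203050001) (.node (nat_lit 0x60708040203010005) (.node (nat_lit 0x60708040203000501) (.leaf (nat_lit 0x60708040203000105) (nat_lit 1793))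
 (.leaf (nat_lit 0x60708040203000501) (nat_lit 1793))
) (.node (nat_lit 0x60708040203010500) (.leaf (nat_lit 0x60708040203010005) (nat_lit 1537))
 (.leaf (nat_lit 0x60708040203010500) (nat_lit 2049))
)) (.node (nat_lit 0x60708040205000103) (.node (nat_lit 0x60708040203050100) (.leaf (nat_lit 0x60708040203050001) (nat_lit 2049))
 (.leaf (nat_lit 0x60708040203050100) (nat_lit 1793))
) (.node (nat_lit 0x60708040205000301) (.leaf (nat_lit 0x60708040205000103) (nat_lit 1537))
 (.leaf (nat_lit 0x60708040205000301) (nat_lit 1537))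
))) (.node (nat_lit 0x60708040300010205) (.node (nat_lit 0x60708040205030001) (.node (nat_lit 0x60708040205010300) (.leaf (nat_lit 0x60708040205010003) (nat_lit 1281))
 (.leaf (nat_lit 0x60708040205010300) (nat_lit 1546))
) (.node (nat_lit 0x60708040205030100) (.leaf (nat_lit 0x60708040205030001) (nat_lit 1793))
 (.leaf (nat_lit 0x60708040205030100) (nat_lit 1537))
)) (.node (nat_lit 0x60708040300020105) (.node (nat_lit 0x60708040300010502) (.leaf (nat_lit 0x60708040300010205) (nat_lit 1283))
 (.leaf (nat_lit 0x60708040300010502) (nat_lit 1283))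
) (.node (nat_lit 0x60708040300020501) (.leaf (nat_lit 0x60708040300020105) (nat_lit 1027))
 (.leaf (nat_lit 0x60708040300020501) (nat_lit 1539))
)))) (.node (nat_lit 0x60708040302000105) (.node (nat_lit 0x60708040301020005) (.node (nat_lit 0x60708040301000205) (.node (nat_lit 0x60708040300050201) (.leaf (nat_lit 0x60708040300050102) (nat_lit 1539))
 (.leaf (nat_lit 0x60708040300050201) (nat_lit 1283))
) (.node (nat_lit 0x60708040301000502) (.leaf (nat_lit 0x60708040301000205) (nat_lit 1283))
 (.leaf (nat_lit 0x60708040301000502) (nat_lit 1795))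
)) (.node (nat_lit 0x60708040301050002) (.node (nat_lit 0x60708040301020500) (.leaf (nat_lit 0x60708040301020005) (nat_lit 1539))
 (.leaf (nat_lit 0x60708040301020500) (nat_lit 1539))
) (.node (nat_lit 0x60708040301050200) (.leaf (nat_lit 0x60708040301050002) (nat_lit 1539))
 (.leaf (nat_lit 0x60708040301050200) (nat_lit 1539))
))) (.node (nat_lit 0x60708040302050001) (.node (nat_lit 0x60708040302010005) (.node (nat_lit 0x60708040302000501) (.leaf (nat_lit 0x60708040302000105) (nat_lit 1539))
 (.leaf (nat_lit 0x60708040302000501) (nat_lit 1539))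
) (.node (nat_lit 0x60708040302010500) (.leaf (nat_lit 0x60708040302010005) (nat_lit 1283))
 (.leaf (nat_lit 0x60708040302010500) (nat_lit 1539))
)) (.node (nat_lit 0x60708040305000102) (.node (nat_lit 0x60708040302050100) (.leaf (nat_lit 0x60708040302050001) (nat_lit 1795))
 (.leaf (nat_lit 0x60708040302050100) (nat_lit 1539))
) (.node (nat_lit 0x60708040305000201) (.leaf (nat_lit 0x60708040305000102) (nat_lit 1288))
 (.node (nat_lit 0x60708040305010002) (.leaf (nat_lit 0x60708040305000201) (nat_lit 1032))
 (.leaf (nat_lit 0x60708040305010002) (nat_lit 1032))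
)))))) (.node (nat_lit 0x60708040502010003) (.node (nat_lit 0x60708040500030201) (.node (nat_lit 0x60708040500010302) (.node (nat_lit 0x60708040305020100) (.node (nat_lit 0x60708040305020001) (.leaf (nat_lit 0x60708040305010200) (nat_lit 1032))
 (.leaf (nat_lit 0x60708040305020001) (nat_lit 1288))
) (.node (nat_lit 0x60708040500010203) (.leaf (nat_lit 0x60708040305020100) (nat_lit 776))
 (.leaf (nat_lit 0x60708040500010203) (nat_lit 1290))
)) (.node (nat_lit 0x60708040500020301) (.node (nat_lit 0x60708040500020103) (.leaf (nat_lit 0x60708040500010302) (nat_lit 1290))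
 (.leaf (nat_lit 0x60708040500020103) (nat_lit 1034))
) (.node (nat_lit 0x60708040500030102) (.leaf (nat_lit 0x60708040500020301) (nat_lit 1546))
 (.leaf (nat_lit 0x60708040500030102) (nat_lit 1546))
))) (.node (nat_lit 0x60708040501020300) (.node (nat_lit 0x60708040501000302) (.node (nat_lit 0x60708040501000203) (.leaf (nat_lit 0x60708040500030201) (nat_lit 1290))
 (.leaf (nat_lit 0x60708040501000203) (nat_lit 1280))
) (.node (nat_lit 0x60708040501020003) (.leaf (nat_lit 0x60708040501000302) (nat_lit 1802))
 (.leaf (nat_lit 0x60708040501020003) (nat_lit 1536))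
)) (.node (nat_lit 0x60708040501030200) (.node (nat_lit 0x60708040501030002) (.leaf (nat_lit 0x60708040501020300) (nat_lit 1536))
 (.leaf (nat_lit 0x60708040501030002) (nat_lit 1536))
) (.node (nat_lit 0x60708040502000103) (.leaf (nat_lit 0x60708040501030200) (nat_lit 1546))
 (.node (nat_lit 0x60708040502000301) (.leaf (nat_lit 0x60708040502000103) (nat_lit 1537))
 (.leaf (nat_lit 0x60708040502000301) (nat_lit 1537))
))))) (.node (nat_lit 0x60708040503020001) (.node (nat_lit 0x60708040503000102) (.node (nat_lit 0x60708040502030001) (.node (nat_lit 0x60708040502010300) (.leaf (nat_lit 0x60708040502010003) (nat_lit 1281))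
 (.leaf (nat_lit 0x60708040502010300) (nat_lit 1546))
) (.node (nat_lit 0x60708040502030100) (.leaf (nat_lit 0x60708040502030001) (nat_lit 1793))
 (.leaf (nat_lit 0x60708040502030100) (nat_lit 1537))
)) (.node (nat_lit 0x60708040503010002) (.node (nat_lit 0x60708040503000201) (.leaf (nat_lit 0x60708040503000102) (nat_lit 1288))
 (.leaf (nat_lit 0x60708040503000201) (nat_lit 1032))
) (.node (nat_lit 0x60708040503010200) (.leaf (nat_lit 0x60708040503010002) (nat_lit 1032))
 (.leaf (nat_lit 0x60708040503010200) (nat_lit 1032))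
))) (.node (nat_lit 0x60708050001030204) (.node (nat_lit 0x60708050001020304) (.node (nat_lit 0x60708040503020100) (.leaf (nat_lit 0x60708040503020001) (nat_lit 1288))
 (.leaf (nat_lit 0x60708040503020100) (nat_lit 776))
) (.node (nat_lit 0x60708050001020403) (.leaf (nat_lit 0x60708050001020304) (nat_lit 2050))
 (.leaf (nat_lit 0x60708050001020403) (nat_lit 2058))
)) (.node (nat_lit 0x60708050001040203) (.node (nat_lit 0x60708050001030402) (.leaf (nat_lit 0x60708050001030204) (nat_lit 1802))
 (.leaf (nat_lit 0x60708050001030402) (nat_lit 2050))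
) (.node (nat_lit 0x60708050001040302) (.leaf (nat_lit 0x60708050001040203) (nat_lit 1794))
 (.node (nat_lit 0x60708050002010304) (.leaf (nat_lit 0x60708050001040302) (nat_lit 2058))
 (.leaf (nat_lit 0x60708050002010304) (nat_lit 1802))
))))))) (.node (nat_lit 0x60708050103040200) (.node (nat_lit 0x60708050100020304) (.node (nat_lit 0x60708050003020401) (.node (nat_lit 0x60708050002040301) (.node (nat_lit 0x60708050002030401) (.node (nat_lit 0x60708050002030104) (.leaf (nat_lit 0x60708050002010403) (nat_lit 1794))
 (.leaf (nat_lit 0x60708050002030104) (nat_lit 2050))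
) (.node (nat_lit 0x60708050002040103) (.leaf (nat_lit 0x60708050002030401) (nat_lit 2058))
 (.leaf (nat_lit 0x60708050002040103) (nat_lit 2058))
)) (.node (nat_lit 0x60708050003010402) (.node (nat_lit 0x60708050003010204) (.leaf (nat_lit 0x60708050002040301) (nat_lit 1795))
 (.leaf (nat_lit 0x60708050003010204) (nat_lit 1538))
) (.node (nat_lit 0x60708050003020104) (.leaf (nat_lit 0x60708050003010402) (nat_lit 1538))
 (.leaf (nat_lit 0x60708050003020104) (nat_lit 1282))
))) (.node (nat_lit 0x60708050004010302) (.node (nat_lit 0x60708050003040201) (.node (nat_lit 0x60708050003040102) (.leaf (nat_lit 0x60708050003020401) (nat_lit 1794))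
 (.leaf (nat_lit 0x60708050003040102) (nat_lit 1794))
) (.node (nat_lit 0x60708050004010203) (.leaf (nat_lit 0x60708050003040201) (nat_lit 1538))
 (.leaf (nat_lit 0x60708050004010203) (nat_lit 1546))
)) (.node (nat_lit 0x60708050004020301) (.node (nat_lit 0x60708050004020103) (.leaf (nat_lit 0x60708050004010302) (nat_lit 1546))
 (.leaf (nat_lit 0x60708050004020103) (nat_lit 1290))
) (.node (nat_lit 0x60708050004030102) (.leaf (nat_lit 0x60708050004020301) (nat_lit 1802))
 (.node (nat_lit 0x60708050004030201) (.leaf (nat_lit 0x60708050004030102) (nat_lit 1802))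
 (.leaf (nat_lit 0x60708050004030201) (nat_lit 1546))
))))) (.node (nat_lit 0x60708050102030004) (.node (nat_lit 0x60708050100040203) (.node (nat_lit 0x60708050100030204) (.node (nat_lit 0x60708050100020403) (.leaf (nat_lit 0x60708050100020304) (nat_lit 2058))
 (.leaf (nat_lit 0x60708050100020403) (nat_lit 2051))
) (.node (nat_lit 0x60708050100030402) (.leaf (nat_lit 0x60708050100030204) (nat_lit 1802))
 (.leaf (nat_lit 0x60708050100030402) (nat_lit 2051))
)) (.node (nat_lit 0x60708050102000304) (.node (nat_lit 0x60708050100040302) (.leaf (nat_lit 0x60708050100040203) (nat_lit 2049))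
 (.leaf (nat_lit 0x60708050100040302) (nat_lit 1795))
) (.node (nat_lit 0x60708050102000403) (.leaf (nat_lit 0x60708050102000304) (nat_lit 2049))
 (.leaf (nat_lit 0x60708050102000403) (nat_lit 2051))
))) (.node (nat_lit 0x60708050103000204) (.node (nat_lit 0x60708050102040003) (.node (nat_lit 0x60708050102030400) (.leaf (nat_lit 0x60708050102030004) (nat_lit 2051))
 (.leaf (nat_lit 0x60708050102030400) (nat_lit 2051))
) (.node (nat_lit 0x60708050102040300) (.leaf (nat_lit 0x60708050102040003) (nat_lit 2058))
 (.leaf (nat_lit 0x60708050102040300) (nat_lit 1795))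
)) (.node (nat_lit 0x60708050103020004) (.node (nat_lit 0x60708050103000402) (.leaf (nat_lit 0x60708050103000204) (nat_lit 1538))
 (.leaf (nat_lit 0x60708050103000402) (nat_lit 2050))
) (.node (nat_lit 0x60708050103020400) (.leaf (nat_lit 0x60708050103020004) (nat_lit 1794))
 (.node (nat_lit 0x60708050103040002) (.leaf (nat_lit 0x60708050103020400) (nat_lit 1794))
 (.leaf (nat_lit 0x60708050103040002) (nat_lit 1794))
)))))) (.node (nat_lit 0x60708050201040003) (.node (nat_lit 0x60708050200010403) (.node (nat_lit 0x60708050104020300) (.node (nat_lit 0x60708050104000302) (.node (nat_lit 0x60708050104000203) (.leaf (nat_lit 0x60708050103040200) (nat_lit 1794))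
 (.leaf (nat_lit 0x60708050104000203) (nat_lit 1536))
) (.node (nat_lit 0x60708050104020003) (.leaf (nat_lit 0x60708050104000302) (nat_lit 2058))
 (.leaf (nat_lit 0x60708050104020003) (nat_lit 1792))
)) (.node (nat_lit 0x60708050104030200) (.node (nat_lit 0x60708050104030002) (.leaf (nat_lit 0x60708050104020300) (nat_lit 1792))
 (.leaf (nat_lit 0x60708050104030002) (nat_lit 1792))
) (.node (nat_lit 0x60708050200010304) (.leaf (nat_lit 0x60708050104030200) (nat_lit 1802))
 (.leaf (nat_lit 0x60708050200010304) (nat_lit 1802))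
))) (.node (nat_lit 0x60708050200040301) (.node (nat_lit 0x60708050200030401) (.node (nat_lit 0x60708050200030104) (.leaf (nat_lit 0x60708050200010403) (nat_lit 2051))
 (.leaf (nat_lit 0x60708050200030104) (nat_lit 2051))
) (.node (nat_lit 0x60708050200040103) (.leaf (nat_lit 0x60708050200030401) (nat_lit 2058))
 (.leaf (nat_lit 0x60708050200040103) (nat_lit 2058))
)) (.node (nat_lit 0x60708050201000403) (.node (nat_lit 0x60708050201000304) (.leaf (nat_lit 0x60708050200040301) (nat_lit 1795))
 (.leaf (nat_lit 0x60708050201000304) (nat_lit 2051))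
) (.node (nat_lit 0x60708050201030004) (.leaf (nat_lit 0x60708050201000403) (nat_lit 1795))
 (.node (nat_lit 0x60708050201030400) (.leaf (nat_lit 0x60708050201030004) (nat_lit 1795))
 (.leaf (nat_lit 0x60708050201030400) (nat_lit 1795))
))))) (.node (nat_lit 0x60708050204000103) (.node (nat_lit 0x60708050203010004) (.node (nat_lit 0x60708050203000104) (.node (nat_lit 0x60708050201040300) (.leaf (nat_lit 0x60708050201040003) (nat_lit 1802))
 (.leaf (nat_lit 0x60708050201040300) (nat_lit 1539))
) (.node (nat_lit 0x60708050203000401) (.leaf (nat_lit 0x60708050203000104) (nat_lit 1794))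
 (.leaf (nat_lit 0x60708050203000401) (nat_lit 1794))
)) (.node (nat_lit 0x60708050203040001) (.node (nat_lit 0x60708050203010400) (.leaf (nat_lit 0x60708050203010004) (nat_lit 1538))
 (.leaf (nat_lit 0x60708050203010400) (nat_lit 1794))
) (.node (nat_lit 0x60708050203040100) (.leaf (nat_lit 0x60708050203040001) (nat_lit 2050))
 (.leaf (nat_lit 0x60708050203040100) (nat_lit 1794))
))) (.node (nat_lit 0x60708050204030001) (.node (nat_lit 0x60708050204010003) (.node (nat_lit 0x60708050204000301) (.leaf (nat_lit 0x60708050204000103) (nat_lit 1793))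
 (.leaf (nat_lit 0x60708050204000301) (nat_lit 1793))
) (.node (nat_lit 0x60708050204010300) (.leaf (nat_lit 0x60708050204010003) (nat_lit 1537))
 (.leaf (nat_lit 0x60708050204010300) (nat_lit 1802))
)) (.node (nat_lit 0x60708050300010204) (.node (nat_lit 0x60708050204030100) (.leaf (nat_lit 0x60708050204030001) (nat_lit 2049))
 (.leaf (nat_lit 0x60708050204030100) (nat_lit 1793))
) (.node (nat_lit 0x60708050300010402) (.leaf (nat_lit 0x60708050300010204) (nat_lit 1538))
 (.node (nat_lit 0x60708050300020104) (.leaf (nat_lit 0x60708050300010402) (nat_lit 1538))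
 (.leaf (nat_lit 0x60708050300020104) (nat_lit 1282))
)))))))) (.node (nat_lit 0x60807000105040203) (.node (nat_lit 0x60708050402000103) (.node (nat_lit 0x60708050304000201) (.node (nat_lit 0x60708050301040200) (.node (nat_lit 0x60708050301000402) (.node (nat_lit 0x60708050300040201) (.node (nat_lit 0x60708050300040102) (.leaf (nat_lit 0x60708050300020401) (nat_lit 1794))
 (.leaf (nat_lit 0x60708050300040102) (nat_lit 1794))
) (.node (nat_lit 0x60708050301000204) (.leaf (nat_lit 0x60708050300040201) (nat_lit 1538))
 (.leaf (nat_lit 0x60708050301000204) (nat_lit 1538))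
)) (.node (nat_lit 0x60708050301020400) (.node (nat_lit 0x60708050301020004) (.leaf (nat_lit 0x60708050301000402) (nat_lit 2050))
 (.leaf (nat_lit 0x60708050301020004) (nat_lit 1794))
) (.node (nat_lit 0x60708050301040002) (.leaf (nat_lit 0x60708050301020400) (nat_lit 1794))
 (.leaf (nat_lit 0x60708050301040002) (nat_lit 1794))
))) (.node (nat_lit 0x60708050302010400) (.node (nat_lit 0x60708050302000401) (.node (nat_lit 0x60708050302000104) (.leaf (nat_lit 0x60708050301040200) (nat_lit 1794))
 (.leaf (nat_lit 0x60708050302000104) (nat_lit 1794))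
) (.node (nat_lit 0x60708050302010004) (.leaf (nat_lit 0x60708050302000401) (nat_lit 1794))
 (.leaf (nat_lit 0x60708050302010004) (nat_lit 1538))
)) (.node (nat_lit 0x60708050302040100) (.node (nat_lit 0x60708050302040001) (.leaf (nat_lit 0x60708050302010400) (nat_lit 1794))
 (.leaf (nat_lit 0x60708050302040001) (nat_lit 2050))
) (.node (nat_lit 0x60708050304000102) (.leaf (nat_lit 0x60708050302040100) (nat_lit 1794))
 (.leaf (nat_lit 0x60708050304000102) (nat_lit 1544))
)))) (.node (nat_lit 0x60708050400020301) (.node (nat_lit 0x60708050304020100) (.node (nat_lit 0x60708050304010200) (.node (nat_lit 0x60708050304010002) (.leaf (nat_lit 0x60708050304000201) (nat_lit 1288))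
 (.leaf (nat_lit 0x60708050304010002) (nat_lit 1288))
) (.node (nat_lit 0x60708050304020001) (.leaf (nat_lit 0x60708050304010200) (nat_lit 1288))
 (.leaf (nat_lit 0x60708050304020001) (nat_lit 1544))
)) (.node (nat_lit 0x60708050400010302) (.node (nat_lit 0x60708050400010203) (.leaf (nat_lit 0x60708050304020100) (nat_lit 1032))
 (.leaf (nat_lit 0x60708050400010203) (nat_lit 1034))
) (.node (nat_lit 0x60708050400020103) (.leaf (nat_lit 0x60708050400010302) (nat_lit 1034))
 (.leaf (nat_lit 0x60708050400020103) (nat_lit 778))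
))) (.node (nat_lit 0x60708050401000302) (.node (nat_lit 0x60708050400030201) (.node (nat_lit 0x60708050400030102) (.leaf (nat_lit 0x60708050400020301) (nat_lit 1290))
 (.leaf (nat_lit 0x60708050400030102) (nat_lit 1290))
) (.node (nat_lit 0x60708050401000203) (.leaf (nat_lit 0x60708050400030201) (nat_lit 1034))
 (.leaf (nat_lit 0x60708050401000203) (nat_lit 1024))
)) (.node (nat_lit 0x60708050401020300) (.node (nat_lit 0x60708050401020003) (.leaf (nat_lit 0x60708050401000302) (nat_lit 1546))
 (.leaf (nat_lit 0x60708050401020003) (nat_lit 1280))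
) (.node (nat_lit 0x60708050401030002) (.leaf (nat_lit 0x60708050401020300) (nat_lit 1280))
 (.node (nat_lit 0x60708050401030200) (.leaf (nat_lit 0x60708050401030002) (nat_lit 1280))
 (.leaf (nat_lit 0x60708050401030200) (nat_lit 1290))
)))))) (.node (nat_lit 0x60807000102050403) (.node (nat_lit 0x60708050403010002) (.node (nat_lit 0x60708050402030001) (.node (nat_lit 0x60708050402010003) (.node (nat_lit 0x60708050402000301) (.leaf (nat_lit 0x60708050402000103) (nat_lit 1281))
 (.leaf (nat_lit 0x60708050402000301) (nat_lit 1281))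
) (.node (nat_lit 0x60708050402010300) (.leaf (nat_lit 0x60708050402010003) (nat_lit 1025))
 (.leaf (nat_lit 0x60708050402010300) (nat_lit 1290))
)) (.node (nat_lit 0x60708050403000102) (.node (nat_lit 0x60708050402030100) (.leaf (nat_lit 0x60708050402030001) (nat_lit 1537))
 (.leaf (nat_lit 0x60708050402030100) (nat_lit 1281))
) (.node (nat_lit 0x60708050403000201) (.leaf (nat_lit 0x60708050403000102) (nat_lit 1032))
 (.leaf (nat_lit 0x60708050403000201) (nat_lit 776))
))) (.node (nat_lit 0x60807000102030405) (.node (nat_lit 0x60708050403020001) (.node (nat_lit 0x60708050403010200) (.leaf (nat_lit 0x60708050403010002) (nat_lit 776))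
 (.leaf (nat_lit 0x60708050403010200) (nat_lit 776))
) (.node (nat_lit 0x60708050403020100) (.leaf (nat_lit 0x60708050403020001) (nat_lit 1032))
 (.leaf (nat_lit 0x60708050403020100) (nat_lit 520))
)) (.node (nat_lit 0x60807000102040305) (.node (nat_lit 0x60807000102030504) (.leaf (nat_lit 0x60807000102030405) (nat_lit 1545))
 (.leaf (nat_lit 0x60807000102030504) (nat_lit 1289))
) (.node (nat_lit 0x60807000102040503) (.leaf (nat_lit 0x60807000102040305) (nat_lit 1289))
 (.node (nat_lit 0x60807000102050304) (.leaf (nat_lit 0x60807000102040503) (nat_lit 1289))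
 (.leaf (nat_lit 0x60807000102050304) (nat_lit 1545))
))))) (.node (nat_lit 0x60807000104020503) (.node (nat_lit 0x60807000103040502) (.node (nat_lit 0x60807000103020504) (.node (nat_lit 0x60807000103020405) (.leaf (nat_lit 0x60807000102050403) (nat_lit 1033))
 (.leaf (nat_lit 0x60807000103020405) (nat_lit 1793))
) (.node (nat_lit 0x60807000103040205) (.leaf (nat_lit 0x60807000103020504) (nat_lit 1537))
 (.leaf (nat_lit 0x60807000103040205) (nat_lit 1537))
)) (.node (nat_lit 0x60807000103050402) (.node (nat_lit 0x60807000103050204) (.leaf (nat_lit 0x60807000103040502) (nat_lit 1537))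
 (.leaf (nat_lit 0x60807000103050204) (nat_lit 1793))
) (.node (nat_lit 0x60807000104020305) (.leaf (nat_lit 0x60807000103050402) (nat_lit 1281))
 (.leaf (nat_lit 0x60807000104020305) (nat_lit 1794))
))) (.node (nat_lit 0x60807000104050302) (.node (nat_lit 0x60807000104030502) (.node (nat_lit 0x60807000104030205) (.leaf (nat_lit 0x60807000104020503) (nat_lit 1802))
 (.leaf (nat_lit 0x60807000104030205) (nat_lit 1546))
) (.node (nat_lit 0x60807000104050203) (.leaf (nat_lit 0x60807000104030502) (nat_lit 1538))
 (.leaf (nat_lit 0x60807000104050203) (nat_lit 1794))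
)) (.node (nat_lit 0x60807000105020403) (.node (nat_lit 0x60807000105020304) (.leaf (nat_lit 0x60807000104050302) (nat_lit 1802))
 (.leaf (nat_lit 0x60807000105020304) (nat_lit 1792))
) (.node (nat_lit 0x60807000105030204) (.leaf (nat_lit 0x60807000105020403) (nat_lit 1795))
 (.node (nat_lit 0x60807000105030402) (.leaf (nat_lit 0x60807000105030204) (nat_lit 1795))
 (.leaf (nat_lit 0x60807000105030402) (nat_lit 1795))
))))))) (.node (nat_lit 0x60807000302040105) (.node (nat_lit 0x60807000204030501) (.node (nat_lit 0x60807000203010405) (.node (nat_lit 0x60807000201040305) (.node (nat_lit 0x60807000201030405) (.node (nat_lit 0x60807000105040302) (.leaf (nat_lit 0x60807000105040203) (nat_lit 1794))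
 (.leaf (nat_lit 0x60807000105040302) (nat_lit 1539))
) (.node (nat_lit 0x60807000201030504) (.leaf (nat_lit 0x60807000201030405) (nat_lit 1289))
 (.leaf (nat_lit 0x60807000201030504) (nat_lit 1033))
)) (.node (nat_lit 0x60807000201050304) (.node (nat_lit 0x60807000201040503) (.leaf (nat_lit 0x60807000201040305) (nat_lit 1033))
 (.leaf (nat_lit 0x60807000201040503) (nat_lit 1033))
) (.node (nat_lit 0x60807000201050403) (.leaf (nat_lit 0x60807000201050304) (nat_lit 1289))
 (.leaf (nat_lit 0x60807000201050403) (nat_lit 777))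
))) (.node (nat_lit 0x60807000203050104) (.node (nat_lit 0x60807000203040105) (.node (nat_lit 0x60807000203010504) (.leaf (nat_lit 0x60807000203010405) (nat_lit 1536))
 (.leaf (nat_lit 0x60807000203010504) (nat_lit 1280))
) (.node (nat_lit 0x60807000203040501) (.leaf (nat_lit 0x60807000203040105) (nat_lit 1280))
 (.leaf (nat_lit 0x60807000203040501) (nat_lit 1280))
)) (.node (nat_lit 0x60807000204010305) (.node (nat_lit 0x60807000203050401) (.leaf (nat_lit 0x60807000203050104) (nat_lit 1536))
 (.leaf (nat_lit 0x60807000203050401) (nat_lit 1024))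
) (.node (nat_lit 0x60807000204010503) (.leaf (nat_lit 0x60807000204010305) (nat_lit 1538))
 (.node (nat_lit 0x60807000204030105) (.leaf (nat_lit 0x60807000204010503) (nat_lit 1536))
 (.leaf (nat_lit 0x60807000204030105) (nat_lit 1792))
))))) (.node (nat_lit 0x60807000205040301) (.node (nat_lit 0x60807000205010403) (.node (nat_lit 0x60807000204050301) (.node (nat_lit 0x60807000204050103) (.leaf (nat_lit 0x60807000204030501) (nat_lit 1282))
 (.leaf (nat_lit 0x60807000204050103) (nat_lit 1538))
) (.node (nat_lit 0x60807000205010304) (.leaf (nat_lit 0x60807000204050301) (nat_lit 1538))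
 (.leaf (nat_lit 0x60807000205010304) (nat_lit 1795))
)) (.node (nat_lit 0x60807000205030401) (.node (nat_lit 0x60807000205030104) (.leaf (nat_lit 0x60807000205010403) (nat_lit 1539))
 (.leaf (nat_lit 0x60807000205030104) (nat_lit 1539))
) (.node (nat_lit 0x60807000205040103) (.leaf (nat_lit 0x60807000205030401) (nat_lit 1539))
 (.leaf (nat_lit 0x60807000205040103) (nat_lit 1536))
))) (.node (nat_lit 0x60807000301040502) (.node (nat_lit 0x60807000301020504) (.node (nat_lit 0x60807000301020405) (.leaf (nat_lit 0x60807000205040301) (nat_lit 1283))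
 (.leaf (nat_lit 0x60807000301020405) (nat_lit 1793))
) (.node (nat_lit 0x60807000301040205) (.leaf (nat_lit 0x60807000301020504) (nat_lit 1537))
 (.leaf (nat_lit 0x60807000301040205) (nat_lit 1537))
)) (.node (nat_lit 0x60807000301050402) (.node (nat_lit 0x60807000301050204) (.leaf (nat_lit 0x60807000301040502) (nat_lit 1537))
 (.leaf (nat_lit 0x60807000301050204) (nat_lit 1793))
) (.node (nat_lit 0x60807000302010405) (.leaf (nat_lit 0x60807000301050402) (nat_lit 1281))
 (.node (nat_lit 0x60807000302010504) (.leaf (nat_lit 0x60807000302010405) (nat_lit 1538))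
 (.leaf (nat_lit 0x60807000302010504) (nat_lit 1802))
)))))) (.node (nat_lit 0x60807000401020503) (.node (nat_lit 0x60807000304050102) (.node (nat_lit 0x60807000304010205) (.node (nat_lit 0x60807000302050104) (.node (nat_lit 0x60807000302040501) (.leaf (nat_lit 0x60807000302040105) (nat_lit 1802))
 (.leaf (nat_lit 0x60807000302040501) (nat_lit 1794))
) (.node (nat_lit 0x60807000302050401) (.leaf (nat_lit 0x60807000302050104) (nat_lit 1794))
 (.leaf (nat_lit 0x60807000302050401) (nat_lit 1546))
)) (.node (nat_lit 0x60807000304020105) (.node (nat_lit 0x60807000304010502) (.leaf (nat_lit 0x60807000304010205) (nat_lit 1539))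
 (.leaf (nat_lit 0x60807000304010502) (nat_lit 1539))
) (.node (nat_lit 0x60807000304020501) (.leaf (nat_lit 0x60807000304020105) (nat_lit 1283))
 (.leaf (nat_lit 0x60807000304020501) (nat_lit 1795))
))) (.node (nat_lit 0x60807000305020104) (.node (nat_lit 0x60807000305010204) (.node (nat_lit 0x60807000304050201) (.leaf (nat_lit 0x60807000304050102) (nat_lit 1795))
 (.leaf (nat_lit 0x60807000304050201) (nat_lit 1539))
) (.node (nat_lit 0x60807000305010402) (.leaf (nat_lit 0x60807000305010204) (nat_lit 1282))
 (.leaf (nat_lit 0x60807000305010402) (nat_lit 1282))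
)) (.node (nat_lit 0x60807000305040102) (.node (nat_lit 0x60807000305020401) (.leaf (nat_lit 0x60807000305020104) (nat_lit 1026))
 (.leaf (nat_lit 0x60807000305020401) (nat_lit 1538))
) (.node (nat_lit 0x60807000305040201) (.leaf (nat_lit 0x60807000305040102) (nat_lit 1538))
 (.node (nat_lit 0x60807000401020305) (.leaf (nat_lit 0x60807000305040201) (nat_lit 1282))
 (.leaf (nat_lit 0x60807000401020305) (nat_lit 1794))
))))) (.node (nat_lit 0x60807000402030501) (.node (nat_lit 0x60807000401050302) (.node (nat_lit 0x60807000401030502) (.node (nat_lit 0x60807000401030205) (.leaf (nat_lit 0x60807000401020503) (nat_lit 1802))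
 (.leaf (nat_lit 0x60807000401030205) (nat_lit 1546))
) (.node (nat_lit 0x60807000401050203) (.leaf (nat_lit 0x60807000401030502) (nat_lit 1538))
 (.leaf (nat_lit 0x60807000401050203) (nat_lit 1539))
)) (.node (nat_lit 0x60807000402010503) (.node (nat_lit 0x60807000402010305) (.leaf (nat_lit 0x60807000401050302) (nat_lit 1802))
 (.leaf (nat_lit 0x60807000402010305) (nat_lit 1546))
) (.node (nat_lit 0x60807000402030105) (.leaf (nat_lit 0x60807000402010503) (nat_lit 1539))
 (.leaf (nat_lit 0x60807000402030105) (nat_lit 1795))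
))) (.node (nat_lit 0x60807000403010502) (.node (nat_lit 0x60807000402050301) (.node (nat_lit 0x60807000402050103) (.leaf (nat_lit 0x60807000402030501) (nat_lit 1802))
 (.leaf (nat_lit 0x60807000402050103) (nat_lit 1802))
) (.node (nat_lit 0x60807000403010205) (.leaf (nat_lit 0x60807000402050301) (nat_lit 1795))
 (.leaf (nat_lit 0x60807000403010205) (nat_lit 1283))
)) (.node (nat_lit 0x60807000403020501) (.node (nat_lit 0x60807000403020105) (.leaf (nat_lit 0x60807000403010502) (nat_lit 1283))
 (.leaf (nat_lit 0x60807000403020105) (nat_lit 1027))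
) (.node (nat_lit 0x60807000403050102) (.leaf (nat_lit 0x60807000403020501) (nat_lit 1539))
 (.node (nat_lit 0x60807000403050201) (.leaf (nat_lit 0x60807000403050102) (nat_lit 1539))
 (.leaf (nat_lit 0x60807000403050201) (nat_lit 1283))
))))))))) (.node (nat_lit 0x60807010502030400) (.node (nat_lit 0x60807010204000503) (.node (nat_lit 0x60807010002040503) (.node (nat_lit 0x60807000502040103) (.node (nat_lit 0x60807000501030204) (.node (nat_lit 0x60807000405030102) (.node (nat_lit 0x60807000405020103) (.node (nat_lit 0x60807000405010302) (.leaf (nat_lit 0x60807000405010203) (nat_lit 1290))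
 (.leaf (nat_lit 0x60807000405010302) (nat_lit 1290))
) (.node (nat_lit 0x60807000405020301) (.leaf (nat_lit 0x60807000405020103) (nat_lit 1034))
 (.leaf (nat_lit 0x60807000405020301) (nat_lit 1546))
)) (.node (nat_lit 0x60807000501020304) (.node (nat_lit 0x60807000405030201) (.leaf (nat_lit 0x60807000405030102) (nat_lit 1546))
 (.leaf (nat_lit 0x60807000405030201) (nat_lit 1290))
) (.node (nat_lit 0x60807000501020403) (.leaf (nat_lit 0x60807000501020304) (nat_lit 1546))
 (.leaf (nat_lit 0x60807000501020403) (nat_lit 1546))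
))) (.node (nat_lit 0x60807000502010304) (.node (nat_lit 0x60807000501040203) (.node (nat_lit 0x60807000501030402) (.leaf (nat_lit 0x60807000501030204) (nat_lit 1290))
 (.leaf (nat_lit 0x60807000501030402) (nat_lit 1802))
) (.node (nat_lit 0x60807000501040302) (.leaf (nat_lit 0x60807000501040203) (nat_lit 1546))
 (.leaf (nat_lit 0x60807000501040302) (nat_lit 1546))
)) (.node (nat_lit 0x60807000502030104) (.node (nat_lit 0x60807000502010403) (.leaf (nat_lit 0x60807000502010304) (nat_lit 1290))
 (.leaf (nat_lit 0x60807000502010403) (nat_lit 1546))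
) (.node (nat_lit 0x60807000502030401) (.leaf (nat_lit 0x60807000502030104) (nat_lit 1546))
 (.leaf (nat_lit 0x60807000502030401) (nat_lit 1546))
)))) (.node (nat_lit 0x60807000504010203) (.node (nat_lit 0x60807000503020104) (.node (nat_lit 0x60807000503010204) (.node (nat_lit 0x60807000502040301) (.leaf (nat_lit 0x60807000502040103) (nat_lit 1546))
 (.leaf (nat_lit 0x60807000502040301) (nat_lit 1802))
) (.node (nat_lit 0x60807000503010402) (.leaf (nat_lit 0x60807000503010204) (nat_lit 1290))
 (.leaf (nat_lit 0x60807000503010402) (nat_lit 1290))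
)) (.node (nat_lit 0x60807000503040102) (.node (nat_lit 0x60807000503020401) (.leaf (nat_lit 0x60807000503020104) (nat_lit 1034))
 (.leaf (nat_lit 0x60807000503020401) (nat_lit 1546))
) (.node (nat_lit 0x60807000503040201) (.leaf (nat_lit 0x60807000503040102) (nat_lit 1546))
 (.leaf (nat_lit 0x60807000503040201) (nat_lit 1290))
))) (.node (nat_lit 0x60807000504030102) (.node (nat_lit 0x60807000504020103) (.node (nat_lit 0x60807000504010302) (.leaf (nat_lit 0x60807000504010203) (nat_lit 1034))
 (.leaf (nat_lit 0x60807000504010302) (nat_lit 1034))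
) (.node (nat_lit 0x60807000504020301) (.leaf (nat_lit 0x60807000504020103) (nat_lit 778))
 (.leaf (nat_lit 0x60807000504020301) (nat_lit 1290))
)) (.node (nat_lit 0x60807010002030405) (.node (nat_lit 0x60807000504030201) (.leaf (nat_lit 0x60807000504030102) (nat_lit 1290))
 (.leaf (nat_lit 0x60807000504030201) (nat_lit 1034))
) (.node (nat_lit 0x60807010002030504) (.leaf (nat_lit 0x60807010002030405) (nat_lit 1289))
 (.node (nat_lit 0x60807010002040305) (.leaf (nat_lit 0x60807010002030504) (nat_lit 1033))
 (.leaf (nat_lit 0x60807010002040305) (nat_lit 1033))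
)))))) (.node (nat_lit 0x60807010005030204) (.node (nat_lit 0x60807010003050402) (.node (nat_lit 0x60807010003020504) (.node (nat_lit 0x60807010002050403) (.node (nat_lit 0x60807010002050304) (.leaf (nat_lit 0x60807010002040503) (nat_lit 1033))
 (.leaf (nat_lit 0x60807010002050304) (nat_lit 1289))
) (.node (nat_lit 0x60807010003020405) (.leaf (nat_lit 0x60807010002050403) (nat_lit 777))
 (.leaf (nat_lit 0x60807010003020405) (nat_lit 1537))
)) (.node (nat_lit 0x60807010003040502) (.node (nat_lit 0x60807010003040205) (.leaf (nat_lit 0x60807010003020504) (nat_lit 1281))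
 (.leaf (nat_lit 0x60807010003040205) (nat_lit 1281))
) (.node (nat_lit 0x60807010003050204) (.leaf (nat_lit 0x60807010003040502) (nat_lit 1281))
 (.leaf (nat_lit 0x60807010003050204) (nat_lit 1537))
))) (.node (nat_lit 0x60807010004030502) (.node (nat_lit 0x60807010004020503) (.node (nat_lit 0x60807010004020305) (.leaf (nat_lit 0x60807010003050402) (nat_lit 1025))
 (.leaf (nat_lit 0x60807010004020305) (nat_lit 1538))
) (.node (nat_lit 0x60807010004030205) (.leaf (nat_lit 0x60807010004020503) (nat_lit 1537))
 (.leaf (nat_lit 0x60807010004030205) (nat_lit 1793))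
)) (.node (nat_lit 0x60807010004050302) (.node (nat_lit 0x60807010004050203) (.leaf (nat_lit 0x60807010004030502) (nat_lit 1282))
 (.leaf (nat_lit 0x60807010004050203) (nat_lit 1538))
) (.node (nat_lit 0x60807010005020304) (.leaf (nat_lit 0x60807010004050302) (nat_lit 1538))
 (.node (nat_lit 0x60807010005020403) (.leaf (nat_lit 0x60807010005020304) (nat_lit 1795))
 (.leaf (nat_lit 0x60807010005020403) (nat_lit 1539))
))))) (.node (nat_lit 0x60807010200050304) (.node (nat_lit 0x60807010200030405) (.node (nat_lit 0x60807010005040203) (.node (nat_lit 0x60807010005030402) (.leaf (nat_lit 0x60807010005030204) (nat_lit 1539))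
 (.leaf (nat_lit 0x60807010005030402) (nat_lit 1539))
) (.node (nat_lit 0x60807010005040302) (.leaf (nat_lit 0x60807010005040203) (nat_lit 1537))
 (.leaf (nat_lit 0x60807010005040302) (nat_lit 1283))
)) (.node (nat_lit 0x60807010200040305) (.node (nat_lit 0x60807010200030504) (.leaf (nat_lit 0x60807010200030405) (nat_lit 1289))
 (.leaf (nat_lit 0x60807010200030504) (nat_lit 1033))
) (.node (nat_lit 0x60807010200040503) (.leaf (nat_lit 0x60807010200040305) (nat_lit 1033))
 (.leaf (nat_lit 0x60807010200040503) (nat_lit 1033))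
))) (.node (nat_lit 0x60807010203040005) (.node (nat_lit 0x60807010203000405) (.node (nat_lit 0x60807010200050403) (.leaf (nat_lit 0x60807010200050304) (nat_lit 1289))
 (.leaf (nat_lit 0x60807010200050403) (nat_lit 777))
) (.node (nat_lit 0x60807010203000504) (.leaf (nat_lit 0x60807010203000405) (nat_lit 1546))
 (.leaf (nat_lit 0x60807010203000504) (nat_lit 1290))
)) (.node (nat_lit 0x60807010203050004) (.node (nat_lit 0x60807010203040500) (.leaf (nat_lit 0x60807010203040005) (nat_lit 1290))
 (.leaf (nat_lit 0x60807010203040500) (nat_lit 1290))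
) (.node (nat_lit 0x60807010203050400) (.leaf (nat_lit 0x60807010203050004) (nat_lit 1546))
 (.node (nat_lit 0x60807010204000305) (.leaf (nat_lit 0x60807010203050400) (nat_lit 1034))
 (.leaf (nat_lit 0x60807010204000305) (nat_lit 1538))
))))))) (.node (nat_lit 0x60807010305040200) (.node (nat_lit 0x60807010302000405) (.node (nat_lit 0x60807010205030400) (.node (nat_lit 0x60807010204050300) (.node (nat_lit 0x60807010204030500) (.node (nat_lit 0x60807010204030005) (.leaf (nat_lit 0x60807010204000503) (nat_lit 1546))
 (.leaf (nat_lit 0x60807010204030005) (nat_lit 1802))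
) (.node (nat_lit 0x60807010204050003) (.leaf (nat_lit 0x60807010204030500) (nat_lit 1282))
 (.leaf (nat_lit 0x60807010204050003) (nat_lit 1538))
)) (.node (nat_lit 0x60807010205000403) (.node (nat_lit 0x60807010205000304) (.leaf (nat_lit 0x60807010204050300) (nat_lit 1538))
 (.leaf (nat_lit 0x60807010205000304) (nat_lit 1795))
) (.node (nat_lit 0x60807010205030004) (.leaf (nat_lit 0x60807010205000403) (nat_lit 1539))
 (.leaf (nat_lit 0x60807010205030004) (nat_lit 1539))
))) (.node (nat_lit 0x60807010300020504) (.node (nat_lit 0x60807010205040300) (.node (nat_lit 0x60807010205040003) (.leaf (nat_lit 0x60807010205030400) (nat_lit 1539))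
 (.leaf (nat_lit 0x60807010205040003) (nat_lit 1546))
) (.node (nat_lit 0x60807010300020405) (.leaf (nat_lit 0x60807010205040300) (nat_lit 1283))
 (.leaf (nat_lit 0x60807010300020405) (nat_lit 1802))
)) (.node (nat_lit 0x60807010300040502) (.node (nat_lit 0x60807010300040205) (.leaf (nat_lit 0x60807010300020504) (nat_lit 1546))
 (.leaf (nat_lit 0x60807010300040205) (nat_lit 1546))
) (.node (nat_lit 0x60807010300050204) (.leaf (nat_lit 0x60807010300040502) (nat_lit 1546))
 (.node (nat_lit 0x60807010300050402) (.leaf (nat_lit 0x60807010300050204) (nat_lit 1802))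
 (.leaf (nat_lit 0x60807010300050402) (nat_lit 1290))
))))) (.node (nat_lit 0x60807010304020005) (.node (nat_lit 0x60807010302050004) (.node (nat_lit 0x60807010302040005) (.node (nat_lit 0x60807010302000504) (.leaf (nat_lit 0x60807010302000405) (nat_lit 1546))
 (.leaf (nat_lit 0x60807010302000504) (nat_lit 1290))
) (.node (nat_lit 0x60807010302040500) (.leaf (nat_lit 0x60807010302040005) (nat_lit 1290))
 (.leaf (nat_lit 0x60807010302040500) (nat_lit 1290))
)) (.node (nat_lit 0x60807010304000205) (.node (nat_lit 0x60807010302050400) (.leaf (nat_lit 0x60807010302050004) (nat_lit 1546))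
 (.leaf (nat_lit 0x60807010302050400) (nat_lit 1034))
) (.node (nat_lit 0x60807010304000502) (.leaf (nat_lit 0x60807010304000205) (nat_lit 1539))
 (.leaf (nat_lit 0x60807010304000502) (nat_lit 1546))
))) (.node (nat_lit 0x60807010305000204) (.node (nat_lit 0x60807010304050002) (.node (nat_lit 0x60807010304020500) (.leaf (nat_lit 0x60807010304020005) (nat_lit 1802))
 (.leaf (nat_lit 0x60807010304020500) (nat_lit 1795))
) (.node (nat_lit 0x60807010304050200) (.leaf (nat_lit 0x60807010304050002) (nat_lit 1795))
 (.leaf (nat_lit 0x60807010304050200) (nat_lit 1802))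
)) (.node (nat_lit 0x60807010305020004) (.node (nat_lit 0x60807010305000402) (.leaf (nat_lit 0x60807010305000204) (nat_lit 1282))
 (.leaf (nat_lit 0x60807010305000402) (nat_lit 1794))
) (.node (nat_lit 0x60807010305020400) (.leaf (nat_lit 0x60807010305020004) (nat_lit 1538))
 (.node (nat_lit 0x60807010305040002) (.leaf (nat_lit 0x60807010305020400) (nat_lit 1538))
 (.leaf (nat_lit 0x60807010305040002) (nat_lit 1538))
)))))) (.node (nat_lit 0x60807010403050002) (.node (nat_lit 0x60807010402000503) (.node (nat_lit 0x60807010400030502) (.node (nat_lit 0x60807010400020503) (.node (nat_lit 0x60807010400020305) (.leaf (nat_lit 0x60807010305040200) (nat_lit 1538))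
 (.leaf (nat_lit 0x60807010400020305) (nat_lit 1794))
) (.node (nat_lit 0x60807010400030205) (.leaf (nat_lit 0x60807010400020503) (nat_lit 1802))
 (.leaf (nat_lit 0x60807010400030205) (nat_lit 1546))
)) (.node (nat_lit 0x60807010400050302) (.node (nat_lit 0x60807010400050203) (.leaf (nat_lit 0x60807010400030502) (nat_lit 1538))
 (.leaf (nat_lit 0x60807010400050203) (nat_lit 1794))
) (.node (nat_lit 0x60807010402000305) (.leaf (nat_lit 0x60807010400050302) (nat_lit 1802))
 (.leaf (nat_lit 0x60807010402000305) (nat_lit 1538))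
))) (.node (nat_lit 0x60807010402050300) (.node (nat_lit 0x60807010402030500) (.node (nat_lit 0x60807010402030005) (.leaf (nat_lit 0x60807010402000503) (nat_lit 1546))
 (.leaf (nat_lit 0x60807010402030005) (nat_lit 1802))
) (.node (nat_lit 0x60807010402050003) (.leaf (nat_lit 0x60807010402030500) (nat_lit 1282))
 (.leaf (nat_lit 0x60807010402050003) (nat_lit 1538))
)) (.node (nat_lit 0x60807010403000502) (.node (nat_lit 0x60807010403000205) (.leaf (nat_lit 0x60807010402050300) (nat_lit 1538))
 (.leaf (nat_lit 0x60807010403000205) (nat_lit 1283))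
) (.node (nat_lit 0x60807010403020005) (.leaf (nat_lit 0x60807010403000502) (nat_lit 1795))
 (.node (nat_lit 0x60807010403020500) (.leaf (nat_lit 0x60807010403020005) (nat_lit 1539))
 (.leaf (nat_lit 0x60807010403020500) (nat_lit 1539))
))))) (.node (nat_lit 0x60807010500020304) (.node (nat_lit 0x60807010405020003) (.node (nat_lit 0x60807010405000203) (.node (nat_lit 0x60807010403050200) (.leaf (nat_lit 0x60807010403050002) (nat_lit 1539))
 (.leaf (nat_lit 0x60807010403050200) (nat_lit 1539))
) (.node (nat_lit 0x60807010405000302) (.leaf (nat_lit 0x60807010405000203) (nat_lit 1280))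
 (.leaf (nat_lit 0x60807010405000302) (nat_lit 1802))
)) (.node (nat_lit 0x60807010405030002) (.node (nat_lit 0x60807010405020300) (.leaf (nat_lit 0x60807010405020003) (nat_lit 1536))
 (.leaf (nat_lit 0x60807010405020300) (nat_lit 1536))
) (.node (nat_lit 0x60807010405030200) (.leaf (nat_lit 0x60807010405030002) (nat_lit 1536))
 (.leaf (nat_lit 0x60807010405030200) (nat_lit 1546))
))) (.node (nat_lit 0x60807010500040203) (.node (nat_lit 0x60807010500030204) (.node (nat_lit 0x60807010500020403) (.leaf (nat_lit 0x60807010500020304) (nat_lit 1536))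
 (.leaf (nat_lit 0x60807010500020403) (nat_lit 1795))
) (.node (nat_lit 0x60807010500030402) (.leaf (nat_lit 0x60807010500030204) (nat_lit 1546))
 (.leaf (nat_lit 0x60807010500030402) (nat_lit 1792))
)) (.node (nat_lit 0x60807010502000304) (.node (nat_lit 0x60807010500040302) (.leaf (nat_lit 0x60807010500040203) (nat_lit 1792))
 (.leaf (nat_lit 0x60807010500040302) (nat_lit 1539))
) (.node (nat_lit 0x60807010502000403) (.leaf (nat_lit 0x60807010502000304) (nat_lit 1795))
 (.node (nat_lit 0x60807010502030004) (.leaf (nat_lit 0x60807010502000403) (nat_lit 1539))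
 (.leaf (nat_lit 0x60807010502030004) (nat_lit 1539))
)))))))) (.node (nat_lit 0x60807020300050104) (.node (nat_lit 0x60807020005010304) (.node (nat_lit 0x60807020001030504) (.node (nat_lit 0x60807010503040200) (.node (nat_lit 0x60807010503000402) (.node (nat_lit 0x60807010502040300) (.node (nat_lit 0x60807010502040003) (.leaf (nat_lit 0x60807010502030400) (nat_lit 1539))
 (.leaf (nat_lit 0x60807010502040003) (nat_lit 1546))
) (.node (nat_lit 0x60807010503000204) (.leaf (nat_lit 0x60807010502040300) (nat_lit 1283))
 (.leaf (nat_lit 0x60807010503000204) (nat_lit 1280))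
)) (.node (nat_lit 0x60807010503020400) (.node (nat_lit 0x60807010503020004) (.leaf (nat_lit 0x60807010503000402) (nat_lit 1792))
 (.leaf (nat_lit 0x60807010503020004) (nat_lit 1536))
) (.node (nat_lit 0x60807010503040002) (.leaf (nat_lit 0x60807010503020400) (nat_lit 1536))
 (.leaf (nat_lit 0x60807010503040002) (nat_lit 1536))
))) (.node (nat_lit 0x60807010504020300) (.node (nat_lit 0x60807010504000302) (.node (nat_lit 0x60807010504000203) (.leaf (nat_lit 0x60807010503040200) (nat_lit 1792))
 (.leaf (nat_lit 0x60807010504000203) (nat_lit 1024))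
) (.node (nat_lit 0x60807010504020003) (.leaf (nat_lit 0x60807010504000302) (nat_lit 1546))
 (.leaf (nat_lit 0x60807010504020003) (nat_lit 1280))
)) (.node (nat_lit 0x60807010504030200) (.node (nat_lit 0x60807010504030002) (.leaf (nat_lit 0x60807010504020300) (nat_lit 1280))
 (.leaf (nat_lit 0x60807010504030002) (nat_lit 1280))
) (.node (nat_lit 0x60807020001030405) (.leaf (nat_lit 0x60807010504030200) (nat_lit 1290))
 (.leaf (nat_lit 0x60807020001030405) (nat_lit 1545))
)))) (.node (nat_lit 0x60807020003040501) (.node (nat_lit 0x60807020001050403) (.node (nat_lit 0x60807020001040503) (.node (nat_lit 0x60807020001040305) (.leaf (nat_lit 0x60807020001030504) (nat_lit 1289))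
 (.leaf (nat_lit 0x60807020001040305) (nat_lit 1289))
) (.node (nat_lit 0x60807020001050304) (.leaf (nat_lit 0x60807020001040503) (nat_lit 1289))
 (.leaf (nat_lit 0x60807020001050304) (nat_lit 1545))
)) (.node (nat_lit 0x60807020003010504) (.node (nat_lit 0x60807020003010405) (.leaf (nat_lit 0x60807020001050403) (nat_lit 1033))
 (.leaf (nat_lit 0x60807020003010405) (nat_lit 1792))
) (.node (nat_lit 0x60807020003040105) (.leaf (nat_lit 0x60807020003010504) (nat_lit 1536))
 (.leaf (nat_lit 0x60807020003040105) (nat_lit 1536))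
))) (.node (nat_lit 0x60807020004010503) (.node (nat_lit 0x60807020003050401) (.node (nat_lit 0x60807020003050104) (.leaf (nat_lit 0x60807020003040501) (nat_lit 1536))
 (.leaf (nat_lit 0x60807020003050104) (nat_lit 1792))
) (.node (nat_lit 0x60807020004010305) (.leaf (nat_lit 0x60807020003050401) (nat_lit 1280))
 (.leaf (nat_lit 0x60807020004010305) (nat_lit 1794))
)) (.node (nat_lit 0x60807020004030501) (.node (nat_lit 0x60807020004030105) (.leaf (nat_lit 0x60807020004010503) (nat_lit 1795))
 (.leaf (nat_lit 0x60807020004030105) (nat_lit 1793))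
) (.node (nat_lit 0x60807020004050103) (.leaf (nat_lit 0x60807020004030501) (nat_lit 1538))
 (.node (nat_lit 0x60807020004050301) (.leaf (nat_lit 0x60807020004050103) (nat_lit 1794))
 (.leaf (nat_lit 0x60807020004050301) (nat_lit 1794))
)))))) (.node (nat_lit 0x60807020103050400) (.node (nat_lit 0x60807020100040305) (.node (nat_lit 0x60807020005040103) (.node (nat_lit 0x60807020005030104) (.node (nat_lit 0x60807020005010403) (.leaf (nat_lit 0x60807020005010304) (nat_lit 1546))
 (.leaf (nat_lit 0x60807020005010403) (nat_lit 1795))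
) (.node (nat_lit 0x60807020005030401) (.leaf (nat_lit 0x60807020005030104) (nat_lit 1795))
 (.leaf (nat_lit 0x60807020005030401) (nat_lit 1802))
)) (.node (nat_lit 0x60807020100030405) (.node (nat_lit 0x60807020005040301) (.leaf (nat_lit 0x60807020005040103) (nat_lit 1802))
 (.leaf (nat_lit 0x60807020005040301) (nat_lit 1539))
) (.node (nat_lit 0x60807020100030504) (.leaf (nat_lit 0x60807020100030405) (nat_lit 1033))
 (.leaf (nat_lit 0x60807020100030504) (nat_lit 777))
))) (.node (nat_lit 0x60807020103000405) (.node (nat_lit 0x60807020100050304) (.node (nat_lit 0x60807020100040503) (.leaf (nat_lit 0x60807020100040305) (nat_lit 777))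
 (.leaf (nat_lit 0x60807020100040503) (nat_lit 777))
) (.node (nat_lit 0x60807020100050403) (.leaf (nat_lit 0x60807020100050304) (nat_lit 1033))
 (.leaf (nat_lit 0x60807020100050403) (nat_lit 521))
)) (.node (nat_lit 0x60807020103040005) (.node (nat_lit 0x60807020103000504) (.leaf (nat_lit 0x60807020103000405) (nat_lit 1290))
 (.leaf (nat_lit 0x60807020103000504) (nat_lit 1034))
) (.node (nat_lit 0x60807020103040500) (.leaf (nat_lit 0x60807020103040005) (nat_lit 1034))
 (.node (nat_lit 0x60807020103050004) (.leaf (nat_lit 0x60807020103040500) (nat_lit 1034))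
 (.leaf (nat_lit 0x60807020103050004) (nat_lit 1290))
))))) (.node (nat_lit 0x60807020105000403) (.node (nat_lit 0x60807020104030500) (.node (nat_lit 0x60807020104000503) (.node (nat_lit 0x60807020104000305) (.leaf (nat_lit 0x60807020103050400) (nat_lit 778))
 (.leaf (nat_lit 0x60807020104000305) (nat_lit 1282))
) (.node (nat_lit 0x60807020104030005) (.leaf (nat_lit 0x60807020104000503) (nat_lit 1290))
 (.leaf (nat_lit 0x60807020104030005) (nat_lit 1546))
)) (.node (nat_lit 0x60807020104050300) (.node (nat_lit 0x60807020104050003) (.leaf (nat_lit 0x60807020104030500) (nat_lit 1026))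
 (.leaf (nat_lit 0x60807020104050003) (nat_lit 1282))
) (.node (nat_lit 0x60807020105000304) (.leaf (nat_lit 0x60807020104050300) (nat_lit 1282))
 (.leaf (nat_lit 0x60807020105000304) (nat_lit 1539))
))) (.node (nat_lit 0x60807020105040300) (.node (nat_lit 0x60807020105030400) (.node (nat_lit 0x60807020105030004) (.leaf (nat_lit 0x60807020105000403) (nat_lit 1283))
 (.leaf (nat_lit 0x60807020105030004) (nat_lit 1283))
) (.node (nat_lit 0x60807020105040003) (.leaf (nat_lit 0x60807020105030400) (nat_lit 1283))
 (.leaf (nat_lit 0x60807020105040003) (nat_lit 1290))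
)) (.node (nat_lit 0x60807020300010504) (.node (nat_lit 0x60807020300010405) (.leaf (nat_lit 0x60807020105040300) (nat_lit 1027))
 (.leaf (nat_lit 0x60807020300010405) (nat_lit 1792))
) (.node (nat_lit 0x60807020300040105) (.leaf (nat_lit 0x60807020300010504) (nat_lit 1536))
 (.node (nat_lit 0x60807020300040501) (.leaf (nat_lit 0x60807020300040105) (nat_lit 1536))
 (.leaf (nat_lit 0x60807020300040501) (nat_lit 1536))
))))))) (.node (nat_lit 0x60807020403010005) (.node (nat_lit 0x60807020305010400) (.node (nat_lit 0x60807020304000105) (.node (nat_lit 0x60807020301040005) (.node (nat_lit 0x60807020301000405) (.node (nat_lit 0x60807020300050401) (.leaf (nat_lit 0x60807020300050104) (nat_lit 1792))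
 (.leaf (nat_lit 0x60807020300050401) (nat_lit 1280))
) (.node (nat_lit 0x60807020301000504) (.leaf (nat_lit 0x60807020301000405) (nat_lit 1802))
 (.leaf (nat_lit 0x60807020301000504) (nat_lit 1546))
)) (.node (nat_lit 0x60807020301050004) (.node (nat_lit 0x60807020301040500) (.leaf (nat_lit 0x60807020301040005) (nat_lit 1546))
 (.leaf (nat_lit 0x60807020301040500) (nat_lit 1546))
) (.node (nat_lit 0x60807020301050400) (.leaf (nat_lit 0x60807020301050004) (nat_lit 1802))
 (.leaf (nat_lit 0x60807020301050400) (nat_lit 1290))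
))) (.node (nat_lit 0x60807020304050001) (.node (nat_lit 0x60807020304010005) (.node (nat_lit 0x60807020304000501) (.leaf (nat_lit 0x60807020304000105) (nat_lit 1795))
 (.leaf (nat_lit 0x60807020304000501) (nat_lit 1795))
) (.node (nat_lit 0x60807020304010500) (.leaf (nat_lit 0x60807020304010005) (nat_lit 1539))
 (.leaf (nat_lit 0x60807020304010500) (nat_lit 1795))
)) (.node (nat_lit 0x60807020305000104) (.node (nat_lit 0x60807020304050100) (.leaf (nat_lit 0x60807020304050001) (nat_lit 2051))
 (.leaf (nat_lit 0x60807020304050100) (nat_lit 1795))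
) (.node (nat_lit 0x60807020305000401) (.leaf (nat_lit 0x60807020305000104) (nat_lit 1538))
 (.node (nat_lit 0x60807020305010004) (.leaf (nat_lit 0x60807020305000401) (nat_lit 1538))
 (.leaf (nat_lit 0x60807020305010004) (nat_lit 1282))
))))) (.node (nat_lit 0x60807020400050301) (.node (nat_lit 0x60807020400010503) (.node (nat_lit 0x60807020305040100) (.node (nat_lit 0x60807020305040001) (.leaf (nat_lit 0x60807020305010400) (nat_lit 1538))
 (.leaf (nat_lit 0x60807020305040001) (nat_lit 1794))
) (.node (nat_lit 0x60807020400010305) (.leaf (nat_lit 0x60807020305040100) (nat_lit 1538))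
 (.leaf (nat_lit 0x60807020400010305) (nat_lit 1546))
)) (.node (nat_lit 0x60807020400030501) (.node (nat_lit 0x60807020400030105) (.leaf (nat_lit 0x60807020400010503) (nat_lit 1802))
 (.leaf (nat_lit 0x60807020400030105) (nat_lit 1802))
) (.node (nat_lit 0x60807020400050103) (.leaf (nat_lit 0x60807020400030501) (nat_lit 1538))
 (.leaf (nat_lit 0x60807020400050103) (nat_lit 1802))
))) (.node (nat_lit 0x60807020401030500) (.node (nat_lit 0x60807020401000503) (.node (nat_lit 0x60807020401000305) (.leaf (nat_lit 0x60807020400050301) (nat_lit 1794))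
 (.leaf (nat_lit 0x60807020401000305) (nat_lit 1794))
) (.node (nat_lit 0x60807020401030005) (.leaf (nat_lit 0x60807020401000503) (nat_lit 1802))
 (.leaf (nat_lit 0x60807020401030005) (nat_lit 1792))
)) (.node (nat_lit 0x60807020401050300) (.node (nat_lit 0x60807020401050003) (.leaf (nat_lit 0x60807020401030500) (nat_lit 1538))
 (.leaf (nat_lit 0x60807020401050003) (nat_lit 1794))
) (.node (nat_lit 0x60807020403000105) (.leaf (nat_lit 0x60807020401050300) (nat_lit 1794))
 (.node (nat_lit 0x60807020403000501) (.leaf (nat_lit 0x60807020403000105) (nat_lit 1539))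
 (.leaf (nat_lit 0x60807020403000501) (nat_lit 1539))
)))))) (.node (nat_lit 0x60807020501000403) (.node (nat_lit 0x60807020405030001) (.node (nat_lit 0x60807020405000103) (.node (nat_lit 0x60807020403050001) (.node (nat_lit 0x60807020403010500) (.leaf (nat_lit 0x60807020403010005) (nat_lit 1283))
 (.leaf (nat_lit 0x60807020403010500) (nat_lit 1539))
) (.node (nat_lit 0x60807020403050100) (.leaf (nat_lit 0x60807020403050001) (nat_lit 1795))
 (.leaf (nat_lit 0x60807020403050100) (nat_lit 1539))
)) (.node (nat_lit 0x60807020405010003) (.node (nat_lit 0x60807020405000301) (.leaf (nat_lit 0x60807020405000103) (nat_lit 1537))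
 (.leaf (nat_lit 0x60807020405000301) (nat_lit 1537))
) (.node (nat_lit 0x60807020405010300) (.leaf (nat_lit 0x60807020405010003) (nat_lit 1281))
 (.leaf (nat_lit 0x60807020405010300) (nat_lit 1546))
))) (.node (nat_lit 0x60807020500030104) (.node (nat_lit 0x60807020500010304) (.node (nat_lit 0x60807020405030100) (.leaf (nat_lit 0x60807020405030001) (nat_lit 1793))
 (.leaf (nat_lit 0x60807020405030100) (nat_lit 1537))
) (.node (nat_lit 0x60807020500010403) (.leaf (nat_lit 0x60807020500010304) (nat_lit 1546))
 (.leaf (nat_lit 0x60807020500010403) (nat_lit 1795))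
)) (.node (nat_lit 0x60807020500040103) (.node (nat_lit 0x60807020500030401) (.leaf (nat_lit 0x60807020500030104) (nat_lit 1537))
 (.leaf (nat_lit 0x60807020500030401) (nat_lit 1802))
) (.node (nat_lit 0x60807020500040301) (.leaf (nat_lit 0x60807020500040103) (nat_lit 1802))
 (.node (nat_lit 0x60807020501000304) (.leaf (nat_lit 0x60807020500040301) (nat_lit 1539))
 (.leaf (nat_lit 0x60807020501000304) (nat_lit 1537))
))))) (.node (nat_lit 0x60807020503010400) (.node (nat_lit 0x60807020501040300) (.node (nat_lit 0x60807020501030400) (.node (nat_lit 0x60807020501030004) (.leaf (nat_lit 0x60807020501000403) (nat_lit 1795))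
 (.leaf (nat_lit 0x60807020501030004) (nat_lit 1795))
) (.node (nat_lit 0x60807020501040003) (.leaf (nat_lit 0x60807020501030400) (nat_lit 1793))
 (.leaf (nat_lit 0x60807020501040003) (nat_lit 1793))
)) (.node (nat_lit 0x60807020503000401) (.node (nat_lit 0x60807020503000104) (.leaf (nat_lit 0x60807020501040300) (nat_lit 1539))
 (.leaf (nat_lit 0x60807020503000104) (nat_lit 1537))
) (.node (nat_lit 0x60807020503010004) (.leaf (nat_lit 0x60807020503000401) (nat_lit 1537))
 (.leaf (nat_lit 0x60807020503010004) (nat_lit 1281))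
))) (.node (nat_lit 0x60807020504000301) (.node (nat_lit 0x60807020503040100) (.node (nat_lit 0x60807020503040001) (.leaf (nat_lit 0x60807020503010400) (nat_lit 1793))
 (.leaf (nat_lit 0x60807020503040001) (nat_lit 1793))
) (.node (nat_lit 0x60807020504000103) (.leaf (nat_lit 0x60807020503040100) (nat_lit 1537))
 (.leaf (nat_lit 0x60807020504000103) (nat_lit 1281))
)) (.node (nat_lit 0x60807020504010300) (.node (nat_lit 0x60807020504010003) (.leaf (nat_lit 0x60807020504000301) (nat_lit 1281))
 (.leaf (nat_lit 0x60807020504010003) (nat_lit 1025))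
) (.node (nat_lit 0x60807020504030001) (.leaf (nat_lit 0x60807020504010300) (nat_lit 1290))
 (.node (nat_lit 0x60807020504030100) (.leaf (nat_lit 0x60807020504030001) (nat_lit 1537))
 (.leaf (nat_lit 0x60807020504030100) (nat_lit 1281))
))))))))))) (.node (nat_lit 0x70608010304000205) (.node (nat_lit 0x60807050102000304) (.node (nat_lit 0x60807040003020501) (.node (nat_lit 0x60807030205000401) (.node (nat_lit 0x60807030102040500) (.node (nat_lit 0x60807030004050102) (.node (nat_lit 0x60807030002040105) (.node (nat_lit 0x60807030001050204) (.node (nat_lit 0x60807030001040205) (.node (nat_lit 0x60807030001020504) (.leaf (nat_lit 0x60807030001020405) (nat_lit 1795))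
 (.leaf (nat_lit 0x60807030001020504) (nat_lit 1793))
) (.node (nat_lit 0x60807030001040502) (.leaf (nat_lit 0x60807030001040205) (nat_lit 1793))
 (.leaf (nat_lit 0x60807030001040502) (nat_lit 1795))
)) (.node (nat_lit 0x60807030002010405) (.node (nat_lit 0x60807030001050402) (.leaf (nat_lit 0x60807030001050204) (nat_lit 1539))
 (.leaf (nat_lit 0x60807030001050402) (nat_lit 1537))
) (.node (nat_lit 0x60807030002010504) (.leaf (nat_lit 0x60807030002010405) (nat_lit 1792))
 (.leaf (nat_lit 0x60807030002010504) (nat_lit 1536))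
))) (.node (nat_lit 0x60807030004010205) (.node (nat_lit 0x60807030002050104) (.node (nat_lit 0x60807030002040501) (.leaf (nat_lit 0x60807030002040105) (nat_lit 1536))
 (.leaf (nat_lit 0x60807030002040501) (nat_lit 1536))
) (.node (nat_lit 0x60807030002050401) (.leaf (nat_lit 0x60807030002050104) (nat_lit 1792))
 (.leaf (nat_lit 0x60807030002050401) (nat_lit 1280))
)) (.node (nat_lit 0x60807030004020105) (.node (nat_lit 0x60807030004010502) (.leaf (nat_lit 0x60807030004010205) (nat_lit 1283))
 (.leaf (nat_lit 0x60807030004010502) (nat_lit 1283))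
) (.node (nat_lit 0x60807030004020501) (.leaf (nat_lit 0x60807030004020105) (nat_lit 1027))
 (.leaf (nat_lit 0x60807030004020501) (nat_lit 1539))
)))) (.node (nat_lit 0x60807030100020405) (.node (nat_lit 0x60807030005020104) (.node (nat_lit 0x60807030005010204) (.node (nat_lit 0x60807030004050201) (.leaf (nat_lit 0x60807030004050102) (nat_lit 1539))
 (.leaf (nat_lit 0x60807030004050201) (nat_lit 1283))
) (.node (nat_lit 0x60807030005010402) (.leaf (nat_lit 0x60807030005010204) (nat_lit 1546))
 (.leaf (nat_lit 0x60807030005010402) (nat_lit 1546))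
)) (.node (nat_lit 0x60807030005040102) (.node (nat_lit 0x60807030005020401) (.leaf (nat_lit 0x60807030005020104) (nat_lit 1290))
 (.leaf (nat_lit 0x60807030005020401) (nat_lit 1802))
) (.node (nat_lit 0x60807030005040201) (.leaf (nat_lit 0x60807030005040102) (nat_lit 1802))
 (.leaf (nat_lit 0x60807030005040201) (nat_lit 1546))
))) (.node (nat_lit 0x60807030100050204) (.node (nat_lit 0x60807030100040205) (.node (nat_lit 0x60807030100020504) (.leaf (nat_lit 0x60807030100020405) (nat_lit 1793))
 (.leaf (nat_lit 0x60807030100020504) (nat_lit 1537))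
) (.node (nat_lit 0x60807030100040502) (.leaf (nat_lit 0x60807030100040205) (nat_lit 1537))
 (.leaf (nat_lit 0x60807030100040502) (nat_lit 1537))
)) (.node (nat_lit 0x60807030102000405) (.node (nat_lit 0x60807030100050402) (.leaf (nat_lit 0x60807030100050204) (nat_lit 1793))
 (.leaf (nat_lit 0x60807030100050402) (nat_lit 1281))
) (.node (nat_lit 0x60807030102000504) (.leaf (nat_lit 0x60807030102000405) (nat_lit 1802))
 (.node (nat_lit 0x60807030102040005) (.leaf (nat_lit 0x60807030102000504) (nat_lit 1546))
 (.leaf (nat_lit 0x60807030102040005) (nat_lit 1546))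
)))))) (.node (nat_lit 0x60807030200040105) (.node (nat_lit 0x60807030104050200) (.node (nat_lit 0x60807030104000502) (.node (nat_lit 0x60807030102050400) (.node (nat_lit 0x60807030102050004) (.leaf (nat_lit 0x60807030102040500) (nat_lit 1546))
 (.leaf (nat_lit 0x60807030102050004) (nat_lit 1802))
) (.node (nat_lit 0x60807030104000205) (.leaf (nat_lit 0x60807030102050400) (nat_lit 1290))
 (.leaf (nat_lit 0x60807030104000205) (nat_lit 1283))
)) (.node (nat_lit 0x60807030104020500) (.node (nat_lit 0x60807030104020005) (.leaf (nat_lit 0x60807030104000502) (nat_lit 1795))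
 (.leaf (nat_lit 0x60807030104020005) (nat_lit 1539))
) (.node (nat_lit 0x60807030104050002) (.leaf (nat_lit 0x60807030104020500) (nat_lit 1539))
 (.leaf (nat_lit 0x60807030104050002) (nat_lit 1539))
))) (.node (nat_lit 0x60807030105020400) (.node (nat_lit 0x60807030105000402) (.node (nat_lit 0x60807030105000204) (.leaf (nat_lit 0x60807030104050200) (nat_lit 1539))
 (.leaf (nat_lit 0x60807030105000204) (nat_lit 1536))
) (.node (nat_lit 0x60807030105020004) (.leaf (nat_lit 0x60807030105000402) (nat_lit 2050))
 (.leaf (nat_lit 0x60807030105020004) (nat_lit 1792))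
)) (.node (nat_lit 0x60807030105040200) (.node (nat_lit 0x60807030105040002) (.leaf (nat_lit 0x60807030105020400) (nat_lit 1792))
 (.leaf (nat_lit 0x60807030105040002) (nat_lit 1792))
) (.node (nat_lit 0x60807030200010405) (.leaf (nat_lit 0x60807030105040200) (nat_lit 1794))
 (.node (nat_lit 0x60807030200010504) (.leaf (nat_lit 0x60807030200010405) (nat_lit 1802))
 (.leaf (nat_lit 0x60807030200010504) (nat_lit 1546))
))))) (.node (nat_lit 0x60807030201050004) (.node (nat_lit 0x60807030201000405) (.node (nat_lit 0x60807030200050104) (.node (nat_lit 0x60807030200040501) (.leaf (nat_lit 0x60807030200040105) (nat_lit 1546))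
 (.leaf (nat_lit 0x60807030200040501) (nat_lit 1546))
) (.node (nat_lit 0x60807030200050401) (.leaf (nat_lit 0x60807030200050104) (nat_lit 1802))
 (.leaf (nat_lit 0x60807030200050401) (nat_lit 1290))
)) (.node (nat_lit 0x60807030201040005) (.node (nat_lit 0x60807030201000504) (.leaf (nat_lit 0x60807030201000405) (nat_lit 1546))
 (.leaf (nat_lit 0x60807030201000504) (nat_lit 1290))
) (.node (nat_lit 0x60807030201040500) (.leaf (nat_lit 0x60807030201040005) (nat_lit 1290))
 (.leaf (nat_lit 0x60807030201040500) (nat_lit 1290))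
))) (.node (nat_lit 0x60807030204010005) (.node (nat_lit 0x60807030204000105) (.node (nat_lit 0x60807030201050400) (.leaf (nat_lit 0x60807030201050004) (nat_lit 1546))
 (.leaf (nat_lit 0x60807030201050400) (nat_lit 1034))
) (.node (nat_lit 0x60807030204000501) (.leaf (nat_lit 0x60807030204000105) (nat_lit 1539))
 (.leaf (nat_lit 0x60807030204000501) (nat_lit 1539))
)) (.node (nat_lit 0x60807030204050001) (.node (nat_lit 0x60807030204010500) (.leaf (nat_lit 0x60807030204010005) (nat_lit 1283))
 (.leaf (nat_lit 0x60807030204010500) (nat_lit 1539))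
) (.node (nat_lit 0x60807030204050100) (.leaf (nat_lit 0x60807030204050001) (nat_lit 1795))
 (.node (nat_lit 0x60807030205000104) (.leaf (nat_lit 0x60807030204050100) (nat_lit 1539))
 (.leaf (nat_lit 0x60807030205000104) (nat_lit 1802))
))))))) (.node (nat_lit 0x60807030500040201) (.node (nat_lit 0x60807030402000105) (.node (nat_lit 0x60807030400020501) (.node (nat_lit 0x60807030205040100) (.node (nat_lit 0x60807030205010400) (.node (nat_lit 0x60807030205010004) (.leaf (nat_lit 0x60807030205000401) (nat_lit 1793))
 (.leaf (nat_lit 0x60807030205010004) (nat_lit 1537))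
) (.node (nat_lit 0x60807030205040001) (.leaf (nat_lit 0x60807030205010400) (nat_lit 1802))
 (.leaf (nat_lit 0x60807030205040001) (nat_lit 1546))
)) (.node (nat_lit 0x60807030400010502) (.node (nat_lit 0x60807030400010205) (.leaf (nat_lit 0x60807030205040100) (nat_lit 1793))
 (.leaf (nat_lit 0x60807030400010205) (nat_lit 1283))
) (.node (nat_lit 0x60807030400020105) (.leaf (nat_lit 0x60807030400010502) (nat_lit 1283))
 (.leaf (nat_lit 0x60807030400020105) (nat_lit 1027))
))) (.node (nat_lit 0x60807030401000502) (.node (nat_lit 0x60807030400050201) (.node (nat_lit 0x60807030400050102) (.leaf (nat_lit 0x60807030400020501) (nat_lit 1539))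
 (.leaf (nat_lit 0x60807030400050102) (nat_lit 1539))
) (.node (nat_lit 0x60807030401000205) (.leaf (nat_lit 0x60807030400050201) (nat_lit 1283))
 (.leaf (nat_lit 0x60807030401000205) (nat_lit 1283))
)) (.node (nat_lit 0x60807030401020500) (.node (nat_lit 0x60807030401020005) (.leaf (nat_lit 0x60807030401000502) (nat_lit 1795))
 (.leaf (nat_lit 0x60807030401020005) (nat_lit 1539))
) (.node (nat_lit 0x60807030401050002) (.leaf (nat_lit 0x60807030401020500) (nat_lit 1539))
 (.node (nat_lit 0x60807030401050200) (.leaf (nat_lit 0x60807030401050002) (nat_lit 1539))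
 (.leaf (nat_lit 0x60807030401050200) (nat_lit 1539))
))))) (.node (nat_lit 0x60807030405010002) (.node (nat_lit 0x60807030402050001) (.node (nat_lit 0x60807030402010005) (.node (nat_lit 0x60807030402000501) (.leaf (nat_lit 0x60807030402000105) (nat_lit 1539))
 (.leaf (nat_lit 0x60807030402000501) (nat_lit 1539))
) (.node (nat_lit 0x60807030402010500) (.leaf (nat_lit 0x60807030402010005) (nat_lit 1283))
 (.leaf (nat_lit 0x60807030402010500) (nat_lit 1539))
)) (.node (nat_lit 0x60807030405000102) (.node (nat_lit 0x60807030402050100) (.leaf (nat_lit 0x60807030402050001) (nat_lit 1795))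
 (.leaf (nat_lit 0x60807030402050100) (nat_lit 1539))
) (.node (nat_lit 0x60807030405000201) (.leaf (nat_lit 0x60807030405000102) (nat_lit 1287))
 (.leaf (nat_lit 0x60807030405000201) (nat_lit 1031))
))) (.node (nat_lit 0x60807030500010204) (.node (nat_lit 0x60807030405020001) (.node (nat_lit 0x60807030405010200) (.leaf (nat_lit 0x60807030405010002) (nat_lit 1031))
 (.leaf (nat_lit 0x60807030405010200) (nat_lit 1031))
) (.node (nat_lit 0x60807030405020100) (.leaf (nat_lit 0x60807030405020001) (nat_lit 1287))
 (.leaf (nat_lit 0x60807030405020100) (nat_lit 775))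
)) (.node (nat_lit 0x60807030500020104) (.node (nat_lit 0x60807030500010402) (.leaf (nat_lit 0x60807030500010204) (nat_lit 1026))
 (.leaf (nat_lit 0x60807030500010402) (nat_lit 1026))
) (.node (nat_lit 0x60807030500020401) (.leaf (nat_lit 0x60807030500020104) (nat_lit 770))
 (.node (nat_lit 0x60807030500040102) (.leaf (nat_lit 0x60807030500020401) (nat_lit 1282))
 (.leaf (nat_lit 0x60807030500040102) (nat_lit 1282))
)))))) (.node (nat_lit 0x60807030504020001) (.node (nat_lit 0x60807030502000401) (.node (nat_lit 0x60807030501020400) (.node (nat_lit 0x60807030501000402) (.node (nat_lit 0x60807030501000204) (.leaf (nat_lit 0x60807030500040201) (nat_lit 1026))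
 (.leaf (nat_lit 0x60807030501000204) (nat_lit 1026))
) (.node (nat_lit 0x60807030501020004) (.leaf (nat_lit 0x60807030501000402) (nat_lit 1538))
 (.leaf (nat_lit 0x60807030501020004) (nat_lit 1282))
)) (.node (nat_lit 0x60807030501040200) (.node (nat_lit 0x60807030501040002) (.leaf (nat_lit 0x60807030501020400) (nat_lit 1282))
 (.leaf (nat_lit 0x60807030501040002) (nat_lit 1282))
) (.node (nat_lit 0x60807030502000104) (.leaf (nat_lit 0x60807030501040200) (nat_lit 1282))
 (.leaf (nat_lit 0x60807030502000104) (nat_lit 1282))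
))) (.node (nat_lit 0x60807030502040100) (.node (nat_lit 0x60807030502010400) (.node (nat_lit 0x60807030502010004) (.leaf (nat_lit 0x60807030502000401) (nat_lit 1282))
 (.leaf (nat_lit 0x60807030502010004) (nat_lit 1026))
) (.node (nat_lit 0x60807030502040001) (.leaf (nat_lit 0x60807030502010400) (nat_lit 1282))
 (.leaf (nat_lit 0x60807030502040001) (nat_lit 1538))
)) (.node (nat_lit 0x60807030504000201) (.node (nat_lit 0x60807030504000102) (.leaf (nat_lit 0x60807030502040100) (nat_lit 1282))
 (.leaf (nat_lit 0x60807030504000102) (nat_lit 1030))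
) (.node (nat_lit 0x60807030504010002) (.leaf (nat_lit 0x60807030504000201) (nat_lit 772))
 (.node (nat_lit 0x60807030504010200) (.leaf (nat_lit 0x60807030504010002) (nat_lit 772))
 (.leaf (nat_lit 0x60807030504010200) (nat_lit 774))
))))) (.node (nat_lit 0x60807040002010305) (.node (nat_lit 0x60807040001030205) (.node (nat_lit 0x60807040001020305) (.node (nat_lit 0x60807030504020100) (.leaf (nat_lit 0x60807030504020001) (nat_lit 1030))
 (.leaf (nat_lit 0x60807030504020100) (nat_lit 516))
) (.node (nat_lit 0x60807040001020503) (.leaf (nat_lit 0x60807040001020305) (nat_lit 1546))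
 (.leaf (nat_lit 0x60807040001020503) (nat_lit 1546))
)) (.node (nat_lit 0x60807040001050203) (.node (nat_lit 0x60807040001030502) (.leaf (nat_lit 0x60807040001030205) (nat_lit 1290))
 (.leaf (nat_lit 0x60807040001030502) (nat_lit 1802))
) (.node (nat_lit 0x60807040001050302) (.leaf (nat_lit 0x60807040001050203) (nat_lit 1546))
 (.leaf (nat_lit 0x60807040001050302) (nat_lit 1546))
))) (.node (nat_lit 0x60807040002050103) (.node (nat_lit 0x60807040002030105) (.node (nat_lit 0x60807040002010503) (.leaf (nat_lit 0x60807040002010305) (nat_lit 1290))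
 (.leaf (nat_lit 0x60807040002010503) (nat_lit 1546))
) (.node (nat_lit 0x60807040002030501) (.leaf (nat_lit 0x60807040002030105) (nat_lit 1546))
 (.leaf (nat_lit 0x60807040002030501) (nat_lit 1546))
)) (.node (nat_lit 0x60807040003010205) (.node (nat_lit 0x60807040002050301) (.leaf (nat_lit 0x60807040002050103) (nat_lit 1546))
 (.leaf (nat_lit 0x60807040002050301) (nat_lit 1802))
) (.node (nat_lit 0x60807040003010502) (.leaf (nat_lit 0x60807040003010205) (nat_lit 1290))
 (.node (nat_lit 0x60807040003020105) (.leaf (nat_lit 0x60807040003010502) (nat_lit 1290))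
 (.leaf (nat_lit 0x60807040003020105) (nat_lit 1034))
)))))))) (.node (nat_lit 0x60807040301050002) (.node (nat_lit 0x60807040200010305) (.node (nat_lit 0x60807040102000503) (.node (nat_lit 0x60807040005030201) (.node (nat_lit 0x60807040005010302) (.node (nat_lit 0x60807040003050201) (.node (nat_lit 0x60807040003050102) (.leaf (nat_lit 0x60807040003020501) (nat_lit 1546))
 (.leaf (nat_lit 0x60807040003050102) (nat_lit 1546))
) (.node (nat_lit 0x60807040005010203) (.leaf (nat_lit 0x60807040003050201) (nat_lit 1290))
 (.leaf (nat_lit 0x60807040005010203) (nat_lit 1034))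
)) (.node (nat_lit 0x60807040005020301) (.node (nat_lit 0x60807040005020103) (.leaf (nat_lit 0x60807040005010302) (nat_lit 1034))
 (.leaf (nat_lit 0x60807040005020103) (nat_lit 778))
) (.node (nat_lit 0x60807040005030102) (.leaf (nat_lit 0x60807040005020301) (nat_lit 1290))
 (.leaf (nat_lit 0x60807040005030102) (nat_lit 1290))
))) (.node (nat_lit 0x60807040100030502) (.node (nat_lit 0x60807040100020503) (.node (nat_lit 0x60807040100020305) (.leaf (nat_lit 0x60807040005030201) (nat_lit 1034))
 (.leaf (nat_lit 0x60807040100020305) (nat_lit 1536))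
) (.node (nat_lit 0x60807040100030205) (.leaf (nat_lit 0x60807040100020503) (nat_lit 1802))
 (.leaf (nat_lit 0x60807040100030205) (nat_lit 1546))
)) (.node (nat_lit 0x60807040100050302) (.node (nat_lit 0x60807040100050203) (.leaf (nat_lit 0x60807040100030502) (nat_lit 1538))
 (.leaf (nat_lit 0x60807040100050203) (nat_lit 1792))
) (.node (nat_lit 0x60807040102000305) (.leaf (nat_lit 0x60807040100050302) (nat_lit 1802))
 (.leaf (nat_lit 0x60807040102000305) (nat_lit 1794))
)))) (.node (nat_lit 0x60807040103020500) (.node (nat_lit 0x60807040102050300) (.node (nat_lit 0x60807040102030500) (.node (nat_lit 0x60807040102030005) (.leaf (nat_lit 0x60807040102000503) (nat_lit 1792))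
 (.leaf (nat_lit 0x60807040102030005) (nat_lit 1536))
) (.node (nat_lit 0x60807040102050003) (.leaf (nat_lit 0x60807040102030500) (nat_lit 1538))
 (.leaf (nat_lit 0x60807040102050003) (nat_lit 1794))
)) (.node (nat_lit 0x60807040103000502) (.node (nat_lit 0x60807040103000205) (.leaf (nat_lit 0x60807040102050300) (nat_lit 1792))
 (.leaf (nat_lit 0x60807040103000205) (nat_lit 1280))
) (.node (nat_lit 0x60807040103020005) (.leaf (nat_lit 0x60807040103000502) (nat_lit 1792))
 (.leaf (nat_lit 0x60807040103020005) (nat_lit 1536))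
))) (.node (nat_lit 0x60807040105000302) (.node (nat_lit 0x60807040103050200) (.node (nat_lit 0x60807040103050002) (.leaf (nat_lit 0x60807040103020500) (nat_lit 1536))
 (.leaf (nat_lit 0x60807040103050002) (nat_lit 1536))
) (.node (nat_lit 0x60807040105000203) (.leaf (nat_lit 0x60807040103050200) (nat_lit 1792))
 (.leaf (nat_lit 0x60807040105000203) (nat_lit 1024))
)) (.node (nat_lit 0x60807040105020300) (.node (nat_lit 0x60807040105020003) (.leaf (nat_lit 0x60807040105000302) (nat_lit 1546))
 (.leaf (nat_lit 0x60807040105020003) (nat_lit 1280))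
) (.node (nat_lit 0x60807040105030002) (.leaf (nat_lit 0x60807040105020300) (nat_lit 1280))
 (.node (nat_lit 0x60807040105030200) (.leaf (nat_lit 0x60807040105030002) (nat_lit 1280))
 (.leaf (nat_lit 0x60807040105030200) (nat_lit 1290))
)))))) (.node (nat_lit 0x60807040203050100) (.node (nat_lit 0x60807040201030005) (.node (nat_lit 0x60807040200050103) (.node (nat_lit 0x60807040200030105) (.node (nat_lit 0x60807040200010503) (.leaf (nat_lit 0x60807040200010305) (nat_lit 1546))
 (.leaf (nat_lit 0x60807040200010503) (nat_lit 1793))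
) (.node (nat_lit 0x60807040200030501) (.leaf (nat_lit 0x60807040200030105) (nat_lit 1537))
 (.leaf (nat_lit 0x60807040200030501) (nat_lit 1538))
)) (.node (nat_lit 0x60807040201000305) (.node (nat_lit 0x60807040200050301) (.leaf (nat_lit 0x60807040200050103) (nat_lit 1802))
 (.leaf (nat_lit 0x60807040200050301) (nat_lit 1793))
) (.node (nat_lit 0x60807040201000503) (.leaf (nat_lit 0x60807040201000305) (nat_lit 1538))
 (.leaf (nat_lit 0x60807040201000503) (nat_lit 1546))
))) (.node (nat_lit 0x60807040203000105) (.node (nat_lit 0x60807040201050003) (.node (nat_lit 0x60807040201030500) (.leaf (nat_lit 0x60807040201030005) (nat_lit 1802))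
 (.leaf (nat_lit 0x60807040201030500) (nat_lit 1282))
) (.node (nat_lit 0x60807040201050300) (.leaf (nat_lit 0x60807040201050003) (nat_lit 1538))
 (.leaf (nat_lit 0x60807040201050300) (nat_lit 1538))
)) (.node (nat_lit 0x60807040203010005) (.node (nat_lit 0x60807040203000501) (.leaf (nat_lit 0x60807040203000105) (nat_lit 1537))
 (.leaf (nat_lit 0x60807040203000501) (nat_lit 1537))
) (.node (nat_lit 0x60807040203010500) (.leaf (nat_lit 0x60807040203010005) (nat_lit 1281))
 (.node (nat_lit 0x60807040203050001) (.leaf (nat_lit 0x60807040203010500) (nat_lit 1793))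
 (.leaf (nat_lit 0x60807040203050001) (nat_lit 1793))
))))) (.node (nat_lit 0x60807040300010502) (.node (nat_lit 0x60807040205010300) (.node (nat_lit 0x60807040205000301) (.node (nat_lit 0x60807040205000103) (.leaf (nat_lit 0x60807040203050100) (nat_lit 1537))
 (.leaf (nat_lit 0x60807040205000103) (nat_lit 1281))
) (.node (nat_lit 0x60807040205010003) (.leaf (nat_lit 0x60807040205000301) (nat_lit 1281))
 (.leaf (nat_lit 0x60807040205010003) (nat_lit 1025))
)) (.node (nat_lit 0x60807040205030100) (.node (nat_lit 0x60807040205030001) (.leaf (nat_lit 0x60807040205010300) (nat_lit 1290))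
 (.leaf (nat_lit 0x60807040205030001) (nat_lit 1537))
) (.node (nat_lit 0x60807040300010205) (.leaf (nat_lit 0x60807040205030100) (nat_lit 1281))
 (.leaf (nat_lit 0x60807040300010205) (nat_lit 1027))
))) (.node (nat_lit 0x60807040300050201) (.node (nat_lit 0x60807040300020501) (.node (nat_lit 0x60807040300020105) (.leaf (nat_lit 0x60807040300010502) (nat_lit 1027))
 (.leaf (nat_lit 0x60807040300020105) (nat_lit 771))
) (.node (nat_lit 0x60807040300050102) (.leaf (nat_lit 0x60807040300020501) (nat_lit 1283))
 (.leaf (nat_lit 0x60807040300050102) (nat_lit 1283))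
)) (.node (nat_lit 0x60807040301000502) (.node (nat_lit 0x60807040301000205) (.leaf (nat_lit 0x60807040300050201) (nat_lit 1027))
 (.leaf (nat_lit 0x60807040301000205) (nat_lit 1027))
) (.node (nat_lit 0x60807040301020005) (.leaf (nat_lit 0x60807040301000502) (nat_lit 1539))
 (.node (nat_lit 0x60807040301020500) (.leaf (nat_lit 0x60807040301020005) (nat_lit 1283))
 (.leaf (nat_lit 0x60807040301020500) (nat_lit 1283))
))))))) (.node (nat_lit 0x60807040503010002) (.node (nat_lit 0x60807040500020301) (.node (nat_lit 0x60807040305000102) (.node (nat_lit 0x60807040302010005) (.node (nat_lit 0x60807040302000105) (.node (nat_lit 0x60807040301050200) (.leaf (nat_lit 0x60807040301050002) (nat_lit 1283))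
 (.leaf (nat_lit 0x60807040301050200) (nat_lit 1283))
) (.node (nat_lit 0x60807040302000501) (.leaf (nat_lit 0x60807040302000105) (nat_lit 1283))
 (.leaf (nat_lit 0x60807040302000501) (nat_lit 1283))
)) (.node (nat_lit 0x60807040302050001) (.node (nat_lit 0x60807040302010500) (.leaf (nat_lit 0x60807040302010005) (nat_lit 1027))
 (.leaf (nat_lit 0x60807040302010500) (nat_lit 1283))
) (.node (nat_lit 0x60807040302050100) (.leaf (nat_lit 0x60807040302050001) (nat_lit 1539))
 (.leaf (nat_lit 0x60807040302050100) (nat_lit 1283))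
))) (.node (nat_lit 0x60807040305020001) (.node (nat_lit 0x60807040305010002) (.node (nat_lit 0x60807040305000201) (.leaf (nat_lit 0x60807040305000102) (nat_lit 1030))
 (.leaf (nat_lit 0x60807040305000201) (nat_lit 772))
) (.node (nat_lit 0x60807040305010200) (.leaf (nat_lit 0x60807040305010002) (nat_lit 772))
 (.leaf (nat_lit 0x60807040305010200) (nat_lit 774))
)) (.node (nat_lit 0x60807040500010203) (.node (nat_lit 0x60807040305020100) (.leaf (nat_lit 0x60807040305020001) (nat_lit 1030))
 (.leaf (nat_lit 0x60807040305020100) (nat_lit 516))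
) (.node (nat_lit 0x60807040500010302) (.leaf (nat_lit 0x60807040500010203) (nat_lit 1034))
 (.node (nat_lit 0x60807040500020103) (.leaf (nat_lit 0x60807040500010302) (nat_lit 1034))
 (.leaf (nat_lit 0x60807040500020103) (nat_lit 778))
))))) (.node (nat_lit 0x60807040501030200) (.node (nat_lit 0x60807040501000302) (.node (nat_lit 0x60807040500030201) (.node (nat_lit 0x60807040500030102) (.leaf (nat_lit 0x60807040500020301) (nat_lit 1290))
 (.leaf (nat_lit 0x60807040500030102) (nat_lit 1290))
) (.node (nat_lit 0x60807040501000203) (.leaf (nat_lit 0x60807040500030201) (nat_lit 1034))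
 (.leaf (nat_lit 0x60807040501000203) (nat_lit 1024))
)) (.node (nat_lit 0x60807040501020300) (.node (nat_lit 0x60807040501020003) (.leaf (nat_lit 0x60807040501000302) (nat_lit 1546))
 (.leaf (nat_lit 0x60807040501020003) (nat_lit 1280))
) (.node (nat_lit 0x60807040501030002) (.leaf (nat_lit 0x60807040501020300) (nat_lit 1280))
 (.leaf (nat_lit 0x60807040501030002) (nat_lit 1280))
))) (.node (nat_lit 0x60807040502010300) (.node (nat_lit 0x60807040502000301) (.node (nat_lit 0x60807040502000103) (.leaf (nat_lit 0x60807040501030200) (nat_lit 1290))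
 (.leaf (nat_lit 0x60807040502000103) (nat_lit 1281))
) (.node (nat_lit 0x60807040502010003) (.leaf (nat_lit 0x60807040502000301) (nat_lit 1281))
 (.leaf (nat_lit 0x60807040502010003) (nat_lit 1025))
)) (.node (nat_lit 0x60807040502030100) (.node (nat_lit 0x60807040502030001) (.leaf (nat_lit 0x60807040502010300) (nat_lit 1290))
 (.leaf (nat_lit 0x60807040502030001) (nat_lit 1537))
) (.node (nat_lit 0x60807040503000102) (.leaf (nat_lit 0x60807040502030100) (nat_lit 1281))
 (.node (nat_lit 0x60807040503000201) (.leaf (nat_lit 0x60807040503000102) (nat_lit 1031))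
 (.leaf (nat_lit 0x60807040503000201) (nat_lit 775))
)))))) (.node (nat_lit 0x60807050003010402) (.node (nat_lit 0x60807050001040203) (.node (nat_lit 0x60807050001020304) (.node (nat_lit 0x60807040503020001) (.node (nat_lit 0x60807040503010200) (.leaf (nat_lit 0x60807040503010002) (nat_lit 775))
 (.leaf (nat_lit 0x60807040503010200) (nat_lit 775))
) (.node (nat_lit 0x60807040503020100) (.leaf (nat_lit 0x60807040503020001) (nat_lit 1031))
 (.leaf (nat_lit 0x60807040503020100) (nat_lit 519))
)) (.node (nat_lit 0x60807050001030204) (.node (nat_lit 0x60807050001020403) (.leaf (nat_lit 0x60807050001020304) (nat_lit 1794))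
 (.leaf (nat_lit 0x60807050001020403) (nat_lit 1802))
) (.node (nat_lit 0x60807050001030402) (.leaf (nat_lit 0x60807050001030204) (nat_lit 1546))
 (.leaf (nat_lit 0x60807050001030402) (nat_lit 1794))
))) (.node (nat_lit 0x60807050002030104) (.node (nat_lit 0x60807050002010304) (.node (nat_lit 0x60807050001040302) (.leaf (nat_lit 0x60807050001040203) (nat_lit 1538))
 (.leaf (nat_lit 0x60807050001040302) (nat_lit 1802))
) (.node (nat_lit 0x60807050002010403) (.leaf (nat_lit 0x60807050002010304) (nat_lit 1546))
 (.leaf (nat_lit 0x60807050002010403) (nat_lit 1538))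
)) (.node (nat_lit 0x60807050002040103) (.node (nat_lit 0x60807050002030401) (.leaf (nat_lit 0x60807050002030104) (nat_lit 1794))
 (.leaf (nat_lit 0x60807050002030401) (nat_lit 1802))
) (.node (nat_lit 0x60807050002040301) (.leaf (nat_lit 0x60807050002040103) (nat_lit 1802))
 (.node (nat_lit 0x60807050003010204) (.leaf (nat_lit 0x60807050002040301) (nat_lit 1539))
 (.leaf (nat_lit 0x60807050003010204) (nat_lit 1282))
))))) (.node (nat_lit 0x60807050004020301) (.node (nat_lit 0x60807050003040201) (.node (nat_lit 0x60807050003020401) (.node (nat_lit 0x60807050003020104) (.leaf (nat_lit 0x60807050003010402) (nat_lit 1282))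
 (.leaf (nat_lit 0x60807050003020104) (nat_lit 1026))
) (.node (nat_lit 0x60807050003040102) (.leaf (nat_lit 0x60807050003020401) (nat_lit 1538))
 (.leaf (nat_lit 0x60807050003040102) (nat_lit 1538))
)) (.node (nat_lit 0x60807050004010302) (.node (nat_lit 0x60807050004010203) (.leaf (nat_lit 0x60807050003040201) (nat_lit 1282))
 (.leaf (nat_lit 0x60807050004010203) (nat_lit 1290))
) (.node (nat_lit 0x60807050004020103) (.leaf (nat_lit 0x60807050004010302) (nat_lit 1290))
 (.leaf (nat_lit 0x60807050004020103) (nat_lit 1034))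
))) (.node (nat_lit 0x60807050100020403) (.node (nat_lit 0x60807050004030201) (.node (nat_lit 0x60807050004030102) (.leaf (nat_lit 0x60807050004020301) (nat_lit 1546))
 (.leaf (nat_lit 0x60807050004030102) (nat_lit 1546))
) (.node (nat_lit 0x60807050100020304) (.leaf (nat_lit 0x60807050004030201) (nat_lit 1290))
 (.leaf (nat_lit 0x60807050100020304) (nat_lit 1802))
)) (.node (nat_lit 0x60807050100030402) (.node (nat_lit 0x60807050100030204) (.leaf (nat_lit 0x60807050100020403) (nat_lit 1795))
 (.leaf (nat_lit 0x60807050100030204) (nat_lit 1546))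
) (.node (nat_lit 0x60807050100040203) (.leaf (nat_lit 0x60807050100030402) (nat_lit 1795))
 (.node (nat_lit 0x60807050100040302) (.leaf (nat_lit 0x60807050100040203) (nat_lit 1793))
 (.leaf (nat_lit 0x60807050100040302) (nat_lit 1539))
))))))))) (.node (nat_lit 0x70608000205030401) (.node (nat_lit 0x60807050400010302) (.node (nat_lit 0x60807050203010400) (.node (nat_lit 0x60807050104030002) (.node (nat_lit 0x60807050103020004) (.node (nat_lit 0x60807050102040003) (.node (nat_lit 0x60807050102030004) (.node (nat_lit 0x60807050102000403) (.leaf (nat_lit 0x60807050102000304) (nat_lit 1793))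
 (.leaf (nat_lit 0x60807050102000403) (nat_lit 1795))
) (.node (nat_lit 0x60807050102030400) (.leaf (nat_lit 0x60807050102030004) (nat_lit 1795))
 (.leaf (nat_lit 0x60807050102030400) (nat_lit 1795))
)) (.node (nat_lit 0x60807050103000204) (.node (nat_lit 0x60807050102040300) (.leaf (nat_lit 0x60807050102040003) (nat_lit 1802))
 (.leaf (nat_lit 0x60807050102040300) (nat_lit 1539))
) (.node (nat_lit 0x60807050103000402) (.leaf (nat_lit 0x60807050103000204) (nat_lit 1282))
 (.leaf (nat_lit 0x60807050103000402) (nat_lit 1794))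
))) (.node (nat_lit 0x60807050104000203) (.node (nat_lit 0x60807050103040002) (.node (nat_lit 0x60807050103020400) (.leaf (nat_lit 0x60807050103020004) (nat_lit 1538))
 (.leaf (nat_lit 0x60807050103020400) (nat_lit 1538))
) (.node (nat_lit 0x60807050103040200) (.leaf (nat_lit 0x60807050103040002) (nat_lit 1538))
 (.leaf (nat_lit 0x60807050103040200) (nat_lit 1538))
)) (.node (nat_lit 0x60807050104020003) (.node (nat_lit 0x60807050104000302) (.leaf (nat_lit 0x60807050104000203) (nat_lit 1280))
 (.leaf (nat_lit 0x60807050104000302) (nat_lit 1802))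
) (.node (nat_lit 0x60807050104020300) (.leaf (nat_lit 0x60807050104020003) (nat_lit 1536))
 (.leaf (nat_lit 0x60807050104020300) (nat_lit 1536))
)))) (.node (nat_lit 0x60807050201000304) (.node (nat_lit 0x60807050200030104) (.node (nat_lit 0x60807050200010304) (.node (nat_lit 0x60807050104030200) (.leaf (nat_lit 0x60807050104030002) (nat_lit 1536))
 (.leaf (nat_lit 0x60807050104030200) (nat_lit 1546))
) (.node (nat_lit 0x60807050200010403) (.leaf (nat_lit 0x60807050200010304) (nat_lit 1546))
 (.leaf (nat_lit 0x60807050200010403) (nat_lit 1795))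
)) (.node (nat_lit 0x60807050200040103) (.node (nat_lit 0x60807050200030401) (.leaf (nat_lit 0x60807050200030104) (nat_lit 1795))
 (.leaf (nat_lit 0x60807050200030401) (nat_lit 1802))
) (.node (nat_lit 0x60807050200040301) (.leaf (nat_lit 0x60807050200040103) (nat_lit 1802))
 (.leaf (nat_lit 0x60807050200040301) (nat_lit 1539))
))) (.node (nat_lit 0x60807050201040003) (.node (nat_lit 0x60807050201030004) (.node (nat_lit 0x60807050201000403) (.leaf (nat_lit 0x60807050201000304) (nat_lit 1795))
 (.leaf (nat_lit 0x60807050201000403) (nat_lit 1539))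
) (.node (nat_lit 0x60807050201030400) (.leaf (nat_lit 0x60807050201030004) (nat_lit 1539))
 (.leaf (nat_lit 0x60807050201030400) (nat_lit 1539))
)) (.node (nat_lit 0x60807050203000104) (.node (nat_lit 0x60807050201040300) (.leaf (nat_lit 0x60807050201040003) (nat_lit 1546))
 (.leaf (nat_lit 0x60807050201040300) (nat_lit 1283))
) (.node (nat_lit 0x60807050203000401) (.leaf (nat_lit 0x60807050203000104) (nat_lit 1538))
 (.node (nat_lit 0x60807050203010004) (.leaf (nat_lit 0x60807050203000401) (nat_lit 1538))
 (.leaf (nat_lit 0x60807050203010004) (nat_lit 1282))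
)))))) (.node (nat_lit 0x60807050301020004) (.node (nat_lit 0x60807050204030100) (.node (nat_lit 0x60807050204000301) (.node (nat_lit 0x60807050203040100) (.node (nat_lit 0x60807050203040001) (.leaf (nat_lit 0x60807050203010400) (nat_lit 1538))
 (.leaf (nat_lit 0x60807050203040001) (nat_lit 1794))
) (.node (nat_lit 0x60807050204000103) (.leaf (nat_lit 0x60807050203040100) (nat_lit 1538))
 (.leaf (nat_lit 0x60807050204000103) (nat_lit 1537))
)) (.node (nat_lit 0x60807050204010300) (.node (nat_lit 0x60807050204010003) (.leaf (nat_lit 0x60807050204000301) (nat_lit 1537))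
 (.leaf (nat_lit 0x60807050204010003) (nat_lit 1281))
) (.node (nat_lit 0x60807050204030001) (.leaf (nat_lit 0x60807050204010300) (nat_lit 1546))
 (.leaf (nat_lit 0x60807050204030001) (nat_lit 1793))
))) (.node (nat_lit 0x60807050300020401) (.node (nat_lit 0x60807050300010402) (.node (nat_lit 0x60807050300010204) (.leaf (nat_lit 0x60807050204030100) (nat_lit 1537))
 (.leaf (nat_lit 0x60807050300010204) (nat_lit 1282))
) (.node (nat_lit 0x60807050300020104) (.leaf (nat_lit 0x60807050300010402) (nat_lit 1282))
 (.leaf (nat_lit 0x60807050300020104) (nat_lit 1026))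
)) (.node (nat_lit 0x60807050300040201) (.node (nat_lit 0x60807050300040102) (.leaf (nat_lit 0x60807050300020401) (nat_lit 1538))
 (.leaf (nat_lit 0x60807050300040102) (nat_lit 1538))
) (.node (nat_lit 0x60807050301000204) (.leaf (nat_lit 0x60807050300040201) (nat_lit 1282))
 (.node (nat_lit 0x60807050301000402) (.leaf (nat_lit 0x60807050301000204) (nat_lit 1282))
 (.leaf (nat_lit 0x60807050301000402) (nat_lit 1794))
))))) (.node (nat_lit 0x60807050302040001) (.node (nat_lit 0x60807050302000104) (.node (nat_lit 0x60807050301040002) (.node (nat_lit 0x60807050301020400) (.leaf (nat_lit 0x60807050301020004) (nat_lit 1538))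
 (.leaf (nat_lit 0x60807050301020400) (nat_lit 1538))
) (.node (nat_lit 0x60807050301040200) (.leaf (nat_lit 0x60807050301040002) (nat_lit 1538))
 (.leaf (nat_lit 0x60807050301040200) (nat_lit 1538))
)) (.node (nat_lit 0x60807050302010004) (.node (nat_lit 0x60807050302000401) (.leaf (nat_lit 0x60807050302000104) (nat_lit 1538))
 (.leaf (nat_lit 0x60807050302000401) (nat_lit 1538))
) (.node (nat_lit 0x60807050302010400) (.leaf (nat_lit 0x60807050302010004) (nat_lit 1282))
 (.leaf (nat_lit 0x60807050302010400) (nat_lit 1538))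
))) (.node (nat_lit 0x60807050304010002) (.node (nat_lit 0x60807050304000102) (.node (nat_lit 0x60807050302040100) (.leaf (nat_lit 0x60807050302040001) (nat_lit 1794))
 (.leaf (nat_lit 0x60807050302040100) (nat_lit 1538))
) (.node (nat_lit 0x60807050304000201) (.leaf (nat_lit 0x60807050304000102) (nat_lit 1287))
 (.leaf (nat_lit 0x60807050304000201) (nat_lit 1031))
)) (.node (nat_lit 0x60807050304020001) (.node (nat_lit 0x60807050304010200) (.leaf (nat_lit 0x60807050304010002) (nat_lit 1031))
 (.leaf (nat_lit 0x60807050304010200) (nat_lit 1031))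
) (.node (nat_lit 0x60807050304020100) (.leaf (nat_lit 0x60807050304020001) (nat_lit 1287))
 (.node (nat_lit 0x60807050400010203) (.leaf (nat_lit 0x60807050304020100) (nat_lit 775))
 (.leaf (nat_lit 0x60807050400010203) (nat_lit 778))
))))))) (.node (nat_lit 0x70608000103050402) (.node (nat_lit 0x60807050403000102) (.node (nat_lit 0x60807050401020300) (.node (nat_lit 0x60807050400030201) (.node (nat_lit 0x60807050400020301) (.node (nat_lit 0x60807050400020103) (.leaf (nat_lit 0x60807050400010302) (nat_lit 778))
 (.leaf (nat_lit 0x60807050400020103) (nat_lit 522))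
) (.node (nat_lit 0x60807050400030102) (.leaf (nat_lit 0x60807050400020301) (nat_lit 1034))
 (.leaf (nat_lit 0x60807050400030102) (nat_lit 1034))
)) (.node (nat_lit 0x60807050401000302) (.node (nat_lit 0x60807050401000203) (.leaf (nat_lit 0x60807050400030201) (nat_lit 778))
 (.leaf (nat_lit 0x60807050401000203) (nat_lit 768))
) (.node (nat_lit 0x60807050401020003) (.leaf (nat_lit 0x60807050401000302) (nat_lit 1290))
 (.leaf (nat_lit 0x60807050401020003) (nat_lit 1024))
))) (.node (nat_lit 0x60807050402000301) (.node (nat_lit 0x60807050401030200) (.node (nat_lit 0x60807050401030002) (.leaf (nat_lit 0x60807050401020300) (nat_lit 1024))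
 (.leaf (nat_lit 0x60807050401030002) (nat_lit 1024))
) (.node (nat_lit 0x60807050402000103) (.leaf (nat_lit 0x60807050401030200) (nat_lit 1034))
 (.leaf (nat_lit 0x60807050402000103) (nat_lit 1025))
)) (.node (nat_lit 0x60807050402010300) (.node (nat_lit 0x60807050402010003) (.leaf (nat_lit 0x60807050402000301) (nat_lit 1025))
 (.leaf (nat_lit 0x60807050402010003) (nat_lit 769))
) (.node (nat_lit 0x60807050402030001) (.leaf (nat_lit 0x60807050402010300) (nat_lit 1034))
 (.node (nat_lit 0x60807050402030100) (.leaf (nat_lit 0x60807050402030001) (nat_lit 1281))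
 (.leaf (nat_lit 0x60807050402030100) (nat_lit 1025))
))))) (.node (nat_lit 0x70608000102040305) (.node (nat_lit 0x60807050403020001) (.node (nat_lit 0x60807050403010002) (.node (nat_lit 0x60807050403000201) (.leaf (nat_lit 0x60807050403000102) (nat_lit 774))
 (.leaf (nat_lit 0x60807050403000201) (nat_lit 516))
) (.node (nat_lit 0x60807050403010200) (.leaf (nat_lit 0x60807050403010002) (nat_lit 516))
 (.leaf (nat_lit 0x60807050403010200) (nat_lit 518))
)) (.node (nat_lit 0x70608000102030405) (.node (nat_lit 0x60807050403020100) (.leaf (nat_lit 0x60807050403020001) (nat_lit 774))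
 (.leaf (nat_lit 0x60807050403020100) (nat_lit 260))
) (.node (nat_lit 0x70608000102030504) (.leaf (nat_lit 0x70608000102030405) (nat_lit 1545))
 (.leaf (nat_lit 0x70608000102030504) (nat_lit 1289))
))) (.node (nat_lit 0x70608000103020405) (.node (nat_lit 0x70608000102050304) (.node (nat_lit 0x70608000102040503) (.leaf (nat_lit 0x70608000102040305) (nat_lit 1289))
 (.leaf (nat_lit 0x70608000102040503) (nat_lit 1289))
) (.node (nat_lit 0x70608000102050403) (.leaf (nat_lit 0x70608000102050304) (nat_lit 1545))
 (.leaf (nat_lit 0x70608000102050403) (nat_lit 1033))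
)) (.node (nat_lit 0x70608000103040205) (.node (nat_lit 0x70608000103020504) (.leaf (nat_lit 0x70608000103020405) (nat_lit 1793))
 (.leaf (nat_lit 0x70608000103020504) (nat_lit 1537))
) (.node (nat_lit 0x70608000103040502) (.leaf (nat_lit 0x70608000103040205) (nat_lit 1537))
 (.node (nat_lit 0x70608000103050204) (.leaf (nat_lit 0x70608000103040502) (nat_lit 1537))
 (.leaf (nat_lit 0x70608000103050204) (nat_lit 1793))
)))))) (.node (nat_lit 0x70608000201050304) (.node (nat_lit 0x70608000105020403) (.node (nat_lit 0x70608000104030502) (.node (nat_lit 0x70608000104020503) (.node (nat_lit 0x70608000104020305) (.leaf (nat_lit 0x70608000103050402) (nat_lit 1281))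
 (.leaf (nat_lit 0x70608000104020305) (nat_lit 1794))
) (.node (nat_lit 0x70608000104030205) (.leaf (nat_lit 0x70608000104020503) (nat_lit 1802))
 (.leaf (nat_lit 0x70608000104030205) (nat_lit 1546))
)) (.node (nat_lit 0x70608000104050302) (.node (nat_lit 0x70608000104050203) (.leaf (nat_lit 0x70608000104030502) (nat_lit 1538))
 (.leaf (nat_lit 0x70608000104050203) (nat_lit 1794))
) (.node (nat_lit 0x70608000105020304) (.leaf (nat_lit 0x70608000104050302) (nat_lit 1802))
 (.leaf (nat_lit 0x70608000105020304) (nat_lit 1792))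
))) (.node (nat_lit 0x70608000105040302) (.node (nat_lit 0x70608000105030402) (.node (nat_lit 0x70608000105030204) (.leaf (nat_lit 0x70608000105020403) (nat_lit 1795))
 (.leaf (nat_lit 0x70608000105030204) (nat_lit 1795))
) (.node (nat_lit 0x70608000105040203) (.leaf (nat_lit 0x70608000105030402) (nat_lit 1795))
 (.leaf (nat_lit 0x70608000105040203) (nat_lit 1794))
)) (.node (nat_lit 0x70608000201030504) (.node (nat_lit 0x70608000201030405) (.leaf (nat_lit 0x70608000105040302) (nat_lit 1539))
 (.leaf (nat_lit 0x70608000201030405) (nat_lit 1289))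
) (.node (nat_lit 0x70608000201040305) (.leaf (nat_lit 0x70608000201030504) (nat_lit 1033))
 (.node (nat_lit 0x70608000201040503) (.leaf (nat_lit 0x70608000201040305) (nat_lit 1033))
 (.leaf (nat_lit 0x70608000201040503) (nat_lit 1033))
))))) (.node (nat_lit 0x70608000204010305) (.node (nat_lit 0x70608000203040105) (.node (nat_lit 0x70608000203010405) (.node (nat_lit 0x70608000201050403) (.leaf (nat_lit 0x70608000201050304) (nat_lit 1289))
 (.leaf (nat_lit 0x70608000201050403) (nat_lit 777))
) (.node (nat_lit 0x70608000203010504) (.leaf (nat_lit 0x70608000203010405) (nat_lit 1536))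
 (.leaf (nat_lit 0x70608000203010504) (nat_lit 1280))
)) (.node (nat_lit 0x70608000203050104) (.node (nat_lit 0x70608000203040501) (.leaf (nat_lit 0x70608000203040105) (nat_lit 1280))
 (.leaf (nat_lit 0x70608000203040501) (nat_lit 1280))
) (.node (nat_lit 0x70608000203050401) (.leaf (nat_lit 0x70608000203050104) (nat_lit 1536))
 (.leaf (nat_lit 0x70608000203050401) (nat_lit 1024))
))) (.node (nat_lit 0x70608000204050103) (.node (nat_lit 0x70608000204030105) (.node (nat_lit 0x70608000204010503) (.leaf (nat_lit 0x70608000204010305) (nat_lit 1538))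
 (.leaf (nat_lit 0x70608000204010503) (nat_lit 1536))
) (.node (nat_lit 0x70608000204030501) (.leaf (nat_lit 0x70608000204030105) (nat_lit 1792))
 (.leaf (nat_lit 0x70608000204030501) (nat_lit 1282))
)) (.node (nat_lit 0x70608000205010304) (.node (nat_lit 0x70608000204050301) (.leaf (nat_lit 0x70608000204050103) (nat_lit 1538))
 (.leaf (nat_lit 0x70608000204050301) (nat_lit 1538))
) (.node (nat_lit 0x70608000205010403) (.leaf (nat_lit 0x70608000205010304) (nat_lit 1795))
 (.node (nat_lit 0x70608000205030104) (.leaf (nat_lit 0x70608000205010403) (nat_lit 1539))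
 (.leaf (nat_lit 0x70608000205030104) (nat_lit 1539))
)))))))) (.node (nat_lit 0x70608000503040102) (.node (nat_lit 0x70608000402010305) (.node (nat_lit 0x70608000304010502) (.node (nat_lit 0x70608000301050402) (.node (nat_lit 0x70608000301020504) (.node (nat_lit 0x70608000205040301) (.node (nat_lit 0x70608000205040103) (.leaf (nat_lit 0x70608000205030401) (nat_lit 1539))
 (.leaf (nat_lit 0x70608000205040103) (nat_lit 1536))
) (.node (nat_lit 0x70608000301020405) (.leaf (nat_lit 0x70608000205040301) (nat_lit 1283))
 (.leaf (nat_lit 0x70608000301020405) (nat_lit 1793))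
)) (.node (nat_lit 0x70608000301040502) (.node (nat_lit 0x70608000301040205) (.leaf (nat_lit 0x70608000301020504) (nat_lit 1537))
 (.leaf (nat_lit 0x70608000301040205) (nat_lit 1537))
) (.node (nat_lit 0x70608000301050204) (.leaf (nat_lit 0x70608000301040502) (nat_lit 1537))
 (.leaf (nat_lit 0x70608000301050204) (nat_lit 1793))
))) (.node (nat_lit 0x70608000302040501) (.node (nat_lit 0x70608000302010504) (.node (nat_lit 0x70608000302010405) (.leaf (nat_lit 0x70608000301050402) (nat_lit 1281))
 (.leaf (nat_lit 0x70608000302010405) (nat_lit 1538))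
) (.node (nat_lit 0x70608000302040105) (.leaf (nat_lit 0x70608000302010504) (nat_lit 1802))
 (.leaf (nat_lit 0x70608000302040105) (nat_lit 1802))
)) (.node (nat_lit 0x70608000302050401) (.node (nat_lit 0x70608000302050104) (.leaf (nat_lit 0x70608000302040501) (nat_lit 1794))
 (.leaf (nat_lit 0x70608000302050104) (nat_lit 1794))
) (.node (nat_lit 0x70608000304010205) (.leaf (nat_lit 0x70608000302050401) (nat_lit 1546))
 (.leaf (nat_lit 0x70608000304010205) (nat_lit 1539))
)))) (.node (nat_lit 0x70608000305020401) (.node (nat_lit 0x70608000304050201) (.node (nat_lit 0x70608000304020501) (.node (nat_lit 0x70608000304020105) (.leaf (nat_lit 0x70608000304010502) (nat_lit 1539))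
 (.leaf (nat_lit 0x70608000304020105) (nat_lit 1283))
) (.node (nat_lit 0x70608000304050102) (.leaf (nat_lit 0x70608000304020501) (nat_lit 1795))
 (.leaf (nat_lit 0x70608000304050102) (nat_lit 1795))
)) (.node (nat_lit 0x70608000305010402) (.node (nat_lit 0x70608000305010204) (.leaf (nat_lit 0x70608000304050201) (nat_lit 1539))
 (.leaf (nat_lit 0x70608000305010204) (nat_lit 1282))
) (.node (nat_lit 0x70608000305020104) (.leaf (nat_lit 0x70608000305010402) (nat_lit 1282))
 (.leaf (nat_lit 0x70608000305020104) (nat_lit 1026))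
))) (.node (nat_lit 0x70608000401020503) (.node (nat_lit 0x70608000305040201) (.node (nat_lit 0x70608000305040102) (.leaf (nat_lit 0x70608000305020401) (nat_lit 1538))
 (.leaf (nat_lit 0x70608000305040102) (nat_lit 1538))
) (.node (nat_lit 0x70608000401020305) (.leaf (nat_lit 0x70608000305040201) (nat_lit 1282))
 (.leaf (nat_lit 0x70608000401020305) (nat_lit 1794))
)) (.node (nat_lit 0x70608000401030502) (.node (nat_lit 0x70608000401030205) (.leaf (nat_lit 0x70608000401020503) (nat_lit 1802))
 (.leaf (nat_lit 0x70608000401030205) (nat_lit 1546))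
) (.node (nat_lit 0x70608000401050203) (.leaf (nat_lit 0x70608000401030502) (nat_lit 1538))
 (.node (nat_lit 0x70608000401050302) (.leaf (nat_lit 0x70608000401050203) (nat_lit 1539))
 (.leaf (nat_lit 0x70608000401050302) (nat_lit 1802))
)))))) (.node (nat_lit 0x70608000405030201) (.node (nat_lit 0x70608000403020105) (.node (nat_lit 0x70608000402050103) (.node (nat_lit 0x70608000402030105) (.node (nat_lit 0x70608000402010503) (.leaf (nat_lit 0x70608000402010305) (nat_lit 1546))
 (.leaf (nat_lit 0x70608000402010503) (nat_lit 1539))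
) (.node (nat_lit 0x70608000402030501) (.leaf (nat_lit 0x70608000402030105) (nat_lit 1795))
 (.leaf (nat_lit 0x70608000402030501) (nat_lit 1802))
)) (.node (nat_lit 0x70608000403010205) (.node (nat_lit 0x70608000402050301) (.leaf (nat_lit 0x70608000402050103) (nat_lit 1802))
 (.leaf (nat_lit 0x70608000402050301) (nat_lit 1795))
) (.node (nat_lit 0x70608000403010502) (.leaf (nat_lit 0x70608000403010205) (nat_lit 1283))
 (.leaf (nat_lit 0x70608000403010502) (nat_lit 1283))
))) (.node (nat_lit 0x70608000405010203) (.node (nat_lit 0x70608000403050102) (.node (nat_lit 0x70608000403020501) (.leaf (nat_lit 0x70608000403020105) (nat_lit 1027))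
 (.leaf (nat_lit 0x70608000403020501) (nat_lit 1539))
) (.node (nat_lit 0x70608000403050201) (.leaf (nat_lit 0x70608000403050102) (nat_lit 1539))
 (.leaf (nat_lit 0x70608000403050201) (nat_lit 1283))
)) (.node (nat_lit 0x70608000405020103) (.node (nat_lit 0x70608000405010302) (.leaf (nat_lit 0x70608000405010203) (nat_lit 1290))
 (.leaf (nat_lit 0x70608000405010302) (nat_lit 1290))
) (.node (nat_lit 0x70608000405020301) (.leaf (nat_lit 0x70608000405020103) (nat_lit 1034))
 (.node (nat_lit 0x70608000405030102) (.leaf (nat_lit 0x70608000405020301) (nat_lit 1546))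
 (.leaf (nat_lit 0x70608000405030102) (nat_lit 1546))
))))) (.node (nat_lit 0x70608000502010403) (.node (nat_lit 0x70608000501030402) (.node (nat_lit 0x70608000501020403) (.node (nat_lit 0x70608000501020304) (.leaf (nat_lit 0x70608000405030201) (nat_lit 1290))
 (.leaf (nat_lit 0x70608000501020304) (nat_lit 1546))
) (.node (nat_lit 0x70608000501030204) (.leaf (nat_lit 0x70608000501020403) (nat_lit 1546))
 (.leaf (nat_lit 0x70608000501030204) (nat_lit 1290))
)) (.node (nat_lit 0x70608000501040302) (.node (nat_lit 0x70608000501040203) (.leaf (nat_lit 0x70608000501030402) (nat_lit 1802))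
 (.leaf (nat_lit 0x70608000501040203) (nat_lit 1546))
) (.node (nat_lit 0x70608000502010304) (.leaf (nat_lit 0x70608000501040302) (nat_lit 1546))
 (.leaf (nat_lit 0x70608000502010304) (nat_lit 1290))
))) (.node (nat_lit 0x70608000502040301) (.node (nat_lit 0x70608000502030401) (.node (nat_lit 0x70608000502030104) (.leaf (nat_lit 0x70608000502010403) (nat_lit 1546))
 (.leaf (nat_lit 0x70608000502030104) (nat_lit 1546))
) (.node (nat_lit 0x70608000502040103) (.leaf (nat_lit 0x70608000502030401) (nat_lit 1546))
 (.leaf (nat_lit 0x70608000502040103) (nat_lit 1546))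
)) (.node (nat_lit 0x70608000503010402) (.node (nat_lit 0x70608000503010204) (.leaf (nat_lit 0x70608000502040301) (nat_lit 1802))
 (.leaf (nat_lit 0x70608000503010204) (nat_lit 1290))
) (.node (nat_lit 0x70608000503020104) (.leaf (nat_lit 0x70608000503010402) (nat_lit 1290))
 (.node (nat_lit 0x70608000503020401) (.leaf (nat_lit 0x70608000503020104) (nat_lit 1034))
 (.leaf (nat_lit 0x70608000503020401) (nat_lit 1546))
))))))) (.node (nat_lit 0x70608010200040305) (.node (nat_lit 0x70608010003040502) (.node (nat_lit 0x70608010002030405) (.node (nat_lit 0x70608000504020103) (.node (nat_lit 0x70608000504010203) (.node (nat_lit 0x70608000503040201) (.leaf (nat_lit 0x70608000503040102) (nat_lit 1546))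
 (.leaf (nat_lit 0x70608000503040201) (nat_lit 1290))
) (.node (nat_lit 0x70608000504010302) (.leaf (nat_lit 0x70608000504010203) (nat_lit 1034))
 (.leaf (nat_lit 0x70608000504010302) (nat_lit 1034))
)) (.node (nat_lit 0x70608000504030102) (.node (nat_lit 0x70608000504020301) (.leaf (nat_lit 0x70608000504020103) (nat_lit 778))
 (.leaf (nat_lit 0x70608000504020301) (nat_lit 1290))
) (.node (nat_lit 0x70608000504030201) (.leaf (nat_lit 0x70608000504030102) (nat_lit 1290))
 (.leaf (nat_lit 0x70608000504030201) (nat_lit 1034))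
))) (.node (nat_lit 0x70608010002050304) (.node (nat_lit 0x70608010002040305) (.node (nat_lit 0x70608010002030504) (.leaf (nat_lit 0x70608010002030405) (nat_lit 1289))
 (.leaf (nat_lit 0x70608010002030504) (nat_lit 1033))
) (.node (nat_lit 0x70608010002040503) (.leaf (nat_lit 0x70608010002040305) (nat_lit 1033))
 (.leaf (nat_lit 0x70608010002040503) (nat_lit 1033))
)) (.node (nat_lit 0x70608010003020405) (.node (nat_lit 0x70608010002050403) (.leaf (nat_lit 0x70608010002050304) (nat_lit 1289))
 (.leaf (nat_lit 0x70608010002050403) (nat_lit 777))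
) (.node (nat_lit 0x70608010003020504) (.leaf (nat_lit 0x70608010003020405) (nat_lit 1537))
 (.node (nat_lit 0x70608010003040205) (.leaf (nat_lit 0x70608010003020504) (nat_lit 1281))
 (.leaf (nat_lit 0x70608010003040205) (nat_lit 1281))
))))) (.node (nat_lit 0x70608010004050302) (.node (nat_lit 0x70608010004020503) (.node (nat_lit 0x70608010003050402) (.node (nat_lit 0x70608010003050204) (.leaf (nat_lit 0x70608010003040502) (nat_lit 1281))
 (.leaf (nat_lit 0x70608010003050204) (nat_lit 1537))
) (.node (nat_lit 0x70608010004020305) (.leaf (nat_lit 0x70608010003050402) (nat_lit 1025))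
 (.leaf (nat_lit 0x70608010004020305) (nat_lit 1538))
)) (.node (nat_lit 0x70608010004030502) (.node (nat_lit 0x70608010004030205) (.leaf (nat_lit 0x70608010004020503) (nat_lit 1537))
 (.leaf (nat_lit 0x70608010004030205) (nat_lit 1793))
) (.node (nat_lit 0x70608010004050203) (.leaf (nat_lit 0x70608010004030502) (nat_lit 1282))
 (.leaf (nat_lit 0x70608010004050203) (nat_lit 1538))
))) (.node (nat_lit 0x70608010005030402) (.node (nat_lit 0x70608010005020403) (.node (nat_lit 0x70608010005020304) (.leaf (nat_lit 0x70608010004050302) (nat_lit 1538))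
 (.leaf (nat_lit 0x70608010005020304) (nat_lit 1795))
) (.node (nat_lit 0x70608010005030204) (.leaf (nat_lit 0x70608010005020403) (nat_lit 1539))
 (.leaf (nat_lit 0x70608010005030204) (nat_lit 1539))
)) (.node (nat_lit 0x70608010005040302) (.node (nat_lit 0x70608010005040203) (.leaf (nat_lit 0x70608010005030402) (nat_lit 1539))
 (.leaf (nat_lit 0x70608010005040203) (nat_lit 1537))
) (.node (nat_lit 0x70608010200030405) (.leaf (nat_lit 0x70608010005040302) (nat_lit 1283))
 (.node (nat_lit 0x70608010200030504) (.leaf (nat_lit 0x70608010200030405) (nat_lit 1289))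
 (.leaf (nat_lit 0x70608010200030504) (nat_lit 1033))
)))))) (.node (nat_lit 0x70608010205000403) (.node (nat_lit 0x70608010203050004) (.node (nat_lit 0x70608010203000405) (.node (nat_lit 0x70608010200050304) (.node (nat_lit 0x70608010200040503) (.leaf (nat_lit 0x70608010200040305) (nat_lit 1033))
 (.leaf (nat_lit 0x70608010200040503) (nat_lit 1033))
) (.node (nat_lit 0x70608010200050403) (.leaf (nat_lit 0x70608010200050304) (nat_lit 1289))
 (.leaf (nat_lit 0x70608010200050403) (nat_lit 777))
)) (.node (nat_lit 0x70608010203040005) (.node (nat_lit 0x70608010203000504) (.leaf (nat_lit 0x70608010203000405) (nat_lit 1546))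
 (.leaf (nat_lit 0x70608010203000504) (nat_lit 1290))
) (.node (nat_lit 0x70608010203040500) (.leaf (nat_lit 0x70608010203040005) (nat_lit 1290))
 (.leaf (nat_lit 0x70608010203040500) (nat_lit 1290))
))) (.node (nat_lit 0x70608010204030005) (.node (nat_lit 0x70608010204000305) (.node (nat_lit 0x70608010203050400) (.leaf (nat_lit 0x70608010203050004) (nat_lit 1546))
 (.leaf (nat_lit 0x70608010203050400) (nat_lit 1034))
) (.node (nat_lit 0x70608010204000503) (.leaf (nat_lit 0x70608010204000305) (nat_lit 1538))
 (.leaf (nat_lit 0x70608010204000503) (nat_lit 1546))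
)) (.node (nat_lit 0x70608010204050003) (.node (nat_lit 0x70608010204030500) (.leaf (nat_lit 0x70608010204030005) (nat_lit 1802))
 (.leaf (nat_lit 0x70608010204030500) (nat_lit 1282))
) (.node (nat_lit 0x70608010204050300) (.leaf (nat_lit 0x70608010204050003) (nat_lit 1538))
 (.node (nat_lit 0x70608010205000304) (.leaf (nat_lit 0x70608010204050300) (nat_lit 1538))
 (.leaf (nat_lit 0x70608010205000304) (nat_lit 1795))
))))) (.node (nat_lit 0x70608010300040502) (.node (nat_lit 0x70608010205040300) (.node (nat_lit 0x70608010205030400) (.node (nat_lit 0x70608010205030004) (.leaf (nat_lit 0x70608010205000403) (nat_lit 1539))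
 (.leaf (nat_lit 0x70608010205030004) (nat_lit 1539))
) (.node (nat_lit 0x70608010205040003) (.leaf (nat_lit 0x70608010205030400) (nat_lit 1539))
 (.leaf (nat_lit 0x70608010205040003) (nat_lit 1546))
)) (.node (nat_lit 0x70608010300020504) (.node (nat_lit 0x70608010300020405) (.leaf (nat_lit 0x70608010205040300) (nat_lit 1283))
 (.leaf (nat_lit 0x70608010300020405) (nat_lit 1802))
) (.node (nat_lit 0x70608010300040205) (.leaf (nat_lit 0x70608010300020504) (nat_lit 1546))
 (.leaf (nat_lit 0x70608010300040205) (nat_lit 1546))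
))) (.node (nat_lit 0x70608010302000504) (.node (nat_lit 0x70608010300050402) (.node (nat_lit 0x70608010300050204) (.leaf (nat_lit 0x70608010300040502) (nat_lit 1546))
 (.leaf (nat_lit 0x70608010300050204) (nat_lit 1802))
) (.node (nat_lit 0x70608010302000405) (.leaf (nat_lit 0x70608010300050402) (nat_lit 1290))
 (.leaf (nat_lit 0x70608010302000405) (nat_lit 1546))
)) (.node (nat_lit 0x70608010302040500) (.node (nat_lit 0x70608010302040005) (.leaf (nat_lit 0x70608010302000504) (nat_lit 1290))
 (.leaf (nat_lit 0x70608010302040005) (nat_lit 1290))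
) (.node (nat_lit 0x70608010302050004) (.leaf (nat_lit 0x70608010302040500) (nat_lit 1290))
 (.node (nat_lit 0x70608010302050400) (.leaf (nat_lit 0x70608010302050004) (nat_lit 1546))
 (.leaf (nat_lit 0x70608010302050400) (nat_lit 1034))
)))))))))) (.node (nat_lit 0x70608030405000102) (.node (nat_lit 0x70608020400030501) (.node (nat_lit 0x70608020003010504) (.node (nat_lit 0x70608010405020300) (.node (nat_lit 0x70608010400050203) (.node (nat_lit 0x70608010305020004) (.node (nat_lit 0x70608010304050002) (.node (nat_lit 0x70608010304020005) (.node (nat_lit 0x70608010304000502) (.leaf (nat_lit 0x70608010304000205) (nat_lit 1539))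
 (.leaf (nat_lit 0x70608010304000502) (nat_lit 1546))
) (.node (nat_lit 0x70608010304020500) (.leaf (nat_lit 0x70608010304020005) (nat_lit 1802))
 (.leaf (nat_lit 0x70608010304020500) (nat_lit 1795))
)) (.node (nat_lit 0x70608010305000204) (.node (nat_lit 0x70608010304050200) (.leaf (nat_lit 0x70608010304050002) (nat_lit 1795))
 (.leaf (nat_lit 0x70608010304050200) (nat_lit 1802))
) (.node (nat_lit 0x70608010305000402) (.leaf (nat_lit 0x70608010305000204) (nat_lit 1282))
 (.leaf (nat_lit 0x70608010305000402) (nat_lit 1794))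
))) (.node (nat_lit 0x70608010400020305) (.node (nat_lit 0x70608010305040002) (.node (nat_lit 0x70608010305020400) (.leaf (nat_lit 0x70608010305020004) (nat_lit 1538))
 (.leaf (nat_lit 0x70608010305020400) (nat_lit 1538))
) (.node (nat_lit 0x70608010305040200) (.leaf (nat_lit 0x70608010305040002) (nat_lit 1538))
 (.leaf (nat_lit 0x70608010305040200) (nat_lit 1538))
)) (.node (nat_lit 0x70608010400030205) (.node (nat_lit 0x70608010400020503) (.leaf (nat_lit 0x70608010400020305) (nat_lit 1794))
 (.leaf (nat_lit 0x70608010400020503) (nat_lit 1802))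
) (.node (nat_lit 0x70608010400030502) (.leaf (nat_lit 0x70608010400030205) (nat_lit 1546))
 (.leaf (nat_lit 0x70608010400030502) (nat_lit 1538))
)))) (.node (nat_lit 0x70608010403000205) (.node (nat_lit 0x70608010402030005) (.node (nat_lit 0x70608010402000305) (.node (nat_lit 0x70608010400050302) (.leaf (nat_lit 0x70608010400050203) (nat_lit 1794))
 (.leaf (nat_lit 0x70608010400050302) (nat_lit 1802))
) (.node (nat_lit 0x70608010402000503) (.leaf (nat_lit 0x70608010402000305) (nat_lit 1538))
 (.leaf (nat_lit 0x70608010402000503) (nat_lit 1546))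
)) (.node (nat_lit 0x70608010402050003) (.node (nat_lit 0x70608010402030500) (.leaf (nat_lit 0x70608010402030005) (nat_lit 1802))
 (.leaf (nat_lit 0x70608010402030500) (nat_lit 1282))
) (.node (nat_lit 0x70608010402050300) (.leaf (nat_lit 0x70608010402050003) (nat_lit 1538))
 (.leaf (nat_lit 0x70608010402050300) (nat_lit 1538))
))) (.node (nat_lit 0x70608010403050002) (.node (nat_lit 0x70608010403020005) (.node (nat_lit 0x70608010403000502) (.leaf (nat_lit 0x70608010403000205) (nat_lit 1283))
 (.leaf (nat_lit 0x70608010403000502) (nat_lit 1795))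
) (.node (nat_lit 0x70608010403020500) (.leaf (nat_lit 0x70608010403020005) (nat_lit 1539))
 (.leaf (nat_lit 0x70608010403020500) (nat_lit 1539))
)) (.node (nat_lit 0x70608010405000203) (.node (nat_lit 0x70608010403050200) (.leaf (nat_lit 0x70608010403050002) (nat_lit 1539))
 (.leaf (nat_lit 0x70608010403050200) (nat_lit 1539))
) (.node (nat_lit 0x70608010405000302) (.leaf (nat_lit 0x70608010405000203) (nat_lit 1280))
 (.node (nat_lit 0x70608010405020003) (.leaf (nat_lit 0x70608010405000302) (nat_lit 1802))
 (.leaf (nat_lit 0x70608010405020003) (nat_lit 1536))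
)))))) (.node (nat_lit 0x70608010503020004) (.node (nat_lit 0x70608010500040302) (.node (nat_lit 0x70608010500020403) (.node (nat_lit 0x70608010405030200) (.node (nat_lit 0x70608010405030002) (.leaf (nat_lit 0x70608010405020300) (nat_lit 1536))
 (.leaf (nat_lit 0x70608010405030002) (nat_lit 1536))
) (.node (nat_lit 0x70608010500020304) (.leaf (nat_lit 0x70608010405030200) (nat_lit 1546))
 (.leaf (nat_lit 0x70608010500020304) (nat_lit 1536))
)) (.node (nat_lit 0x70608010500030402) (.node (nat_lit 0x70608010500030204) (.leaf (nat_lit 0x70608010500020403) (nat_lit 1795))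
 (.leaf (nat_lit 0x70608010500030204) (nat_lit 1546))
) (.node (nat_lit 0x70608010500040203) (.leaf (nat_lit 0x70608010500030402) (nat_lit 1792))
 (.leaf (nat_lit 0x70608010500040203) (nat_lit 1792))
))) (.node (nat_lit 0x70608010502030400) (.node (nat_lit 0x70608010502000403) (.node (nat_lit 0x70608010502000304) (.leaf (nat_lit 0x70608010500040302) (nat_lit 1539))
 (.leaf (nat_lit 0x70608010502000304) (nat_lit 1795))
) (.node (nat_lit 0x70608010502030004) (.leaf (nat_lit 0x70608010502000403) (nat_lit 1539))
 (.leaf (nat_lit 0x70608010502030004) (nat_lit 1539))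
)) (.node (nat_lit 0x70608010502040300) (.node (nat_lit 0x70608010502040003) (.leaf (nat_lit 0x70608010502030400) (nat_lit 1539))
 (.leaf (nat_lit 0x70608010502040003) (nat_lit 1546))
) (.node (nat_lit 0x70608010503000204) (.leaf (nat_lit 0x70608010502040300) (nat_lit 1283))
 (.node (nat_lit 0x70608010503000402) (.leaf (nat_lit 0x70608010503000204) (nat_lit 1280))
 (.leaf (nat_lit 0x70608010503000402) (nat_lit 1792))
))))) (.node (nat_lit 0x70608010504030002) (.node (nat_lit 0x70608010504000203) (.node (nat_lit 0x70608010503040002) (.node (nat_lit 0x70608010503020400) (.leaf (nat_lit 0x70608010503020004) (nat_lit 1536))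
 (.leaf (nat_lit 0x70608010503020400) (nat_lit 1536))
) (.node (nat_lit 0x70608010503040200) (.leaf (nat_lit 0x70608010503040002) (nat_lit 1536))
 (.leaf (nat_lit 0x70608010503040200) (nat_lit 1792))
)) (.node (nat_lit 0x70608010504020003) (.node (nat_lit 0x70608010504000302) (.leaf (nat_lit 0x70608010504000203) (nat_lit 1024))
 (.leaf (nat_lit 0x70608010504000302) (nat_lit 1546))
) (.node (nat_lit 0x70608010504020300) (.leaf (nat_lit 0x70608010504020003) (nat_lit 1280))
 (.leaf (nat_lit 0x70608010504020300) (nat_lit 1280))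
))) (.node (nat_lit 0x70608020001040305) (.node (nat_lit 0x70608020001030405) (.node (nat_lit 0x70608010504030200) (.leaf (nat_lit 0x70608010504030002) (nat_lit 1280))
 (.leaf (nat_lit 0x70608010504030200) (nat_lit 1290))
) (.node (nat_lit 0x70608020001030504) (.leaf (nat_lit 0x70608020001030405) (nat_lit 1545))
 (.leaf (nat_lit 0x70608020001030504) (nat_lit 1289))
)) (.node (nat_lit 0x70608020001050304) (.node (nat_lit 0x70608020001040503) (.leaf (nat_lit 0x70608020001040305) (nat_lit 1289))
 (.leaf (nat_lit 0x70608020001040503) (nat_lit 1289))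
) (.node (nat_lit 0x70608020001050403) (.leaf (nat_lit 0x70608020001050304) (nat_lit 1545))
 (.node (nat_lit 0x70608020003010405) (.leaf (nat_lit 0x70608020001050403) (nat_lit 1033))
 (.leaf (nat_lit 0x70608020003010405) (nat_lit 1792))
))))))) (.node (nat_lit 0x70608020104050300) (.node (nat_lit 0x70608020100030405) (.node (nat_lit 0x70608020004030501) (.node (nat_lit 0x70608020003050401) (.node (nat_lit 0x70608020003040501) (.node (nat_lit 0x70608020003040105) (.leaf (nat_lit 0x70608020003010504) (nat_lit 1536))
 (.leaf (nat_lit 0x70608020003040105) (nat_lit 1536))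
) (.node (nat_lit 0x70608020003050104) (.leaf (nat_lit 0x70608020003040501) (nat_lit 1536))
 (.leaf (nat_lit 0x70608020003050104) (nat_lit 1792))
)) (.node (nat_lit 0x70608020004010503) (.node (nat_lit 0x70608020004010305) (.leaf (nat_lit 0x70608020003050401) (nat_lit 1280))
 (.leaf (nat_lit 0x70608020004010305) (nat_lit 1794))
) (.node (nat_lit 0x70608020004030105) (.leaf (nat_lit 0x70608020004010503) (nat_lit 1795))
 (.leaf (nat_lit 0x70608020004030105) (nat_lit 1793))
))) (.node (nat_lit 0x70608020005010403) (.node (nat_lit 0x70608020004050301) (.node (nat_lit 0x70608020004050103) (.leaf (nat_lit 0x70608020004030501) (nat_lit 1538))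
 (.leaf (nat_lit 0x70608020004050103) (nat_lit 1794))
) (.node (nat_lit 0x70608020005010304) (.leaf (nat_lit 0x70608020004050301) (nat_lit 1794))
 (.leaf (nat_lit 0x70608020005010304) (nat_lit 1546))
)) (.node (nat_lit 0x70608020005030401) (.node (nat_lit 0x70608020005030104) (.leaf (nat_lit 0x70608020005010403) (nat_lit 1795))
 (.leaf (nat_lit 0x70608020005030104) (nat_lit 1795))
) (.node (nat_lit 0x70608020005040103) (.leaf (nat_lit 0x70608020005030401) (nat_lit 1802))
 (.node (nat_lit 0x70608020005040301) (.leaf (nat_lit 0x70608020005040103) (nat_lit 1802))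
 (.leaf (nat_lit 0x70608020005040301) (nat_lit 1539))
))))) (.node (nat_lit 0x70608020103040005) (.node (nat_lit 0x70608020100050304) (.node (nat_lit 0x70608020100040305) (.node (nat_lit 0x70608020100030504) (.leaf (nat_lit 0x70608020100030405) (nat_lit 1033))
 (.leaf (nat_lit 0x70608020100030504) (nat_lit 777))
) (.node (nat_lit 0x70608020100040503) (.leaf (nat_lit 0x70608020100040305) (nat_lit 777))
 (.leaf (nat_lit 0x70608020100040503) (nat_lit 777))
)) (.node (nat_lit 0x70608020103000405) (.node (nat_lit 0x70608020100050403) (.leaf (nat_lit 0x70608020100050304) (nat_lit 1033))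
 (.leaf (nat_lit 0x70608020100050403) (nat_lit 521))
) (.node (nat_lit 0x70608020103000504) (.leaf (nat_lit 0x70608020103000405) (nat_lit 1290))
 (.leaf (nat_lit 0x70608020103000504) (nat_lit 1034))
))) (.node (nat_lit 0x70608020104000305) (.node (nat_lit 0x70608020103050004) (.node (nat_lit 0x70608020103040500) (.leaf (nat_lit 0x70608020103040005) (nat_lit 1034))
 (.leaf (nat_lit 0x70608020103040500) (nat_lit 1034))
) (.node (nat_lit 0x70608020103050400) (.leaf (nat_lit 0x70608020103050004) (nat_lit 1290))
 (.leaf (nat_lit 0x70608020103050400) (nat_lit 778))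
)) (.node (nat_lit 0x70608020104030005) (.node (nat_lit 0x70608020104000503) (.leaf (nat_lit 0x70608020104000305) (nat_lit 1282))
 (.leaf (nat_lit 0x70608020104000503) (nat_lit 1290))
) (.node (nat_lit 0x70608020104030500) (.leaf (nat_lit 0x70608020104030005) (nat_lit 1546))
 (.node (nat_lit 0x70608020104050003) (.leaf (nat_lit 0x70608020104030500) (nat_lit 1026))
 (.leaf (nat_lit 0x70608020104050003) (nat_lit 1282))
)))))) (.node (nat_lit 0x70608020301050004) (.node (nat_lit 0x70608020300010504) (.node (nat_lit 0x70608020105030400) (.node (nat_lit 0x70608020105000403) (.node (nat_lit 0x70608020105000304) (.leaf (nat_lit 0x70608020104050300) (nat_lit 1282))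
 (.leaf (nat_lit 0x70608020105000304) (nat_lit 1539))
) (.node (nat_lit 0x70608020105030004) (.leaf (nat_lit 0x70608020105000403) (nat_lit 1283))
 (.leaf (nat_lit 0x70608020105030004) (nat_lit 1283))
)) (.node (nat_lit 0x70608020105040300) (.node (nat_lit 0x70608020105040003) (.leaf (nat_lit 0x70608020105030400) (nat_lit 1283))
 (.leaf (nat_lit 0x70608020105040003) (nat_lit 1290))
) (.node (nat_lit 0x70608020300010405) (.leaf (nat_lit 0x70608020105040300) (nat_lit 1027))
 (.leaf (nat_lit 0x70608020300010405) (nat_lit 1792))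
))) (.node (nat_lit 0x70608020300050401) (.node (nat_lit 0x70608020300040501) (.node (nat_lit 0x70608020300040105) (.leaf (nat_lit 0x70608020300010504) (nat_lit 1536))
 (.leaf (nat_lit 0x70608020300040105) (nat_lit 1536))
) (.node (nat_lit 0x70608020300050104) (.leaf (nat_lit 0x70608020300040501) (nat_lit 1536))
 (.leaf (nat_lit 0x70608020300050104) (nat_lit 1792))
)) (.node (nat_lit 0x70608020301000504) (.node (nat_lit 0x70608020301000405) (.leaf (nat_lit 0x70608020300050401) (nat_lit 1280))
 (.leaf (nat_lit 0x70608020301000405) (nat_lit 1802))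
) (.node (nat_lit 0x70608020301040005) (.leaf (nat_lit 0x70608020301000504) (nat_lit 1546))
 (.node (nat_lit 0x70608020301040500) (.leaf (nat_lit 0x70608020301040005) (nat_lit 1546))
 (.leaf (nat_lit 0x70608020301040500) (nat_lit 1546))
))))) (.node (nat_lit 0x70608020305000104) (.node (nat_lit 0x70608020304010005) (.node (nat_lit 0x70608020304000105) (.node (nat_lit 0x70608020301050400) (.leaf (nat_lit 0x70608020301050004) (nat_lit 1802))
 (.leaf (nat_lit 0x70608020301050400) (nat_lit 1290))
) (.node (nat_lit 0x70608020304000501) (.leaf (nat_lit 0x70608020304000105) (nat_lit 1795))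
 (.leaf (nat_lit 0x70608020304000501) (nat_lit 1795))
)) (.node (nat_lit 0x70608020304050001) (.node (nat_lit 0x70608020304010500) (.leaf (nat_lit 0x70608020304010005) (nat_lit 1539))
 (.leaf (nat_lit 0x70608020304010500) (nat_lit 1795))
) (.node (nat_lit 0x70608020304050100) (.leaf (nat_lit 0x70608020304050001) (nat_lit 2051))
 (.leaf (nat_lit 0x70608020304050100) (nat_lit 1795))
))) (.node (nat_lit 0x70608020305040001) (.node (nat_lit 0x70608020305010004) (.node (nat_lit 0x70608020305000401) (.leaf (nat_lit 0x70608020305000104) (nat_lit 1538))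
 (.leaf (nat_lit 0x70608020305000401) (nat_lit 1538))
) (.node (nat_lit 0x70608020305010400) (.leaf (nat_lit 0x70608020305010004) (nat_lit 1282))
 (.leaf (nat_lit 0x70608020305010400) (nat_lit 1538))
)) (.node (nat_lit 0x70608020400010305) (.node (nat_lit 0x70608020305040100) (.leaf (nat_lit 0x70608020305040001) (nat_lit 1794))
 (.leaf (nat_lit 0x70608020305040100) (nat_lit 1538))
) (.node (nat_lit 0x70608020400010503) (.leaf (nat_lit 0x70608020400010305) (nat_lit 1546))
 (.node (nat_lit 0x70608020400030105) (.leaf (nat_lit 0x70608020400010503) (nat_lit 1802))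
 (.leaf (nat_lit 0x70608020400030105) (nat_lit 1802))
)))))))) (.node (nat_lit 0x70608030005040102) (.node (nat_lit 0x70608020503000104) (.node (nat_lit 0x70608020405000301) (.node (nat_lit 0x70608020401050300) (.node (nat_lit 0x70608020401000503) (.node (nat_lit 0x70608020400050301) (.node (nat_lit 0x70608020400050103) (.leaf (nat_lit 0x70608020400030501) (nat_lit 1538))
 (.leaf (nat_lit 0x70608020400050103) (nat_lit 1802))
) (.node (nat_lit 0x70608020401000305) (.leaf (nat_lit 0x70608020400050301) (nat_lit 1794))
 (.leaf (nat_lit 0x70608020401000305) (nat_lit 1794))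
)) (.node (nat_lit 0x70608020401030500) (.node (nat_lit 0x70608020401030005) (.leaf (nat_lit 0x70608020401000503) (nat_lit 1802))
 (.leaf (nat_lit 0x70608020401030005) (nat_lit 1792))
) (.node (nat_lit 0x70608020401050003) (.leaf (nat_lit 0x70608020401030500) (nat_lit 1538))
 (.leaf (nat_lit 0x70608020401050003) (nat_lit 1794))
))) (.node (nat_lit 0x70608020403010500) (.node (nat_lit 0x70608020403000501) (.node (nat_lit 0x70608020403000105) (.leaf (nat_lit 0x70608020401050300) (nat_lit 1794))
 (.leaf (nat_lit 0x70608020403000105) (nat_lit 1539))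
) (.node (nat_lit 0x70608020403010005) (.leaf (nat_lit 0x70608020403000501) (nat_lit 1539))
 (.leaf (nat_lit 0x70608020403010005) (nat_lit 1283))
)) (.node (nat_lit 0x70608020403050100) (.node (nat_lit 0x70608020403050001) (.leaf (nat_lit 0x70608020403010500) (nat_lit 1539))
 (.leaf (nat_lit 0x70608020403050001) (nat_lit 1795))
) (.node (nat_lit 0x70608020405000103) (.leaf (nat_lit 0x70608020403050100) (nat_lit 1539))
 (.leaf (nat_lit 0x70608020405000103) (nat_lit 1537))
)))) (.node (nat_lit 0x70608020500030401) (.node (nat_lit 0x70608020405030100) (.node (nat_lit 0x70608020405010300) (.node (nat_lit 0x70608020405010003) (.leaf (nat_lit 0x70608020405000301) (nat_lit 1537))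
 (.leaf (nat_lit 0x70608020405010003) (nat_lit 1281))
) (.node (nat_lit 0x70608020405030001) (.leaf (nat_lit 0x70608020405010300) (nat_lit 1546))
 (.leaf (nat_lit 0x70608020405030001) (nat_lit 1793))
)) (.node (nat_lit 0x70608020500010403) (.node (nat_lit 0x70608020500010304) (.leaf (nat_lit 0x70608020405030100) (nat_lit 1537))
 (.leaf (nat_lit 0x70608020500010304) (nat_lit 1546))
) (.node (nat_lit 0x70608020500030104) (.leaf (nat_lit 0x70608020500010403) (nat_lit 1795))
 (.leaf (nat_lit 0x70608020500030104) (nat_lit 1537))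
))) (.node (nat_lit 0x70608020501000403) (.node (nat_lit 0x70608020500040301) (.node (nat_lit 0x70608020500040103) (.leaf (nat_lit 0x70608020500030401) (nat_lit 1802))
 (.leaf (nat_lit 0x70608020500040103) (nat_lit 1802))
) (.node (nat_lit 0x70608020501000304) (.leaf (nat_lit 0x70608020500040301) (nat_lit 1539))
 (.leaf (nat_lit 0x70608020501000304) (nat_lit 1537))
)) (.node (nat_lit 0x70608020501030400) (.node (nat_lit 0x70608020501030004) (.leaf (nat_lit 0x70608020501000403) (nat_lit 1795))
 (.leaf (nat_lit 0x70608020501030004) (nat_lit 1795))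
) (.node (nat_lit 0x70608020501040003) (.leaf (nat_lit 0x70608020501030400) (nat_lit 1793))
 (.node (nat_lit 0x70608020501040300) (.leaf (nat_lit 0x70608020501040003) (nat_lit 1793))
 (.leaf (nat_lit 0x70608020501040300) (nat_lit 1539))
)))))) (.node (nat_lit 0x70608030001050402) (.node (nat_lit 0x70608020504010003) (.node (nat_lit 0x70608020503040001) (.node (nat_lit 0x70608020503010004) (.node (nat_lit 0x70608020503000401) (.leaf (nat_lit 0x70608020503000104) (nat_lit 1537))
 (.leaf (nat_lit 0x70608020503000401) (nat_lit 1537))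
) (.node (nat_lit 0x70608020503010400) (.leaf (nat_lit 0x70608020503010004) (nat_lit 1281))
 (.leaf (nat_lit 0x70608020503010400) (nat_lit 1793))
)) (.node (nat_lit 0x70608020504000103) (.node (nat_lit 0x70608020503040100) (.leaf (nat_lit 0x70608020503040001) (nat_lit 1793))
 (.leaf (nat_lit 0x70608020503040100) (nat_lit 1537))
) (.node (nat_lit 0x70608020504000301) (.leaf (nat_lit 0x70608020504000103) (nat_lit 1281))
 (.leaf (nat_lit 0x70608020504000301) (nat_lit 1281))
))) (.node (nat_lit 0x70608030001020405) (.node (nat_lit 0x70608020504030001) (.node (nat_lit 0x70608020504010300) (.leaf (nat_lit 0x70608020504010003) (nat_lit 1025))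
 (.leaf (nat_lit 0x70608020504010300) (nat_lit 1290))
) (.node (nat_lit 0x70608020504030100) (.leaf (nat_lit 0x70608020504030001) (nat_lit 1537))
 (.leaf (nat_lit 0x70608020504030100) (nat_lit 1281))
)) (.node (nat_lit 0x70608030001040205) (.node (nat_lit 0x70608030001020504) (.leaf (nat_lit 0x70608030001020405) (nat_lit 1795))
 (.leaf (nat_lit 0x70608030001020504) (nat_lit 1793))
) (.node (nat_lit 0x70608030001040502) (.leaf (nat_lit 0x70608030001040205) (nat_lit 1793))
 (.node (nat_lit 0x70608030001050204) (.leaf (nat_lit 0x70608030001040502) (nat_lit 1795))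
 (.leaf (nat_lit 0x70608030001050204) (nat_lit 1539))
))))) (.node (nat_lit 0x70608030004010502) (.node (nat_lit 0x70608030002040501) (.node (nat_lit 0x70608030002010504) (.node (nat_lit 0x70608030002010405) (.leaf (nat_lit 0x70608030001050402) (nat_lit 1537))
 (.leaf (nat_lit 0x70608030002010405) (nat_lit 1792))
) (.node (nat_lit 0x70608030002040105) (.leaf (nat_lit 0x70608030002010504) (nat_lit 1536))
 (.leaf (nat_lit 0x70608030002040105) (nat_lit 1536))
)) (.node (nat_lit 0x70608030002050401) (.node (nat_lit 0x70608030002050104) (.leaf (nat_lit 0x70608030002040501) (nat_lit 1536))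
 (.leaf (nat_lit 0x70608030002050104) (nat_lit 1792))
) (.node (nat_lit 0x70608030004010205) (.leaf (nat_lit 0x70608030002050401) (nat_lit 1280))
 (.leaf (nat_lit 0x70608030004010205) (nat_lit 1283))
))) (.node (nat_lit 0x70608030004050201) (.node (nat_lit 0x70608030004020501) (.node (nat_lit 0x70608030004020105) (.leaf (nat_lit 0x70608030004010502) (nat_lit 1283))
 (.leaf (nat_lit 0x70608030004020105) (nat_lit 1027))
) (.node (nat_lit 0x70608030004050102) (.leaf (nat_lit 0x70608030004020501) (nat_lit 1539))
 (.leaf (nat_lit 0x70608030004050102) (nat_lit 1539))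
)) (.node (nat_lit 0x70608030005010402) (.node (nat_lit 0x70608030005010204) (.leaf (nat_lit 0x70608030004050201) (nat_lit 1283))
 (.leaf (nat_lit 0x70608030005010204) (nat_lit 1546))
) (.node (nat_lit 0x70608030005020104) (.leaf (nat_lit 0x70608030005010402) (nat_lit 1546))
 (.node (nat_lit 0x70608030005020401) (.leaf (nat_lit 0x70608030005020104) (nat_lit 1290))
 (.leaf (nat_lit 0x70608030005020401) (nat_lit 1802))
))))))) (.node (nat_lit 0x70608030201040005) (.node (nat_lit 0x70608030104020500) (.node (nat_lit 0x70608030102000405) (.node (nat_lit 0x70608030100040205) (.node (nat_lit 0x70608030100020405) (.node (nat_lit 0x70608030005040201) (.leaf (nat_lit 0x70608030005040102) (nat_lit 1802))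
 (.leaf (nat_lit 0x70608030005040201) (nat_lit 1546))
) (.node (nat_lit 0x70608030100020504) (.leaf (nat_lit 0x70608030100020405) (nat_lit 1793))
 (.leaf (nat_lit 0x70608030100020504) (nat_lit 1537))
)) (.node (nat_lit 0x70608030100050204) (.node (nat_lit 0x70608030100040502) (.leaf (nat_lit 0x70608030100040205) (nat_lit 1537))
 (.leaf (nat_lit 0x70608030100040502) (nat_lit 1537))
) (.node (nat_lit 0x70608030100050402) (.leaf (nat_lit 0x70608030100050204) (nat_lit 1793))
 (.leaf (nat_lit 0x70608030100050402) (nat_lit 1281))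
))) (.node (nat_lit 0x70608030102050004) (.node (nat_lit 0x70608030102040005) (.node (nat_lit 0x70608030102000504) (.leaf (nat_lit 0x70608030102000405) (nat_lit 1802))
 (.leaf (nat_lit 0x70608030102000504) (nat_lit 1546))
) (.node (nat_lit 0x70608030102040500) (.leaf (nat_lit 0x70608030102040005) (nat_lit 1546))
 (.leaf (nat_lit 0x70608030102040500) (nat_lit 1546))
)) (.node (nat_lit 0x70608030104000205) (.node (nat_lit 0x70608030102050400) (.leaf (nat_lit 0x70608030102050004) (nat_lit 1802))
 (.leaf (nat_lit 0x70608030102050400) (nat_lit 1290))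
) (.node (nat_lit 0x70608030104000502) (.leaf (nat_lit 0x70608030104000205) (nat_lit 1283))
 (.node (nat_lit 0x70608030104020005) (.leaf (nat_lit 0x70608030104000502) (nat_lit 1795))
 (.leaf (nat_lit 0x70608030104020005) (nat_lit 1539))
))))) (.node (nat_lit 0x70608030105040200) (.node (nat_lit 0x70608030105000402) (.node (nat_lit 0x70608030104050200) (.node (nat_lit 0x70608030104050002) (.leaf (nat_lit 0x70608030104020500) (nat_lit 1539))
 (.leaf (nat_lit 0x70608030104050002) (nat_lit 1539))
) (.node (nat_lit 0x70608030105000204) (.leaf (nat_lit 0x70608030104050200) (nat_lit 1539))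
 (.leaf (nat_lit 0x70608030105000204) (nat_lit 1536))
)) (.node (nat_lit 0x70608030105020400) (.node (nat_lit 0x70608030105020004) (.leaf (nat_lit 0x70608030105000402) (nat_lit 2050))
 (.leaf (nat_lit 0x70608030105020004) (nat_lit 1792))
) (.node (nat_lit 0x70608030105040002) (.leaf (nat_lit 0x70608030105020400) (nat_lit 1792))
 (.leaf (nat_lit 0x70608030105040002) (nat_lit 1792))
))) (.node (nat_lit 0x70608030200040501) (.node (nat_lit 0x70608030200010504) (.node (nat_lit 0x70608030200010405) (.leaf (nat_lit 0x70608030105040200) (nat_lit 1794))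
 (.leaf (nat_lit 0x70608030200010405) (nat_lit 1802))
) (.node (nat_lit 0x70608030200040105) (.leaf (nat_lit 0x70608030200010504) (nat_lit 1546))
 (.leaf (nat_lit 0x70608030200040105) (nat_lit 1546))
)) (.node (nat_lit 0x70608030200050401) (.node (nat_lit 0x70608030200050104) (.leaf (nat_lit 0x70608030200040501) (nat_lit 1546))
 (.leaf (nat_lit 0x70608030200050104) (nat_lit 1802))
) (.node (nat_lit 0x70608030201000405) (.leaf (nat_lit 0x70608030200050401) (nat_lit 1290))
 (.node (nat_lit 0x70608030201000504) (.leaf (nat_lit 0x70608030201000405) (nat_lit 1546))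
 (.leaf (nat_lit 0x70608030201000504) (nat_lit 1290))
)))))) (.node (nat_lit 0x70608030400010502) (.node (nat_lit 0x70608030204050001) (.node (nat_lit 0x70608030204000105) (.node (nat_lit 0x70608030201050004) (.node (nat_lit 0x70608030201040500) (.leaf (nat_lit 0x70608030201040005) (nat_lit 1290))
 (.leaf (nat_lit 0x70608030201040500) (nat_lit 1290))
) (.node (nat_lit 0x70608030201050400) (.leaf (nat_lit 0x70608030201050004) (nat_lit 1546))
 (.leaf (nat_lit 0x70608030201050400) (nat_lit 1034))
)) (.node (nat_lit 0x70608030204010005) (.node (nat_lit 0x70608030204000501) (.leaf (nat_lit 0x70608030204000105) (nat_lit 1539))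
 (.leaf (nat_lit 0x70608030204000501) (nat_lit 1539))
) (.node (nat_lit 0x70608030204010500) (.leaf (nat_lit 0x70608030204010005) (nat_lit 1283))
 (.leaf (nat_lit 0x70608030204010500) (nat_lit 1539))
))) (.node (nat_lit 0x70608030205010004) (.node (nat_lit 0x70608030205000104) (.node (nat_lit 0x70608030204050100) (.leaf (nat_lit 0x70608030204050001) (nat_lit 1795))
 (.leaf (nat_lit 0x70608030204050100) (nat_lit 1539))
) (.node (nat_lit 0x70608030205000401) (.leaf (nat_lit 0x70608030205000104) (nat_lit 1802))
 (.leaf (nat_lit 0x70608030205000401) (nat_lit 1793))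
)) (.node (nat_lit 0x70608030205040001) (.node (nat_lit 0x70608030205010400) (.leaf (nat_lit 0x70608030205010004) (nat_lit 1537))
 (.leaf (nat_lit 0x70608030205010400) (nat_lit 1802))
) (.node (nat_lit 0x70608030205040100) (.leaf (nat_lit 0x70608030205040001) (nat_lit 1546))
 (.node (nat_lit 0x70608030400010205) (.leaf (nat_lit 0x70608030205040100) (nat_lit 1793))
 (.leaf (nat_lit 0x70608030400010205) (nat_lit 1283))
))))) (.node (nat_lit 0x70608030401020500) (.node (nat_lit 0x70608030400050201) (.node (nat_lit 0x70608030400020501) (.node (nat_lit 0x70608030400020105) (.leaf (nat_lit 0x70608030400010502) (nat_lit 1283))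
 (.leaf (nat_lit 0x70608030400020105) (nat_lit 1027))
) (.node (nat_lit 0x70608030400050102) (.leaf (nat_lit 0x70608030400020501) (nat_lit 1539))
 (.leaf (nat_lit 0x70608030400050102) (nat_lit 1539))
)) (.node (nat_lit 0x70608030401000502) (.node (nat_lit 0x70608030401000205) (.leaf (nat_lit 0x70608030400050201) (nat_lit 1283))
 (.leaf (nat_lit 0x70608030401000205) (nat_lit 1283))
) (.node (nat_lit 0x70608030401020005) (.leaf (nat_lit 0x70608030401000502) (nat_lit 1795))
 (.leaf (nat_lit 0x70608030401020005) (nat_lit 1539))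
))) (.node (nat_lit 0x70608030402000501) (.node (nat_lit 0x70608030401050200) (.node (nat_lit 0x70608030401050002) (.leaf (nat_lit 0x70608030401020500) (nat_lit 1539))
 (.leaf (nat_lit 0x70608030401050002) (nat_lit 1539))
) (.node (nat_lit 0x70608030402000105) (.leaf (nat_lit 0x70608030401050200) (nat_lit 1539))
 (.leaf (nat_lit 0x70608030402000105) (nat_lit 1539))
)) (.node (nat_lit 0x70608030402010500) (.node (nat_lit 0x70608030402010005) (.leaf (nat_lit 0x70608030402000501) (nat_lit 1539))
 (.leaf (nat_lit 0x70608030402010005) (nat_lit 1283))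
) (.node (nat_lit 0x70608030402050001) (.leaf (nat_lit 0x70608030402010500) (nat_lit 1539))
 (.node (nat_lit 0x70608030402050100) (.leaf (nat_lit 0x70608030402050001) (nat_lit 1795))
 (.leaf (nat_lit 0x70608030402050100) (nat_lit 1539))
))))))))) (.node (nat_lit 0x70608040501020300) (.node (nat_lit 0x70608040103000502) (.node (nat_lit 0x70608040001030502) (.node (nat_lit 0x70608030501040002) (.node (nat_lit 0x70608030500020104) (.node (nat_lit 0x70608030405020001) (.node (nat_lit 0x70608030405010002) (.node (nat_lit 0x70608030405000201) (.leaf (nat_lit 0x70608030405000102) (nat_lit 1287))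
 (.leaf (nat_lit 0x70608030405000201) (nat_lit 1031))
) (.node (nat_lit 0x70608030405010200) (.leaf (nat_lit 0x70608030405010002) (nat_lit 1031))
 (.leaf (nat_lit 0x70608030405010200) (nat_lit 1031))
)) (.node (nat_lit 0x70608030500010204) (.node (nat_lit 0x70608030405020100) (.leaf (nat_lit 0x70608030405020001) (nat_lit 1287))
 (.leaf (nat_lit 0x70608030405020100) (nat_lit 775))
) (.node (nat_lit 0x70608030500010402) (.leaf (nat_lit 0x70608030500010204) (nat_lit 1026))
 (.leaf (nat_lit 0x70608030500010402) (nat_lit 1026))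
))) (.node (nat_lit 0x70608030501000204) (.node (nat_lit 0x70608030500040102) (.node (nat_lit 0x70608030500020401) (.leaf (nat_lit 0x70608030500020104) (nat_lit 770))
 (.leaf (nat_lit 0x70608030500020401) (nat_lit 1282))
) (.node (nat_lit 0x70608030500040201) (.leaf (nat_lit 0x70608030500040102) (nat_lit 1282))
 (.leaf (nat_lit 0x70608030500040201) (nat_lit 1026))
)) (.node (nat_lit 0x70608030501020004) (.node (nat_lit 0x70608030501000402) (.leaf (nat_lit 0x70608030501000204) (nat_lit 1026))
 (.leaf (nat_lit 0x70608030501000402) (nat_lit 1538))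
) (.node (nat_lit 0x70608030501020400) (.leaf (nat_lit 0x70608030501020004) (nat_lit 1282))
 (.leaf (nat_lit 0x70608030501020400) (nat_lit 1282))
)))) (.node (nat_lit 0x70608030504000102) (.node (nat_lit 0x70608030502010004) (.node (nat_lit 0x70608030502000104) (.node (nat_lit 0x70608030501040200) (.leaf (nat_lit 0x70608030501040002) (nat_lit 1282))
 (.leaf (nat_lit 0x70608030501040200) (nat_lit 1282))
) (.node (nat_lit 0x70608030502000401) (.leaf (nat_lit 0x70608030502000104) (nat_lit 1282))
 (.leaf (nat_lit 0x70608030502000401) (nat_lit 1282))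
)) (.node (nat_lit 0x70608030502040001) (.node (nat_lit 0x70608030502010400) (.leaf (nat_lit 0x70608030502010004) (nat_lit 1026))
 (.leaf (nat_lit 0x70608030502010400) (nat_lit 1282))
) (.node (nat_lit 0x70608030502040100) (.leaf (nat_lit 0x70608030502040001) (nat_lit 1538))
 (.leaf (nat_lit 0x70608030502040100) (nat_lit 1282))
))) (.node (nat_lit 0x70608030504020001) (.node (nat_lit 0x70608030504010002) (.node (nat_lit 0x70608030504000201) (.leaf (nat_lit 0x70608030504000102) (nat_lit 1030))
 (.leaf (nat_lit 0x70608030504000201) (nat_lit 773))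
) (.node (nat_lit 0x70608030504010200) (.leaf (nat_lit 0x70608030504010002) (nat_lit 773))
 (.leaf (nat_lit 0x70608030504010200) (nat_lit 774))
)) (.node (nat_lit 0x70608040001020305) (.node (nat_lit 0x70608030504020100) (.leaf (nat_lit 0x70608030504020001) (nat_lit 1030))
 (.leaf (nat_lit 0x70608030504020100) (nat_lit 517))
) (.node (nat_lit 0x70608040001020503) (.leaf (nat_lit 0x70608040001020305) (nat_lit 1546))
 (.node (nat_lit 0x70608040001030205) (.leaf (nat_lit 0x70608040001020503) (nat_lit 1546))
 (.leaf (nat_lit 0x70608040001030205) (nat_lit 1290))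
)))))) (.node (nat_lit 0x70608040005020103) (.node (nat_lit 0x70608040002050301) (.node (nat_lit 0x70608040002010503) (.node (nat_lit 0x70608040001050302) (.node (nat_lit 0x70608040001050203) (.leaf (nat_lit 0x70608040001030502) (nat_lit 1802))
 (.leaf (nat_lit 0x70608040001050203) (nat_lit 1546))
) (.node (nat_lit 0x70608040002010305) (.leaf (nat_lit 0x70608040001050302) (nat_lit 1546))
 (.leaf (nat_lit 0x70608040002010305) (nat_lit 1290))
)) (.node (nat_lit 0x70608040002030501) (.node (nat_lit 0x70608040002030105) (.leaf (nat_lit 0x70608040002010503) (nat_lit 1546))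
 (.leaf (nat_lit 0x70608040002030105) (nat_lit 1546))
) (.node (nat_lit 0x70608040002050103) (.leaf (nat_lit 0x70608040002030501) (nat_lit 1546))
 (.leaf (nat_lit 0x70608040002050103) (nat_lit 1546))
))) (.node (nat_lit 0x70608040003020501) (.node (nat_lit 0x70608040003010502) (.node (nat_lit 0x70608040003010205) (.leaf (nat_lit 0x70608040002050301) (nat_lit 1802))
 (.leaf (nat_lit 0x70608040003010205) (nat_lit 1290))
) (.node (nat_lit 0x70608040003020105) (.leaf (nat_lit 0x70608040003010502) (nat_lit 1290))
 (.leaf (nat_lit 0x70608040003020105) (nat_lit 1034))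
)) (.node (nat_lit 0x70608040003050201) (.node (nat_lit 0x70608040003050102) (.leaf (nat_lit 0x70608040003020501) (nat_lit 1546))
 (.leaf (nat_lit 0x70608040003050102) (nat_lit 1546))
) (.node (nat_lit 0x70608040005010203) (.leaf (nat_lit 0x70608040003050201) (nat_lit 1290))
 (.node (nat_lit 0x70608040005010302) (.leaf (nat_lit 0x70608040005010203) (nat_lit 1034))
 (.leaf (nat_lit 0x70608040005010302) (nat_lit 1034))
))))) (.node (nat_lit 0x70608040100050203) (.node (nat_lit 0x70608040100020305) (.node (nat_lit 0x70608040005030102) (.node (nat_lit 0x70608040005020301) (.leaf (nat_lit 0x70608040005020103) (nat_lit 778))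
 (.leaf (nat_lit 0x70608040005020301) (nat_lit 1290))
) (.node (nat_lit 0x70608040005030201) (.leaf (nat_lit 0x70608040005030102) (nat_lit 1290))
 (.leaf (nat_lit 0x70608040005030201) (nat_lit 1034))
)) (.node (nat_lit 0x70608040100030205) (.node (nat_lit 0x70608040100020503) (.leaf (nat_lit 0x70608040100020305) (nat_lit 1536))
 (.leaf (nat_lit 0x70608040100020503) (nat_lit 1802))
) (.node (nat_lit 0x70608040100030502) (.leaf (nat_lit 0x70608040100030205) (nat_lit 1546))
 (.leaf (nat_lit 0x70608040100030502) (nat_lit 1538))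
))) (.node (nat_lit 0x70608040102030005) (.node (nat_lit 0x70608040102000305) (.node (nat_lit 0x70608040100050302) (.leaf (nat_lit 0x70608040100050203) (nat_lit 1792))
 (.leaf (nat_lit 0x70608040100050302) (nat_lit 1802))
) (.node (nat_lit 0x70608040102000503) (.leaf (nat_lit 0x70608040102000305) (nat_lit 1794))
 (.leaf (nat_lit 0x70608040102000503) (nat_lit 1792))
)) (.node (nat_lit 0x70608040102050003) (.node (nat_lit 0x70608040102030500) (.leaf (nat_lit 0x70608040102030005) (nat_lit 1536))
 (.leaf (nat_lit 0x70608040102030500) (nat_lit 1538))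
) (.node (nat_lit 0x70608040102050300) (.leaf (nat_lit 0x70608040102050003) (nat_lit 1794))
 (.node (nat_lit 0x70608040103000205) (.leaf (nat_lit 0x70608040102050300) (nat_lit 1792))
 (.leaf (nat_lit 0x70608040103000205) (nat_lit 1280))
))))))) (.node (nat_lit 0x70608040205030100) (.node (nat_lit 0x70608040201000305) (.node (nat_lit 0x70608040105020300) (.node (nat_lit 0x70608040103050200) (.node (nat_lit 0x70608040103020500) (.node (nat_lit 0x70608040103020005) (.leaf (nat_lit 0x70608040103000502) (nat_lit 1792))
 (.leaf (nat_lit 0x70608040103020005) (nat_lit 1536))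
) (.node (nat_lit 0x70608040103050002) (.leaf (nat_lit 0x70608040103020500) (nat_lit 1536))
 (.leaf (nat_lit 0x70608040103050002) (nat_lit 1536))
)) (.node (nat_lit 0x70608040105000302) (.node (nat_lit 0x70608040105000203) (.leaf (nat_lit 0x70608040103050200) (nat_lit 1792))
 (.leaf (nat_lit 0x70608040105000203) (nat_lit 1024))
) (.node (nat_lit 0x70608040105020003) (.leaf (nat_lit 0x70608040105000302) (nat_lit 1546))
 (.leaf (nat_lit 0x70608040105020003) (nat_lit 1280))
))) (.node (nat_lit 0x70608040200010503) (.node (nat_lit 0x70608040105030200) (.node (nat_lit 0x70608040105030002) (.leaf (nat_lit 0x70608040105020300) (nat_lit 1280))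
 (.leaf (nat_lit 0x70608040105030002) (nat_lit 1280))
) (.node (nat_lit 0x70608040200010305) (.leaf (nat_lit 0x70608040105030200) (nat_lit 1290))
 (.leaf (nat_lit 0x70608040200010305) (nat_lit 1546))
)) (.node (nat_lit 0x70608040200030501) (.node (nat_lit 0x70608040200030105) (.leaf (nat_lit 0x70608040200010503) (nat_lit 1793))
 (.leaf (nat_lit 0x70608040200030105) (nat_lit 1537))
) (.node (nat_lit 0x70608040200050103) (.leaf (nat_lit 0x70608040200030501) (nat_lit 1538))
 (.node (nat_lit 0x70608040200050301) (.leaf (nat_lit 0x70608040200050103) (nat_lit 1802))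
 (.leaf (nat_lit 0x70608040200050301) (nat_lit 1793))
))))) (.node (nat_lit 0x70608040203010005) (.node (nat_lit 0x70608040201050003) (.node (nat_lit 0x70608040201030005) (.node (nat_lit 0x70608040201000503) (.leaf (nat_lit 0x70608040201000305) (nat_lit 1538))
 (.leaf (nat_lit 0x70608040201000503) (nat_lit 1546))
) (.node (nat_lit 0x70608040201030500) (.leaf (nat_lit 0x70608040201030005) (nat_lit 1802))
 (.leaf (nat_lit 0x70608040201030500) (nat_lit 1282))
)) (.node (nat_lit 0x70608040203000105) (.node (nat_lit 0x70608040201050300) (.leaf (nat_lit 0x70608040201050003) (nat_lit 1538))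
 (.leaf (nat_lit 0x70608040201050300) (nat_lit 1538))
) (.node (nat_lit 0x70608040203000501) (.leaf (nat_lit 0x70608040203000105) (nat_lit 1537))
 (.leaf (nat_lit 0x70608040203000501) (nat_lit 1537))
))) (.node (nat_lit 0x70608040205000103) (.node (nat_lit 0x70608040203050001) (.node (nat_lit 0x70608040203010500) (.leaf (nat_lit 0x70608040203010005) (nat_lit 1281))
 (.leaf (nat_lit 0x70608040203010500) (nat_lit 1793))
) (.node (nat_lit 0x70608040203050100) (.leaf (nat_lit 0x70608040203050001) (nat_lit 1793))
 (.leaf (nat_lit 0x70608040203050100) (nat_lit 1537))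
)) (.node (nat_lit 0x70608040205010003) (.node (nat_lit 0x70608040205000301) (.leaf (nat_lit 0x70608040205000103) (nat_lit 1281))
 (.leaf (nat_lit 0x70608040205000301) (nat_lit 1281))
) (.node (nat_lit 0x70608040205010300) (.leaf (nat_lit 0x70608040205010003) (nat_lit 1025))
 (.node (nat_lit 0x70608040205030001) (.leaf (nat_lit 0x70608040205010300) (nat_lit 1290))
 (.leaf (nat_lit 0x70608040205030001) (nat_lit 1537))
)))))) (.node (nat_lit 0x70608040302050001) (.node (nat_lit 0x70608040301000502) (.node (nat_lit 0x70608040300020501) (.node (nat_lit 0x70608040300010502) (.node (nat_lit 0x70608040300010205) (.leaf (nat_lit 0x70608040205030100) (nat_lit 1281))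
 (.leaf (nat_lit 0x70608040300010205) (nat_lit 1027))
) (.node (nat_lit 0x70608040300020105) (.leaf (nat_lit 0x70608040300010502) (nat_lit 1027))
 (.leaf (nat_lit 0x70608040300020105) (nat_lit 771))
)) (.node (nat_lit 0x70608040300050201) (.node (nat_lit 0x70608040300050102) (.leaf (nat_lit 0x70608040300020501) (nat_lit 1283))
 (.leaf (nat_lit 0x70608040300050102) (nat_lit 1283))
) (.node (nat_lit 0x70608040301000205) (.leaf (nat_lit 0x70608040300050201) (nat_lit 1027))
 (.leaf (nat_lit 0x70608040301000205) (nat_lit 1027))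
))) (.node (nat_lit 0x70608040301050200) (.node (nat_lit 0x70608040301020500) (.node (nat_lit 0x70608040301020005) (.leaf (nat_lit 0x70608040301000502) (nat_lit 1539))
 (.leaf (nat_lit 0x70608040301020005) (nat_lit 1283))
) (.node (nat_lit 0x70608040301050002) (.leaf (nat_lit 0x70608040301020500) (nat_lit 1283))
 (.leaf (nat_lit 0x70608040301050002) (nat_lit 1283))
)) (.node (nat_lit 0x70608040302000501) (.node (nat_lit 0x70608040302000105) (.leaf (nat_lit 0x70608040301050200) (nat_lit 1283))
 (.leaf (nat_lit 0x70608040302000105) (nat_lit 1283))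
) (.node (nat_lit 0x70608040302010005) (.leaf (nat_lit 0x70608040302000501) (nat_lit 1283))
 (.node (nat_lit 0x70608040302010500) (.leaf (nat_lit 0x70608040302010005) (nat_lit 1027))
 (.leaf (nat_lit 0x70608040302010500) (nat_lit 1283))
))))) (.node (nat_lit 0x70608040500010203) (.node (nat_lit 0x70608040305010002) (.node (nat_lit 0x70608040305000102) (.node (nat_lit 0x70608040302050100) (.leaf (nat_lit 0x70608040302050001) (nat_lit 1539))
 (.leaf (nat_lit 0x70608040302050100) (nat_lit 1283))
) (.node (nat_lit 0x70608040305000201) (.leaf (nat_lit 0x70608040305000102) (nat_lit 1030))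
 (.leaf (nat_lit 0x70608040305000201) (nat_lit 773))
)) (.node (nat_lit 0x70608040305020001) (.node (nat_lit 0x70608040305010200) (.leaf (nat_lit 0x70608040305010002) (nat_lit 773))
 (.leaf (nat_lit 0x70608040305010200) (nat_lit 774))
) (.node (nat_lit 0x70608040305020100) (.leaf (nat_lit 0x70608040305020001) (nat_lit 1030))
 (.leaf (nat_lit 0x70608040305020100) (nat_lit 517))
))) (.node (nat_lit 0x70608040500030102) (.node (nat_lit 0x70608040500020103) (.node (nat_lit 0x70608040500010302) (.leaf (nat_lit 0x70608040500010203) (nat_lit 1034))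
 (.leaf (nat_lit 0x70608040500010302) (nat_lit 1034))
) (.node (nat_lit 0x70608040500020301) (.leaf (nat_lit 0x70608040500020103) (nat_lit 778))
 (.leaf (nat_lit 0x70608040500020301) (nat_lit 1290))
)) (.node (nat_lit 0x70608040501000203) (.node (nat_lit 0x70608040500030201) (.leaf (nat_lit 0x70608040500030102) (nat_lit 1290))
 (.leaf (nat_lit 0x70608040500030201) (nat_lit 1034))
) (.node (nat_lit 0x70608040501000302) (.leaf (nat_lit 0x70608040501000203) (nat_lit 1024))
 (.node (nat_lit 0x70608040501020003) (.leaf (nat_lit 0x70608040501000302) (nat_lit 1546))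
 (.leaf (nat_lit 0x70608040501020003) (nat_lit 1280))
)))))))) (.node (nat_lit 0x70608050200040103) (.node (nat_lit 0x70608050004010203) (.node (nat_lit 0x70608050001020403) (.node (nat_lit 0x70608040502030100) (.node (nat_lit 0x70608040502000301) (.node (nat_lit 0x70608040501030200) (.node (nat_lit 0x70608040501030002) (.leaf (nat_lit 0x70608040501020300) (nat_lit 1280))
 (.leaf (nat_lit 0x70608040501030002) (nat_lit 1280))
) (.node (nat_lit 0x70608040502000103) (.leaf (nat_lit 0x70608040501030200) (nat_lit 1290))
 (.leaf (nat_lit 0x70608040502000103) (nat_lit 1281))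
)) (.node (nat_lit 0x70608040502010300) (.node (nat_lit 0x70608040502010003) (.leaf (nat_lit 0x70608040502000301) (nat_lit 1281))
 (.leaf (nat_lit 0x70608040502010003) (nat_lit 1025))
) (.node (nat_lit 0x70608040502030001) (.leaf (nat_lit 0x70608040502010300) (nat_lit 1290))
 (.leaf (nat_lit 0x70608040502030001) (nat_lit 1537))
))) (.node (nat_lit 0x70608040503010200) (.node (nat_lit 0x70608040503000201) (.node (nat_lit 0x70608040503000102) (.leaf (nat_lit 0x70608040502030100) (nat_lit 1281))
 (.leaf (nat_lit 0x70608040503000102) (nat_lit 1031))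
) (.node (nat_lit 0x70608040503010002) (.leaf (nat_lit 0x70608040503000201) (nat_lit 775))
 (.leaf (nat_lit 0x70608040503010002) (nat_lit 775))
)) (.node (nat_lit 0x70608040503020100) (.node (nat_lit 0x70608040503020001) (.leaf (nat_lit 0x70608040503010200) (nat_lit 775))
 (.leaf (nat_lit 0x70608040503020001) (nat_lit 1031))
) (.node (nat_lit 0x70608050001020304) (.leaf (nat_lit 0x70608040503020100) (nat_lit 519))
 (.leaf (nat_lit 0x70608050001020304) (nat_lit 1794))
)))) (.node (nat_lit 0x70608050002030401) (.node (nat_lit 0x70608050001040302) (.node (nat_lit 0x70608050001030402) (.node (nat_lit 0x70608050001030204) (.leaf (nat_lit 0x70608050001020403) (nat_lit 1802))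
 (.leaf (nat_lit 0x70608050001030204) (nat_lit 1546))
) (.node (nat_lit 0x70608050001040203) (.leaf (nat_lit 0x70608050001030402) (nat_lit 1794))
 (.leaf (nat_lit 0x70608050001040203) (nat_lit 1538))
)) (.node (nat_lit 0x70608050002010403) (.node (nat_lit 0x70608050002010304) (.leaf (nat_lit 0x70608050001040302) (nat_lit 1802))
 (.leaf (nat_lit 0x70608050002010304) (nat_lit 1546))
) (.node (nat_lit 0x70608050002030104) (.leaf (nat_lit 0x70608050002010403) (nat_lit 1538))
 (.leaf (nat_lit 0x70608050002030104) (nat_lit 1794))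
))) (.node (nat_lit 0x70608050003010402) (.node (nat_lit 0x70608050002040301) (.node (nat_lit 0x70608050002040103) (.leaf (nat_lit 0x70608050002030401) (nat_lit 1802))
 (.leaf (nat_lit 0x70608050002040103) (nat_lit 1802))
) (.node (nat_lit 0x70608050003010204) (.leaf (nat_lit 0x70608050002040301) (nat_lit 1539))
 (.leaf (nat_lit 0x70608050003010204) (nat_lit 1282))
)) (.node (nat_lit 0x70608050003020401) (.node (nat_lit 0x70608050003020104) (.leaf (nat_lit 0x70608050003010402) (nat_lit 1282))
 (.leaf (nat_lit 0x70608050003020104) (nat_lit 1026))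
) (.node (nat_lit 0x70608050003040102) (.leaf (nat_lit 0x70608050003020401) (nat_lit 1538))
 (.node (nat_lit 0x70608050003040201) (.leaf (nat_lit 0x70608050003040102) (nat_lit 1538))
 (.leaf (nat_lit 0x70608050003040201) (nat_lit 1282))
)))))) (.node (nat_lit 0x70608050102040300) (.node (nat_lit 0x70608050100030204) (.node (nat_lit 0x70608050004030102) (.node (nat_lit 0x70608050004020103) (.node (nat_lit 0x70608050004010302) (.leaf (nat_lit 0x70608050004010203) (nat_lit 1290))
 (.leaf (nat_lit 0x70608050004010302) (nat_lit 1290))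
) (.node (nat_lit 0x70608050004020301) (.leaf (nat_lit 0x70608050004020103) (nat_lit 1034))
 (.leaf (nat_lit 0x70608050004020301) (nat_lit 1546))
)) (.node (nat_lit 0x70608050100020304) (.node (nat_lit 0x70608050004030201) (.leaf (nat_lit 0x70608050004030102) (nat_lit 1546))
 (.leaf (nat_lit 0x70608050004030201) (nat_lit 1290))
) (.node (nat_lit 0x70608050100020403) (.leaf (nat_lit 0x70608050100020304) (nat_lit 1802))
 (.leaf (nat_lit 0x70608050100020403) (nat_lit 1795))
))) (.node (nat_lit 0x70608050102000304) (.node (nat_lit 0x70608050100040203) (.node (nat_lit 0x70608050100030402) (.leaf (nat_lit 0x70608050100030204) (nat_lit 1546))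
 (.leaf (nat_lit 0x70608050100030402) (nat_lit 1795))
) (.node (nat_lit 0x70608050100040302) (.leaf (nat_lit 0x70608050100040203) (nat_lit 1793))
 (.leaf (nat_lit 0x70608050100040302) (nat_lit 1539))
)) (.node (nat_lit 0x70608050102030004) (.node (nat_lit 0x70608050102000403) (.leaf (nat_lit 0x70608050102000304) (nat_lit 1793))
 (.leaf (nat_lit 0x70608050102000403) (nat_lit 1795))
) (.node (nat_lit 0x70608050102030400) (.leaf (nat_lit 0x70608050102030004) (nat_lit 1795))
 (.node (nat_lit 0x70608050102040003) (.leaf (nat_lit 0x70608050102030400) (nat_lit 1795))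
 (.leaf (nat_lit 0x70608050102040003) (nat_lit 1802))
))))) (.node (nat_lit 0x70608050104000302) (.node (nat_lit 0x70608050103020400) (.node (nat_lit 0x70608050103000402) (.node (nat_lit 0x70608050103000204) (.leaf (nat_lit 0x70608050102040300) (nat_lit 1539))
 (.leaf (nat_lit 0x70608050103000204) (nat_lit 1282))
) (.node (nat_lit 0x70608050103020004) (.leaf (nat_lit 0x70608050103000402) (nat_lit 1794))
 (.leaf (nat_lit 0x70608050103020004) (nat_lit 1538))
)) (.node (nat_lit 0x70608050103040200) (.node (nat_lit 0x70608050103040002) (.leaf (nat_lit 0x70608050103020400) (nat_lit 1538))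
 (.leaf (nat_lit 0x70608050103040002) (nat_lit 1538))
) (.node (nat_lit 0x70608050104000203) (.leaf (nat_lit 0x70608050103040200) (nat_lit 1538))
 (.leaf (nat_lit 0x70608050104000203) (nat_lit 1280))
))) (.node (nat_lit 0x70608050104030200) (.node (nat_lit 0x70608050104020300) (.node (nat_lit 0x70608050104020003) (.leaf (nat_lit 0x70608050104000302) (nat_lit 1802))
 (.leaf (nat_lit 0x70608050104020003) (nat_lit 1536))
) (.node (nat_lit 0x70608050104030002) (.leaf (nat_lit 0x70608050104020300) (nat_lit 1536))
 (.leaf (nat_lit 0x70608050104030002) (nat_lit 1536))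
)) (.node (nat_lit 0x70608050200010403) (.node (nat_lit 0x70608050200010304) (.leaf (nat_lit 0x70608050104030200) (nat_lit 1546))
 (.leaf (nat_lit 0x70608050200010304) (nat_lit 1546))
) (.node (nat_lit 0x70608050200030104) (.leaf (nat_lit 0x70608050200010403) (nat_lit 1795))
 (.node (nat_lit 0x70608050200030401) (.leaf (nat_lit 0x70608050200030104) (nat_lit 1795))
 (.leaf (nat_lit 0x70608050200030401) (nat_lit 1802))
))))))) (.node (nat_lit 0x70608050302010004) (.node (nat_lit 0x70608050204010300) (.node (nat_lit 0x70608050203000104) (.node (nat_lit 0x70608050201030004) (.node (nat_lit 0x70608050201000304) (.node (nat_lit 0x70608050200040301) (.leaf (nat_lit 0x70608050200040103) (nat_lit 1802))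
 (.leaf (nat_lit 0x70608050200040301) (nat_lit 1539))
) (.node (nat_lit 0x70608050201000403) (.leaf (nat_lit 0x70608050201000304) (nat_lit 1795))
 (.leaf (nat_lit 0x70608050201000403) (nat_lit 1539))
)) (.node (nat_lit 0x70608050201040003) (.node (nat_lit 0x70608050201030400) (.leaf (nat_lit 0x70608050201030004) (nat_lit 1539))
 (.leaf (nat_lit 0x70608050201030400) (nat_lit 1539))
) (.node (nat_lit 0x70608050201040300) (.leaf (nat_lit 0x70608050201040003) (nat_lit 1546))
 (.leaf (nat_lit 0x70608050201040300) (nat_lit 1283))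
))) (.node (nat_lit 0x70608050203040001) (.node (nat_lit 0x70608050203010004) (.node (nat_lit 0x70608050203000401) (.leaf (nat_lit 0x70608050203000104) (nat_lit 1538))
 (.leaf (nat_lit 0x70608050203000401) (nat_lit 1538))
) (.node (nat_lit 0x70608050203010400) (.leaf (nat_lit 0x70608050203010004) (nat_lit 1282))
 (.leaf (nat_lit 0x70608050203010400) (nat_lit 1538))
)) (.node (nat_lit 0x70608050204000103) (.node (nat_lit 0x70608050203040100) (.leaf (nat_lit 0x70608050203040001) (nat_lit 1794))
 (.leaf (nat_lit 0x70608050203040100) (nat_lit 1538))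
) (.node (nat_lit 0x70608050204000301) (.leaf (nat_lit 0x70608050204000103) (nat_lit 1537))
 (.node (nat_lit 0x70608050204010003) (.leaf (nat_lit 0x70608050204000301) (nat_lit 1537))
 (.leaf (nat_lit 0x70608050204010003) (nat_lit 1281))
))))) (.node (nat_lit 0x70608050300040201) (.node (nat_lit 0x70608050300010402) (.node (nat_lit 0x70608050204030100) (.node (nat_lit 0x70608050204030001) (.leaf (nat_lit 0x70608050204010300) (nat_lit 1546))
 (.leaf (nat_lit 0x70608050204030001) (nat_lit 1793))
) (.node (nat_lit 0x70608050300010204) (.leaf (nat_lit 0x70608050204030100) (nat_lit 1537))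
 (.leaf (nat_lit 0x70608050300010204) (nat_lit 1282))
)) (.node (nat_lit 0x70608050300020401) (.node (nat_lit 0x70608050300020104) (.leaf (nat_lit 0x70608050300010402) (nat_lit 1282))
 (.leaf (nat_lit 0x70608050300020104) (nat_lit 1026))
) (.node (nat_lit 0x70608050300040102) (.leaf (nat_lit 0x70608050300020401) (nat_lit 1538))
 (.leaf (nat_lit 0x70608050300040102) (nat_lit 1538))
))) (.node (nat_lit 0x70608050301020400) (.node (nat_lit 0x70608050301000402) (.node (nat_lit 0x70608050301000204) (.leaf (nat_lit 0x70608050300040201) (nat_lit 1282))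
 (.leaf (nat_lit 0x70608050301000204) (nat_lit 1282))
) (.node (nat_lit 0x70608050301020004) (.leaf (nat_lit 0x70608050301000402) (nat_lit 1794))
 (.leaf (nat_lit 0x70608050301020004) (nat_lit 1538))
)) (.node (nat_lit 0x70608050301040200) (.node (nat_lit 0x70608050301040002) (.leaf (nat_lit 0x70608050301020400) (nat_lit 1538))
 (.leaf (nat_lit 0x70608050301040002) (nat_lit 1538))
) (.node (nat_lit 0x70608050302000104) (.leaf (nat_lit 0x70608050301040200) (nat_lit 1538))
 (.node (nat_lit 0x70608050302000401) (.leaf (nat_lit 0x70608050302000104) (nat_lit 1538))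
 (.leaf (nat_lit 0x70608050302000401) (nat_lit 1538))
)))))) (.node (nat_lit 0x70608050401000302) (.node (nat_lit 0x70608050304020001) (.node (nat_lit 0x70608050304000102) (.node (nat_lit 0x70608050302040001) (.node (nat_lit 0x70608050302010400) (.leaf (nat_lit 0x70608050302010004) (nat_lit 1282))
 (.leaf (nat_lit 0x70608050302010400) (nat_lit 1538))
) (.node (nat_lit 0x70608050302040100) (.leaf (nat_lit 0x70608050302040001) (nat_lit 1794))
 (.leaf (nat_lit 0x70608050302040100) (nat_lit 1538))
)) (.node (nat_lit 0x70608050304010002) (.node (nat_lit 0x70608050304000201) (.leaf (nat_lit 0x70608050304000102) (nat_lit 1287))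
 (.leaf (nat_lit 0x70608050304000201) (nat_lit 1031))
) (.node (nat_lit 0x70608050304010200) (.leaf (nat_lit 0x70608050304010002) (nat_lit 1031))
 (.leaf (nat_lit 0x70608050304010200) (nat_lit 1031))
))) (.node (nat_lit 0x70608050400020103) (.node (nat_lit 0x70608050400010203) (.node (nat_lit 0x70608050304020100) (.leaf (nat_lit 0x70608050304020001) (nat_lit 1287))
 (.leaf (nat_lit 0x70608050304020100) (nat_lit 775))
) (.node (nat_lit 0x70608050400010302) (.leaf (nat_lit 0x70608050400010203) (nat_lit 778))
 (.leaf (nat_lit 0x70608050400010302) (nat_lit 778))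
)) (.node (nat_lit 0x70608050400030102) (.node (nat_lit 0x70608050400020301) (.leaf (nat_lit 0x70608050400020103) (nat_lit 522))
 (.leaf (nat_lit 0x70608050400020301) (nat_lit 1034))
) (.node (nat_lit 0x70608050400030201) (.leaf (nat_lit 0x70608050400030102) (nat_lit 1034))
 (.node (nat_lit 0x70608050401000203) (.leaf (nat_lit 0x70608050400030201) (nat_lit 778))
 (.leaf (nat_lit 0x70608050401000203) (nat_lit 768))
))))) (.node (nat_lit 0x70608050402010300) (.node (nat_lit 0x70608050401030200) (.node (nat_lit 0x70608050401020300) (.node (nat_lit 0x70608050401020003) (.leaf (nat_lit 0x70608050401000302) (nat_lit 1290))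
 (.leaf (nat_lit 0x70608050401020003) (nat_lit 1024))
) (.node (nat_lit 0x70608050401030002) (.leaf (nat_lit 0x70608050401020300) (nat_lit 1024))
 (.leaf (nat_lit 0x70608050401030002) (nat_lit 1024))
)) (.node (nat_lit 0x70608050402000301) (.node (nat_lit 0x70608050402000103) (.leaf (nat_lit 0x70608050401030200) (nat_lit 1034))
 (.leaf (nat_lit 0x70608050402000103) (nat_lit 1025))
) (.node (nat_lit 0x70608050402010003) (.leaf (nat_lit 0x70608050402000301) (nat_lit 1025))
 (.leaf (nat_lit 0x70608050402010003) (nat_lit 769))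
))) (.node (nat_lit 0x70608050403000201) (.node (nat_lit 0x70608050402030100) (.node (nat_lit 0x70608050402030001) (.leaf (nat_lit 0x70608050402010300) (nat_lit 1034))
 (.leaf (nat_lit 0x70608050402030001) (nat_lit 1281))
) (.node (nat_lit 0x70608050403000102) (.leaf (nat_lit 0x70608050402030100) (nat_lit 1025))
 (.leaf (nat_lit 0x70608050403000102) (nat_lit 774))
)) (.node (nat_lit 0x70608050403010200) (.node (nat_lit 0x70608050403010002) (.leaf (nat_lit 0x70608050403000201) (nat_lit 517))
 (.leaf (nat_lit 0x70608050403010002) (nat_lit 517))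
) (.node (nat_lit 0x70608050403020001) (.leaf (nat_lit 0x70608050403010200) (nat_lit 518))
 (.node (nat_lit 0x70608050403020100) (.leaf (nat_lit 0x70608050403020001) (nat_lit 774))
 (.leaf (nat_lit 0x70608050403020100) (nat_lit 261))
)))))))))))) (.node (nat_lit 0x80607030001020405) (.node (nat_lit 0x70806040203000105) (.node (nat_lit 0x70806020103000405) (.node (nat_lit 0x70806010004030502) (.node (nat_lit 0x70806000305010402) (.node (nat_lit 0x70806000203040501) (.node (nat_lit 0x70806000104050203) (.node (nat_lit 0x70806000103040205) (.node (nat_lit 0x70806000102050304) (.node (nat_lit 0x70806000102040305) (.node (nat_lit 0x70806000102030504) (.leaf (nat_lit 0x70806000102030405) (nat_lit 1545))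
 (.leaf (nat_lit 0x70806000102030504) (nat_lit 1289))
) (.node (nat_lit 0x70806000102040503) (.leaf (nat_lit 0x70806000102040305) (nat_lit 1289))
 (.leaf (nat_lit 0x70806000102040503) (nat_lit 1289))
)) (.node (nat_lit 0x70806000103020405) (.node (nat_lit 0x70806000102050403) (.leaf (nat_lit 0x70806000102050304) (nat_lit 1545))
 (.leaf (nat_lit 0x70806000102050403) (nat_lit 1033))
) (.node (nat_lit 0x70806000103020504) (.leaf (nat_lit 0x70806000103020405) (nat_lit 1793))
 (.leaf (nat_lit 0x70806000103020504) (nat_lit 1537))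
))) (.node (nat_lit 0x70806000104020305) (.node (nat_lit 0x70806000103050204) (.node (nat_lit 0x70806000103040502) (.leaf (nat_lit 0x70806000103040205) (nat_lit 1537))
 (.leaf (nat_lit 0x70806000103040502) (nat_lit 1537))
) (.node (nat_lit 0x70806000103050402) (.leaf (nat_lit 0x70806000103050204) (nat_lit 1793))
 (.leaf (nat_lit 0x70806000103050402) (nat_lit 1281))
)) (.node (nat_lit 0x70806000104030205) (.node (nat_lit 0x70806000104020503) (.leaf (nat_lit 0x70806000104020305) (nat_lit 1794))
 (.leaf (nat_lit 0x70806000104020503) (nat_lit 1802))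
) (.node (nat_lit 0x70806000104030502) (.leaf (nat_lit 0x70806000104030205) (nat_lit 1546))
 (.leaf (nat_lit 0x70806000104030502) (nat_lit 1538))
)))) (.node (nat_lit 0x70806000201030405) (.node (nat_lit 0x70806000105030204) (.node (nat_lit 0x70806000105020304) (.node (nat_lit 0x70806000104050302) (.leaf (nat_lit 0x70806000104050203) (nat_lit 1794))
 (.leaf (nat_lit 0x70806000104050302) (nat_lit 1802))
) (.node (nat_lit 0x70806000105020403) (.leaf (nat_lit 0x70806000105020304) (nat_lit 1792))
 (.leaf (nat_lit 0x70806000105020403) (nat_lit 1795))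
)) (.node (nat_lit 0x70806000105040203) (.node (nat_lit 0x70806000105030402) (.leaf (nat_lit 0x70806000105030204) (nat_lit 1795))
 (.leaf (nat_lit 0x70806000105030402) (nat_lit 1795))
) (.node (nat_lit 0x70806000105040302) (.leaf (nat_lit 0x70806000105040203) (nat_lit 1794))
 (.leaf (nat_lit 0x70806000105040302) (nat_lit 1539))
))) (.node (nat_lit 0x70806000201050304) (.node (nat_lit 0x70806000201040305) (.node (nat_lit 0x70806000201030504) (.leaf (nat_lit 0x70806000201030405) (nat_lit 1289))
 (.leaf (nat_lit 0x70806000201030504) (nat_lit 1033))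
) (.node (nat_lit 0x70806000201040503) (.leaf (nat_lit 0x70806000201040305) (nat_lit 1033))
 (.leaf (nat_lit 0x70806000201040503) (nat_lit 1033))
)) (.node (nat_lit 0x70806000203010405) (.node (nat_lit 0x70806000201050403) (.leaf (nat_lit 0x70806000201050304) (nat_lit 1289))
 (.leaf (nat_lit 0x70806000201050403) (nat_lit 777))
) (.node (nat_lit 0x70806000203010504) (.leaf (nat_lit 0x70806000203010405) (nat_lit 1536))
 (.node (nat_lit 0x70806000203040105) (.leaf (nat_lit 0x70806000203010504) (nat_lit 1280))
 (.leaf (nat_lit 0x70806000203040105) (nat_lit 1280))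
)))))) (.node (nat_lit 0x70806000301040205) (.node (nat_lit 0x70806000204050301) (.node (nat_lit 0x70806000204010503) (.node (nat_lit 0x70806000203050401) (.node (nat_lit 0x70806000203050104) (.leaf (nat_lit 0x70806000203040501) (nat_lit 1280))
 (.leaf (nat_lit 0x70806000203050104) (nat_lit 1536))
) (.node (nat_lit 0x70806000204010305) (.leaf (nat_lit 0x70806000203050401) (nat_lit 1024))
 (.leaf (nat_lit 0x70806000204010305) (nat_lit 1538))
)) (.node (nat_lit 0x70806000204030501) (.node (nat_lit 0x70806000204030105) (.leaf (nat_lit 0x70806000204010503) (nat_lit 1536))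
 (.leaf (nat_lit 0x70806000204030105) (nat_lit 1792))
) (.node (nat_lit 0x70806000204050103) (.leaf (nat_lit 0x70806000204030501) (nat_lit 1282))
 (.leaf (nat_lit 0x70806000204050103) (nat_lit 1538))
))) (.node (nat_lit 0x70806000205030401) (.node (nat_lit 0x70806000205010403) (.node (nat_lit 0x70806000205010304) (.leaf (nat_lit 0x70806000204050301) (nat_lit 1538))
 (.leaf (nat_lit 0x70806000205010304) (nat_lit 1795))
) (.node (nat_lit 0x70806000205030104) (.leaf (nat_lit 0x70806000205010403) (nat_lit 1539))
 (.leaf (nat_lit 0x70806000205030104) (nat_lit 1539))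
)) (.node (nat_lit 0x70806000205040301) (.node (nat_lit 0x70806000205040103) (.leaf (nat_lit 0x70806000205030401) (nat_lit 1539))
 (.leaf (nat_lit 0x70806000205040103) (nat_lit 1536))
) (.node (nat_lit 0x70806000301020405) (.leaf (nat_lit 0x70806000205040301) (nat_lit 1283))
 (.node (nat_lit 0x70806000301020504) (.leaf (nat_lit 0x70806000301020405) (nat_lit 1793))
 (.leaf (nat_lit 0x70806000301020504) (nat_lit 1537))
))))) (.node (nat_lit 0x70806000302050104) (.node (nat_lit 0x70806000302010405) (.node (nat_lit 0x70806000301050204) (.node (nat_lit 0x70806000301040502) (.leaf (nat_lit 0x70806000301040205) (nat_lit 1537))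
 (.leaf (nat_lit 0x70806000301040502) (nat_lit 1537))
) (.node (nat_lit 0x70806000301050402) (.leaf (nat_lit 0x70806000301050204) (nat_lit 1793))
 (.leaf (nat_lit 0x70806000301050402) (nat_lit 1281))
)) (.node (nat_lit 0x70806000302040105) (.node (nat_lit 0x70806000302010504) (.leaf (nat_lit 0x70806000302010405) (nat_lit 1538))
 (.leaf (nat_lit 0x70806000302010504) (nat_lit 1802))
) (.node (nat_lit 0x70806000302040501) (.leaf (nat_lit 0x70806000302040105) (nat_lit 1802))
 (.leaf (nat_lit 0x70806000302040501) (nat_lit 1794))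
))) (.node (nat_lit 0x70806000304020105) (.node (nat_lit 0x70806000304010205) (.node (nat_lit 0x70806000302050401) (.leaf (nat_lit 0x70806000302050104) (nat_lit 1794))
 (.leaf (nat_lit 0x70806000302050401) (nat_lit 1546))
) (.node (nat_lit 0x70806000304010502) (.leaf (nat_lit 0x70806000304010205) (nat_lit 1539))
 (.leaf (nat_lit 0x70806000304010502) (nat_lit 1539))
)) (.node (nat_lit 0x70806000304050102) (.node (nat_lit 0x70806000304020501) (.leaf (nat_lit 0x70806000304020105) (nat_lit 1283))
 (.leaf (nat_lit 0x70806000304020501) (nat_lit 1795))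
) (.node (nat_lit 0x70806000304050201) (.leaf (nat_lit 0x70806000304050102) (nat_lit 1795))
 (.node (nat_lit 0x70806000305010204) (.leaf (nat_lit 0x70806000304050201) (nat_lit 1539))
 (.leaf (nat_lit 0x70806000305010204) (nat_lit 1282))
))))))) (.node (nat_lit 0x70806000501040302) (.node (nat_lit 0x70806000403010205) (.node (nat_lit 0x70806000401030502) (.node (nat_lit 0x70806000305040201) (.node (nat_lit 0x70806000305020401) (.node (nat_lit 0x70806000305020104) (.leaf (nat_lit 0x70806000305010402) (nat_lit 1282))
 (.leaf (nat_lit 0x70806000305020104) (nat_lit 1026))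
) (.node (nat_lit 0x70806000305040102) (.leaf (nat_lit 0x70806000305020401) (nat_lit 1538))
 (.leaf (nat_lit 0x70806000305040102) (nat_lit 1538))
)) (.node (nat_lit 0x70806000401020503) (.node (nat_lit 0x70806000401020305) (.leaf (nat_lit 0x70806000305040201) (nat_lit 1282))
 (.leaf (nat_lit 0x70806000401020305) (nat_lit 1794))
) (.node (nat_lit 0x70806000401030205) (.leaf (nat_lit 0x70806000401020503) (nat_lit 1802))
 (.leaf (nat_lit 0x70806000401030205) (nat_lit 1546))
))) (.node (nat_lit 0x70806000402010503) (.node (nat_lit 0x70806000401050302) (.node (nat_lit 0x70806000401050203) (.leaf (nat_lit 0x70806000401030502) (nat_lit 1538))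
 (.leaf (nat_lit 0x70806000401050203) (nat_lit 1539))
) (.node (nat_lit 0x70806000402010305) (.leaf (nat_lit 0x70806000401050302) (nat_lit 1802))
 (.leaf (nat_lit 0x70806000402010305) (nat_lit 1546))
)) (.node (nat_lit 0x70806000402030501) (.node (nat_lit 0x70806000402030105) (.leaf (nat_lit 0x70806000402010503) (nat_lit 1539))
 (.leaf (nat_lit 0x70806000402030105) (nat_lit 1795))
) (.node (nat_lit 0x70806000402050103) (.leaf (nat_lit 0x70806000402030501) (nat_lit 1802))
 (.node (nat_lit 0x70806000402050301) (.leaf (nat_lit 0x70806000402050103) (nat_lit 1802))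
 (.leaf (nat_lit 0x70806000402050301) (nat_lit 1795))
))))) (.node (nat_lit 0x70806000405020103) (.node (nat_lit 0x70806000403050102) (.node (nat_lit 0x70806000403020105) (.node (nat_lit 0x70806000403010502) (.leaf (nat_lit 0x70806000403010205) (nat_lit 1283))
 (.leaf (nat_lit 0x70806000403010502) (nat_lit 1283))
) (.node (nat_lit 0x70806000403020501) (.leaf (nat_lit 0x70806000403020105) (nat_lit 1027))
 (.leaf (nat_lit 0x70806000403020501) (nat_lit 1539))
)) (.node (nat_lit 0x70806000405010203) (.node (nat_lit 0x70806000403050201) (.leaf (nat_lit 0x70806000403050102) (nat_lit 1539))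
 (.leaf (nat_lit 0x70806000403050201) (nat_lit 1283))
) (.node (nat_lit 0x70806000405010302) (.leaf (nat_lit 0x70806000405010203) (nat_lit 1290))
 (.leaf (nat_lit 0x70806000405010302) (nat_lit 1290))
))) (.node (nat_lit 0x70806000501020304) (.node (nat_lit 0x70806000405030102) (.node (nat_lit 0x70806000405020301) (.leaf (nat_lit 0x70806000405020103) (nat_lit 1034))
 (.leaf (nat_lit 0x70806000405020301) (nat_lit 1546))
) (.node (nat_lit 0x70806000405030201) (.leaf (nat_lit 0x70806000405030102) (nat_lit 1546))
 (.leaf (nat_lit 0x70806000405030201) (nat_lit 1290))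
)) (.node (nat_lit 0x70806000501030204) (.node (nat_lit 0x70806000501020403) (.leaf (nat_lit 0x70806000501020304) (nat_lit 1546))
 (.leaf (nat_lit 0x70806000501020403) (nat_lit 1546))
) (.node (nat_lit 0x70806000501030402) (.leaf (nat_lit 0x70806000501030204) (nat_lit 1290))
 (.node (nat_lit 0x70806000501040203) (.leaf (nat_lit 0x70806000501030402) (nat_lit 1802))
 (.leaf (nat_lit 0x70806000501040203) (nat_lit 1546))
)))))) (.node (nat_lit 0x70806000504030102) (.node (nat_lit 0x70806000503010402) (.node (nat_lit 0x70806000502030401) (.node (nat_lit 0x70806000502010403) (.node (nat_lit 0x70806000502010304) (.leaf (nat_lit 0x70806000501040302) (nat_lit 1546))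
 (.leaf (nat_lit 0x70806000502010304) (nat_lit 1290))
) (.node (nat_lit 0x70806000502030104) (.leaf (nat_lit 0x70806000502010403) (nat_lit 1546))
 (.leaf (nat_lit 0x70806000502030104) (nat_lit 1546))
)) (.node (nat_lit 0x70806000502040301) (.node (nat_lit 0x70806000502040103) (.leaf (nat_lit 0x70806000502030401) (nat_lit 1546))
 (.leaf (nat_lit 0x70806000502040103) (nat_lit 1546))
) (.node (nat_lit 0x70806000503010204) (.leaf (nat_lit 0x70806000502040301) (nat_lit 1802))
 (.leaf (nat_lit 0x70806000503010204) (nat_lit 1290))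
))) (.node (nat_lit 0x70806000503040201) (.node (nat_lit 0x70806000503020401) (.node (nat_lit 0x70806000503020104) (.leaf (nat_lit 0x70806000503010402) (nat_lit 1290))
 (.leaf (nat_lit 0x70806000503020104) (nat_lit 1034))
) (.node (nat_lit 0x70806000503040102) (.leaf (nat_lit 0x70806000503020401) (nat_lit 1546))
 (.leaf (nat_lit 0x70806000503040102) (nat_lit 1546))
)) (.node (nat_lit 0x70806000504010302) (.node (nat_lit 0x70806000504010203) (.leaf (nat_lit 0x70806000503040201) (nat_lit 1290))
 (.leaf (nat_lit 0x70806000504010203) (nat_lit 1034))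
) (.node (nat_lit 0x70806000504020103) (.leaf (nat_lit 0x70806000504010302) (nat_lit 1034))
 (.node (nat_lit 0x70806000504020301) (.leaf (nat_lit 0x70806000504020103) (nat_lit 778))
 (.leaf (nat_lit 0x70806000504020301) (nat_lit 1290))
))))) (.node (nat_lit 0x70806010003020405) (.node (nat_lit 0x70806010002040305) (.node (nat_lit 0x70806010002030405) (.node (nat_lit 0x70806000504030201) (.leaf (nat_lit 0x70806000504030102) (nat_lit 1290))
 (.leaf (nat_lit 0x70806000504030201) (nat_lit 1034))
) (.node (nat_lit 0x70806010002030504) (.leaf (nat_lit 0x70806010002030405) (nat_lit 1289))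
 (.leaf (nat_lit 0x70806010002030504) (nat_lit 1033))
)) (.node (nat_lit 0x70806010002050304) (.node (nat_lit 0x70806010002040503) (.leaf (nat_lit 0x70806010002040305) (nat_lit 1033))
 (.leaf (nat_lit 0x70806010002040503) (nat_lit 1033))
) (.node (nat_lit 0x70806010002050403) (.leaf (nat_lit 0x70806010002050304) (nat_lit 1289))
 (.leaf (nat_lit 0x70806010002050403) (nat_lit 777))
))) (.node (nat_lit 0x70806010003050204) (.node (nat_lit 0x70806010003040205) (.node (nat_lit 0x70806010003020504) (.leaf (nat_lit 0x70806010003020405) (nat_lit 1537))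
 (.leaf (nat_lit 0x70806010003020504) (nat_lit 1281))
) (.node (nat_lit 0x70806010003040502) (.leaf (nat_lit 0x70806010003040205) (nat_lit 1281))
 (.leaf (nat_lit 0x70806010003040502) (nat_lit 1281))
)) (.node (nat_lit 0x70806010004020305) (.node (nat_lit 0x70806010003050402) (.leaf (nat_lit 0x70806010003050204) (nat_lit 1537))
 (.leaf (nat_lit 0x70806010003050402) (nat_lit 1025))
) (.node (nat_lit 0x70806010004020503) (.leaf (nat_lit 0x70806010004020305) (nat_lit 1538))
 (.node (nat_lit 0x70806010004030205) (.leaf (nat_lit 0x70806010004020503) (nat_lit 1537))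
 (.leaf (nat_lit 0x70806010004030205) (nat_lit 1793))
)))))))) (.node (nat_lit 0x70806010402050003) (.node (nat_lit 0x70806010300020405) (.node (nat_lit 0x70806010203000504) (.node (nat_lit 0x70806010005040302) (.node (nat_lit 0x70806010005020403) (.node (nat_lit 0x70806010004050302) (.node (nat_lit 0x70806010004050203) (.leaf (nat_lit 0x70806010004030502) (nat_lit 1282))
 (.leaf (nat_lit 0x70806010004050203) (nat_lit 1538))
) (.node (nat_lit 0x70806010005020304) (.leaf (nat_lit 0x70806010004050302) (nat_lit 1538))
 (.leaf (nat_lit 0x70806010005020304) (nat_lit 1795))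
)) (.node (nat_lit 0x70806010005030402) (.node (nat_lit 0x70806010005030204) (.leaf (nat_lit 0x70806010005020403) (nat_lit 1539))
 (.leaf (nat_lit 0x70806010005030204) (nat_lit 1539))
) (.node (nat_lit 0x70806010005040203) (.leaf (nat_lit 0x70806010005030402) (nat_lit 1539))
 (.leaf (nat_lit 0x70806010005040203) (nat_lit 1537))
))) (.node (nat_lit 0x70806010200040503) (.node (nat_lit 0x70806010200030504) (.node (nat_lit 0x70806010200030405) (.leaf (nat_lit 0x70806010005040302) (nat_lit 1283))
 (.leaf (nat_lit 0x70806010200030405) (nat_lit 1289))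
) (.node (nat_lit 0x70806010200040305) (.leaf (nat_lit 0x70806010200030504) (nat_lit 1033))
 (.leaf (nat_lit 0x70806010200040305) (nat_lit 1033))
)) (.node (nat_lit 0x70806010200050403) (.node (nat_lit 0x70806010200050304) (.leaf (nat_lit 0x70806010200040503) (nat_lit 1033))
 (.leaf (nat_lit 0x70806010200050304) (nat_lit 1289))
) (.node (nat_lit 0x70806010203000405) (.leaf (nat_lit 0x70806010200050403) (nat_lit 777))
 (.leaf (nat_lit 0x70806010203000405) (nat_lit 1546))
)))) (.node (nat_lit 0x70806010204030500) (.node (nat_lit 0x70806010203050400) (.node (nat_lit 0x70806010203040500) (.node (nat_lit 0x70806010203040005) (.leaf (nat_lit 0x70806010203000504) (nat_lit 1290))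
 (.leaf (nat_lit 0x70806010203040005) (nat_lit 1290))
) (.node (nat_lit 0x70806010203050004) (.leaf (nat_lit 0x70806010203040500) (nat_lit 1290))
 (.leaf (nat_lit 0x70806010203050004) (nat_lit 1546))
)) (.node (nat_lit 0x70806010204000503) (.node (nat_lit 0x70806010204000305) (.leaf (nat_lit 0x70806010203050400) (nat_lit 1034))
 (.leaf (nat_lit 0x70806010204000305) (nat_lit 1538))
) (.node (nat_lit 0x70806010204030005) (.leaf (nat_lit 0x70806010204000503) (nat_lit 1546))
 (.leaf (nat_lit 0x70806010204030005) (nat_lit 1802))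
))) (.node (nat_lit 0x70806010205000403) (.node (nat_lit 0x70806010204050300) (.node (nat_lit 0x70806010204050003) (.leaf (nat_lit 0x70806010204030500) (nat_lit 1282))
 (.leaf (nat_lit 0x70806010204050003) (nat_lit 1538))
) (.node (nat_lit 0x70806010205000304) (.leaf (nat_lit 0x70806010204050300) (nat_lit 1538))
 (.leaf (nat_lit 0x70806010205000304) (nat_lit 1795))
)) (.node (nat_lit 0x70806010205030400) (.node (nat_lit 0x70806010205030004) (.leaf (nat_lit 0x70806010205000403) (nat_lit 1539))
 (.leaf (nat_lit 0x70806010205030004) (nat_lit 1539))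
) (.node (nat_lit 0x70806010205040003) (.leaf (nat_lit 0x70806010205030400) (nat_lit 1539))
 (.node (nat_lit 0x70806010205040300) (.leaf (nat_lit 0x70806010205040003) (nat_lit 1546))
 (.leaf (nat_lit 0x70806010205040300) (nat_lit 1283))
)))))) (.node (nat_lit 0x70806010304050200) (.node (nat_lit 0x70806010302040005) (.node (nat_lit 0x70806010300050204) (.node (nat_lit 0x70806010300040205) (.node (nat_lit 0x70806010300020504) (.leaf (nat_lit 0x70806010300020405) (nat_lit 1802))
 (.leaf (nat_lit 0x70806010300020504) (nat_lit 1546))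
) (.node (nat_lit 0x70806010300040502) (.leaf (nat_lit 0x70806010300040205) (nat_lit 1546))
 (.leaf (nat_lit 0x70806010300040502) (nat_lit 1546))
)) (.node (nat_lit 0x70806010302000405) (.node (nat_lit 0x70806010300050402) (.leaf (nat_lit 0x70806010300050204) (nat_lit 1802))
 (.leaf (nat_lit 0x70806010300050402) (nat_lit 1290))
) (.node (nat_lit 0x70806010302000504) (.leaf (nat_lit 0x70806010302000405) (nat_lit 1546))
 (.leaf (nat_lit 0x70806010302000504) (nat_lit 1290))
))) (.node (nat_lit 0x70806010304000205) (.node (nat_lit 0x70806010302050004) (.node (nat_lit 0x70806010302040500) (.leaf (nat_lit 0x70806010302040005) (nat_lit 1290))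
 (.leaf (nat_lit 0x70806010302040500) (nat_lit 1290))
) (.node (nat_lit 0x70806010302050400) (.leaf (nat_lit 0x70806010302050004) (nat_lit 1546))
 (.leaf (nat_lit 0x70806010302050400) (nat_lit 1034))
)) (.node (nat_lit 0x70806010304020005) (.node (nat_lit 0x70806010304000502) (.leaf (nat_lit 0x70806010304000205) (nat_lit 1539))
 (.leaf (nat_lit 0x70806010304000502) (nat_lit 1546))
) (.node (nat_lit 0x70806010304020500) (.leaf (nat_lit 0x70806010304020005) (nat_lit 1802))
 (.node (nat_lit 0x70806010304050002) (.leaf (nat_lit 0x70806010304020500) (nat_lit 1795))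
 (.leaf (nat_lit 0x70806010304050002) (nat_lit 1795))
))))) (.node (nat_lit 0x70806010400020503) (.node (nat_lit 0x70806010305020400) (.node (nat_lit 0x70806010305000402) (.node (nat_lit 0x70806010305000204) (.leaf (nat_lit 0x70806010304050200) (nat_lit 1802))
 (.leaf (nat_lit 0x70806010305000204) (nat_lit 1282))
) (.node (nat_lit 0x70806010305020004) (.leaf (nat_lit 0x70806010305000402) (nat_lit 1794))
 (.leaf (nat_lit 0x70806010305020004) (nat_lit 1538))
)) (.node (nat_lit 0x70806010305040200) (.node (nat_lit 0x70806010305040002) (.leaf (nat_lit 0x70806010305020400) (nat_lit 1538))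
 (.leaf (nat_lit 0x70806010305040002) (nat_lit 1538))
) (.node (nat_lit 0x70806010400020305) (.leaf (nat_lit 0x70806010305040200) (nat_lit 1538))
 (.leaf (nat_lit 0x70806010400020305) (nat_lit 1794))
))) (.node (nat_lit 0x70806010400050302) (.node (nat_lit 0x70806010400030502) (.node (nat_lit 0x70806010400030205) (.leaf (nat_lit 0x70806010400020503) (nat_lit 1802))
 (.leaf (nat_lit 0x70806010400030205) (nat_lit 1546))
) (.node (nat_lit 0x70806010400050203) (.leaf (nat_lit 0x70806010400030502) (nat_lit 1538))
 (.leaf (nat_lit 0x70806010400050203) (nat_lit 1794))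
)) (.node (nat_lit 0x70806010402000503) (.node (nat_lit 0x70806010402000305) (.leaf (nat_lit 0x70806010400050302) (nat_lit 1802))
 (.leaf (nat_lit 0x70806010402000305) (nat_lit 1538))
) (.node (nat_lit 0x70806010402030005) (.leaf (nat_lit 0x70806010402000503) (nat_lit 1546))
 (.node (nat_lit 0x70806010402030500) (.leaf (nat_lit 0x70806010402030005) (nat_lit 1802))
 (.leaf (nat_lit 0x70806010402030500) (nat_lit 1282))
))))))) (.node (nat_lit 0x70806010504020003) (.node (nat_lit 0x70806010500030402) (.node (nat_lit 0x70806010405000203) (.node (nat_lit 0x70806010403020005) (.node (nat_lit 0x70806010403000205) (.node (nat_lit 0x70806010402050300) (.leaf (nat_lit 0x70806010402050003) (nat_lit 1538))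
 (.leaf (nat_lit 0x70806010402050300) (nat_lit 1538))
) (.node (nat_lit 0x70806010403000502) (.leaf (nat_lit 0x70806010403000205) (nat_lit 1283))
 (.leaf (nat_lit 0x70806010403000502) (nat_lit 1795))
)) (.node (nat_lit 0x70806010403050002) (.node (nat_lit 0x70806010403020500) (.leaf (nat_lit 0x70806010403020005) (nat_lit 1539))
 (.leaf (nat_lit 0x70806010403020500) (nat_lit 1539))
) (.node (nat_lit 0x70806010403050200) (.leaf (nat_lit 0x70806010403050002) (nat_lit 1539))
 (.leaf (nat_lit 0x70806010403050200) (nat_lit 1539))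
))) (.node (nat_lit 0x70806010405030002) (.node (nat_lit 0x70806010405020003) (.node (nat_lit 0x70806010405000302) (.leaf (nat_lit 0x70806010405000203) (nat_lit 1280))
 (.leaf (nat_lit 0x70806010405000302) (nat_lit 1802))
) (.node (nat_lit 0x70806010405020300) (.leaf (nat_lit 0x70806010405020003) (nat_lit 1536))
 (.leaf (nat_lit 0x70806010405020300) (nat_lit 1536))
)) (.node (nat_lit 0x70806010500020304) (.node (nat_lit 0x70806010405030200) (.leaf (nat_lit 0x70806010405030002) (nat_lit 1536))
 (.leaf (nat_lit 0x70806010405030200) (nat_lit 1546))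
) (.node (nat_lit 0x70806010500020403) (.leaf (nat_lit 0x70806010500020304) (nat_lit 1536))
 (.node (nat_lit 0x70806010500030204) (.leaf (nat_lit 0x70806010500020403) (nat_lit 1795))
 (.leaf (nat_lit 0x70806010500030204) (nat_lit 1546))
))))) (.node (nat_lit 0x70806010502040300) (.node (nat_lit 0x70806010502000403) (.node (nat_lit 0x70806010500040302) (.node (nat_lit 0x70806010500040203) (.leaf (nat_lit 0x70806010500030402) (nat_lit 1792))
 (.leaf (nat_lit 0x70806010500040203) (nat_lit 1792))
) (.node (nat_lit 0x70806010502000304) (.leaf (nat_lit 0x70806010500040302) (nat_lit 1539))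
 (.leaf (nat_lit 0x70806010502000304) (nat_lit 1795))
)) (.node (nat_lit 0x70806010502030400) (.node (nat_lit 0x70806010502030004) (.leaf (nat_lit 0x70806010502000403) (nat_lit 1539))
 (.leaf (nat_lit 0x70806010502030004) (nat_lit 1539))
) (.node (nat_lit 0x70806010502040003) (.leaf (nat_lit 0x70806010502030400) (nat_lit 1539))
 (.leaf (nat_lit 0x70806010502040003) (nat_lit 1546))
))) (.node (nat_lit 0x70806010503020400) (.node (nat_lit 0x70806010503000402) (.node (nat_lit 0x70806010503000204) (.leaf (nat_lit 0x70806010502040300) (nat_lit 1283))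
 (.leaf (nat_lit 0x70806010503000204) (nat_lit 1280))
) (.node (nat_lit 0x70806010503020004) (.leaf (nat_lit 0x70806010503000402) (nat_lit 1792))
 (.leaf (nat_lit 0x70806010503020004) (nat_lit 1536))
)) (.node (nat_lit 0x70806010503040200) (.node (nat_lit 0x70806010503040002) (.leaf (nat_lit 0x70806010503020400) (nat_lit 1536))
 (.leaf (nat_lit 0x70806010503040002) (nat_lit 1536))
) (.node (nat_lit 0x70806010504000203) (.leaf (nat_lit 0x70806010503040200) (nat_lit 1792))
 (.node (nat_lit 0x70806010504000302) (.leaf (nat_lit 0x70806010504000203) (nat_lit 1024))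
 (.leaf (nat_lit 0x70806010504000302) (nat_lit 1546))
)))))) (.node (nat_lit 0x70806020004010503) (.node (nat_lit 0x70806020001050304) (.node (nat_lit 0x70806020001030405) (.node (nat_lit 0x70806010504030002) (.node (nat_lit 0x70806010504020300) (.leaf (nat_lit 0x70806010504020003) (nat_lit 1280))
 (.leaf (nat_lit 0x70806010504020300) (nat_lit 1280))
) (.node (nat_lit 0x70806010504030200) (.leaf (nat_lit 0x70806010504030002) (nat_lit 1280))
 (.leaf (nat_lit 0x70806010504030200) (nat_lit 1290))
)) (.node (nat_lit 0x70806020001040305) (.node (nat_lit 0x70806020001030504) (.leaf (nat_lit 0x70806020001030405) (nat_lit 1545))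
 (.leaf (nat_lit 0x70806020001030504) (nat_lit 1289))
) (.node (nat_lit 0x70806020001040503) (.leaf (nat_lit 0x70806020001040305) (nat_lit 1289))
 (.leaf (nat_lit 0x70806020001040503) (nat_lit 1289))
))) (.node (nat_lit 0x70806020003040105) (.node (nat_lit 0x70806020003010405) (.node (nat_lit 0x70806020001050403) (.leaf (nat_lit 0x70806020001050304) (nat_lit 1545))
 (.leaf (nat_lit 0x70806020001050403) (nat_lit 1033))
) (.node (nat_lit 0x70806020003010504) (.leaf (nat_lit 0x70806020003010405) (nat_lit 1792))
 (.leaf (nat_lit 0x70806020003010504) (nat_lit 1536))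
)) (.node (nat_lit 0x70806020003050104) (.node (nat_lit 0x70806020003040501) (.leaf (nat_lit 0x70806020003040105) (nat_lit 1536))
 (.leaf (nat_lit 0x70806020003040501) (nat_lit 1536))
) (.node (nat_lit 0x70806020003050401) (.leaf (nat_lit 0x70806020003050104) (nat_lit 1792))
 (.node (nat_lit 0x70806020004010305) (.leaf (nat_lit 0x70806020003050401) (nat_lit 1280))
 (.leaf (nat_lit 0x70806020004010305) (nat_lit 1794))
))))) (.node (nat_lit 0x70806020005030401) (.node (nat_lit 0x70806020004050301) (.node (nat_lit 0x70806020004030501) (.node (nat_lit 0x70806020004030105) (.leaf (nat_lit 0x70806020004010503) (nat_lit 1795))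
 (.leaf (nat_lit 0x70806020004030105) (nat_lit 1793))
) (.node (nat_lit 0x70806020004050103) (.leaf (nat_lit 0x70806020004030501) (nat_lit 1538))
 (.leaf (nat_lit 0x70806020004050103) (nat_lit 1794))
)) (.node (nat_lit 0x70806020005010403) (.node (nat_lit 0x70806020005010304) (.leaf (nat_lit 0x70806020004050301) (nat_lit 1794))
 (.leaf (nat_lit 0x70806020005010304) (nat_lit 1546))
) (.node (nat_lit 0x70806020005030104) (.leaf (nat_lit 0x70806020005010403) (nat_lit 1795))
 (.leaf (nat_lit 0x70806020005030104) (nat_lit 1795))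
))) (.node (nat_lit 0x70806020100030504) (.node (nat_lit 0x70806020005040301) (.node (nat_lit 0x70806020005040103) (.leaf (nat_lit 0x70806020005030401) (nat_lit 1802))
 (.leaf (nat_lit 0x70806020005040103) (nat_lit 1802))
) (.node (nat_lit 0x70806020100030405) (.leaf (nat_lit 0x70806020005040301) (nat_lit 1539))
 (.leaf (nat_lit 0x70806020100030405) (nat_lit 1033))
)) (.node (nat_lit 0x70806020100040503) (.node (nat_lit 0x70806020100040305) (.leaf (nat_lit 0x70806020100030504) (nat_lit 777))
 (.leaf (nat_lit 0x70806020100040305) (nat_lit 777))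
) (.node (nat_lit 0x70806020100050304) (.leaf (nat_lit 0x70806020100040503) (nat_lit 777))
 (.node (nat_lit 0x70806020100050403) (.leaf (nat_lit 0x70806020100050304) (nat_lit 1033))
 (.leaf (nat_lit 0x70806020100050403) (nat_lit 521))
))))))))) (.node (nat_lit 0x70806030105020400) (.node (nat_lit 0x70806020500010403) (.node (nat_lit 0x70806020304010500) (.node (nat_lit 0x70806020105040003) (.node (nat_lit 0x70806020104030005) (.node (nat_lit 0x70806020103050004) (.node (nat_lit 0x70806020103040005) (.node (nat_lit 0x70806020103000504) (.leaf (nat_lit 0x70806020103000405) (nat_lit 1290))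
 (.leaf (nat_lit 0x70806020103000504) (nat_lit 1034))
) (.node (nat_lit 0x70806020103040500) (.leaf (nat_lit 0x70806020103040005) (nat_lit 1034))
 (.leaf (nat_lit 0x70806020103040500) (nat_lit 1034))
)) (.node (nat_lit 0x70806020104000305) (.node (nat_lit 0x70806020103050400) (.leaf (nat_lit 0x70806020103050004) (nat_lit 1290))
 (.leaf (nat_lit 0x70806020103050400) (nat_lit 778))
) (.node (nat_lit 0x70806020104000503) (.leaf (nat_lit 0x70806020104000305) (nat_lit 1282))
 (.leaf (nat_lit 0x70806020104000503) (nat_lit 1290))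
))) (.node (nat_lit 0x70806020105000304) (.node (nat_lit 0x70806020104050003) (.node (nat_lit 0x70806020104030500) (.leaf (nat_lit 0x70806020104030005) (nat_lit 1546))
 (.leaf (nat_lit 0x70806020104030500) (nat_lit 1026))
) (.node (nat_lit 0x70806020104050300) (.leaf (nat_lit 0x70806020104050003) (nat_lit 1282))
 (.leaf (nat_lit 0x70806020104050300) (nat_lit 1282))
)) (.node (nat_lit 0x70806020105030004) (.node (nat_lit 0x70806020105000403) (.leaf (nat_lit 0x70806020105000304) (nat_lit 1539))
 (.leaf (nat_lit 0x70806020105000403) (nat_lit 1283))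
) (.node (nat_lit 0x70806020105030400) (.leaf (nat_lit 0x70806020105030004) (nat_lit 1283))
 (.leaf (nat_lit 0x70806020105030400) (nat_lit 1283))
)))) (.node (nat_lit 0x70806020301000405) (.node (nat_lit 0x70806020300040105) (.node (nat_lit 0x70806020300010405) (.node (nat_lit 0x70806020105040300) (.leaf (nat_lit 0x70806020105040003) (nat_lit 1290))
 (.leaf (nat_lit 0x70806020105040300) (nat_lit 1027))
) (.node (nat_lit 0x70806020300010504) (.leaf (nat_lit 0x70806020300010405) (nat_lit 1792))
 (.leaf (nat_lit 0x70806020300010504) (nat_lit 1536))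
)) (.node (nat_lit 0x70806020300050104) (.node (nat_lit 0x70806020300040501) (.leaf (nat_lit 0x70806020300040105) (nat_lit 1536))
 (.leaf (nat_lit 0x70806020300040501) (nat_lit 1536))
) (.node (nat_lit 0x70806020300050401) (.leaf (nat_lit 0x70806020300050104) (nat_lit 1792))
 (.leaf (nat_lit 0x70806020300050401) (nat_lit 1280))
))) (.node (nat_lit 0x70806020301050004) (.node (nat_lit 0x70806020301040005) (.node (nat_lit 0x70806020301000504) (.leaf (nat_lit 0x70806020301000405) (nat_lit 1802))
 (.leaf (nat_lit 0x70806020301000504) (nat_lit 1546))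
) (.node (nat_lit 0x70806020301040500) (.leaf (nat_lit 0x70806020301040005) (nat_lit 1546))
 (.leaf (nat_lit 0x70806020301040500) (nat_lit 1546))
)) (.node (nat_lit 0x70806020304000105) (.node (nat_lit 0x70806020301050400) (.leaf (nat_lit 0x70806020301050004) (nat_lit 1802))
 (.leaf (nat_lit 0x70806020301050400) (nat_lit 1290))
) (.node (nat_lit 0x70806020304000501) (.leaf (nat_lit 0x70806020304000105) (nat_lit 1795))
 (.node (nat_lit 0x70806020304010005) (.leaf (nat_lit 0x70806020304000501) (nat_lit 1795))
 (.leaf (nat_lit 0x70806020304010005) (nat_lit 1539))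
)))))) (.node (nat_lit 0x70806020401030005) (.node (nat_lit 0x70806020305040100) (.node (nat_lit 0x70806020305000401) (.node (nat_lit 0x70806020304050100) (.node (nat_lit 0x70806020304050001) (.leaf (nat_lit 0x70806020304010500) (nat_lit 1795))
 (.leaf (nat_lit 0x70806020304050001) (nat_lit 2051))
) (.node (nat_lit 0x70806020305000104) (.leaf (nat_lit 0x70806020304050100) (nat_lit 1795))
 (.leaf (nat_lit 0x70806020305000104) (nat_lit 1538))
)) (.node (nat_lit 0x70806020305010400) (.node (nat_lit 0x70806020305010004) (.leaf (nat_lit 0x70806020305000401) (nat_lit 1538))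
 (.leaf (nat_lit 0x70806020305010004) (nat_lit 1282))
) (.node (nat_lit 0x70806020305040001) (.leaf (nat_lit 0x70806020305010400) (nat_lit 1538))
 (.leaf (nat_lit 0x70806020305040001) (nat_lit 1794))
))) (.node (nat_lit 0x70806020400030501) (.node (nat_lit 0x70806020400010503) (.node (nat_lit 0x70806020400010305) (.leaf (nat_lit 0x70806020305040100) (nat_lit 1538))
 (.leaf (nat_lit 0x70806020400010305) (nat_lit 1546))
) (.node (nat_lit 0x70806020400030105) (.leaf (nat_lit 0x70806020400010503) (nat_lit 1802))
 (.leaf (nat_lit 0x70806020400030105) (nat_lit 1802))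
)) (.node (nat_lit 0x70806020400050301) (.node (nat_lit 0x70806020400050103) (.leaf (nat_lit 0x70806020400030501) (nat_lit 1538))
 (.leaf (nat_lit 0x70806020400050103) (nat_lit 1802))
) (.node (nat_lit 0x70806020401000305) (.leaf (nat_lit 0x70806020400050301) (nat_lit 1794))
 (.node (nat_lit 0x70806020401000503) (.leaf (nat_lit 0x70806020401000305) (nat_lit 1794))
 (.leaf (nat_lit 0x70806020401000503) (nat_lit 1802))
))))) (.node (nat_lit 0x70806020403050001) (.node (nat_lit 0x70806020403000105) (.node (nat_lit 0x70806020401050003) (.node (nat_lit 0x70806020401030500) (.leaf (nat_lit 0x70806020401030005) (nat_lit 1792))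
 (.leaf (nat_lit 0x70806020401030500) (nat_lit 1538))
) (.node (nat_lit 0x70806020401050300) (.leaf (nat_lit 0x70806020401050003) (nat_lit 1794))
 (.leaf (nat_lit 0x70806020401050300) (nat_lit 1794))
)) (.node (nat_lit 0x70806020403010005) (.node (nat_lit 0x70806020403000501) (.leaf (nat_lit 0x70806020403000105) (nat_lit 1539))
 (.leaf (nat_lit 0x70806020403000501) (nat_lit 1539))
) (.node (nat_lit 0x70806020403010500) (.leaf (nat_lit 0x70806020403010005) (nat_lit 1283))
 (.leaf (nat_lit 0x70806020403010500) (nat_lit 1539))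
))) (.node (nat_lit 0x70806020405010003) (.node (nat_lit 0x70806020405000103) (.node (nat_lit 0x70806020403050100) (.leaf (nat_lit 0x70806020403050001) (nat_lit 1795))
 (.leaf (nat_lit 0x70806020403050100) (nat_lit 1539))
) (.node (nat_lit 0x70806020405000301) (.leaf (nat_lit 0x70806020405000103) (nat_lit 1537))
 (.leaf (nat_lit 0x70806020405000301) (nat_lit 1537))
)) (.node (nat_lit 0x70806020405030001) (.node (nat_lit 0x70806020405010300) (.leaf (nat_lit 0x70806020405010003) (nat_lit 1281))
 (.leaf (nat_lit 0x70806020405010300) (nat_lit 1546))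
) (.node (nat_lit 0x70806020405030100) (.leaf (nat_lit 0x70806020405030001) (nat_lit 1793))
 (.node (nat_lit 0x70806020500010304) (.leaf (nat_lit 0x70806020405030100) (nat_lit 1537))
 (.leaf (nat_lit 0x70806020500010304) (nat_lit 1546))
))))))) (.node (nat_lit 0x70806030002050401) (.node (nat_lit 0x70806020504000103) (.node (nat_lit 0x70806020501030400) (.node (nat_lit 0x70806020500040301) (.node (nat_lit 0x70806020500030401) (.node (nat_lit 0x70806020500030104) (.leaf (nat_lit 0x70806020500010403) (nat_lit 1795))
 (.leaf (nat_lit 0x70806020500030104) (nat_lit 1537))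
) (.node (nat_lit 0x70806020500040103) (.leaf (nat_lit 0x70806020500030401) (nat_lit 1802))
 (.leaf (nat_lit 0x70806020500040103) (nat_lit 1802))
)) (.node (nat_lit 0x70806020501000403) (.node (nat_lit 0x70806020501000304) (.leaf (nat_lit 0x70806020500040301) (nat_lit 1539))
 (.leaf (nat_lit 0x70806020501000304) (nat_lit 1537))
) (.node (nat_lit 0x70806020501030004) (.leaf (nat_lit 0x70806020501000403) (nat_lit 1795))
 (.leaf (nat_lit 0x70806020501030004) (nat_lit 1795))
))) (.node (nat_lit 0x70806020503000401) (.node (nat_lit 0x70806020501040300) (.node (nat_lit 0x70806020501040003) (.leaf (nat_lit 0x70806020501030400) (nat_lit 1793))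
 (.leaf (nat_lit 0x70806020501040003) (nat_lit 1793))
) (.node (nat_lit 0x70806020503000104) (.leaf (nat_lit 0x70806020501040300) (nat_lit 1539))
 (.leaf (nat_lit 0x70806020503000104) (nat_lit 1537))
)) (.node (nat_lit 0x70806020503010400) (.node (nat_lit 0x70806020503010004) (.leaf (nat_lit 0x70806020503000401) (nat_lit 1537))
 (.leaf (nat_lit 0x70806020503010004) (nat_lit 1281))
) (.node (nat_lit 0x70806020503040001) (.leaf (nat_lit 0x70806020503010400) (nat_lit 1793))
 (.node (nat_lit 0x70806020503040100) (.leaf (nat_lit 0x70806020503040001) (nat_lit 1793))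
 (.leaf (nat_lit 0x70806020503040100) (nat_lit 1537))
))))) (.node (nat_lit 0x70806030001040205) (.node (nat_lit 0x70806020504030001) (.node (nat_lit 0x70806020504010003) (.node (nat_lit 0x70806020504000301) (.leaf (nat_lit 0x70806020504000103) (nat_lit 1281))
 (.leaf (nat_lit 0x70806020504000301) (nat_lit 1281))
) (.node (nat_lit 0x70806020504010300) (.leaf (nat_lit 0x70806020504010003) (nat_lit 1025))
 (.leaf (nat_lit 0x70806020504010300) (nat_lit 1290))
)) (.node (nat_lit 0x70806030001020405) (.node (nat_lit 0x70806020504030100) (.leaf (nat_lit 0x70806020504030001) (nat_lit 1537))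
 (.leaf (nat_lit 0x70806020504030100) (nat_lit 1281))
) (.node (nat_lit 0x70806030001020504) (.leaf (nat_lit 0x70806030001020405) (nat_lit 1795))
 (.leaf (nat_lit 0x70806030001020504) (nat_lit 1793))
))) (.node (nat_lit 0x70806030002010405) (.node (nat_lit 0x70806030001050204) (.node (nat_lit 0x70806030001040502) (.leaf (nat_lit 0x70806030001040205) (nat_lit 1793))
 (.leaf (nat_lit 0x70806030001040502) (nat_lit 1795))
) (.node (nat_lit 0x70806030001050402) (.leaf (nat_lit 0x70806030001050204) (nat_lit 1539))
 (.leaf (nat_lit 0x70806030001050402) (nat_lit 1537))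
)) (.node (nat_lit 0x70806030002040105) (.node (nat_lit 0x70806030002010504) (.leaf (nat_lit 0x70806030002010405) (nat_lit 1792))
 (.leaf (nat_lit 0x70806030002010504) (nat_lit 1536))
) (.node (nat_lit 0x70806030002040501) (.leaf (nat_lit 0x70806030002040105) (nat_lit 1536))
 (.node (nat_lit 0x70806030002050104) (.leaf (nat_lit 0x70806030002040501) (nat_lit 1536))
 (.leaf (nat_lit 0x70806030002050104) (nat_lit 1792))
)))))) (.node (nat_lit 0x70806030100050204) (.node (nat_lit 0x70806030005010402) (.node (nat_lit 0x70806030004020501) (.node (nat_lit 0x70806030004010502) (.node (nat_lit 0x70806030004010205) (.leaf (nat_lit 0x70806030002050401) (nat_lit 1280))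
 (.leaf (nat_lit 0x70806030004010205) (nat_lit 1283))
) (.node (nat_lit 0x70806030004020105) (.leaf (nat_lit 0x70806030004010502) (nat_lit 1283))
 (.leaf (nat_lit 0x70806030004020105) (nat_lit 1027))
)) (.node (nat_lit 0x70806030004050201) (.node (nat_lit 0x70806030004050102) (.leaf (nat_lit 0x70806030004020501) (nat_lit 1539))
 (.leaf (nat_lit 0x70806030004050102) (nat_lit 1539))
) (.node (nat_lit 0x70806030005010204) (.leaf (nat_lit 0x70806030004050201) (nat_lit 1283))
 (.leaf (nat_lit 0x70806030005010204) (nat_lit 1546))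
))) (.node (nat_lit 0x70806030005040201) (.node (nat_lit 0x70806030005020401) (.node (nat_lit 0x70806030005020104) (.leaf (nat_lit 0x70806030005010402) (nat_lit 1546))
 (.leaf (nat_lit 0x70806030005020104) (nat_lit 1290))
) (.node (nat_lit 0x70806030005040102) (.leaf (nat_lit 0x70806030005020401) (nat_lit 1802))
 (.leaf (nat_lit 0x70806030005040102) (nat_lit 1802))
)) (.node (nat_lit 0x70806030100020504) (.node (nat_lit 0x70806030100020405) (.leaf (nat_lit 0x70806030005040201) (nat_lit 1546))
 (.leaf (nat_lit 0x70806030100020405) (nat_lit 1793))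
) (.node (nat_lit 0x70806030100040205) (.leaf (nat_lit 0x70806030100020504) (nat_lit 1537))
 (.node (nat_lit 0x70806030100040502) (.leaf (nat_lit 0x70806030100040205) (nat_lit 1537))
 (.leaf (nat_lit 0x70806030100040502) (nat_lit 1537))
))))) (.node (nat_lit 0x70806030104000205) (.node (nat_lit 0x70806030102040005) (.node (nat_lit 0x70806030102000405) (.node (nat_lit 0x70806030100050402) (.leaf (nat_lit 0x70806030100050204) (nat_lit 1793))
 (.leaf (nat_lit 0x70806030100050402) (nat_lit 1281))
) (.node (nat_lit 0x70806030102000504) (.leaf (nat_lit 0x70806030102000405) (nat_lit 1802))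
 (.leaf (nat_lit 0x70806030102000504) (nat_lit 1546))
)) (.node (nat_lit 0x70806030102050004) (.node (nat_lit 0x70806030102040500) (.leaf (nat_lit 0x70806030102040005) (nat_lit 1546))
 (.leaf (nat_lit 0x70806030102040500) (nat_lit 1546))
) (.node (nat_lit 0x70806030102050400) (.leaf (nat_lit 0x70806030102050004) (nat_lit 1802))
 (.leaf (nat_lit 0x70806030102050400) (nat_lit 1290))
))) (.node (nat_lit 0x70806030104050002) (.node (nat_lit 0x70806030104020005) (.node (nat_lit 0x70806030104000502) (.leaf (nat_lit 0x70806030104000205) (nat_lit 1283))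
 (.leaf (nat_lit 0x70806030104000502) (nat_lit 1795))
) (.node (nat_lit 0x70806030104020500) (.leaf (nat_lit 0x70806030104020005) (nat_lit 1539))
 (.leaf (nat_lit 0x70806030104020500) (nat_lit 1539))
)) (.node (nat_lit 0x70806030105000204) (.node (nat_lit 0x70806030104050200) (.leaf (nat_lit 0x70806030104050002) (nat_lit 1539))
 (.leaf (nat_lit 0x70806030104050200) (nat_lit 1539))
) (.node (nat_lit 0x70806030105000402) (.leaf (nat_lit 0x70806030105000204) (nat_lit 1536))
 (.node (nat_lit 0x70806030105020004) (.leaf (nat_lit 0x70806030105000402) (nat_lit 2050))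
 (.leaf (nat_lit 0x70806030105020004) (nat_lit 1792))
)))))))) (.node (nat_lit 0x70806030502040001) (.node (nat_lit 0x70806030401000205) (.node (nat_lit 0x70806030204000501) (.node (nat_lit 0x70806030200050401) (.node (nat_lit 0x70806030200010504) (.node (nat_lit 0x70806030105040200) (.node (nat_lit 0x70806030105040002) (.leaf (nat_lit 0x70806030105020400) (nat_lit 1792))
 (.leaf (nat_lit 0x70806030105040002) (nat_lit 1792))
) (.node (nat_lit 0x70806030200010405) (.leaf (nat_lit 0x70806030105040200) (nat_lit 1794))
 (.leaf (nat_lit 0x70806030200010405) (nat_lit 1802))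
)) (.node (nat_lit 0x70806030200040501) (.node (nat_lit 0x70806030200040105) (.leaf (nat_lit 0x70806030200010504) (nat_lit 1546))
 (.leaf (nat_lit 0x70806030200040105) (nat_lit 1546))
) (.node (nat_lit 0x70806030200050104) (.leaf (nat_lit 0x70806030200040501) (nat_lit 1546))
 (.leaf (nat_lit 0x70806030200050104) (nat_lit 1802))
))) (.node (nat_lit 0x70806030201040500) (.node (nat_lit 0x70806030201000504) (.node (nat_lit 0x70806030201000405) (.leaf (nat_lit 0x70806030200050401) (nat_lit 1290))
 (.leaf (nat_lit 0x70806030201000405) (nat_lit 1546))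
) (.node (nat_lit 0x70806030201040005) (.leaf (nat_lit 0x70806030201000504) (nat_lit 1290))
 (.leaf (nat_lit 0x70806030201040005) (nat_lit 1290))
)) (.node (nat_lit 0x70806030201050400) (.node (nat_lit 0x70806030201050004) (.leaf (nat_lit 0x70806030201040500) (nat_lit 1290))
 (.leaf (nat_lit 0x70806030201050004) (nat_lit 1546))
) (.node (nat_lit 0x70806030204000105) (.leaf (nat_lit 0x70806030201050400) (nat_lit 1034))
 (.leaf (nat_lit 0x70806030204000105) (nat_lit 1539))
)))) (.node (nat_lit 0x70806030205010400) (.node (nat_lit 0x70806030204050100) (.node (nat_lit 0x70806030204010500) (.node (nat_lit 0x70806030204010005) (.leaf (nat_lit 0x70806030204000501) (nat_lit 1539))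
 (.leaf (nat_lit 0x70806030204010005) (nat_lit 1283))
) (.node (nat_lit 0x70806030204050001) (.leaf (nat_lit 0x70806030204010500) (nat_lit 1539))
 (.leaf (nat_lit 0x70806030204050001) (nat_lit 1795))
)) (.node (nat_lit 0x70806030205000401) (.node (nat_lit 0x70806030205000104) (.leaf (nat_lit 0x70806030204050100) (nat_lit 1539))
 (.leaf (nat_lit 0x70806030205000104) (nat_lit 1802))
) (.node (nat_lit 0x70806030205010004) (.leaf (nat_lit 0x70806030205000401) (nat_lit 1793))
 (.leaf (nat_lit 0x70806030205010004) (nat_lit 1537))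
))) (.node (nat_lit 0x70806030400010502) (.node (nat_lit 0x70806030205040100) (.node (nat_lit 0x70806030205040001) (.leaf (nat_lit 0x70806030205010400) (nat_lit 1802))
 (.leaf (nat_lit 0x70806030205040001) (nat_lit 1546))
) (.node (nat_lit 0x70806030400010205) (.leaf (nat_lit 0x70806030205040100) (nat_lit 1793))
 (.leaf (nat_lit 0x70806030400010205) (nat_lit 1283))
)) (.node (nat_lit 0x70806030400020501) (.node (nat_lit 0x70806030400020105) (.leaf (nat_lit 0x70806030400010502) (nat_lit 1283))
 (.leaf (nat_lit 0x70806030400020105) (nat_lit 1027))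
) (.node (nat_lit 0x70806030400050102) (.leaf (nat_lit 0x70806030400020501) (nat_lit 1539))
 (.node (nat_lit 0x70806030400050201) (.leaf (nat_lit 0x70806030400050102) (nat_lit 1539))
 (.leaf (nat_lit 0x70806030400050201) (nat_lit 1283))
)))))) (.node (nat_lit 0x70806030405020100) (.node (nat_lit 0x70806030402010005) (.node (nat_lit 0x70806030401050002) (.node (nat_lit 0x70806030401020005) (.node (nat_lit 0x70806030401000502) (.leaf (nat_lit 0x70806030401000205) (nat_lit 1283))
 (.leaf (nat_lit 0x70806030401000502) (nat_lit 1795))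
) (.node (nat_lit 0x70806030401020500) (.leaf (nat_lit 0x70806030401020005) (nat_lit 1539))
 (.leaf (nat_lit 0x70806030401020500) (nat_lit 1539))
)) (.node (nat_lit 0x70806030402000105) (.node (nat_lit 0x70806030401050200) (.leaf (nat_lit 0x70806030401050002) (nat_lit 1539))
 (.leaf (nat_lit 0x70806030401050200) (nat_lit 1539))
) (.node (nat_lit 0x70806030402000501) (.leaf (nat_lit 0x70806030402000105) (nat_lit 1539))
 (.leaf (nat_lit 0x70806030402000501) (nat_lit 1539))
))) (.node (nat_lit 0x70806030405000102) (.node (nat_lit 0x70806030402050001) (.node (nat_lit 0x70806030402010500) (.leaf (nat_lit 0x70806030402010005) (nat_lit 1283))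
 (.leaf (nat_lit 0x70806030402010500) (nat_lit 1539))
) (.node (nat_lit 0x70806030402050100) (.leaf (nat_lit 0x70806030402050001) (nat_lit 1795))
 (.leaf (nat_lit 0x70806030402050100) (nat_lit 1539))
)) (.node (nat_lit 0x70806030405010002) (.node (nat_lit 0x70806030405000201) (.leaf (nat_lit 0x70806030405000102) (nat_lit 1288))
 (.leaf (nat_lit 0x70806030405000201) (nat_lit 1032))
) (.node (nat_lit 0x70806030405010200) (.leaf (nat_lit 0x70806030405010002) (nat_lit 1032))
 (.node (nat_lit 0x70806030405020001) (.leaf (nat_lit 0x70806030405010200) (nat_lit 1032))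
 (.leaf (nat_lit 0x70806030405020001) (nat_lit 1288))
))))) (.node (nat_lit 0x70806030501000402) (.node (nat_lit 0x70806030500020401) (.node (nat_lit 0x70806030500010402) (.node (nat_lit 0x70806030500010204) (.leaf (nat_lit 0x70806030405020100) (nat_lit 776))
 (.leaf (nat_lit 0x70806030500010204) (nat_lit 1026))
) (.node (nat_lit 0x70806030500020104) (.leaf (nat_lit 0x70806030500010402) (nat_lit 1026))
 (.leaf (nat_lit 0x70806030500020104) (nat_lit 770))
)) (.node (nat_lit 0x70806030500040201) (.node (nat_lit 0x70806030500040102) (.leaf (nat_lit 0x70806030500020401) (nat_lit 1282))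
 (.leaf (nat_lit 0x70806030500040102) (nat_lit 1282))
) (.node (nat_lit 0x70806030501000204) (.leaf (nat_lit 0x70806030500040201) (nat_lit 1026))
 (.leaf (nat_lit 0x70806030501000204) (nat_lit 1026))
))) (.node (nat_lit 0x70806030501040200) (.node (nat_lit 0x70806030501020400) (.node (nat_lit 0x70806030501020004) (.leaf (nat_lit 0x70806030501000402) (nat_lit 1538))
 (.leaf (nat_lit 0x70806030501020004) (nat_lit 1282))
) (.node (nat_lit 0x70806030501040002) (.leaf (nat_lit 0x70806030501020400) (nat_lit 1282))
 (.leaf (nat_lit 0x70806030501040002) (nat_lit 1282))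
)) (.node (nat_lit 0x70806030502000401) (.node (nat_lit 0x70806030502000104) (.leaf (nat_lit 0x70806030501040200) (nat_lit 1282))
 (.leaf (nat_lit 0x70806030502000104) (nat_lit 1282))
) (.node (nat_lit 0x70806030502010004) (.leaf (nat_lit 0x70806030502000401) (nat_lit 1282))
 (.node (nat_lit 0x70806030502010400) (.leaf (nat_lit 0x70806030502010004) (nat_lit 1026))
 (.leaf (nat_lit 0x70806030502010400) (nat_lit 1282))
))))))) (.node (nat_lit 0x70806040100030205) (.node (nat_lit 0x70806040002030501) (.node (nat_lit 0x70806040001020305) (.node (nat_lit 0x70806030504010002) (.node (nat_lit 0x70806030504000102) (.node (nat_lit 0x70806030502040100) (.leaf (nat_lit 0x70806030502040001) (nat_lit 1538))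
 (.leaf (nat_lit 0x70806030502040100) (nat_lit 1282))
) (.node (nat_lit 0x70806030504000201) (.leaf (nat_lit 0x70806030504000102) (nat_lit 1032))
 (.leaf (nat_lit 0x70806030504000201) (nat_lit 776))
)) (.node (nat_lit 0x70806030504020001) (.node (nat_lit 0x70806030504010200) (.leaf (nat_lit 0x70806030504010002) (nat_lit 776))
 (.leaf (nat_lit 0x70806030504010200) (nat_lit 776))
) (.node (nat_lit 0x70806030504020100) (.leaf (nat_lit 0x70806030504020001) (nat_lit 1032))
 (.leaf (nat_lit 0x70806030504020100) (nat_lit 520))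
))) (.node (nat_lit 0x70806040001050203) (.node (nat_lit 0x70806040001030205) (.node (nat_lit 0x70806040001020503) (.leaf (nat_lit 0x70806040001020305) (nat_lit 1546))
 (.leaf (nat_lit 0x70806040001020503) (nat_lit 1546))
) (.node (nat_lit 0x70806040001030502) (.leaf (nat_lit 0x70806040001030205) (nat_lit 1290))
 (.leaf (nat_lit 0x70806040001030502) (nat_lit 1802))
)) (.node (nat_lit 0x70806040002010305) (.node (nat_lit 0x70806040001050302) (.leaf (nat_lit 0x70806040001050203) (nat_lit 1546))
 (.leaf (nat_lit 0x70806040001050302) (nat_lit 1546))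
) (.node (nat_lit 0x70806040002010503) (.leaf (nat_lit 0x70806040002010305) (nat_lit 1290))
 (.node (nat_lit 0x70806040002030105) (.leaf (nat_lit 0x70806040002010503) (nat_lit 1546))
 (.leaf (nat_lit 0x70806040002030105) (nat_lit 1546))
))))) (.node (nat_lit 0x70806040003050201) (.node (nat_lit 0x70806040003010502) (.node (nat_lit 0x70806040002050301) (.node (nat_lit 0x70806040002050103) (.leaf (nat_lit 0x70806040002030501) (nat_lit 1546))
 (.leaf (nat_lit 0x70806040002050103) (nat_lit 1546))
) (.node (nat_lit 0x70806040003010205) (.leaf (nat_lit 0x70806040002050301) (nat_lit 1802))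
 (.leaf (nat_lit 0x70806040003010205) (nat_lit 1290))
)) (.node (nat_lit 0x70806040003020501) (.node (nat_lit 0x70806040003020105) (.leaf (nat_lit 0x70806040003010502) (nat_lit 1290))
 (.leaf (nat_lit 0x70806040003020105) (nat_lit 1034))
) (.node (nat_lit 0x70806040003050102) (.leaf (nat_lit 0x70806040003020501) (nat_lit 1546))
 (.leaf (nat_lit 0x70806040003050102) (nat_lit 1546))
))) (.node (nat_lit 0x70806040005020301) (.node (nat_lit 0x70806040005010302) (.node (nat_lit 0x70806040005010203) (.leaf (nat_lit 0x70806040003050201) (nat_lit 1290))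
 (.leaf (nat_lit 0x70806040005010203) (nat_lit 1034))
) (.node (nat_lit 0x70806040005020103) (.leaf (nat_lit 0x70806040005010302) (nat_lit 1034))
 (.leaf (nat_lit 0x70806040005020103) (nat_lit 778))
)) (.node (nat_lit 0x70806040005030201) (.node (nat_lit 0x70806040005030102) (.leaf (nat_lit 0x70806040005020301) (nat_lit 1290))
 (.leaf (nat_lit 0x70806040005030102) (nat_lit 1290))
) (.node (nat_lit 0x70806040100020305) (.leaf (nat_lit 0x70806040005030201) (nat_lit 1034))
 (.node (nat_lit 0x70806040100020503) (.leaf (nat_lit 0x70806040100020305) (nat_lit 1536))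
 (.leaf (nat_lit 0x70806040100020503) (nat_lit 1802))
)))))) (.node (nat_lit 0x70806040105000302) (.node (nat_lit 0x70806040102050003) (.node (nat_lit 0x70806040102000305) (.node (nat_lit 0x70806040100050203) (.node (nat_lit 0x70806040100030502) (.leaf (nat_lit 0x70806040100030205) (nat_lit 1546))
 (.leaf (nat_lit 0x70806040100030502) (nat_lit 1538))
) (.node (nat_lit 0x70806040100050302) (.leaf (nat_lit 0x70806040100050203) (nat_lit 1792))
 (.leaf (nat_lit 0x70806040100050302) (nat_lit 1802))
)) (.node (nat_lit 0x70806040102030005) (.node (nat_lit 0x70806040102000503) (.leaf (nat_lit 0x70806040102000305) (nat_lit 1794))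
 (.leaf (nat_lit 0x70806040102000503) (nat_lit 1792))
) (.node (nat_lit 0x70806040102030500) (.leaf (nat_lit 0x70806040102030005) (nat_lit 1536))
 (.leaf (nat_lit 0x70806040102030500) (nat_lit 1538))
))) (.node (nat_lit 0x70806040103020005) (.node (nat_lit 0x70806040103000205) (.node (nat_lit 0x70806040102050300) (.leaf (nat_lit 0x70806040102050003) (nat_lit 1794))
 (.leaf (nat_lit 0x70806040102050300) (nat_lit 1792))
) (.node (nat_lit 0x70806040103000502) (.leaf (nat_lit 0x70806040103000205) (nat_lit 1280))
 (.leaf (nat_lit 0x70806040103000502) (nat_lit 1792))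
)) (.node (nat_lit 0x70806040103050002) (.node (nat_lit 0x70806040103020500) (.leaf (nat_lit 0x70806040103020005) (nat_lit 1536))
 (.leaf (nat_lit 0x70806040103020500) (nat_lit 1536))
) (.node (nat_lit 0x70806040103050200) (.leaf (nat_lit 0x70806040103050002) (nat_lit 1536))
 (.node (nat_lit 0x70806040105000203) (.leaf (nat_lit 0x70806040103050200) (nat_lit 1792))
 (.leaf (nat_lit 0x70806040105000203) (nat_lit 1024))
))))) (.node (nat_lit 0x70806040200030501) (.node (nat_lit 0x70806040105030200) (.node (nat_lit 0x70806040105020300) (.node (nat_lit 0x70806040105020003) (.leaf (nat_lit 0x70806040105000302) (nat_lit 1546))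
 (.leaf (nat_lit 0x70806040105020003) (nat_lit 1280))
) (.node (nat_lit 0x70806040105030002) (.leaf (nat_lit 0x70806040105020300) (nat_lit 1280))
 (.leaf (nat_lit 0x70806040105030002) (nat_lit 1280))
)) (.node (nat_lit 0x70806040200010503) (.node (nat_lit 0x70806040200010305) (.leaf (nat_lit 0x70806040105030200) (nat_lit 1290))
 (.leaf (nat_lit 0x70806040200010305) (nat_lit 1546))
) (.node (nat_lit 0x70806040200030105) (.leaf (nat_lit 0x70806040200010503) (nat_lit 1793))
 (.leaf (nat_lit 0x70806040200030105) (nat_lit 1537))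
))) (.node (nat_lit 0x70806040201000503) (.node (nat_lit 0x70806040200050301) (.node (nat_lit 0x70806040200050103) (.leaf (nat_lit 0x70806040200030501) (nat_lit 1538))
 (.leaf (nat_lit 0x70806040200050103) (nat_lit 1802))
) (.node (nat_lit 0x70806040201000305) (.leaf (nat_lit 0x70806040200050301) (nat_lit 1793))
 (.leaf (nat_lit 0x70806040201000305) (nat_lit 1538))
)) (.node (nat_lit 0x70806040201030500) (.node (nat_lit 0x70806040201030005) (.leaf (nat_lit 0x70806040201000503) (nat_lit 1546))
 (.leaf (nat_lit 0x70806040201030005) (nat_lit 1802))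
) (.node (nat_lit 0x70806040201050003) (.leaf (nat_lit 0x70806040201030500) (nat_lit 1282))
 (.node (nat_lit 0x70806040201050300) (.leaf (nat_lit 0x70806040201050003) (nat_lit 1538))
 (.leaf (nat_lit 0x70806040201050300) (nat_lit 1538))
)))))))))) (.node (nat_lit 0x80607000405010203) (.node (nat_lit 0x70806050300020401) (.node (nat_lit 0x70806050002010403) (.node (nat_lit 0x70806040305010200) (.node (nat_lit 0x70806040300050102) (.node (nat_lit 0x70806040205010003) (.node (nat_lit 0x70806040203050001) (.node (nat_lit 0x70806040203010005) (.node (nat_lit 0x70806040203000501) (.leaf (nat_lit 0x70806040203000105) (nat_lit 1537))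
 (.leaf (nat_lit 0x70806040203000501) (nat_lit 1537))
) (.node (nat_lit 0x70806040203010500) (.leaf (nat_lit 0x70806040203010005) (nat_lit 1281))
 (.leaf (nat_lit 0x70806040203010500) (nat_lit 1793))
)) (.node (nat_lit 0x70806040205000103) (.node (nat_lit 0x70806040203050100) (.leaf (nat_lit 0x70806040203050001) (nat_lit 1793))
 (.leaf (nat_lit 0x70806040203050100) (nat_lit 1537))
) (.node (nat_lit 0x70806040205000301) (.leaf (nat_lit 0x70806040205000103) (nat_lit 1281))
 (.leaf (nat_lit 0x70806040205000301) (nat_lit 1281))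
))) (.node (nat_lit 0x70806040300010205) (.node (nat_lit 0x70806040205030001) (.node (nat_lit 0x70806040205010300) (.leaf (nat_lit 0x70806040205010003) (nat_lit 1025))
 (.leaf (nat_lit 0x70806040205010300) (nat_lit 1290))
) (.node (nat_lit 0x70806040205030100) (.leaf (nat_lit 0x70806040205030001) (nat_lit 1537))
 (.leaf (nat_lit 0x70806040205030100) (nat_lit 1281))
)) (.node (nat_lit 0x70806040300020105) (.node (nat_lit 0x70806040300010502) (.leaf (nat_lit 0x70806040300010205) (nat_lit 1027))
 (.leaf (nat_lit 0x70806040300010502) (nat_lit 1027))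
) (.node (nat_lit 0x70806040300020501) (.leaf (nat_lit 0x70806040300020105) (nat_lit 771))
 (.leaf (nat_lit 0x70806040300020501) (nat_lit 1283))
)))) (.node (nat_lit 0x70806040302000105) (.node (nat_lit 0x70806040301020005) (.node (nat_lit 0x70806040301000205) (.node (nat_lit 0x70806040300050201) (.leaf (nat_lit 0x70806040300050102) (nat_lit 1283))
 (.leaf (nat_lit 0x70806040300050201) (nat_lit 1027))
) (.node (nat_lit 0x70806040301000502) (.leaf (nat_lit 0x70806040301000205) (nat_lit 1027))
 (.leaf (nat_lit 0x70806040301000502) (nat_lit 1539))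
)) (.node (nat_lit 0x70806040301050002) (.node (nat_lit 0x70806040301020500) (.leaf (nat_lit 0x70806040301020005) (nat_lit 1283))
 (.leaf (nat_lit 0x70806040301020500) (nat_lit 1283))
) (.node (nat_lit 0x70806040301050200) (.leaf (nat_lit 0x70806040301050002) (nat_lit 1283))
 (.leaf (nat_lit 0x70806040301050200) (nat_lit 1283))
))) (.node (nat_lit 0x70806040302050001) (.node (nat_lit 0x70806040302010005) (.node (nat_lit 0x70806040302000501) (.leaf (nat_lit 0x70806040302000105) (nat_lit 1283))
 (.leaf (nat_lit 0x70806040302000501) (nat_lit 1283))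
) (.node (nat_lit 0x70806040302010500) (.leaf (nat_lit 0x70806040302010005) (nat_lit 1027))
 (.leaf (nat_lit 0x70806040302010500) (nat_lit 1283))
)) (.node (nat_lit 0x70806040305000102) (.node (nat_lit 0x70806040302050100) (.leaf (nat_lit 0x70806040302050001) (nat_lit 1539))
 (.leaf (nat_lit 0x70806040302050100) (nat_lit 1283))
) (.node (nat_lit 0x70806040305000201) (.leaf (nat_lit 0x70806040305000102) (nat_lit 1032))
 (.node (nat_lit 0x70806040305010002) (.leaf (nat_lit 0x70806040305000201) (nat_lit 776))
 (.leaf (nat_lit 0x70806040305010002) (nat_lit 776))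
)))))) (.node (nat_lit 0x70806040502010003) (.node (nat_lit 0x70806040500030201) (.node (nat_lit 0x70806040500010302) (.node (nat_lit 0x70806040305020100) (.node (nat_lit 0x70806040305020001) (.leaf (nat_lit 0x70806040305010200) (nat_lit 776))
 (.leaf (nat_lit 0x70806040305020001) (nat_lit 1032))
) (.node (nat_lit 0x70806040500010203) (.leaf (nat_lit 0x70806040305020100) (nat_lit 520))
 (.leaf (nat_lit 0x70806040500010203) (nat_lit 1034))
)) (.node (nat_lit 0x70806040500020301) (.node (nat_lit 0x70806040500020103) (.leaf (nat_lit 0x70806040500010302) (nat_lit 1034))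
 (.leaf (nat_lit 0x70806040500020103) (nat_lit 778))
) (.node (nat_lit 0x70806040500030102) (.leaf (nat_lit 0x70806040500020301) (nat_lit 1290))
 (.leaf (nat_lit 0x70806040500030102) (nat_lit 1290))
))) (.node (nat_lit 0x70806040501020300) (.node (nat_lit 0x70806040501000302) (.node (nat_lit 0x70806040501000203) (.leaf (nat_lit 0x70806040500030201) (nat_lit 1034))
 (.leaf (nat_lit 0x70806040501000203) (nat_lit 1024))
) (.node (nat_lit 0x70806040501020003) (.leaf (nat_lit 0x70806040501000302) (nat_lit 1546))
 (.leaf (nat_lit 0x70806040501020003) (nat_lit 1280))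
)) (.node (nat_lit 0x70806040501030200) (.node (nat_lit 0x70806040501030002) (.leaf (nat_lit 0x70806040501020300) (nat_lit 1280))
 (.leaf (nat_lit 0x70806040501030002) (nat_lit 1280))
) (.node (nat_lit 0x70806040502000103) (.leaf (nat_lit 0x70806040501030200) (nat_lit 1290))
 (.node (nat_lit 0x70806040502000301) (.leaf (nat_lit 0x70806040502000103) (nat_lit 1281))
 (.leaf (nat_lit 0x70806040502000301) (nat_lit 1281))
))))) (.node (nat_lit 0x70806040503020001) (.node (nat_lit 0x70806040503000102) (.node (nat_lit 0x70806040502030001) (.node (nat_lit 0x70806040502010300) (.leaf (nat_lit 0x70806040502010003) (nat_lit 1025))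
 (.leaf (nat_lit 0x70806040502010300) (nat_lit 1290))
) (.node (nat_lit 0x70806040502030100) (.leaf (nat_lit 0x70806040502030001) (nat_lit 1537))
 (.leaf (nat_lit 0x70806040502030100) (nat_lit 1281))
)) (.node (nat_lit 0x70806040503010002) (.node (nat_lit 0x70806040503000201) (.leaf (nat_lit 0x70806040503000102) (nat_lit 1032))
 (.leaf (nat_lit 0x70806040503000201) (nat_lit 776))
) (.node (nat_lit 0x70806040503010200) (.leaf (nat_lit 0x70806040503010002) (nat_lit 776))
 (.leaf (nat_lit 0x70806040503010200) (nat_lit 776))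
))) (.node (nat_lit 0x70806050001030204) (.node (nat_lit 0x70806050001020304) (.node (nat_lit 0x70806040503020100) (.leaf (nat_lit 0x70806040503020001) (nat_lit 1032))
 (.leaf (nat_lit 0x70806040503020100) (nat_lit 520))
) (.node (nat_lit 0x70806050001020403) (.leaf (nat_lit 0x70806050001020304) (nat_lit 1794))
 (.leaf (nat_lit 0x70806050001020403) (nat_lit 1802))
)) (.node (nat_lit 0x70806050001040203) (.node (nat_lit 0x70806050001030402) (.leaf (nat_lit 0x70806050001030204) (nat_lit 1546))
 (.leaf (nat_lit 0x70806050001030402) (nat_lit 1794))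
) (.node (nat_lit 0x70806050001040302) (.leaf (nat_lit 0x70806050001040203) (nat_lit 1538))
 (.node (nat_lit 0x70806050002010304) (.leaf (nat_lit 0x70806050001040302) (nat_lit 1802))
 (.leaf (nat_lit 0x70806050002010304) (nat_lit 1546))
))))))) (.node (nat_lit 0x70806050103040200) (.node (nat_lit 0x70806050100020304) (.node (nat_lit 0x70806050003020401) (.node (nat_lit 0x70806050002040301) (.node (nat_lit 0x70806050002030401) (.node (nat_lit 0x70806050002030104) (.leaf (nat_lit 0x70806050002010403) (nat_lit 1538))
 (.leaf (nat_lit 0x70806050002030104) (nat_lit 1794))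
) (.node (nat_lit 0x70806050002040103) (.leaf (nat_lit 0x70806050002030401) (nat_lit 1802))
 (.leaf (nat_lit 0x70806050002040103) (nat_lit 1802))
)) (.node (nat_lit 0x70806050003010402) (.node (nat_lit 0x70806050003010204) (.leaf (nat_lit 0x70806050002040301) (nat_lit 1539))
 (.leaf (nat_lit 0x70806050003010204) (nat_lit 1282))
) (.node (nat_lit 0x70806050003020104) (.leaf (nat_lit 0x70806050003010402) (nat_lit 1282))
 (.leaf (nat_lit 0x70806050003020104) (nat_lit 1026))
))) (.node (nat_lit 0x70806050004010302) (.node (nat_lit 0x70806050003040201) (.node (nat_lit 0x70806050003040102) (.leaf (nat_lit 0x70806050003020401) (nat_lit 1538))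
 (.leaf (nat_lit 0x70806050003040102) (nat_lit 1538))
) (.node (nat_lit 0x70806050004010203) (.leaf (nat_lit 0x70806050003040201) (nat_lit 1282))
 (.leaf (nat_lit 0x70806050004010203) (nat_lit 1290))
)) (.node (nat_lit 0x70806050004020301) (.node (nat_lit 0x70806050004020103) (.leaf (nat_lit 0x70806050004010302) (nat_lit 1290))
 (.leaf (nat_lit 0x70806050004020103) (nat_lit 1034))
) (.node (nat_lit 0x70806050004030102) (.leaf (nat_lit 0x70806050004020301) (nat_lit 1546))
 (.node (nat_lit 0x70806050004030201) (.leaf (nat_lit 0x70806050004030102) (nat_lit 1546))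
 (.leaf (nat_lit 0x70806050004030201) (nat_lit 1290))
))))) (.node (nat_lit 0x70806050102030004) (.node (nat_lit 0x70806050100040203) (.node (nat_lit 0x70806050100030204) (.node (nat_lit 0x70806050100020403) (.leaf (nat_lit 0x70806050100020304) (nat_lit 1802))
 (.leaf (nat_lit 0x70806050100020403) (nat_lit 1795))
) (.node (nat_lit 0x70806050100030402) (.leaf (nat_lit 0x70806050100030204) (nat_lit 1546))
 (.leaf (nat_lit 0x70806050100030402) (nat_lit 1795))
)) (.node (nat_lit 0x70806050102000304) (.node (nat_lit 0x70806050100040302) (.leaf (nat_lit 0x70806050100040203) (nat_lit 1793))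
 (.leaf (nat_lit 0x70806050100040302) (nat_lit 1539))
) (.node (nat_lit 0x70806050102000403) (.leaf (nat_lit 0x70806050102000304) (nat_lit 1793))
 (.leaf (nat_lit 0x70806050102000403) (nat_lit 1795))
))) (.node (nat_lit 0x70806050103000204) (.node (nat_lit 0x70806050102040003) (.node (nat_lit 0x70806050102030400) (.leaf (nat_lit 0x70806050102030004) (nat_lit 1795))
 (.leaf (nat_lit 0x70806050102030400) (nat_lit 1795))
) (.node (nat_lit 0x70806050102040300) (.leaf (nat_lit 0x70806050102040003) (nat_lit 1802))
 (.leaf (nat_lit 0x70806050102040300) (nat_lit 1539))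
)) (.node (nat_lit 0x70806050103020004) (.node (nat_lit 0x70806050103000402) (.leaf (nat_lit 0x70806050103000204) (nat_lit 1282))
 (.leaf (nat_lit 0x70806050103000402) (nat_lit 1794))
) (.node (nat_lit 0x70806050103020400) (.leaf (nat_lit 0x70806050103020004) (nat_lit 1538))
 (.node (nat_lit 0x70806050103040002) (.leaf (nat_lit 0x70806050103020400) (nat_lit 1538))
 (.leaf (nat_lit 0x70806050103040002) (nat_lit 1538))
)))))) (.node (nat_lit 0x70806050201040003) (.node (nat_lit 0x70806050200010403) (.node (nat_lit 0x70806050104020300) (.node (nat_lit 0x70806050104000302) (.node (nat_lit 0x70806050104000203) (.leaf (nat_lit 0x70806050103040200) (nat_lit 1538))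
 (.leaf (nat_lit 0x70806050104000203) (nat_lit 1280))
) (.node (nat_lit 0x70806050104020003) (.leaf (nat_lit 0x70806050104000302) (nat_lit 1802))
 (.leaf (nat_lit 0x70806050104020003) (nat_lit 1536))
)) (.node (nat_lit 0x70806050104030200) (.node (nat_lit 0x70806050104030002) (.leaf (nat_lit 0x70806050104020300) (nat_lit 1536))
 (.leaf (nat_lit 0x70806050104030002) (nat_lit 1536))
) (.node (nat_lit 0x70806050200010304) (.leaf (nat_lit 0x70806050104030200) (nat_lit 1546))
 (.leaf (nat_lit 0x70806050200010304) (nat_lit 1546))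
))) (.node (nat_lit 0x70806050200040301) (.node (nat_lit 0x70806050200030401) (.node (nat_lit 0x70806050200030104) (.leaf (nat_lit 0x70806050200010403) (nat_lit 1795))
 (.leaf (nat_lit 0x70806050200030104) (nat_lit 1795))
) (.node (nat_lit 0x70806050200040103) (.leaf (nat_lit 0x70806050200030401) (nat_lit 1802))
 (.leaf (nat_lit 0x70806050200040103) (nat_lit 1802))
)) (.node (nat_lit 0x70806050201000403) (.node (nat_lit 0x70806050201000304) (.leaf (nat_lit 0x70806050200040301) (nat_lit 1539))
 (.leaf (nat_lit 0x70806050201000304) (nat_lit 1795))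
) (.node (nat_lit 0x70806050201030004) (.leaf (nat_lit 0x70806050201000403) (nat_lit 1539))
 (.node (nat_lit 0x70806050201030400) (.leaf (nat_lit 0x70806050201030004) (nat_lit 1539))
 (.leaf (nat_lit 0x70806050201030400) (nat_lit 1539))
))))) (.node (nat_lit 0x70806050204000103) (.node (nat_lit 0x70806050203010004) (.node (nat_lit 0x70806050203000104) (.node (nat_lit 0x70806050201040300) (.leaf (nat_lit 0x70806050201040003) (nat_lit 1546))
 (.leaf (nat_lit 0x70806050201040300) (nat_lit 1283))
) (.node (nat_lit 0x70806050203000401) (.leaf (nat_lit 0x70806050203000104) (nat_lit 1538))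
 (.leaf (nat_lit 0x70806050203000401) (nat_lit 1538))
)) (.node (nat_lit 0x70806050203040001) (.node (nat_lit 0x70806050203010400) (.leaf (nat_lit 0x70806050203010004) (nat_lit 1282))
 (.leaf (nat_lit 0x70806050203010400) (nat_lit 1538))
) (.node (nat_lit 0x70806050203040100) (.leaf (nat_lit 0x70806050203040001) (nat_lit 1794))
 (.leaf (nat_lit 0x70806050203040100) (nat_lit 1538))
))) (.node (nat_lit 0x70806050204030001) (.node (nat_lit 0x70806050204010003) (.node (nat_lit 0x70806050204000301) (.leaf (nat_lit 0x70806050204000103) (nat_lit 1537))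
 (.leaf (nat_lit 0x70806050204000301) (nat_lit 1537))
) (.node (nat_lit 0x70806050204010300) (.leaf (nat_lit 0x70806050204010003) (nat_lit 1281))
 (.leaf (nat_lit 0x70806050204010300) (nat_lit 1546))
)) (.node (nat_lit 0x70806050300010204) (.node (nat_lit 0x70806050204030100) (.leaf (nat_lit 0x70806050204030001) (nat_lit 1793))
 (.leaf (nat_lit 0x70806050204030100) (nat_lit 1537))
) (.node (nat_lit 0x70806050300010402) (.leaf (nat_lit 0x70806050300010204) (nat_lit 1282))
 (.node (nat_lit 0x70806050300020104) (.leaf (nat_lit 0x70806050300010402) (nat_lit 1282))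
 (.leaf (nat_lit 0x70806050300020104) (nat_lit 1026))
)))))))) (.node (nat_lit 0x80607000105040203) (.node (nat_lit 0x70806050402000103) (.node (nat_lit 0x70806050304000201) (.node (nat_lit 0x70806050301040200) (.node (nat_lit 0x70806050301000402) (.node (nat_lit 0x70806050300040201) (.node (nat_lit 0x70806050300040102) (.leaf (nat_lit 0x70806050300020401) (nat_lit 1538))
 (.leaf (nat_lit 0x70806050300040102) (nat_lit 1538))
) (.node (nat_lit 0x70806050301000204) (.leaf (nat_lit 0x70806050300040201) (nat_lit 1282))
 (.leaf (nat_lit 0x70806050301000204) (nat_lit 1282))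
)) (.node (nat_lit 0x70806050301020400) (.node (nat_lit 0x70806050301020004) (.leaf (nat_lit 0x70806050301000402) (nat_lit 1794))
 (.leaf (nat_lit 0x70806050301020004) (nat_lit 1538))
) (.node (nat_lit 0x70806050301040002) (.leaf (nat_lit 0x70806050301020400) (nat_lit 1538))
 (.leaf (nat_lit 0x70806050301040002) (nat_lit 1538))
))) (.node (nat_lit 0x70806050302010400) (.node (nat_lit 0x70806050302000401) (.node (nat_lit 0x70806050302000104) (.leaf (nat_lit 0x70806050301040200) (nat_lit 1538))
 (.leaf (nat_lit 0x70806050302000104) (nat_lit 1538))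
) (.node (nat_lit 0x70806050302010004) (.leaf (nat_lit 0x70806050302000401) (nat_lit 1538))
 (.leaf (nat_lit 0x70806050302010004) (nat_lit 1282))
)) (.node (nat_lit 0x70806050302040100) (.node (nat_lit 0x70806050302040001) (.leaf (nat_lit 0x70806050302010400) (nat_lit 1538))
 (.leaf (nat_lit 0x70806050302040001) (nat_lit 1794))
) (.node (nat_lit 0x70806050304000102) (.leaf (nat_lit 0x70806050302040100) (nat_lit 1538))
 (.leaf (nat_lit 0x70806050304000102) (nat_lit 1288))
)))) (.node (nat_lit 0x70806050400020301) (.node (nat_lit 0x70806050304020100) (.node (nat_lit 0x70806050304010200) (.node (nat_lit 0x70806050304010002) (.leaf (nat_lit 0x70806050304000201) (nat_lit 1032))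
 (.leaf (nat_lit 0x70806050304010002) (nat_lit 1032))
) (.node (nat_lit 0x70806050304020001) (.leaf (nat_lit 0x70806050304010200) (nat_lit 1032))
 (.leaf (nat_lit 0x70806050304020001) (nat_lit 1288))
)) (.node (nat_lit 0x70806050400010302) (.node (nat_lit 0x70806050400010203) (.leaf (nat_lit 0x70806050304020100) (nat_lit 776))
 (.leaf (nat_lit 0x70806050400010203) (nat_lit 778))
) (.node (nat_lit 0x70806050400020103) (.leaf (nat_lit 0x70806050400010302) (nat_lit 778))
 (.leaf (nat_lit 0x70806050400020103) (nat_lit 522))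
))) (.node (nat_lit 0x70806050401000302) (.node (nat_lit 0x70806050400030201) (.node (nat_lit 0x70806050400030102) (.leaf (nat_lit 0x70806050400020301) (nat_lit 1034))
 (.leaf (nat_lit 0x70806050400030102) (nat_lit 1034))
) (.node (nat_lit 0x70806050401000203) (.leaf (nat_lit 0x70806050400030201) (nat_lit 778))
 (.leaf (nat_lit 0x70806050401000203) (nat_lit 768))
)) (.node (nat_lit 0x70806050401020300) (.node (nat_lit 0x70806050401020003) (.leaf (nat_lit 0x70806050401000302) (nat_lit 1290))
 (.leaf (nat_lit 0x70806050401020003) (nat_lit 1024))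
) (.node (nat_lit 0x70806050401030002) (.leaf (nat_lit 0x70806050401020300) (nat_lit 1024))
 (.node (nat_lit 0x70806050401030200) (.leaf (nat_lit 0x70806050401030002) (nat_lit 1024))
 (.leaf (nat_lit 0x70806050401030200) (nat_lit 1034))
)))))) (.node (nat_lit 0x80607000102050403) (.node (nat_lit 0x70806050403010002) (.node (nat_lit 0x70806050402030001) (.node (nat_lit 0x70806050402010003) (.node (nat_lit 0x70806050402000301) (.leaf (nat_lit 0x70806050402000103) (nat_lit 1025))
 (.leaf (nat_lit 0x70806050402000301) (nat_lit 1025))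
) (.node (nat_lit 0x70806050402010300) (.leaf (nat_lit 0x70806050402010003) (nat_lit 769))
 (.leaf (nat_lit 0x70806050402010300) (nat_lit 1034))
)) (.node (nat_lit 0x70806050403000102) (.node (nat_lit 0x70806050402030100) (.leaf (nat_lit 0x70806050402030001) (nat_lit 1281))
 (.leaf (nat_lit 0x70806050402030100) (nat_lit 1025))
) (.node (nat_lit 0x70806050403000201) (.leaf (nat_lit 0x70806050403000102) (nat_lit 776))
 (.leaf (nat_lit 0x70806050403000201) (nat_lit 520))
))) (.node (nat_lit 0x80607000102030405) (.node (nat_lit 0x70806050403020001) (.node (nat_lit 0x70806050403010200) (.leaf (nat_lit 0x70806050403010002) (nat_lit 520))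
 (.leaf (nat_lit 0x70806050403010200) (nat_lit 520))
) (.node (nat_lit 0x70806050403020100) (.leaf (nat_lit 0x70806050403020001) (nat_lit 776))
 (.leaf (nat_lit 0x70806050403020100) (nat_lit 264))
)) (.node (nat_lit 0x80607000102040305) (.node (nat_lit 0x80607000102030504) (.leaf (nat_lit 0x80607000102030405) (nat_lit 1801))
 (.leaf (nat_lit 0x80607000102030504) (nat_lit 1545))
) (.node (nat_lit 0x80607000102040503) (.leaf (nat_lit 0x80607000102040305) (nat_lit 1545))
 (.node (nat_lit 0x80607000102050304) (.leaf (nat_lit 0x80607000102040503) (nat_lit 1545))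
 (.leaf (nat_lit 0x80607000102050304) (nat_lit 1801))
))))) (.node (nat_lit 0x80607000104020503) (.node (nat_lit 0x80607000103040502) (.node (nat_lit 0x80607000103020504) (.node (nat_lit 0x80607000103020405) (.leaf (nat_lit 0x80607000102050403) (nat_lit 1289))
 (.leaf (nat_lit 0x80607000103020405) (nat_lit 2049))
) (.node (nat_lit 0x80607000103040205) (.leaf (nat_lit 0x80607000103020504) (nat_lit 1793))
 (.leaf (nat_lit 0x80607000103040205) (nat_lit 1793))
)) (.node (nat_lit 0x80607000103050402) (.node (nat_lit 0x80607000103050204) (.leaf (nat_lit 0x80607000103040502) (nat_lit 1793))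
 (.leaf (nat_lit 0x80607000103050204) (nat_lit 2049))
) (.node (nat_lit 0x80607000104020305) (.leaf (nat_lit 0x80607000103050402) (nat_lit 1537))
 (.leaf (nat_lit 0x80607000104020305) (nat_lit 2050))
))) (.node (nat_lit 0x80607000104050302) (.node (nat_lit 0x80607000104030502) (.node (nat_lit 0x80607000104030205) (.leaf (nat_lit 0x80607000104020503) (nat_lit 2058))
 (.leaf (nat_lit 0x80607000104030205) (nat_lit 1802))
) (.node (nat_lit 0x80607000104050203) (.leaf (nat_lit 0x80607000104030502) (nat_lit 1794))
 (.leaf (nat_lit 0x80607000104050203) (nat_lit 2050))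
)) (.node (nat_lit 0x80607000105020403) (.node (nat_lit 0x80607000105020304) (.leaf (nat_lit 0x80607000104050302) (nat_lit 2058))
 (.leaf (nat_lit 0x80607000105020304) (nat_lit 2048))
) (.node (nat_lit 0x80607000105030204) (.leaf (nat_lit 0x80607000105020403) (nat_lit 2051))
 (.node (nat_lit 0x80607000105030402) (.leaf (nat_lit 0x80607000105030204) (nat_lit 2051))
 (.leaf (nat_lit 0x80607000105030402) (nat_lit 2051))
))))))) (.node (nat_lit 0x80607000302040105) (.node (nat_lit 0x80607000204030501) (.node (nat_lit 0x80607000203010405) (.node (nat_lit 0x80607000201040305) (.node (nat_lit 0x80607000201030405) (.node (nat_lit 0x80607000105040302) (.leaf (nat_lit 0x80607000105040203) (nat_lit 2050))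
 (.leaf (nat_lit 0x80607000105040302) (nat_lit 1795))
) (.node (nat_lit 0x80607000201030504) (.leaf (nat_lit 0x80607000201030405) (nat_lit 1545))
 (.leaf (nat_lit 0x80607000201030504) (nat_lit 1289))
)) (.node (nat_lit 0x80607000201050304) (.node (nat_lit 0x80607000201040503) (.leaf (nat_lit 0x80607000201040305) (nat_lit 1289))
 (.leaf (nat_lit 0x80607000201040503) (nat_lit 1289))
) (.node (nat_lit 0x80607000201050403) (.leaf (nat_lit 0x80607000201050304) (nat_lit 1545))
 (.leaf (nat_lit 0x80607000201050403) (nat_lit 1033))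
))) (.node (nat_lit 0x80607000203050104) (.node (nat_lit 0x80607000203040105) (.node (nat_lit 0x80607000203010504) (.leaf (nat_lit 0x80607000203010405) (nat_lit 1792))
 (.leaf (nat_lit 0x80607000203010504) (nat_lit 1536))
) (.node (nat_lit 0x80607000203040501) (.leaf (nat_lit 0x80607000203040105) (nat_lit 1536))
 (.leaf (nat_lit 0x80607000203040501) (nat_lit 1536))
)) (.node (nat_lit 0x80607000204010305) (.node (nat_lit 0x80607000203050401) (.leaf (nat_lit 0x80607000203050104) (nat_lit 1792))
 (.leaf (nat_lit 0x80607000203050401) (nat_lit 1280))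
) (.node (nat_lit 0x80607000204010503) (.leaf (nat_lit 0x80607000204010305) (nat_lit 1794))
 (.node (nat_lit 0x80607000204030105) (.leaf (nat_lit 0x80607000204010503) (nat_lit 1792))
 (.leaf (nat_lit 0x80607000204030105) (nat_lit 2048))
))))) (.node (nat_lit 0x80607000205040301) (.node (nat_lit 0x80607000205010403) (.node (nat_lit 0x80607000204050301) (.node (nat_lit 0x80607000204050103) (.leaf (nat_lit 0x80607000204030501) (nat_lit 1538))
 (.leaf (nat_lit 0x80607000204050103) (nat_lit 1794))
) (.node (nat_lit 0x80607000205010304) (.leaf (nat_lit 0x80607000204050301) (nat_lit 1794))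
 (.leaf (nat_lit 0x80607000205010304) (nat_lit 2051))
)) (.node (nat_lit 0x80607000205030401) (.node (nat_lit 0x80607000205030104) (.leaf (nat_lit 0x80607000205010403) (nat_lit 1795))
 (.leaf (nat_lit 0x80607000205030104) (nat_lit 1795))
) (.node (nat_lit 0x80607000205040103) (.leaf (nat_lit 0x80607000205030401) (nat_lit 1795))
 (.leaf (nat_lit 0x80607000205040103) (nat_lit 1792))
))) (.node (nat_lit 0x80607000301040502) (.node (nat_lit 0x80607000301020504) (.node (nat_lit 0x80607000301020405) (.leaf (nat_lit 0x80607000205040301) (nat_lit 1539))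
 (.leaf (nat_lit 0x80607000301020405) (nat_lit 2049))
) (.node (nat_lit 0x80607000301040205) (.leaf (nat_lit 0x80607000301020504) (nat_lit 1793))
 (.leaf (nat_lit 0x80607000301040205) (nat_lit 1793))
)) (.node (nat_lit 0x80607000301050402) (.node (nat_lit 0x80607000301050204) (.leaf (nat_lit 0x80607000301040502) (nat_lit 1793))
 (.leaf (nat_lit 0x80607000301050204) (nat_lit 2049))
) (.node (nat_lit 0x80607000302010405) (.leaf (nat_lit 0x80607000301050402) (nat_lit 1537))
 (.node (nat_lit 0x80607000302010504) (.leaf (nat_lit 0x80607000302010405) (nat_lit 1794))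
 (.leaf (nat_lit 0x80607000302010504) (nat_lit 2058))
)))))) (.node (nat_lit 0x80607000401020503) (.node (nat_lit 0x80607000304050102) (.node (nat_lit 0x80607000304010205) (.node (nat_lit 0x80607000302050104) (.node (nat_lit 0x80607000302040501) (.leaf (nat_lit 0x80607000302040105) (nat_lit 2058))
 (.leaf (nat_lit 0x80607000302040501) (nat_lit 2050))
) (.node (nat_lit 0x80607000302050401) (.leaf (nat_lit 0x80607000302050104) (nat_lit 2050))
 (.leaf (nat_lit 0x80607000302050401) (nat_lit 1802))
)) (.node (nat_lit 0x80607000304020105) (.node (nat_lit 0x80607000304010502) (.leaf (nat_lit 0x80607000304010205) (nat_lit 1795))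
 (.leaf (nat_lit 0x80607000304010502) (nat_lit 1795))
) (.node (nat_lit 0x80607000304020501) (.leaf (nat_lit 0x80607000304020105) (nat_lit 1539))
 (.leaf (nat_lit 0x80607000304020501) (nat_lit 2051))
))) (.node (nat_lit 0x80607000305020104) (.node (nat_lit 0x80607000305010204) (.node (nat_lit 0x80607000304050201) (.leaf (nat_lit 0x80607000304050102) (nat_lit 2051))
 (.leaf (nat_lit 0x80607000304050201) (nat_lit 1795))
) (.node (nat_lit 0x80607000305010402) (.leaf (nat_lit 0x80607000305010204) (nat_lit 1538))
 (.leaf (nat_lit 0x80607000305010402) (nat_lit 1538))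
)) (.node (nat_lit 0x80607000305040102) (.node (nat_lit 0x80607000305020401) (.leaf (nat_lit 0x80607000305020104) (nat_lit 1282))
 (.leaf (nat_lit 0x80607000305020401) (nat_lit 1794))
) (.node (nat_lit 0x80607000305040201) (.leaf (nat_lit 0x80607000305040102) (nat_lit 1794))
 (.node (nat_lit 0x80607000401020305) (.leaf (nat_lit 0x80607000305040201) (nat_lit 1538))
 (.leaf (nat_lit 0x80607000401020305) (nat_lit 2050))
))))) (.node (nat_lit 0x80607000402030501) (.node (nat_lit 0x80607000401050302) (.node (nat_lit 0x80607000401030502) (.node (nat_lit 0x80607000401030205) (.leaf (nat_lit 0x80607000401020503) (nat_lit 2058))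
 (.leaf (nat_lit 0x80607000401030205) (nat_lit 1802))
) (.node (nat_lit 0x80607000401050203) (.leaf (nat_lit 0x80607000401030502) (nat_lit 1794))
 (.leaf (nat_lit 0x80607000401050203) (nat_lit 1795))
)) (.node (nat_lit 0x80607000402010503) (.node (nat_lit 0x80607000402010305) (.leaf (nat_lit 0x80607000401050302) (nat_lit 2058))
 (.leaf (nat_lit 0x80607000402010305) (nat_lit 1802))
) (.node (nat_lit 0x80607000402030105) (.leaf (nat_lit 0x80607000402010503) (nat_lit 1795))
 (.leaf (nat_lit 0x80607000402030105) (nat_lit 2051))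
))) (.node (nat_lit 0x80607000403010502) (.node (nat_lit 0x80607000402050301) (.node (nat_lit 0x80607000402050103) (.leaf (nat_lit 0x80607000402030501) (nat_lit 2058))
 (.leaf (nat_lit 0x80607000402050103) (nat_lit 2058))
) (.node (nat_lit 0x80607000403010205) (.leaf (nat_lit 0x80607000402050301) (nat_lit 2051))
 (.leaf (nat_lit 0x80607000403010205) (nat_lit 1539))
)) (.node (nat_lit 0x80607000403020501) (.node (nat_lit 0x80607000403020105) (.leaf (nat_lit 0x80607000403010502) (nat_lit 1539))
 (.leaf (nat_lit 0x80607000403020105) (nat_lit 1283))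
) (.node (nat_lit 0x80607000403050102) (.leaf (nat_lit 0x80607000403020501) (nat_lit 1795))
 (.node (nat_lit 0x80607000403050201) (.leaf (nat_lit 0x80607000403050102) (nat_lit 1795))
 (.leaf (nat_lit 0x80607000403050201) (nat_lit 1539))
))))))))) (.node (nat_lit 0x80607010502030400) (.node (nat_lit 0x80607010204000503) (.node (nat_lit 0x80607010002040503) (.node (nat_lit 0x80607000502040103) (.node (nat_lit 0x80607000501030204) (.node (nat_lit 0x80607000405030102) (.node (nat_lit 0x80607000405020103) (.node (nat_lit 0x80607000405010302) (.leaf (nat_lit 0x80607000405010203) (nat_lit 1546))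
 (.leaf (nat_lit 0x80607000405010302) (nat_lit 1546))
) (.node (nat_lit 0x80607000405020301) (.leaf (nat_lit 0x80607000405020103) (nat_lit 1290))
 (.leaf (nat_lit 0x80607000405020301) (nat_lit 1802))
)) (.node (nat_lit 0x80607000501020304) (.node (nat_lit 0x80607000405030201) (.leaf (nat_lit 0x80607000405030102) (nat_lit 1802))
 (.leaf (nat_lit 0x80607000405030201) (nat_lit 1546))
) (.node (nat_lit 0x80607000501020403) (.leaf (nat_lit 0x80607000501020304) (nat_lit 1802))
 (.leaf (nat_lit 0x80607000501020403) (nat_lit 1802))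
))) (.node (nat_lit 0x80607000502010304) (.node (nat_lit 0x80607000501040203) (.node (nat_lit 0x80607000501030402) (.leaf (nat_lit 0x80607000501030204) (nat_lit 1546))
 (.leaf (nat_lit 0x80607000501030402) (nat_lit 2058))
) (.node (nat_lit 0x80607000501040302) (.leaf (nat_lit 0x80607000501040203) (nat_lit 1802))
 (.leaf (nat_lit 0x80607000501040302) (nat_lit 1802))
)) (.node (nat_lit 0x80607000502030104) (.node (nat_lit 0x80607000502010403) (.leaf (nat_lit 0x80607000502010304) (nat_lit 1546))
 (.leaf (nat_lit 0x80607000502010403) (nat_lit 1802))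
) (.node (nat_lit 0x80607000502030401) (.leaf (nat_lit 0x80607000502030104) (nat_lit 1802))
 (.leaf (nat_lit 0x80607000502030401) (nat_lit 1802))
)))) (.node (nat_lit 0x80607000504010203) (.node (nat_lit 0x80607000503020104) (.node (nat_lit 0x80607000503010204) (.node (nat_lit 0x80607000502040301) (.leaf (nat_lit 0x80607000502040103) (nat_lit 1802))
 (.leaf (nat_lit 0x80607000502040301) (nat_lit 2058))
) (.node (nat_lit 0x80607000503010402) (.leaf (nat_lit 0x80607000503010204) (nat_lit 1546))
 (.leaf (nat_lit 0x80607000503010402) (nat_lit 1546))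
)) (.node (nat_lit 0x80607000503040102) (.node (nat_lit 0x80607000503020401) (.leaf (nat_lit 0x80607000503020104) (nat_lit 1290))
 (.leaf (nat_lit 0x80607000503020401) (nat_lit 1802))
) (.node (nat_lit 0x80607000503040201) (.leaf (nat_lit 0x80607000503040102) (nat_lit 1802))
 (.leaf (nat_lit 0x80607000503040201) (nat_lit 1546))
))) (.node (nat_lit 0x80607000504030102) (.node (nat_lit 0x80607000504020103) (.node (nat_lit 0x80607000504010302) (.leaf (nat_lit 0x80607000504010203) (nat_lit 1290))
 (.leaf (nat_lit 0x80607000504010302) (nat_lit 1290))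
) (.node (nat_lit 0x80607000504020301) (.leaf (nat_lit 0x80607000504020103) (nat_lit 1034))
 (.leaf (nat_lit 0x80607000504020301) (nat_lit 1546))
)) (.node (nat_lit 0x80607010002030405) (.node (nat_lit 0x80607000504030201) (.leaf (nat_lit 0x80607000504030102) (nat_lit 1546))
 (.leaf (nat_lit 0x80607000504030201) (nat_lit 1290))
) (.node (nat_lit 0x80607010002030504) (.leaf (nat_lit 0x80607010002030405) (nat_lit 1545))
 (.node (nat_lit 0x80607010002040305) (.leaf (nat_lit 0x80607010002030504) (nat_lit 1289))
 (.leaf (nat_lit 0x80607010002040305) (nat_lit 1289))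
)))))) (.node (nat_lit 0x80607010005030204) (.node (nat_lit 0x80607010003050402) (.node (nat_lit 0x80607010003020504) (.node (nat_lit 0x80607010002050403) (.node (nat_lit 0x80607010002050304) (.leaf (nat_lit 0x80607010002040503) (nat_lit 1289))
 (.leaf (nat_lit 0x80607010002050304) (nat_lit 1545))
) (.node (nat_lit 0x80607010003020405) (.leaf (nat_lit 0x80607010002050403) (nat_lit 1033))
 (.leaf (nat_lit 0x80607010003020405) (nat_lit 1793))
)) (.node (nat_lit 0x80607010003040502) (.node (nat_lit 0x80607010003040205) (.leaf (nat_lit 0x80607010003020504) (nat_lit 1537))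
 (.leaf (nat_lit 0x80607010003040205) (nat_lit 1537))
) (.node (nat_lit 0x80607010003050204) (.leaf (nat_lit 0x80607010003040502) (nat_lit 1537))
 (.leaf (nat_lit 0x80607010003050204) (nat_lit 1793))
))) (.node (nat_lit 0x80607010004030502) (.node (nat_lit 0x80607010004020503) (.node (nat_lit 0x80607010004020305) (.leaf (nat_lit 0x80607010003050402) (nat_lit 1281))
 (.leaf (nat_lit 0x80607010004020305) (nat_lit 1794))
) (.node (nat_lit 0x80607010004030205) (.leaf (nat_lit 0x80607010004020503) (nat_lit 1793))
 (.leaf (nat_lit 0x80607010004030205) (nat_lit 2049))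
)) (.node (nat_lit 0x80607010004050302) (.node (nat_lit 0x80607010004050203) (.leaf (nat_lit 0x80607010004030502) (nat_lit 1538))
 (.leaf (nat_lit 0x80607010004050203) (nat_lit 1794))
) (.node (nat_lit 0x80607010005020304) (.leaf (nat_lit 0x80607010004050302) (nat_lit 1794))
 (.node (nat_lit 0x80607010005020403) (.leaf (nat_lit 0x80607010005020304) (nat_lit 2051))
 (.leaf (nat_lit 0x80607010005020403) (nat_lit 1795))
))))) (.node (nat_lit 0x80607010200050304) (.node (nat_lit 0x80607010200030405) (.node (nat_lit 0x80607010005040203) (.node (nat_lit 0x80607010005030402) (.leaf (nat_lit 0x80607010005030204) (nat_lit 1795))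
 (.leaf (nat_lit 0x80607010005030402) (nat_lit 1795))
) (.node (nat_lit 0x80607010005040302) (.leaf (nat_lit 0x80607010005040203) (nat_lit 1793))
 (.leaf (nat_lit 0x80607010005040302) (nat_lit 1539))
)) (.node (nat_lit 0x80607010200040305) (.node (nat_lit 0x80607010200030504) (.leaf (nat_lit 0x80607010200030405) (nat_lit 1545))
 (.leaf (nat_lit 0x80607010200030504) (nat_lit 1289))
) (.node (nat_lit 0x80607010200040503) (.leaf (nat_lit 0x80607010200040305) (nat_lit 1289))
 (.leaf (nat_lit 0x80607010200040503) (nat_lit 1289))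
))) (.node (nat_lit 0x80607010203040005) (.node (nat_lit 0x80607010203000405) (.node (nat_lit 0x80607010200050403) (.leaf (nat_lit 0x80607010200050304) (nat_lit 1545))
 (.leaf (nat_lit 0x80607010200050403) (nat_lit 1033))
) (.node (nat_lit 0x80607010203000504) (.leaf (nat_lit 0x80607010203000405) (nat_lit 1802))
 (.leaf (nat_lit 0x80607010203000504) (nat_lit 1546))
)) (.node (nat_lit 0x80607010203050004) (.node (nat_lit 0x80607010203040500) (.leaf (nat_lit 0x80607010203040005) (nat_lit 1546))
 (.leaf (nat_lit 0x80607010203040500) (nat_lit 1546))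
) (.node (nat_lit 0x80607010203050400) (.leaf (nat_lit 0x80607010203050004) (nat_lit 1802))
 (.node (nat_lit 0x80607010204000305) (.leaf (nat_lit 0x80607010203050400) (nat_lit 1290))
 (.leaf (nat_lit 0x80607010204000305) (nat_lit 1794))
))))))) (.node (nat_lit 0x80607010305040200) (.node (nat_lit 0x80607010302000405) (.node (nat_lit 0x80607010205030400) (.node (nat_lit 0x80607010204050300) (.node (nat_lit 0x80607010204030500) (.node (nat_lit 0x80607010204030005) (.leaf (nat_lit 0x80607010204000503) (nat_lit 1802))
 (.leaf (nat_lit 0x80607010204030005) (nat_lit 2058))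
) (.node (nat_lit 0x80607010204050003) (.leaf (nat_lit 0x80607010204030500) (nat_lit 1538))
 (.leaf (nat_lit 0x80607010204050003) (nat_lit 1794))
)) (.node (nat_lit 0x80607010205000403) (.node (nat_lit 0x80607010205000304) (.leaf (nat_lit 0x80607010204050300) (nat_lit 1794))
 (.leaf (nat_lit 0x80607010205000304) (nat_lit 2051))
) (.node (nat_lit 0x80607010205030004) (.leaf (nat_lit 0x80607010205000403) (nat_lit 1795))
 (.leaf (nat_lit 0x80607010205030004) (nat_lit 1795))
))) (.node (nat_lit 0x80607010300020504) (.node (nat_lit 0x80607010205040300) (.node (nat_lit 0x80607010205040003) (.leaf (nat_lit 0x80607010205030400) (nat_lit 1795))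
 (.leaf (nat_lit 0x80607010205040003) (nat_lit 1802))
) (.node (nat_lit 0x80607010300020405) (.leaf (nat_lit 0x80607010205040300) (nat_lit 1539))
 (.leaf (nat_lit 0x80607010300020405) (nat_lit 2058))
)) (.node (nat_lit 0x80607010300040502) (.node (nat_lit 0x80607010300040205) (.leaf (nat_lit 0x80607010300020504) (nat_lit 1802))
 (.leaf (nat_lit 0x80607010300040205) (nat_lit 1802))
) (.node (nat_lit 0x80607010300050204) (.leaf (nat_lit 0x80607010300040502) (nat_lit 1802))
 (.node (nat_lit 0x80607010300050402) (.leaf (nat_lit 0x80607010300050204) (nat_lit 2058))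
 (.leaf (nat_lit 0x80607010300050402) (nat_lit 1546))
))))) (.node (nat_lit 0x80607010304020005) (.node (nat_lit 0x80607010302050004) (.node (nat_lit 0x80607010302040005) (.node (nat_lit 0x80607010302000504) (.leaf (nat_lit 0x80607010302000405) (nat_lit 1802))
 (.leaf (nat_lit 0x80607010302000504) (nat_lit 1546))
) (.node (nat_lit 0x80607010302040500) (.leaf (nat_lit 0x80607010302040005) (nat_lit 1546))
 (.leaf (nat_lit 0x80607010302040500) (nat_lit 1546))
)) (.node (nat_lit 0x80607010304000205) (.node (nat_lit 0x80607010302050400) (.leaf (nat_lit 0x80607010302050004) (nat_lit 1802))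
 (.leaf (nat_lit 0x80607010302050400) (nat_lit 1290))
) (.node (nat_lit 0x80607010304000502) (.leaf (nat_lit 0x80607010304000205) (nat_lit 1795))
 (.leaf (nat_lit 0x80607010304000502) (nat_lit 1802))
))) (.node (nat_lit 0x80607010305000204) (.node (nat_lit 0x80607010304050002) (.node (nat_lit 0x80607010304020500) (.leaf (nat_lit 0x80607010304020005) (nat_lit 2058))
 (.leaf (nat_lit 0x80607010304020500) (nat_lit 2051))
) (.node (nat_lit 0x80607010304050200) (.leaf (nat_lit 0x80607010304050002) (nat_lit 2051))
 (.leaf (nat_lit 0x80607010304050200) (nat_lit 2058))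
)) (.node (nat_lit 0x80607010305020004) (.node (nat_lit 0x80607010305000402) (.leaf (nat_lit 0x80607010305000204) (nat_lit 1538))
 (.leaf (nat_lit 0x80607010305000402) (nat_lit 2050))
) (.node (nat_lit 0x80607010305020400) (.leaf (nat_lit 0x80607010305020004) (nat_lit 1794))
 (.node (nat_lit 0x80607010305040002) (.leaf (nat_lit 0x80607010305020400) (nat_lit 1794))
 (.leaf (nat_lit 0x80607010305040002) (nat_lit 1794))
)))))) (.node (nat_lit 0x80607010403050002) (.node (nat_lit 0x80607010402000503) (.node (nat_lit 0x80607010400030502) (.node (nat_lit 0x80607010400020503) (.node (nat_lit 0x80607010400020305) (.leaf (nat_lit 0x80607010305040200) (nat_lit 1794))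
 (.leaf (nat_lit 0x80607010400020305) (nat_lit 2050))
) (.node (nat_lit 0x80607010400030205) (.leaf (nat_lit 0x80607010400020503) (nat_lit 2058))
 (.leaf (nat_lit 0x80607010400030205) (nat_lit 1802))
)) (.node (nat_lit 0x80607010400050302) (.node (nat_lit 0x80607010400050203) (.leaf (nat_lit 0x80607010400030502) (nat_lit 1794))
 (.leaf (nat_lit 0x80607010400050203) (nat_lit 2050))
) (.node (nat_lit 0x80607010402000305) (.leaf (nat_lit 0x80607010400050302) (nat_lit 2058))
 (.leaf (nat_lit 0x80607010402000305) (nat_lit 1794))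
))) (.node (nat_lit 0x80607010402050300) (.node (nat_lit 0x80607010402030500) (.node (nat_lit 0x80607010402030005) (.leaf (nat_lit 0x80607010402000503) (nat_lit 1802))
 (.leaf (nat_lit 0x80607010402030005) (nat_lit 2058))
) (.node (nat_lit 0x80607010402050003) (.leaf (nat_lit 0x80607010402030500) (nat_lit 1538))
 (.leaf (nat_lit 0x80607010402050003) (nat_lit 1794))
)) (.node (nat_lit 0x80607010403000502) (.node (nat_lit 0x80607010403000205) (.leaf (nat_lit 0x80607010402050300) (nat_lit 1794))
 (.leaf (nat_lit 0x80607010403000205) (nat_lit 1539))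
) (.node (nat_lit 0x80607010403020005) (.leaf (nat_lit 0x80607010403000502) (nat_lit 2051))
 (.node (nat_lit 0x80607010403020500) (.leaf (nat_lit 0x80607010403020005) (nat_lit 1795))
 (.leaf (nat_lit 0x80607010403020500) (nat_lit 1795))
))))) (.node (nat_lit 0x80607010500020304) (.node (nat_lit 0x80607010405020003) (.node (nat_lit 0x80607010405000203) (.node (nat_lit 0x80607010403050200) (.leaf (nat_lit 0x80607010403050002) (nat_lit 1795))
 (.leaf (nat_lit 0x80607010403050200) (nat_lit 1795))
) (.node (nat_lit 0x80607010405000302) (.leaf (nat_lit 0x80607010405000203) (nat_lit 1536))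
 (.leaf (nat_lit 0x80607010405000302) (nat_lit 2058))
)) (.node (nat_lit 0x80607010405030002) (.node (nat_lit 0x80607010405020300) (.leaf (nat_lit 0x80607010405020003) (nat_lit 1792))
 (.leaf (nat_lit 0x80607010405020300) (nat_lit 1792))
) (.node (nat_lit 0x80607010405030200) (.leaf (nat_lit 0x80607010405030002) (nat_lit 1792))
 (.leaf (nat_lit 0x80607010405030200) (nat_lit 1802))
))) (.node (nat_lit 0x80607010500040203) (.node (nat_lit 0x80607010500030204) (.node (nat_lit 0x80607010500020403) (.leaf (nat_lit 0x80607010500020304) (nat_lit 1792))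
 (.leaf (nat_lit 0x80607010500020403) (nat_lit 2051))
) (.node (nat_lit 0x80607010500030402) (.leaf (nat_lit 0x80607010500030204) (nat_lit 1802))
 (.leaf (nat_lit 0x80607010500030402) (nat_lit 2048))
)) (.node (nat_lit 0x80607010502000304) (.node (nat_lit 0x80607010500040302) (.leaf (nat_lit 0x80607010500040203) (nat_lit 2048))
 (.leaf (nat_lit 0x80607010500040302) (nat_lit 1795))
) (.node (nat_lit 0x80607010502000403) (.leaf (nat_lit 0x80607010502000304) (nat_lit 2051))
 (.node (nat_lit 0x80607010502030004) (.leaf (nat_lit 0x80607010502000403) (nat_lit 1795))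
 (.leaf (nat_lit 0x80607010502030004) (nat_lit 1795))
)))))))) (.node (nat_lit 0x80607020300050104) (.node (nat_lit 0x80607020005010304) (.node (nat_lit 0x80607020001030504) (.node (nat_lit 0x80607010503040200) (.node (nat_lit 0x80607010503000402) (.node (nat_lit 0x80607010502040300) (.node (nat_lit 0x80607010502040003) (.leaf (nat_lit 0x80607010502030400) (nat_lit 1795))
 (.leaf (nat_lit 0x80607010502040003) (nat_lit 1802))
) (.node (nat_lit 0x80607010503000204) (.leaf (nat_lit 0x80607010502040300) (nat_lit 1539))
 (.leaf (nat_lit 0x80607010503000204) (nat_lit 1536))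
)) (.node (nat_lit 0x80607010503020400) (.node (nat_lit 0x80607010503020004) (.leaf (nat_lit 0x80607010503000402) (nat_lit 2048))
 (.leaf (nat_lit 0x80607010503020004) (nat_lit 1792))
) (.node (nat_lit 0x80607010503040002) (.leaf (nat_lit 0x80607010503020400) (nat_lit 1792))
 (.leaf (nat_lit 0x80607010503040002) (nat_lit 1792))
))) (.node (nat_lit 0x80607010504020300) (.node (nat_lit 0x80607010504000302) (.node (nat_lit 0x80607010504000203) (.leaf (nat_lit 0x80607010503040200) (nat_lit 2048))
 (.leaf (nat_lit 0x80607010504000203) (nat_lit 1280))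
) (.node (nat_lit 0x80607010504020003) (.leaf (nat_lit 0x80607010504000302) (nat_lit 1802))
 (.leaf (nat_lit 0x80607010504020003) (nat_lit 1536))
)) (.node (nat_lit 0x80607010504030200) (.node (nat_lit 0x80607010504030002) (.leaf (nat_lit 0x80607010504020300) (nat_lit 1536))
 (.leaf (nat_lit 0x80607010504030002) (nat_lit 1536))
) (.node (nat_lit 0x80607020001030405) (.leaf (nat_lit 0x80607010504030200) (nat_lit 1546))
 (.leaf (nat_lit 0x80607020001030405) (nat_lit 1801))
)))) (.node (nat_lit 0x80607020003040501) (.node (nat_lit 0x80607020001050403) (.node (nat_lit 0x80607020001040503) (.node (nat_lit 0x80607020001040305) (.leaf (nat_lit 0x80607020001030504) (nat_lit 1545))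
 (.leaf (nat_lit 0x80607020001040305) (nat_lit 1545))
) (.node (nat_lit 0x80607020001050304) (.leaf (nat_lit 0x80607020001040503) (nat_lit 1545))
 (.leaf (nat_lit 0x80607020001050304) (nat_lit 1801))
)) (.node (nat_lit 0x80607020003010504) (.node (nat_lit 0x80607020003010405) (.leaf (nat_lit 0x80607020001050403) (nat_lit 1289))
 (.leaf (nat_lit 0x80607020003010405) (nat_lit 2048))
) (.node (nat_lit 0x80607020003040105) (.leaf (nat_lit 0x80607020003010504) (nat_lit 1792))
 (.leaf (nat_lit 0x80607020003040105) (nat_lit 1792))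
))) (.node (nat_lit 0x80607020004010503) (.node (nat_lit 0x80607020003050401) (.node (nat_lit 0x80607020003050104) (.leaf (nat_lit 0x80607020003040501) (nat_lit 1792))
 (.leaf (nat_lit 0x80607020003050104) (nat_lit 2048))
) (.node (nat_lit 0x80607020004010305) (.leaf (nat_lit 0x80607020003050401) (nat_lit 1536))
 (.leaf (nat_lit 0x80607020004010305) (nat_lit 2050))
)) (.node (nat_lit 0x80607020004030501) (.node (nat_lit 0x80607020004030105) (.leaf (nat_lit 0x80607020004010503) (nat_lit 2051))
 (.leaf (nat_lit 0x80607020004030105) (nat_lit 2049))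
) (.node (nat_lit 0x80607020004050103) (.leaf (nat_lit 0x80607020004030501) (nat_lit 1794))
 (.node (nat_lit 0x80607020004050301) (.leaf (nat_lit 0x80607020004050103) (nat_lit 2050))
 (.leaf (nat_lit 0x80607020004050301) (nat_lit 2050))
)))))) (.node (nat_lit 0x80607020103050400) (.node (nat_lit 0x80607020100040305) (.node (nat_lit 0x80607020005040103) (.node (nat_lit 0x80607020005030104) (.node (nat_lit 0x80607020005010403) (.leaf (nat_lit 0x80607020005010304) (nat_lit 1802))
 (.leaf (nat_lit 0x80607020005010403) (nat_lit 2051))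
) (.node (nat_lit 0x80607020005030401) (.leaf (nat_lit 0x80607020005030104) (nat_lit 2051))
 (.leaf (nat_lit 0x80607020005030401) (nat_lit 2058))
)) (.node (nat_lit 0x80607020100030405) (.node (nat_lit 0x80607020005040301) (.leaf (nat_lit 0x80607020005040103) (nat_lit 2058))
 (.leaf (nat_lit 0x80607020005040301) (nat_lit 1795))
) (.node (nat_lit 0x80607020100030504) (.leaf (nat_lit 0x80607020100030405) (nat_lit 1289))
 (.leaf (nat_lit 0x80607020100030504) (nat_lit 1033))
))) (.node (nat_lit 0x80607020103000405) (.node (nat_lit 0x80607020100050304) (.node (nat_lit 0x80607020100040503) (.leaf (nat_lit 0x80607020100040305) (nat_lit 1033))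
 (.leaf (nat_lit 0x80607020100040503) (nat_lit 1033))
) (.node (nat_lit 0x80607020100050403) (.leaf (nat_lit 0x80607020100050304) (nat_lit 1289))
 (.leaf (nat_lit 0x80607020100050403) (nat_lit 777))
)) (.node (nat_lit 0x80607020103040005) (.node (nat_lit 0x80607020103000504) (.leaf (nat_lit 0x80607020103000405) (nat_lit 1546))
 (.leaf (nat_lit 0x80607020103000504) (nat_lit 1290))
) (.node (nat_lit 0x80607020103040500) (.leaf (nat_lit 0x80607020103040005) (nat_lit 1290))
 (.node (nat_lit 0x80607020103050004) (.leaf (nat_lit 0x80607020103040500) (nat_lit 1290))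
 (.leaf (nat_lit 0x80607020103050004) (nat_lit 1546))
))))) (.node (nat_lit 0x80607020105000403) (.node (nat_lit 0x80607020104030500) (.node (nat_lit 0x80607020104000503) (.node (nat_lit 0x80607020104000305) (.leaf (nat_lit 0x80607020103050400) (nat_lit 1034))
 (.leaf (nat_lit 0x80607020104000305) (nat_lit 1538))
) (.node (nat_lit 0x80607020104030005) (.leaf (nat_lit 0x80607020104000503) (nat_lit 1546))
 (.leaf (nat_lit 0x80607020104030005) (nat_lit 1802))
)) (.node (nat_lit 0x80607020104050300) (.node (nat_lit 0x80607020104050003) (.leaf (nat_lit 0x80607020104030500) (nat_lit 1282))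
 (.leaf (nat_lit 0x80607020104050003) (nat_lit 1538))
) (.node (nat_lit 0x80607020105000304) (.leaf (nat_lit 0x80607020104050300) (nat_lit 1538))
 (.leaf (nat_lit 0x80607020105000304) (nat_lit 1795))
))) (.node (nat_lit 0x80607020105040300) (.node (nat_lit 0x80607020105030400) (.node (nat_lit 0x80607020105030004) (.leaf (nat_lit 0x80607020105000403) (nat_lit 1539))
 (.leaf (nat_lit 0x80607020105030004) (nat_lit 1539))
) (.node (nat_lit 0x80607020105040003) (.leaf (nat_lit 0x80607020105030400) (nat_lit 1539))
 (.leaf (nat_lit 0x80607020105040003) (nat_lit 1546))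
)) (.node (nat_lit 0x80607020300010504) (.node (nat_lit 0x80607020300010405) (.leaf (nat_lit 0x80607020105040300) (nat_lit 1283))
 (.leaf (nat_lit 0x80607020300010405) (nat_lit 2048))
) (.node (nat_lit 0x80607020300040105) (.leaf (nat_lit 0x80607020300010504) (nat_lit 1792))
 (.node (nat_lit 0x80607020300040501) (.leaf (nat_lit 0x80607020300040105) (nat_lit 1792))
 (.leaf (nat_lit 0x80607020300040501) (nat_lit 1792))
))))))) (.node (nat_lit 0x80607020403010005) (.node (nat_lit 0x80607020305010400) (.node (nat_lit 0x80607020304000105) (.node (nat_lit 0x80607020301040005) (.node (nat_lit 0x80607020301000405) (.node (nat_lit 0x80607020300050401) (.leaf (nat_lit 0x80607020300050104) (nat_lit 2048))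
 (.leaf (nat_lit 0x80607020300050401) (nat_lit 1536))
) (.node (nat_lit 0x80607020301000504) (.leaf (nat_lit 0x80607020301000405) (nat_lit 2058))
 (.leaf (nat_lit 0x80607020301000504) (nat_lit 1802))
)) (.node (nat_lit 0x80607020301050004) (.node (nat_lit 0x80607020301040500) (.leaf (nat_lit 0x80607020301040005) (nat_lit 1802))
 (.leaf (nat_lit 0x80607020301040500) (nat_lit 1802))
) (.node (nat_lit 0x80607020301050400) (.leaf (nat_lit 0x80607020301050004) (nat_lit 2058))
 (.leaf (nat_lit 0x80607020301050400) (nat_lit 1546))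
))) (.node (nat_lit 0x80607020304050001) (.node (nat_lit 0x80607020304010005) (.node (nat_lit 0x80607020304000501) (.leaf (nat_lit 0x80607020304000105) (nat_lit 2051))
 (.leaf (nat_lit 0x80607020304000501) (nat_lit 2051))
) (.node (nat_lit 0x80607020304010500) (.leaf (nat_lit 0x80607020304010005) (nat_lit 1795))
 (.leaf (nat_lit 0x80607020304010500) (nat_lit 2051))
)) (.node (nat_lit 0x80607020305000104) (.node (nat_lit 0x80607020304050100) (.leaf (nat_lit 0x80607020304050001) (nat_lit 2307))
 (.leaf (nat_lit 0x80607020304050100) (nat_lit 2051))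
) (.node (nat_lit 0x80607020305000401) (.leaf (nat_lit 0x80607020305000104) (nat_lit 1794))
 (.node (nat_lit 0x80607020305010004) (.leaf (nat_lit 0x80607020305000401) (nat_lit 1794))
 (.leaf (nat_lit 0x80607020305010004) (nat_lit 1538))
))))) (.node (nat_lit 0x80607020400050301) (.node (nat_lit 0x80607020400010503) (.node (nat_lit 0x80607020305040100) (.node (nat_lit 0x80607020305040001) (.leaf (nat_lit 0x80607020305010400) (nat_lit 1794))
 (.leaf (nat_lit 0x80607020305040001) (nat_lit 2050))
) (.node (nat_lit 0x80607020400010305) (.leaf (nat_lit 0x80607020305040100) (nat_lit 1794))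
 (.leaf (nat_lit 0x80607020400010305) (nat_lit 1802))
)) (.node (nat_lit 0x80607020400030501) (.node (nat_lit 0x80607020400030105) (.leaf (nat_lit 0x80607020400010503) (nat_lit 2058))
 (.leaf (nat_lit 0x80607020400030105) (nat_lit 2058))
) (.node (nat_lit 0x80607020400050103) (.leaf (nat_lit 0x80607020400030501) (nat_lit 1794))
 (.leaf (nat_lit 0x80607020400050103) (nat_lit 2058))
))) (.node (nat_lit 0x80607020401030500) (.node (nat_lit 0x80607020401000503) (.node (nat_lit 0x80607020401000305) (.leaf (nat_lit 0x80607020400050301) (nat_lit 2050))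
 (.leaf (nat_lit 0x80607020401000305) (nat_lit 2050))
) (.node (nat_lit 0x80607020401030005) (.leaf (nat_lit 0x80607020401000503) (nat_lit 2058))
 (.leaf (nat_lit 0x80607020401030005) (nat_lit 2048))
)) (.node (nat_lit 0x80607020401050300) (.node (nat_lit 0x80607020401050003) (.leaf (nat_lit 0x80607020401030500) (nat_lit 1794))
 (.leaf (nat_lit 0x80607020401050003) (nat_lit 2050))
) (.node (nat_lit 0x80607020403000105) (.leaf (nat_lit 0x80607020401050300) (nat_lit 2050))
 (.node (nat_lit 0x80607020403000501) (.leaf (nat_lit 0x80607020403000105) (nat_lit 1795))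
 (.leaf (nat_lit 0x80607020403000501) (nat_lit 1795))
)))))) (.node (nat_lit 0x80607020501000403) (.node (nat_lit 0x80607020405030001) (.node (nat_lit 0x80607020405000103) (.node (nat_lit 0x80607020403050001) (.node (nat_lit 0x80607020403010500) (.leaf (nat_lit 0x80607020403010005) (nat_lit 1539))
 (.leaf (nat_lit 0x80607020403010500) (nat_lit 1795))
) (.node (nat_lit 0x80607020403050100) (.leaf (nat_lit 0x80607020403050001) (nat_lit 2051))
 (.leaf (nat_lit 0x80607020403050100) (nat_lit 1795))
)) (.node (nat_lit 0x80607020405010003) (.node (nat_lit 0x80607020405000301) (.leaf (nat_lit 0x80607020405000103) (nat_lit 1793))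
 (.leaf (nat_lit 0x80607020405000301) (nat_lit 1793))
) (.node (nat_lit 0x80607020405010300) (.leaf (nat_lit 0x80607020405010003) (nat_lit 1537))
 (.leaf (nat_lit 0x80607020405010300) (nat_lit 1802))
))) (.node (nat_lit 0x80607020500030104) (.node (nat_lit 0x80607020500010304) (.node (nat_lit 0x80607020405030100) (.leaf (nat_lit 0x80607020405030001) (nat_lit 2049))
 (.leaf (nat_lit 0x80607020405030100) (nat_lit 1793))
) (.node (nat_lit 0x80607020500010403) (.leaf (nat_lit 0x80607020500010304) (nat_lit 1802))
 (.leaf (nat_lit 0x80607020500010403) (nat_lit 2051))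
)) (.node (nat_lit 0x80607020500040103) (.node (nat_lit 0x80607020500030401) (.leaf (nat_lit 0x80607020500030104) (nat_lit 1793))
 (.leaf (nat_lit 0x80607020500030401) (nat_lit 2058))
) (.node (nat_lit 0x80607020500040301) (.leaf (nat_lit 0x80607020500040103) (nat_lit 2058))
 (.node (nat_lit 0x80607020501000304) (.leaf (nat_lit 0x80607020500040301) (nat_lit 1795))
 (.leaf (nat_lit 0x80607020501000304) (nat_lit 1793))
))))) (.node (nat_lit 0x80607020503010400) (.node (nat_lit 0x80607020501040300) (.node (nat_lit 0x80607020501030400) (.node (nat_lit 0x80607020501030004) (.leaf (nat_lit 0x80607020501000403) (nat_lit 2051))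
 (.leaf (nat_lit 0x80607020501030004) (nat_lit 2051))
) (.node (nat_lit 0x80607020501040003) (.leaf (nat_lit 0x80607020501030400) (nat_lit 2049))
 (.leaf (nat_lit 0x80607020501040003) (nat_lit 2049))
)) (.node (nat_lit 0x80607020503000401) (.node (nat_lit 0x80607020503000104) (.leaf (nat_lit 0x80607020501040300) (nat_lit 1795))
 (.leaf (nat_lit 0x80607020503000104) (nat_lit 1793))
) (.node (nat_lit 0x80607020503010004) (.leaf (nat_lit 0x80607020503000401) (nat_lit 1793))
 (.leaf (nat_lit 0x80607020503010004) (nat_lit 1537))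
))) (.node (nat_lit 0x80607020504000301) (.node (nat_lit 0x80607020503040100) (.node (nat_lit 0x80607020503040001) (.leaf (nat_lit 0x80607020503010400) (nat_lit 2049))
 (.leaf (nat_lit 0x80607020503040001) (nat_lit 2049))
) (.node (nat_lit 0x80607020504000103) (.leaf (nat_lit 0x80607020503040100) (nat_lit 1793))
 (.leaf (nat_lit 0x80607020504000103) (nat_lit 1537))
)) (.node (nat_lit 0x80607020504010300) (.node (nat_lit 0x80607020504010003) (.leaf (nat_lit 0x80607020504000301) (nat_lit 1537))
 (.leaf (nat_lit 0x80607020504010003) (nat_lit 1281))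
) (.node (nat_lit 0x80607020504030001) (.leaf (nat_lit 0x80607020504010300) (nat_lit 1546))
 (.node (nat_lit 0x80607020504030100) (.leaf (nat_lit 0x80607020504030001) (nat_lit 1793))
 (.leaf (nat_lit 0x80607020504030100) (nat_lit 1537))
))))))))))) (.node (nat_lit 0x80706010304000205) (.node (nat_lit 0x80607050102000304) (.node (nat_lit 0x80607040003020501) (.node (nat_lit 0x80607030205000401) (.node (nat_lit 0x80607030102040500) (.node (nat_lit 0x80607030004050102) (.node (nat_lit 0x80607030002040105) (.node (nat_lit 0x80607030001050204) (.node (nat_lit 0x80607030001040205) (.node (nat_lit 0x80607030001020504) (.leaf (nat_lit 0x80607030001020405) (nat_lit 2051))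
 (.leaf (nat_lit 0x80607030001020504) (nat_lit 2049))
) (.node (nat_lit 0x80607030001040502) (.leaf (nat_lit 0x80607030001040205) (nat_lit 2049))
 (.leaf (nat_lit 0x80607030001040502) (nat_lit 2051))
)) (.node (nat_lit 0x80607030002010405) (.node (nat_lit 0x80607030001050402) (.leaf (nat_lit 0x80607030001050204) (nat_lit 1795))
 (.leaf (nat_lit 0x80607030001050402) (nat_lit 1793))
) (.node (nat_lit 0x80607030002010504) (.leaf (nat_lit 0x80607030002010405) (nat_lit 2048))
 (.leaf (nat_lit 0x80607030002010504) (nat_lit 1792))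
))) (.node (nat_lit 0x80607030004010205) (.node (nat_lit 0x80607030002050104) (.node (nat_lit 0x80607030002040501) (.leaf (nat_lit 0x80607030002040105) (nat_lit 1792))
 (.leaf (nat_lit 0x80607030002040501) (nat_lit 1792))
) (.node (nat_lit 0x80607030002050401) (.leaf (nat_lit 0x80607030002050104) (nat_lit 2048))
 (.leaf (nat_lit 0x80607030002050401) (nat_lit 1536))
)) (.node (nat_lit 0x80607030004020105) (.node (nat_lit 0x80607030004010502) (.leaf (nat_lit 0x80607030004010205) (nat_lit 1539))
 (.leaf (nat_lit 0x80607030004010502) (nat_lit 1539))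
) (.node (nat_lit 0x80607030004020501) (.leaf (nat_lit 0x80607030004020105) (nat_lit 1283))
 (.leaf (nat_lit 0x80607030004020501) (nat_lit 1795))
)))) (.node (nat_lit 0x80607030100020405) (.node (nat_lit 0x80607030005020104) (.node (nat_lit 0x80607030005010204) (.node (nat_lit 0x80607030004050201) (.leaf (nat_lit 0x80607030004050102) (nat_lit 1795))
 (.leaf (nat_lit 0x80607030004050201) (nat_lit 1539))
) (.node (nat_lit 0x80607030005010402) (.leaf (nat_lit 0x80607030005010204) (nat_lit 1802))
 (.leaf (nat_lit 0x80607030005010402) (nat_lit 1802))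
)) (.node (nat_lit 0x80607030005040102) (.node (nat_lit 0x80607030005020401) (.leaf (nat_lit 0x80607030005020104) (nat_lit 1546))
 (.leaf (nat_lit 0x80607030005020401) (nat_lit 2058))
) (.node (nat_lit 0x80607030005040201) (.leaf (nat_lit 0x80607030005040102) (nat_lit 2058))
 (.leaf (nat_lit 0x80607030005040201) (nat_lit 1802))
))) (.node (nat_lit 0x80607030100050204) (.node (nat_lit 0x80607030100040205) (.node (nat_lit 0x80607030100020504) (.leaf (nat_lit 0x80607030100020405) (nat_lit 2049))
 (.leaf (nat_lit 0x80607030100020504) (nat_lit 1793))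
) (.node (nat_lit 0x80607030100040502) (.leaf (nat_lit 0x80607030100040205) (nat_lit 1793))
 (.leaf (nat_lit 0x80607030100040502) (nat_lit 1793))
)) (.node (nat_lit 0x80607030102000405) (.node (nat_lit 0x80607030100050402) (.leaf (nat_lit 0x80607030100050204) (nat_lit 2049))
 (.leaf (nat_lit 0x80607030100050402) (nat_lit 1537))
) (.node (nat_lit 0x80607030102000504) (.leaf (nat_lit 0x80607030102000405) (nat_lit 2058))
 (.node (nat_lit 0x80607030102040005) (.leaf (nat_lit 0x80607030102000504) (nat_lit 1802))
 (.leaf (nat_lit 0x80607030102040005) (nat_lit 1802))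
)))))) (.node (nat_lit 0x80607030200040105) (.node (nat_lit 0x80607030104050200) (.node (nat_lit 0x80607030104000502) (.node (nat_lit 0x80607030102050400) (.node (nat_lit 0x80607030102050004) (.leaf (nat_lit 0x80607030102040500) (nat_lit 1802))
 (.leaf (nat_lit 0x80607030102050004) (nat_lit 2058))
) (.node (nat_lit 0x80607030104000205) (.leaf (nat_lit 0x80607030102050400) (nat_lit 1546))
 (.leaf (nat_lit 0x80607030104000205) (nat_lit 1539))
)) (.node (nat_lit 0x80607030104020500) (.node (nat_lit 0x80607030104020005) (.leaf (nat_lit 0x80607030104000502) (nat_lit 2051))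
 (.leaf (nat_lit 0x80607030104020005) (nat_lit 1795))
) (.node (nat_lit 0x80607030104050002) (.leaf (nat_lit 0x80607030104020500) (nat_lit 1795))
 (.leaf (nat_lit 0x80607030104050002) (nat_lit 1795))
))) (.node (nat_lit 0x80607030105020400) (.node (nat_lit 0x80607030105000402) (.node (nat_lit 0x80607030105000204) (.leaf (nat_lit 0x80607030104050200) (nat_lit 1795))
 (.leaf (nat_lit 0x80607030105000204) (nat_lit 1792))
) (.node (nat_lit 0x80607030105020004) (.leaf (nat_lit 0x80607030105000402) (nat_lit 2306))
 (.leaf (nat_lit 0x80607030105020004) (nat_lit 2048))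
)) (.node (nat_lit 0x80607030105040200) (.node (nat_lit 0x80607030105040002) (.leaf (nat_lit 0x80607030105020400) (nat_lit 2048))
 (.leaf (nat_lit 0x80607030105040002) (nat_lit 2048))
) (.node (nat_lit 0x80607030200010405) (.leaf (nat_lit 0x80607030105040200) (nat_lit 2050))
 (.node (nat_lit 0x80607030200010504) (.leaf (nat_lit 0x80607030200010405) (nat_lit 2058))
 (.leaf (nat_lit 0x80607030200010504) (nat_lit 1802))
))))) (.node (nat_lit 0x80607030201050004) (.node (nat_lit 0x80607030201000405) (.node (nat_lit 0x80607030200050104) (.node (nat_lit 0x80607030200040501) (.leaf (nat_lit 0x80607030200040105) (nat_lit 1802))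
 (.leaf (nat_lit 0x80607030200040501) (nat_lit 1802))
) (.node (nat_lit 0x80607030200050401) (.leaf (nat_lit 0x80607030200050104) (nat_lit 2058))
 (.leaf (nat_lit 0x80607030200050401) (nat_lit 1546))
)) (.node (nat_lit 0x80607030201040005) (.node (nat_lit 0x80607030201000504) (.leaf (nat_lit 0x80607030201000405) (nat_lit 1802))
 (.leaf (nat_lit 0x80607030201000504) (nat_lit 1546))
) (.node (nat_lit 0x80607030201040500) (.leaf (nat_lit 0x80607030201040005) (nat_lit 1546))
 (.leaf (nat_lit 0x80607030201040500) (nat_lit 1546))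
))) (.node (nat_lit 0x80607030204010005) (.node (nat_lit 0x80607030204000105) (.node (nat_lit 0x80607030201050400) (.leaf (nat_lit 0x80607030201050004) (nat_lit 1802))
 (.leaf (nat_lit 0x80607030201050400) (nat_lit 1290))
) (.node (nat_lit 0x80607030204000501) (.leaf (nat_lit 0x80607030204000105) (nat_lit 1795))
 (.leaf (nat_lit 0x80607030204000501) (nat_lit 1795))
)) (.node (nat_lit 0x80607030204050001) (.node (nat_lit 0x80607030204010500) (.leaf (nat_lit 0x80607030204010005) (nat_lit 1539))
 (.leaf (nat_lit 0x80607030204010500) (nat_lit 1795))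
) (.node (nat_lit 0x80607030204050100) (.leaf (nat_lit 0x80607030204050001) (nat_lit 2051))
 (.node (nat_lit 0x80607030205000104) (.leaf (nat_lit 0x80607030204050100) (nat_lit 1795))
 (.leaf (nat_lit 0x80607030205000104) (nat_lit 2058))
))))))) (.node (nat_lit 0x80607030500040201) (.node (nat_lit 0x80607030402000105) (.node (nat_lit 0x80607030400020501) (.node (nat_lit 0x80607030205040100) (.node (nat_lit 0x80607030205010400) (.node (nat_lit 0x80607030205010004) (.leaf (nat_lit 0x80607030205000401) (nat_lit 2049))
 (.leaf (nat_lit 0x80607030205010004) (nat_lit 1793))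
) (.node (nat_lit 0x80607030205040001) (.leaf (nat_lit 0x80607030205010400) (nat_lit 2058))
 (.leaf (nat_lit 0x80607030205040001) (nat_lit 1802))
)) (.node (nat_lit 0x80607030400010502) (.node (nat_lit 0x80607030400010205) (.leaf (nat_lit 0x80607030205040100) (nat_lit 2049))
 (.leaf (nat_lit 0x80607030400010205) (nat_lit 1539))
) (.node (nat_lit 0x80607030400020105) (.leaf (nat_lit 0x80607030400010502) (nat_lit 1539))
 (.leaf (nat_lit 0x80607030400020105) (nat_lit 1283))
))) (.node (nat_lit 0x80607030401000502) (.node (nat_lit 0x80607030400050201) (.node (nat_lit 0x80607030400050102) (.leaf (nat_lit 0x80607030400020501) (nat_lit 1795))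
 (.leaf (nat_lit 0x80607030400050102) (nat_lit 1795))
) (.node (nat_lit 0x80607030401000205) (.leaf (nat_lit 0x80607030400050201) (nat_lit 1539))
 (.leaf (nat_lit 0x80607030401000205) (nat_lit 1539))
)) (.node (nat_lit 0x80607030401020500) (.node (nat_lit 0x80607030401020005) (.leaf (nat_lit 0x80607030401000502) (nat_lit 2051))
 (.leaf (nat_lit 0x80607030401020005) (nat_lit 1795))
) (.node (nat_lit 0x80607030401050002) (.leaf (nat_lit 0x80607030401020500) (nat_lit 1795))
 (.node (nat_lit 0x80607030401050200) (.leaf (nat_lit 0x80607030401050002) (nat_lit 1795))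
 (.leaf (nat_lit 0x80607030401050200) (nat_lit 1795))
))))) (.node (nat_lit 0x80607030405010002) (.node (nat_lit 0x80607030402050001) (.node (nat_lit 0x80607030402010005) (.node (nat_lit 0x80607030402000501) (.leaf (nat_lit 0x80607030402000105) (nat_lit 1795))
 (.leaf (nat_lit 0x80607030402000501) (nat_lit 1795))
) (.node (nat_lit 0x80607030402010500) (.leaf (nat_lit 0x80607030402010005) (nat_lit 1539))
 (.leaf (nat_lit 0x80607030402010500) (nat_lit 1795))
)) (.node (nat_lit 0x80607030405000102) (.node (nat_lit 0x80607030402050100) (.leaf (nat_lit 0x80607030402050001) (nat_lit 2051))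
 (.leaf (nat_lit 0x80607030402050100) (nat_lit 1795))
) (.node (nat_lit 0x80607030405000201) (.leaf (nat_lit 0x80607030405000102) (nat_lit 1544))
 (.leaf (nat_lit 0x80607030405000201) (nat_lit 1288))
))) (.node (nat_lit 0x80607030500010204) (.node (nat_lit 0x80607030405020001) (.node (nat_lit 0x80607030405010200) (.leaf (nat_lit 0x80607030405010002) (nat_lit 1288))
 (.leaf (nat_lit 0x80607030405010200) (nat_lit 1288))
) (.node (nat_lit 0x80607030405020100) (.leaf (nat_lit 0x80607030405020001) (nat_lit 1544))
 (.leaf (nat_lit 0x80607030405020100) (nat_lit 1032))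
)) (.node (nat_lit 0x80607030500020104) (.node (nat_lit 0x80607030500010402) (.leaf (nat_lit 0x80607030500010204) (nat_lit 1282))
 (.leaf (nat_lit 0x80607030500010402) (nat_lit 1282))
) (.node (nat_lit 0x80607030500020401) (.leaf (nat_lit 0x80607030500020104) (nat_lit 1026))
 (.node (nat_lit 0x80607030500040102) (.leaf (nat_lit 0x80607030500020401) (nat_lit 1538))
 (.leaf (nat_lit 0x80607030500040102) (nat_lit 1538))
)))))) (.node (nat_lit 0x80607030504020001) (.node (nat_lit 0x80607030502000401) (.node (nat_lit 0x80607030501020400) (.node (nat_lit 0x80607030501000402) (.node (nat_lit 0x80607030501000204) (.leaf (nat_lit 0x80607030500040201) (nat_lit 1282))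
 (.leaf (nat_lit 0x80607030501000204) (nat_lit 1282))
) (.node (nat_lit 0x80607030501020004) (.leaf (nat_lit 0x80607030501000402) (nat_lit 1794))
 (.leaf (nat_lit 0x80607030501020004) (nat_lit 1538))
)) (.node (nat_lit 0x80607030501040200) (.node (nat_lit 0x80607030501040002) (.leaf (nat_lit 0x80607030501020400) (nat_lit 1538))
 (.leaf (nat_lit 0x80607030501040002) (nat_lit 1538))
) (.node (nat_lit 0x80607030502000104) (.leaf (nat_lit 0x80607030501040200) (nat_lit 1538))
 (.leaf (nat_lit 0x80607030502000104) (nat_lit 1538))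
))) (.node (nat_lit 0x80607030502040100) (.node (nat_lit 0x80607030502010400) (.node (nat_lit 0x80607030502010004) (.leaf (nat_lit 0x80607030502000401) (nat_lit 1538))
 (.leaf (nat_lit 0x80607030502010004) (nat_lit 1282))
) (.node (nat_lit 0x80607030502040001) (.leaf (nat_lit 0x80607030502010400) (nat_lit 1538))
 (.leaf (nat_lit 0x80607030502040001) (nat_lit 1794))
)) (.node (nat_lit 0x80607030504000201) (.node (nat_lit 0x80607030504000102) (.leaf (nat_lit 0x80607030502040100) (nat_lit 1538))
 (.leaf (nat_lit 0x80607030504000102) (nat_lit 1288))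
) (.node (nat_lit 0x80607030504010002) (.leaf (nat_lit 0x80607030504000201) (nat_lit 1032))
 (.node (nat_lit 0x80607030504010200) (.leaf (nat_lit 0x80607030504010002) (nat_lit 1032))
 (.leaf (nat_lit 0x80607030504010200) (nat_lit 1032))
))))) (.node (nat_lit 0x80607040002010305) (.node (nat_lit 0x80607040001030205) (.node (nat_lit 0x80607040001020305) (.node (nat_lit 0x80607030504020100) (.leaf (nat_lit 0x80607030504020001) (nat_lit 1288))
 (.leaf (nat_lit 0x80607030504020100) (nat_lit 776))
) (.node (nat_lit 0x80607040001020503) (.leaf (nat_lit 0x80607040001020305) (nat_lit 1802))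
 (.leaf (nat_lit 0x80607040001020503) (nat_lit 1802))
)) (.node (nat_lit 0x80607040001050203) (.node (nat_lit 0x80607040001030502) (.leaf (nat_lit 0x80607040001030205) (nat_lit 1546))
 (.leaf (nat_lit 0x80607040001030502) (nat_lit 2058))
) (.node (nat_lit 0x80607040001050302) (.leaf (nat_lit 0x80607040001050203) (nat_lit 1802))
 (.leaf (nat_lit 0x80607040001050302) (nat_lit 1802))
))) (.node (nat_lit 0x80607040002050103) (.node (nat_lit 0x80607040002030105) (.node (nat_lit 0x80607040002010503) (.leaf (nat_lit 0x80607040002010305) (nat_lit 1546))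
 (.leaf (nat_lit 0x80607040002010503) (nat_lit 1802))
) (.node (nat_lit 0x80607040002030501) (.leaf (nat_lit 0x80607040002030105) (nat_lit 1802))
 (.leaf (nat_lit 0x80607040002030501) (nat_lit 1802))
)) (.node (nat_lit 0x80607040003010205) (.node (nat_lit 0x80607040002050301) (.leaf (nat_lit 0x80607040002050103) (nat_lit 1802))
 (.leaf (nat_lit 0x80607040002050301) (nat_lit 2058))
) (.node (nat_lit 0x80607040003010502) (.leaf (nat_lit 0x80607040003010205) (nat_lit 1546))
 (.node (nat_lit 0x80607040003020105) (.leaf (nat_lit 0x80607040003010502) (nat_lit 1546))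
 (.leaf (nat_lit 0x80607040003020105) (nat_lit 1290))
)))))))) (.node (nat_lit 0x80607040301050002) (.node (nat_lit 0x80607040200010305) (.node (nat_lit 0x80607040102000503) (.node (nat_lit 0x80607040005030201) (.node (nat_lit 0x80607040005010302) (.node (nat_lit 0x80607040003050201) (.node (nat_lit 0x80607040003050102) (.leaf (nat_lit 0x80607040003020501) (nat_lit 1802))
 (.leaf (nat_lit 0x80607040003050102) (nat_lit 1802))
) (.node (nat_lit 0x80607040005010203) (.leaf (nat_lit 0x80607040003050201) (nat_lit 1546))
 (.leaf (nat_lit 0x80607040005010203) (nat_lit 1290))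
)) (.node (nat_lit 0x80607040005020301) (.node (nat_lit 0x80607040005020103) (.leaf (nat_lit 0x80607040005010302) (nat_lit 1290))
 (.leaf (nat_lit 0x80607040005020103) (nat_lit 1034))
) (.node (nat_lit 0x80607040005030102) (.leaf (nat_lit 0x80607040005020301) (nat_lit 1546))
 (.leaf (nat_lit 0x80607040005030102) (nat_lit 1546))
))) (.node (nat_lit 0x80607040100030502) (.node (nat_lit 0x80607040100020503) (.node (nat_lit 0x80607040100020305) (.leaf (nat_lit 0x80607040005030201) (nat_lit 1290))
 (.leaf (nat_lit 0x80607040100020305) (nat_lit 1792))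
) (.node (nat_lit 0x80607040100030205) (.leaf (nat_lit 0x80607040100020503) (nat_lit 2058))
 (.leaf (nat_lit 0x80607040100030205) (nat_lit 1802))
)) (.node (nat_lit 0x80607040100050302) (.node (nat_lit 0x80607040100050203) (.leaf (nat_lit 0x80607040100030502) (nat_lit 1794))
 (.leaf (nat_lit 0x80607040100050203) (nat_lit 2048))
) (.node (nat_lit 0x80607040102000305) (.leaf (nat_lit 0x80607040100050302) (nat_lit 2058))
 (.leaf (nat_lit 0x80607040102000305) (nat_lit 2050))
)))) (.node (nat_lit 0x80607040103020500) (.node (nat_lit 0x80607040102050300) (.node (nat_lit 0x80607040102030500) (.node (nat_lit 0x80607040102030005) (.leaf (nat_lit 0x80607040102000503) (nat_lit 2048))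
 (.leaf (nat_lit 0x80607040102030005) (nat_lit 1792))
) (.node (nat_lit 0x80607040102050003) (.leaf (nat_lit 0x80607040102030500) (nat_lit 1794))
 (.leaf (nat_lit 0x80607040102050003) (nat_lit 2050))
)) (.node (nat_lit 0x80607040103000502) (.node (nat_lit 0x80607040103000205) (.leaf (nat_lit 0x80607040102050300) (nat_lit 2048))
 (.leaf (nat_lit 0x80607040103000205) (nat_lit 1536))
) (.node (nat_lit 0x80607040103020005) (.leaf (nat_lit 0x80607040103000502) (nat_lit 2048))
 (.leaf (nat_lit 0x80607040103020005) (nat_lit 1792))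
))) (.node (nat_lit 0x80607040105000302) (.node (nat_lit 0x80607040103050200) (.node (nat_lit 0x80607040103050002) (.leaf (nat_lit 0x80607040103020500) (nat_lit 1792))
 (.leaf (nat_lit 0x80607040103050002) (nat_lit 1792))
) (.node (nat_lit 0x80607040105000203) (.leaf (nat_lit 0x80607040103050200) (nat_lit 2048))
 (.leaf (nat_lit 0x80607040105000203) (nat_lit 1280))
)) (.node (nat_lit 0x80607040105020300) (.node (nat_lit 0x80607040105020003) (.leaf (nat_lit 0x80607040105000302) (nat_lit 1802))
 (.leaf (nat_lit 0x80607040105020003) (nat_lit 1536))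
) (.node (nat_lit 0x80607040105030002) (.leaf (nat_lit 0x80607040105020300) (nat_lit 1536))
 (.node (nat_lit 0x80607040105030200) (.leaf (nat_lit 0x80607040105030002) (nat_lit 1536))
 (.leaf (nat_lit 0x80607040105030200) (nat_lit 1546))
)))))) (.node (nat_lit 0x80607040203050100) (.node (nat_lit 0x80607040201030005) (.node (nat_lit 0x80607040200050103) (.node (nat_lit 0x80607040200030105) (.node (nat_lit 0x80607040200010503) (.leaf (nat_lit 0x80607040200010305) (nat_lit 1802))
 (.leaf (nat_lit 0x80607040200010503) (nat_lit 2049))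
) (.node (nat_lit 0x80607040200030501) (.leaf (nat_lit 0x80607040200030105) (nat_lit 1793))
 (.leaf (nat_lit 0x80607040200030501) (nat_lit 1794))
)) (.node (nat_lit 0x80607040201000305) (.node (nat_lit 0x80607040200050301) (.leaf (nat_lit 0x80607040200050103) (nat_lit 2058))
 (.leaf (nat_lit 0x80607040200050301) (nat_lit 2049))
) (.node (nat_lit 0x80607040201000503) (.leaf (nat_lit 0x80607040201000305) (nat_lit 1794))
 (.leaf (nat_lit 0x80607040201000503) (nat_lit 1802))
))) (.node (nat_lit 0x80607040203000105) (.node (nat_lit 0x80607040201050003) (.node (nat_lit 0x80607040201030500) (.leaf (nat_lit 0x80607040201030005) (nat_lit 2058))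
 (.leaf (nat_lit 0x80607040201030500) (nat_lit 1538))
) (.node (nat_lit 0x80607040201050300) (.leaf (nat_lit 0x80607040201050003) (nat_lit 1794))
 (.leaf (nat_lit 0x80607040201050300) (nat_lit 1794))
)) (.node (nat_lit 0x80607040203010005) (.node (nat_lit 0x80607040203000501) (.leaf (nat_lit 0x80607040203000105) (nat_lit 1793))
 (.leaf (nat_lit 0x80607040203000501) (nat_lit 1793))
) (.node (nat_lit 0x80607040203010500) (.leaf (nat_lit 0x80607040203010005) (nat_lit 1537))
 (.node (nat_lit 0x80607040203050001) (.leaf (nat_lit 0x80607040203010500) (nat_lit 2049))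
 (.leaf (nat_lit 0x80607040203050001) (nat_lit 2049))
))))) (.node (nat_lit 0x80607040300010502) (.node (nat_lit 0x80607040205010300) (.node (nat_lit 0x80607040205000301) (.node (nat_lit 0x80607040205000103) (.leaf (nat_lit 0x80607040203050100) (nat_lit 1793))
 (.leaf (nat_lit 0x80607040205000103) (nat_lit 1537))
) (.node (nat_lit 0x80607040205010003) (.leaf (nat_lit 0x80607040205000301) (nat_lit 1537))
 (.leaf (nat_lit 0x80607040205010003) (nat_lit 1281))
)) (.node (nat_lit 0x80607040205030100) (.node (nat_lit 0x80607040205030001) (.leaf (nat_lit 0x80607040205010300) (nat_lit 1546))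
 (.leaf (nat_lit 0x80607040205030001) (nat_lit 1793))
) (.node (nat_lit 0x80607040300010205) (.leaf (nat_lit 0x80607040205030100) (nat_lit 1537))
 (.leaf (nat_lit 0x80607040300010205) (nat_lit 1283))
))) (.node (nat_lit 0x80607040300050201) (.node (nat_lit 0x80607040300020501) (.node (nat_lit 0x80607040300020105) (.leaf (nat_lit 0x80607040300010502) (nat_lit 1283))
 (.leaf (nat_lit 0x80607040300020105) (nat_lit 1027))
) (.node (nat_lit 0x80607040300050102) (.leaf (nat_lit 0x80607040300020501) (nat_lit 1539))
 (.leaf (nat_lit 0x80607040300050102) (nat_lit 1539))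
)) (.node (nat_lit 0x80607040301000502) (.node (nat_lit 0x80607040301000205) (.leaf (nat_lit 0x80607040300050201) (nat_lit 1283))
 (.leaf (nat_lit 0x80607040301000205) (nat_lit 1283))
) (.node (nat_lit 0x80607040301020005) (.leaf (nat_lit 0x80607040301000502) (nat_lit 1795))
 (.node (nat_lit 0x80607040301020500) (.leaf (nat_lit 0x80607040301020005) (nat_lit 1539))
 (.leaf (nat_lit 0x80607040301020500) (nat_lit 1539))
))))))) (.node (nat_lit 0x80607040503010002) (.node (nat_lit 0x80607040500020301) (.node (nat_lit 0x80607040305000102) (.node (nat_lit 0x80607040302010005) (.node (nat_lit 0x80607040302000105) (.node (nat_lit 0x80607040301050200) (.leaf (nat_lit 0x80607040301050002) (nat_lit 1539))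
 (.leaf (nat_lit 0x80607040301050200) (nat_lit 1539))
) (.node (nat_lit 0x80607040302000501) (.leaf (nat_lit 0x80607040302000105) (nat_lit 1539))
 (.leaf (nat_lit 0x80607040302000501) (nat_lit 1539))
)) (.node (nat_lit 0x80607040302050001) (.node (nat_lit 0x80607040302010500) (.leaf (nat_lit 0x80607040302010005) (nat_lit 1283))
 (.leaf (nat_lit 0x80607040302010500) (nat_lit 1539))
) (.node (nat_lit 0x80607040302050100) (.leaf (nat_lit 0x80607040302050001) (nat_lit 1795))
 (.leaf (nat_lit 0x80607040302050100) (nat_lit 1539))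
))) (.node (nat_lit 0x80607040305020001) (.node (nat_lit 0x80607040305010002) (.node (nat_lit 0x80607040305000201) (.leaf (nat_lit 0x80607040305000102) (nat_lit 1288))
 (.leaf (nat_lit 0x80607040305000201) (nat_lit 1032))
) (.node (nat_lit 0x80607040305010200) (.leaf (nat_lit 0x80607040305010002) (nat_lit 1032))
 (.leaf (nat_lit 0x80607040305010200) (nat_lit 1032))
)) (.node (nat_lit 0x80607040500010203) (.node (nat_lit 0x80607040305020100) (.leaf (nat_lit 0x80607040305020001) (nat_lit 1288))
 (.leaf (nat_lit 0x80607040305020100) (nat_lit 776))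
) (.node (nat_lit 0x80607040500010302) (.leaf (nat_lit 0x80607040500010203) (nat_lit 1290))
 (.node (nat_lit 0x80607040500020103) (.leaf (nat_lit 0x80607040500010302) (nat_lit 1290))
 (.leaf (nat_lit 0x80607040500020103) (nat_lit 1034))
))))) (.node (nat_lit 0x80607040501030200) (.node (nat_lit 0x80607040501000302) (.node (nat_lit 0x80607040500030201) (.node (nat_lit 0x80607040500030102) (.leaf (nat_lit 0x80607040500020301) (nat_lit 1546))
 (.leaf (nat_lit 0x80607040500030102) (nat_lit 1546))
) (.node (nat_lit 0x80607040501000203) (.leaf (nat_lit 0x80607040500030201) (nat_lit 1290))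
 (.leaf (nat_lit 0x80607040501000203) (nat_lit 1280))
)) (.node (nat_lit 0x80607040501020300) (.node (nat_lit 0x80607040501020003) (.leaf (nat_lit 0x80607040501000302) (nat_lit 1802))
 (.leaf (nat_lit 0x80607040501020003) (nat_lit 1536))
) (.node (nat_lit 0x80607040501030002) (.leaf (nat_lit 0x80607040501020300) (nat_lit 1536))
 (.leaf (nat_lit 0x80607040501030002) (nat_lit 1536))
))) (.node (nat_lit 0x80607040502010300) (.node (nat_lit 0x80607040502000301) (.node (nat_lit 0x80607040502000103) (.leaf (nat_lit 0x80607040501030200) (nat_lit 1546))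
 (.leaf (nat_lit 0x80607040502000103) (nat_lit 1537))
) (.node (nat_lit 0x80607040502010003) (.leaf (nat_lit 0x80607040502000301) (nat_lit 1537))
 (.leaf (nat_lit 0x80607040502010003) (nat_lit 1281))
)) (.node (nat_lit 0x80607040502030100) (.node (nat_lit 0x80607040502030001) (.leaf (nat_lit 0x80607040502010300) (nat_lit 1546))
 (.leaf (nat_lit 0x80607040502030001) (nat_lit 1793))
) (.node (nat_lit 0x80607040503000102) (.leaf (nat_lit 0x80607040502030100) (nat_lit 1537))
 (.node (nat_lit 0x80607040503000201) (.leaf (nat_lit 0x80607040503000102) (nat_lit 1288))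
 (.leaf (nat_lit 0x80607040503000201) (nat_lit 1032))
)))))) (.node (nat_lit 0x80607050003010402) (.node (nat_lit 0x80607050001040203) (.node (nat_lit 0x80607050001020304) (.node (nat_lit 0x80607040503020001) (.node (nat_lit 0x80607040503010200) (.leaf (nat_lit 0x80607040503010002) (nat_lit 1032))
 (.leaf (nat_lit 0x80607040503010200) (nat_lit 1032))
) (.node (nat_lit 0x80607040503020100) (.leaf (nat_lit 0x80607040503020001) (nat_lit 1288))
 (.leaf (nat_lit 0x80607040503020100) (nat_lit 776))
)) (.node (nat_lit 0x80607050001030204) (.node (nat_lit 0x80607050001020403) (.leaf (nat_lit 0x80607050001020304) (nat_lit 2050))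
 (.leaf (nat_lit 0x80607050001020403) (nat_lit 2058))
) (.node (nat_lit 0x80607050001030402) (.leaf (nat_lit 0x80607050001030204) (nat_lit 1802))
 (.leaf (nat_lit 0x80607050001030402) (nat_lit 2050))
))) (.node (nat_lit 0x80607050002030104) (.node (nat_lit 0x80607050002010304) (.node (nat_lit 0x80607050001040302) (.leaf (nat_lit 0x80607050001040203) (nat_lit 1794))
 (.leaf (nat_lit 0x80607050001040302) (nat_lit 2058))
) (.node (nat_lit 0x80607050002010403) (.leaf (nat_lit 0x80607050002010304) (nat_lit 1802))
 (.leaf (nat_lit 0x80607050002010403) (nat_lit 1794))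
)) (.node (nat_lit 0x80607050002040103) (.node (nat_lit 0x80607050002030401) (.leaf (nat_lit 0x80607050002030104) (nat_lit 2050))
 (.leaf (nat_lit 0x80607050002030401) (nat_lit 2058))
) (.node (nat_lit 0x80607050002040301) (.leaf (nat_lit 0x80607050002040103) (nat_lit 2058))
 (.node (nat_lit 0x80607050003010204) (.leaf (nat_lit 0x80607050002040301) (nat_lit 1795))
 (.leaf (nat_lit 0x80607050003010204) (nat_lit 1538))
))))) (.node (nat_lit 0x80607050004020301) (.node (nat_lit 0x80607050003040201) (.node (nat_lit 0x80607050003020401) (.node (nat_lit 0x80607050003020104) (.leaf (nat_lit 0x80607050003010402) (nat_lit 1538))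
 (.leaf (nat_lit 0x80607050003020104) (nat_lit 1282))
) (.node (nat_lit 0x80607050003040102) (.leaf (nat_lit 0x80607050003020401) (nat_lit 1794))
 (.leaf (nat_lit 0x80607050003040102) (nat_lit 1794))
)) (.node (nat_lit 0x80607050004010302) (.node (nat_lit 0x80607050004010203) (.leaf (nat_lit 0x80607050003040201) (nat_lit 1538))
 (.leaf (nat_lit 0x80607050004010203) (nat_lit 1546))
) (.node (nat_lit 0x80607050004020103) (.leaf (nat_lit 0x80607050004010302) (nat_lit 1546))
 (.leaf (nat_lit 0x80607050004020103) (nat_lit 1290))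
))) (.node (nat_lit 0x80607050100020403) (.node (nat_lit 0x80607050004030201) (.node (nat_lit 0x80607050004030102) (.leaf (nat_lit 0x80607050004020301) (nat_lit 1802))
 (.leaf (nat_lit 0x80607050004030102) (nat_lit 1802))
) (.node (nat_lit 0x80607050100020304) (.leaf (nat_lit 0x80607050004030201) (nat_lit 1546))
 (.leaf (nat_lit 0x80607050100020304) (nat_lit 2058))
)) (.node (nat_lit 0x80607050100030402) (.node (nat_lit 0x80607050100030204) (.leaf (nat_lit 0x80607050100020403) (nat_lit 2051))
 (.leaf (nat_lit 0x80607050100030204) (nat_lit 1802))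
) (.node (nat_lit 0x80607050100040203) (.leaf (nat_lit 0x80607050100030402) (nat_lit 2051))
 (.node (nat_lit 0x80607050100040302) (.leaf (nat_lit 0x80607050100040203) (nat_lit 2049))
 (.leaf (nat_lit 0x80607050100040302) (nat_lit 1795))
))))))))) (.node (nat_lit 0x80706000205030401) (.node (nat_lit 0x80607050400010302) (.node (nat_lit 0x80607050203010400) (.node (nat_lit 0x80607050104030002) (.node (nat_lit 0x80607050103020004) (.node (nat_lit 0x80607050102040003) (.node (nat_lit 0x80607050102030004) (.node (nat_lit 0x80607050102000403) (.leaf (nat_lit 0x80607050102000304) (nat_lit 2049))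
 (.leaf (nat_lit 0x80607050102000403) (nat_lit 2051))
) (.node (nat_lit 0x80607050102030400) (.leaf (nat_lit 0x80607050102030004) (nat_lit 2051))
 (.leaf (nat_lit 0x80607050102030400) (nat_lit 2051))
)) (.node (nat_lit 0x80607050103000204) (.node (nat_lit 0x80607050102040300) (.leaf (nat_lit 0x80607050102040003) (nat_lit 2058))
 (.leaf (nat_lit 0x80607050102040300) (nat_lit 1795))
) (.node (nat_lit 0x80607050103000402) (.leaf (nat_lit 0x80607050103000204) (nat_lit 1538))
 (.leaf (nat_lit 0x80607050103000402) (nat_lit 2050))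
))) (.node (nat_lit 0x80607050104000203) (.node (nat_lit 0x80607050103040002) (.node (nat_lit 0x80607050103020400) (.leaf (nat_lit 0x80607050103020004) (nat_lit 1794))
 (.leaf (nat_lit 0x80607050103020400) (nat_lit 1794))
) (.node (nat_lit 0x80607050103040200) (.leaf (nat_lit 0x80607050103040002) (nat_lit 1794))
 (.leaf (nat_lit 0x80607050103040200) (nat_lit 1794))
)) (.node (nat_lit 0x80607050104020003) (.node (nat_lit 0x80607050104000302) (.leaf (nat_lit 0x80607050104000203) (nat_lit 1536))
 (.leaf (nat_lit 0x80607050104000302) (nat_lit 2058))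
) (.node (nat_lit 0x80607050104020300) (.leaf (nat_lit 0x80607050104020003) (nat_lit 1792))
 (.leaf (nat_lit 0x80607050104020300) (nat_lit 1792))
)))) (.node (nat_lit 0x80607050201000304) (.node (nat_lit 0x80607050200030104) (.node (nat_lit 0x80607050200010304) (.node (nat_lit 0x80607050104030200) (.leaf (nat_lit 0x80607050104030002) (nat_lit 1792))
 (.leaf (nat_lit 0x80607050104030200) (nat_lit 1802))
) (.node (nat_lit 0x80607050200010403) (.leaf (nat_lit 0x80607050200010304) (nat_lit 1802))
 (.leaf (nat_lit 0x80607050200010403) (nat_lit 2051))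
)) (.node (nat_lit 0x80607050200040103) (.node (nat_lit 0x80607050200030401) (.leaf (nat_lit 0x80607050200030104) (nat_lit 2051))
 (.leaf (nat_lit 0x80607050200030401) (nat_lit 2058))
) (.node (nat_lit 0x80607050200040301) (.leaf (nat_lit 0x80607050200040103) (nat_lit 2058))
 (.leaf (nat_lit 0x80607050200040301) (nat_lit 1795))
))) (.node (nat_lit 0x80607050201040003) (.node (nat_lit 0x80607050201030004) (.node (nat_lit 0x80607050201000403) (.leaf (nat_lit 0x80607050201000304) (nat_lit 2051))
 (.leaf (nat_lit 0x80607050201000403) (nat_lit 1795))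
) (.node (nat_lit 0x80607050201030400) (.leaf (nat_lit 0x80607050201030004) (nat_lit 1795))
 (.leaf (nat_lit 0x80607050201030400) (nat_lit 1795))
)) (.node (nat_lit 0x80607050203000104) (.node (nat_lit 0x80607050201040300) (.leaf (nat_lit 0x80607050201040003) (nat_lit 1802))
 (.leaf (nat_lit 0x80607050201040300) (nat_lit 1539))
) (.node (nat_lit 0x80607050203000401) (.leaf (nat_lit 0x80607050203000104) (nat_lit 1794))
 (.node (nat_lit 0x80607050203010004) (.leaf (nat_lit 0x80607050203000401) (nat_lit 1794))
 (.leaf (nat_lit 0x80607050203010004) (nat_lit 1538))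
)))))) (.node (nat_lit 0x80607050301020004) (.node (nat_lit 0x80607050204030100) (.node (nat_lit 0x80607050204000301) (.node (nat_lit 0x80607050203040100) (.node (nat_lit 0x80607050203040001) (.leaf (nat_lit 0x80607050203010400) (nat_lit 1794))
 (.leaf (nat_lit 0x80607050203040001) (nat_lit 2050))
) (.node (nat_lit 0x80607050204000103) (.leaf (nat_lit 0x80607050203040100) (nat_lit 1794))
 (.leaf (nat_lit 0x80607050204000103) (nat_lit 1793))
)) (.node (nat_lit 0x80607050204010300) (.node (nat_lit 0x80607050204010003) (.leaf (nat_lit 0x80607050204000301) (nat_lit 1793))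
 (.leaf (nat_lit 0x80607050204010003) (nat_lit 1537))
) (.node (nat_lit 0x80607050204030001) (.leaf (nat_lit 0x80607050204010300) (nat_lit 1802))
 (.leaf (nat_lit 0x80607050204030001) (nat_lit 2049))
))) (.node (nat_lit 0x80607050300020401) (.node (nat_lit 0x80607050300010402) (.node (nat_lit 0x80607050300010204) (.leaf (nat_lit 0x80607050204030100) (nat_lit 1793))
 (.leaf (nat_lit 0x80607050300010204) (nat_lit 1538))
) (.node (nat_lit 0x80607050300020104) (.leaf (nat_lit 0x80607050300010402) (nat_lit 1538))
 (.leaf (nat_lit 0x80607050300020104) (nat_lit 1282))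
)) (.node (nat_lit 0x80607050300040201) (.node (nat_lit 0x80607050300040102) (.leaf (nat_lit 0x80607050300020401) (nat_lit 1794))
 (.leaf (nat_lit 0x80607050300040102) (nat_lit 1794))
) (.node (nat_lit 0x80607050301000204) (.leaf (nat_lit 0x80607050300040201) (nat_lit 1538))
 (.node (nat_lit 0x80607050301000402) (.leaf (nat_lit 0x80607050301000204) (nat_lit 1538))
 (.leaf (nat_lit 0x80607050301000402) (nat_lit 2050))
))))) (.node (nat_lit 0x80607050302040001) (.node (nat_lit 0x80607050302000104) (.node (nat_lit 0x80607050301040002) (.node (nat_lit 0x80607050301020400) (.leaf (nat_lit 0x80607050301020004) (nat_lit 1794))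
 (.leaf (nat_lit 0x80607050301020400) (nat_lit 1794))
) (.node (nat_lit 0x80607050301040200) (.leaf (nat_lit 0x80607050301040002) (nat_lit 1794))
 (.leaf (nat_lit 0x80607050301040200) (nat_lit 1794))
)) (.node (nat_lit 0x80607050302010004) (.node (nat_lit 0x80607050302000401) (.leaf (nat_lit 0x80607050302000104) (nat_lit 1794))
 (.leaf (nat_lit 0x80607050302000401) (nat_lit 1794))
) (.node (nat_lit 0x80607050302010400) (.leaf (nat_lit 0x80607050302010004) (nat_lit 1538))
 (.leaf (nat_lit 0x80607050302010400) (nat_lit 1794))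
))) (.node (nat_lit 0x80607050304010002) (.node (nat_lit 0x80607050304000102) (.node (nat_lit 0x80607050302040100) (.leaf (nat_lit 0x80607050302040001) (nat_lit 2050))
 (.leaf (nat_lit 0x80607050302040100) (nat_lit 1794))
) (.node (nat_lit 0x80607050304000201) (.leaf (nat_lit 0x80607050304000102) (nat_lit 1544))
 (.leaf (nat_lit 0x80607050304000201) (nat_lit 1288))
)) (.node (nat_lit 0x80607050304020001) (.node (nat_lit 0x80607050304010200) (.leaf (nat_lit 0x80607050304010002) (nat_lit 1288))
 (.leaf (nat_lit 0x80607050304010200) (nat_lit 1288))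
) (.node (nat_lit 0x80607050304020100) (.leaf (nat_lit 0x80607050304020001) (nat_lit 1544))
 (.node (nat_lit 0x80607050400010203) (.leaf (nat_lit 0x80607050304020100) (nat_lit 1032))
 (.leaf (nat_lit 0x80607050400010203) (nat_lit 1034))
))))))) (.node (nat_lit 0x80706000103050402) (.node (nat_lit 0x80607050403000102) (.node (nat_lit 0x80607050401020300) (.node (nat_lit 0x80607050400030201) (.node (nat_lit 0x80607050400020301) (.node (nat_lit 0x80607050400020103) (.leaf (nat_lit 0x80607050400010302) (nat_lit 1034))
 (.leaf (nat_lit 0x80607050400020103) (nat_lit 778))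
) (.node (nat_lit 0x80607050400030102) (.leaf (nat_lit 0x80607050400020301) (nat_lit 1290))
 (.leaf (nat_lit 0x80607050400030102) (nat_lit 1290))
)) (.node (nat_lit 0x80607050401000302) (.node (nat_lit 0x80607050401000203) (.leaf (nat_lit 0x80607050400030201) (nat_lit 1034))
 (.leaf (nat_lit 0x80607050401000203) (nat_lit 1024))
) (.node (nat_lit 0x80607050401020003) (.leaf (nat_lit 0x80607050401000302) (nat_lit 1546))
 (.leaf (nat_lit 0x80607050401020003) (nat_lit 1280))
))) (.node (nat_lit 0x80607050402000301) (.node (nat_lit 0x80607050401030200) (.node (nat_lit 0x80607050401030002) (.leaf (nat_lit 0x80607050401020300) (nat_lit 1280))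
 (.leaf (nat_lit 0x80607050401030002) (nat_lit 1280))
) (.node (nat_lit 0x80607050402000103) (.leaf (nat_lit 0x80607050401030200) (nat_lit 1290))
 (.leaf (nat_lit 0x80607050402000103) (nat_lit 1281))
)) (.node (nat_lit 0x80607050402010300) (.node (nat_lit 0x80607050402010003) (.leaf (nat_lit 0x80607050402000301) (nat_lit 1281))
 (.leaf (nat_lit 0x80607050402010003) (nat_lit 1025))
) (.node (nat_lit 0x80607050402030001) (.leaf (nat_lit 0x80607050402010300) (nat_lit 1290))
 (.node (nat_lit 0x80607050402030100) (.leaf (nat_lit 0x80607050402030001) (nat_lit 1537))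
 (.leaf (nat_lit 0x80607050402030100) (nat_lit 1281))
))))) (.node (nat_lit 0x80706000102040305) (.node (nat_lit 0x80607050403020001) (.node (nat_lit 0x80607050403010002) (.node (nat_lit 0x80607050403000201) (.leaf (nat_lit 0x80607050403000102) (nat_lit 1032))
 (.leaf (nat_lit 0x80607050403000201) (nat_lit 776))
) (.node (nat_lit 0x80607050403010200) (.leaf (nat_lit 0x80607050403010002) (nat_lit 776))
 (.leaf (nat_lit 0x80607050403010200) (nat_lit 776))
)) (.node (nat_lit 0x80706000102030405) (.node (nat_lit 0x80607050403020100) (.leaf (nat_lit 0x80607050403020001) (nat_lit 1032))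
 (.leaf (nat_lit 0x80607050403020100) (nat_lit 520))
) (.node (nat_lit 0x80706000102030504) (.leaf (nat_lit 0x80706000102030405) (nat_lit 1289))
 (.leaf (nat_lit 0x80706000102030504) (nat_lit 1033))
))) (.node (nat_lit 0x80706000103020405) (.node (nat_lit 0x80706000102050304) (.node (nat_lit 0x80706000102040503) (.leaf (nat_lit 0x80706000102040305) (nat_lit 1033))
 (.leaf (nat_lit 0x80706000102040503) (nat_lit 1033))
) (.node (nat_lit 0x80706000102050403) (.leaf (nat_lit 0x80706000102050304) (nat_lit 1289))
 (.leaf (nat_lit 0x80706000102050403) (nat_lit 777))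
)) (.node (nat_lit 0x80706000103040205) (.node (nat_lit 0x80706000103020504) (.leaf (nat_lit 0x80706000103020405) (nat_lit 1537))
 (.leaf (nat_lit 0x80706000103020504) (nat_lit 1281))
) (.node (nat_lit 0x80706000103040502) (.leaf (nat_lit 0x80706000103040205) (nat_lit 1281))
 (.node (nat_lit 0x80706000103050204) (.leaf (nat_lit 0x80706000103040502) (nat_lit 1281))
 (.leaf (nat_lit 0x80706000103050204) (nat_lit 1537))
)))))) (.node (nat_lit 0x80706000201050304) (.node (nat_lit 0x80706000105020403) (.node (nat_lit 0x80706000104030502) (.node (nat_lit 0x80706000104020503) (.node (nat_lit 0x80706000104020305) (.leaf (nat_lit 0x80706000103050402) (nat_lit 1025))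
 (.leaf (nat_lit 0x80706000104020305) (nat_lit 1538))
) (.node (nat_lit 0x80706000104030205) (.leaf (nat_lit 0x80706000104020503) (nat_lit 1546))
 (.leaf (nat_lit 0x80706000104030205) (nat_lit 1290))
)) (.node (nat_lit 0x80706000104050302) (.node (nat_lit 0x80706000104050203) (.leaf (nat_lit 0x80706000104030502) (nat_lit 1282))
 (.leaf (nat_lit 0x80706000104050203) (nat_lit 1538))
) (.node (nat_lit 0x80706000105020304) (.leaf (nat_lit 0x80706000104050302) (nat_lit 1546))
 (.leaf (nat_lit 0x80706000105020304) (nat_lit 1536))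
))) (.node (nat_lit 0x80706000105040302) (.node (nat_lit 0x80706000105030402) (.node (nat_lit 0x80706000105030204) (.leaf (nat_lit 0x80706000105020403) (nat_lit 1539))
 (.leaf (nat_lit 0x80706000105030204) (nat_lit 1539))
) (.node (nat_lit 0x80706000105040203) (.leaf (nat_lit 0x80706000105030402) (nat_lit 1539))
 (.leaf (nat_lit 0x80706000105040203) (nat_lit 1538))
)) (.node (nat_lit 0x80706000201030504) (.node (nat_lit 0x80706000201030405) (.leaf (nat_lit 0x80706000105040302) (nat_lit 1283))
 (.leaf (nat_lit 0x80706000201030405) (nat_lit 1033))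
) (.node (nat_lit 0x80706000201040305) (.leaf (nat_lit 0x80706000201030504) (nat_lit 777))
 (.node (nat_lit 0x80706000201040503) (.leaf (nat_lit 0x80706000201040305) (nat_lit 777))
 (.leaf (nat_lit 0x80706000201040503) (nat_lit 777))
))))) (.node (nat_lit 0x80706000204010305) (.node (nat_lit 0x80706000203040105) (.node (nat_lit 0x80706000203010405) (.node (nat_lit 0x80706000201050403) (.leaf (nat_lit 0x80706000201050304) (nat_lit 1033))
 (.leaf (nat_lit 0x80706000201050403) (nat_lit 521))
) (.node (nat_lit 0x80706000203010504) (.leaf (nat_lit 0x80706000203010405) (nat_lit 1280))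
 (.leaf (nat_lit 0x80706000203010504) (nat_lit 1024))
)) (.node (nat_lit 0x80706000203050104) (.node (nat_lit 0x80706000203040501) (.leaf (nat_lit 0x80706000203040105) (nat_lit 1024))
 (.leaf (nat_lit 0x80706000203040501) (nat_lit 1024))
) (.node (nat_lit 0x80706000203050401) (.leaf (nat_lit 0x80706000203050104) (nat_lit 1280))
 (.leaf (nat_lit 0x80706000203050401) (nat_lit 768))
))) (.node (nat_lit 0x80706000204050103) (.node (nat_lit 0x80706000204030105) (.node (nat_lit 0x80706000204010503) (.leaf (nat_lit 0x80706000204010305) (nat_lit 1282))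
 (.leaf (nat_lit 0x80706000204010503) (nat_lit 1280))
) (.node (nat_lit 0x80706000204030501) (.leaf (nat_lit 0x80706000204030105) (nat_lit 1536))
 (.leaf (nat_lit 0x80706000204030501) (nat_lit 1026))
)) (.node (nat_lit 0x80706000205010304) (.node (nat_lit 0x80706000204050301) (.leaf (nat_lit 0x80706000204050103) (nat_lit 1282))
 (.leaf (nat_lit 0x80706000204050301) (nat_lit 1282))
) (.node (nat_lit 0x80706000205010403) (.leaf (nat_lit 0x80706000205010304) (nat_lit 1539))
 (.node (nat_lit 0x80706000205030104) (.leaf (nat_lit 0x80706000205010403) (nat_lit 1283))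
 (.leaf (nat_lit 0x80706000205030104) (nat_lit 1283))
)))))))) (.node (nat_lit 0x80706000503040102) (.node (nat_lit 0x80706000402010305) (.node (nat_lit 0x80706000304010502) (.node (nat_lit 0x80706000301050402) (.node (nat_lit 0x80706000301020504) (.node (nat_lit 0x80706000205040301) (.node (nat_lit 0x80706000205040103) (.leaf (nat_lit 0x80706000205030401) (nat_lit 1283))
 (.leaf (nat_lit 0x80706000205040103) (nat_lit 1280))
) (.node (nat_lit 0x80706000301020405) (.leaf (nat_lit 0x80706000205040301) (nat_lit 1027))
 (.leaf (nat_lit 0x80706000301020405) (nat_lit 1537))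
)) (.node (nat_lit 0x80706000301040502) (.node (nat_lit 0x80706000301040205) (.leaf (nat_lit 0x80706000301020504) (nat_lit 1281))
 (.leaf (nat_lit 0x80706000301040205) (nat_lit 1281))
) (.node (nat_lit 0x80706000301050204) (.leaf (nat_lit 0x80706000301040502) (nat_lit 1281))
 (.leaf (nat_lit 0x80706000301050204) (nat_lit 1537))
))) (.node (nat_lit 0x80706000302040501) (.node (nat_lit 0x80706000302010504) (.node (nat_lit 0x80706000302010405) (.leaf (nat_lit 0x80706000301050402) (nat_lit 1025))
 (.leaf (nat_lit 0x80706000302010405) (nat_lit 1282))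
) (.node (nat_lit 0x80706000302040105) (.leaf (nat_lit 0x80706000302010504) (nat_lit 1546))
 (.leaf (nat_lit 0x80706000302040105) (nat_lit 1546))
)) (.node (nat_lit 0x80706000302050401) (.node (nat_lit 0x80706000302050104) (.leaf (nat_lit 0x80706000302040501) (nat_lit 1538))
 (.leaf (nat_lit 0x80706000302050104) (nat_lit 1538))
) (.node (nat_lit 0x80706000304010205) (.leaf (nat_lit 0x80706000302050401) (nat_lit 1290))
 (.leaf (nat_lit 0x80706000304010205) (nat_lit 1283))
)))) (.node (nat_lit 0x80706000305020401) (.node (nat_lit 0x80706000304050201) (.node (nat_lit 0x80706000304020501) (.node (nat_lit 0x80706000304020105) (.leaf (nat_lit 0x80706000304010502) (nat_lit 1283))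
 (.leaf (nat_lit 0x80706000304020105) (nat_lit 1027))
) (.node (nat_lit 0x80706000304050102) (.leaf (nat_lit 0x80706000304020501) (nat_lit 1539))
 (.leaf (nat_lit 0x80706000304050102) (nat_lit 1539))
)) (.node (nat_lit 0x80706000305010402) (.node (nat_lit 0x80706000305010204) (.leaf (nat_lit 0x80706000304050201) (nat_lit 1283))
 (.leaf (nat_lit 0x80706000305010204) (nat_lit 1026))
) (.node (nat_lit 0x80706000305020104) (.leaf (nat_lit 0x80706000305010402) (nat_lit 1026))
 (.leaf (nat_lit 0x80706000305020104) (nat_lit 770))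
))) (.node (nat_lit 0x80706000401020503) (.node (nat_lit 0x80706000305040201) (.node (nat_lit 0x80706000305040102) (.leaf (nat_lit 0x80706000305020401) (nat_lit 1282))
 (.leaf (nat_lit 0x80706000305040102) (nat_lit 1282))
) (.node (nat_lit 0x80706000401020305) (.leaf (nat_lit 0x80706000305040201) (nat_lit 1026))
 (.leaf (nat_lit 0x80706000401020305) (nat_lit 1538))
)) (.node (nat_lit 0x80706000401030502) (.node (nat_lit 0x80706000401030205) (.leaf (nat_lit 0x80706000401020503) (nat_lit 1546))
 (.leaf (nat_lit 0x80706000401030205) (nat_lit 1290))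
) (.node (nat_lit 0x80706000401050203) (.leaf (nat_lit 0x80706000401030502) (nat_lit 1282))
 (.node (nat_lit 0x80706000401050302) (.leaf (nat_lit 0x80706000401050203) (nat_lit 1283))
 (.leaf (nat_lit 0x80706000401050302) (nat_lit 1546))
)))))) (.node (nat_lit 0x80706000405030201) (.node (nat_lit 0x80706000403020105) (.node (nat_lit 0x80706000402050103) (.node (nat_lit 0x80706000402030105) (.node (nat_lit 0x80706000402010503) (.leaf (nat_lit 0x80706000402010305) (nat_lit 1290))
 (.leaf (nat_lit 0x80706000402010503) (nat_lit 1283))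
) (.node (nat_lit 0x80706000402030501) (.leaf (nat_lit 0x80706000402030105) (nat_lit 1539))
 (.leaf (nat_lit 0x80706000402030501) (nat_lit 1546))
)) (.node (nat_lit 0x80706000403010205) (.node (nat_lit 0x80706000402050301) (.leaf (nat_lit 0x80706000402050103) (nat_lit 1546))
 (.leaf (nat_lit 0x80706000402050301) (nat_lit 1539))
) (.node (nat_lit 0x80706000403010502) (.leaf (nat_lit 0x80706000403010205) (nat_lit 1027))
 (.leaf (nat_lit 0x80706000403010502) (nat_lit 1027))
))) (.node (nat_lit 0x80706000405010203) (.node (nat_lit 0x80706000403050102) (.node (nat_lit 0x80706000403020501) (.leaf (nat_lit 0x80706000403020105) (nat_lit 771))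
 (.leaf (nat_lit 0x80706000403020501) (nat_lit 1283))
) (.node (nat_lit 0x80706000403050201) (.leaf (nat_lit 0x80706000403050102) (nat_lit 1283))
 (.leaf (nat_lit 0x80706000403050201) (nat_lit 1027))
)) (.node (nat_lit 0x80706000405020103) (.node (nat_lit 0x80706000405010302) (.leaf (nat_lit 0x80706000405010203) (nat_lit 1034))
 (.leaf (nat_lit 0x80706000405010302) (nat_lit 1034))
) (.node (nat_lit 0x80706000405020301) (.leaf (nat_lit 0x80706000405020103) (nat_lit 778))
 (.node (nat_lit 0x80706000405030102) (.leaf (nat_lit 0x80706000405020301) (nat_lit 1290))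
 (.leaf (nat_lit 0x80706000405030102) (nat_lit 1290))
))))) (.node (nat_lit 0x80706000502010403) (.node (nat_lit 0x80706000501030402) (.node (nat_lit 0x80706000501020403) (.node (nat_lit 0x80706000501020304) (.leaf (nat_lit 0x80706000405030201) (nat_lit 1034))
 (.leaf (nat_lit 0x80706000501020304) (nat_lit 1290))
) (.node (nat_lit 0x80706000501030204) (.leaf (nat_lit 0x80706000501020403) (nat_lit 1290))
 (.leaf (nat_lit 0x80706000501030204) (nat_lit 1034))
)) (.node (nat_lit 0x80706000501040302) (.node (nat_lit 0x80706000501040203) (.leaf (nat_lit 0x80706000501030402) (nat_lit 1546))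
 (.leaf (nat_lit 0x80706000501040203) (nat_lit 1290))
) (.node (nat_lit 0x80706000502010304) (.leaf (nat_lit 0x80706000501040302) (nat_lit 1290))
 (.leaf (nat_lit 0x80706000502010304) (nat_lit 1034))
))) (.node (nat_lit 0x80706000502040301) (.node (nat_lit 0x80706000502030401) (.node (nat_lit 0x80706000502030104) (.leaf (nat_lit 0x80706000502010403) (nat_lit 1290))
 (.leaf (nat_lit 0x80706000502030104) (nat_lit 1290))
) (.node (nat_lit 0x80706000502040103) (.leaf (nat_lit 0x80706000502030401) (nat_lit 1290))
 (.leaf (nat_lit 0x80706000502040103) (nat_lit 1290))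
)) (.node (nat_lit 0x80706000503010402) (.node (nat_lit 0x80706000503010204) (.leaf (nat_lit 0x80706000502040301) (nat_lit 1546))
 (.leaf (nat_lit 0x80706000503010204) (nat_lit 1034))
) (.node (nat_lit 0x80706000503020104) (.leaf (nat_lit 0x80706000503010402) (nat_lit 1034))
 (.node (nat_lit 0x80706000503020401) (.leaf (nat_lit 0x80706000503020104) (nat_lit 778))
 (.leaf (nat_lit 0x80706000503020401) (nat_lit 1290))
))))))) (.node (nat_lit 0x80706010200040305) (.node (nat_lit 0x80706010003040502) (.node (nat_lit 0x80706010002030405) (.node (nat_lit 0x80706000504020103) (.node (nat_lit 0x80706000504010203) (.node (nat_lit 0x80706000503040201) (.leaf (nat_lit 0x80706000503040102) (nat_lit 1290))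
 (.leaf (nat_lit 0x80706000503040201) (nat_lit 1034))
) (.node (nat_lit 0x80706000504010302) (.leaf (nat_lit 0x80706000504010203) (nat_lit 778))
 (.leaf (nat_lit 0x80706000504010302) (nat_lit 778))
)) (.node (nat_lit 0x80706000504030102) (.node (nat_lit 0x80706000504020301) (.leaf (nat_lit 0x80706000504020103) (nat_lit 522))
 (.leaf (nat_lit 0x80706000504020301) (nat_lit 1034))
) (.node (nat_lit 0x80706000504030201) (.leaf (nat_lit 0x80706000504030102) (nat_lit 1034))
 (.leaf (nat_lit 0x80706000504030201) (nat_lit 778))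
))) (.node (nat_lit 0x80706010002050304) (.node (nat_lit 0x80706010002040305) (.node (nat_lit 0x80706010002030504) (.leaf (nat_lit 0x80706010002030405) (nat_lit 1033))
 (.leaf (nat_lit 0x80706010002030504) (nat_lit 777))
) (.node (nat_lit 0x80706010002040503) (.leaf (nat_lit 0x80706010002040305) (nat_lit 777))
 (.leaf (nat_lit 0x80706010002040503) (nat_lit 777))
)) (.node (nat_lit 0x80706010003020405) (.node (nat_lit 0x80706010002050403) (.leaf (nat_lit 0x80706010002050304) (nat_lit 1033))
 (.leaf (nat_lit 0x80706010002050403) (nat_lit 521))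
) (.node (nat_lit 0x80706010003020504) (.leaf (nat_lit 0x80706010003020405) (nat_lit 1281))
 (.node (nat_lit 0x80706010003040205) (.leaf (nat_lit 0x80706010003020504) (nat_lit 1025))
 (.leaf (nat_lit 0x80706010003040205) (nat_lit 1025))
))))) (.node (nat_lit 0x80706010004050302) (.node (nat_lit 0x80706010004020503) (.node (nat_lit 0x80706010003050402) (.node (nat_lit 0x80706010003050204) (.leaf (nat_lit 0x80706010003040502) (nat_lit 1025))
 (.leaf (nat_lit 0x80706010003050204) (nat_lit 1281))
) (.node (nat_lit 0x80706010004020305) (.leaf (nat_lit 0x80706010003050402) (nat_lit 769))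
 (.leaf (nat_lit 0x80706010004020305) (nat_lit 1282))
)) (.node (nat_lit 0x80706010004030502) (.node (nat_lit 0x80706010004030205) (.leaf (nat_lit 0x80706010004020503) (nat_lit 1281))
 (.leaf (nat_lit 0x80706010004030205) (nat_lit 1537))
) (.node (nat_lit 0x80706010004050203) (.leaf (nat_lit 0x80706010004030502) (nat_lit 1026))
 (.leaf (nat_lit 0x80706010004050203) (nat_lit 1282))
))) (.node (nat_lit 0x80706010005030402) (.node (nat_lit 0x80706010005020403) (.node (nat_lit 0x80706010005020304) (.leaf (nat_lit 0x80706010004050302) (nat_lit 1282))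
 (.leaf (nat_lit 0x80706010005020304) (nat_lit 1539))
) (.node (nat_lit 0x80706010005030204) (.leaf (nat_lit 0x80706010005020403) (nat_lit 1283))
 (.leaf (nat_lit 0x80706010005030204) (nat_lit 1283))
)) (.node (nat_lit 0x80706010005040302) (.node (nat_lit 0x80706010005040203) (.leaf (nat_lit 0x80706010005030402) (nat_lit 1283))
 (.leaf (nat_lit 0x80706010005040203) (nat_lit 1281))
) (.node (nat_lit 0x80706010200030405) (.leaf (nat_lit 0x80706010005040302) (nat_lit 1027))
 (.node (nat_lit 0x80706010200030504) (.leaf (nat_lit 0x80706010200030405) (nat_lit 1033))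
 (.leaf (nat_lit 0x80706010200030504) (nat_lit 777))
)))))) (.node (nat_lit 0x80706010205000403) (.node (nat_lit 0x80706010203050004) (.node (nat_lit 0x80706010203000405) (.node (nat_lit 0x80706010200050304) (.node (nat_lit 0x80706010200040503) (.leaf (nat_lit 0x80706010200040305) (nat_lit 777))
 (.leaf (nat_lit 0x80706010200040503) (nat_lit 777))
) (.node (nat_lit 0x80706010200050403) (.leaf (nat_lit 0x80706010200050304) (nat_lit 1033))
 (.leaf (nat_lit 0x80706010200050403) (nat_lit 521))
)) (.node (nat_lit 0x80706010203040005) (.node (nat_lit 0x80706010203000504) (.leaf (nat_lit 0x80706010203000405) (nat_lit 1290))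
 (.leaf (nat_lit 0x80706010203000504) (nat_lit 1034))
) (.node (nat_lit 0x80706010203040500) (.leaf (nat_lit 0x80706010203040005) (nat_lit 1034))
 (.leaf (nat_lit 0x80706010203040500) (nat_lit 1034))
))) (.node (nat_lit 0x80706010204030005) (.node (nat_lit 0x80706010204000305) (.node (nat_lit 0x80706010203050400) (.leaf (nat_lit 0x80706010203050004) (nat_lit 1290))
 (.leaf (nat_lit 0x80706010203050400) (nat_lit 778))
) (.node (nat_lit 0x80706010204000503) (.leaf (nat_lit 0x80706010204000305) (nat_lit 1282))
 (.leaf (nat_lit 0x80706010204000503) (nat_lit 1290))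
)) (.node (nat_lit 0x80706010204050003) (.node (nat_lit 0x80706010204030500) (.leaf (nat_lit 0x80706010204030005) (nat_lit 1546))
 (.leaf (nat_lit 0x80706010204030500) (nat_lit 1026))
) (.node (nat_lit 0x80706010204050300) (.leaf (nat_lit 0x80706010204050003) (nat_lit 1282))
 (.node (nat_lit 0x80706010205000304) (.leaf (nat_lit 0x80706010204050300) (nat_lit 1282))
 (.leaf (nat_lit 0x80706010205000304) (nat_lit 1539))
))))) (.node (nat_lit 0x80706010300040502) (.node (nat_lit 0x80706010205040300) (.node (nat_lit 0x80706010205030400) (.node (nat_lit 0x80706010205030004) (.leaf (nat_lit 0x80706010205000403) (nat_lit 1283))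
 (.leaf (nat_lit 0x80706010205030004) (nat_lit 1283))
) (.node (nat_lit 0x80706010205040003) (.leaf (nat_lit 0x80706010205030400) (nat_lit 1283))
 (.leaf (nat_lit 0x80706010205040003) (nat_lit 1290))
)) (.node (nat_lit 0x80706010300020504) (.node (nat_lit 0x80706010300020405) (.leaf (nat_lit 0x80706010205040300) (nat_lit 1027))
 (.leaf (nat_lit 0x80706010300020405) (nat_lit 1546))
) (.node (nat_lit 0x80706010300040205) (.leaf (nat_lit 0x80706010300020504) (nat_lit 1290))
 (.leaf (nat_lit 0x80706010300040205) (nat_lit 1290))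
))) (.node (nat_lit 0x80706010302000504) (.node (nat_lit 0x80706010300050402) (.node (nat_lit 0x80706010300050204) (.leaf (nat_lit 0x80706010300040502) (nat_lit 1290))
 (.leaf (nat_lit 0x80706010300050204) (nat_lit 1546))
) (.node (nat_lit 0x80706010302000405) (.leaf (nat_lit 0x80706010300050402) (nat_lit 1034))
 (.leaf (nat_lit 0x80706010302000405) (nat_lit 1290))
)) (.node (nat_lit 0x80706010302040500) (.node (nat_lit 0x80706010302040005) (.leaf (nat_lit 0x80706010302000504) (nat_lit 1034))
 (.leaf (nat_lit 0x80706010302040005) (nat_lit 1034))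
) (.node (nat_lit 0x80706010302050004) (.leaf (nat_lit 0x80706010302040500) (nat_lit 1034))
 (.node (nat_lit 0x80706010302050400) (.leaf (nat_lit 0x80706010302050004) (nat_lit 1290))
 (.leaf (nat_lit 0x80706010302050400) (nat_lit 778))
)))))))))) (.node (nat_lit 0x80706030405000102) (.node (nat_lit 0x80706020400030501) (.node (nat_lit 0x80706020003010504) (.node (nat_lit 0x80706010405020300) (.node (nat_lit 0x80706010400050203) (.node (nat_lit 0x80706010305020004) (.node (nat_lit 0x80706010304050002) (.node (nat_lit 0x80706010304020005) (.node (nat_lit 0x80706010304000502) (.leaf (nat_lit 0x80706010304000205) (nat_lit 1283))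
 (.leaf (nat_lit 0x80706010304000502) (nat_lit 1290))
) (.node (nat_lit 0x80706010304020500) (.leaf (nat_lit 0x80706010304020005) (nat_lit 1546))
 (.leaf (nat_lit 0x80706010304020500) (nat_lit 1539))
)) (.node (nat_lit 0x80706010305000204) (.node (nat_lit 0x80706010304050200) (.leaf (nat_lit 0x80706010304050002) (nat_lit 1539))
 (.leaf (nat_lit 0x80706010304050200) (nat_lit 1546))
) (.node (nat_lit 0x80706010305000402) (.leaf (nat_lit 0x80706010305000204) (nat_lit 1026))
 (.leaf (nat_lit 0x80706010305000402) (nat_lit 1538))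
))) (.node (nat_lit 0x80706010400020305) (.node (nat_lit 0x80706010305040002) (.node (nat_lit 0x80706010305020400) (.leaf (nat_lit 0x80706010305020004) (nat_lit 1282))
 (.leaf (nat_lit 0x80706010305020400) (nat_lit 1282))
) (.node (nat_lit 0x80706010305040200) (.leaf (nat_lit 0x80706010305040002) (nat_lit 1282))
 (.leaf (nat_lit 0x80706010305040200) (nat_lit 1282))
)) (.node (nat_lit 0x80706010400030205) (.node (nat_lit 0x80706010400020503) (.leaf (nat_lit 0x80706010400020305) (nat_lit 1538))
 (.leaf (nat_lit 0x80706010400020503) (nat_lit 1546))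
) (.node (nat_lit 0x80706010400030502) (.leaf (nat_lit 0x80706010400030205) (nat_lit 1290))
 (.leaf (nat_lit 0x80706010400030502) (nat_lit 1282))
)))) (.node (nat_lit 0x80706010403000205) (.node (nat_lit 0x80706010402030005) (.node (nat_lit 0x80706010402000305) (.node (nat_lit 0x80706010400050302) (.leaf (nat_lit 0x80706010400050203) (nat_lit 1538))
 (.leaf (nat_lit 0x80706010400050302) (nat_lit 1546))
) (.node (nat_lit 0x80706010402000503) (.leaf (nat_lit 0x80706010402000305) (nat_lit 1282))
 (.leaf (nat_lit 0x80706010402000503) (nat_lit 1290))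
)) (.node (nat_lit 0x80706010402050003) (.node (nat_lit 0x80706010402030500) (.leaf (nat_lit 0x80706010402030005) (nat_lit 1546))
 (.leaf (nat_lit 0x80706010402030500) (nat_lit 1026))
) (.node (nat_lit 0x80706010402050300) (.leaf (nat_lit 0x80706010402050003) (nat_lit 1282))
 (.leaf (nat_lit 0x80706010402050300) (nat_lit 1282))
))) (.node (nat_lit 0x80706010403050002) (.node (nat_lit 0x80706010403020005) (.node (nat_lit 0x80706010403000502) (.leaf (nat_lit 0x80706010403000205) (nat_lit 1027))
 (.leaf (nat_lit 0x80706010403000502) (nat_lit 1539))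
) (.node (nat_lit 0x80706010403020500) (.leaf (nat_lit 0x80706010403020005) (nat_lit 1283))
 (.leaf (nat_lit 0x80706010403020500) (nat_lit 1283))
)) (.node (nat_lit 0x80706010405000203) (.node (nat_lit 0x80706010403050200) (.leaf (nat_lit 0x80706010403050002) (nat_lit 1283))
 (.leaf (nat_lit 0x80706010403050200) (nat_lit 1283))
) (.node (nat_lit 0x80706010405000302) (.leaf (nat_lit 0x80706010405000203) (nat_lit 1024))
 (.node (nat_lit 0x80706010405020003) (.leaf (nat_lit 0x80706010405000302) (nat_lit 1546))
 (.leaf (nat_lit 0x80706010405020003) (nat_lit 1280))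
)))))) (.node (nat_lit 0x80706010503020004) (.node (nat_lit 0x80706010500040302) (.node (nat_lit 0x80706010500020403) (.node (nat_lit 0x80706010405030200) (.node (nat_lit 0x80706010405030002) (.leaf (nat_lit 0x80706010405020300) (nat_lit 1280))
 (.leaf (nat_lit 0x80706010405030002) (nat_lit 1280))
) (.node (nat_lit 0x80706010500020304) (.leaf (nat_lit 0x80706010405030200) (nat_lit 1290))
 (.leaf (nat_lit 0x80706010500020304) (nat_lit 1280))
)) (.node (nat_lit 0x80706010500030402) (.node (nat_lit 0x80706010500030204) (.leaf (nat_lit 0x80706010500020403) (nat_lit 1539))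
 (.leaf (nat_lit 0x80706010500030204) (nat_lit 1290))
) (.node (nat_lit 0x80706010500040203) (.leaf (nat_lit 0x80706010500030402) (nat_lit 1536))
 (.leaf (nat_lit 0x80706010500040203) (nat_lit 1536))
))) (.node (nat_lit 0x80706010502030400) (.node (nat_lit 0x80706010502000403) (.node (nat_lit 0x80706010502000304) (.leaf (nat_lit 0x80706010500040302) (nat_lit 1283))
 (.leaf (nat_lit 0x80706010502000304) (nat_lit 1539))
) (.node (nat_lit 0x80706010502030004) (.leaf (nat_lit 0x80706010502000403) (nat_lit 1283))
 (.leaf (nat_lit 0x80706010502030004) (nat_lit 1283))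
)) (.node (nat_lit 0x80706010502040300) (.node (nat_lit 0x80706010502040003) (.leaf (nat_lit 0x80706010502030400) (nat_lit 1283))
 (.leaf (nat_lit 0x80706010502040003) (nat_lit 1290))
) (.node (nat_lit 0x80706010503000204) (.leaf (nat_lit 0x80706010502040300) (nat_lit 1027))
 (.node (nat_lit 0x80706010503000402) (.leaf (nat_lit 0x80706010503000204) (nat_lit 1024))
 (.leaf (nat_lit 0x80706010503000402) (nat_lit 1536))
))))) (.node (nat_lit 0x80706010504030002) (.node (nat_lit 0x80706010504000203) (.node (nat_lit 0x80706010503040002) (.node (nat_lit 0x80706010503020400) (.leaf (nat_lit 0x80706010503020004) (nat_lit 1280))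
 (.leaf (nat_lit 0x80706010503020400) (nat_lit 1280))
) (.node (nat_lit 0x80706010503040200) (.leaf (nat_lit 0x80706010503040002) (nat_lit 1280))
 (.leaf (nat_lit 0x80706010503040200) (nat_lit 1536))
)) (.node (nat_lit 0x80706010504020003) (.node (nat_lit 0x80706010504000302) (.leaf (nat_lit 0x80706010504000203) (nat_lit 768))
 (.leaf (nat_lit 0x80706010504000302) (nat_lit 1290))
) (.node (nat_lit 0x80706010504020300) (.leaf (nat_lit 0x80706010504020003) (nat_lit 1024))
 (.leaf (nat_lit 0x80706010504020300) (nat_lit 1024))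
))) (.node (nat_lit 0x80706020001040305) (.node (nat_lit 0x80706020001030405) (.node (nat_lit 0x80706010504030200) (.leaf (nat_lit 0x80706010504030002) (nat_lit 1024))
 (.leaf (nat_lit 0x80706010504030200) (nat_lit 1034))
) (.node (nat_lit 0x80706020001030504) (.leaf (nat_lit 0x80706020001030405) (nat_lit 1289))
 (.leaf (nat_lit 0x80706020001030504) (nat_lit 1033))
)) (.node (nat_lit 0x80706020001050304) (.node (nat_lit 0x80706020001040503) (.leaf (nat_lit 0x80706020001040305) (nat_lit 1033))
 (.leaf (nat_lit 0x80706020001040503) (nat_lit 1033))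
) (.node (nat_lit 0x80706020001050403) (.leaf (nat_lit 0x80706020001050304) (nat_lit 1289))
 (.node (nat_lit 0x80706020003010405) (.leaf (nat_lit 0x80706020001050403) (nat_lit 777))
 (.leaf (nat_lit 0x80706020003010405) (nat_lit 1536))
))))))) (.node (nat_lit 0x80706020104050300) (.node (nat_lit 0x80706020100030405) (.node (nat_lit 0x80706020004030501) (.node (nat_lit 0x80706020003050401) (.node (nat_lit 0x80706020003040501) (.node (nat_lit 0x80706020003040105) (.leaf (nat_lit 0x80706020003010504) (nat_lit 1280))
 (.leaf (nat_lit 0x80706020003040105) (nat_lit 1280))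
) (.node (nat_lit 0x80706020003050104) (.leaf (nat_lit 0x80706020003040501) (nat_lit 1280))
 (.leaf (nat_lit 0x80706020003050104) (nat_lit 1536))
)) (.node (nat_lit 0x80706020004010503) (.node (nat_lit 0x80706020004010305) (.leaf (nat_lit 0x80706020003050401) (nat_lit 1024))
 (.leaf (nat_lit 0x80706020004010305) (nat_lit 1538))
) (.node (nat_lit 0x80706020004030105) (.leaf (nat_lit 0x80706020004010503) (nat_lit 1539))
 (.leaf (nat_lit 0x80706020004030105) (nat_lit 1537))
))) (.node (nat_lit 0x80706020005010403) (.node (nat_lit 0x80706020004050301) (.node (nat_lit 0x80706020004050103) (.leaf (nat_lit 0x80706020004030501) (nat_lit 1282))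
 (.leaf (nat_lit 0x80706020004050103) (nat_lit 1538))
) (.node (nat_lit 0x80706020005010304) (.leaf (nat_lit 0x80706020004050301) (nat_lit 1538))
 (.leaf (nat_lit 0x80706020005010304) (nat_lit 1290))
)) (.node (nat_lit 0x80706020005030401) (.node (nat_lit 0x80706020005030104) (.leaf (nat_lit 0x80706020005010403) (nat_lit 1539))
 (.leaf (nat_lit 0x80706020005030104) (nat_lit 1539))
) (.node (nat_lit 0x80706020005040103) (.leaf (nat_lit 0x80706020005030401) (nat_lit 1546))
 (.node (nat_lit 0x80706020005040301) (.leaf (nat_lit 0x80706020005040103) (nat_lit 1546))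
 (.leaf (nat_lit 0x80706020005040301) (nat_lit 1283))
))))) (.node (nat_lit 0x80706020103040005) (.node (nat_lit 0x80706020100050304) (.node (nat_lit 0x80706020100040305) (.node (nat_lit 0x80706020100030504) (.leaf (nat_lit 0x80706020100030405) (nat_lit 777))
 (.leaf (nat_lit 0x80706020100030504) (nat_lit 521))
) (.node (nat_lit 0x80706020100040503) (.leaf (nat_lit 0x80706020100040305) (nat_lit 521))
 (.leaf (nat_lit 0x80706020100040503) (nat_lit 521))
)) (.node (nat_lit 0x80706020103000405) (.node (nat_lit 0x80706020100050403) (.leaf (nat_lit 0x80706020100050304) (nat_lit 777))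
 (.leaf (nat_lit 0x80706020100050403) (nat_lit 265))
) (.node (nat_lit 0x80706020103000504) (.leaf (nat_lit 0x80706020103000405) (nat_lit 1034))
 (.leaf (nat_lit 0x80706020103000504) (nat_lit 778))
))) (.node (nat_lit 0x80706020104000305) (.node (nat_lit 0x80706020103050004) (.node (nat_lit 0x80706020103040500) (.leaf (nat_lit 0x80706020103040005) (nat_lit 778))
 (.leaf (nat_lit 0x80706020103040500) (nat_lit 778))
) (.node (nat_lit 0x80706020103050400) (.leaf (nat_lit 0x80706020103050004) (nat_lit 1034))
 (.leaf (nat_lit 0x80706020103050400) (nat_lit 522))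
)) (.node (nat_lit 0x80706020104030005) (.node (nat_lit 0x80706020104000503) (.leaf (nat_lit 0x80706020104000305) (nat_lit 1026))
 (.leaf (nat_lit 0x80706020104000503) (nat_lit 1034))
) (.node (nat_lit 0x80706020104030500) (.leaf (nat_lit 0x80706020104030005) (nat_lit 1290))
 (.node (nat_lit 0x80706020104050003) (.leaf (nat_lit 0x80706020104030500) (nat_lit 770))
 (.leaf (nat_lit 0x80706020104050003) (nat_lit 1026))
)))))) (.node (nat_lit 0x80706020301050004) (.node (nat_lit 0x80706020300010504) (.node (nat_lit 0x80706020105030400) (.node (nat_lit 0x80706020105000403) (.node (nat_lit 0x80706020105000304) (.leaf (nat_lit 0x80706020104050300) (nat_lit 1026))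
 (.leaf (nat_lit 0x80706020105000304) (nat_lit 1283))
) (.node (nat_lit 0x80706020105030004) (.leaf (nat_lit 0x80706020105000403) (nat_lit 1027))
 (.leaf (nat_lit 0x80706020105030004) (nat_lit 1027))
)) (.node (nat_lit 0x80706020105040300) (.node (nat_lit 0x80706020105040003) (.leaf (nat_lit 0x80706020105030400) (nat_lit 1027))
 (.leaf (nat_lit 0x80706020105040003) (nat_lit 1034))
) (.node (nat_lit 0x80706020300010405) (.leaf (nat_lit 0x80706020105040300) (nat_lit 771))
 (.leaf (nat_lit 0x80706020300010405) (nat_lit 1536))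
))) (.node (nat_lit 0x80706020300050401) (.node (nat_lit 0x80706020300040501) (.node (nat_lit 0x80706020300040105) (.leaf (nat_lit 0x80706020300010504) (nat_lit 1280))
 (.leaf (nat_lit 0x80706020300040105) (nat_lit 1280))
) (.node (nat_lit 0x80706020300050104) (.leaf (nat_lit 0x80706020300040501) (nat_lit 1280))
 (.leaf (nat_lit 0x80706020300050104) (nat_lit 1536))
)) (.node (nat_lit 0x80706020301000504) (.node (nat_lit 0x80706020301000405) (.leaf (nat_lit 0x80706020300050401) (nat_lit 1024))
 (.leaf (nat_lit 0x80706020301000405) (nat_lit 1546))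
) (.node (nat_lit 0x80706020301040005) (.leaf (nat_lit 0x80706020301000504) (nat_lit 1290))
 (.node (nat_lit 0x80706020301040500) (.leaf (nat_lit 0x80706020301040005) (nat_lit 1290))
 (.leaf (nat_lit 0x80706020301040500) (nat_lit 1290))
))))) (.node (nat_lit 0x80706020305000104) (.node (nat_lit 0x80706020304010005) (.node (nat_lit 0x80706020304000105) (.node (nat_lit 0x80706020301050400) (.leaf (nat_lit 0x80706020301050004) (nat_lit 1546))
 (.leaf (nat_lit 0x80706020301050400) (nat_lit 1034))
) (.node (nat_lit 0x80706020304000501) (.leaf (nat_lit 0x80706020304000105) (nat_lit 1539))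
 (.leaf (nat_lit 0x80706020304000501) (nat_lit 1539))
)) (.node (nat_lit 0x80706020304050001) (.node (nat_lit 0x80706020304010500) (.leaf (nat_lit 0x80706020304010005) (nat_lit 1283))
 (.leaf (nat_lit 0x80706020304010500) (nat_lit 1539))
) (.node (nat_lit 0x80706020304050100) (.leaf (nat_lit 0x80706020304050001) (nat_lit 1795))
 (.leaf (nat_lit 0x80706020304050100) (nat_lit 1539))
))) (.node (nat_lit 0x80706020305040001) (.node (nat_lit 0x80706020305010004) (.node (nat_lit 0x80706020305000401) (.leaf (nat_lit 0x80706020305000104) (nat_lit 1282))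
 (.leaf (nat_lit 0x80706020305000401) (nat_lit 1282))
) (.node (nat_lit 0x80706020305010400) (.leaf (nat_lit 0x80706020305010004) (nat_lit 1026))
 (.leaf (nat_lit 0x80706020305010400) (nat_lit 1282))
)) (.node (nat_lit 0x80706020400010305) (.node (nat_lit 0x80706020305040100) (.leaf (nat_lit 0x80706020305040001) (nat_lit 1538))
 (.leaf (nat_lit 0x80706020305040100) (nat_lit 1282))
) (.node (nat_lit 0x80706020400010503) (.leaf (nat_lit 0x80706020400010305) (nat_lit 1290))
 (.node (nat_lit 0x80706020400030105) (.leaf (nat_lit 0x80706020400010503) (nat_lit 1546))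
 (.leaf (nat_lit 0x80706020400030105) (nat_lit 1546))
)))))))) (.node (nat_lit 0x80706030005040102) (.node (nat_lit 0x80706020503000104) (.node (nat_lit 0x80706020405000301) (.node (nat_lit 0x80706020401050300) (.node (nat_lit 0x80706020401000503) (.node (nat_lit 0x80706020400050301) (.node (nat_lit 0x80706020400050103) (.leaf (nat_lit 0x80706020400030501) (nat_lit 1282))
 (.leaf (nat_lit 0x80706020400050103) (nat_lit 1546))
) (.node (nat_lit 0x80706020401000305) (.leaf (nat_lit 0x80706020400050301) (nat_lit 1538))
 (.leaf (nat_lit 0x80706020401000305) (nat_lit 1538))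
)) (.node (nat_lit 0x80706020401030500) (.node (nat_lit 0x80706020401030005) (.leaf (nat_lit 0x80706020401000503) (nat_lit 1546))
 (.leaf (nat_lit 0x80706020401030005) (nat_lit 1536))
) (.node (nat_lit 0x80706020401050003) (.leaf (nat_lit 0x80706020401030500) (nat_lit 1282))
 (.leaf (nat_lit 0x80706020401050003) (nat_lit 1538))
))) (.node (nat_lit 0x80706020403010500) (.node (nat_lit 0x80706020403000501) (.node (nat_lit 0x80706020403000105) (.leaf (nat_lit 0x80706020401050300) (nat_lit 1538))
 (.leaf (nat_lit 0x80706020403000105) (nat_lit 1283))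
) (.node (nat_lit 0x80706020403010005) (.leaf (nat_lit 0x80706020403000501) (nat_lit 1283))
 (.leaf (nat_lit 0x80706020403010005) (nat_lit 1027))
)) (.node (nat_lit 0x80706020403050100) (.node (nat_lit 0x80706020403050001) (.leaf (nat_lit 0x80706020403010500) (nat_lit 1283))
 (.leaf (nat_lit 0x80706020403050001) (nat_lit 1539))
) (.node (nat_lit 0x80706020405000103) (.leaf (nat_lit 0x80706020403050100) (nat_lit 1283))
 (.leaf (nat_lit 0x80706020405000103) (nat_lit 1281))
)))) (.node (nat_lit 0x80706020500030401) (.node (nat_lit 0x80706020405030100) (.node (nat_lit 0x80706020405010300) (.node (nat_lit 0x80706020405010003) (.leaf (nat_lit 0x80706020405000301) (nat_lit 1281))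
 (.leaf (nat_lit 0x80706020405010003) (nat_lit 1025))
) (.node (nat_lit 0x80706020405030001) (.leaf (nat_lit 0x80706020405010300) (nat_lit 1290))
 (.leaf (nat_lit 0x80706020405030001) (nat_lit 1537))
)) (.node (nat_lit 0x80706020500010403) (.node (nat_lit 0x80706020500010304) (.leaf (nat_lit 0x80706020405030100) (nat_lit 1281))
 (.leaf (nat_lit 0x80706020500010304) (nat_lit 1290))
) (.node (nat_lit 0x80706020500030104) (.leaf (nat_lit 0x80706020500010403) (nat_lit 1539))
 (.leaf (nat_lit 0x80706020500030104) (nat_lit 1281))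
))) (.node (nat_lit 0x80706020501000403) (.node (nat_lit 0x80706020500040301) (.node (nat_lit 0x80706020500040103) (.leaf (nat_lit 0x80706020500030401) (nat_lit 1546))
 (.leaf (nat_lit 0x80706020500040103) (nat_lit 1546))
) (.node (nat_lit 0x80706020501000304) (.leaf (nat_lit 0x80706020500040301) (nat_lit 1283))
 (.leaf (nat_lit 0x80706020501000304) (nat_lit 1281))
)) (.node (nat_lit 0x80706020501030400) (.node (nat_lit 0x80706020501030004) (.leaf (nat_lit 0x80706020501000403) (nat_lit 1539))
 (.leaf (nat_lit 0x80706020501030004) (nat_lit 1539))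
) (.node (nat_lit 0x80706020501040003) (.leaf (nat_lit 0x80706020501030400) (nat_lit 1537))
 (.node (nat_lit 0x80706020501040300) (.leaf (nat_lit 0x80706020501040003) (nat_lit 1537))
 (.leaf (nat_lit 0x80706020501040300) (nat_lit 1283))
)))))) (.node (nat_lit 0x80706030001050402) (.node (nat_lit 0x80706020504010003) (.node (nat_lit 0x80706020503040001) (.node (nat_lit 0x80706020503010004) (.node (nat_lit 0x80706020503000401) (.leaf (nat_lit 0x80706020503000104) (nat_lit 1281))
 (.leaf (nat_lit 0x80706020503000401) (nat_lit 1281))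
) (.node (nat_lit 0x80706020503010400) (.leaf (nat_lit 0x80706020503010004) (nat_lit 1025))
 (.leaf (nat_lit 0x80706020503010400) (nat_lit 1537))
)) (.node (nat_lit 0x80706020504000103) (.node (nat_lit 0x80706020503040100) (.leaf (nat_lit 0x80706020503040001) (nat_lit 1537))
 (.leaf (nat_lit 0x80706020503040100) (nat_lit 1281))
) (.node (nat_lit 0x80706020504000301) (.leaf (nat_lit 0x80706020504000103) (nat_lit 1025))
 (.leaf (nat_lit 0x80706020504000301) (nat_lit 1025))
))) (.node (nat_lit 0x80706030001020405) (.node (nat_lit 0x80706020504030001) (.node (nat_lit 0x80706020504010300) (.leaf (nat_lit 0x80706020504010003) (nat_lit 769))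
 (.leaf (nat_lit 0x80706020504010300) (nat_lit 1034))
) (.node (nat_lit 0x80706020504030100) (.leaf (nat_lit 0x80706020504030001) (nat_lit 1281))
 (.leaf (nat_lit 0x80706020504030100) (nat_lit 1025))
)) (.node (nat_lit 0x80706030001040205) (.node (nat_lit 0x80706030001020504) (.leaf (nat_lit 0x80706030001020405) (nat_lit 1539))
 (.leaf (nat_lit 0x80706030001020504) (nat_lit 1537))
) (.node (nat_lit 0x80706030001040502) (.leaf (nat_lit 0x80706030001040205) (nat_lit 1537))
 (.node (nat_lit 0x80706030001050204) (.leaf (nat_lit 0x80706030001040502) (nat_lit 1539))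
 (.leaf (nat_lit 0x80706030001050204) (nat_lit 1283))
))))) (.node (nat_lit 0x80706030004010502) (.node (nat_lit 0x80706030002040501) (.node (nat_lit 0x80706030002010504) (.node (nat_lit 0x80706030002010405) (.leaf (nat_lit 0x80706030001050402) (nat_lit 1281))
 (.leaf (nat_lit 0x80706030002010405) (nat_lit 1536))
) (.node (nat_lit 0x80706030002040105) (.leaf (nat_lit 0x80706030002010504) (nat_lit 1280))
 (.leaf (nat_lit 0x80706030002040105) (nat_lit 1280))
)) (.node (nat_lit 0x80706030002050401) (.node (nat_lit 0x80706030002050104) (.leaf (nat_lit 0x80706030002040501) (nat_lit 1280))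
 (.leaf (nat_lit 0x80706030002050104) (nat_lit 1536))
) (.node (nat_lit 0x80706030004010205) (.leaf (nat_lit 0x80706030002050401) (nat_lit 1024))
 (.leaf (nat_lit 0x80706030004010205) (nat_lit 1027))
))) (.node (nat_lit 0x80706030004050201) (.node (nat_lit 0x80706030004020501) (.node (nat_lit 0x80706030004020105) (.leaf (nat_lit 0x80706030004010502) (nat_lit 1027))
 (.leaf (nat_lit 0x80706030004020105) (nat_lit 771))
) (.node (nat_lit 0x80706030004050102) (.leaf (nat_lit 0x80706030004020501) (nat_lit 1283))
 (.leaf (nat_lit 0x80706030004050102) (nat_lit 1283))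
)) (.node (nat_lit 0x80706030005010402) (.node (nat_lit 0x80706030005010204) (.leaf (nat_lit 0x80706030004050201) (nat_lit 1027))
 (.leaf (nat_lit 0x80706030005010204) (nat_lit 1290))
) (.node (nat_lit 0x80706030005020104) (.leaf (nat_lit 0x80706030005010402) (nat_lit 1290))
 (.node (nat_lit 0x80706030005020401) (.leaf (nat_lit 0x80706030005020104) (nat_lit 1034))
 (.leaf (nat_lit 0x80706030005020401) (nat_lit 1546))
))))))) (.node (nat_lit 0x80706030201040005) (.node (nat_lit 0x80706030104020500) (.node (nat_lit 0x80706030102000405) (.node (nat_lit 0x80706030100040205) (.node (nat_lit 0x80706030100020405) (.node (nat_lit 0x80706030005040201) (.leaf (nat_lit 0x80706030005040102) (nat_lit 1546))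
 (.leaf (nat_lit 0x80706030005040201) (nat_lit 1290))
) (.node (nat_lit 0x80706030100020504) (.leaf (nat_lit 0x80706030100020405) (nat_lit 1537))
 (.leaf (nat_lit 0x80706030100020504) (nat_lit 1281))
)) (.node (nat_lit 0x80706030100050204) (.node (nat_lit 0x80706030100040502) (.leaf (nat_lit 0x80706030100040205) (nat_lit 1281))
 (.leaf (nat_lit 0x80706030100040502) (nat_lit 1281))
) (.node (nat_lit 0x80706030100050402) (.leaf (nat_lit 0x80706030100050204) (nat_lit 1537))
 (.leaf (nat_lit 0x80706030100050402) (nat_lit 1025))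
))) (.node (nat_lit 0x80706030102050004) (.node (nat_lit 0x80706030102040005) (.node (nat_lit 0x80706030102000504) (.leaf (nat_lit 0x80706030102000405) (nat_lit 1546))
 (.leaf (nat_lit 0x80706030102000504) (nat_lit 1290))
) (.node (nat_lit 0x80706030102040500) (.leaf (nat_lit 0x80706030102040005) (nat_lit 1290))
 (.leaf (nat_lit 0x80706030102040500) (nat_lit 1290))
)) (.node (nat_lit 0x80706030104000205) (.node (nat_lit 0x80706030102050400) (.leaf (nat_lit 0x80706030102050004) (nat_lit 1546))
 (.leaf (nat_lit 0x80706030102050400) (nat_lit 1034))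
) (.node (nat_lit 0x80706030104000502) (.leaf (nat_lit 0x80706030104000205) (nat_lit 1027))
 (.node (nat_lit 0x80706030104020005) (.leaf (nat_lit 0x80706030104000502) (nat_lit 1539))
 (.leaf (nat_lit 0x80706030104020005) (nat_lit 1283))
))))) (.node (nat_lit 0x80706030105040200) (.node (nat_lit 0x80706030105000402) (.node (nat_lit 0x80706030104050200) (.node (nat_lit 0x80706030104050002) (.leaf (nat_lit 0x80706030104020500) (nat_lit 1283))
 (.leaf (nat_lit 0x80706030104050002) (nat_lit 1283))
) (.node (nat_lit 0x80706030105000204) (.leaf (nat_lit 0x80706030104050200) (nat_lit 1283))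
 (.leaf (nat_lit 0x80706030105000204) (nat_lit 1280))
)) (.node (nat_lit 0x80706030105020400) (.node (nat_lit 0x80706030105020004) (.leaf (nat_lit 0x80706030105000402) (nat_lit 1794))
 (.leaf (nat_lit 0x80706030105020004) (nat_lit 1536))
) (.node (nat_lit 0x80706030105040002) (.leaf (nat_lit 0x80706030105020400) (nat_lit 1536))
 (.leaf (nat_lit 0x80706030105040002) (nat_lit 1536))
))) (.node (nat_lit 0x80706030200040501) (.node (nat_lit 0x80706030200010504) (.node (nat_lit 0x80706030200010405) (.leaf (nat_lit 0x80706030105040200) (nat_lit 1538))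
 (.leaf (nat_lit 0x80706030200010405) (nat_lit 1546))
) (.node (nat_lit 0x80706030200040105) (.leaf (nat_lit 0x80706030200010504) (nat_lit 1290))
 (.leaf (nat_lit 0x80706030200040105) (nat_lit 1290))
)) (.node (nat_lit 0x80706030200050401) (.node (nat_lit 0x80706030200050104) (.leaf (nat_lit 0x80706030200040501) (nat_lit 1290))
 (.leaf (nat_lit 0x80706030200050104) (nat_lit 1546))
) (.node (nat_lit 0x80706030201000405) (.leaf (nat_lit 0x80706030200050401) (nat_lit 1034))
 (.node (nat_lit 0x80706030201000504) (.leaf (nat_lit 0x80706030201000405) (nat_lit 1290))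
 (.leaf (nat_lit 0x80706030201000504) (nat_lit 1034))
)))))) (.node (nat_lit 0x80706030400010502) (.node (nat_lit 0x80706030204050001) (.node (nat_lit 0x80706030204000105) (.node (nat_lit 0x80706030201050004) (.node (nat_lit 0x80706030201040500) (.leaf (nat_lit 0x80706030201040005) (nat_lit 1034))
 (.leaf (nat_lit 0x80706030201040500) (nat_lit 1034))
) (.node (nat_lit 0x80706030201050400) (.leaf (nat_lit 0x80706030201050004) (nat_lit 1290))
 (.leaf (nat_lit 0x80706030201050400) (nat_lit 778))
)) (.node (nat_lit 0x80706030204010005) (.node (nat_lit 0x80706030204000501) (.leaf (nat_lit 0x80706030204000105) (nat_lit 1283))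
 (.leaf (nat_lit 0x80706030204000501) (nat_lit 1283))
) (.node (nat_lit 0x80706030204010500) (.leaf (nat_lit 0x80706030204010005) (nat_lit 1027))
 (.leaf (nat_lit 0x80706030204010500) (nat_lit 1283))
))) (.node (nat_lit 0x80706030205010004) (.node (nat_lit 0x80706030205000104) (.node (nat_lit 0x80706030204050100) (.leaf (nat_lit 0x80706030204050001) (nat_lit 1539))
 (.leaf (nat_lit 0x80706030204050100) (nat_lit 1283))
) (.node (nat_lit 0x80706030205000401) (.leaf (nat_lit 0x80706030205000104) (nat_lit 1546))
 (.leaf (nat_lit 0x80706030205000401) (nat_lit 1537))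
)) (.node (nat_lit 0x80706030205040001) (.node (nat_lit 0x80706030205010400) (.leaf (nat_lit 0x80706030205010004) (nat_lit 1281))
 (.leaf (nat_lit 0x80706030205010400) (nat_lit 1546))
) (.node (nat_lit 0x80706030205040100) (.leaf (nat_lit 0x80706030205040001) (nat_lit 1290))
 (.node (nat_lit 0x80706030400010205) (.leaf (nat_lit 0x80706030205040100) (nat_lit 1537))
 (.leaf (nat_lit 0x80706030400010205) (nat_lit 1027))
))))) (.node (nat_lit 0x80706030401020500) (.node (nat_lit 0x80706030400050201) (.node (nat_lit 0x80706030400020501) (.node (nat_lit 0x80706030400020105) (.leaf (nat_lit 0x80706030400010502) (nat_lit 1027))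
 (.leaf (nat_lit 0x80706030400020105) (nat_lit 771))
) (.node (nat_lit 0x80706030400050102) (.leaf (nat_lit 0x80706030400020501) (nat_lit 1283))
 (.leaf (nat_lit 0x80706030400050102) (nat_lit 1283))
)) (.node (nat_lit 0x80706030401000502) (.node (nat_lit 0x80706030401000205) (.leaf (nat_lit 0x80706030400050201) (nat_lit 1027))
 (.leaf (nat_lit 0x80706030401000205) (nat_lit 1027))
) (.node (nat_lit 0x80706030401020005) (.leaf (nat_lit 0x80706030401000502) (nat_lit 1539))
 (.leaf (nat_lit 0x80706030401020005) (nat_lit 1283))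
))) (.node (nat_lit 0x80706030402000501) (.node (nat_lit 0x80706030401050200) (.node (nat_lit 0x80706030401050002) (.leaf (nat_lit 0x80706030401020500) (nat_lit 1283))
 (.leaf (nat_lit 0x80706030401050002) (nat_lit 1283))
) (.node (nat_lit 0x80706030402000105) (.leaf (nat_lit 0x80706030401050200) (nat_lit 1283))
 (.leaf (nat_lit 0x80706030402000105) (nat_lit 1283))
)) (.node (nat_lit 0x80706030402010500) (.node (nat_lit 0x80706030402010005) (.leaf (nat_lit 0x80706030402000501) (nat_lit 1283))
 (.leaf (nat_lit 0x80706030402010005) (nat_lit 1027))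
) (.node (nat_lit 0x80706030402050001) (.leaf (nat_lit 0x80706030402010500) (nat_lit 1283))
 (.node (nat_lit 0x80706030402050100) (.leaf (nat_lit 0x80706030402050001) (nat_lit 1539))
 (.leaf (nat_lit 0x80706030402050100) (nat_lit 1283))
))))))))) (.node (nat_lit 0x80706040501020300) (.node (nat_lit 0x80706040103000502) (.node (nat_lit 0x80706040001030502) (.node (nat_lit 0x80706030501040002) (.node (nat_lit 0x80706030500020104) (.node (nat_lit 0x80706030405020001) (.node (nat_lit 0x80706030405010002) (.node (nat_lit 0x80706030405000201) (.leaf (nat_lit 0x80706030405000102) (nat_lit 1031))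
 (.leaf (nat_lit 0x80706030405000201) (nat_lit 775))
) (.node (nat_lit 0x80706030405010200) (.leaf (nat_lit 0x80706030405010002) (nat_lit 775))
 (.leaf (nat_lit 0x80706030405010200) (nat_lit 775))
)) (.node (nat_lit 0x80706030500010204) (.node (nat_lit 0x80706030405020100) (.leaf (nat_lit 0x80706030405020001) (nat_lit 1031))
 (.leaf (nat_lit 0x80706030405020100) (nat_lit 519))
) (.node (nat_lit 0x80706030500010402) (.leaf (nat_lit 0x80706030500010204) (nat_lit 770))
 (.leaf (nat_lit 0x80706030500010402) (nat_lit 770))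
))) (.node (nat_lit 0x80706030501000204) (.node (nat_lit 0x80706030500040102) (.node (nat_lit 0x80706030500020401) (.leaf (nat_lit 0x80706030500020104) (nat_lit 514))
 (.leaf (nat_lit 0x80706030500020401) (nat_lit 1026))
) (.node (nat_lit 0x80706030500040201) (.leaf (nat_lit 0x80706030500040102) (nat_lit 1026))
 (.leaf (nat_lit 0x80706030500040201) (nat_lit 770))
)) (.node (nat_lit 0x80706030501020004) (.node (nat_lit 0x80706030501000402) (.leaf (nat_lit 0x80706030501000204) (nat_lit 770))
 (.leaf (nat_lit 0x80706030501000402) (nat_lit 1282))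
) (.node (nat_lit 0x80706030501020400) (.leaf (nat_lit 0x80706030501020004) (nat_lit 1026))
 (.leaf (nat_lit 0x80706030501020400) (nat_lit 1026))
)))) (.node (nat_lit 0x80706030504000102) (.node (nat_lit 0x80706030502010004) (.node (nat_lit 0x80706030502000104) (.node (nat_lit 0x80706030501040200) (.leaf (nat_lit 0x80706030501040002) (nat_lit 1026))
 (.leaf (nat_lit 0x80706030501040200) (nat_lit 1026))
) (.node (nat_lit 0x80706030502000401) (.leaf (nat_lit 0x80706030502000104) (nat_lit 1026))
 (.leaf (nat_lit 0x80706030502000401) (nat_lit 1026))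
)) (.node (nat_lit 0x80706030502040001) (.node (nat_lit 0x80706030502010400) (.leaf (nat_lit 0x80706030502010004) (nat_lit 770))
 (.leaf (nat_lit 0x80706030502010400) (nat_lit 1026))
) (.node (nat_lit 0x80706030502040100) (.leaf (nat_lit 0x80706030502040001) (nat_lit 1282))
 (.leaf (nat_lit 0x80706030502040100) (nat_lit 1026))
))) (.node (nat_lit 0x80706030504020001) (.node (nat_lit 0x80706030504010002) (.node (nat_lit 0x80706030504000201) (.leaf (nat_lit 0x80706030504000102) (nat_lit 774))
 (.leaf (nat_lit 0x80706030504000201) (nat_lit 514))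
) (.node (nat_lit 0x80706030504010200) (.leaf (nat_lit 0x80706030504010002) (nat_lit 514))
 (.leaf (nat_lit 0x80706030504010200) (nat_lit 518))
)) (.node (nat_lit 0x80706040001020305) (.node (nat_lit 0x80706030504020100) (.leaf (nat_lit 0x80706030504020001) (nat_lit 774))
 (.leaf (nat_lit 0x80706030504020100) (nat_lit 258))
) (.node (nat_lit 0x80706040001020503) (.leaf (nat_lit 0x80706040001020305) (nat_lit 1290))
 (.node (nat_lit 0x80706040001030205) (.leaf (nat_lit 0x80706040001020503) (nat_lit 1290))
 (.leaf (nat_lit 0x80706040001030205) (nat_lit 1034))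
)))))) (.node (nat_lit 0x80706040005020103) (.node (nat_lit 0x80706040002050301) (.node (nat_lit 0x80706040002010503) (.node (nat_lit 0x80706040001050302) (.node (nat_lit 0x80706040001050203) (.leaf (nat_lit 0x80706040001030502) (nat_lit 1546))
 (.leaf (nat_lit 0x80706040001050203) (nat_lit 1290))
) (.node (nat_lit 0x80706040002010305) (.leaf (nat_lit 0x80706040001050302) (nat_lit 1290))
 (.leaf (nat_lit 0x80706040002010305) (nat_lit 1034))
)) (.node (nat_lit 0x80706040002030501) (.node (nat_lit 0x80706040002030105) (.leaf (nat_lit 0x80706040002010503) (nat_lit 1290))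
 (.leaf (nat_lit 0x80706040002030105) (nat_lit 1290))
) (.node (nat_lit 0x80706040002050103) (.leaf (nat_lit 0x80706040002030501) (nat_lit 1290))
 (.leaf (nat_lit 0x80706040002050103) (nat_lit 1290))
))) (.node (nat_lit 0x80706040003020501) (.node (nat_lit 0x80706040003010502) (.node (nat_lit 0x80706040003010205) (.leaf (nat_lit 0x80706040002050301) (nat_lit 1546))
 (.leaf (nat_lit 0x80706040003010205) (nat_lit 1034))
) (.node (nat_lit 0x80706040003020105) (.leaf (nat_lit 0x80706040003010502) (nat_lit 1034))
 (.leaf (nat_lit 0x80706040003020105) (nat_lit 778))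
)) (.node (nat_lit 0x80706040003050201) (.node (nat_lit 0x80706040003050102) (.leaf (nat_lit 0x80706040003020501) (nat_lit 1290))
 (.leaf (nat_lit 0x80706040003050102) (nat_lit 1290))
) (.node (nat_lit 0x80706040005010203) (.leaf (nat_lit 0x80706040003050201) (nat_lit 1034))
 (.node (nat_lit 0x80706040005010302) (.leaf (nat_lit 0x80706040005010203) (nat_lit 778))
 (.leaf (nat_lit 0x80706040005010302) (nat_lit 778))
))))) (.node (nat_lit 0x80706040100050203) (.node (nat_lit 0x80706040100020305) (.node (nat_lit 0x80706040005030102) (.node (nat_lit 0x80706040005020301) (.leaf (nat_lit 0x80706040005020103) (nat_lit 522))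
 (.leaf (nat_lit 0x80706040005020301) (nat_lit 1034))
) (.node (nat_lit 0x80706040005030201) (.leaf (nat_lit 0x80706040005030102) (nat_lit 1034))
 (.leaf (nat_lit 0x80706040005030201) (nat_lit 778))
)) (.node (nat_lit 0x80706040100030205) (.node (nat_lit 0x80706040100020503) (.leaf (nat_lit 0x80706040100020305) (nat_lit 1280))
 (.leaf (nat_lit 0x80706040100020503) (nat_lit 1546))
) (.node (nat_lit 0x80706040100030502) (.leaf (nat_lit 0x80706040100030205) (nat_lit 1290))
 (.leaf (nat_lit 0x80706040100030502) (nat_lit 1282))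
))) (.node (nat_lit 0x80706040102030005) (.node (nat_lit 0x80706040102000305) (.node (nat_lit 0x80706040100050302) (.leaf (nat_lit 0x80706040100050203) (nat_lit 1536))
 (.leaf (nat_lit 0x80706040100050302) (nat_lit 1546))
) (.node (nat_lit 0x80706040102000503) (.leaf (nat_lit 0x80706040102000305) (nat_lit 1538))
 (.leaf (nat_lit 0x80706040102000503) (nat_lit 1536))
)) (.node (nat_lit 0x80706040102050003) (.node (nat_lit 0x80706040102030500) (.leaf (nat_lit 0x80706040102030005) (nat_lit 1280))
 (.leaf (nat_lit 0x80706040102030500) (nat_lit 1282))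
) (.node (nat_lit 0x80706040102050300) (.leaf (nat_lit 0x80706040102050003) (nat_lit 1538))
 (.node (nat_lit 0x80706040103000205) (.leaf (nat_lit 0x80706040102050300) (nat_lit 1536))
 (.leaf (nat_lit 0x80706040103000205) (nat_lit 1024))
))))))) (.node (nat_lit 0x80706040205030100) (.node (nat_lit 0x80706040201000305) (.node (nat_lit 0x80706040105020300) (.node (nat_lit 0x80706040103050200) (.node (nat_lit 0x80706040103020500) (.node (nat_lit 0x80706040103020005) (.leaf (nat_lit 0x80706040103000502) (nat_lit 1536))
 (.leaf (nat_lit 0x80706040103020005) (nat_lit 1280))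
) (.node (nat_lit 0x80706040103050002) (.leaf (nat_lit 0x80706040103020500) (nat_lit 1280))
 (.leaf (nat_lit 0x80706040103050002) (nat_lit 1280))
)) (.node (nat_lit 0x80706040105000302) (.node (nat_lit 0x80706040105000203) (.leaf (nat_lit 0x80706040103050200) (nat_lit 1536))
 (.leaf (nat_lit 0x80706040105000203) (nat_lit 768))
) (.node (nat_lit 0x80706040105020003) (.leaf (nat_lit 0x80706040105000302) (nat_lit 1290))
 (.leaf (nat_lit 0x80706040105020003) (nat_lit 1024))
))) (.node (nat_lit 0x80706040200010503) (.node (nat_lit 0x80706040105030200) (.node (nat_lit 0x80706040105030002) (.leaf (nat_lit 0x80706040105020300) (nat_lit 1024))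
 (.leaf (nat_lit 0x80706040105030002) (nat_lit 1024))
) (.node (nat_lit 0x80706040200010305) (.leaf (nat_lit 0x80706040105030200) (nat_lit 1034))
 (.leaf (nat_lit 0x80706040200010305) (nat_lit 1290))
)) (.node (nat_lit 0x80706040200030501) (.node (nat_lit 0x80706040200030105) (.leaf (nat_lit 0x80706040200010503) (nat_lit 1537))
 (.leaf (nat_lit 0x80706040200030105) (nat_lit 1281))
) (.node (nat_lit 0x80706040200050103) (.leaf (nat_lit 0x80706040200030501) (nat_lit 1282))
 (.node (nat_lit 0x80706040200050301) (.leaf (nat_lit 0x80706040200050103) (nat_lit 1546))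
 (.leaf (nat_lit 0x80706040200050301) (nat_lit 1537))
))))) (.node (nat_lit 0x80706040203010005) (.node (nat_lit 0x80706040201050003) (.node (nat_lit 0x80706040201030005) (.node (nat_lit 0x80706040201000503) (.leaf (nat_lit 0x80706040201000305) (nat_lit 1282))
 (.leaf (nat_lit 0x80706040201000503) (nat_lit 1290))
) (.node (nat_lit 0x80706040201030500) (.leaf (nat_lit 0x80706040201030005) (nat_lit 1546))
 (.leaf (nat_lit 0x80706040201030500) (nat_lit 1026))
)) (.node (nat_lit 0x80706040203000105) (.node (nat_lit 0x80706040201050300) (.leaf (nat_lit 0x80706040201050003) (nat_lit 1282))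
 (.leaf (nat_lit 0x80706040201050300) (nat_lit 1282))
) (.node (nat_lit 0x80706040203000501) (.leaf (nat_lit 0x80706040203000105) (nat_lit 1281))
 (.leaf (nat_lit 0x80706040203000501) (nat_lit 1281))
))) (.node (nat_lit 0x80706040205000103) (.node (nat_lit 0x80706040203050001) (.node (nat_lit 0x80706040203010500) (.leaf (nat_lit 0x80706040203010005) (nat_lit 1025))
 (.leaf (nat_lit 0x80706040203010500) (nat_lit 1537))
) (.node (nat_lit 0x80706040203050100) (.leaf (nat_lit 0x80706040203050001) (nat_lit 1537))
 (.leaf (nat_lit 0x80706040203050100) (nat_lit 1281))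
)) (.node (nat_lit 0x80706040205010003) (.node (nat_lit 0x80706040205000301) (.leaf (nat_lit 0x80706040205000103) (nat_lit 1025))
 (.leaf (nat_lit 0x80706040205000301) (nat_lit 1025))
) (.node (nat_lit 0x80706040205010300) (.leaf (nat_lit 0x80706040205010003) (nat_lit 769))
 (.node (nat_lit 0x80706040205030001) (.leaf (nat_lit 0x80706040205010300) (nat_lit 1034))
 (.leaf (nat_lit 0x80706040205030001) (nat_lit 1281))
)))))) (.node (nat_lit 0x80706040302050001) (.node (nat_lit 0x80706040301000502) (.node (nat_lit 0x80706040300020501) (.node (nat_lit 0x80706040300010502) (.node (nat_lit 0x80706040300010205) (.leaf (nat_lit 0x80706040205030100) (nat_lit 1025))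
 (.leaf (nat_lit 0x80706040300010205) (nat_lit 771))
) (.node (nat_lit 0x80706040300020105) (.leaf (nat_lit 0x80706040300010502) (nat_lit 771))
 (.leaf (nat_lit 0x80706040300020105) (nat_lit 515))
)) (.node (nat_lit 0x80706040300050201) (.node (nat_lit 0x80706040300050102) (.leaf (nat_lit 0x80706040300020501) (nat_lit 1027))
 (.leaf (nat_lit 0x80706040300050102) (nat_lit 1027))
) (.node (nat_lit 0x80706040301000205) (.leaf (nat_lit 0x80706040300050201) (nat_lit 771))
 (.leaf (nat_lit 0x80706040301000205) (nat_lit 771))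
))) (.node (nat_lit 0x80706040301050200) (.node (nat_lit 0x80706040301020500) (.node (nat_lit 0x80706040301020005) (.leaf (nat_lit 0x80706040301000502) (nat_lit 1283))
 (.leaf (nat_lit 0x80706040301020005) (nat_lit 1027))
) (.node (nat_lit 0x80706040301050002) (.leaf (nat_lit 0x80706040301020500) (nat_lit 1027))
 (.leaf (nat_lit 0x80706040301050002) (nat_lit 1027))
)) (.node (nat_lit 0x80706040302000501) (.node (nat_lit 0x80706040302000105) (.leaf (nat_lit 0x80706040301050200) (nat_lit 1027))
 (.leaf (nat_lit 0x80706040302000105) (nat_lit 1027))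
) (.node (nat_lit 0x80706040302010005) (.leaf (nat_lit 0x80706040302000501) (nat_lit 1027))
 (.node (nat_lit 0x80706040302010500) (.leaf (nat_lit 0x80706040302010005) (nat_lit 771))
 (.leaf (nat_lit 0x80706040302010500) (nat_lit 1027))
))))) (.node (nat_lit 0x80706040500010203) (.node (nat_lit 0x80706040305010002) (.node (nat_lit 0x80706040305000102) (.node (nat_lit 0x80706040302050100) (.leaf (nat_lit 0x80706040302050001) (nat_lit 1283))
 (.leaf (nat_lit 0x80706040302050100) (nat_lit 1027))
) (.node (nat_lit 0x80706040305000201) (.leaf (nat_lit 0x80706040305000102) (nat_lit 774))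
 (.leaf (nat_lit 0x80706040305000201) (nat_lit 515))
)) (.node (nat_lit 0x80706040305020001) (.node (nat_lit 0x80706040305010200) (.leaf (nat_lit 0x80706040305010002) (nat_lit 515))
 (.leaf (nat_lit 0x80706040305010200) (nat_lit 518))
) (.node (nat_lit 0x80706040305020100) (.leaf (nat_lit 0x80706040305020001) (nat_lit 774))
 (.leaf (nat_lit 0x80706040305020100) (nat_lit 259))
))) (.node (nat_lit 0x80706040500030102) (.node (nat_lit 0x80706040500020103) (.node (nat_lit 0x80706040500010302) (.leaf (nat_lit 0x80706040500010203) (nat_lit 778))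
 (.leaf (nat_lit 0x80706040500010302) (nat_lit 778))
) (.node (nat_lit 0x80706040500020301) (.leaf (nat_lit 0x80706040500020103) (nat_lit 522))
 (.leaf (nat_lit 0x80706040500020301) (nat_lit 1034))
)) (.node (nat_lit 0x80706040501000203) (.node (nat_lit 0x80706040500030201) (.leaf (nat_lit 0x80706040500030102) (nat_lit 1034))
 (.leaf (nat_lit 0x80706040500030201) (nat_lit 778))
) (.node (nat_lit 0x80706040501000302) (.leaf (nat_lit 0x80706040501000203) (nat_lit 768))
 (.node (nat_lit 0x80706040501020003) (.leaf (nat_lit 0x80706040501000302) (nat_lit 1290))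
 (.leaf (nat_lit 0x80706040501020003) (nat_lit 1024))
)))))))) (.node (nat_lit 0x80706050200040103) (.node (nat_lit 0x80706050004010203) (.node (nat_lit 0x80706050001020403) (.node (nat_lit 0x80706040502030100) (.node (nat_lit 0x80706040502000301) (.node (nat_lit 0x80706040501030200) (.node (nat_lit 0x80706040501030002) (.leaf (nat_lit 0x80706040501020300) (nat_lit 1024))
 (.leaf (nat_lit 0x80706040501030002) (nat_lit 1024))
) (.node (nat_lit 0x80706040502000103) (.leaf (nat_lit 0x80706040501030200) (nat_lit 1034))
 (.leaf (nat_lit 0x80706040502000103) (nat_lit 1025))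
)) (.node (nat_lit 0x80706040502010300) (.node (nat_lit 0x80706040502010003) (.leaf (nat_lit 0x80706040502000301) (nat_lit 1025))
 (.leaf (nat_lit 0x80706040502010003) (nat_lit 769))
) (.node (nat_lit 0x80706040502030001) (.leaf (nat_lit 0x80706040502010300) (nat_lit 1034))
 (.leaf (nat_lit 0x80706040502030001) (nat_lit 1281))
))) (.node (nat_lit 0x80706040503010200) (.node (nat_lit 0x80706040503000201) (.node (nat_lit 0x80706040503000102) (.leaf (nat_lit 0x80706040502030100) (nat_lit 1025))
 (.leaf (nat_lit 0x80706040503000102) (nat_lit 775))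
) (.node (nat_lit 0x80706040503010002) (.leaf (nat_lit 0x80706040503000201) (nat_lit 519))
 (.leaf (nat_lit 0x80706040503010002) (nat_lit 519))
)) (.node (nat_lit 0x80706040503020100) (.node (nat_lit 0x80706040503020001) (.leaf (nat_lit 0x80706040503010200) (nat_lit 519))
 (.leaf (nat_lit 0x80706040503020001) (nat_lit 775))
) (.node (nat_lit 0x80706050001020304) (.leaf (nat_lit 0x80706040503020100) (nat_lit 263))
 (.leaf (nat_lit 0x80706050001020304) (nat_lit 1538))
)))) (.node (nat_lit 0x80706050002030401) (.node (nat_lit 0x80706050001040302) (.node (nat_lit 0x80706050001030402) (.node (nat_lit 0x80706050001030204) (.leaf (nat_lit 0x80706050001020403) (nat_lit 1546))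
 (.leaf (nat_lit 0x80706050001030204) (nat_lit 1290))
) (.node (nat_lit 0x80706050001040203) (.leaf (nat_lit 0x80706050001030402) (nat_lit 1538))
 (.leaf (nat_lit 0x80706050001040203) (nat_lit 1282))
)) (.node (nat_lit 0x80706050002010403) (.node (nat_lit 0x80706050002010304) (.leaf (nat_lit 0x80706050001040302) (nat_lit 1546))
 (.leaf (nat_lit 0x80706050002010304) (nat_lit 1290))
) (.node (nat_lit 0x80706050002030104) (.leaf (nat_lit 0x80706050002010403) (nat_lit 1282))
 (.leaf (nat_lit 0x80706050002030104) (nat_lit 1538))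
))) (.node (nat_lit 0x80706050003010402) (.node (nat_lit 0x80706050002040301) (.node (nat_lit 0x80706050002040103) (.leaf (nat_lit 0x80706050002030401) (nat_lit 1546))
 (.leaf (nat_lit 0x80706050002040103) (nat_lit 1546))
) (.node (nat_lit 0x80706050003010204) (.leaf (nat_lit 0x80706050002040301) (nat_lit 1283))
 (.leaf (nat_lit 0x80706050003010204) (nat_lit 1026))
)) (.node (nat_lit 0x80706050003020401) (.node (nat_lit 0x80706050003020104) (.leaf (nat_lit 0x80706050003010402) (nat_lit 1026))
 (.leaf (nat_lit 0x80706050003020104) (nat_lit 770))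
) (.node (nat_lit 0x80706050003040102) (.leaf (nat_lit 0x80706050003020401) (nat_lit 1282))
 (.node (nat_lit 0x80706050003040201) (.leaf (nat_lit 0x80706050003040102) (nat_lit 1282))
 (.leaf (nat_lit 0x80706050003040201) (nat_lit 1026))
)))))) (.node (nat_lit 0x80706050102040300) (.node (nat_lit 0x80706050100030204) (.node (nat_lit 0x80706050004030102) (.node (nat_lit 0x80706050004020103) (.node (nat_lit 0x80706050004010302) (.leaf (nat_lit 0x80706050004010203) (nat_lit 1034))
 (.leaf (nat_lit 0x80706050004010302) (nat_lit 1034))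
) (.node (nat_lit 0x80706050004020301) (.leaf (nat_lit 0x80706050004020103) (nat_lit 778))
 (.leaf (nat_lit 0x80706050004020301) (nat_lit 1290))
)) (.node (nat_lit 0x80706050100020304) (.node (nat_lit 0x80706050004030201) (.leaf (nat_lit 0x80706050004030102) (nat_lit 1290))
 (.leaf (nat_lit 0x80706050004030201) (nat_lit 1034))
) (.node (nat_lit 0x80706050100020403) (.leaf (nat_lit 0x80706050100020304) (nat_lit 1546))
 (.leaf (nat_lit 0x80706050100020403) (nat_lit 1539))
))) (.node (nat_lit 0x80706050102000304) (.node (nat_lit 0x80706050100040203) (.node (nat_lit 0x80706050100030402) (.leaf (nat_lit 0x80706050100030204) (nat_lit 1290))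
 (.leaf (nat_lit 0x80706050100030402) (nat_lit 1539))
) (.node (nat_lit 0x80706050100040302) (.leaf (nat_lit 0x80706050100040203) (nat_lit 1537))
 (.leaf (nat_lit 0x80706050100040302) (nat_lit 1283))
)) (.node (nat_lit 0x80706050102030004) (.node (nat_lit 0x80706050102000403) (.leaf (nat_lit 0x80706050102000304) (nat_lit 1537))
 (.leaf (nat_lit 0x80706050102000403) (nat_lit 1539))
) (.node (nat_lit 0x80706050102030400) (.leaf (nat_lit 0x80706050102030004) (nat_lit 1539))
 (.node (nat_lit 0x80706050102040003) (.leaf (nat_lit 0x80706050102030400) (nat_lit 1539))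
 (.leaf (nat_lit 0x80706050102040003) (nat_lit 1546))
))))) (.node (nat_lit 0x80706050104000302) (.node (nat_lit 0x80706050103020400) (.node (nat_lit 0x80706050103000402) (.node (nat_lit 0x80706050103000204) (.leaf (nat_lit 0x80706050102040300) (nat_lit 1283))
 (.leaf (nat_lit 0x80706050103000204) (nat_lit 1026))
) (.node (nat_lit 0x80706050103020004) (.leaf (nat_lit 0x80706050103000402) (nat_lit 1538))
 (.leaf (nat_lit 0x80706050103020004) (nat_lit 1282))
)) (.node (nat_lit 0x80706050103040200) (.node (nat_lit 0x80706050103040002) (.leaf (nat_lit 0x80706050103020400) (nat_lit 1282))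
 (.leaf (nat_lit 0x80706050103040002) (nat_lit 1282))
) (.node (nat_lit 0x80706050104000203) (.leaf (nat_lit 0x80706050103040200) (nat_lit 1282))
 (.leaf (nat_lit 0x80706050104000203) (nat_lit 1024))
))) (.node (nat_lit 0x80706050104030200) (.node (nat_lit 0x80706050104020300) (.node (nat_lit 0x80706050104020003) (.leaf (nat_lit 0x80706050104000302) (nat_lit 1546))
 (.leaf (nat_lit 0x80706050104020003) (nat_lit 1280))
) (.node (nat_lit 0x80706050104030002) (.leaf (nat_lit 0x80706050104020300) (nat_lit 1280))
 (.leaf (nat_lit 0x80706050104030002) (nat_lit 1280))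
)) (.node (nat_lit 0x80706050200010403) (.node (nat_lit 0x80706050200010304) (.leaf (nat_lit 0x80706050104030200) (nat_lit 1290))
 (.leaf (nat_lit 0x80706050200010304) (nat_lit 1290))
) (.node (nat_lit 0x80706050200030104) (.leaf (nat_lit 0x80706050200010403) (nat_lit 1539))
 (.node (nat_lit 0x80706050200030401) (.leaf (nat_lit 0x80706050200030104) (nat_lit 1539))
 (.leaf (nat_lit 0x80706050200030401) (nat_lit 1546))
))))))) (.node (nat_lit 0x80706050302010004) (.node (nat_lit 0x80706050204010300) (.node (nat_lit 0x80706050203000104) (.node (nat_lit 0x80706050201030004) (.node (nat_lit 0x80706050201000304) (.node (nat_lit 0x80706050200040301) (.leaf (nat_lit 0x80706050200040103) (nat_lit 1546))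
 (.leaf (nat_lit 0x80706050200040301) (nat_lit 1283))
) (.node (nat_lit 0x80706050201000403) (.leaf (nat_lit 0x80706050201000304) (nat_lit 1539))
 (.leaf (nat_lit 0x80706050201000403) (nat_lit 1283))
)) (.node (nat_lit 0x80706050201040003) (.node (nat_lit 0x80706050201030400) (.leaf (nat_lit 0x80706050201030004) (nat_lit 1283))
 (.leaf (nat_lit 0x80706050201030400) (nat_lit 1283))
) (.node (nat_lit 0x80706050201040300) (.leaf (nat_lit 0x80706050201040003) (nat_lit 1290))
 (.leaf (nat_lit 0x80706050201040300) (nat_lit 1027))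
))) (.node (nat_lit 0x80706050203040001) (.node (nat_lit 0x80706050203010004) (.node (nat_lit 0x80706050203000401) (.leaf (nat_lit 0x80706050203000104) (nat_lit 1282))
 (.leaf (nat_lit 0x80706050203000401) (nat_lit 1282))
) (.node (nat_lit 0x80706050203010400) (.leaf (nat_lit 0x80706050203010004) (nat_lit 1026))
 (.leaf (nat_lit 0x80706050203010400) (nat_lit 1282))
)) (.node (nat_lit 0x80706050204000103) (.node (nat_lit 0x80706050203040100) (.leaf (nat_lit 0x80706050203040001) (nat_lit 1538))
 (.leaf (nat_lit 0x80706050203040100) (nat_lit 1282))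
) (.node (nat_lit 0x80706050204000301) (.leaf (nat_lit 0x80706050204000103) (nat_lit 1281))
 (.node (nat_lit 0x80706050204010003) (.leaf (nat_lit 0x80706050204000301) (nat_lit 1281))
 (.leaf (nat_lit 0x80706050204010003) (nat_lit 1025))
))))) (.node (nat_lit 0x80706050300040201) (.node (nat_lit 0x80706050300010402) (.node (nat_lit 0x80706050204030100) (.node (nat_lit 0x80706050204030001) (.leaf (nat_lit 0x80706050204010300) (nat_lit 1290))
 (.leaf (nat_lit 0x80706050204030001) (nat_lit 1537))
) (.node (nat_lit 0x80706050300010204) (.leaf (nat_lit 0x80706050204030100) (nat_lit 1281))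
 (.leaf (nat_lit 0x80706050300010204) (nat_lit 1026))
)) (.node (nat_lit 0x80706050300020401) (.node (nat_lit 0x80706050300020104) (.leaf (nat_lit 0x80706050300010402) (nat_lit 1026))
 (.leaf (nat_lit 0x80706050300020104) (nat_lit 770))
) (.node (nat_lit 0x80706050300040102) (.leaf (nat_lit 0x80706050300020401) (nat_lit 1282))
 (.leaf (nat_lit 0x80706050300040102) (nat_lit 1282))
))) (.node (nat_lit 0x80706050301020400) (.node (nat_lit 0x80706050301000402) (.node (nat_lit 0x80706050301000204) (.leaf (nat_lit 0x80706050300040201) (nat_lit 1026))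
 (.leaf (nat_lit 0x80706050301000204) (nat_lit 1026))
) (.node (nat_lit 0x80706050301020004) (.leaf (nat_lit 0x80706050301000402) (nat_lit 1538))
 (.leaf (nat_lit 0x80706050301020004) (nat_lit 1282))
)) (.node (nat_lit 0x80706050301040200) (.node (nat_lit 0x80706050301040002) (.leaf (nat_lit 0x80706050301020400) (nat_lit 1282))
 (.leaf (nat_lit 0x80706050301040002) (nat_lit 1282))
) (.node (nat_lit 0x80706050302000104) (.leaf (nat_lit 0x80706050301040200) (nat_lit 1282))
 (.node (nat_lit 0x80706050302000401) (.leaf (nat_lit 0x80706050302000104) (nat_lit 1282))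
 (.leaf (nat_lit 0x80706050302000401) (nat_lit 1282))
)))))) (.node (nat_lit 0x80706050401000302) (.node (nat_lit 0x80706050304020001) (.node (nat_lit 0x80706050304000102) (.node (nat_lit 0x80706050302040001) (.node (nat_lit 0x80706050302010400) (.leaf (nat_lit 0x80706050302010004) (nat_lit 1026))
 (.leaf (nat_lit 0x80706050302010400) (nat_lit 1282))
) (.node (nat_lit 0x80706050302040100) (.leaf (nat_lit 0x80706050302040001) (nat_lit 1538))
 (.leaf (nat_lit 0x80706050302040100) (nat_lit 1282))
)) (.node (nat_lit 0x80706050304010002) (.node (nat_lit 0x80706050304000201) (.leaf (nat_lit 0x80706050304000102) (nat_lit 1031))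
 (.leaf (nat_lit 0x80706050304000201) (nat_lit 775))
) (.node (nat_lit 0x80706050304010200) (.leaf (nat_lit 0x80706050304010002) (nat_lit 775))
 (.leaf (nat_lit 0x80706050304010200) (nat_lit 775))
))) (.node (nat_lit 0x80706050400020103) (.node (nat_lit 0x80706050400010203) (.node (nat_lit 0x80706050304020100) (.leaf (nat_lit 0x80706050304020001) (nat_lit 1031))
 (.leaf (nat_lit 0x80706050304020100) (nat_lit 519))
) (.node (nat_lit 0x80706050400010302) (.leaf (nat_lit 0x80706050400010203) (nat_lit 522))
 (.leaf (nat_lit 0x80706050400010302) (nat_lit 522))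
)) (.node (nat_lit 0x80706050400030102) (.node (nat_lit 0x80706050400020301) (.leaf (nat_lit 0x80706050400020103) (nat_lit 266))
 (.leaf (nat_lit 0x80706050400020301) (nat_lit 778))
) (.node (nat_lit 0x80706050400030201) (.leaf (nat_lit 0x80706050400030102) (nat_lit 778))
 (.node (nat_lit 0x80706050401000203) (.leaf (nat_lit 0x80706050400030201) (nat_lit 522))
 (.leaf (nat_lit 0x80706050401000203) (nat_lit 512))
))))) (.node (nat_lit 0x80706050402010300) (.node (nat_lit 0x80706050401030200) (.node (nat_lit 0x80706050401020300) (.node (nat_lit 0x80706050401020003) (.leaf (nat_lit 0x80706050401000302) (nat_lit 1034))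
 (.leaf (nat_lit 0x80706050401020003) (nat_lit 768))
) (.node (nat_lit 0x80706050401030002) (.leaf (nat_lit 0x80706050401020300) (nat_lit 768))
 (.leaf (nat_lit 0x80706050401030002) (nat_lit 768))
)) (.node (nat_lit 0x80706050402000301) (.node (nat_lit 0x80706050402000103) (.leaf (nat_lit 0x80706050401030200) (nat_lit 778))
 (.leaf (nat_lit 0x80706050402000103) (nat_lit 769))
) (.node (nat_lit 0x80706050402010003) (.leaf (nat_lit 0x80706050402000301) (nat_lit 769))
 (.leaf (nat_lit 0x80706050402010003) (nat_lit 513))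
))) (.node (nat_lit 0x80706050403000201) (.node (nat_lit 0x80706050402030100) (.node (nat_lit 0x80706050402030001) (.leaf (nat_lit 0x80706050402010300) (nat_lit 778))
 (.leaf (nat_lit 0x80706050402030001) (nat_lit 1025))
) (.node (nat_lit 0x80706050403000102) (.leaf (nat_lit 0x80706050402030100) (nat_lit 769))
 (.leaf (nat_lit 0x80706050403000102) (nat_lit 518))
)) (.node (nat_lit 0x80706050403010200) (.node (nat_lit 0x80706050403010002) (.leaf (nat_lit 0x80706050403000201) (nat_lit 256))
 (.leaf (nat_lit 0x80706050403010002) (nat_lit 257))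
) (.node (nat_lit 0x80706050403020001) (.leaf (nat_lit 0x80706050403010200) (nat_lit 262))
 (.node (nat_lit 0x80706050403020100) (.leaf (nat_lit 0x80706050403020001) (nat_lit 518))
 (.leaf (nat_lit 0x80706050403020100) (nat_lit 0))
)))))))))))))

theorem N3_ok : genOK A9 [(nat_lit 0x80706050403000201), (nat_lit 0x80706050403010002), (nat_lit 0x80706030504020100), (nat_lit 0x80706040305020100), (nat_lit 0x60807050403020100), (nat_lit 0x70608050403020100), (nat_lit 0x80706050403010200), (nat_lit 0x80706040503020100), (nat_lit 0x70806050403020100), (nat_lit 0x80706020100050403), (nat_lit 0x80706050400020103)] N3_t (nat_lit 4320) = true := by decide +kernel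

noncomputable def V8_t : ST :=
(.node (nat_lit 0x80706050400010203) (.node (nat_lit 0x80706040502030001) (.node (nat_lit 0x80706040501000302) (.leaf (nat_lit 0x80706040500010203) (nat_lit 513))
 (.leaf (nat_lit 0x80706040501000302) (nat_lit 514))
) (.node (nat_lit 0x80706040503020100) (.leaf (nat_lit 0x80706040502030001) (nat_lit 770))
 (.leaf (nat_lit 0x80706040503020100) (nat_lit 256))
)) (.node (nat_lit 0x80706050402030001) (.node (nat_lit 0x80706050401000302) (.leaf (nat_lit 0x80706050400010203) (nat_lit 257))
 (.leaf (nat_lit 0x80706050401000302) (nat_lit 258))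
) (.node (nat_lit 0x80706050403020100) (.leaf (nat_lit 0x80706050402030001) (nat_lit 514))
 (.leaf (nat_lit 0x80706050403020100) (nat_lit 0))
)))

theorem V8_ok : genOK A9 [(nat_lit 0x80706040503020100), (nat_lit 0x80706050400010203), (nat_lit 0x80706050401000302)] V8_t (nat_lit 8) = true := by decide +kernel

noncomputable def T32_t : ST :=
(.node (nat_lit 0x80706040500010203) (.node (nat_lit 0x70806050400010203) (.node (nat_lit 0x70806040502000301) (.node (nat_lit 0x70806040501000302) (.node (nat_lit 0x70806040500020103) (.leaf (nat_lit 0x70806040500010203) (nat_lit 770))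
 (.leaf (nat_lit 0x70806040500020103) (nat_lit 1028))
) (.node (nat_lit 0x70806040501030002) (.leaf (nat_lit 0x70806040501000302) (nat_lit 771))
 (.leaf (nat_lit 0x70806040501030002) (nat_lit 1027))
)) (.node (nat_lit 0x70806040503010200) (.node (nat_lit 0x70806040502030001) (.leaf (nat_lit 0x70806040502000301) (nat_lit 1028))
 (.leaf (nat_lit 0x70806040502030001) (nat_lit 1027))
) (.node (nat_lit 0x70806040503020100) (.leaf (nat_lit 0x70806040503010200) (nat_lit 772))
 (.leaf (nat_lit 0x70806040503020100) (nat_lit 513))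
))) (.node (nat_lit 0x70806050402000301) (.node (nat_lit 0x70806050401000302) (.node (nat_lit 0x70806050400020103) (.leaf (nat_lit 0x70806050400010203) (nat_lit 514))
 (.leaf (nat_lit 0x70806050400020103) (nat_lit 772))
) (.node (nat_lit 0x70806050401030002) (.leaf (nat_lit 0x70806050401000302) (nat_lit 515))
 (.leaf (nat_lit 0x70806050401030002) (nat_lit 771))
)) (.node (nat_lit 0x70806050403010200) (.node (nat_lit 0x70806050402030001) (.leaf (nat_lit 0x70806050402000301) (nat_lit 772))
 (.leaf (nat_lit 0x70806050402030001) (nat_lit 771))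
) (.node (nat_lit 0x70806050403020100) (.leaf (nat_lit 0x70806050403010200) (nat_lit 516))
 (.leaf (nat_lit 0x70806050403020100) (nat_lit 256))
)))) (.node (nat_lit 0x80706050400010203) (.node (nat_lit 0x80706040502000301) (.node (nat_lit 0x80706040501000302) (.node (nat_lit 0x80706040500020103) (.leaf (nat_lit 0x80706040500010203) (nat_lit 514))
 (.leaf (nat_lit 0x80706040500020103) (nat_lit 772))
) (.node (nat_lit 0x80706040501030002) (.leaf (nat_lit 0x80706040501000302) (nat_lit 515))
 (.leaf (nat_lit 0x80706040501030002) (nat_lit 771))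
)) (.node (nat_lit 0x80706040503010200) (.node (nat_lit 0x80706040502030001) (.leaf (nat_lit 0x80706040502000301) (nat_lit 772))
 (.leaf (nat_lit 0x80706040502030001) (nat_lit 771))
) (.node (nat_lit 0x80706040503020100) (.leaf (nat_lit 0x80706040503010200) (nat_lit 516))
 (.leaf (nat_lit 0x80706040503020100) (nat_lit 257))
))) (.node (nat_lit 0x80706050402000301) (.node (nat_lit 0x80706050401000302) (.node (nat_lit 0x80706050400020103) (.leaf (nat_lit 0x80706050400010203) (nat_lit 258))
 (.leaf (nat_lit 0x80706050400020103) (nat_lit 516))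
) (.node (nat_lit 0x80706050401030002) (.leaf (nat_lit 0x80706050401000302) (nat_lit 259))
 (.leaf (nat_lit 0x80706050401030002) (nat_lit 515))
)) (.node (nat_lit 0x80706050403010200) (.node (nat_lit 0x80706050402030001) (.leaf (nat_lit 0x80706050402000301) (nat_lit 516))
 (.leaf (nat_lit 0x80706050402030001) (nat_lit 515))
) (.node (nat_lit 0x80706050403020100) (.leaf (nat_lit 0x80706050403010200) (nat_lit 260))
 (.leaf (nat_lit 0x80706050403020100) (nat_lit 0))
)))))

theorem T32_ok : genOK A9 [(nat_lit 0x70806050403020100), (nat_lit 0x80706040503020100), (nat_lit 0x80706050400010203), (nat_lit 0x80706050401000302), (nat_lit 0x80706050403010200)] T32_t (nat_lit 32) = true := by decide +kernel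

noncomputable def E16_t : ST :=
(.node (nat_lit 0x80706040500010203) (.node (nat_lit 0x70806050400010203) (.node (nat_lit 0x70806040502030001) (.node (nat_lit 0x70806040501000302) (.leaf (nat_lit 0x70806040500010203) (nat_lit 770))
 (.leaf (nat_lit 0x70806040501000302) (nat_lit 771))
) (.node (nat_lit 0x70806040503020100) (.leaf (nat_lit 0x70806040502030001) (nat_lit 1027))
 (.leaf (nat_lit 0x70806040503020100) (nat_lit 513))
)) (.node (nat_lit 0x70806050402030001) (.node (nat_lit 0x70806050401000302) (.leaf (nat_lit 0x70806050400010203) (nat_lit 514))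
 (.leaf (nat_lit 0x70806050401000302) (nat_lit 515))
) (.node (nat_lit 0x70806050403020100) (.leaf (nat_lit 0x70806050402030001) (nat_lit 771))
 (.leaf (nat_lit 0x70806050403020100) (nat_lit 256))
))) (.node (nat_lit 0x80706050400010203) (.node (nat_lit 0x80706040502030001) (.node (nat_lit 0x80706040501000302) (.leaf (nat_lit 0x80706040500010203) (nat_lit 514))
 (.leaf (nat_lit 0x80706040501000302) (nat_lit 515))
) (.node (nat_lit 0x80706040503020100) (.leaf (nat_lit 0x80706040502030001) (nat_lit 771))
 (.leaf (nat_lit 0x80706040503020100) (nat_lit 257))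
)) (.node (nat_lit 0x80706050402030001) (.node (nat_lit 0x80706050401000302) (.leaf (nat_lit 0x80706050400010203) (nat_lit 258))
 (.leaf (nat_lit 0x80706050401000302) (nat_lit 259))
) (.node (nat_lit 0x80706050403020100) (.leaf (nat_lit 0x80706050402030001) (nat_lit 515))
 (.leaf (nat_lit 0x80706050403020100) (nat_lit 0))
))))

theorem E16_ok : genOK A9 [(nat_lit 0x70806050403020100), (nat_lit 0x80706040503020100), (nat_lit 0x80706050400010203), (nat_lit 0x80706050401000302)] E16_t (nat_lit 16) = true := by decide +kernel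

noncomputable def X288_t : ST :=
(.node (nat_lit 0x70806040500010203) (.node (nat_lit 0x60807050400010203) (.node (nat_lit 0x60708050402000103) (.node (nat_lit 0x60708040503000102) (.node (nat_lit 0x60708040501020300) (.node (nat_lit 0x60708040500030102) (.node (nat_lit 0x60708040500020103) (.node (nat_lit 0x60708040500010302) (.leaf (nat_lit 0x60708040500010203) (nat_lit 1030))
 (.leaf (nat_lit 0x60708040500010302) (nat_lit 1542))
) (.node (nat_lit 0x60708040500020301) (.leaf (nat_lit 0x60708040500020103) (nat_lit 1286))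
 (.leaf (nat_lit 0x60708040500020301) (nat_lit 1542))
)) (.node (nat_lit 0x60708040501000203) (.node (nat_lit 0x60708040500030201) (.leaf (nat_lit 0x60708040500030102) (nat_lit 1286))
 (.leaf (nat_lit 0x60708040500030201) (nat_lit 1542))
) (.node (nat_lit 0x60708040501000302) (.leaf (nat_lit 0x60708040501000203) (nat_lit 1542))
 (.node (nat_lit 0x60708040501020003) (.leaf (nat_lit 0x60708040501000302) (nat_lit 1030))
 (.leaf (nat_lit 0x60708040501020003) (nat_lit 1286))
)))) (.node (nat_lit 0x60708040502000301) (.node (nat_lit 0x60708040501030200) (.node (nat_lit 0x60708040501030002) (.leaf (nat_lit 0x60708040501020300) (nat_lit 1542))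
 (.leaf (nat_lit 0x60708040501030002) (nat_lit 1286))
) (.node (nat_lit 0x60708040502000103) (.leaf (nat_lit 0x60708040501030200) (nat_lit 1542))
 (.leaf (nat_lit 0x60708040502000103) (nat_lit 1542))
)) (.node (nat_lit 0x60708040502010300) (.node (nat_lit 0x60708040502010003) (.leaf (nat_lit 0x60708040502000301) (nat_lit 1286))
 (.leaf (nat_lit 0x60708040502010003) (nat_lit 1542))
) (.node (nat_lit 0x60708040502030001) (.leaf (nat_lit 0x60708040502010300) (nat_lit 1286))
 (.node (nat_lit 0x60708040502030100) (.leaf (nat_lit 0x60708040502030001) (nat_lit 1286))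
 (.leaf (nat_lit 0x60708040502030100) (nat_lit 1542))
))))) (.node (nat_lit 0x60708050400020301) (.node (nat_lit 0x60708040503020001) (.node (nat_lit 0x60708040503010002) (.node (nat_lit 0x60708040503000201) (.leaf (nat_lit 0x60708040503000102) (nat_lit 1286))
 (.leaf (nat_lit 0x60708040503000201) (nat_lit 1030))
) (.node (nat_lit 0x60708040503010200) (.leaf (nat_lit 0x60708040503010002) (nat_lit 1286))
 (.leaf (nat_lit 0x60708040503010200) (nat_lit 1030))
)) (.node (nat_lit 0x60708050400010203) (.node (nat_lit 0x60708040503020100) (.leaf (nat_lit 0x60708040503020001) (nat_lit 1286))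
 (.leaf (nat_lit 0x60708040503020100) (nat_lit 774))
) (.node (nat_lit 0x60708050400010302) (.leaf (nat_lit 0x60708050400010203) (nat_lit 774))
 (.node (nat_lit 0x60708050400020103) (.leaf (nat_lit 0x60708050400010302) (nat_lit 1286))
 (.leaf (nat_lit 0x60708050400020103) (nat_lit 1030))
)))) (.node (nat_lit 0x60708050401000302) (.node (nat_lit 0x60708050400030201) (.node (nat_lit 0x60708050400030102) (.leaf (nat_lit 0x60708050400020301) (nat_lit 1286))
 (.leaf (nat_lit 0x60708050400030102) (nat_lit 1030))
) (.node (nat_lit 0x60708050401000203) (.leaf (nat_lit 0x60708050400030201) (nat_lit 1286))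
 (.leaf (nat_lit 0x60708050401000203) (nat_lit 1286))
)) (.node (nat_lit 0x60708050401020300) (.node (nat_lit 0x60708050401020003) (.leaf (nat_lit 0x60708050401000302) (nat_lit 774))
 (.leaf (nat_lit 0x60708050401020003) (nat_lit 1030))
) (.node (nat_lit 0x60708050401030002) (.leaf (nat_lit 0x60708050401020300) (nat_lit 1286))
 (.node (nat_lit 0x60708050401030200) (.leaf (nat_lit 0x60708050401030002) (nat_lit 1030))
 (.leaf (nat_lit 0x60708050401030200) (nat_lit 1286))
)))))) (.node (nat_lit 0x60807040501000203) (.node (nat_lit 0x60708050403010200) (.node (nat_lit 0x60708050402030001) (.node (nat_lit 0x60708050402010003) (.node (nat_lit 0x60708050402000301) (.leaf (nat_lit 0x60708050402000103) (nat_lit 1286))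
 (.leaf (nat_lit 0x60708050402000301) (nat_lit 1030))
) (.node (nat_lit 0x60708050402010300) (.leaf (nat_lit 0x60708050402010003) (nat_lit 1286))
 (.leaf (nat_lit 0x60708050402010300) (nat_lit 1030))
)) (.node (nat_lit 0x60708050403000102) (.node (nat_lit 0x60708050402030100) (.leaf (nat_lit 0x60708050402030001) (nat_lit 1030))
 (.leaf (nat_lit 0x60708050402030100) (nat_lit 1286))
) (.node (nat_lit 0x60708050403000201) (.leaf (nat_lit 0x60708050403000102) (nat_lit 1030))
 (.node (nat_lit 0x60708050403010002) (.leaf (nat_lit 0x60708050403000201) (nat_lit 774))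
 (.leaf (nat_lit 0x60708050403010002) (nat_lit 1030))
)))) (.node (nat_lit 0x60807040500010302) (.node (nat_lit 0x60708050403020100) (.node (nat_lit 0x60708050403020001) (.leaf (nat_lit 0x60708050403010200) (nat_lit 774))
 (.leaf (nat_lit 0x60708050403020001) (nat_lit 1030))
) (.node (nat_lit 0x60807040500010203) (.leaf (nat_lit 0x60708050403020100) (nat_lit 518))
 (.leaf (nat_lit 0x60807040500010203) (nat_lit 773))
)) (.node (nat_lit 0x60807040500020301) (.node (nat_lit 0x60807040500020103) (.leaf (nat_lit 0x60807040500010302) (nat_lit 1285))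
 (.leaf (nat_lit 0x60807040500020103) (nat_lit 1029))
) (.node (nat_lit 0x60807040500030102) (.leaf (nat_lit 0x60807040500020301) (nat_lit 1285))
 (.node (nat_lit 0x60807040500030201) (.leaf (nat_lit 0x60807040500030102) (nat_lit 1029))
 (.leaf (nat_lit 0x60807040500030201) (nat_lit 1285))
))))) (.node (nat_lit 0x60807040502010300) (.node (nat_lit 0x60807040501030002) (.node (nat_lit 0x60807040501020003) (.node (nat_lit 0x60807040501000302) (.leaf (nat_lit 0x60807040501000203) (nat_lit 1285))
 (.leaf (nat_lit 0x60807040501000302) (nat_lit 773))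
) (.node (nat_lit 0x60807040501020300) (.leaf (nat_lit 0x60807040501020003) (nat_lit 1029))
 (.leaf (nat_lit 0x60807040501020300) (nat_lit 1285))
)) (.node (nat_lit 0x60807040502000103) (.node (nat_lit 0x60807040501030200) (.leaf (nat_lit 0x60807040501030002) (nat_lit 1029))
 (.leaf (nat_lit 0x60807040501030200) (nat_lit 1285))
) (.node (nat_lit 0x60807040502000301) (.leaf (nat_lit 0x60807040502000103) (nat_lit 1285))
 (.node (nat_lit 0x60807040502010003) (.leaf (nat_lit 0x60807040502000301) (nat_lit 1029))
 (.leaf (nat_lit 0x60807040502010003) (nat_lit 1285))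
)))) (.node (nat_lit 0x60807040503000201) (.node (nat_lit 0x60807040502030100) (.node (nat_lit 0x60807040502030001) (.leaf (nat_lit 0x60807040502010300) (nat_lit 1029))
 (.leaf (nat_lit 0x60807040502030001) (nat_lit 1029))
) (.node (nat_lit 0x60807040503000102) (.leaf (nat_lit 0x60807040502030100) (nat_lit 1285))
 (.leaf (nat_lit 0x60807040503000102) (nat_lit 1029))
)) (.node (nat_lit 0x60807040503010200) (.node (nat_lit 0x60807040503010002) (.leaf (nat_lit 0x60807040503000201) (nat_lit 773))
 (.leaf (nat_lit 0x60807040503010002) (nat_lit 1029))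
) (.node (nat_lit 0x60807040503020001) (.leaf (nat_lit 0x60807040503010200) (nat_lit 773))
 (.node (nat_lit 0x60807040503020100) (.leaf (nat_lit 0x60807040503020001) (nat_lit 1029))
 (.leaf (nat_lit 0x60807040503020100) (nat_lit 517))
))))))) (.node (nat_lit 0x70608040502000103) (.node (nat_lit 0x60807050403000102) (.node (nat_lit 0x60807050401020300) (.node (nat_lit 0x60807050400030102) (.node (nat_lit 0x60807050400020103) (.node (nat_lit 0x60807050400010302) (.leaf (nat_lit 0x60807050400010203) (nat_lit 517))
 (.leaf (nat_lit 0x60807050400010302) (nat_lit 1029))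
) (.node (nat_lit 0x60807050400020301) (.leaf (nat_lit 0x60807050400020103) (nat_lit 773))
 (.leaf (nat_lit 0x60807050400020301) (nat_lit 1029))
)) (.node (nat_lit 0x60807050401000203) (.node (nat_lit 0x60807050400030201) (.leaf (nat_lit 0x60807050400030102) (nat_lit 773))
 (.leaf (nat_lit 0x60807050400030201) (nat_lit 1029))
) (.node (nat_lit 0x60807050401000302) (.leaf (nat_lit 0x60807050401000203) (nat_lit 1029))
 (.node (nat_lit 0x60807050401020003) (.leaf (nat_lit 0x60807050401000302) (nat_lit 517))
 (.leaf (nat_lit 0x60807050401020003) (nat_lit 773))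
)))) (.node (nat_lit 0x60807050402000301) (.node (nat_lit 0x60807050401030200) (.node (nat_lit 0x60807050401030002) (.leaf (nat_lit 0x60807050401020300) (nat_lit 1029))
 (.leaf (nat_lit 0x60807050401030002) (nat_lit 773))
) (.node (nat_lit 0x60807050402000103) (.leaf (nat_lit 0x60807050401030200) (nat_lit 1029))
 (.leaf (nat_lit 0x60807050402000103) (nat_lit 1029))
)) (.node (nat_lit 0x60807050402010300) (.node (nat_lit 0x60807050402010003) (.leaf (nat_lit 0x60807050402000301) (nat_lit 773))
 (.leaf (nat_lit 0x60807050402010003) (nat_lit 1029))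
) (.node (nat_lit 0x60807050402030001) (.leaf (nat_lit 0x60807050402010300) (nat_lit 773))
 (.node (nat_lit 0x60807050402030100) (.leaf (nat_lit 0x60807050402030001) (nat_lit 773))
 (.leaf (nat_lit 0x60807050402030100) (nat_lit 1029))
))))) (.node (nat_lit 0x70608040500020301) (.node (nat_lit 0x60807050403020001) (.node (nat_lit 0x60807050403010002) (.node (nat_lit 0x60807050403000201) (.leaf (nat_lit 0x60807050403000102) (nat_lit 773))
 (.leaf (nat_lit 0x60807050403000201) (nat_lit 517))
) (.node (nat_lit 0x60807050403010200) (.leaf (nat_lit 0x60807050403010002) (nat_lit 773))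
 (.leaf (nat_lit 0x60807050403010200) (nat_lit 517))
)) (.node (nat_lit 0x70608040500010203) (.node (nat_lit 0x60807050403020100) (.leaf (nat_lit 0x60807050403020001) (nat_lit 773))
 (.leaf (nat_lit 0x60807050403020100) (nat_lit 261))
) (.node (nat_lit 0x70608040500010302) (.leaf (nat_lit 0x70608040500010203) (nat_lit 1029))
 (.node (nat_lit 0x70608040500020103) (.leaf (nat_lit 0x70608040500010302) (nat_lit 1541))
 (.leaf (nat_lit 0x70608040500020103) (nat_lit 1285))
)))) (.node (nat_lit 0x70608040501000302) (.node (nat_lit 0x70608040500030201) (.node (nat_lit 0x70608040500030102) (.leaf (nat_lit 0x70608040500020301) (nat_lit 1541))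
 (.leaf (nat_lit 0x70608040500030102) (nat_lit 1285))
) (.node (nat_lit 0x70608040501000203) (.leaf (nat_lit 0x70608040500030201) (nat_lit 1541))
 (.leaf (nat_lit 0x70608040501000203) (nat_lit 1541))
)) (.node (nat_lit 0x70608040501020300) (.node (nat_lit 0x70608040501020003) (.leaf (nat_lit 0x70608040501000302) (nat_lit 1029))
 (.leaf (nat_lit 0x70608040501020003) (nat_lit 1285))
) (.node (nat_lit 0x70608040501030002) (.leaf (nat_lit 0x70608040501020300) (nat_lit 1541))
 (.node (nat_lit 0x70608040501030200) (.leaf (nat_lit 0x70608040501030002) (nat_lit 1285))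
 (.leaf (nat_lit 0x70608040501030200) (nat_lit 1541))
)))))) (.node (nat_lit 0x70608050401000203) (.node (nat_lit 0x70608040503010200) (.node (nat_lit 0x70608040502030001) (.node (nat_lit 0x70608040502010003) (.node (nat_lit 0x70608040502000301) (.leaf (nat_lit 0x70608040502000103) (nat_lit 1541))
 (.leaf (nat_lit 0x70608040502000301) (nat_lit 1285))
) (.node (nat_lit 0x70608040502010300) (.leaf (nat_lit 0x70608040502010003) (nat_lit 1541))
 (.leaf (nat_lit 0x70608040502010300) (nat_lit 1285))
)) (.node (nat_lit 0x70608040503000102) (.node (nat_lit 0x70608040502030100) (.leaf (nat_lit 0x70608040502030001) (nat_lit 1285))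
 (.leaf (nat_lit 0x70608040502030100) (nat_lit 1541))
) (.node (nat_lit 0x70608040503000201) (.leaf (nat_lit 0x70608040503000102) (nat_lit 1285))
 (.node (nat_lit 0x70608040503010002) (.leaf (nat_lit 0x70608040503000201) (nat_lit 1029))
 (.leaf (nat_lit 0x70608040503010002) (nat_lit 1285))
)))) (.node (nat_lit 0x70608050400010302) (.node (nat_lit 0x70608040503020100) (.node (nat_lit 0x70608040503020001) (.leaf (nat_lit 0x70608040503010200) (nat_lit 1029))
 (.leaf (nat_lit 0x70608040503020001) (nat_lit 1285))
) (.node (nat_lit 0x70608050400010203) (.leaf (nat_lit 0x70608040503020100) (nat_lit 773))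
 (.leaf (nat_lit 0x70608050400010203) (nat_lit 773))
)) (.node (nat_lit 0x70608050400020301) (.node (nat_lit 0x70608050400020103) (.leaf (nat_lit 0x70608050400010302) (nat_lit 1285))
 (.leaf (nat_lit 0x70608050400020103) (nat_lit 1029))
) (.node (nat_lit 0x70608050400030102) (.leaf (nat_lit 0x70608050400020301) (nat_lit 1285))
 (.node (nat_lit 0x70608050400030201) (.leaf (nat_lit 0x70608050400030102) (nat_lit 1029))
 (.leaf (nat_lit 0x70608050400030201) (nat_lit 1285))
))))) (.node (nat_lit 0x70608050402010300) (.node (nat_lit 0x70608050401030002) (.node (nat_lit 0x70608050401020003) (.node (nat_lit 0x70608050401000302) (.leaf (nat_lit 0x70608050401000203) (nat_lit 1285))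
 (.leaf (nat_lit 0x70608050401000302) (nat_lit 773))
) (.node (nat_lit 0x70608050401020300) (.leaf (nat_lit 0x70608050401020003) (nat_lit 1029))
 (.leaf (nat_lit 0x70608050401020300) (nat_lit 1285))
)) (.node (nat_lit 0x70608050402000103) (.node (nat_lit 0x70608050401030200) (.leaf (nat_lit 0x70608050401030002) (nat_lit 1029))
 (.leaf (nat_lit 0x70608050401030200) (nat_lit 1285))
) (.node (nat_lit 0x70608050402000301) (.leaf (nat_lit 0x70608050402000103) (nat_lit 1285))
 (.node (nat_lit 0x70608050402010003) (.leaf (nat_lit 0x70608050402000301) (nat_lit 1029))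
 (.leaf (nat_lit 0x70608050402010003) (nat_lit 1285))
)))) (.node (nat_lit 0x70608050403000201) (.node (nat_lit 0x70608050402030100) (.node (nat_lit 0x70608050402030001) (.leaf (nat_lit 0x70608050402010300) (nat_lit 1029))
 (.leaf (nat_lit 0x70608050402030001) (nat_lit 1029))
) (.node (nat_lit 0x70608050403000102) (.leaf (nat_lit 0x70608050402030100) (nat_lit 1285))
 (.leaf (nat_lit 0x70608050403000102) (nat_lit 1029))
)) (.node (nat_lit 0x70608050403010200) (.node (nat_lit 0x70608050403010002) (.leaf (nat_lit 0x70608050403000201) (nat_lit 773))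
 (.leaf (nat_lit 0x70608050403010002) (nat_lit 1029))
) (.node (nat_lit 0x70608050403020001) (.leaf (nat_lit 0x70608050403010200) (nat_lit 773))
 (.node (nat_lit 0x70608050403020100) (.leaf (nat_lit 0x70608050403020001) (nat_lit 1029))
 (.leaf (nat_lit 0x70608050403020100) (nat_lit 517))
)))))))) (.node (nat_lit 0x80607050400010203) (.node (nat_lit 0x70806050402000103) (.node (nat_lit 0x70806040503000102) (.node (nat_lit 0x70806040501020300) (.node (nat_lit 0x70806040500030102) (.node (nat_lit 0x70806040500020103) (.node (nat_lit 0x70806040500010302) (.leaf (nat_lit 0x70806040500010203) (nat_lit 774))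
 (.leaf (nat_lit 0x70806040500010302) (nat_lit 1286))
) (.node (nat_lit 0x70806040500020301) (.leaf (nat_lit 0x70806040500020103) (nat_lit 1030))
 (.leaf (nat_lit 0x70806040500020301) (nat_lit 1286))
)) (.node (nat_lit 0x70806040501000203) (.node (nat_lit 0x70806040500030201) (.leaf (nat_lit 0x70806040500030102) (nat_lit 1030))
 (.leaf (nat_lit 0x70806040500030201) (nat_lit 1286))
) (.node (nat_lit 0x70806040501000302) (.leaf (nat_lit 0x70806040501000203) (nat_lit 1286))
 (.node (nat_lit 0x70806040501020003) (.leaf (nat_lit 0x70806040501000302) (nat_lit 774))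
 (.leaf (nat_lit 0x70806040501020003) (nat_lit 1030))
)))) (.node (nat_lit 0x70806040502000301) (.node (nat_lit 0x70806040501030200) (.node (nat_lit 0x70806040501030002) (.leaf (nat_lit 0x70806040501020300) (nat_lit 1286))
 (.leaf (nat_lit 0x70806040501030002) (nat_lit 1030))
) (.node (nat_lit 0x70806040502000103) (.leaf (nat_lit 0x70806040501030200) (nat_lit 1286))
 (.leaf (nat_lit 0x70806040502000103) (nat_lit 1286))
)) (.node (nat_lit 0x70806040502010300) (.node (nat_lit 0x70806040502010003) (.leaf (nat_lit 0x70806040502000301) (nat_lit 1030))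
 (.leaf (nat_lit 0x70806040502010003) (nat_lit 1286))
) (.node (nat_lit 0x70806040502030001) (.leaf (nat_lit 0x70806040502010300) (nat_lit 1030))
 (.node (nat_lit 0x70806040502030100) (.leaf (nat_lit 0x70806040502030001) (nat_lit 1030))
 (.leaf (nat_lit 0x70806040502030100) (nat_lit 1286))
))))) (.node (nat_lit 0x70806050400020301) (.node (nat_lit 0x70806040503020001) (.node (nat_lit 0x70806040503010002) (.node (nat_lit 0x70806040503000201) (.leaf (nat_lit 0x70806040503000102) (nat_lit 1030))
 (.leaf (nat_lit 0x70806040503000201) (nat_lit 774))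
) (.node (nat_lit 0x70806040503010200) (.leaf (nat_lit 0x70806040503010002) (nat_lit 1030))
 (.leaf (nat_lit 0x70806040503010200) (nat_lit 774))
)) (.node (nat_lit 0x70806050400010203) (.node (nat_lit 0x70806040503020100) (.leaf (nat_lit 0x70806040503020001) (nat_lit 1030))
 (.leaf (nat_lit 0x70806040503020100) (nat_lit 518))
) (.node (nat_lit 0x70806050400010302) (.leaf (nat_lit 0x70806050400010203) (nat_lit 518))
 (.node (nat_lit 0x70806050400020103) (.leaf (nat_lit 0x70806050400010302) (nat_lit 1030))
 (.leaf (nat_lit 0x70806050400020103) (nat_lit 774))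
)))) (.node (nat_lit 0x70806050401000302) (.node (nat_lit 0x70806050400030201) (.node (nat_lit 0x70806050400030102) (.leaf (nat_lit 0x70806050400020301) (nat_lit 1030))
 (.leaf (nat_lit 0x70806050400030102) (nat_lit 774))
) (.node (nat_lit 0x70806050401000203) (.leaf (nat_lit 0x70806050400030201) (nat_lit 1030))
 (.leaf (nat_lit 0x70806050401000203) (nat_lit 1030))
)) (.node (nat_lit 0x70806050401020300) (.node (nat_lit 0x70806050401020003) (.leaf (nat_lit 0x70806050401000302) (nat_lit 518))
 (.leaf (nat_lit 0x70806050401020003) (nat_lit 774))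
) (.node (nat_lit 0x70806050401030002) (.leaf (nat_lit 0x70806050401020300) (nat_lit 1030))
 (.node (nat_lit 0x70806050401030200) (.leaf (nat_lit 0x70806050401030002) (nat_lit 774))
 (.leaf (nat_lit 0x70806050401030200) (nat_lit 1030))
)))))) (.node (nat_lit 0x80607040501000203) (.node (nat_lit 0x70806050403010200) (.node (nat_lit 0x70806050402030001) (.node (nat_lit 0x70806050402010003) (.node (nat_lit 0x70806050402000301) (.leaf (nat_lit 0x70806050402000103) (nat_lit 1030))
 (.leaf (nat_lit 0x70806050402000301) (nat_lit 774))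
) (.node (nat_lit 0x70806050402010300) (.leaf (nat_lit 0x70806050402010003) (nat_lit 1030))
 (.leaf (nat_lit 0x70806050402010300) (nat_lit 774))
)) (.node (nat_lit 0x70806050403000102) (.node (nat_lit 0x70806050402030100) (.leaf (nat_lit 0x70806050402030001) (nat_lit 774))
 (.leaf (nat_lit 0x70806050402030100) (nat_lit 1030))
) (.node (nat_lit 0x70806050403000201) (.leaf (nat_lit 0x70806050403000102) (nat_lit 774))
 (.node (nat_lit 0x70806050403010002) (.leaf (nat_lit 0x70806050403000201) (nat_lit 518))
 (.leaf (nat_lit 0x70806050403010002) (nat_lit 774))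
)))) (.node (nat_lit 0x80607040500010302) (.node (nat_lit 0x70806050403020100) (.node (nat_lit 0x70806050403020001) (.leaf (nat_lit 0x70806050403010200) (nat_lit 518))
 (.leaf (nat_lit 0x70806050403020001) (nat_lit 774))
) (.node (nat_lit 0x80607040500010203) (.leaf (nat_lit 0x70806050403020100) (nat_lit 262))
 (.leaf (nat_lit 0x80607040500010203) (nat_lit 1029))
)) (.node (nat_lit 0x80607040500020301) (.node (nat_lit 0x80607040500020103) (.leaf (nat_lit 0x80607040500010302) (nat_lit 1541))
 (.leaf (nat_lit 0x80607040500020103) (nat_lit 1285))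
) (.node (nat_lit 0x80607040500030102) (.leaf (nat_lit 0x80607040500020301) (nat_lit 1541))
 (.node (nat_lit 0x80607040500030201) (.leaf (nat_lit 0x80607040500030102) (nat_lit 1285))
 (.leaf (nat_lit 0x80607040500030201) (nat_lit 1541))
))))) (.node (nat_lit 0x80607040502010300) (.node (nat_lit 0x80607040501030002) (.node (nat_lit 0x80607040501020003) (.node (nat_lit 0x80607040501000302) (.leaf (nat_lit 0x80607040501000203) (nat_lit 1541))
 (.leaf (nat_lit 0x80607040501000302) (nat_lit 1029))
) (.node (nat_lit 0x80607040501020300) (.leaf (nat_lit 0x80607040501020003) (nat_lit 1285))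
 (.leaf (nat_lit 0x80607040501020300) (nat_lit 1541))
)) (.node (nat_lit 0x80607040502000103) (.node (nat_lit 0x80607040501030200) (.leaf (nat_lit 0x80607040501030002) (nat_lit 1285))
 (.leaf (nat_lit 0x80607040501030200) (nat_lit 1541))
) (.node (nat_lit 0x80607040502000301) (.leaf (nat_lit 0x80607040502000103) (nat_lit 1541))
 (.node (nat_lit 0x80607040502010003) (.leaf (nat_lit 0x80607040502000301) (nat_lit 1285))
 (.leaf (nat_lit 0x80607040502010003) (nat_lit 1541))
)))) (.node (nat_lit 0x80607040503000201) (.node (nat_lit 0x80607040502030100) (.node (nat_lit 0x80607040502030001) (.leaf (nat_lit 0x80607040502010300) (nat_lit 1285))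
 (.leaf (nat_lit 0x80607040502030001) (nat_lit 1285))
) (.node (nat_lit 0x80607040503000102) (.leaf (nat_lit 0x80607040502030100) (nat_lit 1541))
 (.leaf (nat_lit 0x80607040503000102) (nat_lit 1285))
)) (.node (nat_lit 0x80607040503010200) (.node (nat_lit 0x80607040503010002) (.leaf (nat_lit 0x80607040503000201) (nat_lit 1029))
 (.leaf (nat_lit 0x80607040503010002) (nat_lit 1285))
) (.node (nat_lit 0x80607040503020001) (.leaf (nat_lit 0x80607040503010200) (nat_lit 1029))
 (.node (nat_lit 0x80607040503020100) (.leaf (nat_lit 0x80607040503020001) (nat_lit 1285))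
 (.leaf (nat_lit 0x80607040503020100) (nat_lit 773))
))))))) (.node (nat_lit 0x80706040502000103) (.node (nat_lit 0x80607050403000102) (.node (nat_lit 0x80607050401020300) (.node (nat_lit 0x80607050400030102) (.node (nat_lit 0x80607050400020103) (.node (nat_lit 0x80607050400010302) (.leaf (nat_lit 0x80607050400010203) (nat_lit 773))
 (.leaf (nat_lit 0x80607050400010302) (nat_lit 1285))
) (.node (nat_lit 0x80607050400020301) (.leaf (nat_lit 0x80607050400020103) (nat_lit 1029))
 (.leaf (nat_lit 0x80607050400020301) (nat_lit 1285))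
)) (.node (nat_lit 0x80607050401000203) (.node (nat_lit 0x80607050400030201) (.leaf (nat_lit 0x80607050400030102) (nat_lit 1029))
 (.leaf (nat_lit 0x80607050400030201) (nat_lit 1285))
) (.node (nat_lit 0x80607050401000302) (.leaf (nat_lit 0x80607050401000203) (nat_lit 1285))
 (.node (nat_lit 0x80607050401020003) (.leaf (nat_lit 0x80607050401000302) (nat_lit 773))
 (.leaf (nat_lit 0x80607050401020003) (nat_lit 1029))
)))) (.node (nat_lit 0x80607050402000301) (.node (nat_lit 0x80607050401030200) (.node (nat_lit 0x80607050401030002) (.leaf (nat_lit 0x80607050401020300) (nat_lit 1285))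
 (.leaf (nat_lit 0x80607050401030002) (nat_lit 1029))
) (.node (nat_lit 0x80607050402000103) (.leaf (nat_lit 0x80607050401030200) (nat_lit 1285))
 (.leaf (nat_lit 0x80607050402000103) (nat_lit 1285))
)) (.node (nat_lit 0x80607050402010300) (.node (nat_lit 0x80607050402010003) (.leaf (nat_lit 0x80607050402000301) (nat_lit 1029))
 (.leaf (nat_lit 0x80607050402010003) (nat_lit 1285))
) (.node (nat_lit 0x80607050402030001) (.leaf (nat_lit 0x80607050402010300) (nat_lit 1029))
 (.node (nat_lit 0x80607050402030100) (.leaf (nat_lit 0x80607050402030001) (nat_lit 1029))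
 (.leaf (nat_lit 0x80607050402030100) (nat_lit 1285))
))))) (.node (nat_lit 0x80706040500020301) (.node (nat_lit 0x80607050403020001) (.node (nat_lit 0x80607050403010002) (.node (nat_lit 0x80607050403000201) (.leaf (nat_lit 0x80607050403000102) (nat_lit 1029))
 (.leaf (nat_lit 0x80607050403000201) (nat_lit 773))
) (.node (nat_lit 0x80607050403010200) (.leaf (nat_lit 0x80607050403010002) (nat_lit 1029))
 (.leaf (nat_lit 0x80607050403010200) (nat_lit 773))
)) (.node (nat_lit 0x80706040500010203) (.node (nat_lit 0x80607050403020100) (.leaf (nat_lit 0x80607050403020001) (nat_lit 1029))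
 (.leaf (nat_lit 0x80607050403020100) (nat_lit 517))
) (.node (nat_lit 0x80706040500010302) (.leaf (nat_lit 0x80706040500010203) (nat_lit 513))
 (.node (nat_lit 0x80706040500020103) (.leaf (nat_lit 0x80706040500010302) (nat_lit 1027))
 (.leaf (nat_lit 0x80706040500020103) (nat_lit 772))
)))) (.node (nat_lit 0x80706040501000302) (.node (nat_lit 0x80706040500030201) (.node (nat_lit 0x80706040500030102) (.leaf (nat_lit 0x80706040500020301) (nat_lit 1027))
 (.leaf (nat_lit 0x80706040500030102) (nat_lit 769))
) (.node (nat_lit 0x80706040501000203) (.leaf (nat_lit 0x80706040500030201) (nat_lit 1028))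
 (.leaf (nat_lit 0x80706040501000203) (nat_lit 1027))
)) (.node (nat_lit 0x80706040501020300) (.node (nat_lit 0x80706040501020003) (.leaf (nat_lit 0x80706040501000302) (nat_lit 514))
 (.leaf (nat_lit 0x80706040501020003) (nat_lit 771))
) (.node (nat_lit 0x80706040501030002) (.leaf (nat_lit 0x80706040501020300) (nat_lit 1028))
 (.node (nat_lit 0x80706040501030200) (.leaf (nat_lit 0x80706040501030002) (nat_lit 770))
 (.leaf (nat_lit 0x80706040501030200) (nat_lit 1027))
)))))) (.node (nat_lit 0x80706050401000203) (.node (nat_lit 0x80706040503010200) (.node (nat_lit 0x80706040502030001) (.node (nat_lit 0x80706040502010003) (.node (nat_lit 0x80706040502000301) (.leaf (nat_lit 0x80706040502000103) (nat_lit 1027))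
 (.leaf (nat_lit 0x80706040502000301) (nat_lit 772))
) (.node (nat_lit 0x80706040502010300) (.leaf (nat_lit 0x80706040502010003) (nat_lit 1028))
 (.leaf (nat_lit 0x80706040502010300) (nat_lit 771))
)) (.node (nat_lit 0x80706040503000102) (.node (nat_lit 0x80706040502030100) (.leaf (nat_lit 0x80706040502030001) (nat_lit 770))
 (.leaf (nat_lit 0x80706040502030100) (nat_lit 1027))
) (.node (nat_lit 0x80706040503000201) (.leaf (nat_lit 0x80706040503000102) (nat_lit 772))
 (.node (nat_lit 0x80706040503010002) (.leaf (nat_lit 0x80706040503000201) (nat_lit 515))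
 (.leaf (nat_lit 0x80706040503010002) (nat_lit 771))
)))) (.node (nat_lit 0x80706050400010302) (.node (nat_lit 0x80706040503020100) (.node (nat_lit 0x80706040503020001) (.leaf (nat_lit 0x80706040503010200) (nat_lit 516))
 (.leaf (nat_lit 0x80706040503020001) (nat_lit 771))
) (.node (nat_lit 0x80706050400010203) (.leaf (nat_lit 0x80706040503020100) (nat_lit 256))
 (.leaf (nat_lit 0x80706050400010203) (nat_lit 257))
)) (.node (nat_lit 0x80706050400020301) (.node (nat_lit 0x80706050400020103) (.leaf (nat_lit 0x80706050400010302) (nat_lit 771))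
 (.leaf (nat_lit 0x80706050400020103) (nat_lit 516))
) (.node (nat_lit 0x80706050400030102) (.leaf (nat_lit 0x80706050400020301) (nat_lit 771))
 (.node (nat_lit 0x80706050400030201) (.leaf (nat_lit 0x80706050400030102) (nat_lit 513))
 (.leaf (nat_lit 0x80706050400030201) (nat_lit 772))
))))) (.node (nat_lit 0x80706050402010300) (.node (nat_lit 0x80706050401030002) (.node (nat_lit 0x80706050401020003) (.node (nat_lit 0x80706050401000302) (.leaf (nat_lit 0x80706050401000203) (nat_lit 771))
 (.leaf (nat_lit 0x80706050401000302) (nat_lit 258))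
) (.node (nat_lit 0x80706050401020300) (.leaf (nat_lit 0x80706050401020003) (nat_lit 515))
 (.leaf (nat_lit 0x80706050401020300) (nat_lit 772))
)) (.node (nat_lit 0x80706050402000103) (.node (nat_lit 0x80706050401030200) (.leaf (nat_lit 0x80706050401030002) (nat_lit 514))
 (.leaf (nat_lit 0x80706050401030200) (nat_lit 771))
) (.node (nat_lit 0x80706050402000301) (.leaf (nat_lit 0x80706050402000103) (nat_lit 771))
 (.node (nat_lit 0x80706050402010003) (.leaf (nat_lit 0x80706050402000301) (nat_lit 516))
 (.leaf (nat_lit 0x80706050402010003) (nat_lit 772))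
)))) (.node (nat_lit 0x80706050403000201) (.node (nat_lit 0x80706050402030100) (.node (nat_lit 0x80706050402030001) (.leaf (nat_lit 0x80706050402010300) (nat_lit 515))
 (.leaf (nat_lit 0x80706050402030001) (nat_lit 514))
) (.node (nat_lit 0x80706050403000102) (.leaf (nat_lit 0x80706050402030100) (nat_lit 771))
 (.leaf (nat_lit 0x80706050403000102) (nat_lit 516))
)) (.node (nat_lit 0x80706050403010200) (.node (nat_lit 0x80706050403010002) (.leaf (nat_lit 0x80706050403000201) (nat_lit 259))
 (.leaf (nat_lit 0x80706050403010002) (nat_lit 515))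
) (.node (nat_lit 0x80706050403020001) (.leaf (nat_lit 0x80706050403010200) (nat_lit 260))
 (.node (nat_lit 0x80706050403020100) (.leaf (nat_lit 0x80706050403020001) (nat_lit 515))
 (.leaf (nat_lit 0x80706050403020100) (nat_lit 0))
)))))))))

theorem X288_ok : genOK A9 [(nat_lit 0x80706040503020100), (nat_lit 0x80706050400010203), (nat_lit 0x80706050401000302), (nat_lit 0x80706050403000201), (nat_lit 0x80706050403010200), (nat_lit 0x60807050403020100), (nat_lit 0x70806050403020100)] X288_t (nat_lit 288) = true := by decide +kernel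

noncomputable def V24_t : ST :=
(.node (nat_lit 0x70608050400010203) (.node (nat_lit 0x60807050402030001) (.node (nat_lit 0x60807040503020100) (.node (nat_lit 0x60807040501000302) (.leaf (nat_lit 0x60807040500010203) (nat_lit 770))
 (.node (nat_lit 0x60807040502030001) (.leaf (nat_lit 0x60807040501000302) (nat_lit 771))
 (.leaf (nat_lit 0x60807040502030001) (nat_lit 1027))
)) (.node (nat_lit 0x60807050400010203) (.leaf (nat_lit 0x60807040503020100) (nat_lit 513))
 (.node (nat_lit 0x60807050401000302) (.leaf (nat_lit 0x60807050400010203) (nat_lit 514))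
 (.leaf (nat_lit 0x60807050401000302) (nat_lit 515))
))) (.node (nat_lit 0x70608040501000302) (.node (nat_lit 0x60807050403020100) (.leaf (nat_lit 0x60807050402030001) (nat_lit 771))
 (.node (nat_lit 0x70608040500010203) (.leaf (nat_lit 0x60807050403020100) (nat_lit 256))
 (.leaf (nat_lit 0x70608040500010203) (nat_lit 1026))
)) (.node (nat_lit 0x70608040502030001) (.leaf (nat_lit 0x70608040501000302) (nat_lit 1027))
 (.node (nat_lit 0x70608040503020100) (.leaf (nat_lit 0x70608040502030001) (nat_lit 1283))
 (.leaf (nat_lit 0x70608040503020100) (nat_lit 769))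
)))) (.node (nat_lit 0x80706040502030001) (.node (nat_lit 0x70608050403020100) (.node (nat_lit 0x70608050401000302) (.leaf (nat_lit 0x70608050400010203) (nat_lit 770))
 (.node (nat_lit 0x70608050402030001) (.leaf (nat_lit 0x70608050401000302) (nat_lit 771))
 (.leaf (nat_lit 0x70608050402030001) (nat_lit 1027))
)) (.node (nat_lit 0x80706040500010203) (.leaf (nat_lit 0x70608050403020100) (nat_lit 512))
 (.node (nat_lit 0x80706040501000302) (.leaf (nat_lit 0x80706040500010203) (nat_lit 514))
 (.leaf (nat_lit 0x80706040501000302) (nat_lit 515))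
))) (.node (nat_lit 0x80706050401000302) (.node (nat_lit 0x80706040503020100) (.leaf (nat_lit 0x80706040502030001) (nat_lit 771))
 (.node (nat_lit 0x80706050400010203) (.leaf (nat_lit 0x80706040503020100) (nat_lit 257))
 (.leaf (nat_lit 0x80706050400010203) (nat_lit 258))
)) (.node (nat_lit 0x80706050402030001) (.leaf (nat_lit 0x80706050401000302) (nat_lit 259))
 (.node (nat_lit 0x80706050403020100) (.leaf (nat_lit 0x80706050402030001) (nat_lit 515))
 (.leaf (nat_lit 0x80706050403020100) (nat_lit 0))
)))))

theorem V24_ok : genOK A9 [(nat_lit 0x60807050403020100), (nat_lit 0x80706040503020100), (nat_lit 0x80706050400010203), (nat_lit 0x80706050401000302)] V24_t (nat_lit 24) = true := by decide +kernel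

noncomputable def Eq_t : ST :=
(.node (nat_lit 0x80706050100020403) (.node (nat_lit 0x80706020400050103) (.node (nat_lit 0x80706020103050400) (.leaf (nat_lit 0x80706020100050403) (nat_lit 770))
 (.leaf (nat_lit 0x80706020103050400) (nat_lit 514))
) (.node (nat_lit 0x80706020403050100) (.leaf (nat_lit 0x80706020400050103) (nat_lit 514))
 (.leaf (nat_lit 0x80706020403050100) (nat_lit 258))
)) (.node (nat_lit 0x80706050400020103) (.node (nat_lit 0x80706050103020400) (.leaf (nat_lit 0x80706050100020403) (nat_lit 513))
 (.leaf (nat_lit 0x80706050103020400) (nat_lit 257))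
) (.node (nat_lit 0x80706050403020100) (.leaf (nat_lit 0x80706050400020103) (nat_lit 256))
 (.leaf (nat_lit 0x80706050403020100) (nat_lit 0))
)))

theorem Eq_ok : genOK A9 [(nat_lit 0x80706050400020103), (nat_lit 0x80706050103020400), (nat_lit 0x80706020403050100)] Eq_t (nat_lit 8) = true := by decide +kernel

noncomputable def Eq24_t : ST :=
(.node (nat_lit 0x70608050100020403) (.node (nat_lit 0x60807050400020103) (.node (nat_lit 0x60807020403050100) (.node (nat_lit 0x60807020103050400) (.leaf (nat_lit 0x60807020100050403) (nat_lit 1027))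
 (.node (nat_lit 0x60807020400050103) (.leaf (nat_lit 0x60807020103050400) (nat_lit 771))
 (.leaf (nat_lit 0x60807020400050103) (nat_lit 771))
)) (.node (nat_lit 0x60807050100020403) (.leaf (nat_lit 0x60807020403050100) (nat_lit 515))
 (.node (nat_lit 0x60807050103020400) (.leaf (nat_lit 0x60807050100020403) (nat_lit 770))
 (.leaf (nat_lit 0x60807050103020400) (nat_lit 514))
))) (.node (nat_lit 0x70608020103050400) (.node (nat_lit 0x60807050403020100) (.leaf (nat_lit 0x60807050400020103) (nat_lit 513))
 (.node (nat_lit 0x70608020100050403) (.leaf (nat_lit 0x60807050403020100) (nat_lit 256))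
 (.leaf (nat_lit 0x70608020100050403) (nat_lit 1283))
)) (.node (nat_lit 0x70608020400050103) (.leaf (nat_lit 0x70608020103050400) (nat_lit 1027))
 (.node (nat_lit 0x70608020403050100) (.leaf (nat_lit 0x70608020400050103) (nat_lit 1027))
 (.leaf (nat_lit 0x70608020403050100) (nat_lit 771))
)))) (.node (nat_lit 0x80706020400050103) (.node (nat_lit 0x70608050403020100) (.node (nat_lit 0x70608050103020400) (.leaf (nat_lit 0x70608050100020403) (nat_lit 1026))
 (.node (nat_lit 0x70608050400020103) (.leaf (nat_lit 0x70608050103020400) (nat_lit 770))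
 (.leaf (nat_lit 0x70608050400020103) (nat_lit 769))
)) (.node (nat_lit 0x80706020100050403) (.leaf (nat_lit 0x70608050403020100) (nat_lit 512))
 (.node (nat_lit 0x80706020103050400) (.leaf (nat_lit 0x80706020100050403) (nat_lit 771))
 (.leaf (nat_lit 0x80706020103050400) (nat_lit 515))
))) (.node (nat_lit 0x80706050103020400) (.node (nat_lit 0x80706020403050100) (.leaf (nat_lit 0x80706020400050103) (nat_lit 515))
 (.node (nat_lit 0x80706050100020403) (.leaf (nat_lit 0x80706020403050100) (nat_lit 259))
 (.leaf (nat_lit 0x80706050100020403) (nat_lit 514))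
)) (.node (nat_lit 0x80706050400020103) (.leaf (nat_lit 0x80706050103020400) (nat_lit 258))
 (.node (nat_lit 0x80706050403020100) (.leaf (nat_lit 0x80706050400020103) (nat_lit 257))
 (.leaf (nat_lit 0x80706050403020100) (nat_lit 0))
)))))

theorem Eq24_ok : genOK A9 [(nat_lit 0x60807050403020100), (nat_lit 0x80706050400020103), (nat_lit 0x80706050103020400), (nat_lit 0x80706020403050100)] Eq24_t (nat_lit 24) = true := by decide +kernel

noncomputable def Y12_t : ST :=
(.node (nat_lit 0x70608050403010200) (.node (nat_lit 0x60807050403020100) (.node (nat_lit 0x60807040503020100) (.leaf (nat_lit 0x60807040503010200) (nat_lit 770))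
 (.node (nat_lit 0x60807050403010200) (.leaf (nat_lit 0x60807040503020100) (nat_lit 514))
 (.leaf (nat_lit 0x60807050403010200) (nat_lit 513))
)) (.node (nat_lit 0x70608040503010200) (.leaf (nat_lit 0x60807050403020100) (nat_lit 256))
 (.node (nat_lit 0x70608040503020100) (.leaf (nat_lit 0x70608040503010200) (nat_lit 1026))
 (.leaf (nat_lit 0x70608040503020100) (nat_lit 770))
))) (.node (nat_lit 0x80706040503020100) (.node (nat_lit 0x70608050403020100) (.leaf (nat_lit 0x70608050403010200) (nat_lit 769))
 (.node (nat_lit 0x80706040503010200) (.leaf (nat_lit 0x70608050403020100) (nat_lit 512))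
 (.leaf (nat_lit 0x80706040503010200) (nat_lit 514))
)) (.node (nat_lit 0x80706050403010200) (.leaf (nat_lit 0x80706040503020100) (nat_lit 258))
 (.node (nat_lit 0x80706050403020100) (.leaf (nat_lit 0x80706050403010200) (nat_lit 257))
 (.leaf (nat_lit 0x80706050403020100) (nat_lit 0))
))))

theorem Y12_ok : genOK A9 [(nat_lit 0x60807050403020100), (nat_lit 0x80706050403010200), (nat_lit 0x80706040503020100)] Y12_t (nat_lit 12) = true := by decide +kernel

noncomputable def S3a_t : ST :=
(.node (nat_lit 0x80706050403010200) (.node (nat_lit 0x80706050403000201) (.leaf (nat_lit 0x80706050403000102) (nat_lit 513))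
 (.node (nat_lit 0x80706050403010002) (.leaf (nat_lit 0x80706050403000201) (nat_lit 256))
 (.leaf (nat_lit 0x80706050403010002) (nat_lit 512))
)) (.node (nat_lit 0x80706050403020001) (.leaf (nat_lit 0x80706050403010200) (nat_lit 257))
 (.node (nat_lit 0x80706050403020100) (.leaf (nat_lit 0x80706050403020001) (nat_lit 512))
 (.leaf (nat_lit 0x80706050403020100) (nat_lit 0))
)))

theorem S3a_ok : genOK A9 [(nat_lit 0x80706050403000201), (nat_lit 0x80706050403010200)] S3a_t (nat_lit 6) = true := by decide +kernel

noncomputable def Va_t : ST :=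
(.node (nat_lit 0x80706050402030001) (.node (nat_lit 0x80706050401000302) (.leaf (nat_lit 0x80706050400010203) (nat_lit 256))
 (.leaf (nat_lit 0x80706050401000302) (nat_lit 257))
) (.node (nat_lit 0x80706050403020100) (.leaf (nat_lit 0x80706050402030001) (nat_lit 513))
 (.leaf (nat_lit 0x80706050403020100) (nat_lit 0))
))

theorem Va_ok : genOK A9 [(nat_lit 0x80706050400010203), (nat_lit 0x80706050401000302)] Va_t (nat_lit 4) = true := by decide +kernel

noncomputable def F23_t : ST :=
(.node (nat_lit 0x80706040503020100) (.node (nat_lit 0x70806050403020100) (.leaf (nat_lit 0x70806040503020100) (nat_lit 513))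
 (.leaf (nat_lit 0x70806050403020100) (nat_lit 257))
) (.node (nat_lit 0x80706050403020100) (.leaf (nat_lit 0x80706040503020100) (nat_lit 256))
 (.leaf (nat_lit 0x80706050403020100) (nat_lit 0))
))

theorem F23_ok : genOK A9 [(nat_lit 0x80706040503020100), (nat_lit 0x70806050403020100)] F23_t (nat_lit 4) = true := by decide +kernel

noncomputable def nD_t : ST :=
(.node (nat_lit 0x80706050203040100) (.node (nat_lit 0x80706030405020100) (.node (nat_lit 0x80706010403020500) (.leaf (nat_lit 0x80706000403020105) (nat_lit 778))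
 (.node (nat_lit 0x80706020403050100) (.leaf (nat_lit 0x80706010403020500) (nat_lit 771))
 (.leaf (nat_lit 0x80706020403050100) (nat_lit 771))
)) (.node (nat_lit 0x80706050003020104) (.node (nat_lit 0x80706040503020100) (.leaf (nat_lit 0x80706030405020100) (nat_lit 521))
 (.leaf (nat_lit 0x80706040503020100) (nat_lit 265))
) (.node (nat_lit 0x80706050103020400) (.leaf (nat_lit 0x80706050003020104) (nat_lit 778))
 (.leaf (nat_lit 0x80706050103020400) (nat_lit 770))
))) (.node (nat_lit 0x80706050402030100) (.node (nat_lit 0x80706050400020103) (.node (nat_lit 0x80706050304020100) (.leaf (nat_lit 0x80706050203040100) (nat_lit 770))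
 (.leaf (nat_lit 0x80706050304020100) (nat_lit 521))
) (.node (nat_lit 0x80706050401020300) (.leaf (nat_lit 0x80706050400020103) (nat_lit 768))
 (.leaf (nat_lit 0x80706050401020300) (nat_lit 522))
)) (.node (nat_lit 0x80706050403010200) (.node (nat_lit 0x80706050403000102) (.leaf (nat_lit 0x80706050402030100) (nat_lit 522))
 (.leaf (nat_lit 0x80706050403000102) (nat_lit 256))
) (.node (nat_lit 0x80706050403020001) (.leaf (nat_lit 0x80706050403010200) (nat_lit 0))
 (.leaf (nat_lit 0x80706050403020001) (nat_lit 257))
))))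

theorem nD_ok : orbOK A9 [(nat_lit 0x80706050403000201), (nat_lit 0x80706050403010002), (nat_lit 0x80706030504020100), (nat_lit 0x80706040305020100), (nat_lit 0x60807050403020100), (nat_lit 0x70608050403020100), (nat_lit 0x80706050403010200), (nat_lit 0x80706040503020100), (nat_lit 0x70806050403020100), (nat_lit 0x80706020100050403), (nat_lit 0x80706050400020103)] (nat_lit 0x80706050403010200) nD_t (nat_lit 15) = true := by decide +kernel

noncomputable def nD3_t : ST :=
(.node (nat_lit 0x70806050403020100) (.leaf (nat_lit 0x60708050403020100) (nat_lit 260))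
 (.node (nat_lit 0x80607050403020100) (.leaf (nat_lit 0x70806050403020100) (nat_lit 0))
 (.leaf (nat_lit 0x80607050403020100) (nat_lit 261))
))

theorem nD3_ok : orbOK A9 [(nat_lit 0x80706050403000201), (nat_lit 0x80706050403010002), (nat_lit 0x80706030504020100), (nat_lit 0x80706040305020100), (nat_lit 0x60807050403020100), (nat_lit 0x70608050403020100), (nat_lit 0x80706050403010200), (nat_lit 0x80706040503020100), (nat_lit 0x70806050403020100), (nat_lit 0x80706020100050403), (nat_lit 0x80706050400020103)] (nat_lit 0x70806050403020100) nD3_t (nat_lit 3) = true := by decide +kernel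

noncomputable def nE_t : ST :=
(.node (nat_lit 0x80706030405010200) (.node (nat_lit 0x80706010403000502) (.node (nat_lit 0x80706000403010205) (.node (nat_lit 0x80706000304020105) (.node (nat_lit 0x80706000203040105) (.leaf (nat_lit 0x80706000103020405) (nat_lit 1026))
 (.leaf (nat_lit 0x80706000203040105) (nat_lit 1026))
) (.node (nat_lit 0x80706000401020305) (.leaf (nat_lit 0x80706000304020105) (nat_lit 1027))
 (.node (nat_lit 0x80706000402030105) (.leaf (nat_lit 0x80706000401020305) (nat_lit 778))
 (.leaf (nat_lit 0x80706000402030105) (nat_lit 778))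
))) (.node (nat_lit 0x80706010304020500) (.node (nat_lit 0x80706010003020504) (.leaf (nat_lit 0x80706000403010205) (nat_lit 522))
 (.node (nat_lit 0x80706010203040500) (.leaf (nat_lit 0x80706010003020504) (nat_lit 1027))
 (.leaf (nat_lit 0x80706010203040500) (nat_lit 1283))
)) (.node (nat_lit 0x80706010400020503) (.leaf (nat_lit 0x80706010304020500) (nat_lit 771))
 (.node (nat_lit 0x80706010402030500) (.leaf (nat_lit 0x80706010400020503) (nat_lit 1024))
 (.leaf (nat_lit 0x80706010402030500) (nat_lit 1024))
)))) (.node (nat_lit 0x80706020401050300) (.node (nat_lit 0x80706020103050400) (.node (nat_lit 0x80706020003050104) (.leaf (nat_lit 0x80706010403000502) (nat_lit 768))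
 (.leaf (nat_lit 0x80706020003050104) (nat_lit 1027))
) (.node (nat_lit 0x80706020304050100) (.leaf (nat_lit 0x80706020103050400) (nat_lit 1282))
 (.node (nat_lit 0x80706020400050103) (.leaf (nat_lit 0x80706020304050100) (nat_lit 771))
 (.leaf (nat_lit 0x80706020400050103) (nat_lit 1027))
))) (.node (nat_lit 0x80706030105020400) (.node (nat_lit 0x80706020403050001) (.leaf (nat_lit 0x80706020401050300) (nat_lit 1025))
 (.node (nat_lit 0x80706030005020104) (.leaf (nat_lit 0x80706020403050001) (nat_lit 769))
 (.leaf (nat_lit 0x80706030005020104) (nat_lit 1026))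
)) (.node (nat_lit 0x80706030205040100) (.leaf (nat_lit 0x80706030105020400) (nat_lit 770))
 (.node (nat_lit 0x80706030405000102) (.leaf (nat_lit 0x80706030205040100) (nat_lit 770))
 (.leaf (nat_lit 0x80706030405000102) (nat_lit 514))
))))) (.node (nat_lit 0x80706050100020403) (.node (nat_lit 0x80706040503000102) (.node (nat_lit 0x80706040500020103) (.node (nat_lit 0x80706030405020001) (.leaf (nat_lit 0x80706030405010200) (nat_lit 258))
 (.leaf (nat_lit 0x80706030405020001) (nat_lit 514))
) (.node (nat_lit 0x80706040501020300) (.leaf (nat_lit 0x80706040500020103) (nat_lit 768))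
 (.node (nat_lit 0x80706040502030100) (.leaf (nat_lit 0x80706040501020300) (nat_lit 522))
 (.leaf (nat_lit 0x80706040502030100) (nat_lit 522))
))) (.node (nat_lit 0x80706050001020304) (.node (nat_lit 0x80706040503010200) (.leaf (nat_lit 0x80706040503000102) (nat_lit 256))
 (.node (nat_lit 0x80706040503020001) (.leaf (nat_lit 0x80706040503010200) (nat_lit 0))
 (.leaf (nat_lit 0x80706040503020001) (nat_lit 257))
)) (.node (nat_lit 0x80706050002030104) (.leaf (nat_lit 0x80706050001020304) (nat_lit 778))
 (.node (nat_lit 0x80706050003010204) (.leaf (nat_lit 0x80706050002030104) (nat_lit 778))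
 (.leaf (nat_lit 0x80706050003010204) (nat_lit 522))
)))) (.node (nat_lit 0x80706050304000102) (.node (nat_lit 0x80706050200040103) (.node (nat_lit 0x80706050102030400) (.leaf (nat_lit 0x80706050100020403) (nat_lit 1024))
 (.node (nat_lit 0x80706050103000402) (.leaf (nat_lit 0x80706050102030400) (nat_lit 1024))
 (.leaf (nat_lit 0x80706050103000402) (nat_lit 768))
)) (.node (nat_lit 0x80706050201040300) (.leaf (nat_lit 0x80706050200040103) (nat_lit 1026))
 (.node (nat_lit 0x80706050203040001) (.leaf (nat_lit 0x80706050201040300) (nat_lit 1025))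
 (.leaf (nat_lit 0x80706050203040001) (nat_lit 769))
))) (.node (nat_lit 0x80706050400010203) (.node (nat_lit 0x80706050304010200) (.leaf (nat_lit 0x80706050304000102) (nat_lit 515))
 (.node (nat_lit 0x80706050304020001) (.leaf (nat_lit 0x80706050304010200) (nat_lit 259))
 (.leaf (nat_lit 0x80706050304020001) (nat_lit 515))
)) (.node (nat_lit 0x80706050401000302) (.leaf (nat_lit 0x80706050400010203) (nat_lit 770))
 (.node (nat_lit 0x80706050402030001) (.leaf (nat_lit 0x80706050401000302) (nat_lit 1026))
 (.leaf (nat_lit 0x80706050402030001) (nat_lit 1026))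
))))))

theorem nE_ok : orbOK A9 [(nat_lit 0x80706050403000201), (nat_lit 0x80706050403010002), (nat_lit 0x80706030504020100), (nat_lit 0x80706040305020100), (nat_lit 0x60807050403020100), (nat_lit 0x70608050403020100), (nat_lit 0x80706050403010200), (nat_lit 0x80706040503020100), (nat_lit 0x70806050403020100), (nat_lit 0x80706020100050403), (nat_lit 0x80706050400020103)] (nat_lit 0x80706040503010200) nE_t (nat_lit 45) = true := by decide +kernel

noncomputable def nE3_t : ST :=
(.node (nat_lit 0x70806050203040100) (.node (nat_lit 0x60708050402030100) (.node (nat_lit 0x60708050003020104) (.node (nat_lit 0x60708020403050100) (.node (nat_lit 0x60708010403020500) (.leaf (nat_lit 0x60708000403020105) (nat_lit 1034))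
 (.leaf (nat_lit 0x60708010403020500) (nat_lit 1027))
) (.node (nat_lit 0x60708030405020100) (.leaf (nat_lit 0x60708020403050100) (nat_lit 1027))
 (.node (nat_lit 0x60708040503020100) (.leaf (nat_lit 0x60708030405020100) (nat_lit 777))
 (.leaf (nat_lit 0x60708040503020100) (nat_lit 521))
))) (.node (nat_lit 0x60708050304020100) (.node (nat_lit 0x60708050103020400) (.leaf (nat_lit 0x60708050003020104) (nat_lit 1034))
 (.node (nat_lit 0x60708050203040100) (.leaf (nat_lit 0x60708050103020400) (nat_lit 1026))
 (.leaf (nat_lit 0x60708050203040100) (nat_lit 1026))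
)) (.node (nat_lit 0x60708050400020103) (.leaf (nat_lit 0x60708050304020100) (nat_lit 777))
 (.node (nat_lit 0x60708050401020300) (.leaf (nat_lit 0x60708050400020103) (nat_lit 1024))
 (.leaf (nat_lit 0x60708050401020300) (nat_lit 778))
)))) (.node (nat_lit 0x70806010403020500) (.node (nat_lit 0x60708050403010200) (.node (nat_lit 0x60708050403000102) (.leaf (nat_lit 0x60708050402030100) (nat_lit 778))
 (.leaf (nat_lit 0x60708050403000102) (nat_lit 516))
) (.node (nat_lit 0x60708050403020001) (.leaf (nat_lit 0x60708050403010200) (nat_lit 260))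
 (.node (nat_lit 0x70806000403020105) (.leaf (nat_lit 0x60708050403020001) (nat_lit 516))
 (.leaf (nat_lit 0x70806000403020105) (nat_lit 778))
))) (.node (nat_lit 0x70806040503020100) (.node (nat_lit 0x70806020403050100) (.leaf (nat_lit 0x70806010403020500) (nat_lit 771))
 (.node (nat_lit 0x70806030405020100) (.leaf (nat_lit 0x70806020403050100) (nat_lit 771))
 (.leaf (nat_lit 0x70806030405020100) (nat_lit 521))
)) (.node (nat_lit 0x70806050003020104) (.leaf (nat_lit 0x70806040503020100) (nat_lit 265))
 (.node (nat_lit 0x70806050103020400) (.leaf (nat_lit 0x70806050003020104) (nat_lit 778))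
 (.leaf (nat_lit 0x70806050103020400) (nat_lit 770))
))))) (.node (nat_lit 0x80607030405020100) (.node (nat_lit 0x70806050403000102) (.node (nat_lit 0x70806050400020103) (.node (nat_lit 0x70806050304020100) (.leaf (nat_lit 0x70806050203040100) (nat_lit 770))
 (.leaf (nat_lit 0x70806050304020100) (nat_lit 521))
) (.node (nat_lit 0x70806050401020300) (.leaf (nat_lit 0x70806050400020103) (nat_lit 768))
 (.node (nat_lit 0x70806050402030100) (.leaf (nat_lit 0x70806050401020300) (nat_lit 522))
 (.leaf (nat_lit 0x70806050402030100) (nat_lit 522))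
))) (.node (nat_lit 0x80607000403020105) (.node (nat_lit 0x70806050403010200) (.leaf (nat_lit 0x70806050403000102) (nat_lit 256))
 (.node (nat_lit 0x70806050403020001) (.leaf (nat_lit 0x70806050403010200) (nat_lit 0))
 (.leaf (nat_lit 0x70806050403020001) (nat_lit 257))
)) (.node (nat_lit 0x80607010403020500) (.leaf (nat_lit 0x80607000403020105) (nat_lit 1034))
 (.node (nat_lit 0x80607020403050100) (.leaf (nat_lit 0x80607010403020500) (nat_lit 1027))
 (.leaf (nat_lit 0x80607020403050100) (nat_lit 1027))
)))) (.node (nat_lit 0x80607050400020103) (.node (nat_lit 0x80607050103020400) (.node (nat_lit 0x80607040503020100) (.leaf (nat_lit 0x80607030405020100) (nat_lit 777))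
 (.node (nat_lit 0x80607050003020104) (.leaf (nat_lit 0x80607040503020100) (nat_lit 521))
 (.leaf (nat_lit 0x80607050003020104) (nat_lit 1034))
)) (.node (nat_lit 0x80607050203040100) (.leaf (nat_lit 0x80607050103020400) (nat_lit 1026))
 (.node (nat_lit 0x80607050304020100) (.leaf (nat_lit 0x80607050203040100) (nat_lit 1026))
 (.leaf (nat_lit 0x80607050304020100) (nat_lit 777))
))) (.node (nat_lit 0x80607050403000102) (.node (nat_lit 0x80607050401020300) (.leaf (nat_lit 0x80607050400020103) (nat_lit 1024))
 (.node (nat_lit 0x80607050402030100) (.leaf (nat_lit 0x80607050401020300) (nat_lit 778))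
 (.leaf (nat_lit 0x80607050402030100) (nat_lit 778))
)) (.node (nat_lit 0x80607050403010200) (.leaf (nat_lit 0x80607050403000102) (nat_lit 517))
 (.node (nat_lit 0x80607050403020001) (.leaf (nat_lit 0x80607050403010200) (nat_lit 261))
 (.leaf (nat_lit 0x80607050403020001) (nat_lit 517))
))))))

theorem nE3_ok : orbOK A9 [(nat_lit 0x80706050403000201), (nat_lit 0x80706050403010002), (nat_lit 0x80706030504020100), (nat_lit 0x80706040305020100), (nat_lit 0x60807050403020100), (nat_lit 0x70608050403020100), (nat_lit 0x80706050403010200), (nat_lit 0x80706040503020100), (nat_lit 0x70806050403020100), (nat_lit 0x80706020100050403), (nat_lit 0x80706050400020103)] (nat_lit 0x70806050403010200) nE3_t (nat_lit 45) = true := by decide +kernel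

noncomputable def nT_t : ST :=
(.node (nat_lit 0x80706020100050403) (.node (nat_lit 0x80706010002030504) (.node (nat_lit 0x80706000201040305) (.leaf (nat_lit 0x80706000102030405) (nat_lit 518))
 (.node (nat_lit 0x80706000304010205) (.leaf (nat_lit 0x80706000201040305) (nat_lit 256))
 (.leaf (nat_lit 0x80706000304010205) (nat_lit 769))
)) (.node (nat_lit 0x80706010304000502) (.node (nat_lit 0x80706010200040503) (.leaf (nat_lit 0x80706010002030504) (nat_lit 257))
 (.leaf (nat_lit 0x80706010200040503) (nat_lit 262))
) (.node (nat_lit 0x80706020001050304) (.leaf (nat_lit 0x80706010304000502) (nat_lit 522))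
 (.leaf (nat_lit 0x80706020001050304) (nat_lit 519))
))) (.node (nat_lit 0x80706030205040001) (.node (nat_lit 0x80706030005010204) (.node (nat_lit 0x80706020304050001) (.leaf (nat_lit 0x80706020100050403) (nat_lit 0))
 (.leaf (nat_lit 0x80706020304050001) (nat_lit 778))
) (.node (nat_lit 0x80706030105000402) (.leaf (nat_lit 0x80706030005010204) (nat_lit 768))
 (.leaf (nat_lit 0x80706030105000402) (nat_lit 778))
)) (.node (nat_lit 0x80706040501000302) (.node (nat_lit 0x80706040500010203) (.leaf (nat_lit 0x80706030205040001) (nat_lit 522))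
 (.leaf (nat_lit 0x80706040500010203) (nat_lit 1027))
) (.node (nat_lit 0x80706040502030001) (.leaf (nat_lit 0x80706040501000302) (nat_lit 770))
 (.leaf (nat_lit 0x80706040502030001) (nat_lit 771))
))))

theorem nT_ok : orbOK A9 [(nat_lit 0x80706050403000201), (nat_lit 0x80706050403010002), (nat_lit 0x80706030504020100), (nat_lit 0x80706040305020100), (nat_lit 0x60807050403020100), (nat_lit 0x70608050403020100), (nat_lit 0x80706050403010200), (nat_lit 0x80706040503020100), (nat_lit 0x70806050403020100), (nat_lit 0x80706020100050403), (nat_lit 0x80706050400020103)] (nat_lit 0x80706020100050403) nT_t (nat_lit 15) = true := by decide +kernel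

noncomputable def nW_t : ST :=
(.node (nat_lit 0x70806030405010200) (.node (nat_lit 0x60708050100020403) (.node (nat_lit 0x60708020401050300) (.node (nat_lit 0x60708010304020500) (.node (nat_lit 0x60708000402030105) (.node (nat_lit 0x60708000304020105) (.node (nat_lit 0x60708000203040105) (.leaf (nat_lit 0x60708000103020405) (nat_lit 1282))
 (.leaf (nat_lit 0x60708000203040105) (nat_lit 1282))
) (.node (nat_lit 0x60708000401020305) (.leaf (nat_lit 0x60708000304020105) (nat_lit 1283))
 (.leaf (nat_lit 0x60708000401020305) (nat_lit 1034))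
)) (.node (nat_lit 0x60708010003020504) (.node (nat_lit 0x60708000403010205) (.leaf (nat_lit 0x60708000402030105) (nat_lit 1034))
 (.leaf (nat_lit 0x60708000403010205) (nat_lit 778))
) (.node (nat_lit 0x60708010203040500) (.leaf (nat_lit 0x60708010003020504) (nat_lit 1283))
 (.leaf (nat_lit 0x60708010203040500) (nat_lit 1539))
))) (.node (nat_lit 0x60708020003050104) (.node (nat_lit 0x60708010402030500) (.node (nat_lit 0x60708010400020503) (.leaf (nat_lit 0x60708010304020500) (nat_lit 1027))
 (.leaf (nat_lit 0x60708010400020503) (nat_lit 1280))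
) (.node (nat_lit 0x60708010403000502) (.leaf (nat_lit 0x60708010402030500) (nat_lit 1280))
 (.leaf (nat_lit 0x60708010403000502) (nat_lit 1024))
)) (.node (nat_lit 0x60708020304050100) (.node (nat_lit 0x60708020103050400) (.leaf (nat_lit 0x60708020003050104) (nat_lit 1283))
 (.leaf (nat_lit 0x60708020103050400) (nat_lit 1538))
) (.node (nat_lit 0x60708020400050103) (.leaf (nat_lit 0x60708020304050100) (nat_lit 1027))
 (.leaf (nat_lit 0x60708020400050103) (nat_lit 1283))
)))) (.node (nat_lit 0x60708040500020103) (.node (nat_lit 0x60708030205040100) (.node (nat_lit 0x60708030005020104) (.node (nat_lit 0x60708020403050001) (.leaf (nat_lit 0x60708020401050300) (nat_lit 1281))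
 (.leaf (nat_lit 0x60708020403050001) (nat_lit 1025))
) (.node (nat_lit 0x60708030105020400) (.leaf (nat_lit 0x60708030005020104) (nat_lit 1282))
 (.leaf (nat_lit 0x60708030105020400) (nat_lit 1026))
)) (.node (nat_lit 0x60708030405010200) (.node (nat_lit 0x60708030405000102) (.leaf (nat_lit 0x60708030205040100) (nat_lit 1026))
 (.leaf (nat_lit 0x60708030405000102) (nat_lit 772))
) (.node (nat_lit 0x60708030405020001) (.leaf (nat_lit 0x60708030405010200) (nat_lit 516))
 (.leaf (nat_lit 0x60708030405020001) (nat_lit 772))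
))) (.node (nat_lit 0x60708040503010200) (.node (nat_lit 0x60708040502030100) (.node (nat_lit 0x60708040501020300) (.leaf (nat_lit 0x60708040500020103) (nat_lit 1024))
 (.leaf (nat_lit 0x60708040501020300) (nat_lit 778))
) (.node (nat_lit 0x60708040503000102) (.leaf (nat_lit 0x60708040502030100) (nat_lit 778))
 (.leaf (nat_lit 0x60708040503000102) (nat_lit 516))
)) (.node (nat_lit 0x60708050001020304) (.node (nat_lit 0x60708040503020001) (.leaf (nat_lit 0x60708040503010200) (nat_lit 260))
 (.leaf (nat_lit 0x60708040503020001) (nat_lit 516))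
) (.node (nat_lit 0x60708050002030104) (.leaf (nat_lit 0x60708050001020304) (nat_lit 1034))
 (.node (nat_lit 0x60708050003010204) (.leaf (nat_lit 0x60708050002030104) (nat_lit 1034))
 (.leaf (nat_lit 0x60708050003010204) (nat_lit 778))
)))))) (.node (nat_lit 0x70806000403010205) (.node (nat_lit 0x60708050304020001) (.node (nat_lit 0x60708050201040300) (.node (nat_lit 0x60708050103000402) (.node (nat_lit 0x60708050102030400) (.leaf (nat_lit 0x60708050100020403) (nat_lit 1280))
 (.leaf (nat_lit 0x60708050102030400) (nat_lit 1280))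
) (.node (nat_lit 0x60708050200040103) (.leaf (nat_lit 0x60708050103000402) (nat_lit 1024))
 (.leaf (nat_lit 0x60708050200040103) (nat_lit 1282))
)) (.node (nat_lit 0x60708050304000102) (.node (nat_lit 0x60708050203040001) (.leaf (nat_lit 0x60708050201040300) (nat_lit 1281))
 (.leaf (nat_lit 0x60708050203040001) (nat_lit 1025))
) (.node (nat_lit 0x60708050304010200) (.leaf (nat_lit 0x60708050304000102) (nat_lit 772))
 (.leaf (nat_lit 0x60708050304010200) (nat_lit 516))
))) (.node (nat_lit 0x70806000103020405) (.node (nat_lit 0x60708050401000302) (.node (nat_lit 0x60708050400010203) (.leaf (nat_lit 0x60708050304020001) (nat_lit 772))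
 (.leaf (nat_lit 0x60708050400010203) (nat_lit 1026))
) (.node (nat_lit 0x60708050402030001) (.leaf (nat_lit 0x60708050401000302) (nat_lit 1282))
 (.leaf (nat_lit 0x60708050402030001) (nat_lit 1282))
)) (.node (nat_lit 0x70806000304020105) (.node (nat_lit 0x70806000203040105) (.leaf (nat_lit 0x70806000103020405) (nat_lit 1026))
 (.leaf (nat_lit 0x70806000203040105) (nat_lit 1026))
) (.node (nat_lit 0x70806000401020305) (.leaf (nat_lit 0x70806000304020105) (nat_lit 1027))
 (.node (nat_lit 0x70806000402030105) (.leaf (nat_lit 0x70806000401020305) (nat_lit 778))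
 (.leaf (nat_lit 0x70806000402030105) (nat_lit 778))
))))) (.node (nat_lit 0x70806020103050400) (.node (nat_lit 0x70806010400020503) (.node (nat_lit 0x70806010203040500) (.node (nat_lit 0x70806010003020504) (.leaf (nat_lit 0x70806000403010205) (nat_lit 522))
 (.leaf (nat_lit 0x70806010003020504) (nat_lit 1027))
) (.node (nat_lit 0x70806010304020500) (.leaf (nat_lit 0x70806010203040500) (nat_lit 1283))
 (.leaf (nat_lit 0x70806010304020500) (nat_lit 771))
)) (.node (nat_lit 0x70806010403000502) (.node (nat_lit 0x70806010402030500) (.leaf (nat_lit 0x70806010400020503) (nat_lit 1024))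
 (.leaf (nat_lit 0x70806010402030500) (nat_lit 1024))
) (.node (nat_lit 0x70806020003050104) (.leaf (nat_lit 0x70806010403000502) (nat_lit 768))
 (.leaf (nat_lit 0x70806020003050104) (nat_lit 1027))
))) (.node (nat_lit 0x70806020403050001) (.node (nat_lit 0x70806020400050103) (.node (nat_lit 0x70806020304050100) (.leaf (nat_lit 0x70806020103050400) (nat_lit 1282))
 (.leaf (nat_lit 0x70806020304050100) (nat_lit 771))
) (.node (nat_lit 0x70806020401050300) (.leaf (nat_lit 0x70806020400050103) (nat_lit 1027))
 (.leaf (nat_lit 0x70806020401050300) (nat_lit 1025))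
)) (.node (nat_lit 0x70806030105020400) (.node (nat_lit 0x70806030005020104) (.leaf (nat_lit 0x70806020403050001) (nat_lit 769))
 (.leaf (nat_lit 0x70806030005020104) (nat_lit 1026))
) (.node (nat_lit 0x70806030205040100) (.leaf (nat_lit 0x70806030105020400) (nat_lit 770))
 (.node (nat_lit 0x70806030405000102) (.leaf (nat_lit 0x70806030205040100) (nat_lit 770))
 (.leaf (nat_lit 0x70806030405000102) (nat_lit 514))
))))))) (.node (nat_lit 0x80607010403000502) (.node (nat_lit 0x70806050304000102) (.node (nat_lit 0x70806050001020304) (.node (nat_lit 0x70806040502030100) (.node (nat_lit 0x70806040500020103) (.node (nat_lit 0x70806030405020001) (.leaf (nat_lit 0x70806030405010200) (nat_lit 258))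
 (.leaf (nat_lit 0x70806030405020001) (nat_lit 514))
) (.node (nat_lit 0x70806040501020300) (.leaf (nat_lit 0x70806040500020103) (nat_lit 768))
 (.leaf (nat_lit 0x70806040501020300) (nat_lit 522))
)) (.node (nat_lit 0x70806040503010200) (.node (nat_lit 0x70806040503000102) (.leaf (nat_lit 0x70806040502030100) (nat_lit 522))
 (.leaf (nat_lit 0x70806040503000102) (nat_lit 256))
) (.node (nat_lit 0x70806040503020001) (.leaf (nat_lit 0x70806040503010200) (nat_lit 0))
 (.leaf (nat_lit 0x70806040503020001) (nat_lit 257))
))) (.node (nat_lit 0x70806050102030400) (.node (nat_lit 0x70806050003010204) (.node (nat_lit 0x70806050002030104) (.leaf (nat_lit 0x70806050001020304) (nat_lit 778))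
 (.leaf (nat_lit 0x70806050002030104) (nat_lit 778))
) (.node (nat_lit 0x70806050100020403) (.leaf (nat_lit 0x70806050003010204) (nat_lit 522))
 (.leaf (nat_lit 0x70806050100020403) (nat_lit 1024))
)) (.node (nat_lit 0x70806050200040103) (.node (nat_lit 0x70806050103000402) (.leaf (nat_lit 0x70806050102030400) (nat_lit 1024))
 (.leaf (nat_lit 0x70806050103000402) (nat_lit 768))
) (.node (nat_lit 0x70806050201040300) (.leaf (nat_lit 0x70806050200040103) (nat_lit 1026))
 (.node (nat_lit 0x70806050203040001) (.leaf (nat_lit 0x70806050201040300) (nat_lit 1025))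
 (.leaf (nat_lit 0x70806050203040001) (nat_lit 769))
))))) (.node (nat_lit 0x80607000304020105) (.node (nat_lit 0x70806050401000302) (.node (nat_lit 0x70806050304020001) (.node (nat_lit 0x70806050304010200) (.leaf (nat_lit 0x70806050304000102) (nat_lit 515))
 (.leaf (nat_lit 0x70806050304010200) (nat_lit 259))
) (.node (nat_lit 0x70806050400010203) (.leaf (nat_lit 0x70806050304020001) (nat_lit 515))
 (.leaf (nat_lit 0x70806050400010203) (nat_lit 770))
)) (.node (nat_lit 0x80607000103020405) (.node (nat_lit 0x70806050402030001) (.leaf (nat_lit 0x70806050401000302) (nat_lit 1026))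
 (.leaf (nat_lit 0x70806050402030001) (nat_lit 1026))
) (.node (nat_lit 0x80607000203040105) (.leaf (nat_lit 0x80607000103020405) (nat_lit 1282))
 (.leaf (nat_lit 0x80607000203040105) (nat_lit 1282))
))) (.node (nat_lit 0x80607010003020504) (.node (nat_lit 0x80607000402030105) (.node (nat_lit 0x80607000401020305) (.leaf (nat_lit 0x80607000304020105) (nat_lit 1283))
 (.leaf (nat_lit 0x80607000401020305) (nat_lit 1034))
) (.node (nat_lit 0x80607000403010205) (.leaf (nat_lit 0x80607000402030105) (nat_lit 1034))
 (.leaf (nat_lit 0x80607000403010205) (nat_lit 778))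
)) (.node (nat_lit 0x80607010304020500) (.node (nat_lit 0x80607010203040500) (.leaf (nat_lit 0x80607010003020504) (nat_lit 1283))
 (.leaf (nat_lit 0x80607010203040500) (nat_lit 1539))
) (.node (nat_lit 0x80607010400020503) (.leaf (nat_lit 0x80607010304020500) (nat_lit 1027))
 (.node (nat_lit 0x80607010402030500) (.leaf (nat_lit 0x80607010400020503) (nat_lit 1280))
 (.leaf (nat_lit 0x80607010402030500) (nat_lit 1280))
)))))) (.node (nat_lit 0x80607040503010200) (.node (nat_lit 0x80607030105020400) (.node (nat_lit 0x80607020400050103) (.node (nat_lit 0x80607020103050400) (.node (nat_lit 0x80607020003050104) (.leaf (nat_lit 0x80607010403000502) (nat_lit 1024))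
 (.leaf (nat_lit 0x80607020003050104) (nat_lit 1283))
) (.node (nat_lit 0x80607020304050100) (.leaf (nat_lit 0x80607020103050400) (nat_lit 1538))
 (.leaf (nat_lit 0x80607020304050100) (nat_lit 1027))
)) (.node (nat_lit 0x80607020403050001) (.node (nat_lit 0x80607020401050300) (.leaf (nat_lit 0x80607020400050103) (nat_lit 1283))
 (.leaf (nat_lit 0x80607020401050300) (nat_lit 1281))
) (.node (nat_lit 0x80607030005020104) (.leaf (nat_lit 0x80607020403050001) (nat_lit 1025))
 (.leaf (nat_lit 0x80607030005020104) (nat_lit 1282))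
))) (.node (nat_lit 0x80607030405020001) (.node (nat_lit 0x80607030405000102) (.node (nat_lit 0x80607030205040100) (.leaf (nat_lit 0x80607030105020400) (nat_lit 1026))
 (.leaf (nat_lit 0x80607030205040100) (nat_lit 1026))
) (.node (nat_lit 0x80607030405010200) (.leaf (nat_lit 0x80607030405000102) (nat_lit 773))
 (.leaf (nat_lit 0x80607030405010200) (nat_lit 517))
)) (.node (nat_lit 0x80607040501020300) (.node (nat_lit 0x80607040500020103) (.leaf (nat_lit 0x80607030405020001) (nat_lit 773))
 (.leaf (nat_lit 0x80607040500020103) (nat_lit 1024))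
) (.node (nat_lit 0x80607040502030100) (.leaf (nat_lit 0x80607040501020300) (nat_lit 778))
 (.node (nat_lit 0x80607040503000102) (.leaf (nat_lit 0x80607040502030100) (nat_lit 778))
 (.leaf (nat_lit 0x80607040503000102) (nat_lit 517))
))))) (.node (nat_lit 0x80607050200040103) (.node (nat_lit 0x80607050003010204) (.node (nat_lit 0x80607050001020304) (.node (nat_lit 0x80607040503020001) (.leaf (nat_lit 0x80607040503010200) (nat_lit 261))
 (.leaf (nat_lit 0x80607040503020001) (nat_lit 517))
) (.node (nat_lit 0x80607050002030104) (.leaf (nat_lit 0x80607050001020304) (nat_lit 1034))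
 (.leaf (nat_lit 0x80607050002030104) (nat_lit 1034))
)) (.node (nat_lit 0x80607050102030400) (.node (nat_lit 0x80607050100020403) (.leaf (nat_lit 0x80607050003010204) (nat_lit 778))
 (.leaf (nat_lit 0x80607050100020403) (nat_lit 1280))
) (.node (nat_lit 0x80607050103000402) (.leaf (nat_lit 0x80607050102030400) (nat_lit 1280))
 (.leaf (nat_lit 0x80607050103000402) (nat_lit 1024))
))) (.node (nat_lit 0x80607050304010200) (.node (nat_lit 0x80607050203040001) (.node (nat_lit 0x80607050201040300) (.leaf (nat_lit 0x80607050200040103) (nat_lit 1282))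
 (.leaf (nat_lit 0x80607050201040300) (nat_lit 1281))
) (.node (nat_lit 0x80607050304000102) (.leaf (nat_lit 0x80607050203040001) (nat_lit 1025))
 (.leaf (nat_lit 0x80607050304000102) (nat_lit 773))
)) (.node (nat_lit 0x80607050400010203) (.node (nat_lit 0x80607050304020001) (.leaf (nat_lit 0x80607050304010200) (nat_lit 517))
 (.leaf (nat_lit 0x80607050304020001) (nat_lit 773))
) (.node (nat_lit 0x80607050401000302) (.leaf (nat_lit 0x80607050400010203) (nat_lit 1026))
 (.node (nat_lit 0x80607050402030001) (.leaf (nat_lit 0x80607050401000302) (nat_lit 1282))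
 (.leaf (nat_lit 0x80607050402030001) (nat_lit 1282))
))))))))

theorem nW_ok : orbOK A9 [(nat_lit 0x80706050403000201), (nat_lit 0x80706050403010002), (nat_lit 0x80706030504020100), (nat_lit 0x80706040305020100), (nat_lit 0x60807050403020100), (nat_lit 0x70608050403020100), (nat_lit 0x80706050403010200), (nat_lit 0x80706040503020100), (nat_lit 0x70806050403020100), (nat_lit 0x80706020100050403), (nat_lit 0x80706050400020103)] (nat_lit 0x70806040503010200) nW_t (nat_lit 135) = true := by decide +kernel

noncomputable def nO_t : ST :=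
(.node (nat_lit 0x70806020100050403) (.node (nat_lit 0x60708030205040001) (.node (nat_lit 0x60708010304000502) (.node (nat_lit 0x60708000304010205) (.node (nat_lit 0x60708000201040305) (.leaf (nat_lit 0x60708000102030405) (nat_lit 774))
 (.leaf (nat_lit 0x60708000201040305) (nat_lit 516))
) (.node (nat_lit 0x60708010002030504) (.leaf (nat_lit 0x60708000304010205) (nat_lit 1025))
 (.node (nat_lit 0x60708010200040503) (.leaf (nat_lit 0x60708010002030504) (nat_lit 516))
 (.leaf (nat_lit 0x60708010200040503) (nat_lit 518))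
))) (.node (nat_lit 0x60708020304050001) (.node (nat_lit 0x60708020001050304) (.leaf (nat_lit 0x60708010304000502) (nat_lit 778))
 (.node (nat_lit 0x60708020100050403) (.leaf (nat_lit 0x60708020001050304) (nat_lit 775))
 (.leaf (nat_lit 0x60708020100050403) (nat_lit 260))
)) (.node (nat_lit 0x60708030005010204) (.leaf (nat_lit 0x60708020304050001) (nat_lit 1034))
 (.node (nat_lit 0x60708030105000402) (.leaf (nat_lit 0x60708030005010204) (nat_lit 1024))
 (.leaf (nat_lit 0x60708030105000402) (nat_lit 1034))
)))) (.node (nat_lit 0x70806000201040305) (.node (nat_lit 0x60708040501000302) (.node (nat_lit 0x60708040500010203) (.leaf (nat_lit 0x60708030205040001) (nat_lit 778))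
 (.leaf (nat_lit 0x60708040500010203) (nat_lit 1283))
) (.node (nat_lit 0x60708040502030001) (.leaf (nat_lit 0x60708040501000302) (nat_lit 1026))
 (.node (nat_lit 0x70806000102030405) (.leaf (nat_lit 0x60708040502030001) (nat_lit 1027))
 (.leaf (nat_lit 0x70806000102030405) (nat_lit 518))
))) (.node (nat_lit 0x70806010200040503) (.node (nat_lit 0x70806000304010205) (.leaf (nat_lit 0x70806000201040305) (nat_lit 256))
 (.node (nat_lit 0x70806010002030504) (.leaf (nat_lit 0x70806000304010205) (nat_lit 769))
 (.leaf (nat_lit 0x70806010002030504) (nat_lit 257))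
)) (.node (nat_lit 0x70806010304000502) (.leaf (nat_lit 0x70806010200040503) (nat_lit 262))
 (.node (nat_lit 0x70806020001050304) (.leaf (nat_lit 0x70806010304000502) (nat_lit 522))
 (.leaf (nat_lit 0x70806020001050304) (nat_lit 519))
))))) (.node (nat_lit 0x80607010002030504) (.node (nat_lit 0x70806040500010203) (.node (nat_lit 0x70806030005010204) (.node (nat_lit 0x70806020304050001) (.leaf (nat_lit 0x70806020100050403) (nat_lit 0))
 (.leaf (nat_lit 0x70806020304050001) (nat_lit 778))
) (.node (nat_lit 0x70806030105000402) (.leaf (nat_lit 0x70806030005010204) (nat_lit 768))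
 (.node (nat_lit 0x70806030205040001) (.leaf (nat_lit 0x70806030105000402) (nat_lit 778))
 (.leaf (nat_lit 0x70806030205040001) (nat_lit 522))
))) (.node (nat_lit 0x80607000102030405) (.node (nat_lit 0x70806040501000302) (.leaf (nat_lit 0x70806040500010203) (nat_lit 1027))
 (.node (nat_lit 0x70806040502030001) (.leaf (nat_lit 0x70806040501000302) (nat_lit 770))
 (.leaf (nat_lit 0x70806040502030001) (nat_lit 771))
)) (.node (nat_lit 0x80607000201040305) (.leaf (nat_lit 0x80607000102030405) (nat_lit 774))
 (.node (nat_lit 0x80607000304010205) (.leaf (nat_lit 0x80607000201040305) (nat_lit 517))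
 (.leaf (nat_lit 0x80607000304010205) (nat_lit 1025))
)))) (.node (nat_lit 0x80607030005010204) (.node (nat_lit 0x80607020001050304) (.node (nat_lit 0x80607010200040503) (.leaf (nat_lit 0x80607010002030504) (nat_lit 517))
 (.node (nat_lit 0x80607010304000502) (.leaf (nat_lit 0x80607010200040503) (nat_lit 518))
 (.leaf (nat_lit 0x80607010304000502) (nat_lit 778))
)) (.node (nat_lit 0x80607020100050403) (.leaf (nat_lit 0x80607020001050304) (nat_lit 775))
 (.node (nat_lit 0x80607020304050001) (.leaf (nat_lit 0x80607020100050403) (nat_lit 261))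
 (.leaf (nat_lit 0x80607020304050001) (nat_lit 1034))
))) (.node (nat_lit 0x80607040500010203) (.node (nat_lit 0x80607030105000402) (.leaf (nat_lit 0x80607030005010204) (nat_lit 1024))
 (.node (nat_lit 0x80607030205040001) (.leaf (nat_lit 0x80607030105000402) (nat_lit 1034))
 (.leaf (nat_lit 0x80607030205040001) (nat_lit 778))
)) (.node (nat_lit 0x80607040501000302) (.leaf (nat_lit 0x80607040500010203) (nat_lit 1283))
 (.node (nat_lit 0x80607040502030001) (.leaf (nat_lit 0x80607040501000302) (nat_lit 1026))
 (.leaf (nat_lit 0x80607040502030001) (nat_lit 1027))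
))))))

theorem nO_ok : orbOK A9 [(nat_lit 0x80706050403000201), (nat_lit 0x80706050403010002), (nat_lit 0x80706030504020100), (nat_lit 0x80706040305020100), (nat_lit 0x60807050403020100), (nat_lit 0x70608050403020100), (nat_lit 0x80706050403010200), (nat_lit 0x80706040503020100), (nat_lit 0x70806050403020100), (nat_lit 0x80706020100050403), (nat_lit 0x80706050400020103)] (nat_lit 0x70806020100050403) nO_t (nat_lit 45) = true := by decide +kernel

/-- Packed permutations of 6 points. -/
noncomputable def P6 : Ar := permAr (nat_lit 6) (nat_lit 0x50403020100)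

theorem P6_ok : oneOK (nat_lit 6) (nat_lit 0x50403020100) = true := by decide +kernel

noncomputable def c6 : List ℕ := [(nat_lit 0x50403020001), (nat_lit 0x504030201), (nat_lit 0x50403000201), (nat_lit 0x30504000201)]

theorem c6_ok : allL c6 (permOK 6) = true := by decide +kernel

noncomputable def Sy6_t : ST :=
(.node (nat_lit 0x30001020405) (.node (nat_lit 0x10304000205) (.node (nat_lit 0x405010203) (.node (nat_lit 0x205030401) (.node (nat_lit 0x105040203) (.node (nat_lit 0x103050402) (.node (nat_lit 0x102050403) (.node (nat_lit 0x102040305) (.node (nat_lit 0x102030504) (.leaf (nat_lit 0x102030405) (nat_lit 3841))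
 (.leaf (nat_lit 0x102030504) (nat_lit 3585))
) (.node (nat_lit 0x102040503) (.leaf (nat_lit 0x102040305) (nat_lit 3072))
 (.node (nat_lit 0x102050304) (.leaf (nat_lit 0x102040503) (nat_lit 3328))
 (.leaf (nat_lit 0x102050304) (nat_lit 3329))
))) (.node (nat_lit 0x103040205) (.node (nat_lit 0x103020405) (.leaf (nat_lit 0x102050403) (nat_lit 3073))
 (.node (nat_lit 0x103020504) (.leaf (nat_lit 0x103020405) (nat_lit 4097))
 (.leaf (nat_lit 0x103020504) (nat_lit 3841))
)) (.node (nat_lit 0x103040502) (.leaf (nat_lit 0x103040205) (nat_lit 2816))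
 (.node (nat_lit 0x103050204) (.leaf (nat_lit 0x103040502) (nat_lit 3072))
 (.leaf (nat_lit 0x103050204) (nat_lit 3073))
)))) (.node (nat_lit 0x104050203) (.node (nat_lit 0x104020503) (.node (nat_lit 0x104020305) (.leaf (nat_lit 0x103050402) (nat_lit 2817))
 (.leaf (nat_lit 0x104020305) (nat_lit 2816))
) (.node (nat_lit 0x104030205) (.leaf (nat_lit 0x104020503) (nat_lit 3072))
 (.node (nat_lit 0x104030502) (.leaf (nat_lit 0x104030205) (nat_lit 2560))
 (.leaf (nat_lit 0x104030502) (nat_lit 2816))
))) (.node (nat_lit 0x105020403) (.node (nat_lit 0x104050302) (.leaf (nat_lit 0x104050203) (nat_lit 2817))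
 (.node (nat_lit 0x105020304) (.leaf (nat_lit 0x104050302) (nat_lit 2561))
 (.leaf (nat_lit 0x105020304) (nat_lit 3073))
)) (.node (nat_lit 0x105030204) (.leaf (nat_lit 0x105020403) (nat_lit 2817))
 (.node (nat_lit 0x105030402) (.leaf (nat_lit 0x105030204) (nat_lit 2817))
 (.leaf (nat_lit 0x105030402) (nat_lit 2561))
))))) (.node (nat_lit 0x203040501) (.node (nat_lit 0x201040503) (.node (nat_lit 0x201030405) (.node (nat_lit 0x105040302) (.leaf (nat_lit 0x105040203) (nat_lit 1024))
 (.leaf (nat_lit 0x105040302) (nat_lit 768))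
) (.node (nat_lit 0x201030504) (.leaf (nat_lit 0x201030405) (nat_lit 3585))
 (.node (nat_lit 0x201040305) (.leaf (nat_lit 0x201030504) (nat_lit 3329))
 (.leaf (nat_lit 0x201040305) (nat_lit 3329))
))) (.node (nat_lit 0x203010405) (.node (nat_lit 0x201050304) (.leaf (nat_lit 0x201040503) (nat_lit 3073))
 (.node (nat_lit 0x201050403) (.leaf (nat_lit 0x201050304) (nat_lit 1536))
 (.leaf (nat_lit 0x201050403) (nat_lit 1280))
)) (.node (nat_lit 0x203010504) (.leaf (nat_lit 0x203010405) (nat_lit 3841))
 (.node (nat_lit 0x203040105) (.leaf (nat_lit 0x203010504) (nat_lit 3585))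
 (.leaf (nat_lit 0x203040105) (nat_lit 4097))
)))) (.node (nat_lit 0x204030501) (.node (nat_lit 0x204010305) (.node (nat_lit 0x203050104) (.leaf (nat_lit 0x203040501) (nat_lit 4353))
 (.node (nat_lit 0x203050401) (.leaf (nat_lit 0x203050104) (nat_lit 3329))
 (.leaf (nat_lit 0x203050401) (nat_lit 3073))
)) (.node (nat_lit 0x204010503) (.leaf (nat_lit 0x204010305) (nat_lit 3584))
 (.node (nat_lit 0x204030105) (.leaf (nat_lit 0x204010503) (nat_lit 3328))
 (.leaf (nat_lit 0x204030105) (nat_lit 2305))
))) (.node (nat_lit 0x205010304) (.node (nat_lit 0x204050103) (.leaf (nat_lit 0x204030501) (nat_lit 2561))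
 (.node (nat_lit 0x204050301) (.leaf (nat_lit 0x204050103) (nat_lit 3073))
 (.leaf (nat_lit 0x204050301) (nat_lit 2817))
)) (.node (nat_lit 0x205010403) (.leaf (nat_lit 0x205010304) (nat_lit 3328))
 (.node (nat_lit 0x205030104) (.leaf (nat_lit 0x205010403) (nat_lit 3072))
 (.leaf (nat_lit 0x205030104) (nat_lit 3073))
)))))) (.node (nat_lit 0x305010402) (.node (nat_lit 0x302040105) (.node (nat_lit 0x301040205) (.node (nat_lit 0x205040301) (.node (nat_lit 0x205040103) (.leaf (nat_lit 0x205030401) (nat_lit 2817))
 (.leaf (nat_lit 0x205040103) (nat_lit 2817))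
) (.node (nat_lit 0x301020405) (.leaf (nat_lit 0x205040301) (nat_lit 2561))
 (.node (nat_lit 0x301020504) (.leaf (nat_lit 0x301020405) (nat_lit 3841))
 (.leaf (nat_lit 0x301020504) (nat_lit 3585))
))) (.node (nat_lit 0x301050402) (.node (nat_lit 0x301040502) (.leaf (nat_lit 0x301040205) (nat_lit 3585))
 (.node (nat_lit 0x301050204) (.leaf (nat_lit 0x301040502) (nat_lit 3329))
 (.leaf (nat_lit 0x301050204) (nat_lit 3329))
)) (.node (nat_lit 0x302010405) (.leaf (nat_lit 0x301050402) (nat_lit 3073))
 (.node (nat_lit 0x302010504) (.leaf (nat_lit 0x302010405) (nat_lit 2048))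
 (.leaf (nat_lit 0x302010504) (nat_lit 1792))
)))) (.node (nat_lit 0x304010502) (.node (nat_lit 0x302050104) (.node (nat_lit 0x302040501) (.leaf (nat_lit 0x302040105) (nat_lit 3841))
 (.leaf (nat_lit 0x302040501) (nat_lit 3585))
) (.node (nat_lit 0x302050401) (.leaf (nat_lit 0x302050104) (nat_lit 3585))
 (.node (nat_lit 0x304010205) (.leaf (nat_lit 0x302050401) (nat_lit 3329))
 (.leaf (nat_lit 0x304010205) (nat_lit 2305))
))) (.node (nat_lit 0x304050102) (.node (nat_lit 0x304020105) (.leaf (nat_lit 0x304010502) (nat_lit 2561))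
 (.node (nat_lit 0x304020501) (.leaf (nat_lit 0x304020105) (nat_lit 2049))
 (.leaf (nat_lit 0x304020501) (nat_lit 2305))
)) (.node (nat_lit 0x304050201) (.leaf (nat_lit 0x304050102) (nat_lit 4353))
 (.node (nat_lit 0x305010204) (.leaf (nat_lit 0x304050201) (nat_lit 4097))
 (.leaf (nat_lit 0x305010204) (nat_lit 3584))
))))) (.node (nat_lit 0x402010305) (.node (nat_lit 0x401020305) (.node (nat_lit 0x305020401) (.node (nat_lit 0x305020104) (.leaf (nat_lit 0x305010402) (nat_lit 3328))
 (.leaf (nat_lit 0x305020104) (nat_lit 3841))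
) (.node (nat_lit 0x305040102) (.leaf (nat_lit 0x305020401) (nat_lit 4097))
 (.node (nat_lit 0x305040201) (.leaf (nat_lit 0x305040102) (nat_lit 2561))
 (.leaf (nat_lit 0x305040201) (nat_lit 2305))
))) (.node (nat_lit 0x401030502) (.node (nat_lit 0x401020503) (.leaf (nat_lit 0x401020305) (nat_lit 4097))
 (.node (nat_lit 0x401030205) (.leaf (nat_lit 0x401020503) (nat_lit 3841))
 (.leaf (nat_lit 0x401030205) (nat_lit 2305))
)) (.node (nat_lit 0x401050203) (.leaf (nat_lit 0x401030502) (nat_lit 2561))
 (.node (nat_lit 0x401050302) (.leaf (nat_lit 0x401050203) (nat_lit 3072))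
 (.leaf (nat_lit 0x401050302) (nat_lit 2816))
)))) (.node (nat_lit 0x403010205) (.node (nat_lit 0x402030501) (.node (nat_lit 0x402010503) (.leaf (nat_lit 0x402010305) (nat_lit 3841))
 (.node (nat_lit 0x402030105) (.leaf (nat_lit 0x402010503) (nat_lit 3585))
 (.leaf (nat_lit 0x402030105) (nat_lit 2049))
)) (.node (nat_lit 0x402050103) (.leaf (nat_lit 0x402030501) (nat_lit 2305))
 (.node (nat_lit 0x402050301) (.leaf (nat_lit 0x402050103) (nat_lit 3841))
 (.leaf (nat_lit 0x402050301) (nat_lit 4097))
))) (.node (nat_lit 0x403020501) (.node (nat_lit 0x403010502) (.leaf (nat_lit 0x403010205) (nat_lit 2049))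
 (.node (nat_lit 0x403020105) (.leaf (nat_lit 0x403010502) (nat_lit 2305))
 (.leaf (nat_lit 0x403020105) (nat_lit 1793))
)) (.node (nat_lit 0x403050102) (.leaf (nat_lit 0x403020501) (nat_lit 2049))
 (.node (nat_lit 0x403050201) (.leaf (nat_lit 0x403050102) (nat_lit 4097))
 (.leaf (nat_lit 0x403050201) (nat_lit 3841))
))))))) (.node (nat_lit 0x10004030502) (.node (nat_lit 0x503040102) (.node (nat_lit 0x501040302) (.node (nat_lit 0x405030201) (.node (nat_lit 0x405020103) (.node (nat_lit 0x405010302) (.leaf (nat_lit 0x405010203) (nat_lit 2817))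
 (.leaf (nat_lit 0x405010302) (nat_lit 2561))
) (.node (nat_lit 0x405020301) (.leaf (nat_lit 0x405020103) (nat_lit 2561))
 (.node (nat_lit 0x405030102) (.leaf (nat_lit 0x405020301) (nat_lit 2305))
 (.leaf (nat_lit 0x405030102) (nat_lit 2305))
))) (.node (nat_lit 0x501030204) (.node (nat_lit 0x501020304) (.leaf (nat_lit 0x405030201) (nat_lit 2049))
 (.node (nat_lit 0x501020403) (.leaf (nat_lit 0x501020304) (nat_lit 3328))
 (.leaf (nat_lit 0x501020403) (nat_lit 3072))
)) (.node (nat_lit 0x501030402) (.leaf (nat_lit 0x501030204) (nat_lit 2561))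
 (.node (nat_lit 0x501040203) (.leaf (nat_lit 0x501030402) (nat_lit 2817))
 (.leaf (nat_lit 0x501040203) (nat_lit 2816))
)))) (.node (nat_lit 0x502040103) (.node (nat_lit 0x502010403) (.node (nat_lit 0x502010304) (.leaf (nat_lit 0x501040302) (nat_lit 2560))
 (.leaf (nat_lit 0x502010304) (nat_lit 3584))
) (.node (nat_lit 0x502030104) (.leaf (nat_lit 0x502010403) (nat_lit 3328))
 (.node (nat_lit 0x502030401) (.leaf (nat_lit 0x502030104) (nat_lit 2305))
 (.leaf (nat_lit 0x502030401) (nat_lit 2561))
))) (.node (nat_lit 0x503010402) (.node (nat_lit 0x502040301) (.leaf (nat_lit 0x502040103) (nat_lit 2561))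
 (.node (nat_lit 0x503010204) (.leaf (nat_lit 0x502040301) (nat_lit 2305))
 (.leaf (nat_lit 0x503010204) (nat_lit 2305))
)) (.node (nat_lit 0x503020104) (.leaf (nat_lit 0x503010402) (nat_lit 2561))
 (.node (nat_lit 0x503020401) (.leaf (nat_lit 0x503020104) (nat_lit 2049))
 (.leaf (nat_lit 0x503020401) (nat_lit 2305))
))))) (.node (nat_lit 0x10002040503) (.node (nat_lit 0x504020301) (.node (nat_lit 0x504010203) (.node (nat_lit 0x503040201) (.leaf (nat_lit 0x503040102) (nat_lit 2305))
 (.leaf (nat_lit 0x503040201) (nat_lit 2049))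
) (.node (nat_lit 0x504010302) (.leaf (nat_lit 0x504010203) (nat_lit 2561))
 (.node (nat_lit 0x504020103) (.leaf (nat_lit 0x504010302) (nat_lit 2305))
 (.leaf (nat_lit 0x504020103) (nat_lit 2305))
))) (.node (nat_lit 0x10002030405) (.node (nat_lit 0x504030102) (.leaf (nat_lit 0x504020301) (nat_lit 2049))
 (.node (nat_lit 0x504030201) (.leaf (nat_lit 0x504030102) (nat_lit 513))
 (.leaf (nat_lit 0x504030201) (nat_lit 257))
)) (.node (nat_lit 0x10002030504) (.leaf (nat_lit 0x10002030405) (nat_lit 3585))
 (.node (nat_lit 0x10002040305) (.leaf (nat_lit 0x10002030504) (nat_lit 3329))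
 (.leaf (nat_lit 0x10002040305) (nat_lit 2817))
)))) (.node (nat_lit 0x10003040502) (.node (nat_lit 0x10003020405) (.node (nat_lit 0x10002050304) (.leaf (nat_lit 0x10002040503) (nat_lit 3073))
 (.node (nat_lit 0x10002050403) (.leaf (nat_lit 0x10002050304) (nat_lit 3073))
 (.leaf (nat_lit 0x10002050403) (nat_lit 2817))
)) (.node (nat_lit 0x10003020504) (.leaf (nat_lit 0x10003020405) (nat_lit 3841))
 (.node (nat_lit 0x10003040205) (.leaf (nat_lit 0x10003020504) (nat_lit 3585))
 (.leaf (nat_lit 0x10003040205) (nat_lit 2561))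
))) (.node (nat_lit 0x10004020305) (.node (nat_lit 0x10003050204) (.leaf (nat_lit 0x10003040502) (nat_lit 2817))
 (.node (nat_lit 0x10003050402) (.leaf (nat_lit 0x10003050204) (nat_lit 2817))
 (.leaf (nat_lit 0x10003050402) (nat_lit 2561))
)) (.node (nat_lit 0x10004020503) (.leaf (nat_lit 0x10004020305) (nat_lit 2561))
 (.node (nat_lit 0x10004030205) (.leaf (nat_lit 0x10004020503) (nat_lit 2817))
 (.leaf (nat_lit 0x10004030205) (nat_lit 2305))
)))))) (.node (nat_lit 0x10204000503) (.node (nat_lit 0x10200040305) (.node (nat_lit 0x10005030204) (.node (nat_lit 0x10004050302) (.node (nat_lit 0x10004050203) (.leaf (nat_lit 0x10004030502) (nat_lit 2561))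
 (.leaf (nat_lit 0x10004050203) (nat_lit 2561))
) (.node (nat_lit 0x10005020304) (.leaf (nat_lit 0x10004050302) (nat_lit 2305))
 (.node (nat_lit 0x10005020403) (.leaf (nat_lit 0x10005020304) (nat_lit 2817))
 (.leaf (nat_lit 0x10005020403) (nat_lit 2561))
))) (.node (nat_lit 0x10005040302) (.node (nat_lit 0x10005030402) (.leaf (nat_lit 0x10005030204) (nat_lit 2561))
 (.node (nat_lit 0x10005040203) (.leaf (nat_lit 0x10005030402) (nat_lit 2305))
 (.leaf (nat_lit 0x10005040203) (nat_lit 769))
)) (.node (nat_lit 0x10200030405) (.leaf (nat_lit 0x10005040302) (nat_lit 513))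
 (.node (nat_lit 0x10200030504) (.leaf (nat_lit 0x10200030405) (nat_lit 3329))
 (.leaf (nat_lit 0x10200030504) (nat_lit 3073))
)))) (.node (nat_lit 0x10203000504) (.node (nat_lit 0x10200050304) (.node (nat_lit 0x10200040503) (.leaf (nat_lit 0x10200040305) (nat_lit 3073))
 (.leaf (nat_lit 0x10200040503) (nat_lit 2817))
) (.node (nat_lit 0x10200050403) (.leaf (nat_lit 0x10200050304) (nat_lit 1281))
 (.node (nat_lit 0x10203000405) (.leaf (nat_lit 0x10200050403) (nat_lit 1025))
 (.leaf (nat_lit 0x10203000405) (nat_lit 3585))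
))) (.node (nat_lit 0x10203050004) (.node (nat_lit 0x10203040005) (.leaf (nat_lit 0x10203000504) (nat_lit 3329))
 (.node (nat_lit 0x10203040500) (.leaf (nat_lit 0x10203040005) (nat_lit 3841))
 (.leaf (nat_lit 0x10203040500) (nat_lit 4097))
)) (.node (nat_lit 0x10203050400) (.leaf (nat_lit 0x10203050004) (nat_lit 3585))
 (.node (nat_lit 0x10204000305) (.leaf (nat_lit 0x10203050400) (nat_lit 3329))
 (.leaf (nat_lit 0x10204000305) (nat_lit 3329))
))))) (.node (nat_lit 0x10300020405) (.node (nat_lit 0x10205000304) (.node (nat_lit 0x10204030500) (.node (nat_lit 0x10204030005) (.leaf (nat_lit 0x10204000503) (nat_lit 3073))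
 (.leaf (nat_lit 0x10204030005) (nat_lit 2560))
) (.node (nat_lit 0x10204050003) (.leaf (nat_lit 0x10204030500) (nat_lit 2816))
 (.node (nat_lit 0x10204050300) (.leaf (nat_lit 0x10204050003) (nat_lit 3329))
 (.leaf (nat_lit 0x10204050300) (nat_lit 3073))
))) (.node (nat_lit 0x10205030400) (.node (nat_lit 0x10205000403) (.leaf (nat_lit 0x10205000304) (nat_lit 3073))
 (.node (nat_lit 0x10205030004) (.leaf (nat_lit 0x10205000403) (nat_lit 2817))
 (.leaf (nat_lit 0x10205030004) (nat_lit 3329))
)) (.node (nat_lit 0x10205040003) (.leaf (nat_lit 0x10205030400) (nat_lit 3073))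
 (.node (nat_lit 0x10205040300) (.leaf (nat_lit 0x10205040003) (nat_lit 3073))
 (.leaf (nat_lit 0x10205040300) (nat_lit 2817))
)))) (.node (nat_lit 0x10302000405) (.node (nat_lit 0x10300040502) (.node (nat_lit 0x10300020504) (.leaf (nat_lit 0x10300020405) (nat_lit 3585))
 (.node (nat_lit 0x10300040205) (.leaf (nat_lit 0x10300020504) (nat_lit 3329))
 (.leaf (nat_lit 0x10300040205) (nat_lit 3329))
)) (.node (nat_lit 0x10300050204) (.leaf (nat_lit 0x10300040502) (nat_lit 3073))
 (.node (nat_lit 0x10300050402) (.leaf (nat_lit 0x10300050204) (nat_lit 3073))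
 (.leaf (nat_lit 0x10300050402) (nat_lit 2817))
))) (.node (nat_lit 0x10302040500) (.node (nat_lit 0x10302000504) (.leaf (nat_lit 0x10302000405) (nat_lit 1793))
 (.node (nat_lit 0x10302040005) (.leaf (nat_lit 0x10302000504) (nat_lit 1537))
 (.leaf (nat_lit 0x10302040005) (nat_lit 3585))
)) (.node (nat_lit 0x10302050004) (.leaf (nat_lit 0x10302040500) (nat_lit 3841))
 (.node (nat_lit 0x10302050400) (.leaf (nat_lit 0x10302050004) (nat_lit 3329))
 (.leaf (nat_lit 0x10302050400) (nat_lit 3585))
)))))))) (.node (nat_lit 0x20103000405) (.node (nat_lit 0x10502030400) (.node (nat_lit 0x10402050003) (.node (nat_lit 0x10305040200) (.node (nat_lit 0x10304050200) (.node (nat_lit 0x10304020005) (.node (nat_lit 0x10304000502) (.leaf (nat_lit 0x10304000205) (nat_lit 2560))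
 (.leaf (nat_lit 0x10304000502) (nat_lit 2816))
) (.node (nat_lit 0x10304020500) (.leaf (nat_lit 0x10304020005) (nat_lit 2304))
 (.node (nat_lit 0x10304050002) (.leaf (nat_lit 0x10304020500) (nat_lit 2560))
 (.leaf (nat_lit 0x10304050002) (nat_lit 4609))
))) (.node (nat_lit 0x10305020004) (.node (nat_lit 0x10305000204) (.leaf (nat_lit 0x10304050200) (nat_lit 4353))
 (.node (nat_lit 0x10305000402) (.leaf (nat_lit 0x10305000204) (nat_lit 3329))
 (.leaf (nat_lit 0x10305000402) (nat_lit 3073))
)) (.node (nat_lit 0x10305020400) (.leaf (nat_lit 0x10305020004) (nat_lit 3585))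
 (.node (nat_lit 0x10305040002) (.leaf (nat_lit 0x10305020400) (nat_lit 3841))
 (.leaf (nat_lit 0x10305040002) (nat_lit 2817))
)))) (.node (nat_lit 0x10400050203) (.node (nat_lit 0x10400020503) (.node (nat_lit 0x10400020305) (.leaf (nat_lit 0x10305040200) (nat_lit 2561))
 (.leaf (nat_lit 0x10400020305) (nat_lit 3841))
) (.node (nat_lit 0x10400030205) (.leaf (nat_lit 0x10400020503) (nat_lit 3585))
 (.node (nat_lit 0x10400030502) (.leaf (nat_lit 0x10400030205) (nat_lit 2560))
 (.leaf (nat_lit 0x10400030502) (nat_lit 2816))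
))) (.node (nat_lit 0x10402000503) (.node (nat_lit 0x10400050302) (.leaf (nat_lit 0x10400050203) (nat_lit 2817))
 (.node (nat_lit 0x10402000305) (.leaf (nat_lit 0x10400050302) (nat_lit 2561))
 (.leaf (nat_lit 0x10402000305) (nat_lit 3585))
)) (.node (nat_lit 0x10402030005) (.leaf (nat_lit 0x10402000503) (nat_lit 3329))
 (.node (nat_lit 0x10402030500) (.leaf (nat_lit 0x10402030005) (nat_lit 2304))
 (.leaf (nat_lit 0x10402030500) (nat_lit 2560))
))))) (.node (nat_lit 0x10405020300) (.node (nat_lit 0x10403020500) (.node (nat_lit 0x10403000205) (.node (nat_lit 0x10402050300) (.leaf (nat_lit 0x10402050003) (nat_lit 3585))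
 (.leaf (nat_lit 0x10402050300) (nat_lit 3841))
) (.node (nat_lit 0x10403000502) (.leaf (nat_lit 0x10403000205) (nat_lit 2304))
 (.node (nat_lit 0x10403020005) (.leaf (nat_lit 0x10403000502) (nat_lit 2560))
 (.leaf (nat_lit 0x10403020005) (nat_lit 2048))
))) (.node (nat_lit 0x10405000203) (.node (nat_lit 0x10403050002) (.leaf (nat_lit 0x10403020500) (nat_lit 2304))
 (.node (nat_lit 0x10403050200) (.leaf (nat_lit 0x10403050002) (nat_lit 3841))
 (.leaf (nat_lit 0x10403050200) (nat_lit 4097))
)) (.node (nat_lit 0x10405000302) (.leaf (nat_lit 0x10405000203) (nat_lit 3072))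
 (.node (nat_lit 0x10405020003) (.leaf (nat_lit 0x10405000302) (nat_lit 2816))
 (.leaf (nat_lit 0x10405020003) (nat_lit 2817))
)))) (.node (nat_lit 0x10500030402) (.node (nat_lit 0x10500020304) (.node (nat_lit 0x10405030002) (.leaf (nat_lit 0x10405020300) (nat_lit 2561))
 (.node (nat_lit 0x10405030200) (.leaf (nat_lit 0x10405030002) (nat_lit 2561))
 (.leaf (nat_lit 0x10405030200) (nat_lit 2305))
)) (.node (nat_lit 0x10500020403) (.leaf (nat_lit 0x10500020304) (nat_lit 3073))
 (.node (nat_lit 0x10500030204) (.leaf (nat_lit 0x10500020403) (nat_lit 2817))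
 (.leaf (nat_lit 0x10500030204) (nat_lit 2817))
))) (.node (nat_lit 0x10502000304) (.node (nat_lit 0x10500040203) (.leaf (nat_lit 0x10500030402) (nat_lit 2561))
 (.node (nat_lit 0x10500040302) (.leaf (nat_lit 0x10500040203) (nat_lit 2561))
 (.leaf (nat_lit 0x10500040302) (nat_lit 2305))
)) (.node (nat_lit 0x10502000403) (.leaf (nat_lit 0x10502000304) (nat_lit 3329))
 (.node (nat_lit 0x10502030004) (.leaf (nat_lit 0x10502000403) (nat_lit 3073))
 (.leaf (nat_lit 0x10502030004) (nat_lit 2560))
)))))) (.node (nat_lit 0x20003010504) (.node (nat_lit 0x10504020003) (.node (nat_lit 0x10503020004) (.node (nat_lit 0x10502040300) (.node (nat_lit 0x10502040003) (.leaf (nat_lit 0x10502030400) (nat_lit 2816))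
 (.leaf (nat_lit 0x10502040003) (nat_lit 2817))
) (.node (nat_lit 0x10503000204) (.leaf (nat_lit 0x10502040300) (nat_lit 2561))
 (.node (nat_lit 0x10503000402) (.leaf (nat_lit 0x10503000204) (nat_lit 2560))
 (.leaf (nat_lit 0x10503000402) (nat_lit 2816))
))) (.node (nat_lit 0x10503040200) (.node (nat_lit 0x10503020400) (.leaf (nat_lit 0x10503020004) (nat_lit 2304))
 (.node (nat_lit 0x10503040002) (.leaf (nat_lit 0x10503020400) (nat_lit 2560))
 (.leaf (nat_lit 0x10503040002) (nat_lit 2561))
)) (.node (nat_lit 0x10504000203) (.leaf (nat_lit 0x10503040200) (nat_lit 2305))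
 (.node (nat_lit 0x10504000302) (.leaf (nat_lit 0x10504000203) (nat_lit 2816))
 (.leaf (nat_lit 0x10504000302) (nat_lit 2560))
)))) (.node (nat_lit 0x20001030504) (.node (nat_lit 0x10504030002) (.node (nat_lit 0x10504020300) (.leaf (nat_lit 0x10504020003) (nat_lit 2561))
 (.leaf (nat_lit 0x10504020300) (nat_lit 2305))
) (.node (nat_lit 0x10504030200) (.leaf (nat_lit 0x10504030002) (nat_lit 768))
 (.node (nat_lit 0x20001030405) (.leaf (nat_lit 0x10504030200) (nat_lit 512))
 (.leaf (nat_lit 0x20001030405) (nat_lit 3329))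
))) (.node (nat_lit 0x20001050304) (.node (nat_lit 0x20001040305) (.leaf (nat_lit 0x20001030504) (nat_lit 3073))
 (.node (nat_lit 0x20001040503) (.leaf (nat_lit 0x20001040305) (nat_lit 3073))
 (.leaf (nat_lit 0x20001040503) (nat_lit 2817))
)) (.node (nat_lit 0x20001050403) (.leaf (nat_lit 0x20001050304) (nat_lit 1280))
 (.node (nat_lit 0x20003010405) (.leaf (nat_lit 0x20001050403) (nat_lit 1024))
 (.leaf (nat_lit 0x20003010405) (nat_lit 3585))
))))) (.node (nat_lit 0x20005010304) (.node (nat_lit 0x20004010305) (.node (nat_lit 0x20003040501) (.node (nat_lit 0x20003040105) (.leaf (nat_lit 0x20003010504) (nat_lit 3329))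
 (.leaf (nat_lit 0x20003040105) (nat_lit 2817))
) (.node (nat_lit 0x20003050104) (.leaf (nat_lit 0x20003040501) (nat_lit 3073))
 (.node (nat_lit 0x20003050401) (.leaf (nat_lit 0x20003050104) (nat_lit 3073))
 (.leaf (nat_lit 0x20003050401) (nat_lit 2817))
))) (.node (nat_lit 0x20004030501) (.node (nat_lit 0x20004010503) (.leaf (nat_lit 0x20004010305) (nat_lit 2817))
 (.node (nat_lit 0x20004030105) (.leaf (nat_lit 0x20004010503) (nat_lit 3073))
 (.leaf (nat_lit 0x20004030105) (nat_lit 2561))
)) (.node (nat_lit 0x20004050103) (.leaf (nat_lit 0x20004030501) (nat_lit 2817))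
 (.node (nat_lit 0x20004050301) (.leaf (nat_lit 0x20004050103) (nat_lit 2817))
 (.leaf (nat_lit 0x20004050301) (nat_lit 2561))
)))) (.node (nat_lit 0x20100030405) (.node (nat_lit 0x20005030401) (.node (nat_lit 0x20005010403) (.leaf (nat_lit 0x20005010304) (nat_lit 3072))
 (.node (nat_lit 0x20005030104) (.leaf (nat_lit 0x20005010403) (nat_lit 2816))
 (.leaf (nat_lit 0x20005030104) (nat_lit 2817))
)) (.node (nat_lit 0x20005040103) (.leaf (nat_lit 0x20005030401) (nat_lit 2561))
 (.node (nat_lit 0x20005040301) (.leaf (nat_lit 0x20005040103) (nat_lit 1025))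
 (.leaf (nat_lit 0x20005040301) (nat_lit 769))
))) (.node (nat_lit 0x20100040503) (.node (nat_lit 0x20100030504) (.leaf (nat_lit 0x20100030405) (nat_lit 3073))
 (.node (nat_lit 0x20100040305) (.leaf (nat_lit 0x20100030504) (nat_lit 2817))
 (.leaf (nat_lit 0x20100040305) (nat_lit 2817))
)) (.node (nat_lit 0x20100050304) (.leaf (nat_lit 0x20100040503) (nat_lit 2561))
 (.node (nat_lit 0x20100050403) (.leaf (nat_lit 0x20100050304) (nat_lit 1025))
 (.leaf (nat_lit 0x20100050403) (nat_lit 769))
))))))) (.node (nat_lit 0x20400030501) (.node (nat_lit 0x20300050104) (.node (nat_lit 0x20104050300) (.node (nat_lit 0x20103050400) (.node (nat_lit 0x20103040005) (.node (nat_lit 0x20103000504) (.leaf (nat_lit 0x20103000405) (nat_lit 3329))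
 (.leaf (nat_lit 0x20103000504) (nat_lit 3073))
) (.node (nat_lit 0x20103040500) (.leaf (nat_lit 0x20103040005) (nat_lit 3072))
 (.node (nat_lit 0x20103050004) (.leaf (nat_lit 0x20103040500) (nat_lit 3328))
 (.leaf (nat_lit 0x20103050004) (nat_lit 3329))
))) (.node (nat_lit 0x20104030005) (.node (nat_lit 0x20104000305) (.leaf (nat_lit 0x20103050400) (nat_lit 3073))
 (.node (nat_lit 0x20104000503) (.leaf (nat_lit 0x20104000305) (nat_lit 3073))
 (.leaf (nat_lit 0x20104000503) (nat_lit 2817))
)) (.node (nat_lit 0x20104030500) (.leaf (nat_lit 0x20104030005) (nat_lit 2816))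
 (.node (nat_lit 0x20104050003) (.leaf (nat_lit 0x20104030500) (nat_lit 3072))
 (.leaf (nat_lit 0x20104050003) (nat_lit 3073))
)))) (.node (nat_lit 0x20105040003) (.node (nat_lit 0x20105000403) (.node (nat_lit 0x20105000304) (.leaf (nat_lit 0x20104050300) (nat_lit 2817))
 (.leaf (nat_lit 0x20105000304) (nat_lit 2817))
) (.node (nat_lit 0x20105030004) (.leaf (nat_lit 0x20105000403) (nat_lit 2561))
 (.node (nat_lit 0x20105030400) (.leaf (nat_lit 0x20105030004) (nat_lit 3073))
 (.leaf (nat_lit 0x20105030400) (nat_lit 2817))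
))) (.node (nat_lit 0x20300010504) (.node (nat_lit 0x20105040300) (.leaf (nat_lit 0x20105040003) (nat_lit 1280))
 (.node (nat_lit 0x20300010405) (.leaf (nat_lit 0x20105040300) (nat_lit 1024))
 (.leaf (nat_lit 0x20300010405) (nat_lit 1792))
)) (.node (nat_lit 0x20300040105) (.leaf (nat_lit 0x20300010504) (nat_lit 1536))
 (.node (nat_lit 0x20300040501) (.leaf (nat_lit 0x20300040105) (nat_lit 3585))
 (.leaf (nat_lit 0x20300040501) (nat_lit 3329))
))))) (.node (nat_lit 0x20304010500) (.node (nat_lit 0x20301040500) (.node (nat_lit 0x20301000405) (.node (nat_lit 0x20300050401) (.leaf (nat_lit 0x20300050104) (nat_lit 3329))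
 (.leaf (nat_lit 0x20300050401) (nat_lit 3073))
) (.node (nat_lit 0x20301000504) (.leaf (nat_lit 0x20301000405) (nat_lit 1537))
 (.node (nat_lit 0x20301040005) (.leaf (nat_lit 0x20301000504) (nat_lit 1281))
 (.leaf (nat_lit 0x20301040005) (nat_lit 3329))
))) (.node (nat_lit 0x20304000105) (.node (nat_lit 0x20301050004) (.leaf (nat_lit 0x20301040500) (nat_lit 3585))
 (.node (nat_lit 0x20301050400) (.leaf (nat_lit 0x20301050004) (nat_lit 3073))
 (.leaf (nat_lit 0x20301050400) (nat_lit 3329))
)) (.node (nat_lit 0x20304000501) (.leaf (nat_lit 0x20304000105) (nat_lit 3841))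
 (.node (nat_lit 0x20304010005) (.leaf (nat_lit 0x20304000501) (nat_lit 3585))
 (.leaf (nat_lit 0x20304010005) (nat_lit 3585))
)))) (.node (nat_lit 0x20305010400) (.node (nat_lit 0x20305000104) (.node (nat_lit 0x20304050001) (.leaf (nat_lit 0x20304010500) (nat_lit 3841))
 (.node (nat_lit 0x20304050100) (.leaf (nat_lit 0x20304050001) (nat_lit 4353))
 (.leaf (nat_lit 0x20304050100) (nat_lit 4097))
)) (.node (nat_lit 0x20305000401) (.leaf (nat_lit 0x20305000104) (nat_lit 3585))
 (.node (nat_lit 0x20305010004) (.leaf (nat_lit 0x20305000401) (nat_lit 3329))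
 (.leaf (nat_lit 0x20305010004) (nat_lit 3329))
))) (.node (nat_lit 0x20400010305) (.node (nat_lit 0x20305040001) (.leaf (nat_lit 0x20305010400) (nat_lit 3585))
 (.node (nat_lit 0x20305040100) (.leaf (nat_lit 0x20305040001) (nat_lit 3073))
 (.leaf (nat_lit 0x20305040100) (nat_lit 2817))
)) (.node (nat_lit 0x20400010503) (.leaf (nat_lit 0x20400010305) (nat_lit 3585))
 (.node (nat_lit 0x20400030105) (.leaf (nat_lit 0x20400010503) (nat_lit 3329))
 (.leaf (nat_lit 0x20400030105) (nat_lit 3841))
)))))) (.node (nat_lit 0x20500010403) (.node (nat_lit 0x20403010005) (.node (nat_lit 0x20401030005) (.node (nat_lit 0x20400050301) (.node (nat_lit 0x20400050103) (.leaf (nat_lit 0x20400030501) (nat_lit 4097))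
 (.leaf (nat_lit 0x20400050103) (nat_lit 3073))
) (.node (nat_lit 0x20401000305) (.leaf (nat_lit 0x20400050301) (nat_lit 2817))
 (.node (nat_lit 0x20401000503) (.leaf (nat_lit 0x20401000305) (nat_lit 3329))
 (.leaf (nat_lit 0x20401000503) (nat_lit 3073))
))) (.node (nat_lit 0x20401050300) (.node (nat_lit 0x20401030500) (.leaf (nat_lit 0x20401030005) (nat_lit 3585))
 (.node (nat_lit 0x20401050003) (.leaf (nat_lit 0x20401030500) (nat_lit 3841))
 (.leaf (nat_lit 0x20401050003) (nat_lit 3328))
)) (.node (nat_lit 0x20403000105) (.leaf (nat_lit 0x20401050300) (nat_lit 3072))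
 (.node (nat_lit 0x20403000501) (.leaf (nat_lit 0x20403000105) (nat_lit 2048))
 (.leaf (nat_lit 0x20403000501) (nat_lit 2304))
)))) (.node (nat_lit 0x20405000301) (.node (nat_lit 0x20403050001) (.node (nat_lit 0x20403010500) (.leaf (nat_lit 0x20403010005) (nat_lit 1793))
 (.leaf (nat_lit 0x20403010500) (nat_lit 2049))
) (.node (nat_lit 0x20403050100) (.leaf (nat_lit 0x20403050001) (nat_lit 4097))
 (.node (nat_lit 0x20405000103) (.leaf (nat_lit 0x20403050100) (nat_lit 3841))
 (.leaf (nat_lit 0x20405000103) (nat_lit 3328))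
))) (.node (nat_lit 0x20405030001) (.node (nat_lit 0x20405010003) (.leaf (nat_lit 0x20405000301) (nat_lit 3072))
 (.node (nat_lit 0x20405010300) (.leaf (nat_lit 0x20405010003) (nat_lit 3073))
 (.leaf (nat_lit 0x20405010300) (nat_lit 2817))
)) (.node (nat_lit 0x20405030100) (.leaf (nat_lit 0x20405030001) (nat_lit 2817))
 (.node (nat_lit 0x20500010304) (.leaf (nat_lit 0x20405030100) (nat_lit 2561))
 (.leaf (nat_lit 0x20500010304) (nat_lit 3328))
))))) (.node (nat_lit 0x20503000104) (.node (nat_lit 0x20501000304) (.node (nat_lit 0x20500030401) (.node (nat_lit 0x20500030104) (.leaf (nat_lit 0x20500010403) (nat_lit 3072))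
 (.leaf (nat_lit 0x20500030104) (nat_lit 3073))
) (.node (nat_lit 0x20500040103) (.leaf (nat_lit 0x20500030401) (nat_lit 2817))
 (.node (nat_lit 0x20500040301) (.leaf (nat_lit 0x20500040103) (nat_lit 2817))
 (.leaf (nat_lit 0x20500040301) (nat_lit 2561))
))) (.node (nat_lit 0x20501030400) (.node (nat_lit 0x20501000403) (.leaf (nat_lit 0x20501000304) (nat_lit 3073))
 (.node (nat_lit 0x20501030004) (.leaf (nat_lit 0x20501000403) (nat_lit 2817))
 (.leaf (nat_lit 0x20501030004) (nat_lit 3328))
)) (.node (nat_lit 0x20501040003) (.leaf (nat_lit 0x20501030400) (nat_lit 3072))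
 (.node (nat_lit 0x20501040300) (.leaf (nat_lit 0x20501040003) (nat_lit 3072))
 (.leaf (nat_lit 0x20501040300) (nat_lit 2816))
)))) (.node (nat_lit 0x20504000103) (.node (nat_lit 0x20503010400) (.node (nat_lit 0x20503000401) (.leaf (nat_lit 0x20503000104) (nat_lit 3841))
 (.node (nat_lit 0x20503010004) (.leaf (nat_lit 0x20503000401) (nat_lit 4097))
 (.leaf (nat_lit 0x20503010004) (nat_lit 3585))
)) (.node (nat_lit 0x20503040001) (.leaf (nat_lit 0x20503010400) (nat_lit 3841))
 (.node (nat_lit 0x20503040100) (.leaf (nat_lit 0x20503040001) (nat_lit 2817))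
 (.leaf (nat_lit 0x20503040100) (nat_lit 2561))
))) (.node (nat_lit 0x20504010300) (.node (nat_lit 0x20504000301) (.leaf (nat_lit 0x20504000103) (nat_lit 3072))
 (.node (nat_lit 0x20504010003) (.leaf (nat_lit 0x20504000301) (nat_lit 2816))
 (.leaf (nat_lit 0x20504010003) (nat_lit 2817))
)) (.node (nat_lit 0x20504030001) (.leaf (nat_lit 0x20504010300) (nat_lit 2561))
 (.node (nat_lit 0x20504030100) (.leaf (nat_lit 0x20504030001) (nat_lit 2561))
 (.leaf (nat_lit 0x20504030100) (nat_lit 2305))
))))))))) (.node (nat_lit 0x40203000105) (.node (nat_lit 0x30405000102) (.node (nat_lit 0x30105020400) (.node (nat_lit 0x30005040102) (.node (nat_lit 0x30002050401) (.node (nat_lit 0x30001050402) (.node (nat_lit 0x30001040205) (.node (nat_lit 0x30001020504) (.leaf (nat_lit 0x30001020405) (nat_lit 3585))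
 (.leaf (nat_lit 0x30001020504) (nat_lit 3329))
) (.node (nat_lit 0x30001040502) (.leaf (nat_lit 0x30001040205) (nat_lit 3329))
 (.node (nat_lit 0x30001050204) (.leaf (nat_lit 0x30001040502) (nat_lit 3073))
 (.leaf (nat_lit 0x30001050204) (nat_lit 1536))
))) (.node (nat_lit 0x30002040105) (.node (nat_lit 0x30002010405) (.leaf (nat_lit 0x30001050402) (nat_lit 1280))
 (.node (nat_lit 0x30002010504) (.leaf (nat_lit 0x30002010405) (nat_lit 1792))
 (.leaf (nat_lit 0x30002010504) (nat_lit 1536))
)) (.node (nat_lit 0x30002040501) (.leaf (nat_lit 0x30002040105) (nat_lit 3585))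
 (.node (nat_lit 0x30002050104) (.leaf (nat_lit 0x30002040501) (nat_lit 3329))
 (.leaf (nat_lit 0x30002050104) (nat_lit 3329))
)))) (.node (nat_lit 0x30004050102) (.node (nat_lit 0x30004010502) (.node (nat_lit 0x30004010205) (.leaf (nat_lit 0x30002050401) (nat_lit 3073))
 (.leaf (nat_lit 0x30004010205) (nat_lit 3584))
) (.node (nat_lit 0x30004020105) (.leaf (nat_lit 0x30004010502) (nat_lit 3328))
 (.node (nat_lit 0x30004020501) (.leaf (nat_lit 0x30004020105) (nat_lit 3841))
 (.leaf (nat_lit 0x30004020501) (nat_lit 4097))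
))) (.node (nat_lit 0x30005010402) (.node (nat_lit 0x30004050201) (.leaf (nat_lit 0x30004050102) (nat_lit 3073))
 (.node (nat_lit 0x30005010204) (.leaf (nat_lit 0x30004050201) (nat_lit 2817))
 (.leaf (nat_lit 0x30005010204) (nat_lit 3328))
)) (.node (nat_lit 0x30005020104) (.leaf (nat_lit 0x30005010402) (nat_lit 3072))
 (.node (nat_lit 0x30005020401) (.leaf (nat_lit 0x30005020104) (nat_lit 3073))
 (.leaf (nat_lit 0x30005020401) (nat_lit 2817))
))))) (.node (nat_lit 0x30102040500) (.node (nat_lit 0x30100040502) (.node (nat_lit 0x30100020405) (.node (nat_lit 0x30005040201) (.leaf (nat_lit 0x30005040102) (nat_lit 2817))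
 (.leaf (nat_lit 0x30005040201) (nat_lit 2561))
) (.node (nat_lit 0x30100020504) (.leaf (nat_lit 0x30100020405) (nat_lit 3329))
 (.node (nat_lit 0x30100040205) (.leaf (nat_lit 0x30100020504) (nat_lit 3073))
 (.leaf (nat_lit 0x30100040205) (nat_lit 3073))
))) (.node (nat_lit 0x30102000405) (.node (nat_lit 0x30100050204) (.leaf (nat_lit 0x30100040502) (nat_lit 2817))
 (.node (nat_lit 0x30100050402) (.leaf (nat_lit 0x30100050204) (nat_lit 1281))
 (.leaf (nat_lit 0x30100050402) (nat_lit 1025))
)) (.node (nat_lit 0x30102000504) (.leaf (nat_lit 0x30102000405) (nat_lit 1537))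
 (.node (nat_lit 0x30102040005) (.leaf (nat_lit 0x30102000504) (nat_lit 1281))
 (.leaf (nat_lit 0x30102040005) (nat_lit 3329))
)))) (.node (nat_lit 0x30104020500) (.node (nat_lit 0x30104000205) (.node (nat_lit 0x30102050004) (.leaf (nat_lit 0x30102040500) (nat_lit 3585))
 (.node (nat_lit 0x30102050400) (.leaf (nat_lit 0x30102050004) (nat_lit 3073))
 (.leaf (nat_lit 0x30102050400) (nat_lit 3329))
)) (.node (nat_lit 0x30104000502) (.leaf (nat_lit 0x30104000205) (nat_lit 3329))
 (.node (nat_lit 0x30104020005) (.leaf (nat_lit 0x30104000502) (nat_lit 3073))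
 (.leaf (nat_lit 0x30104020005) (nat_lit 3585))
))) (.node (nat_lit 0x30105000204) (.node (nat_lit 0x30104050002) (.leaf (nat_lit 0x30104020500) (nat_lit 3841))
 (.node (nat_lit 0x30104050200) (.leaf (nat_lit 0x30104050002) (nat_lit 3329))
 (.leaf (nat_lit 0x30104050200) (nat_lit 3073))
)) (.node (nat_lit 0x30105000402) (.leaf (nat_lit 0x30105000204) (nat_lit 3073))
 (.node (nat_lit 0x30105020004) (.leaf (nat_lit 0x30105000402) (nat_lit 2817))
 (.leaf (nat_lit 0x30105020004) (nat_lit 3329))
)))))) (.node (nat_lit 0x30205000401) (.node (nat_lit 0x30201040005) (.node (nat_lit 0x30200040105) (.node (nat_lit 0x30105040200) (.node (nat_lit 0x30105040002) (.leaf (nat_lit 0x30105020400) (nat_lit 3073))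
 (.leaf (nat_lit 0x30105040002) (nat_lit 3073))
) (.node (nat_lit 0x30200010405) (.leaf (nat_lit 0x30105040200) (nat_lit 2817))
 (.node (nat_lit 0x30200010504) (.leaf (nat_lit 0x30200010405) (nat_lit 1536))
 (.leaf (nat_lit 0x30200010504) (nat_lit 1280))
))) (.node (nat_lit 0x30200050401) (.node (nat_lit 0x30200040501) (.leaf (nat_lit 0x30200040105) (nat_lit 3329))
 (.node (nat_lit 0x30200050104) (.leaf (nat_lit 0x30200040501) (nat_lit 3073))
 (.leaf (nat_lit 0x30200050104) (nat_lit 1537))
)) (.node (nat_lit 0x30201000405) (.leaf (nat_lit 0x30200050401) (nat_lit 1281))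
 (.node (nat_lit 0x30201000504) (.leaf (nat_lit 0x30201000405) (nat_lit 1281))
 (.leaf (nat_lit 0x30201000504) (nat_lit 1025))
)))) (.node (nat_lit 0x30204000501) (.node (nat_lit 0x30201050004) (.node (nat_lit 0x30201040500) (.leaf (nat_lit 0x30201040005) (nat_lit 3073))
 (.leaf (nat_lit 0x30201040500) (nat_lit 3329))
) (.node (nat_lit 0x30201050400) (.leaf (nat_lit 0x30201050004) (nat_lit 1792))
 (.node (nat_lit 0x30204000105) (.leaf (nat_lit 0x30201050400) (nat_lit 1536))
 (.leaf (nat_lit 0x30204000105) (nat_lit 3585))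
))) (.node (nat_lit 0x30204050001) (.node (nat_lit 0x30204010005) (.leaf (nat_lit 0x30204000501) (nat_lit 3329))
 (.node (nat_lit 0x30204010500) (.leaf (nat_lit 0x30204010005) (nat_lit 3329))
 (.leaf (nat_lit 0x30204010500) (nat_lit 3585))
)) (.node (nat_lit 0x30204050100) (.leaf (nat_lit 0x30204050001) (nat_lit 3585))
 (.node (nat_lit 0x30205000104) (.leaf (nat_lit 0x30204050100) (nat_lit 3329))
 (.leaf (nat_lit 0x30205000104) (nat_lit 3329))
))))) (.node (nat_lit 0x30401000205) (.node (nat_lit 0x30400010205) (.node (nat_lit 0x30205010400) (.node (nat_lit 0x30205010004) (.leaf (nat_lit 0x30205000401) (nat_lit 3073))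
 (.leaf (nat_lit 0x30205010004) (nat_lit 3073))
) (.node (nat_lit 0x30205040001) (.leaf (nat_lit 0x30205010400) (nat_lit 3329))
 (.node (nat_lit 0x30205040100) (.leaf (nat_lit 0x30205040001) (nat_lit 3329))
 (.leaf (nat_lit 0x30205040100) (nat_lit 3073))
))) (.node (nat_lit 0x30400020501) (.node (nat_lit 0x30400010502) (.leaf (nat_lit 0x30400010205) (nat_lit 3841))
 (.node (nat_lit 0x30400020105) (.leaf (nat_lit 0x30400010502) (nat_lit 3585))
 (.leaf (nat_lit 0x30400020105) (nat_lit 2048))
)) (.node (nat_lit 0x30400050102) (.leaf (nat_lit 0x30400020501) (nat_lit 2304))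
 (.node (nat_lit 0x30400050201) (.leaf (nat_lit 0x30400050102) (nat_lit 3329))
 (.leaf (nat_lit 0x30400050201) (nat_lit 3073))
)))) (.node (nat_lit 0x30402000105) (.node (nat_lit 0x30401020500) (.node (nat_lit 0x30401000502) (.leaf (nat_lit 0x30401000205) (nat_lit 3585))
 (.node (nat_lit 0x30401020005) (.leaf (nat_lit 0x30401000502) (nat_lit 3329))
 (.leaf (nat_lit 0x30401020005) (nat_lit 1793))
)) (.node (nat_lit 0x30401050002) (.leaf (nat_lit 0x30401020500) (nat_lit 2049))
 (.node (nat_lit 0x30401050200) (.leaf (nat_lit 0x30401050002) (nat_lit 3584))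
 (.leaf (nat_lit 0x30401050200) (nat_lit 3328))
))) (.node (nat_lit 0x30402010500) (.node (nat_lit 0x30402000501) (.leaf (nat_lit 0x30402000105) (nat_lit 1792))
 (.node (nat_lit 0x30402010005) (.leaf (nat_lit 0x30402000501) (nat_lit 2048))
 (.leaf (nat_lit 0x30402010005) (nat_lit 1537))
)) (.node (nat_lit 0x30402050001) (.leaf (nat_lit 0x30402010500) (nat_lit 1793))
 (.node (nat_lit 0x30402050100) (.leaf (nat_lit 0x30402050001) (nat_lit 3841))
 (.leaf (nat_lit 0x30402050100) (nat_lit 3585))
))))))) (.node (nat_lit 0x40003020501) (.node (nat_lit 0x30502040001) (.node (nat_lit 0x30500040201) (.node (nat_lit 0x30405020100) (.node (nat_lit 0x30405010002) (.node (nat_lit 0x30405000201) (.leaf (nat_lit 0x30405000102) (nat_lit 4096))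
 (.leaf (nat_lit 0x30405000201) (nat_lit 4352))
) (.node (nat_lit 0x30405010200) (.leaf (nat_lit 0x30405010002) (nat_lit 3841))
 (.node (nat_lit 0x30405020001) (.leaf (nat_lit 0x30405010200) (nat_lit 4097))
 (.leaf (nat_lit 0x30405020001) (nat_lit 4097))
))) (.node (nat_lit 0x30500020104) (.node (nat_lit 0x30500010204) (.leaf (nat_lit 0x30405020100) (nat_lit 3841))
 (.node (nat_lit 0x30500010402) (.leaf (nat_lit 0x30500010204) (nat_lit 3584))
 (.leaf (nat_lit 0x30500010402) (nat_lit 3328))
)) (.node (nat_lit 0x30500020401) (.leaf (nat_lit 0x30500020104) (nat_lit 3329))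
 (.node (nat_lit 0x30500040102) (.leaf (nat_lit 0x30500020401) (nat_lit 3073))
 (.leaf (nat_lit 0x30500040102) (nat_lit 3073))
)))) (.node (nat_lit 0x30501040002) (.node (nat_lit 0x30501000402) (.node (nat_lit 0x30501000204) (.leaf (nat_lit 0x30500040201) (nat_lit 2817))
 (.leaf (nat_lit 0x30501000204) (nat_lit 3329))
) (.node (nat_lit 0x30501020004) (.leaf (nat_lit 0x30501000402) (nat_lit 3073))
 (.node (nat_lit 0x30501020400) (.leaf (nat_lit 0x30501020004) (nat_lit 3584))
 (.leaf (nat_lit 0x30501020400) (nat_lit 3328))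
))) (.node (nat_lit 0x30502000401) (.node (nat_lit 0x30501040200) (.leaf (nat_lit 0x30501040002) (nat_lit 3328))
 (.node (nat_lit 0x30502000104) (.leaf (nat_lit 0x30501040200) (nat_lit 3072))
 (.leaf (nat_lit 0x30502000104) (nat_lit 3585))
)) (.node (nat_lit 0x30502010004) (.leaf (nat_lit 0x30502000401) (nat_lit 3329))
 (.node (nat_lit 0x30502010400) (.leaf (nat_lit 0x30502010004) (nat_lit 3329))
 (.leaf (nat_lit 0x30502010400) (nat_lit 3585))
))))) (.node (nat_lit 0x40001030502) (.node (nat_lit 0x30504010200) (.node (nat_lit 0x30504000102) (.node (nat_lit 0x30502040100) (.leaf (nat_lit 0x30502040001) (nat_lit 4097))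
 (.leaf (nat_lit 0x30502040100) (nat_lit 3841))
) (.node (nat_lit 0x30504000201) (.leaf (nat_lit 0x30504000102) (nat_lit 2816))
 (.node (nat_lit 0x30504010002) (.leaf (nat_lit 0x30504000201) (nat_lit 2560))
 (.leaf (nat_lit 0x30504010002) (nat_lit 2561))
))) (.node (nat_lit 0x40001020305) (.node (nat_lit 0x30504020001) (.leaf (nat_lit 0x30504010200) (nat_lit 2305))
 (.node (nat_lit 0x30504020100) (.leaf (nat_lit 0x30504020001) (nat_lit 2305))
 (.leaf (nat_lit 0x30504020100) (nat_lit 2049))
)) (.node (nat_lit 0x40001020503) (.leaf (nat_lit 0x40001020305) (nat_lit 3841))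
 (.node (nat_lit 0x40001030205) (.leaf (nat_lit 0x40001020503) (nat_lit 3585))
 (.leaf (nat_lit 0x40001030205) (nat_lit 3585))
)))) (.node (nat_lit 0x40002030501) (.node (nat_lit 0x40002010305) (.node (nat_lit 0x40001050203) (.leaf (nat_lit 0x40001030502) (nat_lit 3329))
 (.node (nat_lit 0x40001050302) (.leaf (nat_lit 0x40001050203) (nat_lit 3329))
 (.leaf (nat_lit 0x40001050302) (nat_lit 3073))
)) (.node (nat_lit 0x40002010503) (.leaf (nat_lit 0x40002010305) (nat_lit 2048))
 (.node (nat_lit 0x40002030105) (.leaf (nat_lit 0x40002010503) (nat_lit 1792))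
 (.leaf (nat_lit 0x40002030105) (nat_lit 3841))
))) (.node (nat_lit 0x40003010205) (.node (nat_lit 0x40002050103) (.leaf (nat_lit 0x40002030501) (nat_lit 3585))
 (.node (nat_lit 0x40002050301) (.leaf (nat_lit 0x40002050103) (nat_lit 3585))
 (.leaf (nat_lit 0x40002050301) (nat_lit 3329))
)) (.node (nat_lit 0x40003010502) (.leaf (nat_lit 0x40003010205) (nat_lit 3841))
 (.node (nat_lit 0x40003020105) (.leaf (nat_lit 0x40003010502) (nat_lit 3585))
 (.leaf (nat_lit 0x40003020105) (nat_lit 2048))
)))))) (.node (nat_lit 0x40103000502) (.node (nat_lit 0x40100030205) (.node (nat_lit 0x40005020103) (.node (nat_lit 0x40003050201) (.node (nat_lit 0x40003050102) (.leaf (nat_lit 0x40003020501) (nat_lit 2304))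
 (.leaf (nat_lit 0x40003050102) (nat_lit 3840))
) (.node (nat_lit 0x40005010203) (.leaf (nat_lit 0x40003050201) (nat_lit 4096))
 (.node (nat_lit 0x40005010302) (.leaf (nat_lit 0x40005010203) (nat_lit 3073))
 (.leaf (nat_lit 0x40005010302) (nat_lit 2817))
))) (.node (nat_lit 0x40005030201) (.node (nat_lit 0x40005020301) (.leaf (nat_lit 0x40005020103) (nat_lit 2817))
 (.node (nat_lit 0x40005030102) (.leaf (nat_lit 0x40005020301) (nat_lit 2561))
 (.leaf (nat_lit 0x40005030102) (nat_lit 2561))
)) (.node (nat_lit 0x40100020305) (.leaf (nat_lit 0x40005030201) (nat_lit 2305))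
 (.node (nat_lit 0x40100020503) (.leaf (nat_lit 0x40100020305) (nat_lit 3585))
 (.leaf (nat_lit 0x40100020503) (nat_lit 3329))
)))) (.node (nat_lit 0x40102000503) (.node (nat_lit 0x40100050203) (.node (nat_lit 0x40100030502) (.leaf (nat_lit 0x40100030205) (nat_lit 3329))
 (.leaf (nat_lit 0x40100030502) (nat_lit 3073))
) (.node (nat_lit 0x40100050302) (.leaf (nat_lit 0x40100050203) (nat_lit 3073))
 (.node (nat_lit 0x40102000305) (.leaf (nat_lit 0x40100050302) (nat_lit 2817))
 (.leaf (nat_lit 0x40102000305) (nat_lit 1793))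
))) (.node (nat_lit 0x40102050003) (.node (nat_lit 0x40102030005) (.leaf (nat_lit 0x40102000503) (nat_lit 1537))
 (.node (nat_lit 0x40102030500) (.leaf (nat_lit 0x40102030005) (nat_lit 3585))
 (.leaf (nat_lit 0x40102030500) (nat_lit 3841))
)) (.node (nat_lit 0x40102050300) (.leaf (nat_lit 0x40102050003) (nat_lit 3329))
 (.node (nat_lit 0x40103000205) (.leaf (nat_lit 0x40102050300) (nat_lit 3585))
 (.leaf (nat_lit 0x40103000205) (nat_lit 3585))
))))) (.node (nat_lit 0x40200010305) (.node (nat_lit 0x40105000203) (.node (nat_lit 0x40103020500) (.node (nat_lit 0x40103020005) (.leaf (nat_lit 0x40103000502) (nat_lit 3329))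
 (.leaf (nat_lit 0x40103020005) (nat_lit 1793))
) (.node (nat_lit 0x40103050002) (.leaf (nat_lit 0x40103020500) (nat_lit 2049))
 (.node (nat_lit 0x40103050200) (.leaf (nat_lit 0x40103050002) (nat_lit 3585))
 (.leaf (nat_lit 0x40103050200) (nat_lit 3841))
))) (.node (nat_lit 0x40105020300) (.node (nat_lit 0x40105000302) (.leaf (nat_lit 0x40105000203) (nat_lit 3329))
 (.node (nat_lit 0x40105020003) (.leaf (nat_lit 0x40105000302) (nat_lit 3073))
 (.leaf (nat_lit 0x40105020003) (nat_lit 3072))
)) (.node (nat_lit 0x40105030002) (.leaf (nat_lit 0x40105020300) (nat_lit 2816))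
 (.node (nat_lit 0x40105030200) (.leaf (nat_lit 0x40105030002) (nat_lit 2816))
 (.leaf (nat_lit 0x40105030200) (nat_lit 2560))
)))) (.node (nat_lit 0x40201000305) (.node (nat_lit 0x40200030501) (.node (nat_lit 0x40200010503) (.leaf (nat_lit 0x40200010305) (nat_lit 1792))
 (.node (nat_lit 0x40200030105) (.leaf (nat_lit 0x40200010503) (nat_lit 1536))
 (.leaf (nat_lit 0x40200030105) (nat_lit 3585))
)) (.node (nat_lit 0x40200050103) (.leaf (nat_lit 0x40200030501) (nat_lit 3329))
 (.node (nat_lit 0x40200050301) (.leaf (nat_lit 0x40200050103) (nat_lit 3329))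
 (.leaf (nat_lit 0x40200050301) (nat_lit 3073))
))) (.node (nat_lit 0x40201030500) (.node (nat_lit 0x40201000503) (.leaf (nat_lit 0x40201000305) (nat_lit 1537))
 (.node (nat_lit 0x40201030005) (.leaf (nat_lit 0x40201000503) (nat_lit 1281))
 (.leaf (nat_lit 0x40201030005) (nat_lit 3329))
)) (.node (nat_lit 0x40201050003) (.leaf (nat_lit 0x40201030500) (nat_lit 3585))
 (.node (nat_lit 0x40201050300) (.leaf (nat_lit 0x40201050003) (nat_lit 3073))
 (.leaf (nat_lit 0x40201050300) (nat_lit 3329))
)))))))) (.node (nat_lit 0x50102000304) (.node (nat_lit 0x40501020300) (.node (nat_lit 0x40301050002) (.node (nat_lit 0x40205030100) (.node (nat_lit 0x40203050100) (.node (nat_lit 0x40203010005) (.node (nat_lit 0x40203000501) (.leaf (nat_lit 0x40203000105) (nat_lit 1792))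
 (.leaf (nat_lit 0x40203000501) (nat_lit 2048))
) (.node (nat_lit 0x40203010500) (.leaf (nat_lit 0x40203010005) (nat_lit 1537))
 (.node (nat_lit 0x40203050001) (.leaf (nat_lit 0x40203010500) (nat_lit 1793))
 (.leaf (nat_lit 0x40203050001) (nat_lit 3841))
))) (.node (nat_lit 0x40205010003) (.node (nat_lit 0x40205000103) (.leaf (nat_lit 0x40203050100) (nat_lit 3585))
 (.node (nat_lit 0x40205000301) (.leaf (nat_lit 0x40205000103) (nat_lit 3585))
 (.leaf (nat_lit 0x40205000301) (nat_lit 3329))
)) (.node (nat_lit 0x40205010300) (.leaf (nat_lit 0x40205010003) (nat_lit 3329))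
 (.node (nat_lit 0x40205030001) (.leaf (nat_lit 0x40205010300) (nat_lit 3585))
 (.leaf (nat_lit 0x40205030001) (nat_lit 4097))
)))) (.node (nat_lit 0x40300050102) (.node (nat_lit 0x40300010502) (.node (nat_lit 0x40300010205) (.leaf (nat_lit 0x40205030100) (nat_lit 3841))
 (.leaf (nat_lit 0x40300010205) (nat_lit 2048))
) (.node (nat_lit 0x40300020105) (.leaf (nat_lit 0x40300010502) (nat_lit 1792))
 (.node (nat_lit 0x40300020501) (.leaf (nat_lit 0x40300020105) (nat_lit 1792))
 (.leaf (nat_lit 0x40300020501) (nat_lit 2048))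
))) (.node (nat_lit 0x40301000502) (.node (nat_lit 0x40300050201) (.leaf (nat_lit 0x40300050102) (nat_lit 3585))
 (.node (nat_lit 0x40301000205) (.leaf (nat_lit 0x40300050201) (nat_lit 3329))
 (.leaf (nat_lit 0x40301000205) (nat_lit 1793))
)) (.node (nat_lit 0x40301020005) (.leaf (nat_lit 0x40301000502) (nat_lit 1537))
 (.node (nat_lit 0x40301020500) (.leaf (nat_lit 0x40301020005) (nat_lit 1537))
 (.leaf (nat_lit 0x40301020500) (nat_lit 1793))
))))) (.node (nat_lit 0x40305010200) (.node (nat_lit 0x40302010500) (.node (nat_lit 0x40302000105) (.node (nat_lit 0x40301050200) (.leaf (nat_lit 0x40301050002) (nat_lit 3329))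
 (.leaf (nat_lit 0x40301050200) (nat_lit 3585))
) (.node (nat_lit 0x40302000501) (.leaf (nat_lit 0x40302000105) (nat_lit 1536))
 (.node (nat_lit 0x40302010005) (.leaf (nat_lit 0x40302000501) (nat_lit 1792))
 (.leaf (nat_lit 0x40302010005) (nat_lit 1281))
))) (.node (nat_lit 0x40305000102) (.node (nat_lit 0x40302050001) (.leaf (nat_lit 0x40302010500) (nat_lit 1537))
 (.node (nat_lit 0x40302050100) (.leaf (nat_lit 0x40302050001) (nat_lit 3585))
 (.leaf (nat_lit 0x40302050100) (nat_lit 3329))
)) (.node (nat_lit 0x40305000201) (.leaf (nat_lit 0x40305000102) (nat_lit 3841))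
 (.node (nat_lit 0x40305010002) (.leaf (nat_lit 0x40305000201) (nat_lit 3585))
 (.leaf (nat_lit 0x40305010002) (nat_lit 3585))
)))) (.node (nat_lit 0x40500020301) (.node (nat_lit 0x40500010203) (.node (nat_lit 0x40305020001) (.leaf (nat_lit 0x40305010200) (nat_lit 3841))
 (.node (nat_lit 0x40305020100) (.leaf (nat_lit 0x40305020001) (nat_lit 3841))
 (.leaf (nat_lit 0x40305020100) (nat_lit 3585))
)) (.node (nat_lit 0x40500010302) (.leaf (nat_lit 0x40500010203) (nat_lit 3840))
 (.node (nat_lit 0x40500020103) (.leaf (nat_lit 0x40500010302) (nat_lit 3584))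
 (.leaf (nat_lit 0x40500020103) (nat_lit 4097))
))) (.node (nat_lit 0x40501000203) (.node (nat_lit 0x40500030102) (.leaf (nat_lit 0x40500020301) (nat_lit 4353))
 (.node (nat_lit 0x40500030201) (.leaf (nat_lit 0x40500030102) (nat_lit 2816))
 (.leaf (nat_lit 0x40500030201) (nat_lit 2560))
)) (.node (nat_lit 0x40501000302) (.leaf (nat_lit 0x40501000203) (nat_lit 3585))
 (.node (nat_lit 0x40501020003) (.leaf (nat_lit 0x40501000302) (nat_lit 3329))
 (.leaf (nat_lit 0x40501020003) (nat_lit 3841))
)))))) (.node (nat_lit 0x50002010403) (.node (nat_lit 0x40503010002) (.node (nat_lit 0x40502010003) (.node (nat_lit 0x40501030200) (.node (nat_lit 0x40501030002) (.leaf (nat_lit 0x40501020300) (nat_lit 4097))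
 (.leaf (nat_lit 0x40501030002) (nat_lit 2561))
) (.node (nat_lit 0x40502000103) (.leaf (nat_lit 0x40501030200) (nat_lit 2305))
 (.node (nat_lit 0x40502000301) (.leaf (nat_lit 0x40502000103) (nat_lit 3841))
 (.leaf (nat_lit 0x40502000301) (nat_lit 3585))
))) (.node (nat_lit 0x40502030100) (.node (nat_lit 0x40502010300) (.leaf (nat_lit 0x40502010003) (nat_lit 3585))
 (.node (nat_lit 0x40502030001) (.leaf (nat_lit 0x40502010300) (nat_lit 3841))
 (.leaf (nat_lit 0x40502030001) (nat_lit 2305))
)) (.node (nat_lit 0x40503000102) (.leaf (nat_lit 0x40502030100) (nat_lit 2049))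
 (.node (nat_lit 0x40503000201) (.leaf (nat_lit 0x40503000102) (nat_lit 2560))
 (.leaf (nat_lit 0x40503000201) (nat_lit 2304))
)))) (.node (nat_lit 0x50001020403) (.node (nat_lit 0x40503020001) (.node (nat_lit 0x40503010200) (.leaf (nat_lit 0x40503010002) (nat_lit 2305))
 (.leaf (nat_lit 0x40503010200) (nat_lit 2049))
) (.node (nat_lit 0x40503020100) (.leaf (nat_lit 0x40503020001) (nat_lit 2049))
 (.node (nat_lit 0x50001020304) (.leaf (nat_lit 0x40503020100) (nat_lit 1793))
 (.leaf (nat_lit 0x50001020304) (nat_lit 3584))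
))) (.node (nat_lit 0x50001040203) (.node (nat_lit 0x50001030204) (.leaf (nat_lit 0x50001020403) (nat_lit 3328))
 (.node (nat_lit 0x50001030402) (.leaf (nat_lit 0x50001030204) (nat_lit 3328))
 (.leaf (nat_lit 0x50001030402) (nat_lit 3072))
)) (.node (nat_lit 0x50001040302) (.leaf (nat_lit 0x50001040203) (nat_lit 3072))
 (.node (nat_lit 0x50002010304) (.leaf (nat_lit 0x50001040302) (nat_lit 2816))
 (.leaf (nat_lit 0x50002010304) (nat_lit 3841))
))))) (.node (nat_lit 0x50004010203) (.node (nat_lit 0x50003010204) (.node (nat_lit 0x50002030401) (.node (nat_lit 0x50002030104) (.leaf (nat_lit 0x50002010403) (nat_lit 3585))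
 (.leaf (nat_lit 0x50002030104) (nat_lit 4097))
) (.node (nat_lit 0x50002040103) (.leaf (nat_lit 0x50002030401) (nat_lit 4353))
 (.node (nat_lit 0x50002040301) (.leaf (nat_lit 0x50002040103) (nat_lit 2817))
 (.leaf (nat_lit 0x50002040301) (nat_lit 2561))
))) (.node (nat_lit 0x50003020401) (.node (nat_lit 0x50003010402) (.leaf (nat_lit 0x50003010204) (nat_lit 4097))
 (.node (nat_lit 0x50003020104) (.leaf (nat_lit 0x50003010402) (nat_lit 3841))
 (.leaf (nat_lit 0x50003020104) (nat_lit 2304))
)) (.node (nat_lit 0x50003040102) (.leaf (nat_lit 0x50003020401) (nat_lit 2560))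
 (.node (nat_lit 0x50003040201) (.leaf (nat_lit 0x50003040102) (nat_lit 2561))
 (.leaf (nat_lit 0x50003040201) (nat_lit 2305))
)))) (.node (nat_lit 0x50100020304) (.node (nat_lit 0x50004020301) (.node (nat_lit 0x50004010302) (.leaf (nat_lit 0x50004010203) (nat_lit 2817))
 (.node (nat_lit 0x50004020103) (.leaf (nat_lit 0x50004010302) (nat_lit 2561))
 (.leaf (nat_lit 0x50004020103) (nat_lit 2561))
)) (.node (nat_lit 0x50004030102) (.leaf (nat_lit 0x50004020301) (nat_lit 2305))
 (.node (nat_lit 0x50004030201) (.leaf (nat_lit 0x50004030102) (nat_lit 2305))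
 (.leaf (nat_lit 0x50004030201) (nat_lit 2049))
))) (.node (nat_lit 0x50100030402) (.node (nat_lit 0x50100020403) (.leaf (nat_lit 0x50100020304) (nat_lit 3329))
 (.node (nat_lit 0x50100030204) (.leaf (nat_lit 0x50100020403) (nat_lit 3073))
 (.leaf (nat_lit 0x50100030204) (nat_lit 3073))
)) (.node (nat_lit 0x50100040203) (.leaf (nat_lit 0x50100030402) (nat_lit 2817))
 (.node (nat_lit 0x50100040302) (.leaf (nat_lit 0x50100040203) (nat_lit 2817))
 (.leaf (nat_lit 0x50100040302) (nat_lit 2561))
))))))) (.node (nat_lit 0x50300020401) (.node (nat_lit 0x50200040103) (.node (nat_lit 0x50103040200) (.node (nat_lit 0x50102040300) (.node (nat_lit 0x50102030004) (.node (nat_lit 0x50102000403) (.leaf (nat_lit 0x50102000304) (nat_lit 3585))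
 (.leaf (nat_lit 0x50102000403) (nat_lit 3329))
) (.node (nat_lit 0x50102030400) (.leaf (nat_lit 0x50102030004) (nat_lit 3841))
 (.node (nat_lit 0x50102040003) (.leaf (nat_lit 0x50102030400) (nat_lit 4097))
 (.leaf (nat_lit 0x50102040003) (nat_lit 3072))
))) (.node (nat_lit 0x50103020004) (.node (nat_lit 0x50103000204) (.leaf (nat_lit 0x50102040300) (nat_lit 2816))
 (.node (nat_lit 0x50103000402) (.leaf (nat_lit 0x50103000204) (nat_lit 3841))
 (.leaf (nat_lit 0x50103000402) (nat_lit 3585))
)) (.node (nat_lit 0x50103020400) (.leaf (nat_lit 0x50103020004) (nat_lit 2049))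
 (.node (nat_lit 0x50103040002) (.leaf (nat_lit 0x50103020400) (nat_lit 2305))
 (.leaf (nat_lit 0x50103040002) (nat_lit 2816))
)))) (.node (nat_lit 0x50104030002) (.node (nat_lit 0x50104000302) (.node (nat_lit 0x50104000203) (.leaf (nat_lit 0x50103040200) (nat_lit 2560))
 (.leaf (nat_lit 0x50104000203) (nat_lit 3072))
) (.node (nat_lit 0x50104020003) (.leaf (nat_lit 0x50104000302) (nat_lit 2816))
 (.node (nat_lit 0x50104020300) (.leaf (nat_lit 0x50104020003) (nat_lit 2816))
 (.leaf (nat_lit 0x50104020300) (nat_lit 2560))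
))) (.node (nat_lit 0x50200010403) (.node (nat_lit 0x50104030200) (.leaf (nat_lit 0x50104030002) (nat_lit 2560))
 (.node (nat_lit 0x50200010304) (.leaf (nat_lit 0x50104030200) (nat_lit 2304))
 (.leaf (nat_lit 0x50200010304) (nat_lit 3585))
)) (.node (nat_lit 0x50200030104) (.leaf (nat_lit 0x50200010403) (nat_lit 3329))
 (.node (nat_lit 0x50200030401) (.leaf (nat_lit 0x50200030104) (nat_lit 3329))
 (.leaf (nat_lit 0x50200030401) (nat_lit 3073))
))))) (.node (nat_lit 0x50203010400) (.node (nat_lit 0x50201030400) (.node (nat_lit 0x50201000304) (.node (nat_lit 0x50200040301) (.leaf (nat_lit 0x50200040103) (nat_lit 3073))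
 (.leaf (nat_lit 0x50200040301) (nat_lit 2817))
) (.node (nat_lit 0x50201000403) (.leaf (nat_lit 0x50201000304) (nat_lit 3329))
 (.node (nat_lit 0x50201030004) (.leaf (nat_lit 0x50201000403) (nat_lit 3073))
 (.leaf (nat_lit 0x50201030004) (nat_lit 3584))
))) (.node (nat_lit 0x50203000104) (.node (nat_lit 0x50201040003) (.leaf (nat_lit 0x50201030400) (nat_lit 3328))
 (.node (nat_lit 0x50201040300) (.leaf (nat_lit 0x50201040003) (nat_lit 3328))
 (.leaf (nat_lit 0x50201040300) (nat_lit 3072))
)) (.node (nat_lit 0x50203000401) (.leaf (nat_lit 0x50203000104) (nat_lit 2048))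
 (.node (nat_lit 0x50203010004) (.leaf (nat_lit 0x50203000401) (nat_lit 2304))
 (.leaf (nat_lit 0x50203010004) (nat_lit 1793))
)))) (.node (nat_lit 0x50204010300) (.node (nat_lit 0x50204000103) (.node (nat_lit 0x50203040001) (.leaf (nat_lit 0x50203010400) (nat_lit 2049))
 (.node (nat_lit 0x50203040100) (.leaf (nat_lit 0x50203040001) (nat_lit 4097))
 (.leaf (nat_lit 0x50203040100) (nat_lit 3841))
)) (.node (nat_lit 0x50204000301) (.leaf (nat_lit 0x50204000103) (nat_lit 3841))
 (.node (nat_lit 0x50204010003) (.leaf (nat_lit 0x50204000301) (nat_lit 4097))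
 (.leaf (nat_lit 0x50204010003) (nat_lit 3585))
))) (.node (nat_lit 0x50300010204) (.node (nat_lit 0x50204030001) (.leaf (nat_lit 0x50204010300) (nat_lit 3841))
 (.node (nat_lit 0x50204030100) (.leaf (nat_lit 0x50204030001) (nat_lit 2305))
 (.leaf (nat_lit 0x50204030100) (nat_lit 2049))
)) (.node (nat_lit 0x50300010402) (.leaf (nat_lit 0x50300010204) (nat_lit 3841))
 (.node (nat_lit 0x50300020104) (.leaf (nat_lit 0x50300010402) (nat_lit 3585))
 (.leaf (nat_lit 0x50300020104) (nat_lit 2048))
)))))) (.node (nat_lit 0x50400010302) (.node (nat_lit 0x50302010004) (.node (nat_lit 0x50301020004) (.node (nat_lit 0x50300040201) (.node (nat_lit 0x50300040102) (.leaf (nat_lit 0x50300020401) (nat_lit 2304))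
 (.leaf (nat_lit 0x50300040102) (nat_lit 3840))
) (.node (nat_lit 0x50301000204) (.leaf (nat_lit 0x50300040201) (nat_lit 4096))
 (.node (nat_lit 0x50301000402) (.leaf (nat_lit 0x50301000204) (nat_lit 3585))
 (.leaf (nat_lit 0x50301000402) (nat_lit 3329))
))) (.node (nat_lit 0x50301040200) (.node (nat_lit 0x50301020400) (.leaf (nat_lit 0x50301020004) (nat_lit 1793))
 (.node (nat_lit 0x50301040002) (.leaf (nat_lit 0x50301020400) (nat_lit 2049))
 (.leaf (nat_lit 0x50301040002) (nat_lit 3585))
)) (.node (nat_lit 0x50302000104) (.leaf (nat_lit 0x50301040200) (nat_lit 3841))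
 (.node (nat_lit 0x50302000401) (.leaf (nat_lit 0x50302000104) (nat_lit 1792))
 (.leaf (nat_lit 0x50302000401) (nat_lit 2048))
)))) (.node (nat_lit 0x50304000201) (.node (nat_lit 0x50302040001) (.node (nat_lit 0x50302010400) (.leaf (nat_lit 0x50302010004) (nat_lit 1537))
 (.leaf (nat_lit 0x50302010400) (nat_lit 1793))
) (.node (nat_lit 0x50302040100) (.leaf (nat_lit 0x50302040001) (nat_lit 3841))
 (.node (nat_lit 0x50304000102) (.leaf (nat_lit 0x50302040100) (nat_lit 3585))
 (.leaf (nat_lit 0x50304000102) (nat_lit 2560))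
))) (.node (nat_lit 0x50304020001) (.node (nat_lit 0x50304010002) (.leaf (nat_lit 0x50304000201) (nat_lit 2304))
 (.node (nat_lit 0x50304010200) (.leaf (nat_lit 0x50304010002) (nat_lit 2305))
 (.leaf (nat_lit 0x50304010200) (nat_lit 2049))
)) (.node (nat_lit 0x50304020100) (.leaf (nat_lit 0x50304020001) (nat_lit 2049))
 (.node (nat_lit 0x50400010203) (.leaf (nat_lit 0x50304020100) (nat_lit 1793))
 (.leaf (nat_lit 0x50400010203) (nat_lit 4097))
))))) (.node (nat_lit 0x50402000103) (.node (nat_lit 0x50401000203) (.node (nat_lit 0x50400020301) (.node (nat_lit 0x50400020103) (.leaf (nat_lit 0x50400010302) (nat_lit 3841))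
 (.leaf (nat_lit 0x50400020103) (nat_lit 2304))
) (.node (nat_lit 0x50400030102) (.leaf (nat_lit 0x50400020301) (nat_lit 2560))
 (.node (nat_lit 0x50400030201) (.leaf (nat_lit 0x50400030102) (nat_lit 2560))
 (.leaf (nat_lit 0x50400030201) (nat_lit 2304))
))) (.node (nat_lit 0x50401020300) (.node (nat_lit 0x50401000302) (.leaf (nat_lit 0x50401000203) (nat_lit 3841))
 (.node (nat_lit 0x50401020003) (.leaf (nat_lit 0x50401000302) (nat_lit 3585))
 (.leaf (nat_lit 0x50401020003) (nat_lit 2049))
)) (.node (nat_lit 0x50401030002) (.leaf (nat_lit 0x50401020300) (nat_lit 2305))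
 (.node (nat_lit 0x50401030200) (.leaf (nat_lit 0x50401030002) (nat_lit 2305))
 (.leaf (nat_lit 0x50401030200) (nat_lit 2049))
)))) (.node (nat_lit 0x50403000102) (.node (nat_lit 0x50402010300) (.node (nat_lit 0x50402000301) (.leaf (nat_lit 0x50402000103) (nat_lit 2048))
 (.node (nat_lit 0x50402010003) (.leaf (nat_lit 0x50402000301) (nat_lit 2304))
 (.leaf (nat_lit 0x50402010003) (nat_lit 1793))
)) (.node (nat_lit 0x50402030001) (.leaf (nat_lit 0x50402010300) (nat_lit 2049))
 (.node (nat_lit 0x50402030100) (.leaf (nat_lit 0x50402030001) (nat_lit 2049))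
 (.leaf (nat_lit 0x50402030100) (nat_lit 1793))
))) (.node (nat_lit 0x50403010200) (.node (nat_lit 0x50403000201) (.leaf (nat_lit 0x50403000102) (nat_lit 2304))
 (.node (nat_lit 0x50403010002) (.leaf (nat_lit 0x50403000201) (nat_lit 2048))
 (.leaf (nat_lit 0x50403010002) (nat_lit 2049))
)) (.node (nat_lit 0x50403020001) (.leaf (nat_lit 0x50403010200) (nat_lit 1793))
 (.node (nat_lit 0x50403020100) (.leaf (nat_lit 0x50403020001) (nat_lit 256))
 (.leaf (nat_lit 0x50403020100) (nat_lit 0))
))))))))))

theorem Sy6_ok : genOK P6 [(nat_lit 0x50403020001), (nat_lit 0x504030201)] Sy6_t (nat_lit 720) = true := by decide +kernel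

noncomputable def y1_t : ST :=
(.node (nat_lit 0x50003020401) (.node (nat_lit 0x20405030100) (.node (nat_lit 0x10403050200) (.node (nat_lit 0x405020103) (.node (nat_lit 0x403050102) (.leaf (nat_lit 0x403020501) (nat_lit 1281))
 (.leaf (nat_lit 0x403050102) (nat_lit 1537))
) (.node (nat_lit 0x503020104) (.leaf (nat_lit 0x405020103) (nat_lit 1281))
 (.node (nat_lit 0x10403020005) (.leaf (nat_lit 0x503020104) (nat_lit 1025))
 (.leaf (nat_lit 0x10403020005) (nat_lit 1537))
))) (.node (nat_lit 0x10503020400) (.node (nat_lit 0x10405020300) (.leaf (nat_lit 0x10403050200) (nat_lit 1792))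
 (.leaf (nat_lit 0x10405020300) (nat_lit 1536))
) (.node (nat_lit 0x20403000105) (.leaf (nat_lit 0x10503020400) (nat_lit 1281))
 (.node (nat_lit 0x20403010500) (.leaf (nat_lit 0x20403000105) (nat_lit 1793))
 (.leaf (nat_lit 0x20403010500) (nat_lit 2048))
)))) (.node (nat_lit 0x30504020100) (.node (nat_lit 0x30400020105) (.node (nat_lit 0x20503040100) (.leaf (nat_lit 0x20405030100) (nat_lit 2305))
 (.leaf (nat_lit 0x20503040100) (nat_lit 1025))
) (.node (nat_lit 0x30401020500) (.leaf (nat_lit 0x30400020105) (nat_lit 1537))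
 (.node (nat_lit 0x30402050100) (.leaf (nat_lit 0x30401020500) (nat_lit 1792))
 (.leaf (nat_lit 0x30402050100) (nat_lit 2561))
))) (.node (nat_lit 0x40103020500) (.node (nat_lit 0x40003020105) (.leaf (nat_lit 0x30504020100) (nat_lit 769))
 (.leaf (nat_lit 0x40003020105) (nat_lit 1281))
) (.node (nat_lit 0x40203050100) (.leaf (nat_lit 0x40103020500) (nat_lit 1537))
 (.node (nat_lit 0x40305020100) (.leaf (nat_lit 0x40203050100) (nat_lit 1281))
 (.leaf (nat_lit 0x40305020100) (nat_lit 1025))
))))) (.node (nat_lit 0x50301020400) (.node (nat_lit 0x50104020300) (.node (nat_lit 0x50004020103) (.node (nat_lit 0x50003040102) (.leaf (nat_lit 0x50003020401) (nat_lit 1537))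
 (.leaf (nat_lit 0x50003040102) (nat_lit 1793))
) (.node (nat_lit 0x50103020004) (.leaf (nat_lit 0x50004020103) (nat_lit 1024))
 (.node (nat_lit 0x50103040200) (.leaf (nat_lit 0x50103020004) (nat_lit 1793))
 (.leaf (nat_lit 0x50103040200) (nat_lit 2049))
))) (.node (nat_lit 0x50203010400) (.node (nat_lit 0x50203000104) (.leaf (nat_lit 0x50104020300) (nat_lit 769))
 (.leaf (nat_lit 0x50203000104) (nat_lit 2049))
) (.node (nat_lit 0x50204030100) (.leaf (nat_lit 0x50203010400) (nat_lit 2305))
 (.node (nat_lit 0x50300020104) (.leaf (nat_lit 0x50204030100) (nat_lit 513))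
 (.leaf (nat_lit 0x50300020104) (nat_lit 1280))
)))) (.node (nat_lit 0x50401030200) (.node (nat_lit 0x50400020301) (.node (nat_lit 0x50302040100) (.leaf (nat_lit 0x50301020400) (nat_lit 1025))
 (.leaf (nat_lit 0x50302040100) (nat_lit 769))
) (.node (nat_lit 0x50400030102) (.leaf (nat_lit 0x50400020301) (nat_lit 1793))
 (.node (nat_lit 0x50401020003) (.leaf (nat_lit 0x50400030102) (nat_lit 512))
 (.leaf (nat_lit 0x50401020003) (nat_lit 2049))
))) (.node (nat_lit 0x50402010300) (.node (nat_lit 0x50402000103) (.leaf (nat_lit 0x50401030200) (nat_lit 257))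
 (.leaf (nat_lit 0x50402000103) (nat_lit 768))
) (.node (nat_lit 0x50403000201) (.leaf (nat_lit 0x50402010300) (nat_lit 513))
 (.node (nat_lit 0x50403010002) (.leaf (nat_lit 0x50403000201) (nat_lit 0))
 (.leaf (nat_lit 0x50403010002) (nat_lit 256))
))))))

theorem y1_ok : orbOK P6 [(nat_lit 0x50403020001), (nat_lit 0x504030201)] (nat_lit 0x50403000201) y1_t (nat_lit 40) = true := by decide +kernel

noncomputable def y2_t : ST :=
(.node (nat_lit 0x20300010504) (.node (nat_lit 0x10204030005) (.node (nat_lit 0x302040501) (.node (nat_lit 0x204030501) (.node (nat_lit 0x105040203) (.leaf (nat_lit 0x104050302) (nat_lit 769))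
 (.leaf (nat_lit 0x105040203) (nat_lit 1281))
) (.node (nat_lit 0x205010403) (.leaf (nat_lit 0x204030501) (nat_lit 513))
 (.node (nat_lit 0x301050402) (.leaf (nat_lit 0x205010403) (nat_lit 1537))
 (.leaf (nat_lit 0x301050402) (nat_lit 1025))
))) (.node (nat_lit 0x502010304) (.node (nat_lit 0x501030204) (.leaf (nat_lit 0x302040501) (nat_lit 769))
 (.leaf (nat_lit 0x501030204) (nat_lit 257))
) (.node (nat_lit 0x10004050203) (.leaf (nat_lit 0x502010304) (nat_lit 513))
 (.node (nat_lit 0x10005040302) (.leaf (nat_lit 0x10004050203) (nat_lit 1024))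
 (.leaf (nat_lit 0x10005040302) (nat_lit 1536))
)))) (.node (nat_lit 0x10502000403) (.node (nat_lit 0x10300050204) (.node (nat_lit 0x10205000304) (.leaf (nat_lit 0x10204030005) (nat_lit 768))
 (.leaf (nat_lit 0x10205000304) (nat_lit 1792))
) (.node (nat_lit 0x10302040005) (.leaf (nat_lit 0x10300050204) (nat_lit 1280))
 (.node (nat_lit 0x10500030402) (.leaf (nat_lit 0x10302040005) (nat_lit 1024))
 (.leaf (nat_lit 0x10500030402) (nat_lit 512))
))) (.node (nat_lit 0x20005030401) (.node (nat_lit 0x20004010503) (.leaf (nat_lit 0x10502000403) (nat_lit 768))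
 (.leaf (nat_lit 0x20004010503) (nat_lit 2048))
) (.node (nat_lit 0x20104000305) (.leaf (nat_lit 0x20005030401) (nat_lit 1537))
 (.node (nat_lit 0x20105030004) (.leaf (nat_lit 0x20104000305) (nat_lit 1793))
 (.leaf (nat_lit 0x20105030004) (nat_lit 1793))
))))) (.node (nat_lit 0x30504000201) (.node (nat_lit 0x30002050401) (.node (nat_lit 0x20500040301) (.node (nat_lit 0x20301000405) (.leaf (nat_lit 0x20300010504) (nat_lit 2305))
 (.leaf (nat_lit 0x20301000405) (nat_lit 2049))
) (.node (nat_lit 0x20501040003) (.leaf (nat_lit 0x20500040301) (nat_lit 1025))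
 (.node (nat_lit 0x30001040502) (.leaf (nat_lit 0x20501040003) (nat_lit 1280))
 (.leaf (nat_lit 0x30001040502) (nat_lit 1792))
))) (.node (nat_lit 0x30102050004) (.node (nat_lit 0x30100040205) (.leaf (nat_lit 0x30002050401) (nat_lit 1793))
 (.leaf (nat_lit 0x30100040205) (nat_lit 1537))
) (.node (nat_lit 0x30200010405) (.leaf (nat_lit 0x30102050004) (nat_lit 2049))
 (.node (nat_lit 0x30201000504) (.leaf (nat_lit 0x30200010405) (nat_lit 1793))
 (.leaf (nat_lit 0x30201000504) (nat_lit 2048))
)))) (.node (nat_lit 0x40102000503) (.node (nat_lit 0x40001030205) (.node (nat_lit 0x30504010002) (.leaf (nat_lit 0x30504000201) (nat_lit 0))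
 (.leaf (nat_lit 0x30504010002) (nat_lit 256))
) (.node (nat_lit 0x40002010305) (.leaf (nat_lit 0x40001030205) (nat_lit 1281))
 (.node (nat_lit 0x40100030502) (.leaf (nat_lit 0x40002010305) (nat_lit 1537))
 (.leaf (nat_lit 0x40100030502) (nat_lit 1537))
))) (.node (nat_lit 0x40201050003) (.node (nat_lit 0x40200050301) (.leaf (nat_lit 0x40102000503) (nat_lit 1792))
 (.leaf (nat_lit 0x40200050301) (nat_lit 1281))
) (.node (nat_lit 0x40305000201) (.leaf (nat_lit 0x40201050003) (nat_lit 1536))
 (.node (nat_lit 0x40305010002) (.leaf (nat_lit 0x40305000201) (nat_lit 1025))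
 (.leaf (nat_lit 0x40305010002) (nat_lit 1281))
))))))

theorem y2_ok : orbOK P6 [(nat_lit 0x50403020001), (nat_lit 0x504030201)] (nat_lit 0x30504000201) y2_t (nat_lit 40) = true := by decide +kernel

end Cfsg.Agent.T16.X4
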