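import Mathlib
import Cfsg.Agent.T16.CaData

/-! Generated by tools/rec: C(t) of order 1152 (tools/t16/x4a.py) -/

set_option autoImplicit false
set_option maxRecDepth 100000
set_option linter.unusedVariables false
set_option exponentiation.threshold 100000

namespace Cfsg.Agent.T16

open Cfsg.Agent.Spor Cfsg.Agent.Rec

universe u

noncomputable def lT : List ℕ := [(nat_lit 0x808404042), (nat_lit 0xe2bcc779d), (nat_lit 0xe33ac775e), (nat_lit 0x910220081), (nat_lit 0x110224081), (nat_lit 0x812244408), (nat_lit 0x802044489), (nat_lit 0x802044408), (nat_lit 0x110220081)]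

noncomputable def cT : List ℕ := [(nat_lit 0x808404042), (nat_lit 0xe2bcc779d), (nat_lit 0x910220081), (nat_lit 0x812244408), (nat_lit 0x802044408), (nat_lit 0x110220081)]

def exT : List (List ℕ) :=
  [[8, 8],
   [8, 0, 8, 0],
   [8, 3, 8, 3],
   [8, 5, 8, 6],
   [8, 7, 8, 7],
   [7, 8, 1, 8, 7, 1]]

def relT : List (List ℕ) := relL ++ exT

noncomputable def tT_rels : LT :=
(.node (.node (.node (.node (.node (.leaf [])
 (.leaf [nat_lit 5,nat_lit 3,nat_lit 6,nat_lit 4])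
) (.node (.leaf [nat_lit 7,nat_lit 7])
 (.leaf [nat_lit 8,nat_lit 3,nat_lit 8,nat_lit 3])
)) (.node (.node (.leaf [nat_lit 3,nat_lit 4])
 (.leaf [nat_lit 7,nat_lit 0,nat_lit 7,nat_lit 0])
) (.leaf [nat_lit 0,nat_lit 3,nat_lit 0,nat_lit 4])
)) (.node (.node (.node (.leaf [nat_lit 1,nat_lit 2])
 (.leaf [nat_lit 7,nat_lit 5,nat_lit 7,nat_lit 5])
) (.node (.leaf [nat_lit 1,nat_lit 1,nat_lit 0])
 (.leaf [nat_lit 8,nat_lit 7,nat_lit 8,nat_lit 7])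
)) (.node (.node (.leaf [nat_lit 5,nat_lit 6])
 (.leaf [nat_lit 1,nat_lit 7,nat_lit 3,nat_lit 1,nat_lit 4,nat_lit 7,nat_lit 2,nat_lit 7,nat_lit 3,nat_lit 2,nat_lit 4,nat_lit 7])
) (.leaf [nat_lit 3,nat_lit 3,nat_lit 1,nat_lit 4,nat_lit 2,nat_lit 4,nat_lit 2])
))) (.node (.node (.node (.node (.leaf [nat_lit 0,nat_lit 0])
 (.leaf [nat_lit 1,nat_lit 5,nat_lit 3,nat_lit 2,nat_lit 4,nat_lit 6])
) (.node (.leaf [nat_lit 8,nat_lit 8])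
 (.leaf [nat_lit 8,nat_lit 5,nat_lit 8,nat_lit 6])
)) (.node (.node (.leaf [nat_lit 4,nat_lit 3])
 (.leaf [nat_lit 1,nat_lit 7,nat_lit 1,nat_lit 7,nat_lit 2,nat_lit 7,nat_lit 2,nat_lit 7])
) (.leaf [nat_lit 1,nat_lit 3,nat_lit 1,nat_lit 4,nat_lit 2,nat_lit 3,nat_lit 1,nat_lit 4])
)) (.node (.node (.node (.leaf [nat_lit 2,nat_lit 1])
 (.leaf [nat_lit 7,nat_lit 3,nat_lit 7,nat_lit 4])
) (.node (.leaf [nat_lit 3,nat_lit 3,nat_lit 3])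
 (.leaf [nat_lit 7,nat_lit 8,nat_lit 1,nat_lit 8,nat_lit 7,nat_lit 1])
)) (.node (.node (.leaf [nat_lit 6,nat_lit 5])
 (.leaf [nat_lit 8,nat_lit 0,nat_lit 8,nat_lit 0])
) (.leaf [nat_lit 5,nat_lit 5,nat_lit 5])
))))
noncomputable def tT_hws : LT :=
(.leaf [])

noncomputable def tT_inv : ℕ → ℕ := getP (nat_lit 8) (nat_lit 255) (nat_lit 0x80705060304010200)

noncomputable def tT_t : BT :=
(.node (.node (.node (.node (.leaf (nat_lit 0x41447000))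
 (.leaf (nat_lit 0x1202041))
) (.leaf (nat_lit 0x1847020))
) (.node (.node (.leaf (nat_lit 0x2247010))
 (.leaf (nat_lit 0x21000000))
) (.leaf (nat_lit 0x1c47030))
)) (.node (.node (.node (.leaf (nat_lit 0x242047008))
 (.leaf (nat_lit 0x3fe00ff8))
) (.leaf (nat_lit 0x641a47028))
) (.node (.leaf (nat_lit 0x441647018))
 (.leaf (nat_lit 0x841e47038))
)))

noncomputable def tT_rules : LT :=
(.node (.node (.node (.leaf [nat_lit 23,nat_lit 2,nat_lit 1,nat_lit 0,nat_lit 8,nat_lit 0,nat_lit 8])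
 (.leaf [nat_lit 26,nat_lit 2,nat_lit 1,nat_lit 7,nat_lit 8,nat_lit 7,nat_lit 8])
) (.leaf [nat_lit 24,nat_lit 2,nat_lit 1,nat_lit 3,nat_lit 8,nat_lit 4,nat_lit 8])
) (.node (.leaf [nat_lit 27,nat_lit 3,nat_lit 1,nat_lit 1,nat_lit 8,nat_lit 7,nat_lit 2,nat_lit 7,nat_lit 8])
 (.leaf [nat_lit 25,nat_lit 2,nat_lit 1,nat_lit 5,nat_lit 8,nat_lit 5,nat_lit 8])
))

noncomputable def tT_subs : LT :=
(.leaf [nat_lit 0,nat_lit 0,nat_lit 0,nat_lit 9])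


noncomputable def tT : TC :=
  ⟨fun x c => Nat.shiftRight (BT.get tT_t x) (Nat.mul (nat_lit 18) c),
  (nat_lit 3), (nat_lit 7), (nat_lit 4095), (nat_lit 12), (nat_lit 63), (nat_lit 4088), (nat_lit 2), (nat_lit 2), (nat_lit 9), (nat_lit 8), (nat_lit 9), (nat_lit 10), tT_inv, tT_rules, tT_subs⟩

theorem tT_c1 : tT.rules.all (ruleOK tT.m tT.inv tT_rels) = true := by decide +kernel
theorem tT_c2 : tT.subs.all (subOK tT.m tT.inv tT_hws) = true := by decide +kernel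
theorem tT_c3 : tT.base = true := by decide +kernel

theorem tT_s0 : tT.slots (nat_lit 0) (nat_lit 2) = true := by decide +kernel

theorem tT_c4 : tT.Upto tT.N := ((TC.upto_zero tT).step _ tT_s0)
theorem tT_c5 : tT.UptoE tT.N := (TC.uptoE_n tT)
theorem tT_bound {G : Type*} [Group G] {g : ℕ → G} {H : Subgroup G} (hinv : ∀ x < 9, g x * g (tT_inv x) = 1)
    (hrels : ∀ i, evalW g (tT_rels.get i) = 1) (hH : ∀ x < 8, g x ∈ H) (hhws : ∀ i, evalW g (tT_hws.get i) ∈ H) :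
    H.relIndex (genLt g 9) ≠ 0 ∧ H.relIndex (genLt g 9) ≤ 2 :=
  TC.relIndex_le (T := tT) hinv hrels hH hhws tT_c1 tT_c2 tT_c3 tT_c4 tT_c5

theorem tT_bd : Bound.{u} relT 8 9 2 := fun _ _ _ _ hs hH =>
  tT_bound (hs.hinv (by decide +kernel)) (hs.tree (by decide +kernel)) hH (leaf_nil_mem' _ _ (by decide +kernel))

theorem presT : Pres.{u} relT 9 1152 := presL.step tT_bd (by decide +kernel)

theorem lT_ok : allL lT B6.v = true := by decide +kernel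

theorem relT_ok : allL relT (fun w => Nat.beq (evC B6.A lT w) B6.A.one) = true := by decide +kernel

noncomputable def HT_t : ST :=
(.node (nat_lit 0x901084210) (.node (nat_lit 0x7c94a0ceb) (.node (nat_lit 0x1eed63042) (.node (nat_lit 0x1173e3081) (.node (nat_lit 0x10e578408) (.node (nat_lit 0x108424042) (.node (nat_lit 0x102060489) (.node (nat_lit 0x1010a4210) (.node (nat_lit 0x1010a3395) (.node (nat_lit 0x1010a0252) (.leaf (nat_lit 0x1010a0210) (nat_lit 773))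
 (.leaf (nat_lit 0x1010a0252) (nat_lit 1029))
) (.node (nat_lit 0x1010a33d7) (.leaf (nat_lit 0x1010a3395) (nat_lit 1281))
 (.leaf (nat_lit 0x1010a33d7) (nat_lit 1796))
)) (.node (nat_lit 0x1010a7395) (.node (nat_lit 0x1010a4252) (.leaf (nat_lit 0x1010a4210) (nat_lit 1028))
 (.leaf (nat_lit 0x1010a4252) (nat_lit 1283))
) (.node (nat_lit 0x1010a73d7) (.leaf (nat_lit 0x1010a7395) (nat_lit 1797))
 (.node (nat_lit 0x102060408) (.leaf (nat_lit 0x1010a73d7) (nat_lit 1537))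
 (.leaf (nat_lit 0x102060408) (nat_lit 517))
)))) (.node (nat_lit 0x102064489) (.node (nat_lit 0x1020635cf) (.node (nat_lit 0x10206354e) (.leaf (nat_lit 0x102060489) (nat_lit 773))
 (.leaf (nat_lit 0x10206354e) (nat_lit 1537))
) (.node (nat_lit 0x102064408) (.leaf (nat_lit 0x1020635cf) (nat_lit 1797))
 (.leaf (nat_lit 0x102064408) (nat_lit 772))
)) (.node (nat_lit 0x1020675cf) (.node (nat_lit 0x10206754e) (.leaf (nat_lit 0x102064489) (nat_lit 1027))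
 (.leaf (nat_lit 0x10206754e) (nat_lit 1796))
) (.node (nat_lit 0x108420042) (.leaf (nat_lit 0x1020675cf) (nat_lit 1281))
 (.node (nat_lit 0x108420252) (.leaf (nat_lit 0x108420042) (nat_lit 517))
 (.leaf (nat_lit 0x108420252) (nat_lit 1029))
))))) (.node (nat_lit 0x1094a4210) (.node (nat_lit 0x10843c54e) (.node (nat_lit 0x10843854e) (.node (nat_lit 0x108424252) (.leaf (nat_lit 0x108424042) (nat_lit 770))
 (.leaf (nat_lit 0x108424252) (nat_lit 1284))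
) (.node (nat_lit 0x10843875e) (.leaf (nat_lit 0x10843854e) (nat_lit 1537))
 (.leaf (nat_lit 0x10843875e) (nat_lit 1537))
)) (.node (nat_lit 0x1094a0042) (.node (nat_lit 0x10843c75e) (.leaf (nat_lit 0x10843c54e) (nat_lit 1793))
 (.leaf (nat_lit 0x10843c75e) (nat_lit 1281))
) (.node (nat_lit 0x1094a0210) (.leaf (nat_lit 0x1094a0042) (nat_lit 1029))
 (.node (nat_lit 0x1094a4042) (.leaf (nat_lit 0x1094a0210) (nat_lit 773))
 (.leaf (nat_lit 0x1094a4042) (nat_lit 1283))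
)))) (.node (nat_lit 0x1094bf79d) (.node (nat_lit 0x1094bb79d) (.node (nat_lit 0x1094bb5cf) (.leaf (nat_lit 0x1094a4210) (nat_lit 1027))
 (.leaf (nat_lit 0x1094bb5cf) (nat_lit 1537))
) (.node (nat_lit 0x1094bf5cf) (.leaf (nat_lit 0x1094bb79d) (nat_lit 1793))
 (.leaf (nat_lit 0x1094bf5cf) (nat_lit 1537))
)) (.node (nat_lit 0x10e5633d7) (.node (nat_lit 0x10e563042) (.leaf (nat_lit 0x1094bf79d) (nat_lit 1793))
 (.leaf (nat_lit 0x10e563042) (nat_lit 1541))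
) (.node (nat_lit 0x10e567042) (.leaf (nat_lit 0x10e5633d7) (nat_lit 1537))
 (.node (nat_lit 0x10e5673d7) (.leaf (nat_lit 0x10e567042) (nat_lit 1795))
 (.leaf (nat_lit 0x10e5673d7) (nat_lit 1541))
)))))) (.node (nat_lit 0x11023c395) (.node (nat_lit 0x10f5fb75e) (.node (nat_lit 0x10f5e3042) (.node (nat_lit 0x10e57c408) (.node (nat_lit 0x10e57879d) (.leaf (nat_lit 0x10e578408) (nat_lit 1541))
 (.leaf (nat_lit 0x10e57879d) (nat_lit 1537))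
) (.node (nat_lit 0x10e57c79d) (.leaf (nat_lit 0x10e57c408) (nat_lit 1797))
 (.leaf (nat_lit 0x10e57c79d) (nat_lit 1794))
)) (.node (nat_lit 0x10f5e7042) (.node (nat_lit 0x10f5e3395) (.leaf (nat_lit 0x10f5e3042) (nat_lit 1537))
 (.leaf (nat_lit 0x10f5e3395) (nat_lit 1797))
) (.node (nat_lit 0x10f5e7395) (.leaf (nat_lit 0x10f5e7042) (nat_lit 1285))
 (.node (nat_lit 0x10f5fb489) (.leaf (nat_lit 0x10f5e7395) (nat_lit 1794))
 (.leaf (nat_lit 0x10f5fb489) (nat_lit 1540))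
)))) (.node (nat_lit 0x110220489) (.node (nat_lit 0x10f5ff75e) (.node (nat_lit 0x10f5ff489) (.leaf (nat_lit 0x10f5fb75e) (nat_lit 1538))
 (.leaf (nat_lit 0x10f5ff489) (nat_lit 1795))
) (.node (nat_lit 0x110220081) (.leaf (nat_lit 0x10f5ff75e) (nat_lit 1540))
 (.leaf (nat_lit 0x110220081) (nat_lit 261))
)) (.node (nat_lit 0x110224489) (.node (nat_lit 0x110224081) (.leaf (nat_lit 0x110220489) (nat_lit 773))
 (.leaf (nat_lit 0x110224081) (nat_lit 514))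
) (.node (nat_lit 0x110238395) (.leaf (nat_lit 0x110224489) (nat_lit 1028))
 (.node (nat_lit 0x11023879d) (.leaf (nat_lit 0x110238395) (nat_lit 1281))
 (.leaf (nat_lit 0x11023879d) (nat_lit 1793))
))))) (.node (nat_lit 0x11227f75e) (.node (nat_lit 0x112264081) (.node (nat_lit 0x112260081) (.node (nat_lit 0x11023c79d) (.leaf (nat_lit 0x11023c395) (nat_lit 1537))
 (.leaf (nat_lit 0x11023c79d) (nat_lit 1537))
) (.node (nat_lit 0x112260408) (.leaf (nat_lit 0x112260081) (nat_lit 773))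
 (.leaf (nat_lit 0x112260408) (nat_lit 517))
)) (.node (nat_lit 0x11227b3d7) (.node (nat_lit 0x112264408) (.leaf (nat_lit 0x112264081) (nat_lit 1027))
 (.leaf (nat_lit 0x112264408) (nat_lit 771))
) (.node (nat_lit 0x11227b75e) (.leaf (nat_lit 0x11227b3d7) (nat_lit 1281))
 (.node (nat_lit 0x11227f3d7) (.leaf (nat_lit 0x11227b75e) (nat_lit 1537))
 (.leaf (nat_lit 0x11227f3d7) (nat_lit 1793))
)))) (.node (nat_lit 0x1153a75cf) (.node (nat_lit 0x1153a35cf) (.node (nat_lit 0x1153a3081) (.leaf (nat_lit 0x11227f75e) (nat_lit 1537))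
 (.leaf (nat_lit 0x1153a3081) (nat_lit 1285))
) (.node (nat_lit 0x1153a7081) (.leaf (nat_lit 0x1153a35cf) (nat_lit 1281))
 (.leaf (nat_lit 0x1153a7081) (nat_lit 1539))
)) (.node (nat_lit 0x1153b875e) (.node (nat_lit 0x1153b8210) (.leaf (nat_lit 0x1153a75cf) (nat_lit 1797))
 (.leaf (nat_lit 0x1153b8210) (nat_lit 1541))
) (.node (nat_lit 0x1153bc210) (.leaf (nat_lit 0x1153b875e) (nat_lit 1537))
 (.node (nat_lit 0x1153bc75e) (.leaf (nat_lit 0x1153bc210) (nat_lit 1541))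
 (.leaf (nat_lit 0x1153bc75e) (nat_lit 1793))
))))))) (.node (nat_lit 0x1c2064d6e) (.node (nat_lit 0x11e77b252) (.node (nat_lit 0x11d7b854e) (.node (nat_lit 0x1173fb252) (.node (nat_lit 0x1173e7081) (.node (nat_lit 0x1173e354e) (.leaf (nat_lit 0x1173e3081) (nat_lit 1793))
 (.leaf (nat_lit 0x1173e354e) (nat_lit 1541))
) (.node (nat_lit 0x1173e754e) (.leaf (nat_lit 0x1173e7081) (nat_lit 1541))
 (.leaf (nat_lit 0x1173e754e) (nat_lit 1538))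
)) (.node (nat_lit 0x1173ff252) (.node (nat_lit 0x1173fb79d) (.leaf (nat_lit 0x1173fb252) (nat_lit 1541))
 (.leaf (nat_lit 0x1173fb79d) (nat_lit 1282))
) (.node (nat_lit 0x1173ff79d) (.leaf (nat_lit 0x1173ff252) (nat_lit 1794))
 (.node (nat_lit 0x11d7b8210) (.leaf (nat_lit 0x1173ff79d) (nat_lit 1538))
 (.leaf (nat_lit 0x11d7b8210) (nat_lit 1797))
)))) (.node (nat_lit 0x11d7bc54e) (.node (nat_lit 0x11d7bb489) (.node (nat_lit 0x11d7bb3d7) (.leaf (nat_lit 0x11d7b854e) (nat_lit 1793))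
 (.leaf (nat_lit 0x11d7bb3d7) (nat_lit 1538))
) (.node (nat_lit 0x11d7bc210) (.leaf (nat_lit 0x11d7bb489) (nat_lit 1539))
 (.leaf (nat_lit 0x11d7bc210) (nat_lit 1541))
)) (.node (nat_lit 0x11d7bf489) (.node (nat_lit 0x11d7bf3d7) (.leaf (nat_lit 0x11d7bc54e) (nat_lit 1797))
 (.leaf (nat_lit 0x11d7bf3d7) (nat_lit 1282))
) (.node (nat_lit 0x11e778395) (.leaf (nat_lit 0x11d7bf489) (nat_lit 1796))
 (.node (nat_lit 0x11e778408) (.leaf (nat_lit 0x11e778395) (nat_lit 1537))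
 (.leaf (nat_lit 0x11e778408) (nat_lit 1541))
))))) (.node (nat_lit 0x1c10a3bf7) (.node (nat_lit 0x11e77f252) (.node (nat_lit 0x11e77c395) (.node (nat_lit 0x11e77b5cf) (.leaf (nat_lit 0x11e77b252) (nat_lit 1795))
 (.leaf (nat_lit 0x11e77b5cf) (nat_lit 1540))
) (.node (nat_lit 0x11e77c408) (.leaf (nat_lit 0x11e77c395) (nat_lit 1794))
 (.leaf (nat_lit 0x11e77c408) (nat_lit 1541))
)) (.node (nat_lit 0x1c10a0ab1) (.node (nat_lit 0x11e77f5cf) (.leaf (nat_lit 0x11e77f252) (nat_lit 1797))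
 (.leaf (nat_lit 0x11e77f5cf) (nat_lit 1538))
) (.node (nat_lit 0x1c10a0af3) (.leaf (nat_lit 0x1c10a0ab1) (nat_lit 1540))
 (.node (nat_lit 0x1c10a3bb5) (.leaf (nat_lit 0x1c10a0af3) (nat_lit 1540))
 (.leaf (nat_lit 0x1c10a3bb5) (nat_lit 1283))
)))) (.node (nat_lit 0x1c10a7af3) (.node (nat_lit 0x1c10a4bf7) (.node (nat_lit 0x1c10a4bb5) (.leaf (nat_lit 0x1c10a3bf7) (nat_lit 1539))
 (.leaf (nat_lit 0x1c10a4bb5) (nat_lit 1797))
) (.node (nat_lit 0x1c10a7ab1) (.leaf (nat_lit 0x1c10a4bf7) (nat_lit 1794))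
 (.leaf (nat_lit 0x1c10a7ab1) (nat_lit 1795))
)) (.node (nat_lit 0x1c2060ceb) (.node (nat_lit 0x1c2060c6a) (.leaf (nat_lit 0x1c10a7af3) (nat_lit 1793))
 (.leaf (nat_lit 0x1c2060c6a) (nat_lit 1541))
) (.node (nat_lit 0x1c2063d6e) (.leaf (nat_lit 0x1c2060ceb) (nat_lit 1796))
 (.node (nat_lit 0x1c2063def) (.leaf (nat_lit 0x1c2063d6e) (nat_lit 1539))
 (.leaf (nat_lit 0x1c2063def) (nat_lit 1541))
)))))) (.node (nat_lit 0x1de77faf3) (.node (nat_lit 0x1dd7bcdef) (.node (nat_lit 0x1dd7b8bb5) (.node (nat_lit 0x1c2067c6a) (.node (nat_lit 0x1c2064def) (.leaf (nat_lit 0x1c2064d6e) (nat_lit 1796))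
 (.leaf (nat_lit 0x1c2064def) (nat_lit 1538))
) (.node (nat_lit 0x1c2067ceb) (.leaf (nat_lit 0x1c2067c6a) (nat_lit 1796))
 (.leaf (nat_lit 0x1c2067ceb) (nat_lit 1537))
)) (.node (nat_lit 0x1dd7bbab1) (.node (nat_lit 0x1dd7b8ceb) (.leaf (nat_lit 0x1dd7b8bb5) (nat_lit 1285))
 (.leaf (nat_lit 0x1dd7b8ceb) (nat_lit 769))
) (.node (nat_lit 0x1dd7bbdef) (.leaf (nat_lit 0x1dd7bbab1) (nat_lit 1281))
 (.node (nat_lit 0x1dd7bcab1) (.leaf (nat_lit 0x1dd7bbdef) (nat_lit 1541))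
 (.leaf (nat_lit 0x1dd7bcab1) (nat_lit 1540))
)))) (.node (nat_lit 0x1de778d6e) (.node (nat_lit 0x1dd7bfceb) (.node (nat_lit 0x1dd7bfbb5) (.leaf (nat_lit 0x1dd7bcdef) (nat_lit 1025))
 (.leaf (nat_lit 0x1dd7bfbb5) (nat_lit 1539))
) (.node (nat_lit 0x1de778af3) (.leaf (nat_lit 0x1dd7bfceb) (nat_lit 1284))
 (.leaf (nat_lit 0x1de778af3) (nat_lit 773))
)) (.node (nat_lit 0x1de77bc6a) (.node (nat_lit 0x1de77bbf7) (.leaf (nat_lit 0x1de778d6e) (nat_lit 1029))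
 (.leaf (nat_lit 0x1de77bbf7) (nat_lit 1540))
) (.node (nat_lit 0x1de77cbf7) (.leaf (nat_lit 0x1de77bc6a) (nat_lit 1025))
 (.node (nat_lit 0x1de77cc6a) (.leaf (nat_lit 0x1de77cbf7) (nat_lit 1281))
 (.leaf (nat_lit 0x1de77cc6a) (nat_lit 1541))
))))) (.node (nat_lit 0x1eac7cdef) (.node (nat_lit 0x1eac67042) (.node (nat_lit 0x1eac60042) (.node (nat_lit 0x1de77fd6e) (.leaf (nat_lit 0x1de77faf3) (nat_lit 1028))
 (.leaf (nat_lit 0x1de77fd6e) (nat_lit 1283))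
) (.node (nat_lit 0x1eac60af3) (.leaf (nat_lit 0x1eac60042) (nat_lit 1281))
 (.leaf (nat_lit 0x1eac60af3) (nat_lit 1539))
)) (.node (nat_lit 0x1eac7b75e) (.node (nat_lit 0x1eac67af3) (.leaf (nat_lit 0x1eac67042) (nat_lit 1794))
 (.leaf (nat_lit 0x1eac67af3) (nat_lit 1537))
) (.node (nat_lit 0x1eac7bdef) (.leaf (nat_lit 0x1eac7b75e) (nat_lit 1029))
 (.node (nat_lit 0x1eac7c75e) (.leaf (nat_lit 0x1eac7bdef) (nat_lit 1025))
 (.leaf (nat_lit 0x1eac7c75e) (nat_lit 1283))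
)))) (.node (nat_lit 0x1ebce7ab1) (.node (nat_lit 0x1ebce0ab1) (.node (nat_lit 0x1ebce0042) (.leaf (nat_lit 0x1eac7cdef) (nat_lit 1541))
 (.leaf (nat_lit 0x1ebce0042) (nat_lit 1281))
) (.node (nat_lit 0x1ebce7042) (.leaf (nat_lit 0x1ebce0ab1) (nat_lit 1537))
 (.leaf (nat_lit 0x1ebce7042) (nat_lit 1538))
)) (.node (nat_lit 0x1ebcf8d6e) (.node (nat_lit 0x1ebcf879d) (.leaf (nat_lit 0x1ebce7ab1) (nat_lit 1793))
 (.leaf (nat_lit 0x1ebcf879d) (nat_lit 517))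
) (.node (nat_lit 0x1ebcff79d) (.leaf (nat_lit 0x1ebcf8d6e) (nat_lit 1029))
 (.node (nat_lit 0x1ebcffd6e) (.leaf (nat_lit 0x1ebcff79d) (nat_lit 770))
 (.leaf (nat_lit 0x1ebcffd6e) (nat_lit 1284))
)))))))) (.node (nat_lit 0x7173e3bb5) (.node (nat_lit 0x1f5bb879d) (.node (nat_lit 0x1f1aa7081) (.node (nat_lit 0x1efde3bb5) (.node (nat_lit 0x1eed7875e) (.node (nat_lit 0x1eed64042) (.node (nat_lit 0x1eed63bf7) (.leaf (nat_lit 0x1eed63042) (nat_lit 1540))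
 (.leaf (nat_lit 0x1eed63bf7) (nat_lit 1025))
) (.node (nat_lit 0x1eed64bf7) (.leaf (nat_lit 0x1eed64042) (nat_lit 1793))
 (.leaf (nat_lit 0x1eed64bf7) (nat_lit 1541))
)) (.node (nat_lit 0x1eed7f75e) (.node (nat_lit 0x1eed78ceb) (.leaf (nat_lit 0x1eed7875e) (nat_lit 1027))
 (.leaf (nat_lit 0x1eed78ceb) (nat_lit 1029))
) (.node (nat_lit 0x1eed7fceb) (.leaf (nat_lit 0x1eed7f75e) (nat_lit 1539))
 (.node (nat_lit 0x1efde3042) (.leaf (nat_lit 0x1eed7fceb) (nat_lit 1283))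
 (.leaf (nat_lit 0x1efde3042) (nat_lit 1538))
)))) (.node (nat_lit 0x1efdfbc6a) (.node (nat_lit 0x1efde4bb5) (.node (nat_lit 0x1efde4042) (.leaf (nat_lit 0x1efde3bb5) (nat_lit 1284))
 (.leaf (nat_lit 0x1efde4042) (nat_lit 1537))
) (.node (nat_lit 0x1efdfb79d) (.leaf (nat_lit 0x1efde4bb5) (nat_lit 1794))
 (.leaf (nat_lit 0x1efdfb79d) (nat_lit 1281))
)) (.node (nat_lit 0x1efdfcc6a) (.node (nat_lit 0x1efdfc79d) (.leaf (nat_lit 0x1efdfbc6a) (nat_lit 1541))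
 (.leaf (nat_lit 0x1efdfc79d) (nat_lit 1029))
) (.node (nat_lit 0x1f1aa0081) (.leaf (nat_lit 0x1efdfcc6a) (nat_lit 1538))
 (.node (nat_lit 0x1f1aa0ceb) (.leaf (nat_lit 0x1f1aa0081) (nat_lit 1281))
 (.leaf (nat_lit 0x1f1aa0ceb) (nat_lit 1795))
))))) (.node (nat_lit 0x1f3ae7c6a) (.node (nat_lit 0x1f1abc79d) (.node (nat_lit 0x1f1abb79d) (.node (nat_lit 0x1f1aa7ceb) (.leaf (nat_lit 0x1f1aa7081) (nat_lit 1538))
 (.leaf (nat_lit 0x1f1aa7ceb) (nat_lit 1793))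
) (.node (nat_lit 0x1f1abbbf7) (.leaf (nat_lit 0x1f1abb79d) (nat_lit 1285))
 (.leaf (nat_lit 0x1f1abbbf7) (nat_lit 1281))
)) (.node (nat_lit 0x1f3ae0081) (.node (nat_lit 0x1f1abcbf7) (.leaf (nat_lit 0x1f1abc79d) (nat_lit 1539))
 (.leaf (nat_lit 0x1f1abcbf7) (nat_lit 1285))
) (.node (nat_lit 0x1f3ae0c6a) (.leaf (nat_lit 0x1f3ae0081) (nat_lit 1537))
 (.node (nat_lit 0x1f3ae7081) (.leaf (nat_lit 0x1f3ae0c6a) (nat_lit 1539))
 (.leaf (nat_lit 0x1f3ae7081) (nat_lit 1537))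
)))) (.node (nat_lit 0x1f3affbb5) (.node (nat_lit 0x1f3af8bb5) (.node (nat_lit 0x1f3af875e) (.leaf (nat_lit 0x1f3ae7c6a) (nat_lit 1537))
 (.leaf (nat_lit 0x1f3af875e) (nat_lit 773))
) (.node (nat_lit 0x1f3aff75e) (.leaf (nat_lit 0x1f3af8bb5) (nat_lit 1285))
 (.leaf (nat_lit 0x1f3aff75e) (nat_lit 1026))
)) (.node (nat_lit 0x1f5ba3def) (.node (nat_lit 0x1f5ba3081) (.leaf (nat_lit 0x1f3affbb5) (nat_lit 1540))
 (.leaf (nat_lit 0x1f5ba3081) (nat_lit 1796))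
) (.node (nat_lit 0x1f5ba4081) (.leaf (nat_lit 0x1f5ba3def) (nat_lit 1281))
 (.node (nat_lit 0x1f5ba4def) (.leaf (nat_lit 0x1f5ba4081) (nat_lit 1537))
 (.leaf (nat_lit 0x1f5ba4def) (nat_lit 1797))
)))))) (.node (nat_lit 0x70843cc6a) (.node (nat_lit 0x1f7bfbab1) (.node (nat_lit 0x1f7be3081) (.node (nat_lit 0x1f5bbf79d) (.node (nat_lit 0x1f5bb8af3) (.leaf (nat_lit 0x1f5bb879d) (nat_lit 1029))
 (.leaf (nat_lit 0x1f5bb8af3) (nat_lit 773))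
) (.node (nat_lit 0x1f5bbfaf3) (.leaf (nat_lit 0x1f5bbf79d) (nat_lit 1283))
 (.leaf (nat_lit 0x1f5bbfaf3) (nat_lit 1027))
)) (.node (nat_lit 0x1f7be4081) (.node (nat_lit 0x1f7be3d6e) (.leaf (nat_lit 0x1f7be3081) (nat_lit 1794))
 (.leaf (nat_lit 0x1f7be3d6e) (nat_lit 1285))
) (.node (nat_lit 0x1f7be4d6e) (.leaf (nat_lit 0x1f7be4081) (nat_lit 1537))
 (.node (nat_lit 0x1f7bfb75e) (.leaf (nat_lit 0x1f7be4d6e) (nat_lit 1538))
 (.leaf (nat_lit 0x1f7bfb75e) (nat_lit 1537))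
)))) (.node (nat_lit 0x708420e7a) (.node (nat_lit 0x1f7bfcab1) (.node (nat_lit 0x1f7bfc75e) (.leaf (nat_lit 0x1f7bfbab1) (nat_lit 1285))
 (.leaf (nat_lit 0x1f7bfc75e) (nat_lit 1285))
) (.node (nat_lit 0x708420c6a) (.leaf (nat_lit 0x1f7bfcab1) (nat_lit 1282))
 (.leaf (nat_lit 0x708420c6a) (nat_lit 1284))
)) (.node (nat_lit 0x708424f7e) (.node (nat_lit 0x708424d6e) (.leaf (nat_lit 0x708420e7a) (nat_lit 1282))
 (.leaf (nat_lit 0x708424d6e) (nat_lit 1794))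
) (.node (nat_lit 0x708438d6e) (.leaf (nat_lit 0x708424f7e) (nat_lit 1541))
 (.node (nat_lit 0x708438f7e) (.leaf (nat_lit 0x708438d6e) (nat_lit 1539))
 (.leaf (nat_lit 0x708438f7e) (nat_lit 1537))
))))) (.node (nat_lit 0x70f5ffeb9) (.node (nat_lit 0x70f5e7c6a) (.node (nat_lit 0x70f5e3d6e) (.node (nat_lit 0x70843ce7a) (.leaf (nat_lit 0x70843cc6a) (nat_lit 1794))
 (.leaf (nat_lit 0x70843ce7a) (nat_lit 1538))
) (.node (nat_lit 0x70f5e3eb9) (.leaf (nat_lit 0x70f5e3d6e) (nat_lit 1028))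
 (.leaf (nat_lit 0x70f5e3eb9) (nat_lit 513))
)) (.node (nat_lit 0x70f5fbc6a) (.node (nat_lit 0x70f5e7fbd) (.leaf (nat_lit 0x70f5e7c6a) (nat_lit 1284))
 (.leaf (nat_lit 0x70f5e7fbd) (nat_lit 769))
) (.node (nat_lit 0x70f5fbfbd) (.leaf (nat_lit 0x70f5fbc6a) (nat_lit 1029))
 (.node (nat_lit 0x70f5ffd6e) (.leaf (nat_lit 0x70f5fbfbd) (nat_lit 1282))
 (.leaf (nat_lit 0x70f5ffd6e) (nat_lit 1537))
)))) (.node (nat_lit 0x710224fbd) (.node (nat_lit 0x710220eb9) (.node (nat_lit 0x710220ab1) (.leaf (nat_lit 0x70f5ffeb9) (nat_lit 1029))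
 (.leaf (nat_lit 0x710220ab1) (nat_lit 1285))
) (.node (nat_lit 0x710224bb5) (.leaf (nat_lit 0x710220eb9) (nat_lit 1538))
 (.leaf (nat_lit 0x710224bb5) (nat_lit 1538))
)) (.node (nat_lit 0x710238fbd) (.node (nat_lit 0x710238bb5) (.leaf (nat_lit 0x710224fbd) (nat_lit 1537))
 (.leaf (nat_lit 0x710238bb5) (nat_lit 1795))
) (.node (nat_lit 0x71023cab1) (.leaf (nat_lit 0x710238fbd) (nat_lit 1793))
 (.node (nat_lit 0x71023ceb9) (.leaf (nat_lit 0x71023cab1) (nat_lit 1538))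
 (.leaf (nat_lit 0x71023ceb9) (nat_lit 1540))
))))))) (.node (nat_lit 0x735bb8210) (.node (nat_lit 0x72ed64408) (.node (nat_lit 0x72ac60eb9) (.node (nat_lit 0x7173fbab1) (.node (nat_lit 0x7173e7ab1) (.node (nat_lit 0x7173e3e7a) (.leaf (nat_lit 0x7173e3bb5) (nat_lit 1284))
 (.leaf (nat_lit 0x7173e3e7a) (nat_lit 769))
) (.node (nat_lit 0x7173e7f7e) (.leaf (nat_lit 0x7173e7ab1) (nat_lit 1540))
 (.leaf (nat_lit 0x7173e7f7e) (nat_lit 1025))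
)) (.node (nat_lit 0x7173ffbb5) (.node (nat_lit 0x7173fbf7e) (.leaf (nat_lit 0x7173fbab1) (nat_lit 1025))
 (.leaf (nat_lit 0x7173fbf7e) (nat_lit 1538))
) (.node (nat_lit 0x7173ffe7a) (.leaf (nat_lit 0x7173ffbb5) (nat_lit 1281))
 (.node (nat_lit 0x72ac60408) (.leaf (nat_lit 0x7173ffe7a) (nat_lit 1285))
 (.leaf (nat_lit 0x72ac60408) (nat_lit 1281))
)))) (.node (nat_lit 0x72ac7bf7e) (.node (nat_lit 0x72ac67f7e) (.node (nat_lit 0x72ac675cf) (.leaf (nat_lit 0x72ac60eb9) (nat_lit 1796))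
 (.leaf (nat_lit 0x72ac675cf) (nat_lit 1283))
) (.node (nat_lit 0x72ac7b5cf) (.leaf (nat_lit 0x72ac67f7e) (nat_lit 1539))
 (.leaf (nat_lit 0x72ac7b5cf) (nat_lit 1029))
)) (.node (nat_lit 0x72ac7ceb9) (.node (nat_lit 0x72ac7c408) (.leaf (nat_lit 0x72ac7bf7e) (nat_lit 1281))
 (.leaf (nat_lit 0x72ac7c408) (nat_lit 1797))
) (.node (nat_lit 0x72ed635cf) (.leaf (nat_lit 0x72ac7ceb9) (nat_lit 1537))
 (.node (nat_lit 0x72ed63e7a) (.leaf (nat_lit 0x72ed635cf) (nat_lit 1027))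
 (.leaf (nat_lit 0x72ed63e7a) (nat_lit 1029))
))))) (.node (nat_lit 0x731aa7fbd) (.node (nat_lit 0x72ed7f5cf) (.node (nat_lit 0x72ed78408) (.node (nat_lit 0x72ed64fbd) (.leaf (nat_lit 0x72ed64408) (nat_lit 1793))
 (.leaf (nat_lit 0x72ed64fbd) (nat_lit 1539))
) (.node (nat_lit 0x72ed78fbd) (.leaf (nat_lit 0x72ed78408) (nat_lit 1794))
 (.leaf (nat_lit 0x72ed78fbd) (nat_lit 1537))
)) (.node (nat_lit 0x731aa0210) (.node (nat_lit 0x72ed7fe7a) (.leaf (nat_lit 0x72ed7f5cf) (nat_lit 1541))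
 (.leaf (nat_lit 0x72ed7fe7a) (nat_lit 1282))
) (.node (nat_lit 0x731aa0e7a) (.leaf (nat_lit 0x731aa0210) (nat_lit 1025))
 (.node (nat_lit 0x731aa73d7) (.leaf (nat_lit 0x731aa0e7a) (nat_lit 1540))
 (.leaf (nat_lit 0x731aa73d7) (nat_lit 1027))
)))) (.node (nat_lit 0x731abce7a) (.node (nat_lit 0x731abbfbd) (.node (nat_lit 0x731abb3d7) (.leaf (nat_lit 0x731aa7fbd) (nat_lit 1283))
 (.leaf (nat_lit 0x731abb3d7) (nat_lit 773))
) (.node (nat_lit 0x731abc210) (.leaf (nat_lit 0x731abbfbd) (nat_lit 1285))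
 (.leaf (nat_lit 0x731abc210) (nat_lit 1541))
)) (.node (nat_lit 0x735ba3eb9) (.node (nat_lit 0x735ba33d7) (.leaf (nat_lit 0x731abce7a) (nat_lit 1793))
 (.leaf (nat_lit 0x735ba33d7) (nat_lit 771))
) (.node (nat_lit 0x735ba4210) (.leaf (nat_lit 0x735ba3eb9) (nat_lit 1027))
 (.node (nat_lit 0x735ba4f7e) (.leaf (nat_lit 0x735ba4210) (nat_lit 1537))
 (.leaf (nat_lit 0x735ba4f7e) (nat_lit 1795))
)))))) (.node (nat_lit 0x73ae7f3d7) (.node (nat_lit 0x739ebcc6a) (.node (nat_lit 0x739ea0210) (.node (nat_lit 0x735bbf3d7) (.node (nat_lit 0x735bb8f7e) (.leaf (nat_lit 0x735bb8210) (nat_lit 1538))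
 (.leaf (nat_lit 0x735bb8f7e) (nat_lit 1281))
) (.node (nat_lit 0x735bbfeb9) (.leaf (nat_lit 0x735bbf3d7) (nat_lit 1285))
 (.leaf (nat_lit 0x735bbfeb9) (nat_lit 1538))
)) (.node (nat_lit 0x739ea35cf) (.node (nat_lit 0x739ea0c6a) (.leaf (nat_lit 0x739ea0210) (nat_lit 1540))
 (.leaf (nat_lit 0x739ea0c6a) (nat_lit 1283))
) (.node (nat_lit 0x739ea3bb5) (.leaf (nat_lit 0x739ea35cf) (nat_lit 773))
 (.node (nat_lit 0x739ebc210) (.leaf (nat_lit 0x739ea3bb5) (nat_lit 1283))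
 (.leaf (nat_lit 0x739ebc210) (nat_lit 1538))
)))) (.node (nat_lit 0x73ae60ab1) (.node (nat_lit 0x739ebfbb5) (.node (nat_lit 0x739ebf5cf) (.leaf (nat_lit 0x739ebcc6a) (nat_lit 1797))
 (.leaf (nat_lit 0x739ebf5cf) (nat_lit 1026))
) (.node (nat_lit 0x73ae60408) (.leaf (nat_lit 0x739ebfbb5) (nat_lit 1540))
 (.leaf (nat_lit 0x73ae60408) (nat_lit 1538))
)) (.node (nat_lit 0x73ae63d6e) (.node (nat_lit 0x73ae633d7) (.leaf (nat_lit 0x73ae60ab1) (nat_lit 1539))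
 (.leaf (nat_lit 0x73ae633d7) (nat_lit 772))
) (.node (nat_lit 0x73ae7c408) (.leaf (nat_lit 0x73ae63d6e) (nat_lit 1027))
 (.node (nat_lit 0x73ae7cab1) (.leaf (nat_lit 0x73ae7c408) (nat_lit 1282))
 (.leaf (nat_lit 0x73ae7cab1) (nat_lit 1796))
))))) (.node (nat_lit 0x73dfbbab1) (.node (nat_lit 0x73dfa75cf) (.node (nat_lit 0x73dfa4210) (.node (nat_lit 0x73ae7fd6e) (.leaf (nat_lit 0x73ae7f3d7) (nat_lit 1282))
 (.leaf (nat_lit 0x73ae7fd6e) (nat_lit 1541))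
) (.node (nat_lit 0x73dfa4d6e) (.leaf (nat_lit 0x73dfa4210) (nat_lit 1537))
 (.leaf (nat_lit 0x73dfa4d6e) (nat_lit 1797))
)) (.node (nat_lit 0x73dfb8210) (.node (nat_lit 0x73dfa7ab1) (.leaf (nat_lit 0x73dfa75cf) (nat_lit 1284))
 (.leaf (nat_lit 0x73dfa7ab1) (nat_lit 1539))
) (.node (nat_lit 0x73dfb8d6e) (.leaf (nat_lit 0x73dfb8210) (nat_lit 1796))
 (.node (nat_lit 0x73dfbb5cf) (.leaf (nat_lit 0x73dfb8d6e) (nat_lit 1281))
 (.leaf (nat_lit 0x73dfbb5cf) (nat_lit 1283))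
)))) (.node (nat_lit 0x73ef67c6a) (.node (nat_lit 0x73ef64bb5) (.node (nat_lit 0x73ef64408) (.leaf (nat_lit 0x73dfbbab1) (nat_lit 1285))
 (.leaf (nat_lit 0x73ef64408) (nat_lit 1281))
) (.node (nat_lit 0x73ef673d7) (.leaf (nat_lit 0x73ef64bb5) (nat_lit 1796))
 (.leaf (nat_lit 0x73ef673d7) (nat_lit 1028))
)) (.node (nat_lit 0x73ef78bb5) (.node (nat_lit 0x73ef78408) (.leaf (nat_lit 0x73ef67c6a) (nat_lit 1283))
 (.leaf (nat_lit 0x73ef78408) (nat_lit 1797))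
) (.node (nat_lit 0x73ef7b3d7) (.leaf (nat_lit 0x73ef78bb5) (nat_lit 1537))
 (.node (nat_lit 0x73ef7bc6a) (.leaf (nat_lit 0x73ef7b3d7) (nat_lit 1285))
 (.leaf (nat_lit 0x73ef7bc6a) (nat_lit 1029))
))))))))) (.node (nat_lit 0x82ac47042) (.node (nat_lit 0x7fae60252) (.node (nat_lit 0x7ebcf854e) (.node (nat_lit 0x7d2264bf7) (.node (nat_lit 0x7ce563e7a) (.node (nat_lit 0x7c94bbdef) (.node (nat_lit 0x7c94a4def) (.node (nat_lit 0x7c94a0eb9) (.leaf (nat_lit 0x7c94a0ceb) (nat_lit 1538))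
 (.leaf (nat_lit 0x7c94a0eb9) (nat_lit 1537))
) (.node (nat_lit 0x7c94a4fbd) (.leaf (nat_lit 0x7c94a4def) (nat_lit 1541))
 (.leaf (nat_lit 0x7c94a4fbd) (nat_lit 1794))
)) (.node (nat_lit 0x7c94bfceb) (.node (nat_lit 0x7c94bbfbd) (.leaf (nat_lit 0x7c94bbdef) (nat_lit 1027))
 (.leaf (nat_lit 0x7c94bbfbd) (nat_lit 1283))
) (.node (nat_lit 0x7c94bfeb9) (.leaf (nat_lit 0x7c94bfceb) (nat_lit 1539))
 (.node (nat_lit 0x7ce563def) (.leaf (nat_lit 0x7c94bfeb9) (nat_lit 1795))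
 (.leaf (nat_lit 0x7ce563def) (nat_lit 1029))
)))) (.node (nat_lit 0x7ce578f7e) (.node (nat_lit 0x7ce567f7e) (.node (nat_lit 0x7ce567ceb) (.leaf (nat_lit 0x7ce563e7a) (nat_lit 1025))
 (.leaf (nat_lit 0x7ce567ceb) (nat_lit 1541))
) (.node (nat_lit 0x7ce578ceb) (.leaf (nat_lit 0x7ce567f7e) (nat_lit 1281))
 (.leaf (nat_lit 0x7ce578ceb) (nat_lit 1025))
)) (.node (nat_lit 0x7ce57ce7a) (.node (nat_lit 0x7ce57cdef) (.leaf (nat_lit 0x7ce578f7e) (nat_lit 1540))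
 (.leaf (nat_lit 0x7ce57cdef) (nat_lit 1283))
) (.node (nat_lit 0x7d2260af3) (.leaf (nat_lit 0x7ce57ce7a) (nat_lit 1539))
 (.node (nat_lit 0x7d2260e7a) (.leaf (nat_lit 0x7d2260af3) (nat_lit 1794))
 (.leaf (nat_lit 0x7d2260e7a) (nat_lit 1541))
))))) (.node (nat_lit 0x7d53a7fbd) (.node (nat_lit 0x7d227faf3) (.node (nat_lit 0x7d227bbf7) (.node (nat_lit 0x7d2264f7e) (.leaf (nat_lit 0x7d2264bf7) (nat_lit 1797))
 (.leaf (nat_lit 0x7d2264f7e) (nat_lit 1538))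
) (.node (nat_lit 0x7d227bf7e) (.leaf (nat_lit 0x7d227bbf7) (nat_lit 1283))
 (.leaf (nat_lit 0x7d227bf7e) (nat_lit 1285))
)) (.node (nat_lit 0x7d53a3bf7) (.node (nat_lit 0x7d227fe7a) (.leaf (nat_lit 0x7d227faf3) (nat_lit 1795))
 (.leaf (nat_lit 0x7d227fe7a) (nat_lit 1539))
) (.node (nat_lit 0x7d53a3eb9) (.leaf (nat_lit 0x7d53a3bf7) (nat_lit 1285))
 (.node (nat_lit 0x7d53a7af3) (.leaf (nat_lit 0x7d53a3eb9) (nat_lit 1281))
 (.leaf (nat_lit 0x7d53a7af3) (nat_lit 1285))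
)))) (.node (nat_lit 0x7d53bceb9) (.node (nat_lit 0x7d53b8fbd) (.node (nat_lit 0x7d53b8af3) (.leaf (nat_lit 0x7d53a7fbd) (nat_lit 1537))
 (.leaf (nat_lit 0x7d53b8af3) (nat_lit 769))
) (.node (nat_lit 0x7d53bcbf7) (.leaf (nat_lit 0x7d53b8fbd) (nat_lit 1284))
 (.leaf (nat_lit 0x7d53bcbf7) (nat_lit 1027))
)) (.node (nat_lit 0x7ebce0e7a) (.node (nat_lit 0x7ebce0489) (.leaf (nat_lit 0x7d53bceb9) (nat_lit 1283))
 (.leaf (nat_lit 0x7ebce0489) (nat_lit 1793))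
) (.node (nat_lit 0x7ebce754e) (.leaf (nat_lit 0x7ebce0e7a) (nat_lit 1795))
 (.node (nat_lit 0x7ebce7fbd) (.leaf (nat_lit 0x7ebce754e) (nat_lit 1538))
 (.leaf (nat_lit 0x7ebce7fbd) (nat_lit 1282))
)))))) (.node (nat_lit 0x7f3aff252) (.node (nat_lit 0x7efdfbf7e) (.node (nat_lit 0x7efde354e) (.node (nat_lit 0x7ebcff489) (.node (nat_lit 0x7ebcf8fbd) (.leaf (nat_lit 0x7ebcf854e) (nat_lit 1028))
 (.leaf (nat_lit 0x7ebcf8fbd) (nat_lit 1026))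
) (.node (nat_lit 0x7ebcffe7a) (.leaf (nat_lit 0x7ebcff489) (nat_lit 1538))
 (.leaf (nat_lit 0x7ebcffe7a) (nat_lit 1537))
)) (.node (nat_lit 0x7efde4489) (.node (nat_lit 0x7efde3eb9) (.leaf (nat_lit 0x7efde354e) (nat_lit 1281))
 (.leaf (nat_lit 0x7efde3eb9) (nat_lit 1026))
) (.node (nat_lit 0x7efde4f7e) (.leaf (nat_lit 0x7efde4489) (nat_lit 1537))
 (.node (nat_lit 0x7efdfb489) (.leaf (nat_lit 0x7efde4f7e) (nat_lit 1541))
 (.leaf (nat_lit 0x7efdfb489) (nat_lit 1540))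
)))) (.node (nat_lit 0x7f3ae0eb9) (.node (nat_lit 0x7efdfceb9) (.node (nat_lit 0x7efdfc54e) (.leaf (nat_lit 0x7efdfbf7e) (nat_lit 1025))
 (.leaf (nat_lit 0x7efdfc54e) (nat_lit 1284))
) (.node (nat_lit 0x7f3ae0252) (.leaf (nat_lit 0x7efdfceb9) (nat_lit 770))
 (.leaf (nat_lit 0x7f3ae0252) (nat_lit 1537))
)) (.node (nat_lit 0x7f3ae7f7e) (.node (nat_lit 0x7f3ae7395) (.leaf (nat_lit 0x7f3ae0eb9) (nat_lit 1539))
 (.leaf (nat_lit 0x7f3ae7395) (nat_lit 1282))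
) (.node (nat_lit 0x7f3af8395) (.leaf (nat_lit 0x7f3ae7f7e) (nat_lit 1284))
 (.node (nat_lit 0x7f3af8f7e) (.leaf (nat_lit 0x7f3af8395) (nat_lit 1029))
 (.leaf (nat_lit 0x7f3af8f7e) (nat_lit 1282))
))))) (.node (nat_lit 0x7f7bfce7a) (.node (nat_lit 0x7f7be4252) (.node (nat_lit 0x7f7be3395) (.node (nat_lit 0x7f3affeb9) (.leaf (nat_lit 0x7f3aff252) (nat_lit 1794))
 (.leaf (nat_lit 0x7f3affeb9) (nat_lit 1281))
) (.node (nat_lit 0x7f7be3e7a) (.leaf (nat_lit 0x7f7be3395) (nat_lit 1285))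
 (.leaf (nat_lit 0x7f7be3e7a) (nat_lit 1282))
)) (.node (nat_lit 0x7f7bfb252) (.node (nat_lit 0x7f7be4fbd) (.leaf (nat_lit 0x7f7be4252) (nat_lit 1793))
 (.leaf (nat_lit 0x7f7be4fbd) (nat_lit 1285))
) (.node (nat_lit 0x7f7bfbfbd) (.leaf (nat_lit 0x7f7bfb252) (nat_lit 1284))
 (.node (nat_lit 0x7f7bfc395) (.leaf (nat_lit 0x7f7bfbfbd) (nat_lit 769))
 (.leaf (nat_lit 0x7f7bfc395) (nat_lit 1540))
)))) (.node (nat_lit 0x7f9ea3def) (.node (nat_lit 0x7f9ea0af3) (.node (nat_lit 0x7f9ea0489) (.leaf (nat_lit 0x7f7bfce7a) (nat_lit 1026))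
 (.leaf (nat_lit 0x7f9ea0489) (nat_lit 1537))
) (.node (nat_lit 0x7f9ea3395) (.leaf (nat_lit 0x7f9ea0af3) (nat_lit 1797))
 (.leaf (nat_lit 0x7f9ea3395) (nat_lit 1285))
)) (.node (nat_lit 0x7f9ebcdef) (.node (nat_lit 0x7f9ebc395) (.leaf (nat_lit 0x7f9ea3def) (nat_lit 1282))
 (.leaf (nat_lit 0x7f9ebc395) (nat_lit 1539))
) (.node (nat_lit 0x7f9ebf489) (.leaf (nat_lit 0x7f9ebcdef) (nat_lit 1284))
 (.node (nat_lit 0x7f9ebfaf3) (.leaf (nat_lit 0x7f9ebf489) (nat_lit 1796))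
 (.leaf (nat_lit 0x7f9ebfaf3) (nat_lit 1281))
))))))) (.node (nat_lit 0x802064408) (.node (nat_lit 0x7fef6754e) (.node (nat_lit 0x7fdfa4bf7) (.node (nat_lit 0x7fae7c54e) (.node (nat_lit 0x7fae6354e) (.node (nat_lit 0x7fae60ceb) (.leaf (nat_lit 0x7fae60252) (nat_lit 1281))
 (.leaf (nat_lit 0x7fae60ceb) (nat_lit 1796))
) (.node (nat_lit 0x7fae63bf7) (.leaf (nat_lit 0x7fae6354e) (nat_lit 1029))
 (.leaf (nat_lit 0x7fae63bf7) (nat_lit 1282))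
)) (.node (nat_lit 0x7fae7f252) (.node (nat_lit 0x7fae7cbf7) (.leaf (nat_lit 0x7fae7c54e) (nat_lit 1283))
 (.leaf (nat_lit 0x7fae7cbf7) (nat_lit 1028))
) (.node (nat_lit 0x7fae7fceb) (.leaf (nat_lit 0x7fae7f252) (nat_lit 1797))
 (.node (nat_lit 0x7fdfa4489) (.leaf (nat_lit 0x7fae7fceb) (nat_lit 1537))
 (.leaf (nat_lit 0x7fdfa4489) (nat_lit 1796))
)))) (.node (nat_lit 0x7fdfb8ceb) (.node (nat_lit 0x7fdfa7ceb) (.node (nat_lit 0x7fdfa7395) (.leaf (nat_lit 0x7fdfa4bf7) (nat_lit 1282))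
 (.leaf (nat_lit 0x7fdfa7395) (nat_lit 1540))
) (.node (nat_lit 0x7fdfb8395) (.leaf (nat_lit 0x7fdfa7ceb) (nat_lit 1026))
 (.leaf (nat_lit 0x7fdfb8395) (nat_lit 1283))
)) (.node (nat_lit 0x7fdfbbbf7) (.node (nat_lit 0x7fdfbb489) (.leaf (nat_lit 0x7fdfb8ceb) (nat_lit 1282))
 (.leaf (nat_lit 0x7fdfbb489) (nat_lit 1539))
) (.node (nat_lit 0x7fef64252) (.leaf (nat_lit 0x7fdfbbbf7) (nat_lit 1029))
 (.node (nat_lit 0x7fef64def) (.leaf (nat_lit 0x7fef64252) (nat_lit 1797))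
 (.leaf (nat_lit 0x7fef64def) (nat_lit 1538))
))))) (.node (nat_lit 0x801087af3) (.node (nat_lit 0x7fef7b252) (.node (nat_lit 0x7fef7854e) (.node (nat_lit 0x7fef67af3) (.leaf (nat_lit 0x7fef6754e) (nat_lit 1541))
 (.leaf (nat_lit 0x7fef67af3) (nat_lit 1282))
) (.node (nat_lit 0x7fef78af3) (.leaf (nat_lit 0x7fef7854e) (nat_lit 1027))
 (.leaf (nat_lit 0x7fef78af3) (nat_lit 1284))
)) (.node (nat_lit 0x801084210) (.node (nat_lit 0x7fef7bdef) (.leaf (nat_lit 0x7fef7b252) (nat_lit 1283))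
 (.leaf (nat_lit 0x7fef7bdef) (nat_lit 1028))
) (.node (nat_lit 0x801084252) (.leaf (nat_lit 0x801084210) (nat_lit 516))
 (.node (nat_lit 0x801087ab1) (.leaf (nat_lit 0x801084252) (nat_lit 771))
 (.leaf (nat_lit 0x801087ab1) (nat_lit 1537))
)))) (.node (nat_lit 0x8010a7af3) (.node (nat_lit 0x8010a4252) (.node (nat_lit 0x8010a4210) (.leaf (nat_lit 0x801087af3) (nat_lit 1537))
 (.leaf (nat_lit 0x8010a4210) (nat_lit 1029))
) (.node (nat_lit 0x8010a7ab1) (.leaf (nat_lit 0x8010a4252) (nat_lit 1285))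
 (.leaf (nat_lit 0x8010a7ab1) (nat_lit 1537))
)) (.node (nat_lit 0x802044489) (.node (nat_lit 0x802044408) (.leaf (nat_lit 0x8010a7af3) (nat_lit 1281))
 (.leaf (nat_lit 0x802044408) (nat_lit 260))
) (.node (nat_lit 0x802047c6a) (.leaf (nat_lit 0x802044489) (nat_lit 515))
 (.node (nat_lit 0x802047ceb) (.leaf (nat_lit 0x802047c6a) (nat_lit 1281))
 (.leaf (nat_lit 0x802047ceb) (nat_lit 1537))
)))))) (.node (nat_lit 0x8094bfceb) (.node (nat_lit 0x808424252) (.node (nat_lit 0x808404042) (.node (nat_lit 0x802067c6a) (.node (nat_lit 0x802064489) (.leaf (nat_lit 0x802064408) (nat_lit 773))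
 (.leaf (nat_lit 0x802064489) (nat_lit 1029))
) (.node (nat_lit 0x802067ceb) (.leaf (nat_lit 0x802067c6a) (nat_lit 1793))
 (.leaf (nat_lit 0x802067ceb) (nat_lit 1537))
)) (.node (nat_lit 0x80841cc6a) (.node (nat_lit 0x808404252) (.leaf (nat_lit 0x808404042) (nat_lit 256))
 (.leaf (nat_lit 0x808404252) (nat_lit 772))
) (.node (nat_lit 0x80841ce7a) (.leaf (nat_lit 0x80841cc6a) (nat_lit 1281))
 (.node (nat_lit 0x808424042) (.leaf (nat_lit 0x80841ce7a) (nat_lit 1541))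
 (.leaf (nat_lit 0x808424042) (nat_lit 773))
)))) (.node (nat_lit 0x809484210) (.node (nat_lit 0x80843ce7a) (.node (nat_lit 0x80843cc6a) (.leaf (nat_lit 0x808424252) (nat_lit 1285))
 (.leaf (nat_lit 0x80843cc6a) (nat_lit 1540))
) (.node (nat_lit 0x809484042) (.leaf (nat_lit 0x80843ce7a) (nat_lit 1025))
 (.leaf (nat_lit 0x809484042) (nat_lit 771))
)) (.node (nat_lit 0x80949feb9) (.node (nat_lit 0x80949fceb) (.leaf (nat_lit 0x809484210) (nat_lit 515))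
 (.leaf (nat_lit 0x80949fceb) (nat_lit 1793))
) (.node (nat_lit 0x8094a4042) (.leaf (nat_lit 0x80949feb9) (nat_lit 1537))
 (.node (nat_lit 0x8094a4210) (.leaf (nat_lit 0x8094a4042) (nat_lit 1285))
 (.leaf (nat_lit 0x8094a4210) (nat_lit 1029))
))))) (.node (nat_lit 0x81023ceb9) (.node (nat_lit 0x81021cab1) (.node (nat_lit 0x810204081) (.node (nat_lit 0x8094bfeb9) (.leaf (nat_lit 0x8094bfceb) (nat_lit 1281))
 (.leaf (nat_lit 0x8094bfeb9) (nat_lit 1537))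
) (.node (nat_lit 0x810204489) (.leaf (nat_lit 0x810204081) (nat_lit 0))
 (.leaf (nat_lit 0x810204489) (nat_lit 516))
)) (.node (nat_lit 0x810224081) (.node (nat_lit 0x81021ceb9) (.leaf (nat_lit 0x81021cab1) (nat_lit 1025))
 (.leaf (nat_lit 0x81021ceb9) (nat_lit 1540))
) (.node (nat_lit 0x810224489) (.leaf (nat_lit 0x810224081) (nat_lit 517))
 (.node (nat_lit 0x81023cab1) (.leaf (nat_lit 0x810224489) (nat_lit 1029))
 (.leaf (nat_lit 0x81023cab1) (nat_lit 1541))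
)))) (.node (nat_lit 0x81225fe7a) (.node (nat_lit 0x812244408) (.node (nat_lit 0x812244081) (.leaf (nat_lit 0x81023ceb9) (nat_lit 1281))
 (.leaf (nat_lit 0x812244081) (nat_lit 515))
) (.node (nat_lit 0x81225faf3) (.leaf (nat_lit 0x812244408) (nat_lit 259))
 (.leaf (nat_lit 0x81225faf3) (nat_lit 1537))
)) (.node (nat_lit 0x812264408) (.node (nat_lit 0x812264081) (.leaf (nat_lit 0x81225fe7a) (nat_lit 1281))
 (.leaf (nat_lit 0x812264081) (nat_lit 1029))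
) (.node (nat_lit 0x81227faf3) (.leaf (nat_lit 0x812264408) (nat_lit 773))
 (.node (nat_lit 0x81227fe7a) (.leaf (nat_lit 0x81227faf3) (nat_lit 1537))
 (.leaf (nat_lit 0x81227fe7a) (nat_lit 1793))
)))))))) (.node (nat_lit 0x8cf5c4042) (.node (nat_lit 0x839ebc210) (.node (nat_lit 0x831a9c210) (.node (nat_lit 0x82bcc7ab1) (.node (nat_lit 0x82ac67042) (.node (nat_lit 0x82ac5c408) (.node (nat_lit 0x82ac47af3) (.leaf (nat_lit 0x82ac47042) (nat_lit 1541))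
 (.leaf (nat_lit 0x82ac47af3) (nat_lit 1537))
) (.node (nat_lit 0x82ac5ceb9) (.leaf (nat_lit 0x82ac5c408) (nat_lit 1284))
 (.leaf (nat_lit 0x82ac5ceb9) (nat_lit 1537))
)) (.node (nat_lit 0x82ac7c408) (.node (nat_lit 0x82ac67af3) (.leaf (nat_lit 0x82ac67042) (nat_lit 1539))
 (.leaf (nat_lit 0x82ac67af3) (nat_lit 1793))
) (.node (nat_lit 0x82ac7ceb9) (.leaf (nat_lit 0x82ac7c408) (nat_lit 1539))
 (.node (nat_lit 0x82bcc7042) (.leaf (nat_lit 0x82ac7ceb9) (nat_lit 1541))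
 (.leaf (nat_lit 0x82bcc7042) (nat_lit 1541))
)))) (.node (nat_lit 0x82bce7ab1) (.node (nat_lit 0x82bcdfe7a) (.node (nat_lit 0x82bcdf489) (.leaf (nat_lit 0x82bcc7ab1) (nat_lit 1796))
 (.leaf (nat_lit 0x82bcdf489) (nat_lit 1539))
) (.node (nat_lit 0x82bce7042) (.leaf (nat_lit 0x82bcdfe7a) (nat_lit 1794))
 (.leaf (nat_lit 0x82bce7042) (nat_lit 1540))
)) (.node (nat_lit 0x82bcffe7a) (.node (nat_lit 0x82bcff489) (.leaf (nat_lit 0x82bce7ab1) (nat_lit 1795))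
 (.leaf (nat_lit 0x82bcff489) (nat_lit 1541))
) (.node (nat_lit 0x831a87081) (.leaf (nat_lit 0x82bcffe7a) (nat_lit 1794))
 (.node (nat_lit 0x831a87ceb) (.leaf (nat_lit 0x831a87081) (nat_lit 1540))
 (.leaf (nat_lit 0x831a87ceb) (nat_lit 1537))
))))) (.node (nat_lit 0x833adfeb9) (.node (nat_lit 0x831abc210) (.node (nat_lit 0x831aa7081) (.node (nat_lit 0x831a9ce7a) (.leaf (nat_lit 0x831a9c210) (nat_lit 1285))
 (.leaf (nat_lit 0x831a9ce7a) (nat_lit 1281))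
) (.node (nat_lit 0x831aa7ceb) (.leaf (nat_lit 0x831aa7081) (nat_lit 1541))
 (.leaf (nat_lit 0x831aa7ceb) (nat_lit 1537))
)) (.node (nat_lit 0x833ac7081) (.node (nat_lit 0x831abce7a) (.leaf (nat_lit 0x831abc210) (nat_lit 1283))
 (.leaf (nat_lit 0x831abce7a) (nat_lit 1539))
) (.node (nat_lit 0x833ac7c6a) (.leaf (nat_lit 0x833ac7081) (nat_lit 1539))
 (.node (nat_lit 0x833adf252) (.leaf (nat_lit 0x833ac7c6a) (nat_lit 1796))
 (.leaf (nat_lit 0x833adf252) (nat_lit 1795))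
)))) (.node (nat_lit 0x833affeb9) (.node (nat_lit 0x833ae7c6a) (.node (nat_lit 0x833ae7081) (.leaf (nat_lit 0x833adfeb9) (nat_lit 1538))
 (.leaf (nat_lit 0x833ae7081) (nat_lit 1541))
) (.node (nat_lit 0x833aff252) (.leaf (nat_lit 0x833ae7c6a) (nat_lit 1797))
 (.leaf (nat_lit 0x833aff252) (nat_lit 1540))
)) (.node (nat_lit 0x839e9cc6a) (.node (nat_lit 0x839e9c210) (.leaf (nat_lit 0x833affeb9) (nat_lit 1538))
 (.leaf (nat_lit 0x839e9c210) (nat_lit 1539))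
) (.node (nat_lit 0x839e9f489) (.leaf (nat_lit 0x839e9cc6a) (nat_lit 1541))
 (.node (nat_lit 0x839e9faf3) (.leaf (nat_lit 0x839e9f489) (nat_lit 1537))
 (.leaf (nat_lit 0x839e9faf3) (nat_lit 1538))
)))))) (.node (nat_lit 0x8c10a7395) (.node (nat_lit 0x83ae7cab1) (.node (nat_lit 0x83ae5c408) (.node (nat_lit 0x839ebf489) (.node (nat_lit 0x839ebcc6a) (.leaf (nat_lit 0x839ebc210) (nat_lit 1284))
 (.leaf (nat_lit 0x839ebcc6a) (nat_lit 1539))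
) (.node (nat_lit 0x839ebfaf3) (.leaf (nat_lit 0x839ebf489) (nat_lit 1795))
 (.leaf (nat_lit 0x839ebfaf3) (nat_lit 1538))
)) (.node (nat_lit 0x83ae5f252) (.node (nat_lit 0x83ae5cab1) (.leaf (nat_lit 0x83ae5c408) (nat_lit 1283))
 (.leaf (nat_lit 0x83ae5cab1) (nat_lit 1539))
) (.node (nat_lit 0x83ae5fceb) (.leaf (nat_lit 0x83ae5f252) (nat_lit 1541))
 (.node (nat_lit 0x83ae7c408) (.leaf (nat_lit 0x83ae5fceb) (nat_lit 1537))
 (.leaf (nat_lit 0x83ae7c408) (nat_lit 1285))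
)))) (.node (nat_lit 0x8c10843d7) (.node (nat_lit 0x83ae7fceb) (.node (nat_lit 0x83ae7f252) (.leaf (nat_lit 0x83ae7cab1) (nat_lit 1795))
 (.leaf (nat_lit 0x83ae7f252) (nat_lit 1539))
) (.node (nat_lit 0x8c1084395) (.leaf (nat_lit 0x83ae7fceb) (nat_lit 1794))
 (.leaf (nat_lit 0x8c1084395) (nat_lit 1540))
)) (.node (nat_lit 0x8c1087bf7) (.node (nat_lit 0x8c1087bb5) (.leaf (nat_lit 0x8c10843d7) (nat_lit 1537))
 (.leaf (nat_lit 0x8c1087bb5) (nat_lit 1541))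
) (.node (nat_lit 0x8c10a4bb5) (.leaf (nat_lit 0x8c1087bf7) (nat_lit 1539))
 (.node (nat_lit 0x8c10a4bf7) (.leaf (nat_lit 0x8c10a4bb5) (nat_lit 1795))
 (.leaf (nat_lit 0x8c10a4bf7) (nat_lit 1540))
))))) (.node (nat_lit 0x8c20675cf) (.node (nat_lit 0x8c2047d6e) (.node (nat_lit 0x8c204454e) (.node (nat_lit 0x8c10a73d7) (.leaf (nat_lit 0x8c10a7395) (nat_lit 1539))
 (.leaf (nat_lit 0x8c10a73d7) (nat_lit 1540))
) (.node (nat_lit 0x8c20445cf) (.leaf (nat_lit 0x8c204454e) (nat_lit 1284))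
 (.leaf (nat_lit 0x8c20445cf) (nat_lit 1538))
)) (.node (nat_lit 0x8c2064d6e) (.node (nat_lit 0x8c2047def) (.leaf (nat_lit 0x8c2047d6e) (nat_lit 1539))
 (.leaf (nat_lit 0x8c2047def) (nat_lit 1283))
) (.node (nat_lit 0x8c2064def) (.leaf (nat_lit 0x8c2064d6e) (nat_lit 1797))
 (.node (nat_lit 0x8c206754e) (.leaf (nat_lit 0x8c2064def) (nat_lit 1541))
 (.leaf (nat_lit 0x8c206754e) (nat_lit 1795))
)))) (.node (nat_lit 0x8ce55fe7a) (.node (nat_lit 0x8ce5443d7) (.node (nat_lit 0x8ce544042) (.leaf (nat_lit 0x8c20675cf) (nat_lit 1541))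
 (.leaf (nat_lit 0x8ce544042) (nat_lit 1281))
) (.node (nat_lit 0x8ce55fdef) (.leaf (nat_lit 0x8ce5443d7) (nat_lit 1796))
 (.leaf (nat_lit 0x8ce55fdef) (nat_lit 769))
)) (.node (nat_lit 0x8ce5673d7) (.node (nat_lit 0x8ce567042) (.leaf (nat_lit 0x8ce55fe7a) (nat_lit 1284))
 (.leaf (nat_lit 0x8ce567042) (nat_lit 1797))
) (.node (nat_lit 0x8ce57cdef) (.leaf (nat_lit 0x8ce5673d7) (nat_lit 1281))
 (.node (nat_lit 0x8ce57ce7a) (.leaf (nat_lit 0x8ce57cdef) (nat_lit 1285))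
 (.leaf (nat_lit 0x8ce57ce7a) (nat_lit 1283))
))))))) (.node (nat_lit 0x8efde4042) (.node (nat_lit 0x8d73dcbb5) (.node (nat_lit 0x8d53845cf) (.node (nat_lit 0x8cf5e7042) (.node (nat_lit 0x8cf5dcd6e) (.node (nat_lit 0x8cf5c4395) (.leaf (nat_lit 0x8cf5c4042) (nat_lit 1538))
 (.leaf (nat_lit 0x8cf5c4395) (nat_lit 1539))
) (.node (nat_lit 0x8cf5dceb9) (.leaf (nat_lit 0x8cf5dcd6e) (nat_lit 1283))
 (.leaf (nat_lit 0x8cf5dceb9) (nat_lit 773))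
)) (.node (nat_lit 0x8cf5ffd6e) (.node (nat_lit 0x8cf5e7395) (.leaf (nat_lit 0x8cf5e7042) (nat_lit 1282))
 (.leaf (nat_lit 0x8cf5e7395) (nat_lit 1540))
) (.node (nat_lit 0x8cf5ffeb9) (.leaf (nat_lit 0x8cf5ffd6e) (nat_lit 1540))
 (.node (nat_lit 0x8d5384081) (.leaf (nat_lit 0x8cf5ffeb9) (nat_lit 1026))
 (.leaf (nat_lit 0x8d5384081) (nat_lit 1025))
)))) (.node (nat_lit 0x8d53a75cf) (.node (nat_lit 0x8d539feb9) (.node (nat_lit 0x8d539fbf7) (.leaf (nat_lit 0x8d53845cf) (nat_lit 1540))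
 (.leaf (nat_lit 0x8d539fbf7) (nat_lit 1025))
) (.node (nat_lit 0x8d53a7081) (.leaf (nat_lit 0x8d539feb9) (nat_lit 1028))
 (.leaf (nat_lit 0x8d53a7081) (nat_lit 1541))
)) (.node (nat_lit 0x8d53bceb9) (.node (nat_lit 0x8d53bcbf7) (.leaf (nat_lit 0x8d53a75cf) (nat_lit 1537))
 (.leaf (nat_lit 0x8d53bcbf7) (nat_lit 1029))
) (.node (nat_lit 0x8d73c4081) (.leaf (nat_lit 0x8d53bceb9) (nat_lit 1285))
 (.node (nat_lit 0x8d73c454e) (.leaf (nat_lit 0x8d73c4081) (nat_lit 1539))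
 (.leaf (nat_lit 0x8d73c454e) (nat_lit 1283))
))))) (.node (nat_lit 0x8eed5ce7a) (.node (nat_lit 0x8d73ffbb5) (.node (nat_lit 0x8d73e7081) (.node (nat_lit 0x8d73dce7a) (.leaf (nat_lit 0x8d73dcbb5) (nat_lit 1027))
 (.leaf (nat_lit 0x8d73dce7a) (nat_lit 772))
) (.node (nat_lit 0x8d73e754e) (.leaf (nat_lit 0x8d73e7081) (nat_lit 1538))
 (.leaf (nat_lit 0x8d73e754e) (nat_lit 1541))
)) (.node (nat_lit 0x8eed47042) (.node (nat_lit 0x8d73ffe7a) (.leaf (nat_lit 0x8d73ffbb5) (nat_lit 1541))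
 (.leaf (nat_lit 0x8d73ffe7a) (nat_lit 1282))
) (.node (nat_lit 0x8eed47bf7) (.leaf (nat_lit 0x8eed47042) (nat_lit 1795))
 (.node (nat_lit 0x8eed5c5cf) (.leaf (nat_lit 0x8eed47bf7) (nat_lit 1285))
 (.leaf (nat_lit 0x8eed5c5cf) (nat_lit 1027))
)))) (.node (nat_lit 0x8eed7fe7a) (.node (nat_lit 0x8eed64bf7) (.node (nat_lit 0x8eed64042) (.leaf (nat_lit 0x8eed5ce7a) (nat_lit 771))
 (.leaf (nat_lit 0x8eed64042) (nat_lit 1537))
) (.node (nat_lit 0x8eed7f5cf) (.leaf (nat_lit 0x8eed64bf7) (nat_lit 1539))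
 (.leaf (nat_lit 0x8eed7f5cf) (nat_lit 1281))
)) (.node (nat_lit 0x8efdc7bb5) (.node (nat_lit 0x8efdc7042) (.leaf (nat_lit 0x8eed7fe7a) (nat_lit 1285))
 (.leaf (nat_lit 0x8efdc7042) (nat_lit 1796))
) (.node (nat_lit 0x8efddf54e) (.leaf (nat_lit 0x8efdc7bb5) (nat_lit 1281))
 (.node (nat_lit 0x8efddfeb9) (.leaf (nat_lit 0x8efddf54e) (nat_lit 1284))
 (.leaf (nat_lit 0x8efddfeb9) (nat_lit 1026))
)))))) (.node (nat_lit 0x8f7bfc395) (.node (nat_lit 0x8f5ba4def) (.node (nat_lit 0x8f5b87081) (.node (nat_lit 0x8efdfc54e) (.node (nat_lit 0x8efde4bb5) (.leaf (nat_lit 0x8efde4042) (nat_lit 1281))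
 (.leaf (nat_lit 0x8efde4bb5) (nat_lit 1797))
) (.node (nat_lit 0x8efdfceb9) (.leaf (nat_lit 0x8efdfc54e) (nat_lit 1285))
 (.leaf (nat_lit 0x8efdfceb9) (nat_lit 773))
)) (.node (nat_lit 0x8f5b9c3d7) (.node (nat_lit 0x8f5b87def) (.leaf (nat_lit 0x8f5b87081) (nat_lit 1539))
 (.leaf (nat_lit 0x8f5b87def) (nat_lit 1284))
) (.node (nat_lit 0x8f5b9ceb9) (.leaf (nat_lit 0x8f5b9c3d7) (nat_lit 1029))
 (.node (nat_lit 0x8f5ba4081) (.leaf (nat_lit 0x8f5b9ceb9) (nat_lit 1027))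
 (.leaf (nat_lit 0x8f5ba4081) (nat_lit 1537))
)))) (.node (nat_lit 0x8f7bc7d6e) (.node (nat_lit 0x8f5bbfeb9) (.node (nat_lit 0x8f5bbf3d7) (.leaf (nat_lit 0x8f5ba4def) (nat_lit 1795))
 (.leaf (nat_lit 0x8f5bbf3d7) (nat_lit 1282))
) (.node (nat_lit 0x8f7bc7081) (.leaf (nat_lit 0x8f5bbfeb9) (nat_lit 1541))
 (.leaf (nat_lit 0x8f7bc7081) (nat_lit 1540))
)) (.node (nat_lit 0x8f7bdfe7a) (.node (nat_lit 0x8f7bdf395) (.leaf (nat_lit 0x8f7bc7d6e) (nat_lit 1025))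
 (.leaf (nat_lit 0x8f7bdf395) (nat_lit 1028))
) (.node (nat_lit 0x8f7be4081) (.leaf (nat_lit 0x8f7bdfe7a) (nat_lit 1282))
 (.node (nat_lit 0x8f7be4d6e) (.leaf (nat_lit 0x8f7be4081) (nat_lit 1537))
 (.leaf (nat_lit 0x8f7be4d6e) (nat_lit 1541))
))))) (.node (nat_lit 0x8f9ebfbb5) (.node (nat_lit 0x8f9e9f395) (.node (nat_lit 0x8f9e9c5cf) (.node (nat_lit 0x8f7bfce7a) (.leaf (nat_lit 0x8f7bfc395) (nat_lit 1541))
 (.leaf (nat_lit 0x8f7bfce7a) (nat_lit 1029))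
) (.node (nat_lit 0x8f9e9cbb5) (.leaf (nat_lit 0x8f9e9c5cf) (nat_lit 513))
 (.leaf (nat_lit 0x8f9e9cbb5) (nat_lit 1028))
)) (.node (nat_lit 0x8f9ebc395) (.node (nat_lit 0x8f9e9fdef) (.leaf (nat_lit 0x8f9e9f395) (nat_lit 1025))
 (.leaf (nat_lit 0x8f9e9fdef) (nat_lit 1283))
) (.node (nat_lit 0x8f9ebcdef) (.leaf (nat_lit 0x8f9ebc395) (nat_lit 1541))
 (.node (nat_lit 0x8f9ebf5cf) (.leaf (nat_lit 0x8f9ebcdef) (nat_lit 1025))
 (.leaf (nat_lit 0x8f9ebf5cf) (nat_lit 1029))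
)))) (.node (nat_lit 0x8fae5fbf7) (.node (nat_lit 0x8fae5cd6e) (.node (nat_lit 0x8fae5c3d7) (.leaf (nat_lit 0x8f9ebfbb5) (nat_lit 1537))
 (.leaf (nat_lit 0x8fae5c3d7) (nat_lit 769))
) (.node (nat_lit 0x8fae5f54e) (.leaf (nat_lit 0x8fae5cd6e) (nat_lit 1284))
 (.leaf (nat_lit 0x8fae5f54e) (nat_lit 769))
)) (.node (nat_lit 0x8fae7cbf7) (.node (nat_lit 0x8fae7c54e) (.leaf (nat_lit 0x8fae5fbf7) (nat_lit 1284))
 (.leaf (nat_lit 0x8fae7c54e) (nat_lit 1285))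
) (.node (nat_lit 0x8fae7f3d7) (.leaf (nat_lit 0x8fae7cbf7) (nat_lit 1029))
 (.node (nat_lit 0x8fae7fd6e) (.leaf (nat_lit 0x8fae7f3d7) (nat_lit 1285))
 (.leaf (nat_lit 0x8fae7fd6e) (nat_lit 1281))
)))))))))) (.node (nat_lit 0xec94845cf) (.node (nat_lit 0x9eac47042) (.node (nat_lit 0x937bc7081) (.node (nat_lit 0x910220081) (.node (nat_lit 0x90841cd6e) (.node (nat_lit 0x902044489) (.node (nat_lit 0x9010a0210) (.node (nat_lit 0x901087bb5) (.node (nat_lit 0x901084252) (.leaf (nat_lit 0x901084210) (nat_lit 1026))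
 (.leaf (nat_lit 0x901084252) (nat_lit 1282))
) (.node (nat_lit 0x901087bf7) (.leaf (nat_lit 0x901087bb5) (nat_lit 1537))
 (.leaf (nat_lit 0x901087bf7) (nat_lit 1537))
)) (.node (nat_lit 0x9010a3bb5) (.node (nat_lit 0x9010a0252) (.leaf (nat_lit 0x9010a0210) (nat_lit 772))
 (.leaf (nat_lit 0x9010a0252) (nat_lit 1027))
) (.node (nat_lit 0x9010a3bf7) (.leaf (nat_lit 0x9010a3bb5) (nat_lit 1793))
 (.node (nat_lit 0x902044408) (.leaf (nat_lit 0x9010a3bf7) (nat_lit 1537))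
 (.leaf (nat_lit 0x902044408) (nat_lit 770))
)))) (.node (nat_lit 0x902060489) (.node (nat_lit 0x902047def) (.node (nat_lit 0x902047d6e) (.leaf (nat_lit 0x902044489) (nat_lit 1026))
 (.leaf (nat_lit 0x902047d6e) (nat_lit 1793))
) (.node (nat_lit 0x902060408) (.leaf (nat_lit 0x902047def) (nat_lit 1537))
 (.leaf (nat_lit 0x902060408) (nat_lit 516))
)) (.node (nat_lit 0x902063def) (.node (nat_lit 0x902063d6e) (.leaf (nat_lit 0x902060489) (nat_lit 771))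
 (.leaf (nat_lit 0x902063d6e) (nat_lit 1537))
) (.node (nat_lit 0x908404042) (.leaf (nat_lit 0x902063def) (nat_lit 1281))
 (.node (nat_lit 0x908404252) (.leaf (nat_lit 0x908404042) (nat_lit 770))
 (.leaf (nat_lit 0x908404252) (nat_lit 1282))
))))) (.node (nat_lit 0x90949ffbd) (.node (nat_lit 0x908438d6e) (.node (nat_lit 0x908420042) (.node (nat_lit 0x90841cf7e) (.leaf (nat_lit 0x90841cd6e) (nat_lit 1793))
 (.leaf (nat_lit 0x90841cf7e) (nat_lit 1281))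
) (.node (nat_lit 0x908420252) (.leaf (nat_lit 0x908420042) (nat_lit 514))
 (.leaf (nat_lit 0x908420252) (nat_lit 1028))
)) (.node (nat_lit 0x909484042) (.node (nat_lit 0x908438f7e) (.leaf (nat_lit 0x908438d6e) (nat_lit 1537))
 (.leaf (nat_lit 0x908438f7e) (nat_lit 1537))
) (.node (nat_lit 0x909484210) (.leaf (nat_lit 0x909484042) (nat_lit 1282))
 (.node (nat_lit 0x90949fdef) (.leaf (nat_lit 0x909484210) (nat_lit 1026))
 (.leaf (nat_lit 0x90949fdef) (nat_lit 1281))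
)))) (.node (nat_lit 0x9094bbfbd) (.node (nat_lit 0x9094a0210) (.node (nat_lit 0x9094a0042) (.leaf (nat_lit 0x90949ffbd) (nat_lit 1539))
 (.leaf (nat_lit 0x9094a0042) (nat_lit 1027))
) (.node (nat_lit 0x9094bbdef) (.leaf (nat_lit 0x9094a0210) (nat_lit 771))
 (.leaf (nat_lit 0x9094bbdef) (nat_lit 1538))
)) (.node (nat_lit 0x910204489) (.node (nat_lit 0x910204081) (.leaf (nat_lit 0x9094bbfbd) (nat_lit 1537))
 (.leaf (nat_lit 0x910204081) (nat_lit 514))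
) (.node (nat_lit 0x91021cbb5) (.leaf (nat_lit 0x910204489) (nat_lit 1026))
 (.node (nat_lit 0x91021cfbd) (.leaf (nat_lit 0x91021cbb5) (nat_lit 1537))
 (.leaf (nat_lit 0x91021cfbd) (nat_lit 1537))
)))))) (.node (nat_lit 0x92ed78408) (.node (nat_lit 0x912260408) (.node (nat_lit 0x912244081) (.node (nat_lit 0x910238bb5) (.node (nat_lit 0x910220489) (.leaf (nat_lit 0x910220081) (nat_lit 258))
 (.leaf (nat_lit 0x910220489) (nat_lit 772))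
) (.node (nat_lit 0x910238fbd) (.leaf (nat_lit 0x910238bb5) (nat_lit 1281))
 (.leaf (nat_lit 0x910238fbd) (nat_lit 1537))
)) (.node (nat_lit 0x91225fbf7) (.node (nat_lit 0x912244408) (.leaf (nat_lit 0x912244081) (nat_lit 1026))
 (.leaf (nat_lit 0x912244408) (nat_lit 770))
) (.node (nat_lit 0x91225ff7e) (.leaf (nat_lit 0x91225fbf7) (nat_lit 1537))
 (.node (nat_lit 0x912260081) (.leaf (nat_lit 0x91225ff7e) (nat_lit 1538))
 (.leaf (nat_lit 0x912260081) (nat_lit 771))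
)))) (.node (nat_lit 0x92ed47bf7) (.node (nat_lit 0x91227bf7e) (.node (nat_lit 0x91227bbf7) (.leaf (nat_lit 0x912260408) (nat_lit 515))
 (.leaf (nat_lit 0x91227bbf7) (nat_lit 1539))
) (.node (nat_lit 0x92ed47042) (.leaf (nat_lit 0x91227bf7e) (nat_lit 1281))
 (.leaf (nat_lit 0x92ed47042) (nat_lit 1795))
)) (.node (nat_lit 0x92ed5cfbd) (.node (nat_lit 0x92ed5c408) (.leaf (nat_lit 0x92ed47bf7) (nat_lit 1282))
 (.leaf (nat_lit 0x92ed5c408) (nat_lit 1795))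
) (.node (nat_lit 0x92ed63042) (.leaf (nat_lit 0x92ed5cfbd) (nat_lit 1794))
 (.node (nat_lit 0x92ed63bf7) (.leaf (nat_lit 0x92ed63042) (nat_lit 1795))
 (.leaf (nat_lit 0x92ed63bf7) (nat_lit 1538))
))))) (.node (nat_lit 0x92fdfbf7e) (.node (nat_lit 0x92fddf489) (.node (nat_lit 0x92fdc7042) (.node (nat_lit 0x92ed78fbd) (.leaf (nat_lit 0x92ed78408) (nat_lit 1540))
 (.leaf (nat_lit 0x92ed78fbd) (nat_lit 1538))
) (.node (nat_lit 0x92fdc7bb5) (.leaf (nat_lit 0x92fdc7042) (nat_lit 1794))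
 (.leaf (nat_lit 0x92fdc7bb5) (nat_lit 1540))
)) (.node (nat_lit 0x92fde3042) (.node (nat_lit 0x92fddff7e) (.leaf (nat_lit 0x92fddf489) (nat_lit 1796))
 (.leaf (nat_lit 0x92fddff7e) (nat_lit 1282))
) (.node (nat_lit 0x92fde3bb5) (.leaf (nat_lit 0x92fde3042) (nat_lit 1541))
 (.node (nat_lit 0x92fdfb489) (.leaf (nat_lit 0x92fde3bb5) (nat_lit 1538))
 (.leaf (nat_lit 0x92fdfb489) (nat_lit 1539))
)))) (.node (nat_lit 0x935b9cf7e) (.node (nat_lit 0x935b87def) (.node (nat_lit 0x935b87081) (.leaf (nat_lit 0x92fdfbf7e) (nat_lit 1284))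
 (.leaf (nat_lit 0x935b87081) (nat_lit 1797))
) (.node (nat_lit 0x935b9c210) (.leaf (nat_lit 0x935b87def) (nat_lit 1538))
 (.leaf (nat_lit 0x935b9c210) (nat_lit 1539))
)) (.node (nat_lit 0x935ba3def) (.node (nat_lit 0x935ba3081) (.leaf (nat_lit 0x935b9cf7e) (nat_lit 1538))
 (.leaf (nat_lit 0x935ba3081) (nat_lit 1539))
) (.node (nat_lit 0x935bb8210) (.leaf (nat_lit 0x935ba3def) (nat_lit 1540))
 (.node (nat_lit 0x935bb8f7e) (.leaf (nat_lit 0x935bb8210) (nat_lit 1541))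
 (.leaf (nat_lit 0x935bb8f7e) (nat_lit 1537))
))))))) (.node (nat_lit 0x9c2060c6a) (.node (nat_lit 0x93ef5f252) (.node (nat_lit 0x93df9cd6e) (.node (nat_lit 0x937be3081) (.node (nat_lit 0x937bdf252) (.node (nat_lit 0x937bc7d6e) (.leaf (nat_lit 0x937bc7081) (nat_lit 1797))
 (.leaf (nat_lit 0x937bc7d6e) (nat_lit 1538))
) (.node (nat_lit 0x937bdffbd) (.leaf (nat_lit 0x937bdf252) (nat_lit 1540))
 (.leaf (nat_lit 0x937bdffbd) (nat_lit 1026))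
)) (.node (nat_lit 0x937bfb252) (.node (nat_lit 0x937be3d6e) (.leaf (nat_lit 0x937be3081) (nat_lit 1540))
 (.leaf (nat_lit 0x937be3d6e) (nat_lit 1282))
) (.node (nat_lit 0x937bfbfbd) (.leaf (nat_lit 0x937bfb252) (nat_lit 1795))
 (.node (nat_lit 0x93df9c210) (.leaf (nat_lit 0x937bfbfbd) (nat_lit 1282))
 (.leaf (nat_lit 0x93df9c210) (nat_lit 1537))
)))) (.node (nat_lit 0x93dfb8d6e) (.node (nat_lit 0x93df9fbf7) (.node (nat_lit 0x93df9f489) (.leaf (nat_lit 0x93df9cd6e) (nat_lit 1538))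
 (.leaf (nat_lit 0x93df9f489) (nat_lit 1795))
) (.node (nat_lit 0x93dfb8210) (.leaf (nat_lit 0x93df9fbf7) (nat_lit 1282))
 (.leaf (nat_lit 0x93dfb8210) (nat_lit 1795))
)) (.node (nat_lit 0x93dfbbbf7) (.node (nat_lit 0x93dfbb489) (.leaf (nat_lit 0x93dfb8d6e) (nat_lit 1794))
 (.leaf (nat_lit 0x93dfbb489) (nat_lit 1540))
) (.node (nat_lit 0x93ef5c408) (.leaf (nat_lit 0x93dfbbbf7) (nat_lit 1026))
 (.node (nat_lit 0x93ef5cbb5) (.leaf (nat_lit 0x93ef5c408) (nat_lit 1541))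
 (.leaf (nat_lit 0x93ef5cbb5) (nat_lit 1794))
))))) (.node (nat_lit 0x9c1087af3) (.node (nat_lit 0x93ef7b252) (.node (nat_lit 0x93ef78408) (.node (nat_lit 0x93ef5fdef) (.leaf (nat_lit 0x93ef5f252) (nat_lit 1539))
 (.leaf (nat_lit 0x93ef5fdef) (nat_lit 1284))
) (.node (nat_lit 0x93ef78bb5) (.leaf (nat_lit 0x93ef78408) (nat_lit 1539))
 (.leaf (nat_lit 0x93ef78bb5) (nat_lit 1538))
)) (.node (nat_lit 0x9c1084395) (.node (nat_lit 0x93ef7bdef) (.leaf (nat_lit 0x93ef7b252) (nat_lit 1796))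
 (.leaf (nat_lit 0x93ef7bdef) (nat_lit 1282))
) (.node (nat_lit 0x9c10843d7) (.leaf (nat_lit 0x9c1084395) (nat_lit 1538))
 (.node (nat_lit 0x9c1087ab1) (.leaf (nat_lit 0x9c10843d7) (nat_lit 1284))
 (.leaf (nat_lit 0x9c1087ab1) (nat_lit 1795))
)))) (.node (nat_lit 0x9c10a33d7) (.node (nat_lit 0x9c10a0af3) (.node (nat_lit 0x9c10a0ab1) (.leaf (nat_lit 0x9c1087af3) (nat_lit 1537))
 (.leaf (nat_lit 0x9c10a0ab1) (nat_lit 1796))
) (.node (nat_lit 0x9c10a3395) (.leaf (nat_lit 0x9c10a0af3) (nat_lit 1541))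
 (.leaf (nat_lit 0x9c10a3395) (nat_lit 1796))
)) (.node (nat_lit 0x9c20445cf) (.node (nat_lit 0x9c204454e) (.leaf (nat_lit 0x9c10a33d7) (nat_lit 1537))
 (.leaf (nat_lit 0x9c204454e) (nat_lit 1794))
) (.node (nat_lit 0x9c2047c6a) (.leaf (nat_lit 0x9c20445cf) (nat_lit 1540))
 (.node (nat_lit 0x9c2047ceb) (.leaf (nat_lit 0x9c2047c6a) (nat_lit 1795))
 (.leaf (nat_lit 0x9c2047ceb) (nat_lit 1537))
)))))) (.node (nat_lit 0x9cf5fbc6a) (.node (nat_lit 0x9ce5633d7) (.node (nat_lit 0x9ce544042) (.node (nat_lit 0x9c206354e) (.node (nat_lit 0x9c2060ceb) (.leaf (nat_lit 0x9c2060c6a) (nat_lit 1540))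
 (.leaf (nat_lit 0x9c2060ceb) (nat_lit 1540))
) (.node (nat_lit 0x9c20635cf) (.leaf (nat_lit 0x9c206354e) (nat_lit 1540))
 (.leaf (nat_lit 0x9c20635cf) (nat_lit 1281))
)) (.node (nat_lit 0x9ce55fceb) (.node (nat_lit 0x9ce5443d7) (.leaf (nat_lit 0x9ce544042) (nat_lit 1539))
 (.leaf (nat_lit 0x9ce5443d7) (nat_lit 1283))
) (.node (nat_lit 0x9ce55ff7e) (.leaf (nat_lit 0x9ce55fceb) (nat_lit 1282))
 (.node (nat_lit 0x9ce563042) (.leaf (nat_lit 0x9ce55ff7e) (nat_lit 1541))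
 (.leaf (nat_lit 0x9ce563042) (nat_lit 1538))
)))) (.node (nat_lit 0x9cf5c4395) (.node (nat_lit 0x9ce578f7e) (.node (nat_lit 0x9ce578ceb) (.leaf (nat_lit 0x9ce5633d7) (nat_lit 1541))
 (.leaf (nat_lit 0x9ce578ceb) (nat_lit 1283))
) (.node (nat_lit 0x9cf5c4042) (.leaf (nat_lit 0x9ce578f7e) (nat_lit 1027))
 (.leaf (nat_lit 0x9cf5c4042) (nat_lit 1025))
)) (.node (nat_lit 0x9cf5dcfbd) (.node (nat_lit 0x9cf5dcc6a) (.leaf (nat_lit 0x9cf5c4395) (nat_lit 1540))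
 (.leaf (nat_lit 0x9cf5dcc6a) (nat_lit 1282))
) (.node (nat_lit 0x9cf5e3042) (.leaf (nat_lit 0x9cf5dcfbd) (nat_lit 1029))
 (.node (nat_lit 0x9cf5e3395) (.leaf (nat_lit 0x9cf5e3042) (nat_lit 1541))
 (.leaf (nat_lit 0x9cf5e3395) (nat_lit 1537))
))))) (.node (nat_lit 0x9d53b8fbd) (.node (nat_lit 0x9d539faf3) (.node (nat_lit 0x9d5384081) (.node (nat_lit 0x9cf5fbfbd) (.leaf (nat_lit 0x9cf5fbc6a) (nat_lit 1028))
 (.leaf (nat_lit 0x9cf5fbfbd) (nat_lit 769))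
) (.node (nat_lit 0x9d53845cf) (.leaf (nat_lit 0x9d5384081) (nat_lit 1538))
 (.leaf (nat_lit 0x9d53845cf) (nat_lit 1539))
)) (.node (nat_lit 0x9d53a3081) (.node (nat_lit 0x9d539ffbd) (.leaf (nat_lit 0x9d539faf3) (nat_lit 1026))
 (.leaf (nat_lit 0x9d539ffbd) (nat_lit 1540))
) (.node (nat_lit 0x9d53a35cf) (.leaf (nat_lit 0x9d53a3081) (nat_lit 1282))
 (.node (nat_lit 0x9d53b8af3) (.leaf (nat_lit 0x9d53a35cf) (nat_lit 1540))
 (.leaf (nat_lit 0x9d53b8af3) (nat_lit 1285))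
)))) (.node (nat_lit 0x9d73dcf7e) (.node (nat_lit 0x9d73c454e) (.node (nat_lit 0x9d73c4081) (.leaf (nat_lit 0x9d53b8fbd) (nat_lit 1283))
 (.leaf (nat_lit 0x9d73c4081) (nat_lit 1281))
) (.node (nat_lit 0x9d73dcab1) (.leaf (nat_lit 0x9d73c454e) (nat_lit 1796))
 (.leaf (nat_lit 0x9d73dcab1) (nat_lit 1282))
)) (.node (nat_lit 0x9d73e354e) (.node (nat_lit 0x9d73e3081) (.leaf (nat_lit 0x9d73dcf7e) (nat_lit 1285))
 (.leaf (nat_lit 0x9d73e3081) (nat_lit 1540))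
) (.node (nat_lit 0x9d73fbab1) (.leaf (nat_lit 0x9d73e354e) (nat_lit 1281))
 (.node (nat_lit 0x9d73fbf7e) (.leaf (nat_lit 0x9d73fbab1) (nat_lit 1284))
 (.leaf (nat_lit 0x9d73fbf7e) (nat_lit 1025))
)))))))) (.node (nat_lit 0xe15384210) (.node (nat_lit 0x9fdfb8395) (.node (nat_lit 0x9f1a9c3d7) (.node (nat_lit 0x9ebcc7ab1) (.node (nat_lit 0x9eac60042) (.node (nat_lit 0x9eac5c5cf) (.node (nat_lit 0x9eac47af3) (.leaf (nat_lit 0x9eac47042) (nat_lit 1538))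
 (.leaf (nat_lit 0x9eac47af3) (nat_lit 1537))
) (.node (nat_lit 0x9eac5cf7e) (.leaf (nat_lit 0x9eac5c5cf) (nat_lit 1282))
 (.leaf (nat_lit 0x9eac5cf7e) (nat_lit 1283))
)) (.node (nat_lit 0x9eac7b5cf) (.node (nat_lit 0x9eac60af3) (.leaf (nat_lit 0x9eac60042) (nat_lit 1537))
 (.leaf (nat_lit 0x9eac60af3) (nat_lit 1539))
) (.node (nat_lit 0x9eac7bf7e) (.leaf (nat_lit 0x9eac7b5cf) (nat_lit 1026))
 (.node (nat_lit 0x9ebcc7042) (.leaf (nat_lit 0x9eac7bf7e) (nat_lit 1539))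
 (.leaf (nat_lit 0x9ebcc7042) (nat_lit 1538))
)))) (.node (nat_lit 0x9ebce0ab1) (.node (nat_lit 0x9ebcdffbd) (.node (nat_lit 0x9ebcdf54e) (.leaf (nat_lit 0x9ebcc7ab1) (nat_lit 1793))
 (.leaf (nat_lit 0x9ebcdf54e) (nat_lit 1284))
) (.node (nat_lit 0x9ebce0042) (.leaf (nat_lit 0x9ebcdffbd) (nat_lit 1025))
 (.leaf (nat_lit 0x9ebce0042) (nat_lit 1281))
)) (.node (nat_lit 0x9ebcf8fbd) (.node (nat_lit 0x9ebcf854e) (.leaf (nat_lit 0x9ebce0ab1) (nat_lit 1795))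
 (.leaf (nat_lit 0x9ebcf854e) (nat_lit 1282))
) (.node (nat_lit 0x9f1a87081) (.leaf (nat_lit 0x9ebcf8fbd) (nat_lit 1029))
 (.node (nat_lit 0x9f1a87ceb) (.leaf (nat_lit 0x9f1a87081) (nat_lit 1538))
 (.leaf (nat_lit 0x9f1a87ceb) (nat_lit 1537))
))))) (.node (nat_lit 0x9f3adff7e) (.node (nat_lit 0x9f1abb3d7) (.node (nat_lit 0x9f1aa0081) (.node (nat_lit 0x9f1a9cfbd) (.leaf (nat_lit 0x9f1a9c3d7) (nat_lit 1026))
 (.leaf (nat_lit 0x9f1a9cfbd) (nat_lit 1539))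
) (.node (nat_lit 0x9f1aa0ceb) (.leaf (nat_lit 0x9f1aa0081) (nat_lit 1281))
 (.leaf (nat_lit 0x9f1aa0ceb) (nat_lit 1539))
)) (.node (nat_lit 0x9f3ac7081) (.node (nat_lit 0x9f1abbfbd) (.leaf (nat_lit 0x9f1abb3d7) (nat_lit 770))
 (.leaf (nat_lit 0x9f1abbfbd) (nat_lit 1283))
) (.node (nat_lit 0x9f3ac7c6a) (.leaf (nat_lit 0x9f3ac7081) (nat_lit 1794))
 (.node (nat_lit 0x9f3adf395) (.leaf (nat_lit 0x9f3ac7c6a) (nat_lit 1537))
 (.leaf (nat_lit 0x9f3adf395) (nat_lit 1282))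
)))) (.node (nat_lit 0x9f3af8f7e) (.node (nat_lit 0x9f3ae0c6a) (.node (nat_lit 0x9f3ae0081) (.leaf (nat_lit 0x9f3adff7e) (nat_lit 1281))
 (.leaf (nat_lit 0x9f3ae0081) (nat_lit 1281))
) (.node (nat_lit 0x9f3af8395) (.leaf (nat_lit 0x9f3ae0c6a) (nat_lit 1539))
 (.leaf (nat_lit 0x9f3af8395) (nat_lit 1026))
)) (.node (nat_lit 0x9fdf9cab1) (.node (nat_lit 0x9fdf9c5cf) (.leaf (nat_lit 0x9f3af8f7e) (nat_lit 1028))
 (.leaf (nat_lit 0x9fdf9c5cf) (nat_lit 1025))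
) (.node (nat_lit 0x9fdf9f395) (.leaf (nat_lit 0x9fdf9cab1) (nat_lit 1538))
 (.node (nat_lit 0x9fdf9fceb) (.leaf (nat_lit 0x9fdf9f395) (nat_lit 1537))
 (.leaf (nat_lit 0x9fdf9fceb) (nat_lit 1285))
)))))) (.node (nat_lit 0xe0843c54e) (.node (nat_lit 0x9fef78af3) (.node (nat_lit 0x9fef5c3d7) (.node (nat_lit 0x9fdfbb5cf) (.node (nat_lit 0x9fdfb8ceb) (.leaf (nat_lit 0x9fdfb8395) (nat_lit 1284))
 (.leaf (nat_lit 0x9fdfb8ceb) (nat_lit 769))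
) (.node (nat_lit 0x9fdfbbab1) (.leaf (nat_lit 0x9fdfbb5cf) (nat_lit 1284))
 (.leaf (nat_lit 0x9fdfbbab1) (nat_lit 1281))
)) (.node (nat_lit 0x9fef5f54e) (.node (nat_lit 0x9fef5cc6a) (.leaf (nat_lit 0x9fef5c3d7) (nat_lit 1281))
 (.leaf (nat_lit 0x9fef5cc6a) (nat_lit 1282))
) (.node (nat_lit 0x9fef5faf3) (.leaf (nat_lit 0x9fef5f54e) (nat_lit 1281))
 (.node (nat_lit 0x9fef7854e) (.leaf (nat_lit 0x9fef5faf3) (nat_lit 1284))
 (.leaf (nat_lit 0x9fef7854e) (nat_lit 1540))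
)))) (.node (nat_lit 0xe0840475e) (.node (nat_lit 0x9fef7bc6a) (.node (nat_lit 0x9fef7b3d7) (.leaf (nat_lit 0x9fef78af3) (nat_lit 1025))
 (.leaf (nat_lit 0x9fef7b3d7) (nat_lit 1028))
) (.node (nat_lit 0xe0840454e) (.leaf (nat_lit 0x9fef7bc6a) (nat_lit 1025))
 (.leaf (nat_lit 0xe0840454e) (nat_lit 1540))
)) (.node (nat_lit 0xe0841cf7e) (.node (nat_lit 0xe0841cd6e) (.leaf (nat_lit 0xe0840475e) (nat_lit 1538))
 (.leaf (nat_lit 0xe0841cd6e) (nat_lit 1795))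
) (.node (nat_lit 0xe08424d6e) (.leaf (nat_lit 0xe0841cf7e) (nat_lit 1795))
 (.node (nat_lit 0xe08424f7e) (.leaf (nat_lit 0xe08424d6e) (nat_lit 1540))
 (.leaf (nat_lit 0xe08424f7e) (nat_lit 1538))
))))) (.node (nat_lit 0xe0e57c79d) (.node (nat_lit 0xe0e55fceb) (.node (nat_lit 0xe0e544408) (.node (nat_lit 0xe0843c75e) (.leaf (nat_lit 0xe0843c54e) (nat_lit 1795))
 (.leaf (nat_lit 0xe0843c75e) (nat_lit 1796))
) (.node (nat_lit 0xe0e54479d) (.leaf (nat_lit 0xe0e544408) (nat_lit 1281))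
 (.leaf (nat_lit 0xe0e54479d) (nat_lit 1539))
)) (.node (nat_lit 0xe0e567ceb) (.node (nat_lit 0xe0e55ff7e) (.leaf (nat_lit 0xe0e55fceb) (nat_lit 1028))
 (.leaf (nat_lit 0xe0e55ff7e) (nat_lit 1281))
) (.node (nat_lit 0xe0e567f7e) (.leaf (nat_lit 0xe0e567ceb) (nat_lit 1283))
 (.node (nat_lit 0xe0e57c408) (.leaf (nat_lit 0xe0e567f7e) (nat_lit 1285))
 (.leaf (nat_lit 0xe0e57c408) (nat_lit 1794))
)))) (.node (nat_lit 0xe1021cfbd) (.node (nat_lit 0xe1020479d) (.node (nat_lit 0xe10204395) (.leaf (nat_lit 0xe0e57c79d) (nat_lit 1793))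
 (.leaf (nat_lit 0xe10204395) (nat_lit 1540))
) (.node (nat_lit 0xe1021cbb5) (.leaf (nat_lit 0xe1020479d) (nat_lit 1540))
 (.leaf (nat_lit 0xe1021cbb5) (nat_lit 1539))
)) (.node (nat_lit 0xe10224fbd) (.node (nat_lit 0xe10224bb5) (.leaf (nat_lit 0xe1021cfbd) (nat_lit 1539))
 (.leaf (nat_lit 0xe10224bb5) (nat_lit 1541))
) (.node (nat_lit 0xe1023c395) (.leaf (nat_lit 0xe10224fbd) (nat_lit 1794))
 (.node (nat_lit 0xe1023c79d) (.leaf (nat_lit 0xe1023c395) (nat_lit 1797))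
 (.leaf (nat_lit 0xe1023c79d) (nat_lit 1797))
))))))) (.node (nat_lit 0xe2ed64408) (.node (nat_lit 0xe1e747af3) (.node (nat_lit 0xe1d78454e) (.node (nat_lit 0xe153a7af3) (.node (nat_lit 0xe1539faf3) (.node (nat_lit 0xe1538475e) (.leaf (nat_lit 0xe15384210) (nat_lit 1281))
 (.leaf (nat_lit 0xe1538475e) (nat_lit 1795))
) (.node (nat_lit 0xe1539ffbd) (.leaf (nat_lit 0xe1539faf3) (nat_lit 1029))
 (.leaf (nat_lit 0xe1539ffbd) (nat_lit 1025))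
)) (.node (nat_lit 0xe153bc210) (.node (nat_lit 0xe153a7fbd) (.leaf (nat_lit 0xe153a7af3) (nat_lit 1027))
 (.leaf (nat_lit 0xe153a7fbd) (nat_lit 1283))
) (.node (nat_lit 0xe153bc75e) (.leaf (nat_lit 0xe153bc210) (nat_lit 1538))
 (.node (nat_lit 0xe1d784210) (.leaf (nat_lit 0xe153bc75e) (nat_lit 1537))
 (.leaf (nat_lit 0xe1d784210) (nat_lit 1537))
)))) (.node (nat_lit 0xe1d7bc54e) (.node (nat_lit 0xe1d787ceb) (.node (nat_lit 0xe1d787bb5) (.leaf (nat_lit 0xe1d78454e) (nat_lit 1539))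
 (.leaf (nat_lit 0xe1d787bb5) (nat_lit 1027))
) (.node (nat_lit 0xe1d7bc210) (.leaf (nat_lit 0xe1d787ceb) (nat_lit 772))
 (.leaf (nat_lit 0xe1d7bc210) (nat_lit 1537))
)) (.node (nat_lit 0xe1d7bfceb) (.node (nat_lit 0xe1d7bfbb5) (.leaf (nat_lit 0xe1d7bc54e) (nat_lit 1537))
 (.leaf (nat_lit 0xe1d7bfbb5) (nat_lit 1541))
) (.node (nat_lit 0xe1e744395) (.leaf (nat_lit 0xe1d7bfceb) (nat_lit 1285))
 (.node (nat_lit 0xe1e744408) (.leaf (nat_lit 0xe1e744395) (nat_lit 1537))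
 (.leaf (nat_lit 0xe1e744408) (nat_lit 1281))
))))) (.node (nat_lit 0xe2bcdffbd) (.node (nat_lit 0xe1e77faf3) (.node (nat_lit 0xe1e77c395) (.node (nat_lit 0xe1e747d6e) (.leaf (nat_lit 0xe1e747af3) (nat_lit 516))
 (.leaf (nat_lit 0xe1e747d6e) (nat_lit 771))
) (.node (nat_lit 0xe1e77c408) (.leaf (nat_lit 0xe1e77c395) (nat_lit 1793))
 (.leaf (nat_lit 0xe1e77c408) (nat_lit 1538))
)) (.node (nat_lit 0xe2bcc779d) (.node (nat_lit 0xe1e77fd6e) (.leaf (nat_lit 0xe1e77faf3) (nat_lit 1029))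
 (.leaf (nat_lit 0xe1e77fd6e) (nat_lit 1285))
) (.node (nat_lit 0xe2bcc7d6e) (.leaf (nat_lit 0xe2bcc779d) (nat_lit 257))
 (.node (nat_lit 0xe2bcdf54e) (.leaf (nat_lit 0xe2bcc7d6e) (nat_lit 772))
 (.leaf (nat_lit 0xe2bcdf54e) (nat_lit 1025))
)))) (.node (nat_lit 0xe2bcffd6e) (.node (nat_lit 0xe2bce7fbd) (.node (nat_lit 0xe2bce754e) (.leaf (nat_lit 0xe2bcdffbd) (nat_lit 1285))
 (.leaf (nat_lit 0xe2bce754e) (nat_lit 1284))
) (.node (nat_lit 0xe2bcff79d) (.leaf (nat_lit 0xe2bce7fbd) (nat_lit 769))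
 (.leaf (nat_lit 0xe2bcff79d) (nat_lit 773))
)) (.node (nat_lit 0xe2ed47ceb) (.node (nat_lit 0xe2ed4775e) (.leaf (nat_lit 0xe2bcffd6e) (nat_lit 1285))
 (.leaf (nat_lit 0xe2ed4775e) (nat_lit 1027))
) (.node (nat_lit 0xe2ed5c408) (.leaf (nat_lit 0xe2ed47ceb) (nat_lit 771))
 (.node (nat_lit 0xe2ed5cfbd) (.leaf (nat_lit 0xe2ed5c408) (nat_lit 1796))
 (.leaf (nat_lit 0xe2ed5cfbd) (nat_lit 1281))
)))))) (.node (nat_lit 0xe35bbf79d) (.node (nat_lit 0xe33ae7f7e) (.node (nat_lit 0xe33ac775e) (.node (nat_lit 0xe2ed7f75e) (.node (nat_lit 0xe2ed64fbd) (.leaf (nat_lit 0xe2ed64408) (nat_lit 1537))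
 (.leaf (nat_lit 0xe2ed64fbd) (nat_lit 1793))
) (.node (nat_lit 0xe2ed7fceb) (.leaf (nat_lit 0xe2ed7f75e) (nat_lit 1541))
 (.leaf (nat_lit 0xe2ed7fceb) (nat_lit 1285))
)) (.node (nat_lit 0xe33adf395) (.node (nat_lit 0xe33ac7bb5) (.leaf (nat_lit 0xe33ac775e) (nat_lit 513))
 (.leaf (nat_lit 0xe33ac7bb5) (nat_lit 1028))
) (.node (nat_lit 0xe33adff7e) (.leaf (nat_lit 0xe33adf395) (nat_lit 769))
 (.node (nat_lit 0xe33ae7395) (.leaf (nat_lit 0xe33adff7e) (nat_lit 1284))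
 (.leaf (nat_lit 0xe33ae7395) (nat_lit 1285))
)))) (.node (nat_lit 0xe35b87af3) (.node (nat_lit 0xe33affbb5) (.node (nat_lit 0xe33aff75e) (.leaf (nat_lit 0xe33ae7f7e) (nat_lit 1025))
 (.leaf (nat_lit 0xe33aff75e) (nat_lit 1029))
) (.node (nat_lit 0xe35b8779d) (.leaf (nat_lit 0xe33affbb5) (nat_lit 1281))
 (.leaf (nat_lit 0xe35b8779d) (nat_lit 771))
)) (.node (nat_lit 0xe35b9cf7e) (.node (nat_lit 0xe35b9c210) (.leaf (nat_lit 0xe35b87af3) (nat_lit 515))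
 (.leaf (nat_lit 0xe35b9c210) (nat_lit 1793))
) (.node (nat_lit 0xe35ba4210) (.leaf (nat_lit 0xe35b9cf7e) (nat_lit 1537))
 (.node (nat_lit 0xe35ba4f7e) (.leaf (nat_lit 0xe35ba4210) (nat_lit 1281))
 (.leaf (nat_lit 0xe35ba4f7e) (nat_lit 1796))
))))) (.node (nat_lit 0xe3dfa7ceb) (.node (nat_lit 0xe3df9f395) (.node (nat_lit 0xe3df9c210) (.node (nat_lit 0xe35bbfaf3) (.leaf (nat_lit 0xe35bbf79d) (nat_lit 1285))
 (.leaf (nat_lit 0xe35bbfaf3) (nat_lit 1029))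
) (.node (nat_lit 0xe3df9cd6e) (.leaf (nat_lit 0xe3df9c210) (nat_lit 1794))
 (.leaf (nat_lit 0xe3df9cd6e) (nat_lit 1537))
)) (.node (nat_lit 0xe3dfa4210) (.node (nat_lit 0xe3df9fceb) (.leaf (nat_lit 0xe3df9f395) (nat_lit 1283))
 (.leaf (nat_lit 0xe3df9fceb) (nat_lit 1027))
) (.node (nat_lit 0xe3dfa4d6e) (.leaf (nat_lit 0xe3dfa4210) (nat_lit 1537))
 (.node (nat_lit 0xe3dfa7395) (.leaf (nat_lit 0xe3dfa4d6e) (nat_lit 1539))
 (.leaf (nat_lit 0xe3dfa7395) (nat_lit 1539))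
)))) (.node (nat_lit 0xe3ef5faf3) (.node (nat_lit 0xe3ef5cbb5) (.node (nat_lit 0xe3ef5c408) (.leaf (nat_lit 0xe3dfa7ceb) (nat_lit 1029))
 (.leaf (nat_lit 0xe3ef5c408) (nat_lit 1538))
) (.node (nat_lit 0xe3ef5f54e) (.leaf (nat_lit 0xe3ef5cbb5) (nat_lit 1281))
 (.leaf (nat_lit 0xe3ef5f54e) (nat_lit 1285))
)) (.node (nat_lit 0xe3ef64bb5) (.node (nat_lit 0xe3ef64408) (.leaf (nat_lit 0xe3ef5faf3) (nat_lit 1283))
 (.leaf (nat_lit 0xe3ef64408) (nat_lit 1537))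
) (.node (nat_lit 0xe3ef6754e) (.leaf (nat_lit 0xe3ef64bb5) (nat_lit 1795))
 (.node (nat_lit 0xe3ef67af3) (.leaf (nat_lit 0xe3ef6754e) (nat_lit 1283))
 (.leaf (nat_lit 0xe3ef67af3) (nat_lit 1028))
))))))))) (.node (nat_lit 0xf2ac4775e) (.node (nat_lit 0xef7bc775e) (.node (nat_lit 0xedd7bcab1) (.node (nat_lit 0xed225fbf7) (.node (nat_lit 0xecf5c475e) (.node (nat_lit 0xec94a4def) (.node (nat_lit 0xec949fdef) (.node (nat_lit 0xec948479d) (.leaf (nat_lit 0xec94845cf) (nat_lit 1540))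
 (.leaf (nat_lit 0xec948479d) (nat_lit 1795))
) (.node (nat_lit 0xec949ffbd) (.leaf (nat_lit 0xec949fdef) (nat_lit 1285))
 (.leaf (nat_lit 0xec949ffbd) (nat_lit 1283))
)) (.node (nat_lit 0xec94bf5cf) (.node (nat_lit 0xec94a4fbd) (.leaf (nat_lit 0xec94a4def) (nat_lit 1538))
 (.leaf (nat_lit 0xec94a4fbd) (nat_lit 1797))
) (.node (nat_lit 0xec94bf79d) (.leaf (nat_lit 0xec94bf5cf) (nat_lit 1283))
 (.node (nat_lit 0xecf5c4489) (.leaf (nat_lit 0xec94bf79d) (nat_lit 1539))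
 (.leaf (nat_lit 0xecf5c4489) (nat_lit 1537))
)))) (.node (nat_lit 0xecf5e7fbd) (.node (nat_lit 0xecf5dcfbd) (.node (nat_lit 0xecf5dcc6a) (.leaf (nat_lit 0xecf5c475e) (nat_lit 1797))
 (.leaf (nat_lit 0xecf5dcc6a) (nat_lit 772))
) (.node (nat_lit 0xecf5e7c6a) (.leaf (nat_lit 0xecf5dcfbd) (nat_lit 1026))
 (.leaf (nat_lit 0xecf5e7c6a) (nat_lit 1285))
)) (.node (nat_lit 0xecf5ff75e) (.node (nat_lit 0xecf5ff489) (.leaf (nat_lit 0xecf5e7fbd) (nat_lit 1029))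
 (.leaf (nat_lit 0xecf5ff489) (nat_lit 1796))
) (.node (nat_lit 0xed22443d7) (.leaf (nat_lit 0xecf5ff75e) (nat_lit 1281))
 (.node (nat_lit 0xed224475e) (.leaf (nat_lit 0xed22443d7) (nat_lit 1541))
 (.leaf (nat_lit 0xed224475e) (nat_lit 1794))
))))) (.node (nat_lit 0xed73dcf7e) (.node (nat_lit 0xed227f3d7) (.node (nat_lit 0xed2264bf7) (.node (nat_lit 0xed225ff7e) (.leaf (nat_lit 0xed225fbf7) (nat_lit 1283))
 (.leaf (nat_lit 0xed225ff7e) (nat_lit 1027))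
) (.node (nat_lit 0xed2264f7e) (.leaf (nat_lit 0xed2264bf7) (nat_lit 1537))
 (.leaf (nat_lit 0xed2264f7e) (nat_lit 1541))
)) (.node (nat_lit 0xed73c4252) (.node (nat_lit 0xed227f75e) (.leaf (nat_lit 0xed227f3d7) (nat_lit 1539))
 (.leaf (nat_lit 0xed227f75e) (nat_lit 1541))
) (.node (nat_lit 0xed73c479d) (.leaf (nat_lit 0xed73c4252) (nat_lit 1281))
 (.node (nat_lit 0xed73dcab1) (.leaf (nat_lit 0xed73c479d) (nat_lit 1541))
 (.leaf (nat_lit 0xed73dcab1) (nat_lit 1028))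
)))) (.node (nat_lit 0xed73ff79d) (.node (nat_lit 0xed73e7f7e) (.node (nat_lit 0xed73e7ab1) (.leaf (nat_lit 0xed73dcf7e) (nat_lit 1282))
 (.leaf (nat_lit 0xed73e7ab1) (nat_lit 1541))
) (.node (nat_lit 0xed73ff252) (.leaf (nat_lit 0xed73e7f7e) (nat_lit 1285))
 (.leaf (nat_lit 0xed73ff252) (nat_lit 1540))
)) (.node (nat_lit 0xedd784489) (.node (nat_lit 0xedd7843d7) (.leaf (nat_lit 0xed73ff79d) (nat_lit 1025))
 (.leaf (nat_lit 0xedd7843d7) (nat_lit 1538))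
) (.node (nat_lit 0xedd787ab1) (.leaf (nat_lit 0xedd784489) (nat_lit 1537))
 (.node (nat_lit 0xedd787def) (.leaf (nat_lit 0xedd787ab1) (nat_lit 1028))
 (.leaf (nat_lit 0xedd787def) (nat_lit 1282))
)))))) (.node (nat_lit 0xeeac7c75e) (.node (nat_lit 0xede77cc6a) (.node (nat_lit 0xede744252) (.node (nat_lit 0xedd7bf3d7) (.node (nat_lit 0xedd7bcdef) (.leaf (nat_lit 0xedd7bcab1) (nat_lit 1539))
 (.leaf (nat_lit 0xedd7bcdef) (nat_lit 1285))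
) (.node (nat_lit 0xedd7bf489) (.leaf (nat_lit 0xedd7bf3d7) (nat_lit 1285))
 (.leaf (nat_lit 0xedd7bf489) (nat_lit 1795))
)) (.node (nat_lit 0xede747bf7) (.node (nat_lit 0xede7445cf) (.leaf (nat_lit 0xede744252) (nat_lit 1537))
 (.leaf (nat_lit 0xede7445cf) (nat_lit 1539))
) (.node (nat_lit 0xede747c6a) (.leaf (nat_lit 0xede747bf7) (nat_lit 1281))
 (.node (nat_lit 0xede77cbf7) (.leaf (nat_lit 0xede747c6a) (nat_lit 1284))
 (.leaf (nat_lit 0xede77cbf7) (nat_lit 1284))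
)))) (.node (nat_lit 0xeeac47def) (.node (nat_lit 0xede77f5cf) (.node (nat_lit 0xede77f252) (.leaf (nat_lit 0xede77cc6a) (nat_lit 1283))
 (.leaf (nat_lit 0xede77f252) (nat_lit 1539))
) (.node (nat_lit 0xeeac4775e) (.leaf (nat_lit 0xede77f5cf) (nat_lit 1284))
 (.leaf (nat_lit 0xeeac4775e) (nat_lit 769))
)) (.node (nat_lit 0xeeac5cf7e) (.node (nat_lit 0xeeac5c5cf) (.leaf (nat_lit 0xeeac47def) (nat_lit 1284))
 (.leaf (nat_lit 0xeeac5c5cf) (nat_lit 769))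
) (.node (nat_lit 0xeeac675cf) (.leaf (nat_lit 0xeeac5cf7e) (nat_lit 1284))
 (.node (nat_lit 0xeeac67f7e) (.leaf (nat_lit 0xeeac675cf) (nat_lit 1285))
 (.leaf (nat_lit 0xeeac67f7e) (nat_lit 1281))
))))) (.node (nat_lit 0xeefdfcc6a) (.node (nat_lit 0xeefddf489) (.node (nat_lit 0xeefdc779d) (.node (nat_lit 0xeeac7cdef) (.leaf (nat_lit 0xeeac7c75e) (nat_lit 1285))
 (.leaf (nat_lit 0xeeac7cdef) (nat_lit 1281))
) (.node (nat_lit 0xeefdc7c6a) (.leaf (nat_lit 0xeefdc779d) (nat_lit 1282))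
 (.leaf (nat_lit 0xeefdc7c6a) (nat_lit 1283))
)) (.node (nat_lit 0xeefde4489) (.node (nat_lit 0xeefddff7e) (.leaf (nat_lit 0xeefddf489) (nat_lit 1283))
 (.leaf (nat_lit 0xeefddff7e) (nat_lit 1028))
) (.node (nat_lit 0xeefde4f7e) (.leaf (nat_lit 0xeefde4489) (nat_lit 1797))
 (.node (nat_lit 0xeefdfc79d) (.leaf (nat_lit 0xeefde4f7e) (nat_lit 1538))
 (.leaf (nat_lit 0xeefdfc79d) (nat_lit 1026))
)))) (.node (nat_lit 0xef1a9cfbd) (.node (nat_lit 0xef1a87bf7) (.node (nat_lit 0xef1a8779d) (.leaf (nat_lit 0xeefdfcc6a) (nat_lit 1284))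
 (.leaf (nat_lit 0xef1a8779d) (nat_lit 1025))
) (.node (nat_lit 0xef1a9c3d7) (.leaf (nat_lit 0xef1a87bf7) (nat_lit 1540))
 (.leaf (nat_lit 0xef1a9c3d7) (nat_lit 513))
)) (.node (nat_lit 0xef1aa7fbd) (.node (nat_lit 0xef1aa73d7) (.leaf (nat_lit 0xef1a9cfbd) (nat_lit 1028))
 (.leaf (nat_lit 0xef1aa73d7) (nat_lit 1029))
) (.node (nat_lit 0xef1abc79d) (.leaf (nat_lit 0xef1aa7fbd) (nat_lit 1537))
 (.node (nat_lit 0xef1abcbf7) (.leaf (nat_lit 0xef1abc79d) (nat_lit 1541))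
 (.leaf (nat_lit 0xef1abcbf7) (nat_lit 1025))
))))))) (.node (nat_lit 0xf0e563def) (.node (nat_lit 0xefef5f252) (.node (nat_lit 0xefdf9cab1) (.node (nat_lit 0xef7be4252) (.node (nat_lit 0xef7bdf252) (.node (nat_lit 0xef7bc7ab1) (.leaf (nat_lit 0xef7bc775e) (nat_lit 1283))
 (.leaf (nat_lit 0xef7bc7ab1) (nat_lit 1027))
) (.node (nat_lit 0xef7bdffbd) (.leaf (nat_lit 0xef7bdf252) (nat_lit 1539))
 (.leaf (nat_lit 0xef7bdffbd) (nat_lit 1029))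
)) (.node (nat_lit 0xef7bfc75e) (.node (nat_lit 0xef7be4fbd) (.leaf (nat_lit 0xef7be4252) (nat_lit 1796))
 (.leaf (nat_lit 0xef7be4fbd) (nat_lit 1282))
) (.node (nat_lit 0xef7bfcab1) (.leaf (nat_lit 0xef7bfc75e) (nat_lit 1282))
 (.node (nat_lit 0xefdf9c5cf) (.leaf (nat_lit 0xef7bfcab1) (nat_lit 1285))
 (.leaf (nat_lit 0xefdf9c5cf) (nat_lit 1283))
)))) (.node (nat_lit 0xefdfa4bf7) (.node (nat_lit 0xefdf9fbf7) (.node (nat_lit 0xefdf9f489) (.leaf (nat_lit 0xefdf9cab1) (nat_lit 1027))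
 (.leaf (nat_lit 0xefdf9f489) (nat_lit 1284))
) (.node (nat_lit 0xefdfa4489) (.leaf (nat_lit 0xefdf9fbf7) (nat_lit 769))
 (.leaf (nat_lit 0xefdfa4489) (nat_lit 1793))
)) (.node (nat_lit 0xefdfa7ab1) (.node (nat_lit 0xefdfa75cf) (.leaf (nat_lit 0xefdfa4bf7) (nat_lit 1285))
 (.leaf (nat_lit 0xefdfa75cf) (nat_lit 1281))
) (.node (nat_lit 0xefef5c3d7) (.leaf (nat_lit 0xefdfa7ab1) (nat_lit 1541))
 (.node (nat_lit 0xefef5cc6a) (.leaf (nat_lit 0xefef5c3d7) (nat_lit 1027))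
 (.leaf (nat_lit 0xefef5cc6a) (nat_lit 771))
))))) (.node (nat_lit 0xf0841ce7a) (.node (nat_lit 0xefef673d7) (.node (nat_lit 0xefef64252) (.node (nat_lit 0xefef5fdef) (.leaf (nat_lit 0xefef5f252) (nat_lit 1540))
 (.leaf (nat_lit 0xefef5fdef) (nat_lit 1025))
) (.node (nat_lit 0xefef64def) (.leaf (nat_lit 0xefef64252) (nat_lit 1537))
 (.leaf (nat_lit 0xefef64def) (nat_lit 1541))
)) (.node (nat_lit 0xf0840454e) (.node (nat_lit 0xefef67c6a) (.leaf (nat_lit 0xefef673d7) (nat_lit 1285))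
 (.leaf (nat_lit 0xefef67c6a) (nat_lit 1285))
) (.node (nat_lit 0xf0840475e) (.leaf (nat_lit 0xf0840454e) (nat_lit 1540))
 (.node (nat_lit 0xf0841cc6a) (.leaf (nat_lit 0xf0840475e) (nat_lit 1540))
 (.leaf (nat_lit 0xf0841cc6a) (nat_lit 1540))
)))) (.node (nat_lit 0xf0843875e) (.node (nat_lit 0xf08420e7a) (.node (nat_lit 0xf08420c6a) (.leaf (nat_lit 0xf0841ce7a) (nat_lit 1281))
 (.leaf (nat_lit 0xf08420c6a) (nat_lit 1538))
) (.node (nat_lit 0xf0843854e) (.leaf (nat_lit 0xf08420e7a) (nat_lit 1285))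
 (.leaf (nat_lit 0xf0843854e) (nat_lit 1793))
)) (.node (nat_lit 0xf0e54479d) (.node (nat_lit 0xf0e544408) (.leaf (nat_lit 0xf0843875e) (nat_lit 1537))
 (.leaf (nat_lit 0xf0e544408) (nat_lit 1537))
) (.node (nat_lit 0xf0e55fdef) (.leaf (nat_lit 0xf0e54479d) (nat_lit 1539))
 (.node (nat_lit 0xf0e55fe7a) (.leaf (nat_lit 0xf0e55fdef) (nat_lit 1282))
 (.leaf (nat_lit 0xf0e55fe7a) (nat_lit 1282))
)))))) (.node (nat_lit 0xf153b8210) (.node (nat_lit 0xf10220eb9) (.node (nat_lit 0xf10204395) (.node (nat_lit 0xf0e578408) (.node (nat_lit 0xf0e563e7a) (.leaf (nat_lit 0xf0e563def) (nat_lit 1027))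
 (.leaf (nat_lit 0xf0e563e7a) (nat_lit 1283))
) (.node (nat_lit 0xf0e57879d) (.leaf (nat_lit 0xf0e578408) (nat_lit 1538))
 (.leaf (nat_lit 0xf0e57879d) (nat_lit 1537))
)) (.node (nat_lit 0xf1021cab1) (.node (nat_lit 0xf1020479d) (.leaf (nat_lit 0xf10204395) (nat_lit 1538))
 (.leaf (nat_lit 0xf1020479d) (nat_lit 1540))
) (.node (nat_lit 0xf1021ceb9) (.leaf (nat_lit 0xf1021cab1) (nat_lit 1538))
 (.node (nat_lit 0xf10220ab1) (.leaf (nat_lit 0xf1021ceb9) (nat_lit 1537))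
 (.leaf (nat_lit 0xf10220ab1) (nat_lit 1282))
)))) (.node (nat_lit 0xf1538475e) (.node (nat_lit 0xf1023879d) (.node (nat_lit 0xf10238395) (.leaf (nat_lit 0xf10220eb9) (nat_lit 1284))
 (.leaf (nat_lit 0xf10238395) (nat_lit 1537))
) (.node (nat_lit 0xf15384210) (.leaf (nat_lit 0xf1023879d) (nat_lit 1537))
 (.leaf (nat_lit 0xf15384210) (nat_lit 1281))
)) (.node (nat_lit 0xf1539feb9) (.node (nat_lit 0xf1539fbf7) (.leaf (nat_lit 0xf1538475e) (nat_lit 1539))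
 (.leaf (nat_lit 0xf1539fbf7) (nat_lit 1285))
) (.node (nat_lit 0xf153a3bf7) (.leaf (nat_lit 0xf1539feb9) (nat_lit 1538))
 (.node (nat_lit 0xf153a3eb9) (.leaf (nat_lit 0xf153a3bf7) (nat_lit 771))
 (.leaf (nat_lit 0xf153a3eb9) (nat_lit 1027))
))))) (.node (nat_lit 0xf1d7bbdef) (.node (nat_lit 0xf1d787ab1) (.node (nat_lit 0xf1d784210) (.node (nat_lit 0xf153b875e) (.leaf (nat_lit 0xf153b8210) (nat_lit 1538))
 (.leaf (nat_lit 0xf153b875e) (nat_lit 1793))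
) (.node (nat_lit 0xf1d78454e) (.leaf (nat_lit 0xf1d784210) (nat_lit 1281))
 (.leaf (nat_lit 0xf1d78454e) (nat_lit 1539))
)) (.node (nat_lit 0xf1d7b8210) (.node (nat_lit 0xf1d787def) (.leaf (nat_lit 0xf1d787ab1) (nat_lit 1538))
 (.leaf (nat_lit 0xf1d787def) (nat_lit 1284))
) (.node (nat_lit 0xf1d7b854e) (.leaf (nat_lit 0xf1d7b8210) (nat_lit 1794))
 (.node (nat_lit 0xf1d7bbab1) (.leaf (nat_lit 0xf1d7b854e) (nat_lit 1793))
 (.leaf (nat_lit 0xf1d7bbab1) (nat_lit 1284))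
)))) (.node (nat_lit 0xf1e747c6a) (.node (nat_lit 0xf1e744408) (.node (nat_lit 0xf1e744395) (.leaf (nat_lit 0xf1d7bbdef) (nat_lit 1025))
 (.leaf (nat_lit 0xf1e744395) (nat_lit 1795))
) (.node (nat_lit 0xf1e747bf7) (.leaf (nat_lit 0xf1e744408) (nat_lit 1281))
 (.leaf (nat_lit 0xf1e747bf7) (nat_lit 1028))
)) (.node (nat_lit 0xf1e778408) (.node (nat_lit 0xf1e778395) (.leaf (nat_lit 0xf1e747c6a) (nat_lit 1282))
 (.leaf (nat_lit 0xf1e778395) (nat_lit 1537))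
) (.node (nat_lit 0xf1e77bbf7) (.leaf (nat_lit 0xf1e778408) (nat_lit 1538))
 (.node (nat_lit 0xf1e77bc6a) (.leaf (nat_lit 0xf1e77bbf7) (nat_lit 1281))
 (.leaf (nat_lit 0xf1e77bc6a) (nat_lit 1540))
)))))))) (.node (nat_lit 0xfd73c4252) (.node (nat_lit 0xf39ea0210) (.node (nat_lit 0xf31a9c210) (.node (nat_lit 0xf2fdc7c6a) (.node (nat_lit 0xf2ac60408) (.node (nat_lit 0xf2ac5c408) (.node (nat_lit 0xf2ac47def) (.leaf (nat_lit 0xf2ac4775e) (nat_lit 1282))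
 (.leaf (nat_lit 0xf2ac47def) (nat_lit 1283))
) (.node (nat_lit 0xf2ac5ceb9) (.leaf (nat_lit 0xf2ac5c408) (nat_lit 1538))
 (.leaf (nat_lit 0xf2ac5ceb9) (nat_lit 1797))
)) (.node (nat_lit 0xf2ac7b75e) (.node (nat_lit 0xf2ac60eb9) (.leaf (nat_lit 0xf2ac60408) (nat_lit 1539))
 (.leaf (nat_lit 0xf2ac60eb9) (nat_lit 1283))
) (.node (nat_lit 0xf2ac7bdef) (.leaf (nat_lit 0xf2ac7b75e) (nat_lit 1026))
 (.node (nat_lit 0xf2fdc779d) (.leaf (nat_lit 0xf2ac7bdef) (nat_lit 1284))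
 (.leaf (nat_lit 0xf2fdc779d) (nat_lit 769))
)))) (.node (nat_lit 0xf2fde3eb9) (.node (nat_lit 0xf2fddfeb9) (.node (nat_lit 0xf2fddf54e) (.leaf (nat_lit 0xf2fdc7c6a) (nat_lit 1284))
 (.leaf (nat_lit 0xf2fddf54e) (nat_lit 1537))
) (.node (nat_lit 0xf2fde354e) (.leaf (nat_lit 0xf2fddfeb9) (nat_lit 1029))
 (.leaf (nat_lit 0xf2fde354e) (nat_lit 1028))
)) (.node (nat_lit 0xf2fdfbc6a) (.node (nat_lit 0xf2fdfb79d) (.leaf (nat_lit 0xf2fde3eb9) (nat_lit 513))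
 (.leaf (nat_lit 0xf2fdfb79d) (nat_lit 1285))
) (.node (nat_lit 0xf31a8779d) (.leaf (nat_lit 0xf2fdfbc6a) (nat_lit 1281))
 (.node (nat_lit 0xf31a87bf7) (.leaf (nat_lit 0xf31a8779d) (nat_lit 1283))
 (.leaf (nat_lit 0xf31a87bf7) (nat_lit 1027))
))))) (.node (nat_lit 0xf37bdfe7a) (.node (nat_lit 0xf31abb79d) (.node (nat_lit 0xf31aa0210) (.node (nat_lit 0xf31a9ce7a) (.leaf (nat_lit 0xf31a9c210) (nat_lit 1282))
 (.leaf (nat_lit 0xf31a9ce7a) (nat_lit 1796))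
) (.node (nat_lit 0xf31aa0e7a) (.leaf (nat_lit 0xf31aa0210) (nat_lit 1541))
 (.leaf (nat_lit 0xf31aa0e7a) (nat_lit 1539))
)) (.node (nat_lit 0xf37bc775e) (.node (nat_lit 0xf31abbbf7) (.leaf (nat_lit 0xf31abb79d) (nat_lit 1282))
 (.leaf (nat_lit 0xf31abbbf7) (nat_lit 1285))
) (.node (nat_lit 0xf37bc7ab1) (.leaf (nat_lit 0xf37bc775e) (nat_lit 1025))
 (.node (nat_lit 0xf37bdf395) (.leaf (nat_lit 0xf37bc7ab1) (nat_lit 1540))
 (.leaf (nat_lit 0xf37bdf395) (nat_lit 1281))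
)))) (.node (nat_lit 0xf37bfbab1) (.node (nat_lit 0xf37be3e7a) (.node (nat_lit 0xf37be3395) (.leaf (nat_lit 0xf37bdfe7a) (nat_lit 1285))
 (.leaf (nat_lit 0xf37be3395) (nat_lit 1284))
) (.node (nat_lit 0xf37bfb75e) (.leaf (nat_lit 0xf37be3e7a) (nat_lit 769))
 (.leaf (nat_lit 0xf37bfb75e) (nat_lit 1284))
)) (.node (nat_lit 0xf39e9cc6a) (.node (nat_lit 0xf39e9c210) (.leaf (nat_lit 0xf37bfbab1) (nat_lit 1025))
 (.leaf (nat_lit 0xf39e9c210) (nat_lit 1540))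
) (.node (nat_lit 0xf39e9f395) (.leaf (nat_lit 0xf39e9cc6a) (nat_lit 1537))
 (.node (nat_lit 0xf39e9fdef) (.leaf (nat_lit 0xf39e9f395) (nat_lit 1538))
 (.leaf (nat_lit 0xf39e9fdef) (nat_lit 1281))
)))))) (.node (nat_lit 0xfc94bb5cf) (.node (nat_lit 0xf3ae60ab1) (.node (nat_lit 0xf3ae5c408) (.node (nat_lit 0xf39ea3395) (.node (nat_lit 0xf39ea0c6a) (.leaf (nat_lit 0xf39ea0210) (nat_lit 1281))
 (.leaf (nat_lit 0xf39ea0c6a) (nat_lit 1796))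
) (.node (nat_lit 0xf39ea3def) (.leaf (nat_lit 0xf39ea3395) (nat_lit 1283))
 (.leaf (nat_lit 0xf39ea3def) (nat_lit 1028))
)) (.node (nat_lit 0xf3ae5f54e) (.node (nat_lit 0xf3ae5cab1) (.leaf (nat_lit 0xf3ae5c408) (nat_lit 1541))
 (.leaf (nat_lit 0xf3ae5cab1) (nat_lit 1793))
) (.node (nat_lit 0xf3ae5fbf7) (.leaf (nat_lit 0xf3ae5f54e) (nat_lit 1282))
 (.node (nat_lit 0xf3ae60408) (.leaf (nat_lit 0xf3ae5fbf7) (nat_lit 1281))
 (.leaf (nat_lit 0xf3ae60408) (nat_lit 1025))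
)))) (.node (nat_lit 0xfc948479d) (.node (nat_lit 0xf3ae63bf7) (.node (nat_lit 0xf3ae6354e) (.leaf (nat_lit 0xf3ae60ab1) (nat_lit 1540))
 (.leaf (nat_lit 0xf3ae6354e) (nat_lit 1027))
) (.node (nat_lit 0xfc94845cf) (.leaf (nat_lit 0xf3ae63bf7) (nat_lit 772))
 (.leaf (nat_lit 0xfc94845cf) (nat_lit 1794))
)) (.node (nat_lit 0xfc949feb9) (.node (nat_lit 0xfc949fceb) (.leaf (nat_lit 0xfc948479d) (nat_lit 1796))
 (.leaf (nat_lit 0xfc949fceb) (nat_lit 1539))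
) (.node (nat_lit 0xfc94a0ceb) (.leaf (nat_lit 0xfc949feb9) (nat_lit 1795))
 (.node (nat_lit 0xfc94a0eb9) (.leaf (nat_lit 0xfc94a0ceb) (nat_lit 1541))
 (.leaf (nat_lit 0xfc94a0eb9) (nat_lit 1794))
))))) (.node (nat_lit 0xfcf5fb75e) (.node (nat_lit 0xfcf5dcd6e) (.node (nat_lit 0xfcf5c4489) (.node (nat_lit 0xfc94bb79d) (.leaf (nat_lit 0xfc94bb5cf) (nat_lit 1541))
 (.leaf (nat_lit 0xfc94bb79d) (nat_lit 1539))
) (.node (nat_lit 0xfcf5c475e) (.leaf (nat_lit 0xfcf5c4489) (nat_lit 1537))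
 (.leaf (nat_lit 0xfcf5c475e) (nat_lit 1794))
)) (.node (nat_lit 0xfcf5e3d6e) (.node (nat_lit 0xfcf5dceb9) (.leaf (nat_lit 0xfcf5dcd6e) (nat_lit 1284))
 (.leaf (nat_lit 0xfcf5dceb9) (nat_lit 770))
) (.node (nat_lit 0xfcf5e3eb9) (.leaf (nat_lit 0xfcf5e3d6e) (nat_lit 1539))
 (.node (nat_lit 0xfcf5fb489) (.leaf (nat_lit 0xfcf5e3eb9) (nat_lit 1026))
 (.leaf (nat_lit 0xfcf5fb489) (nat_lit 1539))
)))) (.node (nat_lit 0xfd225fe7a) (.node (nat_lit 0xfd224475e) (.node (nat_lit 0xfd22443d7) (.leaf (nat_lit 0xfcf5fb75e) (nat_lit 1284))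
 (.leaf (nat_lit 0xfd22443d7) (nat_lit 1538))
) (.node (nat_lit 0xfd225faf3) (.leaf (nat_lit 0xfd224475e) (nat_lit 1797))
 (.leaf (nat_lit 0xfd225faf3) (nat_lit 1795))
)) (.node (nat_lit 0xfd2260e7a) (.node (nat_lit 0xfd2260af3) (.leaf (nat_lit 0xfd225fe7a) (nat_lit 1539))
 (.leaf (nat_lit 0xfd2260af3) (nat_lit 1540))
) (.node (nat_lit 0xfd227b3d7) (.leaf (nat_lit 0xfd2260e7a) (nat_lit 1538))
 (.node (nat_lit 0xfd227b75e) (.leaf (nat_lit 0xfd227b3d7) (nat_lit 1539))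
 (.leaf (nat_lit 0xfd227b75e) (nat_lit 1283))
))))))) (.node (nat_lit 0xfeed635cf) (.node (nat_lit 0xfde747af3) (.node (nat_lit 0xfdd784489) (.node (nat_lit 0xfd73e3bb5) (.node (nat_lit 0xfd73dcbb5) (.node (nat_lit 0xfd73c479d) (.leaf (nat_lit 0xfd73c4252) (nat_lit 1537))
 (.leaf (nat_lit 0xfd73c479d) (nat_lit 1538))
) (.node (nat_lit 0xfd73dce7a) (.leaf (nat_lit 0xfd73dcbb5) (nat_lit 1540))
 (.leaf (nat_lit 0xfd73dce7a) (nat_lit 1026))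
)) (.node (nat_lit 0xfd73fb252) (.node (nat_lit 0xfd73e3e7a) (.leaf (nat_lit 0xfd73e3bb5) (nat_lit 1283))
 (.leaf (nat_lit 0xfd73e3e7a) (nat_lit 1028))
) (.node (nat_lit 0xfd73fb79d) (.leaf (nat_lit 0xfd73fb252) (nat_lit 1538))
 (.node (nat_lit 0xfdd7843d7) (.leaf (nat_lit 0xfd73fb79d) (nat_lit 1285))
 (.leaf (nat_lit 0xfdd7843d7) (nat_lit 1541))
)))) (.node (nat_lit 0xfdd7b8ceb) (.node (nat_lit 0xfdd787ceb) (.node (nat_lit 0xfdd787bb5) (.leaf (nat_lit 0xfdd784489) (nat_lit 1793))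
 (.leaf (nat_lit 0xfdd787bb5) (nat_lit 1538))
) (.node (nat_lit 0xfdd7b8bb5) (.leaf (nat_lit 0xfdd787ceb) (nat_lit 1026))
 (.leaf (nat_lit 0xfdd7b8bb5) (nat_lit 1283))
)) (.node (nat_lit 0xfdd7bb489) (.node (nat_lit 0xfdd7bb3d7) (.leaf (nat_lit 0xfdd7b8ceb) (nat_lit 1028))
 (.leaf (nat_lit 0xfdd7bb3d7) (nat_lit 1025))
) (.node (nat_lit 0xfde744252) (.leaf (nat_lit 0xfdd7bb489) (nat_lit 1540))
 (.node (nat_lit 0xfde7445cf) (.leaf (nat_lit 0xfde744252) (nat_lit 1537))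
 (.leaf (nat_lit 0xfde7445cf) (nat_lit 1797))
))))) (.node (nat_lit 0xfebcdfe7a) (.node (nat_lit 0xfde77b252) (.node (nat_lit 0xfde778af3) (.node (nat_lit 0xfde747d6e) (.leaf (nat_lit 0xfde747af3) (nat_lit 1026))
 (.leaf (nat_lit 0xfde747d6e) (nat_lit 1282))
) (.node (nat_lit 0xfde778d6e) (.leaf (nat_lit 0xfde778af3) (nat_lit 772))
 (.leaf (nat_lit 0xfde778d6e) (nat_lit 1027))
)) (.node (nat_lit 0xfebcc779d) (.node (nat_lit 0xfde77b5cf) (.leaf (nat_lit 0xfde77b252) (nat_lit 1796))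
 (.leaf (nat_lit 0xfde77b5cf) (nat_lit 1281))
) (.node (nat_lit 0xfebcc7d6e) (.leaf (nat_lit 0xfebcc779d) (nat_lit 770))
 (.node (nat_lit 0xfebcdf489) (.leaf (nat_lit 0xfebcc7d6e) (nat_lit 1282))
 (.leaf (nat_lit 0xfebcdf489) (nat_lit 1793))
)))) (.node (nat_lit 0xfebcf8d6e) (.node (nat_lit 0xfebce0e7a) (.node (nat_lit 0xfebce0489) (.leaf (nat_lit 0xfebcdfe7a) (nat_lit 1537))
 (.leaf (nat_lit 0xfebce0489) (nat_lit 1281))
) (.node (nat_lit 0xfebcf879d) (.leaf (nat_lit 0xfebce0e7a) (nat_lit 1793))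
 (.leaf (nat_lit 0xfebcf879d) (nat_lit 514))
)) (.node (nat_lit 0xfeed47ceb) (.node (nat_lit 0xfeed4775e) (.leaf (nat_lit 0xfebcf8d6e) (nat_lit 1028))
 (.leaf (nat_lit 0xfeed4775e) (nat_lit 1281))
) (.node (nat_lit 0xfeed5c5cf) (.leaf (nat_lit 0xfeed47ceb) (nat_lit 1282))
 (.node (nat_lit 0xfeed5ce7a) (.leaf (nat_lit 0xfeed5c5cf) (nat_lit 1281))
 (.leaf (nat_lit 0xfeed5ce7a) (nat_lit 1282))
)))))) (.node (nat_lit 0xff5bb879d) (.node (nat_lit 0xff3ae0eb9) (.node (nat_lit 0xff3ac775e) (.node (nat_lit 0xfeed7875e) (.node (nat_lit 0xfeed63e7a) (.leaf (nat_lit 0xfeed635cf) (nat_lit 1283))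
 (.leaf (nat_lit 0xfeed63e7a) (nat_lit 1025))
) (.node (nat_lit 0xfeed78ceb) (.leaf (nat_lit 0xfeed7875e) (nat_lit 1283))
 (.leaf (nat_lit 0xfeed78ceb) (nat_lit 1027))
)) (.node (nat_lit 0xff3adf252) (.node (nat_lit 0xff3ac7bb5) (.leaf (nat_lit 0xff3ac775e) (nat_lit 1026))
 (.leaf (nat_lit 0xff3ac7bb5) (nat_lit 1538))
) (.node (nat_lit 0xff3adfeb9) (.leaf (nat_lit 0xff3adf252) (nat_lit 1796))
 (.node (nat_lit 0xff3ae0252) (.leaf (nat_lit 0xff3adfeb9) (nat_lit 1281))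
 (.leaf (nat_lit 0xff3ae0252) (nat_lit 1537))
)))) (.node (nat_lit 0xff5b87af3) (.node (nat_lit 0xff3af8bb5) (.node (nat_lit 0xff3af875e) (.leaf (nat_lit 0xff3ae0eb9) (nat_lit 1793))
 (.leaf (nat_lit 0xff3af875e) (nat_lit 770))
) (.node (nat_lit 0xff5b8779d) (.leaf (nat_lit 0xff3af8bb5) (nat_lit 1284))
 (.leaf (nat_lit 0xff5b8779d) (nat_lit 1282))
)) (.node (nat_lit 0xff5b9ceb9) (.node (nat_lit 0xff5b9c3d7) (.leaf (nat_lit 0xff5b87af3) (nat_lit 1026))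
 (.leaf (nat_lit 0xff5b9c3d7) (nat_lit 1025))
) (.node (nat_lit 0xff5ba33d7) (.leaf (nat_lit 0xff5b9ceb9) (nat_lit 1283))
 (.node (nat_lit 0xff5ba3eb9) (.leaf (nat_lit 0xff5ba33d7) (nat_lit 1282))
 (.leaf (nat_lit 0xff5ba3eb9) (nat_lit 1281))
))))) (.node (nat_lit 0xff9ea3bb5) (.node (nat_lit 0xff9e9f489) (.node (nat_lit 0xff9e9c5cf) (.node (nat_lit 0xff5bb8af3) (.leaf (nat_lit 0xff5bb879d) (nat_lit 1027))
 (.leaf (nat_lit 0xff5bb8af3) (nat_lit 771))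
) (.node (nat_lit 0xff9e9cbb5) (.leaf (nat_lit 0xff9e9c5cf) (nat_lit 1026))
 (.leaf (nat_lit 0xff9e9cbb5) (nat_lit 1539))
)) (.node (nat_lit 0xff9ea0489) (.node (nat_lit 0xff9e9faf3) (.leaf (nat_lit 0xff9e9f489) (nat_lit 1794))
 (.leaf (nat_lit 0xff9e9faf3) (nat_lit 1281))
) (.node (nat_lit 0xff9ea0af3) (.leaf (nat_lit 0xff9ea0489) (nat_lit 1537))
 (.node (nat_lit 0xff9ea35cf) (.leaf (nat_lit 0xff9ea0af3) (nat_lit 1539))
 (.leaf (nat_lit 0xff9ea35cf) (nat_lit 770))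
)))) (.node (nat_lit 0xffae5fceb) (.node (nat_lit 0xffae5cd6e) (.node (nat_lit 0xffae5c3d7) (.leaf (nat_lit 0xff9ea3bb5) (nat_lit 1284))
 (.leaf (nat_lit 0xffae5c3d7) (nat_lit 1028))
) (.node (nat_lit 0xffae5f252) (.leaf (nat_lit 0xffae5cd6e) (nat_lit 1283))
 (.leaf (nat_lit 0xffae5f252) (nat_lit 1538))
)) (.node (nat_lit 0xffae60ceb) (.node (nat_lit 0xffae60252) (.leaf (nat_lit 0xffae5fceb) (nat_lit 1537))
 (.leaf (nat_lit 0xffae60252) (nat_lit 1793))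
) (.node (nat_lit 0xffae633d7) (.leaf (nat_lit 0xffae60ceb) (nat_lit 1795))
 (.node (nat_lit 0xffae63d6e) (.leaf (nat_lit 0xffae633d7) (nat_lit 1026))
 (.leaf (nat_lit 0xffae63d6e) (nat_lit 1540))
)))))))))))

theorem HT_ok : genOK B6.A [(nat_lit 0x808404042), (nat_lit 0xe2bcc779d), (nat_lit 0x910220081), (nat_lit 0x812244408), (nat_lit 0x802044408), (nat_lit 0x110220081)] HT_t (nat_lit 1152) = true := by decide +kernel

noncomputable def gT6_t : ST :=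
(.node (nat_lit 0x901084210) (.node (nat_lit 0x7c94a0ceb) (.node (nat_lit 0x1eed63042) (.node (nat_lit 0x1173e3081) (.node (nat_lit 0x10e578408) (.node (nat_lit 0x108424042) (.node (nat_lit 0x102060489) (.node (nat_lit 0x1010a4210) (.node (nat_lit 0x1010a3395) (.node (nat_lit 0x1010a0252) (.leaf (nat_lit 0x1010a0210) (nat_lit 776))
 (.leaf (nat_lit 0x1010a0252) (nat_lit 776))
) (.node (nat_lit 0x1010a33d7) (.leaf (nat_lit 0x1010a3395) (nat_lit 1025))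
 (.leaf (nat_lit 0x1010a33d7) (nat_lit 1544))
)) (.node (nat_lit 0x1010a7395) (.node (nat_lit 0x1010a4252) (.leaf (nat_lit 0x1010a4210) (nat_lit 775))
 (.leaf (nat_lit 0x1010a4252) (nat_lit 774))
) (.node (nat_lit 0x1010a73d7) (.leaf (nat_lit 0x1010a7395) (nat_lit 1543))
 (.node (nat_lit 0x102060408) (.leaf (nat_lit 0x1010a73d7) (nat_lit 1026))
 (.leaf (nat_lit 0x102060408) (nat_lit 520))
)))) (.node (nat_lit 0x102064489) (.node (nat_lit 0x1020635cf) (.node (nat_lit 0x10206354e) (.leaf (nat_lit 0x102060489) (nat_lit 520))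
 (.leaf (nat_lit 0x10206354e) (nat_lit 1026))
) (.node (nat_lit 0x102064408) (.leaf (nat_lit 0x1020635cf) (nat_lit 1544))
 (.leaf (nat_lit 0x102064408) (nat_lit 519))
)) (.node (nat_lit 0x1020675cf) (.node (nat_lit 0x10206754e) (.leaf (nat_lit 0x102064489) (nat_lit 518))
 (.leaf (nat_lit 0x10206754e) (nat_lit 1543))
) (.node (nat_lit 0x108420042) (.leaf (nat_lit 0x1020675cf) (nat_lit 1025))
 (.node (nat_lit 0x108420252) (.leaf (nat_lit 0x108420042) (nat_lit 520))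
 (.leaf (nat_lit 0x108420252) (nat_lit 1032))
))))) (.node (nat_lit 0x1094a4210) (.node (nat_lit 0x10843c54e) (.node (nat_lit 0x10843854e) (.node (nat_lit 0x108424252) (.leaf (nat_lit 0x108424042) (nat_lit 516))
 (.leaf (nat_lit 0x108424252) (nat_lit 1031))
) (.node (nat_lit 0x10843875e) (.leaf (nat_lit 0x10843854e) (nat_lit 1281))
 (.leaf (nat_lit 0x10843875e) (nat_lit 1281))
)) (.node (nat_lit 0x1094a0042) (.node (nat_lit 0x10843c75e) (.leaf (nat_lit 0x10843c54e) (nat_lit 1282))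
 (.leaf (nat_lit 0x10843c75e) (nat_lit 1282))
) (.node (nat_lit 0x1094a0210) (.leaf (nat_lit 0x1094a0042) (nat_lit 1032))
 (.node (nat_lit 0x1094a4042) (.leaf (nat_lit 0x1094a0210) (nat_lit 776))
 (.leaf (nat_lit 0x1094a4042) (nat_lit 1031))
)))) (.node (nat_lit 0x1094bf79d) (.node (nat_lit 0x1094bb79d) (.node (nat_lit 0x1094bb5cf) (.leaf (nat_lit 0x1094a4210) (nat_lit 773))
 (.leaf (nat_lit 0x1094bb5cf) (nat_lit 1282))
) (.node (nat_lit 0x1094bf5cf) (.leaf (nat_lit 0x1094bb79d) (nat_lit 1537))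
 (.leaf (nat_lit 0x1094bf5cf) (nat_lit 1538))
)) (.node (nat_lit 0x10e5633d7) (.node (nat_lit 0x10e563042) (.leaf (nat_lit 0x1094bf79d) (nat_lit 1282))
 (.leaf (nat_lit 0x10e563042) (nat_lit 1288))
) (.node (nat_lit 0x10e567042) (.leaf (nat_lit 0x10e5633d7) (nat_lit 1286))
 (.node (nat_lit 0x10e5673d7) (.leaf (nat_lit 0x10e567042) (nat_lit 1285))
 (.leaf (nat_lit 0x10e5673d7) (nat_lit 1543))
)))))) (.node (nat_lit 0x11023c395) (.node (nat_lit 0x10f5fb75e) (.node (nat_lit 0x10f5e3042) (.node (nat_lit 0x10e57c408) (.node (nat_lit 0x10e57879d) (.leaf (nat_lit 0x10e578408) (nat_lit 1541))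
 (.leaf (nat_lit 0x10e57879d) (nat_lit 1538))
) (.node (nat_lit 0x10e57c79d) (.leaf (nat_lit 0x10e57c408) (nat_lit 1543))
 (.leaf (nat_lit 0x10e57c79d) (nat_lit 1539))
)) (.node (nat_lit 0x10f5e7042) (.node (nat_lit 0x10f5e3395) (.leaf (nat_lit 0x10f5e3042) (nat_lit 1284))
 (.leaf (nat_lit 0x10f5e3395) (nat_lit 1544))
) (.node (nat_lit 0x10f5e7395) (.leaf (nat_lit 0x10f5e7042) (nat_lit 1287))
 (.node (nat_lit 0x10f5fb489) (.leaf (nat_lit 0x10f5e7395) (nat_lit 1286))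
 (.leaf (nat_lit 0x10f5fb489) (nat_lit 1544))
)))) (.node (nat_lit 0x110220489) (.node (nat_lit 0x10f5ff75e) (.node (nat_lit 0x10f5ff489) (.leaf (nat_lit 0x10f5fb75e) (nat_lit 1283))
 (.leaf (nat_lit 0x10f5ff489) (nat_lit 1540))
) (.node (nat_lit 0x110220081) (.leaf (nat_lit 0x10f5ff75e) (nat_lit 1543))
 (.leaf (nat_lit 0x110220081) (nat_lit 264))
)) (.node (nat_lit 0x110224489) (.node (nat_lit 0x110224081) (.leaf (nat_lit 0x110220489) (nat_lit 776))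
 (.leaf (nat_lit 0x110224081) (nat_lit 260))
) (.node (nat_lit 0x110238395) (.leaf (nat_lit 0x110224489) (nat_lit 775))
 (.node (nat_lit 0x11023879d) (.leaf (nat_lit 0x110238395) (nat_lit 1282))
 (.leaf (nat_lit 0x11023879d) (nat_lit 1282))
))))) (.node (nat_lit 0x11227f75e) (.node (nat_lit 0x112264081) (.node (nat_lit 0x112260081) (.node (nat_lit 0x11023c79d) (.leaf (nat_lit 0x11023c395) (nat_lit 1281))
 (.leaf (nat_lit 0x11023c79d) (nat_lit 1281))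
) (.node (nat_lit 0x112260408) (.leaf (nat_lit 0x112260081) (nat_lit 776))
 (.leaf (nat_lit 0x112260408) (nat_lit 520))
)) (.node (nat_lit 0x11227b3d7) (.node (nat_lit 0x112264408) (.leaf (nat_lit 0x112264081) (nat_lit 775))
 (.leaf (nat_lit 0x112264408) (nat_lit 517))
) (.node (nat_lit 0x11227b75e) (.leaf (nat_lit 0x11227b3d7) (nat_lit 1281))
 (.node (nat_lit 0x11227f3d7) (.leaf (nat_lit 0x11227b75e) (nat_lit 1538))
 (.leaf (nat_lit 0x11227f3d7) (nat_lit 1537))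
)))) (.node (nat_lit 0x1153a75cf) (.node (nat_lit 0x1153a35cf) (.node (nat_lit 0x1153a3081) (.leaf (nat_lit 0x11227f75e) (nat_lit 1281))
 (.leaf (nat_lit 0x1153a3081) (nat_lit 1288))
) (.node (nat_lit 0x1153a7081) (.leaf (nat_lit 0x1153a35cf) (nat_lit 1286))
 (.leaf (nat_lit 0x1153a7081) (nat_lit 1285))
)) (.node (nat_lit 0x1153b875e) (.node (nat_lit 0x1153b8210) (.leaf (nat_lit 0x1153a75cf) (nat_lit 1543))
 (.leaf (nat_lit 0x1153b8210) (nat_lit 1541))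
) (.node (nat_lit 0x1153bc210) (.leaf (nat_lit 0x1153b875e) (nat_lit 1537))
 (.node (nat_lit 0x1153bc75e) (.leaf (nat_lit 0x1153bc210) (nat_lit 1543))
 (.leaf (nat_lit 0x1153bc75e) (nat_lit 1539))
))))))) (.node (nat_lit 0x1c2064d6e) (.node (nat_lit 0x11e77b252) (.node (nat_lit 0x11d7b854e) (.node (nat_lit 0x1173fb252) (.node (nat_lit 0x1173e7081) (.node (nat_lit 0x1173e354e) (.leaf (nat_lit 0x1173e3081) (nat_lit 1284))
 (.leaf (nat_lit 0x1173e354e) (nat_lit 1544))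
) (.node (nat_lit 0x1173e754e) (.leaf (nat_lit 0x1173e7081) (nat_lit 1287))
 (.leaf (nat_lit 0x1173e754e) (nat_lit 1286))
)) (.node (nat_lit 0x1173ff252) (.node (nat_lit 0x1173fb79d) (.leaf (nat_lit 0x1173fb252) (nat_lit 1544))
 (.leaf (nat_lit 0x1173fb79d) (nat_lit 1283))
) (.node (nat_lit 0x1173ff79d) (.leaf (nat_lit 0x1173ff252) (nat_lit 1540))
 (.node (nat_lit 0x11d7b8210) (.leaf (nat_lit 0x1173ff79d) (nat_lit 1543))
 (.leaf (nat_lit 0x11d7b8210) (nat_lit 1544))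
)))) (.node (nat_lit 0x11d7bc54e) (.node (nat_lit 0x11d7bb489) (.node (nat_lit 0x11d7bb3d7) (.leaf (nat_lit 0x11d7b854e) (nat_lit 1539))
 (.leaf (nat_lit 0x11d7bb3d7) (nat_lit 1544))
) (.node (nat_lit 0x11d7bc210) (.leaf (nat_lit 0x11d7bb489) (nat_lit 1541))
 (.leaf (nat_lit 0x11d7bc210) (nat_lit 1540))
)) (.node (nat_lit 0x11d7bf489) (.node (nat_lit 0x11d7bf3d7) (.leaf (nat_lit 0x11d7bc54e) (nat_lit 1542))
 (.leaf (nat_lit 0x11d7bf3d7) (nat_lit 1283))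
) (.node (nat_lit 0x11e778395) (.leaf (nat_lit 0x11d7bf489) (nat_lit 1543))
 (.node (nat_lit 0x11e778408) (.leaf (nat_lit 0x11e778395) (nat_lit 1539))
 (.leaf (nat_lit 0x11e778408) (nat_lit 1544))
))))) (.node (nat_lit 0x1c10a3bf7) (.node (nat_lit 0x11e77f252) (.node (nat_lit 0x11e77c395) (.node (nat_lit 0x11e77b5cf) (.leaf (nat_lit 0x11e77b252) (nat_lit 1541))
 (.leaf (nat_lit 0x11e77b5cf) (nat_lit 1544))
) (.node (nat_lit 0x11e77c408) (.leaf (nat_lit 0x11e77c395) (nat_lit 1542))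
 (.leaf (nat_lit 0x11e77c408) (nat_lit 1540))
)) (.node (nat_lit 0x1c10a0ab1) (.node (nat_lit 0x11e77f5cf) (.leaf (nat_lit 0x11e77f252) (nat_lit 1543))
 (.leaf (nat_lit 0x11e77f5cf) (nat_lit 1283))
) (.node (nat_lit 0x1c10a0af3) (.leaf (nat_lit 0x1c10a0ab1) (nat_lit 1542))
 (.node (nat_lit 0x1c10a3bb5) (.leaf (nat_lit 0x1c10a0af3) (nat_lit 1544))
 (.leaf (nat_lit 0x1c10a3bb5) (nat_lit 1285))
)))) (.node (nat_lit 0x1c10a7af3) (.node (nat_lit 0x1c10a4bf7) (.node (nat_lit 0x1c10a4bb5) (.leaf (nat_lit 0x1c10a3bf7) (nat_lit 1544))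
 (.leaf (nat_lit 0x1c10a4bb5) (nat_lit 1543))
) (.node (nat_lit 0x1c10a7ab1) (.leaf (nat_lit 0x1c10a4bf7) (nat_lit 1539))
 (.leaf (nat_lit 0x1c10a7ab1) (nat_lit 1540))
)) (.node (nat_lit 0x1c2060ceb) (.node (nat_lit 0x1c2060c6a) (.leaf (nat_lit 0x1c10a7af3) (nat_lit 1540))
 (.leaf (nat_lit 0x1c2060c6a) (nat_lit 1542))
) (.node (nat_lit 0x1c2063d6e) (.leaf (nat_lit 0x1c2060ceb) (nat_lit 1544))
 (.node (nat_lit 0x1c2063def) (.leaf (nat_lit 0x1c2063d6e) (nat_lit 1285))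
 (.leaf (nat_lit 0x1c2063def) (nat_lit 1544))
)))))) (.node (nat_lit 0x1de77faf3) (.node (nat_lit 0x1dd7bcdef) (.node (nat_lit 0x1dd7b8bb5) (.node (nat_lit 0x1c2067c6a) (.node (nat_lit 0x1c2064def) (.leaf (nat_lit 0x1c2064d6e) (nat_lit 1543))
 (.leaf (nat_lit 0x1c2064def) (nat_lit 1539))
) (.node (nat_lit 0x1c2067ceb) (.leaf (nat_lit 0x1c2067c6a) (nat_lit 1540))
 (.leaf (nat_lit 0x1c2067ceb) (nat_lit 1540))
)) (.node (nat_lit 0x1dd7bbab1) (.node (nat_lit 0x1dd7b8ceb) (.leaf (nat_lit 0x1dd7b8bb5) (nat_lit 776))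
 (.leaf (nat_lit 0x1dd7b8ceb) (nat_lit 776))
) (.node (nat_lit 0x1dd7bbdef) (.leaf (nat_lit 0x1dd7bbab1) (nat_lit 770))
 (.node (nat_lit 0x1dd7bcab1) (.leaf (nat_lit 0x1dd7bbdef) (nat_lit 1288))
 (.leaf (nat_lit 0x1dd7bcab1) (nat_lit 1287))
)))) (.node (nat_lit 0x1de778d6e) (.node (nat_lit 0x1dd7bfceb) (.node (nat_lit 0x1dd7bfbb5) (.leaf (nat_lit 0x1dd7bcdef) (nat_lit 769))
 (.leaf (nat_lit 0x1dd7bfbb5) (nat_lit 774))
) (.node (nat_lit 0x1de778af3) (.leaf (nat_lit 0x1dd7bfceb) (nat_lit 775))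
 (.leaf (nat_lit 0x1de778af3) (nat_lit 776))
)) (.node (nat_lit 0x1de77bc6a) (.node (nat_lit 0x1de77bbf7) (.leaf (nat_lit 0x1de778d6e) (nat_lit 776))
 (.leaf (nat_lit 0x1de77bbf7) (nat_lit 1288))
) (.node (nat_lit 0x1de77cbf7) (.leaf (nat_lit 0x1de77bc6a) (nat_lit 769))
 (.node (nat_lit 0x1de77cc6a) (.leaf (nat_lit 0x1de77cbf7) (nat_lit 770))
 (.leaf (nat_lit 0x1de77cc6a) (nat_lit 1287))
))))) (.node (nat_lit 0x1eac7cdef) (.node (nat_lit 0x1eac67042) (.node (nat_lit 0x1eac60042) (.node (nat_lit 0x1de77fd6e) (.leaf (nat_lit 0x1de77faf3) (nat_lit 775))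
 (.leaf (nat_lit 0x1de77fd6e) (nat_lit 774))
) (.node (nat_lit 0x1eac60af3) (.leaf (nat_lit 0x1eac60042) (nat_lit 1281))
 (.leaf (nat_lit 0x1eac60af3) (nat_lit 1541))
)) (.node (nat_lit 0x1eac7b75e) (.node (nat_lit 0x1eac67af3) (.leaf (nat_lit 0x1eac67042) (nat_lit 1539))
 (.leaf (nat_lit 0x1eac67af3) (nat_lit 1543))
) (.node (nat_lit 0x1eac7bdef) (.leaf (nat_lit 0x1eac7b75e) (nat_lit 1032))
 (.node (nat_lit 0x1eac7c75e) (.leaf (nat_lit 0x1eac7bdef) (nat_lit 1030))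
 (.leaf (nat_lit 0x1eac7c75e) (nat_lit 1029))
)))) (.node (nat_lit 0x1ebce7ab1) (.node (nat_lit 0x1ebce0ab1) (.node (nat_lit 0x1ebce0042) (.leaf (nat_lit 0x1eac7cdef) (nat_lit 1287))
 (.leaf (nat_lit 0x1ebce0042) (nat_lit 1281))
) (.node (nat_lit 0x1ebce7042) (.leaf (nat_lit 0x1ebce0ab1) (nat_lit 1538))
 (.leaf (nat_lit 0x1ebce7042) (nat_lit 1537))
)) (.node (nat_lit 0x1ebcf8d6e) (.node (nat_lit 0x1ebcf879d) (.leaf (nat_lit 0x1ebce7ab1) (nat_lit 1282))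
 (.leaf (nat_lit 0x1ebcf879d) (nat_lit 520))
) (.node (nat_lit 0x1ebcff79d) (.leaf (nat_lit 0x1ebcf8d6e) (nat_lit 1032))
 (.node (nat_lit 0x1ebcffd6e) (.leaf (nat_lit 0x1ebcff79d) (nat_lit 516))
 (.leaf (nat_lit 0x1ebcffd6e) (nat_lit 1031))
)))))))) (.node (nat_lit 0x7173e3bb5) (.node (nat_lit 0x1f5bb879d) (.node (nat_lit 0x1f1aa7081) (.node (nat_lit 0x1efde3bb5) (.node (nat_lit 0x1eed7875e) (.node (nat_lit 0x1eed64042) (.node (nat_lit 0x1eed63bf7) (.leaf (nat_lit 0x1eed63042) (nat_lit 1544))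
 (.leaf (nat_lit 0x1eed63bf7) (nat_lit 1025))
) (.node (nat_lit 0x1eed64bf7) (.leaf (nat_lit 0x1eed64042) (nat_lit 1282))
 (.leaf (nat_lit 0x1eed64bf7) (nat_lit 1543))
)) (.node (nat_lit 0x1eed7f75e) (.node (nat_lit 0x1eed78ceb) (.leaf (nat_lit 0x1eed7875e) (nat_lit 1032))
 (.leaf (nat_lit 0x1eed78ceb) (nat_lit 776))
) (.node (nat_lit 0x1eed7fceb) (.leaf (nat_lit 0x1eed7f75e) (nat_lit 1031))
 (.node (nat_lit 0x1efde3042) (.leaf (nat_lit 0x1eed7fceb) (nat_lit 773))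
 (.leaf (nat_lit 0x1efde3042) (nat_lit 1286))
)))) (.node (nat_lit 0x1efdfbc6a) (.node (nat_lit 0x1efde4bb5) (.node (nat_lit 0x1efde4042) (.leaf (nat_lit 0x1efde3bb5) (nat_lit 1288))
 (.leaf (nat_lit 0x1efde4042) (nat_lit 1538))
) (.node (nat_lit 0x1efdfb79d) (.leaf (nat_lit 0x1efde4bb5) (nat_lit 1284))
 (.leaf (nat_lit 0x1efdfb79d) (nat_lit 1028))
)) (.node (nat_lit 0x1efdfcc6a) (.node (nat_lit 0x1efdfc79d) (.leaf (nat_lit 0x1efdfbc6a) (nat_lit 1288))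
 (.leaf (nat_lit 0x1efdfc79d) (nat_lit 1031))
) (.node (nat_lit 0x1f1aa0081) (.leaf (nat_lit 0x1efdfcc6a) (nat_lit 1030))
 (.node (nat_lit 0x1f1aa0ceb) (.leaf (nat_lit 0x1f1aa0081) (nat_lit 1282))
 (.leaf (nat_lit 0x1f1aa0ceb) (nat_lit 1541))
))))) (.node (nat_lit 0x1f3ae7c6a) (.node (nat_lit 0x1f1abc79d) (.node (nat_lit 0x1f1abb79d) (.node (nat_lit 0x1f1aa7ceb) (.leaf (nat_lit 0x1f1aa7081) (nat_lit 1539))
 (.leaf (nat_lit 0x1f1aa7ceb) (nat_lit 1543))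
) (.node (nat_lit 0x1f1abbbf7) (.leaf (nat_lit 0x1f1abb79d) (nat_lit 1032))
 (.leaf (nat_lit 0x1f1abbbf7) (nat_lit 1030))
)) (.node (nat_lit 0x1f3ae0081) (.node (nat_lit 0x1f1abcbf7) (.leaf (nat_lit 0x1f1abc79d) (nat_lit 1029))
 (.leaf (nat_lit 0x1f1abcbf7) (nat_lit 1287))
) (.node (nat_lit 0x1f3ae0c6a) (.leaf (nat_lit 0x1f3ae0081) (nat_lit 1282))
 (.node (nat_lit 0x1f3ae7081) (.leaf (nat_lit 0x1f3ae0c6a) (nat_lit 1537))
 (.leaf (nat_lit 0x1f3ae7081) (nat_lit 1538))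
)))) (.node (nat_lit 0x1f3affbb5) (.node (nat_lit 0x1f3af8bb5) (.node (nat_lit 0x1f3af875e) (.leaf (nat_lit 0x1f3ae7c6a) (nat_lit 1281))
 (.leaf (nat_lit 0x1f3af875e) (nat_lit 520))
) (.node (nat_lit 0x1f3aff75e) (.leaf (nat_lit 0x1f3af8bb5) (nat_lit 1032))
 (.leaf (nat_lit 0x1f3aff75e) (nat_lit 516))
)) (.node (nat_lit 0x1f5ba3def) (.node (nat_lit 0x1f5ba3081) (.leaf (nat_lit 0x1f3affbb5) (nat_lit 1031))
 (.leaf (nat_lit 0x1f5ba3081) (nat_lit 1544))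
) (.node (nat_lit 0x1f5ba4081) (.leaf (nat_lit 0x1f5ba3def) (nat_lit 1026))
 (.node (nat_lit 0x1f5ba4def) (.leaf (nat_lit 0x1f5ba4081) (nat_lit 1281))
 (.leaf (nat_lit 0x1f5ba4def) (nat_lit 1543))
)))))) (.node (nat_lit 0x70843cc6a) (.node (nat_lit 0x1f7bfbab1) (.node (nat_lit 0x1f7be3081) (.node (nat_lit 0x1f5bbf79d) (.node (nat_lit 0x1f5bb8af3) (.leaf (nat_lit 0x1f5bb879d) (nat_lit 1032))
 (.leaf (nat_lit 0x1f5bb8af3) (nat_lit 776))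
) (.node (nat_lit 0x1f5bbfaf3) (.leaf (nat_lit 0x1f5bbf79d) (nat_lit 1031))
 (.leaf (nat_lit 0x1f5bbfaf3) (nat_lit 773))
)) (.node (nat_lit 0x1f7be4081) (.node (nat_lit 0x1f7be3d6e) (.leaf (nat_lit 0x1f7be3081) (nat_lit 1286))
 (.leaf (nat_lit 0x1f7be3d6e) (nat_lit 1288))
) (.node (nat_lit 0x1f7be4d6e) (.leaf (nat_lit 0x1f7be4081) (nat_lit 1537))
 (.node (nat_lit 0x1f7bfb75e) (.leaf (nat_lit 0x1f7be4d6e) (nat_lit 1284))
 (.leaf (nat_lit 0x1f7bfb75e) (nat_lit 1028))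
)))) (.node (nat_lit 0x708420e7a) (.node (nat_lit 0x1f7bfcab1) (.node (nat_lit 0x1f7bfc75e) (.leaf (nat_lit 0x1f7bfbab1) (nat_lit 1288))
 (.leaf (nat_lit 0x1f7bfc75e) (nat_lit 1031))
) (.node (nat_lit 0x708420c6a) (.leaf (nat_lit 0x1f7bfcab1) (nat_lit 1030))
 (.leaf (nat_lit 0x708420c6a) (nat_lit 1288))
)) (.node (nat_lit 0x708424f7e) (.node (nat_lit 0x708424d6e) (.leaf (nat_lit 0x708420e7a) (nat_lit 1283))
 (.leaf (nat_lit 0x708424d6e) (nat_lit 1542))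
) (.node (nat_lit 0x708438d6e) (.leaf (nat_lit 0x708424f7e) (nat_lit 1543))
 (.node (nat_lit 0x708438f7e) (.leaf (nat_lit 0x708438d6e) (nat_lit 1544))
 (.leaf (nat_lit 0x708438f7e) (nat_lit 1285))
))))) (.node (nat_lit 0x70f5ffeb9) (.node (nat_lit 0x70f5e7c6a) (.node (nat_lit 0x70f5e3d6e) (.node (nat_lit 0x70843ce7a) (.leaf (nat_lit 0x70843cc6a) (nat_lit 1284))
 (.leaf (nat_lit 0x70843ce7a) (nat_lit 1543))
) (.node (nat_lit 0x70f5e3eb9) (.leaf (nat_lit 0x70f5e3d6e) (nat_lit 1032))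
 (.leaf (nat_lit 0x70f5e3eb9) (nat_lit 513))
)) (.node (nat_lit 0x70f5fbc6a) (.node (nat_lit 0x70f5e7fbd) (.leaf (nat_lit 0x70f5e7c6a) (nat_lit 1031))
 (.leaf (nat_lit 0x70f5e7fbd) (nat_lit 513))
) (.node (nat_lit 0x70f5fbfbd) (.leaf (nat_lit 0x70f5fbc6a) (nat_lit 1032))
 (.node (nat_lit 0x70f5ffd6e) (.leaf (nat_lit 0x70f5fbfbd) (nat_lit 1032))
 (.leaf (nat_lit 0x70f5ffd6e) (nat_lit 1026))
)))) (.node (nat_lit 0x710224fbd) (.node (nat_lit 0x710220eb9) (.node (nat_lit 0x710220ab1) (.leaf (nat_lit 0x70f5ffeb9) (nat_lit 1031))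
 (.leaf (nat_lit 0x710220ab1) (nat_lit 1288))
) (.node (nat_lit 0x710224bb5) (.leaf (nat_lit 0x710220eb9) (nat_lit 1283))
 (.leaf (nat_lit 0x710224bb5) (nat_lit 1542))
)) (.node (nat_lit 0x710238fbd) (.node (nat_lit 0x710238bb5) (.leaf (nat_lit 0x710224fbd) (nat_lit 1543))
 (.leaf (nat_lit 0x710238bb5) (nat_lit 1544))
) (.node (nat_lit 0x71023cab1) (.leaf (nat_lit 0x710238fbd) (nat_lit 1285))
 (.node (nat_lit 0x71023ceb9) (.leaf (nat_lit 0x71023cab1) (nat_lit 1284))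
 (.leaf (nat_lit 0x71023ceb9) (nat_lit 1543))
))))))) (.node (nat_lit 0x735bb8210) (.node (nat_lit 0x72ed64408) (.node (nat_lit 0x72ac60eb9) (.node (nat_lit 0x7173fbab1) (.node (nat_lit 0x7173e7ab1) (.node (nat_lit 0x7173e3e7a) (.leaf (nat_lit 0x7173e3bb5) (nat_lit 1032))
 (.leaf (nat_lit 0x7173e3e7a) (nat_lit 514))
) (.node (nat_lit 0x7173e7f7e) (.leaf (nat_lit 0x7173e7ab1) (nat_lit 1031))
 (.leaf (nat_lit 0x7173e7f7e) (nat_lit 514))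
)) (.node (nat_lit 0x7173ffbb5) (.node (nat_lit 0x7173fbf7e) (.leaf (nat_lit 0x7173fbab1) (nat_lit 1032))
 (.leaf (nat_lit 0x7173fbf7e) (nat_lit 1032))
) (.node (nat_lit 0x7173ffe7a) (.leaf (nat_lit 0x7173ffbb5) (nat_lit 1025))
 (.node (nat_lit 0x72ac60408) (.leaf (nat_lit 0x7173ffe7a) (nat_lit 1031))
 (.leaf (nat_lit 0x72ac60408) (nat_lit 1026))
)))) (.node (nat_lit 0x72ac7bf7e) (.node (nat_lit 0x72ac67f7e) (.node (nat_lit 0x72ac675cf) (.leaf (nat_lit 0x72ac60eb9) (nat_lit 1544))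
 (.leaf (nat_lit 0x72ac675cf) (nat_lit 773))
) (.node (nat_lit 0x72ac7b5cf) (.leaf (nat_lit 0x72ac67f7e) (nat_lit 1031))
 (.leaf (nat_lit 0x72ac7b5cf) (nat_lit 776))
)) (.node (nat_lit 0x72ac7ceb9) (.node (nat_lit 0x72ac7c408) (.leaf (nat_lit 0x72ac7bf7e) (nat_lit 1288))
 (.leaf (nat_lit 0x72ac7c408) (nat_lit 1543))
) (.node (nat_lit 0x72ed635cf) (.leaf (nat_lit 0x72ac7ceb9) (nat_lit 1281))
 (.node (nat_lit 0x72ed63e7a) (.leaf (nat_lit 0x72ed635cf) (nat_lit 773))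
 (.leaf (nat_lit 0x72ed63e7a) (nat_lit 1032))
))))) (.node (nat_lit 0x731aa7fbd) (.node (nat_lit 0x72ed7f5cf) (.node (nat_lit 0x72ed78408) (.node (nat_lit 0x72ed64fbd) (.leaf (nat_lit 0x72ed64408) (nat_lit 1537))
 (.leaf (nat_lit 0x72ed64fbd) (nat_lit 1284))
) (.node (nat_lit 0x72ed78fbd) (.leaf (nat_lit 0x72ed78408) (nat_lit 1286))
 (.leaf (nat_lit 0x72ed78fbd) (nat_lit 1288))
)) (.node (nat_lit 0x731aa0210) (.node (nat_lit 0x72ed7fe7a) (.leaf (nat_lit 0x72ed7f5cf) (nat_lit 1287))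
 (.leaf (nat_lit 0x72ed7fe7a) (nat_lit 1029))
) (.node (nat_lit 0x731aa0e7a) (.leaf (nat_lit 0x731aa0210) (nat_lit 1025))
 (.node (nat_lit 0x731aa73d7) (.leaf (nat_lit 0x731aa0e7a) (nat_lit 1544))
 (.leaf (nat_lit 0x731aa73d7) (nat_lit 773))
)))) (.node (nat_lit 0x731abce7a) (.node (nat_lit 0x731abbfbd) (.node (nat_lit 0x731abb3d7) (.leaf (nat_lit 0x731aa7fbd) (nat_lit 1031))
 (.leaf (nat_lit 0x731abb3d7) (nat_lit 776))
) (.node (nat_lit 0x731abc210) (.leaf (nat_lit 0x731abbfbd) (nat_lit 1288))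
 (.leaf (nat_lit 0x731abc210) (nat_lit 1543))
)) (.node (nat_lit 0x735ba3eb9) (.node (nat_lit 0x735ba33d7) (.leaf (nat_lit 0x731abce7a) (nat_lit 1282))
 (.leaf (nat_lit 0x735ba33d7) (nat_lit 773))
) (.node (nat_lit 0x735ba4210) (.leaf (nat_lit 0x735ba3eb9) (nat_lit 1032))
 (.node (nat_lit 0x735ba4f7e) (.leaf (nat_lit 0x735ba4210) (nat_lit 1538))
 (.leaf (nat_lit 0x735ba4f7e) (nat_lit 1284))
)))))) (.node (nat_lit 0x73ae7f3d7) (.node (nat_lit 0x739ebcc6a) (.node (nat_lit 0x739ea0210) (.node (nat_lit 0x735bbf3d7) (.node (nat_lit 0x735bb8f7e) (.leaf (nat_lit 0x735bb8210) (nat_lit 1286))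
 (.leaf (nat_lit 0x735bb8f7e) (nat_lit 1288))
) (.node (nat_lit 0x735bbfeb9) (.leaf (nat_lit 0x735bbf3d7) (nat_lit 1287))
 (.leaf (nat_lit 0x735bbfeb9) (nat_lit 1029))
)) (.node (nat_lit 0x739ea35cf) (.node (nat_lit 0x739ea0c6a) (.leaf (nat_lit 0x739ea0210) (nat_lit 1544))
 (.leaf (nat_lit 0x739ea0c6a) (nat_lit 1285))
) (.node (nat_lit 0x739ea3bb5) (.leaf (nat_lit 0x739ea35cf) (nat_lit 776))
 (.node (nat_lit 0x739ebc210) (.leaf (nat_lit 0x739ea3bb5) (nat_lit 774))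
 (.leaf (nat_lit 0x739ebc210) (nat_lit 1283))
)))) (.node (nat_lit 0x73ae60ab1) (.node (nat_lit 0x739ebfbb5) (.node (nat_lit 0x739ebf5cf) (.leaf (nat_lit 0x739ebcc6a) (nat_lit 1543))
 (.leaf (nat_lit 0x739ebf5cf) (nat_lit 772))
) (.node (nat_lit 0x73ae60408) (.leaf (nat_lit 0x739ebfbb5) (nat_lit 1287))
 (.leaf (nat_lit 0x73ae60408) (nat_lit 1544))
)) (.node (nat_lit 0x73ae63d6e) (.node (nat_lit 0x73ae633d7) (.leaf (nat_lit 0x73ae60ab1) (nat_lit 1285))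
 (.leaf (nat_lit 0x73ae633d7) (nat_lit 776))
) (.node (nat_lit 0x73ae7c408) (.leaf (nat_lit 0x73ae63d6e) (nat_lit 774))
 (.node (nat_lit 0x73ae7cab1) (.leaf (nat_lit 0x73ae7c408) (nat_lit 1283))
 (.leaf (nat_lit 0x73ae7cab1) (nat_lit 1543))
))))) (.node (nat_lit 0x73dfbbab1) (.node (nat_lit 0x73dfa75cf) (.node (nat_lit 0x73dfa4210) (.node (nat_lit 0x73ae7fd6e) (.leaf (nat_lit 0x73ae7f3d7) (nat_lit 772))
 (.leaf (nat_lit 0x73ae7fd6e) (nat_lit 1287))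
) (.node (nat_lit 0x73dfa4d6e) (.leaf (nat_lit 0x73dfa4210) (nat_lit 1281))
 (.leaf (nat_lit 0x73dfa4d6e) (nat_lit 1543))
)) (.node (nat_lit 0x73dfb8210) (.node (nat_lit 0x73dfa7ab1) (.leaf (nat_lit 0x73dfa75cf) (nat_lit 775))
 (.leaf (nat_lit 0x73dfa7ab1) (nat_lit 774))
) (.node (nat_lit 0x73dfb8d6e) (.leaf (nat_lit 0x73dfb8210) (nat_lit 1544))
 (.node (nat_lit 0x73dfbb5cf) (.leaf (nat_lit 0x73dfb8d6e) (nat_lit 1025))
 (.leaf (nat_lit 0x73dfbb5cf) (nat_lit 1288))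
)))) (.node (nat_lit 0x73ef67c6a) (.node (nat_lit 0x73ef64bb5) (.node (nat_lit 0x73ef64408) (.leaf (nat_lit 0x73dfbbab1) (nat_lit 1032))
 (.leaf (nat_lit 0x73ef64408) (nat_lit 1282))
) (.node (nat_lit 0x73ef673d7) (.leaf (nat_lit 0x73ef64bb5) (nat_lit 1543))
 (.leaf (nat_lit 0x73ef673d7) (nat_lit 775))
)) (.node (nat_lit 0x73ef78bb5) (.node (nat_lit 0x73ef78408) (.leaf (nat_lit 0x73ef67c6a) (nat_lit 774))
 (.leaf (nat_lit 0x73ef78408) (nat_lit 1544))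
) (.node (nat_lit 0x73ef7b3d7) (.leaf (nat_lit 0x73ef78bb5) (nat_lit 1026))
 (.node (nat_lit 0x73ef7bc6a) (.leaf (nat_lit 0x73ef7b3d7) (nat_lit 1288))
 (.leaf (nat_lit 0x73ef7bc6a) (nat_lit 1032))
))))))))) (.node (nat_lit 0x82ac47042) (.node (nat_lit 0x7fae60252) (.node (nat_lit 0x7ebcf854e) (.node (nat_lit 0x7d2264bf7) (.node (nat_lit 0x7ce563e7a) (.node (nat_lit 0x7c94bbdef) (.node (nat_lit 0x7c94a4def) (.node (nat_lit 0x7c94a0eb9) (.leaf (nat_lit 0x7c94a0ceb) (nat_lit 1542))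
 (.leaf (nat_lit 0x7c94a0eb9) (nat_lit 1544))
) (.node (nat_lit 0x7c94a4fbd) (.leaf (nat_lit 0x7c94a4def) (nat_lit 1543))
 (.leaf (nat_lit 0x7c94a4fbd) (nat_lit 1285))
)) (.node (nat_lit 0x7c94bfceb) (.node (nat_lit 0x7c94bbfbd) (.leaf (nat_lit 0x7c94bbdef) (nat_lit 1029))
 (.leaf (nat_lit 0x7c94bbfbd) (nat_lit 1288))
) (.node (nat_lit 0x7c94bfeb9) (.leaf (nat_lit 0x7c94bfceb) (nat_lit 1543))
 (.node (nat_lit 0x7ce563def) (.leaf (nat_lit 0x7c94bfeb9) (nat_lit 1285))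
 (.leaf (nat_lit 0x7ce563def) (nat_lit 1032))
)))) (.node (nat_lit 0x7ce578f7e) (.node (nat_lit 0x7ce567f7e) (.node (nat_lit 0x7ce567ceb) (.leaf (nat_lit 0x7ce563e7a) (nat_lit 1032))
 (.leaf (nat_lit 0x7ce567ceb) (nat_lit 1287))
) (.node (nat_lit 0x7ce578ceb) (.leaf (nat_lit 0x7ce567f7e) (nat_lit 1025))
 (.leaf (nat_lit 0x7ce578ceb) (nat_lit 770))
)) (.node (nat_lit 0x7ce57ce7a) (.node (nat_lit 0x7ce57cdef) (.leaf (nat_lit 0x7ce578f7e) (nat_lit 1288))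
 (.leaf (nat_lit 0x7ce57cdef) (nat_lit 770))
) (.node (nat_lit 0x7d2260af3) (.leaf (nat_lit 0x7ce57ce7a) (nat_lit 1031))
 (.node (nat_lit 0x7d2260e7a) (.leaf (nat_lit 0x7d2260af3) (nat_lit 1542))
 (.leaf (nat_lit 0x7d2260e7a) (nat_lit 1544))
))))) (.node (nat_lit 0x7d53a7fbd) (.node (nat_lit 0x7d227faf3) (.node (nat_lit 0x7d227bbf7) (.node (nat_lit 0x7d2264f7e) (.leaf (nat_lit 0x7d2264bf7) (nat_lit 1543))
 (.leaf (nat_lit 0x7d2264f7e) (nat_lit 1285))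
) (.node (nat_lit 0x7d227bf7e) (.leaf (nat_lit 0x7d227bbf7) (nat_lit 1029))
 (.leaf (nat_lit 0x7d227bf7e) (nat_lit 1288))
)) (.node (nat_lit 0x7d53a3bf7) (.node (nat_lit 0x7d227fe7a) (.leaf (nat_lit 0x7d227faf3) (nat_lit 1543))
 (.leaf (nat_lit 0x7d227fe7a) (nat_lit 1285))
) (.node (nat_lit 0x7d53a3eb9) (.leaf (nat_lit 0x7d53a3bf7) (nat_lit 1032))
 (.node (nat_lit 0x7d53a7af3) (.leaf (nat_lit 0x7d53a3eb9) (nat_lit 1032))
 (.leaf (nat_lit 0x7d53a7af3) (nat_lit 1287))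
)))) (.node (nat_lit 0x7d53bceb9) (.node (nat_lit 0x7d53b8fbd) (.node (nat_lit 0x7d53b8af3) (.leaf (nat_lit 0x7d53a7fbd) (nat_lit 1026))
 (.leaf (nat_lit 0x7d53b8af3) (nat_lit 769))
) (.node (nat_lit 0x7d53bcbf7) (.leaf (nat_lit 0x7d53b8fbd) (nat_lit 1288))
 (.leaf (nat_lit 0x7d53bcbf7) (nat_lit 769))
)) (.node (nat_lit 0x7ebce0e7a) (.node (nat_lit 0x7ebce0489) (.leaf (nat_lit 0x7d53bceb9) (nat_lit 1031))
 (.leaf (nat_lit 0x7ebce0489) (nat_lit 1538))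
) (.node (nat_lit 0x7ebce754e) (.leaf (nat_lit 0x7ebce0e7a) (nat_lit 1284))
 (.node (nat_lit 0x7ebce7fbd) (.leaf (nat_lit 0x7ebce754e) (nat_lit 1028))
 (.leaf (nat_lit 0x7ebce7fbd) (nat_lit 1287))
)))))) (.node (nat_lit 0x7f3aff252) (.node (nat_lit 0x7efdfbf7e) (.node (nat_lit 0x7efde354e) (.node (nat_lit 0x7ebcff489) (.node (nat_lit 0x7ebcf8fbd) (.leaf (nat_lit 0x7ebcf854e) (nat_lit 1032))
 (.leaf (nat_lit 0x7ebcf8fbd) (nat_lit 1027))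
) (.node (nat_lit 0x7ebcffe7a) (.leaf (nat_lit 0x7ebcff489) (nat_lit 1286))
 (.leaf (nat_lit 0x7ebcffe7a) (nat_lit 1287))
)) (.node (nat_lit 0x7efde4489) (.node (nat_lit 0x7efde3eb9) (.leaf (nat_lit 0x7efde354e) (nat_lit 1288))
 (.leaf (nat_lit 0x7efde3eb9) (nat_lit 1032))
) (.node (nat_lit 0x7efde4f7e) (.leaf (nat_lit 0x7efde4489) (nat_lit 1281))
 (.node (nat_lit 0x7efdfb489) (.leaf (nat_lit 0x7efde4f7e) (nat_lit 1287))
 (.leaf (nat_lit 0x7efdfb489) (nat_lit 1288))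
)))) (.node (nat_lit 0x7f3ae0eb9) (.node (nat_lit 0x7efdfceb9) (.node (nat_lit 0x7efdfc54e) (.leaf (nat_lit 0x7efdfbf7e) (nat_lit 770))
 (.leaf (nat_lit 0x7efdfc54e) (nat_lit 1031))
) (.node (nat_lit 0x7f3ae0252) (.leaf (nat_lit 0x7efdfceb9) (nat_lit 770))
 (.leaf (nat_lit 0x7f3ae0252) (nat_lit 1537))
)) (.node (nat_lit 0x7f3ae7f7e) (.node (nat_lit 0x7f3ae7395) (.leaf (nat_lit 0x7f3ae0eb9) (nat_lit 1284))
 (.leaf (nat_lit 0x7f3ae7395) (nat_lit 1028))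
) (.node (nat_lit 0x7f3af8395) (.leaf (nat_lit 0x7f3ae7f7e) (nat_lit 1287))
 (.node (nat_lit 0x7f3af8f7e) (.leaf (nat_lit 0x7f3af8395) (nat_lit 1032))
 (.leaf (nat_lit 0x7f3af8f7e) (nat_lit 1027))
))))) (.node (nat_lit 0x7f7bfce7a) (.node (nat_lit 0x7f7be4252) (.node (nat_lit 0x7f7be3395) (.node (nat_lit 0x7f3affeb9) (.leaf (nat_lit 0x7f3aff252) (nat_lit 1286))
 (.leaf (nat_lit 0x7f3affeb9) (nat_lit 1287))
) (.node (nat_lit 0x7f7be3e7a) (.leaf (nat_lit 0x7f7be3395) (nat_lit 1288))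
 (.leaf (nat_lit 0x7f7be3e7a) (nat_lit 1032))
)) (.node (nat_lit 0x7f7bfb252) (.node (nat_lit 0x7f7be4fbd) (.leaf (nat_lit 0x7f7be4252) (nat_lit 1282))
 (.leaf (nat_lit 0x7f7be4fbd) (nat_lit 1287))
) (.node (nat_lit 0x7f7bfbfbd) (.leaf (nat_lit 0x7f7bfb252) (nat_lit 1288))
 (.node (nat_lit 0x7f7bfc395) (.leaf (nat_lit 0x7f7bfbfbd) (nat_lit 769))
 (.leaf (nat_lit 0x7f7bfc395) (nat_lit 1031))
)))) (.node (nat_lit 0x7f9ea3def) (.node (nat_lit 0x7f9ea0af3) (.node (nat_lit 0x7f9ea0489) (.leaf (nat_lit 0x7f7bfce7a) (nat_lit 769))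
 (.leaf (nat_lit 0x7f9ea0489) (nat_lit 1282))
) (.node (nat_lit 0x7f9ea3395) (.leaf (nat_lit 0x7f9ea0af3) (nat_lit 1544))
 (.leaf (nat_lit 0x7f9ea3395) (nat_lit 776))
)) (.node (nat_lit 0x7f9ebcdef) (.node (nat_lit 0x7f9ebc395) (.leaf (nat_lit 0x7f9ea3def) (nat_lit 1288))
 (.leaf (nat_lit 0x7f9ebc395) (nat_lit 772))
) (.node (nat_lit 0x7f9ebf489) (.leaf (nat_lit 0x7f9ebcdef) (nat_lit 1031))
 (.node (nat_lit 0x7f9ebfaf3) (.leaf (nat_lit 0x7f9ebf489) (nat_lit 1543))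
 (.leaf (nat_lit 0x7f9ebfaf3) (nat_lit 1025))
))))))) (.node (nat_lit 0x802064408) (.node (nat_lit 0x7fef6754e) (.node (nat_lit 0x7fdfa4bf7) (.node (nat_lit 0x7fae7c54e) (.node (nat_lit 0x7fae6354e) (.node (nat_lit 0x7fae60ceb) (.leaf (nat_lit 0x7fae60252) (nat_lit 1281))
 (.leaf (nat_lit 0x7fae60ceb) (nat_lit 1544))
) (.node (nat_lit 0x7fae63bf7) (.leaf (nat_lit 0x7fae6354e) (nat_lit 776))
 (.leaf (nat_lit 0x7fae63bf7) (nat_lit 1288))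
)) (.node (nat_lit 0x7fae7f252) (.node (nat_lit 0x7fae7cbf7) (.leaf (nat_lit 0x7fae7c54e) (nat_lit 772))
 (.leaf (nat_lit 0x7fae7cbf7) (nat_lit 1031))
) (.node (nat_lit 0x7fae7fceb) (.leaf (nat_lit 0x7fae7f252) (nat_lit 1543))
 (.node (nat_lit 0x7fdfa4489) (.leaf (nat_lit 0x7fae7fceb) (nat_lit 1026))
 (.leaf (nat_lit 0x7fdfa4489) (nat_lit 1543))
)))) (.node (nat_lit 0x7fdfb8ceb) (.node (nat_lit 0x7fdfa7ceb) (.node (nat_lit 0x7fdfa7395) (.leaf (nat_lit 0x7fdfa4bf7) (nat_lit 1028))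
 (.leaf (nat_lit 0x7fdfa7395) (nat_lit 1287))
) (.node (nat_lit 0x7fdfb8395) (.leaf (nat_lit 0x7fdfa7ceb) (nat_lit 1027))
 (.leaf (nat_lit 0x7fdfb8395) (nat_lit 1029))
)) (.node (nat_lit 0x7fdfbbbf7) (.node (nat_lit 0x7fdfbb489) (.leaf (nat_lit 0x7fdfb8ceb) (nat_lit 1288))
 (.leaf (nat_lit 0x7fdfbb489) (nat_lit 1030))
) (.node (nat_lit 0x7fef64252) (.leaf (nat_lit 0x7fdfbbbf7) (nat_lit 1032))
 (.node (nat_lit 0x7fef64def) (.leaf (nat_lit 0x7fef64252) (nat_lit 1543))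
 (.leaf (nat_lit 0x7fef64def) (nat_lit 1028))
))))) (.node (nat_lit 0x801087af3) (.node (nat_lit 0x7fef7b252) (.node (nat_lit 0x7fef7854e) (.node (nat_lit 0x7fef67af3) (.leaf (nat_lit 0x7fef6754e) (nat_lit 1287))
 (.leaf (nat_lit 0x7fef67af3) (nat_lit 1027))
) (.node (nat_lit 0x7fef78af3) (.leaf (nat_lit 0x7fef7854e) (nat_lit 1029))
 (.leaf (nat_lit 0x7fef78af3) (nat_lit 1288))
)) (.node (nat_lit 0x801084210) (.node (nat_lit 0x7fef7bdef) (.leaf (nat_lit 0x7fef7b252) (nat_lit 1030))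
 (.leaf (nat_lit 0x7fef7bdef) (nat_lit 1032))
) (.node (nat_lit 0x801084252) (.leaf (nat_lit 0x801084210) (nat_lit 519))
 (.node (nat_lit 0x801087ab1) (.leaf (nat_lit 0x801084252) (nat_lit 518))
 (.leaf (nat_lit 0x801087ab1) (nat_lit 1282))
)))) (.node (nat_lit 0x8010a7af3) (.node (nat_lit 0x8010a4252) (.node (nat_lit 0x8010a4210) (.leaf (nat_lit 0x801087af3) (nat_lit 1282))
 (.leaf (nat_lit 0x8010a4210) (nat_lit 1032))
) (.node (nat_lit 0x8010a7ab1) (.leaf (nat_lit 0x8010a4252) (nat_lit 1032))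
 (.leaf (nat_lit 0x8010a7ab1) (nat_lit 1281))
)) (.node (nat_lit 0x802044489) (.node (nat_lit 0x802044408) (.leaf (nat_lit 0x8010a7af3) (nat_lit 1281))
 (.leaf (nat_lit 0x802044408) (nat_lit 263))
) (.node (nat_lit 0x802047c6a) (.leaf (nat_lit 0x802044489) (nat_lit 262))
 (.node (nat_lit 0x802047ceb) (.leaf (nat_lit 0x802047c6a) (nat_lit 1281))
 (.leaf (nat_lit 0x802047ceb) (nat_lit 1281))
)))))) (.node (nat_lit 0x8094bfceb) (.node (nat_lit 0x808424252) (.node (nat_lit 0x808404042) (.node (nat_lit 0x802067c6a) (.node (nat_lit 0x802064489) (.leaf (nat_lit 0x802064408) (nat_lit 776))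
 (.leaf (nat_lit 0x802064489) (nat_lit 776))
) (.node (nat_lit 0x802067ceb) (.leaf (nat_lit 0x802067c6a) (nat_lit 1282))
 (.leaf (nat_lit 0x802067ceb) (nat_lit 1282))
)) (.node (nat_lit 0x80841cc6a) (.node (nat_lit 0x808404252) (.leaf (nat_lit 0x808404042) (nat_lit 256))
 (.leaf (nat_lit 0x808404252) (nat_lit 775))
) (.node (nat_lit 0x80841ce7a) (.leaf (nat_lit 0x80841cc6a) (nat_lit 1026))
 (.node (nat_lit 0x808424042) (.leaf (nat_lit 0x80841ce7a) (nat_lit 1543))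
 (.leaf (nat_lit 0x808424042) (nat_lit 776))
)))) (.node (nat_lit 0x809484210) (.node (nat_lit 0x80843ce7a) (.node (nat_lit 0x80843cc6a) (.leaf (nat_lit 0x808424252) (nat_lit 1288))
 (.leaf (nat_lit 0x80843cc6a) (nat_lit 1544))
) (.node (nat_lit 0x809484042) (.leaf (nat_lit 0x80843ce7a) (nat_lit 1025))
 (.leaf (nat_lit 0x809484042) (nat_lit 775))
)) (.node (nat_lit 0x80949feb9) (.node (nat_lit 0x80949fceb) (.leaf (nat_lit 0x809484210) (nat_lit 517))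
 (.leaf (nat_lit 0x80949fceb) (nat_lit 1538))
) (.node (nat_lit 0x8094a4042) (.leaf (nat_lit 0x80949feb9) (nat_lit 1282))
 (.node (nat_lit 0x8094a4210) (.leaf (nat_lit 0x8094a4042) (nat_lit 1288))
 (.leaf (nat_lit 0x8094a4210) (nat_lit 1032))
))))) (.node (nat_lit 0x81023ceb9) (.node (nat_lit 0x81021cab1) (.node (nat_lit 0x810204081) (.node (nat_lit 0x8094bfeb9) (.leaf (nat_lit 0x8094bfceb) (nat_lit 1281))
 (.leaf (nat_lit 0x8094bfeb9) (nat_lit 1537))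
) (.node (nat_lit 0x810204489) (.leaf (nat_lit 0x810204081) (nat_lit 0))
 (.leaf (nat_lit 0x810204489) (nat_lit 519))
)) (.node (nat_lit 0x810224081) (.node (nat_lit 0x81021ceb9) (.leaf (nat_lit 0x81021cab1) (nat_lit 1025))
 (.leaf (nat_lit 0x81021ceb9) (nat_lit 1543))
) (.node (nat_lit 0x810224489) (.leaf (nat_lit 0x810224081) (nat_lit 520))
 (.node (nat_lit 0x81023cab1) (.leaf (nat_lit 0x810224489) (nat_lit 1032))
 (.leaf (nat_lit 0x81023cab1) (nat_lit 1544))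
)))) (.node (nat_lit 0x81225fe7a) (.node (nat_lit 0x812244408) (.node (nat_lit 0x812244081) (.leaf (nat_lit 0x81023ceb9) (nat_lit 1026))
 (.leaf (nat_lit 0x812244081) (nat_lit 519))
) (.node (nat_lit 0x81225faf3) (.leaf (nat_lit 0x812244408) (nat_lit 261))
 (.leaf (nat_lit 0x81225faf3) (nat_lit 1537))
)) (.node (nat_lit 0x812264408) (.node (nat_lit 0x812264081) (.leaf (nat_lit 0x81225fe7a) (nat_lit 1281))
 (.leaf (nat_lit 0x812264081) (nat_lit 1032))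
) (.node (nat_lit 0x81227faf3) (.leaf (nat_lit 0x812264408) (nat_lit 776))
 (.node (nat_lit 0x81227fe7a) (.leaf (nat_lit 0x81227faf3) (nat_lit 1282))
 (.leaf (nat_lit 0x81227fe7a) (nat_lit 1538))
)))))))) (.node (nat_lit 0x8cf5c4042) (.node (nat_lit 0x839ebc210) (.node (nat_lit 0x831a9c210) (.node (nat_lit 0x82bcc7ab1) (.node (nat_lit 0x82ac67042) (.node (nat_lit 0x82ac5c408) (.node (nat_lit 0x82ac47af3) (.leaf (nat_lit 0x82ac47042) (nat_lit 1541))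
 (.leaf (nat_lit 0x82ac47af3) (nat_lit 1537))
) (.node (nat_lit 0x82ac5ceb9) (.leaf (nat_lit 0x82ac5c408) (nat_lit 1287))
 (.leaf (nat_lit 0x82ac5ceb9) (nat_lit 1286))
)) (.node (nat_lit 0x82ac7c408) (.node (nat_lit 0x82ac67af3) (.leaf (nat_lit 0x82ac67042) (nat_lit 1544))
 (.leaf (nat_lit 0x82ac67af3) (nat_lit 1542))
) (.node (nat_lit 0x82ac7ceb9) (.leaf (nat_lit 0x82ac7c408) (nat_lit 1285))
 (.node (nat_lit 0x82bcc7042) (.leaf (nat_lit 0x82ac7ceb9) (nat_lit 1544))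
 (.leaf (nat_lit 0x82bcc7042) (nat_lit 1543))
)))) (.node (nat_lit 0x82bce7ab1) (.node (nat_lit 0x82bcdfe7a) (.node (nat_lit 0x82bcdf489) (.leaf (nat_lit 0x82bcc7ab1) (nat_lit 1542))
 (.leaf (nat_lit 0x82bcdf489) (nat_lit 1541))
) (.node (nat_lit 0x82bce7042) (.leaf (nat_lit 0x82bcdfe7a) (nat_lit 1543))
 (.leaf (nat_lit 0x82bce7042) (nat_lit 1540))
)) (.node (nat_lit 0x82bcffe7a) (.node (nat_lit 0x82bcff489) (.leaf (nat_lit 0x82bce7ab1) (nat_lit 1542))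
 (.leaf (nat_lit 0x82bcff489) (nat_lit 1544))
) (.node (nat_lit 0x831a87081) (.leaf (nat_lit 0x82bcffe7a) (nat_lit 1283))
 (.node (nat_lit 0x831a87ceb) (.leaf (nat_lit 0x831a87081) (nat_lit 1541))
 (.leaf (nat_lit 0x831a87ceb) (nat_lit 1538))
))))) (.node (nat_lit 0x833adfeb9) (.node (nat_lit 0x831abc210) (.node (nat_lit 0x831aa7081) (.node (nat_lit 0x831a9ce7a) (.leaf (nat_lit 0x831a9c210) (nat_lit 1287))
 (.leaf (nat_lit 0x831a9ce7a) (nat_lit 1286))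
) (.node (nat_lit 0x831aa7ceb) (.leaf (nat_lit 0x831aa7081) (nat_lit 1544))
 (.leaf (nat_lit 0x831aa7ceb) (nat_lit 1542))
)) (.node (nat_lit 0x833ac7081) (.node (nat_lit 0x831abce7a) (.leaf (nat_lit 0x831abc210) (nat_lit 1285))
 (.leaf (nat_lit 0x831abce7a) (nat_lit 1544))
) (.node (nat_lit 0x833ac7c6a) (.leaf (nat_lit 0x833ac7081) (nat_lit 1543))
 (.node (nat_lit 0x833adf252) (.leaf (nat_lit 0x833ac7c6a) (nat_lit 1542))
 (.leaf (nat_lit 0x833adf252) (nat_lit 1541))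
)))) (.node (nat_lit 0x833affeb9) (.node (nat_lit 0x833ae7c6a) (.node (nat_lit 0x833ae7081) (.leaf (nat_lit 0x833adfeb9) (nat_lit 1543))
 (.leaf (nat_lit 0x833ae7081) (nat_lit 1540))
) (.node (nat_lit 0x833aff252) (.leaf (nat_lit 0x833ae7c6a) (nat_lit 1542))
 (.leaf (nat_lit 0x833aff252) (nat_lit 1544))
)) (.node (nat_lit 0x839e9cc6a) (.node (nat_lit 0x839e9c210) (.leaf (nat_lit 0x833affeb9) (nat_lit 1283))
 (.leaf (nat_lit 0x839e9c210) (nat_lit 1284))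
) (.node (nat_lit 0x839e9f489) (.leaf (nat_lit 0x839e9cc6a) (nat_lit 1543))
 (.node (nat_lit 0x839e9faf3) (.leaf (nat_lit 0x839e9f489) (nat_lit 1543))
 (.leaf (nat_lit 0x839e9faf3) (nat_lit 1283))
)))))) (.node (nat_lit 0x8c10a7395) (.node (nat_lit 0x83ae7cab1) (.node (nat_lit 0x83ae5c408) (.node (nat_lit 0x839ebf489) (.node (nat_lit 0x839ebcc6a) (.leaf (nat_lit 0x839ebc210) (nat_lit 1288))
 (.leaf (nat_lit 0x839ebcc6a) (nat_lit 1286))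
) (.node (nat_lit 0x839ebfaf3) (.leaf (nat_lit 0x839ebf489) (nat_lit 1540))
 (.leaf (nat_lit 0x839ebfaf3) (nat_lit 1544))
)) (.node (nat_lit 0x83ae5f252) (.node (nat_lit 0x83ae5cab1) (.leaf (nat_lit 0x83ae5c408) (nat_lit 1284))
 (.leaf (nat_lit 0x83ae5cab1) (nat_lit 1543))
) (.node (nat_lit 0x83ae5fceb) (.leaf (nat_lit 0x83ae5f252) (nat_lit 1543))
 (.node (nat_lit 0x83ae7c408) (.leaf (nat_lit 0x83ae5fceb) (nat_lit 1283))
 (.leaf (nat_lit 0x83ae7c408) (nat_lit 1288))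
)))) (.node (nat_lit 0x8c10843d7) (.node (nat_lit 0x83ae7fceb) (.node (nat_lit 0x83ae7f252) (.leaf (nat_lit 0x83ae7cab1) (nat_lit 1286))
 (.leaf (nat_lit 0x83ae7f252) (nat_lit 1540))
) (.node (nat_lit 0x8c1084395) (.leaf (nat_lit 0x83ae7fceb) (nat_lit 1544))
 (.leaf (nat_lit 0x8c1084395) (nat_lit 1287))
)) (.node (nat_lit 0x8c1087bf7) (.node (nat_lit 0x8c1087bb5) (.leaf (nat_lit 0x8c10843d7) (nat_lit 1283))
 (.leaf (nat_lit 0x8c1087bb5) (nat_lit 1543))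
) (.node (nat_lit 0x8c10a4bb5) (.leaf (nat_lit 0x8c1087bf7) (nat_lit 1285))
 (.node (nat_lit 0x8c10a4bf7) (.leaf (nat_lit 0x8c10a4bb5) (nat_lit 1542))
 (.leaf (nat_lit 0x8c10a4bf7) (nat_lit 1544))
))))) (.node (nat_lit 0x8c20675cf) (.node (nat_lit 0x8c2047d6e) (.node (nat_lit 0x8c204454e) (.node (nat_lit 0x8c10a73d7) (.leaf (nat_lit 0x8c10a7395) (nat_lit 1284))
 (.leaf (nat_lit 0x8c10a73d7) (nat_lit 1544))
) (.node (nat_lit 0x8c20445cf) (.leaf (nat_lit 0x8c204454e) (nat_lit 1287))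
 (.leaf (nat_lit 0x8c20445cf) (nat_lit 1283))
)) (.node (nat_lit 0x8c2064d6e) (.node (nat_lit 0x8c2047def) (.leaf (nat_lit 0x8c2047d6e) (nat_lit 1543))
 (.leaf (nat_lit 0x8c2047def) (nat_lit 1285))
) (.node (nat_lit 0x8c2064def) (.leaf (nat_lit 0x8c2064d6e) (nat_lit 1542))
 (.node (nat_lit 0x8c206754e) (.leaf (nat_lit 0x8c2064def) (nat_lit 1544))
 (.leaf (nat_lit 0x8c206754e) (nat_lit 1284))
)))) (.node (nat_lit 0x8ce55fe7a) (.node (nat_lit 0x8ce5443d7) (.node (nat_lit 0x8ce544042) (.leaf (nat_lit 0x8c20675cf) (nat_lit 1544))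
 (.leaf (nat_lit 0x8ce544042) (nat_lit 1026))
) (.node (nat_lit 0x8ce55fdef) (.leaf (nat_lit 0x8ce5443d7) (nat_lit 1543))
 (.leaf (nat_lit 0x8ce55fdef) (nat_lit 769))
)) (.node (nat_lit 0x8ce5673d7) (.node (nat_lit 0x8ce567042) (.leaf (nat_lit 0x8ce55fe7a) (nat_lit 775))
 (.leaf (nat_lit 0x8ce567042) (nat_lit 1544))
) (.node (nat_lit 0x8ce57cdef) (.leaf (nat_lit 0x8ce5673d7) (nat_lit 1281))
 (.node (nat_lit 0x8ce57ce7a) (.leaf (nat_lit 0x8ce57cdef) (nat_lit 1032))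
 (.leaf (nat_lit 0x8ce57ce7a) (nat_lit 1288))
))))))) (.node (nat_lit 0x8efde4042) (.node (nat_lit 0x8d73dcbb5) (.node (nat_lit 0x8d53845cf) (.node (nat_lit 0x8cf5e7042) (.node (nat_lit 0x8cf5dcd6e) (.node (nat_lit 0x8cf5c4395) (.leaf (nat_lit 0x8cf5c4042) (nat_lit 1543))
 (.leaf (nat_lit 0x8cf5c4395) (nat_lit 1285))
) (.node (nat_lit 0x8cf5dceb9) (.leaf (nat_lit 0x8cf5dcd6e) (nat_lit 774))
 (.leaf (nat_lit 0x8cf5dceb9) (nat_lit 775))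
)) (.node (nat_lit 0x8cf5ffd6e) (.node (nat_lit 0x8cf5e7395) (.leaf (nat_lit 0x8cf5e7042) (nat_lit 1283))
 (.leaf (nat_lit 0x8cf5e7395) (nat_lit 1544))
) (.node (nat_lit 0x8cf5ffeb9) (.leaf (nat_lit 0x8cf5ffd6e) (nat_lit 1288))
 (.node (nat_lit 0x8d5384081) (.leaf (nat_lit 0x8cf5ffeb9) (nat_lit 772))
 (.leaf (nat_lit 0x8d5384081) (nat_lit 1025))
)))) (.node (nat_lit 0x8d53a75cf) (.node (nat_lit 0x8d539feb9) (.node (nat_lit 0x8d539fbf7) (.leaf (nat_lit 0x8d53845cf) (nat_lit 1543))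
 (.leaf (nat_lit 0x8d539fbf7) (nat_lit 770))
) (.node (nat_lit 0x8d53a7081) (.leaf (nat_lit 0x8d539feb9) (nat_lit 775))
 (.leaf (nat_lit 0x8d53a7081) (nat_lit 1544))
)) (.node (nat_lit 0x8d53bceb9) (.node (nat_lit 0x8d53bcbf7) (.leaf (nat_lit 0x8d53a75cf) (nat_lit 1282))
 (.leaf (nat_lit 0x8d53bcbf7) (nat_lit 1032))
) (.node (nat_lit 0x8d73c4081) (.leaf (nat_lit 0x8d53bceb9) (nat_lit 1288))
 (.node (nat_lit 0x8d73c454e) (.leaf (nat_lit 0x8d73c4081) (nat_lit 1543))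
 (.leaf (nat_lit 0x8d73c454e) (nat_lit 1285))
))))) (.node (nat_lit 0x8eed5ce7a) (.node (nat_lit 0x8d73ffbb5) (.node (nat_lit 0x8d73e7081) (.node (nat_lit 0x8d73dce7a) (.leaf (nat_lit 0x8d73dcbb5) (nat_lit 774))
 (.leaf (nat_lit 0x8d73dce7a) (nat_lit 775))
) (.node (nat_lit 0x8d73e754e) (.leaf (nat_lit 0x8d73e7081) (nat_lit 1283))
 (.leaf (nat_lit 0x8d73e754e) (nat_lit 1544))
)) (.node (nat_lit 0x8eed47042) (.node (nat_lit 0x8d73ffe7a) (.leaf (nat_lit 0x8d73ffbb5) (nat_lit 1288))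
 (.leaf (nat_lit 0x8d73ffe7a) (nat_lit 772))
) (.node (nat_lit 0x8eed47bf7) (.leaf (nat_lit 0x8eed47042) (nat_lit 1286))
 (.node (nat_lit 0x8eed5c5cf) (.leaf (nat_lit 0x8eed47bf7) (nat_lit 1287))
 (.leaf (nat_lit 0x8eed5c5cf) (nat_lit 1031))
)))) (.node (nat_lit 0x8eed7fe7a) (.node (nat_lit 0x8eed64bf7) (.node (nat_lit 0x8eed64042) (.leaf (nat_lit 0x8eed5ce7a) (nat_lit 773))
 (.leaf (nat_lit 0x8eed64042) (nat_lit 1537))
) (.node (nat_lit 0x8eed7f5cf) (.leaf (nat_lit 0x8eed64bf7) (nat_lit 1284))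
 (.leaf (nat_lit 0x8eed7f5cf) (nat_lit 1029))
)) (.node (nat_lit 0x8efdc7bb5) (.node (nat_lit 0x8efdc7042) (.leaf (nat_lit 0x8eed7fe7a) (nat_lit 1288))
 (.leaf (nat_lit 0x8efdc7042) (nat_lit 1543))
) (.node (nat_lit 0x8efddf54e) (.leaf (nat_lit 0x8efdc7bb5) (nat_lit 1026))
 (.node (nat_lit 0x8efddfeb9) (.leaf (nat_lit 0x8efddf54e) (nat_lit 1031))
 (.leaf (nat_lit 0x8efddfeb9) (nat_lit 772))
)))))) (.node (nat_lit 0x8f7bfc395) (.node (nat_lit 0x8f5ba4def) (.node (nat_lit 0x8f5b87081) (.node (nat_lit 0x8efdfc54e) (.node (nat_lit 0x8efde4bb5) (.leaf (nat_lit 0x8efde4042) (nat_lit 1281))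
 (.leaf (nat_lit 0x8efde4bb5) (nat_lit 1544))
) (.node (nat_lit 0x8efdfceb9) (.leaf (nat_lit 0x8efdfc54e) (nat_lit 1288))
 (.leaf (nat_lit 0x8efdfceb9) (nat_lit 776))
)) (.node (nat_lit 0x8f5b9c3d7) (.node (nat_lit 0x8f5b87def) (.leaf (nat_lit 0x8f5b87081) (nat_lit 1286))
 (.leaf (nat_lit 0x8f5b87def) (nat_lit 1287))
) (.node (nat_lit 0x8f5b9ceb9) (.leaf (nat_lit 0x8f5b9c3d7) (nat_lit 1031))
 (.node (nat_lit 0x8f5ba4081) (.leaf (nat_lit 0x8f5b9ceb9) (nat_lit 773))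
 (.leaf (nat_lit 0x8f5ba4081) (nat_lit 1538))
)))) (.node (nat_lit 0x8f7bc7d6e) (.node (nat_lit 0x8f5bbfeb9) (.node (nat_lit 0x8f5bbf3d7) (.leaf (nat_lit 0x8f5ba4def) (nat_lit 1284))
 (.leaf (nat_lit 0x8f5bbf3d7) (nat_lit 1029))
) (.node (nat_lit 0x8f7bc7081) (.leaf (nat_lit 0x8f5bbfeb9) (nat_lit 1288))
 (.leaf (nat_lit 0x8f7bc7081) (nat_lit 1543))
)) (.node (nat_lit 0x8f7bdfe7a) (.node (nat_lit 0x8f7bdf395) (.leaf (nat_lit 0x8f7bc7d6e) (nat_lit 1025))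
 (.leaf (nat_lit 0x8f7bdf395) (nat_lit 1031))
) (.node (nat_lit 0x8f7be4081) (.leaf (nat_lit 0x8f7bdfe7a) (nat_lit 772))
 (.node (nat_lit 0x8f7be4d6e) (.leaf (nat_lit 0x8f7be4081) (nat_lit 1282))
 (.leaf (nat_lit 0x8f7be4d6e) (nat_lit 1544))
))))) (.node (nat_lit 0x8f9ebfbb5) (.node (nat_lit 0x8f9e9f395) (.node (nat_lit 0x8f9e9c5cf) (.node (nat_lit 0x8f7bfce7a) (.leaf (nat_lit 0x8f7bfc395) (nat_lit 1288))
 (.leaf (nat_lit 0x8f7bfce7a) (nat_lit 776))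
) (.node (nat_lit 0x8f9e9cbb5) (.leaf (nat_lit 0x8f9e9c5cf) (nat_lit 513))
 (.leaf (nat_lit 0x8f9e9cbb5) (nat_lit 1031))
)) (.node (nat_lit 0x8f9ebc395) (.node (nat_lit 0x8f9e9fdef) (.leaf (nat_lit 0x8f9e9f395) (nat_lit 514))
 (.leaf (nat_lit 0x8f9e9fdef) (nat_lit 1031))
) (.node (nat_lit 0x8f9ebcdef) (.leaf (nat_lit 0x8f9ebc395) (nat_lit 1032))
 (.node (nat_lit 0x8f9ebf5cf) (.leaf (nat_lit 0x8f9ebcdef) (nat_lit 1032))
 (.leaf (nat_lit 0x8f9ebf5cf) (nat_lit 1032))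
)))) (.node (nat_lit 0x8fae5fbf7) (.node (nat_lit 0x8fae5cd6e) (.node (nat_lit 0x8fae5c3d7) (.leaf (nat_lit 0x8f9ebfbb5) (nat_lit 1026))
 (.leaf (nat_lit 0x8fae5c3d7) (nat_lit 514))
) (.node (nat_lit 0x8fae5f54e) (.leaf (nat_lit 0x8fae5cd6e) (nat_lit 1031))
 (.leaf (nat_lit 0x8fae5f54e) (nat_lit 513))
)) (.node (nat_lit 0x8fae7cbf7) (.node (nat_lit 0x8fae7c54e) (.leaf (nat_lit 0x8fae5fbf7) (nat_lit 1031))
 (.leaf (nat_lit 0x8fae7c54e) (nat_lit 1032))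
) (.node (nat_lit 0x8fae7f3d7) (.leaf (nat_lit 0x8fae7cbf7) (nat_lit 1032))
 (.node (nat_lit 0x8fae7fd6e) (.leaf (nat_lit 0x8fae7f3d7) (nat_lit 1032))
 (.leaf (nat_lit 0x8fae7fd6e) (nat_lit 1025))
)))))))))) (.node (nat_lit 0xec94845cf) (.node (nat_lit 0x9eac47042) (.node (nat_lit 0x937bc7081) (.node (nat_lit 0x910220081) (.node (nat_lit 0x90841cd6e) (.node (nat_lit 0x902044489) (.node (nat_lit 0x9010a0210) (.node (nat_lit 0x901087bb5) (.node (nat_lit 0x901084252) (.leaf (nat_lit 0x901084210) (nat_lit 1032))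
 (.leaf (nat_lit 0x901084252) (nat_lit 1032))
) (.node (nat_lit 0x901087bf7) (.leaf (nat_lit 0x901087bb5) (nat_lit 1281))
 (.leaf (nat_lit 0x901087bf7) (nat_lit 1537))
)) (.node (nat_lit 0x9010a3bb5) (.node (nat_lit 0x9010a0252) (.leaf (nat_lit 0x9010a0210) (nat_lit 775))
 (.leaf (nat_lit 0x9010a0252) (nat_lit 774))
) (.node (nat_lit 0x9010a3bf7) (.leaf (nat_lit 0x9010a3bb5) (nat_lit 1538))
 (.node (nat_lit 0x902044408) (.leaf (nat_lit 0x9010a3bf7) (nat_lit 1282))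
 (.leaf (nat_lit 0x902044408) (nat_lit 776))
)))) (.node (nat_lit 0x902060489) (.node (nat_lit 0x902047def) (.node (nat_lit 0x902047d6e) (.leaf (nat_lit 0x902044489) (nat_lit 776))
 (.leaf (nat_lit 0x902047d6e) (nat_lit 1282))
) (.node (nat_lit 0x902060408) (.leaf (nat_lit 0x902047def) (nat_lit 1538))
 (.leaf (nat_lit 0x902060408) (nat_lit 519))
)) (.node (nat_lit 0x902063def) (.node (nat_lit 0x902063d6e) (.leaf (nat_lit 0x902060489) (nat_lit 518))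
 (.leaf (nat_lit 0x902063d6e) (nat_lit 1537))
) (.node (nat_lit 0x908404042) (.leaf (nat_lit 0x902063def) (nat_lit 1281))
 (.node (nat_lit 0x908404252) (.leaf (nat_lit 0x908404042) (nat_lit 776))
 (.leaf (nat_lit 0x908404252) (nat_lit 1288))
))))) (.node (nat_lit 0x90949ffbd) (.node (nat_lit 0x908438d6e) (.node (nat_lit 0x908420042) (.node (nat_lit 0x90841cf7e) (.leaf (nat_lit 0x90841cd6e) (nat_lit 1537))
 (.leaf (nat_lit 0x90841cf7e) (nat_lit 1282))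
) (.node (nat_lit 0x908420252) (.leaf (nat_lit 0x908420042) (nat_lit 515))
 (.leaf (nat_lit 0x908420252) (nat_lit 1031))
)) (.node (nat_lit 0x909484042) (.node (nat_lit 0x908438f7e) (.leaf (nat_lit 0x908438d6e) (nat_lit 1282))
 (.leaf (nat_lit 0x908438f7e) (nat_lit 1538))
) (.node (nat_lit 0x909484210) (.leaf (nat_lit 0x909484042) (nat_lit 1288))
 (.node (nat_lit 0x90949fdef) (.leaf (nat_lit 0x909484210) (nat_lit 1032))
 (.leaf (nat_lit 0x90949fdef) (nat_lit 1281))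
)))) (.node (nat_lit 0x9094bbfbd) (.node (nat_lit 0x9094a0210) (.node (nat_lit 0x9094a0042) (.leaf (nat_lit 0x90949ffbd) (nat_lit 1544))
 (.leaf (nat_lit 0x9094a0042) (nat_lit 1031))
) (.node (nat_lit 0x9094bbdef) (.leaf (nat_lit 0x9094a0210) (nat_lit 773))
 (.leaf (nat_lit 0x9094bbdef) (nat_lit 1543))
)) (.node (nat_lit 0x910204489) (.node (nat_lit 0x910204081) (.leaf (nat_lit 0x9094bbfbd) (nat_lit 1282))
 (.leaf (nat_lit 0x910204081) (nat_lit 520))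
) (.node (nat_lit 0x91021cbb5) (.leaf (nat_lit 0x910204489) (nat_lit 1032))
 (.node (nat_lit 0x91021cfbd) (.leaf (nat_lit 0x91021cbb5) (nat_lit 1538))
 (.leaf (nat_lit 0x91021cfbd) (nat_lit 1281))
)))))) (.node (nat_lit 0x92ed78408) (.node (nat_lit 0x912260408) (.node (nat_lit 0x912244081) (.node (nat_lit 0x910238bb5) (.node (nat_lit 0x910220489) (.leaf (nat_lit 0x910220081) (nat_lit 259))
 (.leaf (nat_lit 0x910220489) (nat_lit 775))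
) (.node (nat_lit 0x910238fbd) (.leaf (nat_lit 0x910238bb5) (nat_lit 1281))
 (.leaf (nat_lit 0x910238fbd) (nat_lit 1537))
)) (.node (nat_lit 0x91225fbf7) (.node (nat_lit 0x912244408) (.leaf (nat_lit 0x912244081) (nat_lit 1032))
 (.leaf (nat_lit 0x912244408) (nat_lit 776))
) (.node (nat_lit 0x91225ff7e) (.leaf (nat_lit 0x91225fbf7) (nat_lit 1282))
 (.node (nat_lit 0x912260081) (.leaf (nat_lit 0x91225ff7e) (nat_lit 1544))
 (.leaf (nat_lit 0x912260081) (nat_lit 775))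
)))) (.node (nat_lit 0x92ed47bf7) (.node (nat_lit 0x91227bf7e) (.node (nat_lit 0x91227bbf7) (.leaf (nat_lit 0x912260408) (nat_lit 517))
 (.leaf (nat_lit 0x91227bbf7) (nat_lit 1543))
) (.node (nat_lit 0x92ed47042) (.leaf (nat_lit 0x91227bf7e) (nat_lit 1281))
 (.leaf (nat_lit 0x92ed47042) (nat_lit 1544))
)) (.node (nat_lit 0x92ed5cfbd) (.node (nat_lit 0x92ed5c408) (.leaf (nat_lit 0x92ed47bf7) (nat_lit 1283))
 (.leaf (nat_lit 0x92ed5c408) (nat_lit 1541))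
) (.node (nat_lit 0x92ed63042) (.leaf (nat_lit 0x92ed5cfbd) (nat_lit 1544))
 (.node (nat_lit 0x92ed63bf7) (.leaf (nat_lit 0x92ed63042) (nat_lit 1541))
 (.leaf (nat_lit 0x92ed63bf7) (nat_lit 1543))
))))) (.node (nat_lit 0x92fdfbf7e) (.node (nat_lit 0x92fddf489) (.node (nat_lit 0x92fdc7042) (.node (nat_lit 0x92ed78fbd) (.leaf (nat_lit 0x92ed78408) (nat_lit 1543))
 (.leaf (nat_lit 0x92ed78fbd) (nat_lit 1283))
) (.node (nat_lit 0x92fdc7bb5) (.leaf (nat_lit 0x92fdc7042) (nat_lit 1540))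
 (.leaf (nat_lit 0x92fdc7bb5) (nat_lit 1544))
)) (.node (nat_lit 0x92fde3042) (.node (nat_lit 0x92fddff7e) (.leaf (nat_lit 0x92fddf489) (nat_lit 1544))
 (.leaf (nat_lit 0x92fddff7e) (nat_lit 1027))
) (.node (nat_lit 0x92fde3bb5) (.leaf (nat_lit 0x92fde3042) (nat_lit 1543))
 (.node (nat_lit 0x92fdfb489) (.leaf (nat_lit 0x92fde3bb5) (nat_lit 1283))
 (.leaf (nat_lit 0x92fdfb489) (nat_lit 1286))
)))) (.node (nat_lit 0x935b9cf7e) (.node (nat_lit 0x935b87def) (.node (nat_lit 0x935b87081) (.leaf (nat_lit 0x92fdfbf7e) (nat_lit 1287))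
 (.leaf (nat_lit 0x935b87081) (nat_lit 1544))
) (.node (nat_lit 0x935b9c210) (.leaf (nat_lit 0x935b87def) (nat_lit 1283))
 (.leaf (nat_lit 0x935b9c210) (nat_lit 1541))
)) (.node (nat_lit 0x935ba3def) (.node (nat_lit 0x935ba3081) (.leaf (nat_lit 0x935b9cf7e) (nat_lit 1544))
 (.leaf (nat_lit 0x935ba3081) (nat_lit 1541))
) (.node (nat_lit 0x935bb8210) (.leaf (nat_lit 0x935ba3def) (nat_lit 1543))
 (.node (nat_lit 0x935bb8f7e) (.leaf (nat_lit 0x935bb8210) (nat_lit 1543))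
 (.leaf (nat_lit 0x935bb8f7e) (nat_lit 1283))
))))))) (.node (nat_lit 0x9c2060c6a) (.node (nat_lit 0x93ef5f252) (.node (nat_lit 0x93df9cd6e) (.node (nat_lit 0x937be3081) (.node (nat_lit 0x937bdf252) (.node (nat_lit 0x937bc7d6e) (.leaf (nat_lit 0x937bc7081) (nat_lit 1540))
 (.leaf (nat_lit 0x937bc7d6e) (nat_lit 1544))
) (.node (nat_lit 0x937bdffbd) (.leaf (nat_lit 0x937bdf252) (nat_lit 1544))
 (.leaf (nat_lit 0x937bdffbd) (nat_lit 1027))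
)) (.node (nat_lit 0x937bfb252) (.node (nat_lit 0x937be3d6e) (.leaf (nat_lit 0x937be3081) (nat_lit 1543))
 (.leaf (nat_lit 0x937be3d6e) (nat_lit 1283))
) (.node (nat_lit 0x937bfbfbd) (.leaf (nat_lit 0x937bfb252) (nat_lit 1286))
 (.node (nat_lit 0x93df9c210) (.leaf (nat_lit 0x937bfbfbd) (nat_lit 1287))
 (.leaf (nat_lit 0x93df9c210) (nat_lit 1544))
)))) (.node (nat_lit 0x93dfb8d6e) (.node (nat_lit 0x93df9fbf7) (.node (nat_lit 0x93df9f489) (.leaf (nat_lit 0x93df9cd6e) (nat_lit 1283))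
 (.leaf (nat_lit 0x93df9f489) (nat_lit 1286))
) (.node (nat_lit 0x93dfb8210) (.leaf (nat_lit 0x93df9fbf7) (nat_lit 1288))
 (.leaf (nat_lit 0x93dfb8210) (nat_lit 1540))
)) (.node (nat_lit 0x93dfbbbf7) (.node (nat_lit 0x93dfbb489) (.leaf (nat_lit 0x93dfb8d6e) (nat_lit 1543))
 (.leaf (nat_lit 0x93dfbb489) (nat_lit 1543))
) (.node (nat_lit 0x93ef5c408) (.leaf (nat_lit 0x93dfbbbf7) (nat_lit 1027))
 (.node (nat_lit 0x93ef5cbb5) (.leaf (nat_lit 0x93ef5c408) (nat_lit 1544))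
 (.leaf (nat_lit 0x93ef5cbb5) (nat_lit 1283))
))))) (.node (nat_lit 0x9c1087af3) (.node (nat_lit 0x93ef7b252) (.node (nat_lit 0x93ef78408) (.node (nat_lit 0x93ef5fdef) (.leaf (nat_lit 0x93ef5f252) (nat_lit 1286))
 (.leaf (nat_lit 0x93ef5fdef) (nat_lit 1288))
) (.node (nat_lit 0x93ef78bb5) (.leaf (nat_lit 0x93ef78408) (nat_lit 1540))
 (.leaf (nat_lit 0x93ef78bb5) (nat_lit 1543))
)) (.node (nat_lit 0x9c1084395) (.node (nat_lit 0x93ef7bdef) (.leaf (nat_lit 0x93ef7b252) (nat_lit 1543))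
 (.leaf (nat_lit 0x93ef7bdef) (nat_lit 1027))
) (.node (nat_lit 0x9c10843d7) (.leaf (nat_lit 0x9c1084395) (nat_lit 1286))
 (.node (nat_lit 0x9c1087ab1) (.leaf (nat_lit 0x9c10843d7) (nat_lit 1288))
 (.leaf (nat_lit 0x9c1087ab1) (nat_lit 1540))
)))) (.node (nat_lit 0x9c10a33d7) (.node (nat_lit 0x9c10a0af3) (.node (nat_lit 0x9c10a0ab1) (.leaf (nat_lit 0x9c1087af3) (nat_lit 1538))
 (.leaf (nat_lit 0x9c10a0ab1) (nat_lit 1543))
) (.node (nat_lit 0x9c10a3395) (.leaf (nat_lit 0x9c10a0af3) (nat_lit 1539))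
 (.leaf (nat_lit 0x9c10a3395) (nat_lit 1543))
)) (.node (nat_lit 0x9c20445cf) (.node (nat_lit 0x9c204454e) (.leaf (nat_lit 0x9c10a33d7) (nat_lit 1284))
 (.leaf (nat_lit 0x9c204454e) (nat_lit 1286))
) (.node (nat_lit 0x9c2047c6a) (.leaf (nat_lit 0x9c20445cf) (nat_lit 1288))
 (.node (nat_lit 0x9c2047ceb) (.leaf (nat_lit 0x9c2047c6a) (nat_lit 1540))
 (.leaf (nat_lit 0x9c2047ceb) (nat_lit 1537))
)))))) (.node (nat_lit 0x9cf5fbc6a) (.node (nat_lit 0x9ce5633d7) (.node (nat_lit 0x9ce544042) (.node (nat_lit 0x9c206354e) (.node (nat_lit 0x9c2060ceb) (.leaf (nat_lit 0x9c2060c6a) (nat_lit 1543))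
 (.leaf (nat_lit 0x9c2060ceb) (nat_lit 1539))
) (.node (nat_lit 0x9c20635cf) (.leaf (nat_lit 0x9c206354e) (nat_lit 1543))
 (.leaf (nat_lit 0x9c20635cf) (nat_lit 1284))
)) (.node (nat_lit 0x9ce55fceb) (.node (nat_lit 0x9ce5443d7) (.leaf (nat_lit 0x9ce544042) (nat_lit 1544))
 (.leaf (nat_lit 0x9ce5443d7) (nat_lit 1285))
) (.node (nat_lit 0x9ce55ff7e) (.leaf (nat_lit 0x9ce55fceb) (nat_lit 1027))
 (.node (nat_lit 0x9ce563042) (.leaf (nat_lit 0x9ce55ff7e) (nat_lit 1288))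
 (.leaf (nat_lit 0x9ce563042) (nat_lit 1283))
)))) (.node (nat_lit 0x9cf5c4395) (.node (nat_lit 0x9ce578f7e) (.node (nat_lit 0x9ce578ceb) (.leaf (nat_lit 0x9ce5633d7) (nat_lit 1543))
 (.leaf (nat_lit 0x9ce578ceb) (nat_lit 1287))
) (.node (nat_lit 0x9cf5c4042) (.leaf (nat_lit 0x9ce578f7e) (nat_lit 1029))
 (.leaf (nat_lit 0x9cf5c4042) (nat_lit 1025))
)) (.node (nat_lit 0x9cf5dcfbd) (.node (nat_lit 0x9cf5dcc6a) (.leaf (nat_lit 0x9cf5c4395) (nat_lit 1544))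
 (.leaf (nat_lit 0x9cf5dcc6a) (nat_lit 1288))
) (.node (nat_lit 0x9cf5e3042) (.leaf (nat_lit 0x9cf5dcfbd) (nat_lit 776))
 (.node (nat_lit 0x9cf5e3395) (.leaf (nat_lit 0x9cf5e3042) (nat_lit 1543))
 (.leaf (nat_lit 0x9cf5e3395) (nat_lit 1282))
))))) (.node (nat_lit 0x9d53b8fbd) (.node (nat_lit 0x9d539faf3) (.node (nat_lit 0x9d5384081) (.node (nat_lit 0x9cf5fbfbd) (.leaf (nat_lit 0x9cf5fbc6a) (nat_lit 1031))
 (.leaf (nat_lit 0x9cf5fbfbd) (nat_lit 769))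
) (.node (nat_lit 0x9d53845cf) (.leaf (nat_lit 0x9d5384081) (nat_lit 1544))
 (.leaf (nat_lit 0x9d53845cf) (nat_lit 1285))
)) (.node (nat_lit 0x9d53a3081) (.node (nat_lit 0x9d539ffbd) (.leaf (nat_lit 0x9d539faf3) (nat_lit 1027))
 (.leaf (nat_lit 0x9d539ffbd) (nat_lit 1288))
) (.node (nat_lit 0x9d53a35cf) (.leaf (nat_lit 0x9d53a3081) (nat_lit 1283))
 (.node (nat_lit 0x9d53b8af3) (.leaf (nat_lit 0x9d53a35cf) (nat_lit 1543))
 (.leaf (nat_lit 0x9d53b8af3) (nat_lit 1287))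
)))) (.node (nat_lit 0x9d73dcf7e) (.node (nat_lit 0x9d73c454e) (.node (nat_lit 0x9d73c4081) (.leaf (nat_lit 0x9d53b8fbd) (nat_lit 1029))
 (.leaf (nat_lit 0x9d73c4081) (nat_lit 1026))
) (.node (nat_lit 0x9d73dcab1) (.leaf (nat_lit 0x9d73c454e) (nat_lit 1544))
 (.leaf (nat_lit 0x9d73dcab1) (nat_lit 1288))
)) (.node (nat_lit 0x9d73e354e) (.node (nat_lit 0x9d73e3081) (.leaf (nat_lit 0x9d73dcf7e) (nat_lit 776))
 (.leaf (nat_lit 0x9d73e3081) (nat_lit 1543))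
) (.node (nat_lit 0x9d73fbab1) (.leaf (nat_lit 0x9d73e354e) (nat_lit 1281))
 (.node (nat_lit 0x9d73fbf7e) (.leaf (nat_lit 0x9d73fbab1) (nat_lit 1031))
 (.leaf (nat_lit 0x9d73fbf7e) (nat_lit 770))
)))))))) (.node (nat_lit 0xe15384210) (.node (nat_lit 0x9fdfb8395) (.node (nat_lit 0x9f1a9c3d7) (.node (nat_lit 0x9ebcc7ab1) (.node (nat_lit 0x9eac60042) (.node (nat_lit 0x9eac5c5cf) (.node (nat_lit 0x9eac47af3) (.leaf (nat_lit 0x9eac47042) (nat_lit 1539))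
 (.leaf (nat_lit 0x9eac47af3) (nat_lit 1281))
) (.node (nat_lit 0x9eac5cf7e) (.leaf (nat_lit 0x9eac5c5cf) (nat_lit 1032))
 (.leaf (nat_lit 0x9eac5cf7e) (nat_lit 1288))
)) (.node (nat_lit 0x9eac7b5cf) (.node (nat_lit 0x9eac60af3) (.leaf (nat_lit 0x9eac60042) (nat_lit 1282))
 (.leaf (nat_lit 0x9eac60af3) (nat_lit 1541))
) (.node (nat_lit 0x9eac7bf7e) (.leaf (nat_lit 0x9eac7b5cf) (nat_lit 771))
 (.node (nat_lit 0x9ebcc7042) (.leaf (nat_lit 0x9eac7bf7e) (nat_lit 1031))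
 (.leaf (nat_lit 0x9ebcc7042) (nat_lit 1539))
)))) (.node (nat_lit 0x9ebce0ab1) (.node (nat_lit 0x9ebcdffbd) (.node (nat_lit 0x9ebcdf54e) (.leaf (nat_lit 0x9ebcc7ab1) (nat_lit 1544))
 (.leaf (nat_lit 0x9ebcdf54e) (nat_lit 1288))
) (.node (nat_lit 0x9ebce0042) (.leaf (nat_lit 0x9ebcdffbd) (nat_lit 1028))
 (.leaf (nat_lit 0x9ebce0042) (nat_lit 1282))
)) (.node (nat_lit 0x9ebcf8fbd) (.node (nat_lit 0x9ebcf854e) (.leaf (nat_lit 0x9ebce0ab1) (nat_lit 1541))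
 (.leaf (nat_lit 0x9ebcf854e) (nat_lit 1030))
) (.node (nat_lit 0x9f1a87081) (.leaf (nat_lit 0x9ebcf8fbd) (nat_lit 1031))
 (.node (nat_lit 0x9f1a87ceb) (.leaf (nat_lit 0x9f1a87081) (nat_lit 1539))
 (.leaf (nat_lit 0x9f1a87ceb) (nat_lit 1282))
))))) (.node (nat_lit 0x9f3adff7e) (.node (nat_lit 0x9f1abb3d7) (.node (nat_lit 0x9f1aa0081) (.node (nat_lit 0x9f1a9cfbd) (.leaf (nat_lit 0x9f1a9c3d7) (nat_lit 1032))
 (.leaf (nat_lit 0x9f1a9cfbd) (nat_lit 1288))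
) (.node (nat_lit 0x9f1aa0ceb) (.leaf (nat_lit 0x9f1aa0081) (nat_lit 1281))
 (.leaf (nat_lit 0x9f1aa0ceb) (nat_lit 1541))
)) (.node (nat_lit 0x9f3ac7081) (.node (nat_lit 0x9f1abbfbd) (.leaf (nat_lit 0x9f1abb3d7) (nat_lit 771))
 (.leaf (nat_lit 0x9f1abbfbd) (nat_lit 1031))
) (.node (nat_lit 0x9f3ac7c6a) (.leaf (nat_lit 0x9f3ac7081) (nat_lit 1539))
 (.node (nat_lit 0x9f3adf395) (.leaf (nat_lit 0x9f3ac7c6a) (nat_lit 1544))
 (.leaf (nat_lit 0x9f3adf395) (nat_lit 1288))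
)))) (.node (nat_lit 0x9f3af8f7e) (.node (nat_lit 0x9f3ae0c6a) (.node (nat_lit 0x9f3ae0081) (.leaf (nat_lit 0x9f3adff7e) (nat_lit 1028))
 (.leaf (nat_lit 0x9f3ae0081) (nat_lit 1281))
) (.node (nat_lit 0x9f3af8395) (.leaf (nat_lit 0x9f3ae0c6a) (nat_lit 1541))
 (.leaf (nat_lit 0x9f3af8395) (nat_lit 1030))
)) (.node (nat_lit 0x9fdf9cab1) (.node (nat_lit 0x9fdf9c5cf) (.leaf (nat_lit 0x9f3af8f7e) (nat_lit 1031))
 (.leaf (nat_lit 0x9fdf9c5cf) (nat_lit 1032))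
) (.node (nat_lit 0x9fdf9f395) (.leaf (nat_lit 0x9fdf9cab1) (nat_lit 1032))
 (.node (nat_lit 0x9fdf9fceb) (.leaf (nat_lit 0x9fdf9f395) (nat_lit 1026))
 (.leaf (nat_lit 0x9fdf9fceb) (nat_lit 1288))
)))))) (.node (nat_lit 0xe0843c54e) (.node (nat_lit 0x9fef78af3) (.node (nat_lit 0x9fef5c3d7) (.node (nat_lit 0x9fdfbb5cf) (.node (nat_lit 0x9fdfb8ceb) (.leaf (nat_lit 0x9fdfb8395) (nat_lit 1287))
 (.leaf (nat_lit 0x9fdfb8ceb) (nat_lit 769))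
) (.node (nat_lit 0x9fdfbbab1) (.leaf (nat_lit 0x9fdfbb5cf) (nat_lit 1031))
 (.leaf (nat_lit 0x9fdfbbab1) (nat_lit 770))
)) (.node (nat_lit 0x9fef5f54e) (.node (nat_lit 0x9fef5cc6a) (.leaf (nat_lit 0x9fef5c3d7) (nat_lit 1032))
 (.leaf (nat_lit 0x9fef5cc6a) (nat_lit 1032))
) (.node (nat_lit 0x9fef5faf3) (.leaf (nat_lit 0x9fef5f54e) (nat_lit 1025))
 (.node (nat_lit 0x9fef7854e) (.leaf (nat_lit 0x9fef5faf3) (nat_lit 1288))
 (.leaf (nat_lit 0x9fef7854e) (nat_lit 1287))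
)))) (.node (nat_lit 0xe0840475e) (.node (nat_lit 0x9fef7bc6a) (.node (nat_lit 0x9fef7b3d7) (.leaf (nat_lit 0x9fef78af3) (nat_lit 770))
 (.leaf (nat_lit 0x9fef7b3d7) (nat_lit 1031))
) (.node (nat_lit 0xe0840454e) (.leaf (nat_lit 0x9fef7bc6a) (nat_lit 769))
 (.leaf (nat_lit 0xe0840454e) (nat_lit 1542))
)) (.node (nat_lit 0xe0841cf7e) (.node (nat_lit 0xe0841cd6e) (.leaf (nat_lit 0xe0840475e) (nat_lit 1543))
 (.leaf (nat_lit 0xe0841cd6e) (nat_lit 1285))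
) (.node (nat_lit 0xe08424d6e) (.leaf (nat_lit 0xe0841cf7e) (nat_lit 1543))
 (.node (nat_lit 0xe08424f7e) (.leaf (nat_lit 0xe08424d6e) (nat_lit 1544))
 (.leaf (nat_lit 0xe08424f7e) (nat_lit 1539))
))))) (.node (nat_lit 0xe0e57c79d) (.node (nat_lit 0xe0e55fceb) (.node (nat_lit 0xe0e544408) (.node (nat_lit 0xe0843c75e) (.leaf (nat_lit 0xe0843c54e) (nat_lit 1540))
 (.leaf (nat_lit 0xe0843c75e) (nat_lit 1541))
) (.node (nat_lit 0xe0e54479d) (.leaf (nat_lit 0xe0e544408) (nat_lit 1281))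
 (.leaf (nat_lit 0xe0e54479d) (nat_lit 1540))
)) (.node (nat_lit 0xe0e567ceb) (.node (nat_lit 0xe0e55ff7e) (.leaf (nat_lit 0xe0e55fceb) (nat_lit 1031))
 (.leaf (nat_lit 0xe0e55ff7e) (nat_lit 1030))
) (.node (nat_lit 0xe0e567f7e) (.leaf (nat_lit 0xe0e567ceb) (nat_lit 1029))
 (.node (nat_lit 0xe0e57c408) (.leaf (nat_lit 0xe0e567f7e) (nat_lit 1288))
 (.leaf (nat_lit 0xe0e57c408) (nat_lit 1542))
)))) (.node (nat_lit 0xe1021cfbd) (.node (nat_lit 0xe1020479d) (.node (nat_lit 0xe10204395) (.leaf (nat_lit 0xe0e57c79d) (nat_lit 1544))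
 (.leaf (nat_lit 0xe10204395) (nat_lit 1542))
) (.node (nat_lit 0xe1021cbb5) (.leaf (nat_lit 0xe1020479d) (nat_lit 1543))
 (.leaf (nat_lit 0xe1021cbb5) (nat_lit 1285))
)) (.node (nat_lit 0xe10224fbd) (.node (nat_lit 0xe10224bb5) (.leaf (nat_lit 0xe1021cfbd) (nat_lit 1543))
 (.leaf (nat_lit 0xe10224bb5) (nat_lit 1544))
) (.node (nat_lit 0xe1023c395) (.leaf (nat_lit 0xe10224fbd) (nat_lit 1539))
 (.node (nat_lit 0xe1023c79d) (.leaf (nat_lit 0xe1023c395) (nat_lit 1540))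
 (.leaf (nat_lit 0xe1023c79d) (nat_lit 1541))
))))))) (.node (nat_lit 0xe2ed64408) (.node (nat_lit 0xe1e747af3) (.node (nat_lit 0xe1d78454e) (.node (nat_lit 0xe153a7af3) (.node (nat_lit 0xe1539faf3) (.node (nat_lit 0xe1538475e) (.leaf (nat_lit 0xe15384210) (nat_lit 1282))
 (.leaf (nat_lit 0xe1538475e) (nat_lit 1540))
) (.node (nat_lit 0xe1539ffbd) (.leaf (nat_lit 0xe1539faf3) (nat_lit 1031))
 (.leaf (nat_lit 0xe1539ffbd) (nat_lit 1030))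
)) (.node (nat_lit 0xe153bc210) (.node (nat_lit 0xe153a7fbd) (.leaf (nat_lit 0xe153a7af3) (nat_lit 1029))
 (.leaf (nat_lit 0xe153a7fbd) (nat_lit 1288))
) (.node (nat_lit 0xe153bc75e) (.leaf (nat_lit 0xe153bc210) (nat_lit 1542))
 (.node (nat_lit 0xe1d784210) (.leaf (nat_lit 0xe153bc75e) (nat_lit 1544))
 (.leaf (nat_lit 0xe1d784210) (nat_lit 1282))
)))) (.node (nat_lit 0xe1d7bc54e) (.node (nat_lit 0xe1d787ceb) (.node (nat_lit 0xe1d787bb5) (.leaf (nat_lit 0xe1d78454e) (nat_lit 1538))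
 (.leaf (nat_lit 0xe1d787bb5) (nat_lit 518))
) (.node (nat_lit 0xe1d7bc210) (.leaf (nat_lit 0xe1d787ceb) (nat_lit 519))
 (.leaf (nat_lit 0xe1d7bc210) (nat_lit 1537))
)) (.node (nat_lit 0xe1d7bfceb) (.node (nat_lit 0xe1d7bfbb5) (.leaf (nat_lit 0xe1d7bc54e) (nat_lit 1281))
 (.leaf (nat_lit 0xe1d7bfbb5) (nat_lit 1032))
) (.node (nat_lit 0xe1e744395) (.leaf (nat_lit 0xe1d7bfceb) (nat_lit 1032))
 (.node (nat_lit 0xe1e744408) (.leaf (nat_lit 0xe1e744395) (nat_lit 1537))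
 (.leaf (nat_lit 0xe1e744408) (nat_lit 1281))
))))) (.node (nat_lit 0xe2bcdffbd) (.node (nat_lit 0xe1e77faf3) (.node (nat_lit 0xe1e77c395) (.node (nat_lit 0xe1e747d6e) (.leaf (nat_lit 0xe1e747af3) (nat_lit 519))
 (.leaf (nat_lit 0xe1e747d6e) (nat_lit 518))
) (.node (nat_lit 0xe1e77c408) (.leaf (nat_lit 0xe1e77c395) (nat_lit 1282))
 (.leaf (nat_lit 0xe1e77c408) (nat_lit 1538))
)) (.node (nat_lit 0xe2bcc779d) (.node (nat_lit 0xe1e77fd6e) (.leaf (nat_lit 0xe1e77faf3) (nat_lit 1032))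
 (.leaf (nat_lit 0xe1e77fd6e) (nat_lit 1032))
) (.node (nat_lit 0xe2bcc7d6e) (.leaf (nat_lit 0xe2bcc779d) (nat_lit 257))
 (.node (nat_lit 0xe2bcdf54e) (.leaf (nat_lit 0xe2bcc7d6e) (nat_lit 775))
 (.leaf (nat_lit 0xe2bcdf54e) (nat_lit 770))
)))) (.node (nat_lit 0xe2bcffd6e) (.node (nat_lit 0xe2bce7fbd) (.node (nat_lit 0xe2bce754e) (.leaf (nat_lit 0xe2bcdffbd) (nat_lit 1287))
 (.leaf (nat_lit 0xe2bce754e) (nat_lit 1288))
) (.node (nat_lit 0xe2bcff79d) (.leaf (nat_lit 0xe2bce7fbd) (nat_lit 769))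
 (.leaf (nat_lit 0xe2bcff79d) (nat_lit 776))
)) (.node (nat_lit 0xe2ed47ceb) (.node (nat_lit 0xe2ed4775e) (.leaf (nat_lit 0xe2bcffd6e) (nat_lit 1288))
 (.leaf (nat_lit 0xe2ed4775e) (nat_lit 775))
) (.node (nat_lit 0xe2ed5c408) (.leaf (nat_lit 0xe2ed47ceb) (nat_lit 517))
 (.node (nat_lit 0xe2ed5cfbd) (.leaf (nat_lit 0xe2ed5c408) (nat_lit 1543))
 (.leaf (nat_lit 0xe2ed5cfbd) (nat_lit 1025))
)))))) (.node (nat_lit 0xe35bbf79d) (.node (nat_lit 0xe33ae7f7e) (.node (nat_lit 0xe33ac775e) (.node (nat_lit 0xe2ed7f75e) (.node (nat_lit 0xe2ed64fbd) (.leaf (nat_lit 0xe2ed64408) (nat_lit 1282))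
 (.leaf (nat_lit 0xe2ed64fbd) (nat_lit 1544))
) (.node (nat_lit 0xe2ed7fceb) (.leaf (nat_lit 0xe2ed7f75e) (nat_lit 1288))
 (.leaf (nat_lit 0xe2ed7fceb) (nat_lit 1032))
)) (.node (nat_lit 0xe33adf395) (.node (nat_lit 0xe33ac7bb5) (.leaf (nat_lit 0xe33ac775e) (nat_lit 258))
 (.leaf (nat_lit 0xe33ac7bb5) (nat_lit 775))
) (.node (nat_lit 0xe33adff7e) (.leaf (nat_lit 0xe33adf395) (nat_lit 769))
 (.node (nat_lit 0xe33ae7395) (.leaf (nat_lit 0xe33adff7e) (nat_lit 1287))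
 (.leaf (nat_lit 0xe33ae7395) (nat_lit 1288))
)))) (.node (nat_lit 0xe35b87af3) (.node (nat_lit 0xe33affbb5) (.node (nat_lit 0xe33aff75e) (.leaf (nat_lit 0xe33ae7f7e) (nat_lit 770))
 (.leaf (nat_lit 0xe33aff75e) (nat_lit 776))
) (.node (nat_lit 0xe35b8779d) (.leaf (nat_lit 0xe33affbb5) (nat_lit 1288))
 (.leaf (nat_lit 0xe35b8779d) (nat_lit 775))
)) (.node (nat_lit 0xe35b9cf7e) (.node (nat_lit 0xe35b9c210) (.leaf (nat_lit 0xe35b87af3) (nat_lit 517))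
 (.leaf (nat_lit 0xe35b9c210) (nat_lit 1543))
) (.node (nat_lit 0xe35ba4210) (.leaf (nat_lit 0xe35b9cf7e) (nat_lit 1026))
 (.node (nat_lit 0xe35ba4f7e) (.leaf (nat_lit 0xe35ba4210) (nat_lit 1281))
 (.leaf (nat_lit 0xe35ba4f7e) (nat_lit 1544))
))))) (.node (nat_lit 0xe3dfa7ceb) (.node (nat_lit 0xe3df9f395) (.node (nat_lit 0xe3df9c210) (.node (nat_lit 0xe35bbfaf3) (.leaf (nat_lit 0xe35bbf79d) (nat_lit 1288))
 (.leaf (nat_lit 0xe35bbfaf3) (nat_lit 1032))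
) (.node (nat_lit 0xe3df9cd6e) (.leaf (nat_lit 0xe3df9c210) (nat_lit 1286))
 (.leaf (nat_lit 0xe3df9cd6e) (nat_lit 1287))
)) (.node (nat_lit 0xe3dfa4210) (.node (nat_lit 0xe3df9fceb) (.leaf (nat_lit 0xe3df9f395) (nat_lit 1287))
 (.leaf (nat_lit 0xe3df9fceb) (nat_lit 1028))
) (.node (nat_lit 0xe3dfa4d6e) (.leaf (nat_lit 0xe3dfa4210) (nat_lit 1537))
 (.node (nat_lit 0xe3dfa7395) (.leaf (nat_lit 0xe3dfa4d6e) (nat_lit 1284))
 (.leaf (nat_lit 0xe3dfa7395) (nat_lit 1030))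
)))) (.node (nat_lit 0xe3ef5faf3) (.node (nat_lit 0xe3ef5cbb5) (.node (nat_lit 0xe3ef5c408) (.leaf (nat_lit 0xe3dfa7ceb) (nat_lit 1032))
 (.leaf (nat_lit 0xe3ef5c408) (nat_lit 1286))
) (.node (nat_lit 0xe3ef5f54e) (.leaf (nat_lit 0xe3ef5cbb5) (nat_lit 1287))
 (.leaf (nat_lit 0xe3ef5f54e) (nat_lit 1287))
)) (.node (nat_lit 0xe3ef64bb5) (.node (nat_lit 0xe3ef64408) (.leaf (nat_lit 0xe3ef5faf3) (nat_lit 1028))
 (.leaf (nat_lit 0xe3ef64408) (nat_lit 1538))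
) (.node (nat_lit 0xe3ef6754e) (.leaf (nat_lit 0xe3ef64bb5) (nat_lit 1284))
 (.node (nat_lit 0xe3ef67af3) (.leaf (nat_lit 0xe3ef6754e) (nat_lit 1030))
 (.leaf (nat_lit 0xe3ef67af3) (nat_lit 1032))
))))))))) (.node (nat_lit 0xf2ac4775e) (.node (nat_lit 0xef7bc775e) (.node (nat_lit 0xedd7bcab1) (.node (nat_lit 0xed225fbf7) (.node (nat_lit 0xecf5c475e) (.node (nat_lit 0xec94a4def) (.node (nat_lit 0xec949fdef) (.node (nat_lit 0xec948479d) (.leaf (nat_lit 0xec94845cf) (nat_lit 1543))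
 (.leaf (nat_lit 0xec948479d) (nat_lit 1542))
) (.node (nat_lit 0xec949ffbd) (.leaf (nat_lit 0xec949fdef) (nat_lit 1287))
 (.leaf (nat_lit 0xec949ffbd) (nat_lit 1029))
)) (.node (nat_lit 0xec94bf5cf) (.node (nat_lit 0xec94a4fbd) (.leaf (nat_lit 0xec94a4def) (nat_lit 1285))
 (.leaf (nat_lit 0xec94a4fbd) (nat_lit 1544))
) (.node (nat_lit 0xec94bf79d) (.leaf (nat_lit 0xec94bf5cf) (nat_lit 1285))
 (.node (nat_lit 0xecf5c4489) (.leaf (nat_lit 0xec94bf79d) (nat_lit 1544))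
 (.leaf (nat_lit 0xecf5c4489) (nat_lit 1282))
)))) (.node (nat_lit 0xecf5e7fbd) (.node (nat_lit 0xecf5dcfbd) (.node (nat_lit 0xecf5dcc6a) (.leaf (nat_lit 0xecf5c475e) (nat_lit 1543))
 (.leaf (nat_lit 0xecf5dcc6a) (nat_lit 775))
) (.node (nat_lit 0xecf5e7c6a) (.leaf (nat_lit 0xecf5dcfbd) (nat_lit 771))
 (.leaf (nat_lit 0xecf5e7c6a) (nat_lit 1288))
)) (.node (nat_lit 0xecf5ff75e) (.node (nat_lit 0xecf5ff489) (.leaf (nat_lit 0xecf5e7fbd) (nat_lit 1032))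
 (.leaf (nat_lit 0xecf5ff489) (nat_lit 1544))
) (.node (nat_lit 0xed22443d7) (.leaf (nat_lit 0xecf5ff75e) (nat_lit 1026))
 (.node (nat_lit 0xed224475e) (.leaf (nat_lit 0xed22443d7) (nat_lit 1543))
 (.leaf (nat_lit 0xed224475e) (nat_lit 1542))
))))) (.node (nat_lit 0xed73dcf7e) (.node (nat_lit 0xed227f3d7) (.node (nat_lit 0xed2264bf7) (.node (nat_lit 0xed225ff7e) (.leaf (nat_lit 0xed225fbf7) (nat_lit 1287))
 (.leaf (nat_lit 0xed225ff7e) (nat_lit 1029))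
) (.node (nat_lit 0xed2264f7e) (.leaf (nat_lit 0xed2264bf7) (nat_lit 1285))
 (.leaf (nat_lit 0xed2264f7e) (nat_lit 1544))
)) (.node (nat_lit 0xed73c4252) (.node (nat_lit 0xed227f75e) (.leaf (nat_lit 0xed227f3d7) (nat_lit 1285))
 (.leaf (nat_lit 0xed227f75e) (nat_lit 1544))
) (.node (nat_lit 0xed73c479d) (.leaf (nat_lit 0xed73c4252) (nat_lit 1281))
 (.node (nat_lit 0xed73dcab1) (.leaf (nat_lit 0xed73c479d) (nat_lit 1543))
 (.leaf (nat_lit 0xed73dcab1) (nat_lit 775))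
)))) (.node (nat_lit 0xed73ff79d) (.node (nat_lit 0xed73e7f7e) (.node (nat_lit 0xed73e7ab1) (.leaf (nat_lit 0xed73dcf7e) (nat_lit 771))
 (.leaf (nat_lit 0xed73e7ab1) (nat_lit 1288))
) (.node (nat_lit 0xed73ff252) (.leaf (nat_lit 0xed73e7f7e) (nat_lit 1032))
 (.leaf (nat_lit 0xed73ff252) (nat_lit 1544))
)) (.node (nat_lit 0xedd784489) (.node (nat_lit 0xedd7843d7) (.leaf (nat_lit 0xed73ff79d) (nat_lit 1025))
 (.leaf (nat_lit 0xedd7843d7) (nat_lit 1284))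
) (.node (nat_lit 0xedd787ab1) (.leaf (nat_lit 0xedd784489) (nat_lit 1537))
 (.node (nat_lit 0xedd787def) (.leaf (nat_lit 0xedd787ab1) (nat_lit 1031))
 (.leaf (nat_lit 0xedd787def) (nat_lit 1027))
)))))) (.node (nat_lit 0xeeac7c75e) (.node (nat_lit 0xede77cc6a) (.node (nat_lit 0xede744252) (.node (nat_lit 0xedd7bf3d7) (.node (nat_lit 0xedd7bcdef) (.leaf (nat_lit 0xedd7bcab1) (nat_lit 1028))
 (.leaf (nat_lit 0xedd7bcdef) (nat_lit 1288))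
) (.node (nat_lit 0xedd7bf489) (.leaf (nat_lit 0xedd7bf3d7) (nat_lit 1288))
 (.leaf (nat_lit 0xedd7bf489) (nat_lit 1286))
)) (.node (nat_lit 0xede747bf7) (.node (nat_lit 0xede7445cf) (.leaf (nat_lit 0xede744252) (nat_lit 1538))
 (.leaf (nat_lit 0xede7445cf) (nat_lit 1284))
) (.node (nat_lit 0xede747c6a) (.leaf (nat_lit 0xede747bf7) (nat_lit 1027))
 (.node (nat_lit 0xede77cbf7) (.leaf (nat_lit 0xede747c6a) (nat_lit 1031))
 (.leaf (nat_lit 0xede77cbf7) (nat_lit 1288))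
)))) (.node (nat_lit 0xeeac47def) (.node (nat_lit 0xede77f5cf) (.node (nat_lit 0xede77f252) (.leaf (nat_lit 0xede77cc6a) (nat_lit 1028))
 (.leaf (nat_lit 0xede77f252) (nat_lit 1286))
) (.node (nat_lit 0xeeac4775e) (.leaf (nat_lit 0xede77f5cf) (nat_lit 1288))
 (.leaf (nat_lit 0xeeac4775e) (nat_lit 769))
)) (.node (nat_lit 0xeeac5cf7e) (.node (nat_lit 0xeeac5c5cf) (.leaf (nat_lit 0xeeac47def) (nat_lit 1287))
 (.leaf (nat_lit 0xeeac5c5cf) (nat_lit 514))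
) (.node (nat_lit 0xeeac675cf) (.leaf (nat_lit 0xeeac5cf7e) (nat_lit 1031))
 (.node (nat_lit 0xeeac67f7e) (.leaf (nat_lit 0xeeac675cf) (nat_lit 1032))
 (.leaf (nat_lit 0xeeac67f7e) (nat_lit 1288))
))))) (.node (nat_lit 0xeefdfcc6a) (.node (nat_lit 0xeefddf489) (.node (nat_lit 0xeefdc779d) (.node (nat_lit 0xeeac7cdef) (.leaf (nat_lit 0xeeac7c75e) (nat_lit 1288))
 (.leaf (nat_lit 0xeeac7cdef) (nat_lit 1026))
) (.node (nat_lit 0xeefdc7c6a) (.leaf (nat_lit 0xeefdc779d) (nat_lit 1287))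
 (.leaf (nat_lit 0xeefdc7c6a) (nat_lit 1029))
)) (.node (nat_lit 0xeefde4489) (.node (nat_lit 0xeefddff7e) (.leaf (nat_lit 0xeefddf489) (nat_lit 1030))
 (.leaf (nat_lit 0xeefddff7e) (nat_lit 1031))
) (.node (nat_lit 0xeefde4f7e) (.leaf (nat_lit 0xeefde4489) (nat_lit 1544))
 (.node (nat_lit 0xeefdfc79d) (.leaf (nat_lit 0xeefde4f7e) (nat_lit 1028))
 (.leaf (nat_lit 0xeefdfc79d) (nat_lit 1027))
)))) (.node (nat_lit 0xef1a9cfbd) (.node (nat_lit 0xef1a87bf7) (.node (nat_lit 0xef1a8779d) (.leaf (nat_lit 0xeefdfcc6a) (nat_lit 1288))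
 (.leaf (nat_lit 0xef1a8779d) (nat_lit 770))
) (.node (nat_lit 0xef1a9c3d7) (.leaf (nat_lit 0xef1a87bf7) (nat_lit 1287))
 (.leaf (nat_lit 0xef1a9c3d7) (nat_lit 513))
)) (.node (nat_lit 0xef1aa7fbd) (.node (nat_lit 0xef1aa73d7) (.leaf (nat_lit 0xef1a9cfbd) (nat_lit 1031))
 (.leaf (nat_lit 0xef1aa73d7) (nat_lit 1032))
) (.node (nat_lit 0xef1abc79d) (.leaf (nat_lit 0xef1aa7fbd) (nat_lit 1288))
 (.node (nat_lit 0xef1abcbf7) (.leaf (nat_lit 0xef1abc79d) (nat_lit 1288))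
 (.leaf (nat_lit 0xef1abcbf7) (nat_lit 1025))
))))))) (.node (nat_lit 0xf0e563def) (.node (nat_lit 0xefef5f252) (.node (nat_lit 0xefdf9cab1) (.node (nat_lit 0xef7be4252) (.node (nat_lit 0xef7bdf252) (.node (nat_lit 0xef7bc7ab1) (.leaf (nat_lit 0xef7bc775e) (nat_lit 1287))
 (.leaf (nat_lit 0xef7bc7ab1) (nat_lit 1029))
) (.node (nat_lit 0xef7bdffbd) (.leaf (nat_lit 0xef7bdf252) (nat_lit 1030))
 (.leaf (nat_lit 0xef7bdffbd) (nat_lit 1031))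
)) (.node (nat_lit 0xef7bfc75e) (.node (nat_lit 0xef7be4fbd) (.leaf (nat_lit 0xef7be4252) (nat_lit 1544))
 (.leaf (nat_lit 0xef7be4fbd) (nat_lit 1028))
) (.node (nat_lit 0xef7bfcab1) (.leaf (nat_lit 0xef7bfc75e) (nat_lit 1027))
 (.node (nat_lit 0xefdf9c5cf) (.leaf (nat_lit 0xef7bfcab1) (nat_lit 1288))
 (.leaf (nat_lit 0xefdf9c5cf) (nat_lit 1031))
)))) (.node (nat_lit 0xefdfa4bf7) (.node (nat_lit 0xefdf9fbf7) (.node (nat_lit 0xefdf9f489) (.leaf (nat_lit 0xefdf9cab1) (nat_lit 770))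
 (.leaf (nat_lit 0xefdf9f489) (nat_lit 1287))
) (.node (nat_lit 0xefdfa4489) (.leaf (nat_lit 0xefdf9fbf7) (nat_lit 769))
 (.leaf (nat_lit 0xefdfa4489) (nat_lit 1282))
)) (.node (nat_lit 0xefdfa7ab1) (.node (nat_lit 0xefdfa75cf) (.leaf (nat_lit 0xefdfa4bf7) (nat_lit 1288))
 (.leaf (nat_lit 0xefdfa75cf) (nat_lit 1288))
) (.node (nat_lit 0xefef5c3d7) (.leaf (nat_lit 0xefdfa7ab1) (nat_lit 1032))
 (.node (nat_lit 0xefef5cc6a) (.leaf (nat_lit 0xefef5c3d7) (nat_lit 1031))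
 (.leaf (nat_lit 0xefef5cc6a) (nat_lit 769))
))))) (.node (nat_lit 0xf0841ce7a) (.node (nat_lit 0xefef673d7) (.node (nat_lit 0xefef64252) (.node (nat_lit 0xefef5fdef) (.leaf (nat_lit 0xefef5f252) (nat_lit 1287))
 (.leaf (nat_lit 0xefef5fdef) (nat_lit 770))
) (.node (nat_lit 0xefef64def) (.leaf (nat_lit 0xefef64252) (nat_lit 1281))
 (.leaf (nat_lit 0xefef64def) (nat_lit 1288))
)) (.node (nat_lit 0xf0840454e) (.node (nat_lit 0xefef67c6a) (.leaf (nat_lit 0xefef673d7) (nat_lit 1288))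
 (.leaf (nat_lit 0xefef67c6a) (nat_lit 1032))
) (.node (nat_lit 0xf0840475e) (.leaf (nat_lit 0xf0840454e) (nat_lit 1544))
 (.node (nat_lit 0xf0841cc6a) (.leaf (nat_lit 0xf0840475e) (nat_lit 1539))
 (.leaf (nat_lit 0xf0841cc6a) (nat_lit 1544))
)))) (.node (nat_lit 0xf0843875e) (.node (nat_lit 0xf08420e7a) (.node (nat_lit 0xf08420c6a) (.leaf (nat_lit 0xf0841ce7a) (nat_lit 1284))
 (.leaf (nat_lit 0xf08420c6a) (nat_lit 1286))
) (.node (nat_lit 0xf0843854e) (.leaf (nat_lit 0xf08420e7a) (nat_lit 1287))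
 (.leaf (nat_lit 0xf0843854e) (nat_lit 1541))
)) (.node (nat_lit 0xf0e54479d) (.node (nat_lit 0xf0e544408) (.leaf (nat_lit 0xf0843875e) (nat_lit 1538))
 (.leaf (nat_lit 0xf0e544408) (nat_lit 1282))
) (.node (nat_lit 0xf0e55fdef) (.leaf (nat_lit 0xf0e54479d) (nat_lit 1541))
 (.node (nat_lit 0xf0e55fe7a) (.leaf (nat_lit 0xf0e55fdef) (nat_lit 1032))
 (.leaf (nat_lit 0xf0e55fe7a) (nat_lit 1288))
)))))) (.node (nat_lit 0xf153b8210) (.node (nat_lit 0xf10220eb9) (.node (nat_lit 0xf10204395) (.node (nat_lit 0xf0e578408) (.node (nat_lit 0xf0e563e7a) (.leaf (nat_lit 0xf0e563def) (nat_lit 773))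
 (.leaf (nat_lit 0xf0e563e7a) (nat_lit 1031))
) (.node (nat_lit 0xf0e57879d) (.leaf (nat_lit 0xf0e578408) (nat_lit 1539))
 (.leaf (nat_lit 0xf0e57879d) (nat_lit 1281))
)) (.node (nat_lit 0xf1021cab1) (.node (nat_lit 0xf1020479d) (.leaf (nat_lit 0xf10204395) (nat_lit 1544))
 (.leaf (nat_lit 0xf1020479d) (nat_lit 1539))
) (.node (nat_lit 0xf1021ceb9) (.leaf (nat_lit 0xf1021cab1) (nat_lit 1544))
 (.node (nat_lit 0xf10220ab1) (.leaf (nat_lit 0xf1021ceb9) (nat_lit 1284))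
 (.leaf (nat_lit 0xf10220ab1) (nat_lit 1286))
)))) (.node (nat_lit 0xf1538475e) (.node (nat_lit 0xf1023879d) (.node (nat_lit 0xf10238395) (.leaf (nat_lit 0xf10220eb9) (nat_lit 1287))
 (.leaf (nat_lit 0xf10238395) (nat_lit 1541))
) (.node (nat_lit 0xf15384210) (.leaf (nat_lit 0xf1023879d) (nat_lit 1537))
 (.leaf (nat_lit 0xf15384210) (nat_lit 1281))
)) (.node (nat_lit 0xf1539feb9) (.node (nat_lit 0xf1539fbf7) (.leaf (nat_lit 0xf1538475e) (nat_lit 1541))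
 (.leaf (nat_lit 0xf1539fbf7) (nat_lit 1032))
) (.node (nat_lit 0xf153a3bf7) (.leaf (nat_lit 0xf1539feb9) (nat_lit 1288))
 (.node (nat_lit 0xf153a3eb9) (.leaf (nat_lit 0xf153a3bf7) (nat_lit 773))
 (.leaf (nat_lit 0xf153a3eb9) (nat_lit 1031))
))))) (.node (nat_lit 0xf1d7bbdef) (.node (nat_lit 0xf1d787ab1) (.node (nat_lit 0xf1d784210) (.node (nat_lit 0xf153b875e) (.leaf (nat_lit 0xf153b8210) (nat_lit 1539))
 (.leaf (nat_lit 0xf153b875e) (nat_lit 1282))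
) (.node (nat_lit 0xf1d78454e) (.leaf (nat_lit 0xf1d784210) (nat_lit 1281))
 (.leaf (nat_lit 0xf1d78454e) (nat_lit 1540))
)) (.node (nat_lit 0xf1d7b8210) (.node (nat_lit 0xf1d787def) (.leaf (nat_lit 0xf1d787ab1) (nat_lit 1030))
 (.leaf (nat_lit 0xf1d787def) (nat_lit 1032))
) (.node (nat_lit 0xf1d7b854e) (.leaf (nat_lit 0xf1d7b8210) (nat_lit 1542))
 (.node (nat_lit 0xf1d7bbab1) (.leaf (nat_lit 0xf1d7b854e) (nat_lit 1543))
 (.leaf (nat_lit 0xf1d7bbab1) (nat_lit 1287))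
)))) (.node (nat_lit 0xf1e747c6a) (.node (nat_lit 0xf1e744408) (.node (nat_lit 0xf1e744395) (.leaf (nat_lit 0xf1d7bbdef) (nat_lit 1028))
 (.leaf (nat_lit 0xf1e744395) (nat_lit 1540))
) (.node (nat_lit 0xf1e747bf7) (.leaf (nat_lit 0xf1e744408) (nat_lit 1282))
 (.leaf (nat_lit 0xf1e747bf7) (nat_lit 1032))
)) (.node (nat_lit 0xf1e778408) (.node (nat_lit 0xf1e778395) (.leaf (nat_lit 0xf1e747c6a) (nat_lit 1030))
 (.leaf (nat_lit 0xf1e778395) (nat_lit 1543))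
) (.node (nat_lit 0xf1e77bbf7) (.leaf (nat_lit 0xf1e778408) (nat_lit 1542))
 (.node (nat_lit 0xf1e77bc6a) (.leaf (nat_lit 0xf1e77bbf7) (nat_lit 1028))
 (.leaf (nat_lit 0xf1e77bc6a) (nat_lit 1287))
)))))))) (.node (nat_lit 0xfd73c4252) (.node (nat_lit 0xf39ea0210) (.node (nat_lit 0xf31a9c210) (.node (nat_lit 0xf2fdc7c6a) (.node (nat_lit 0xf2ac60408) (.node (nat_lit 0xf2ac5c408) (.node (nat_lit 0xf2ac47def) (.leaf (nat_lit 0xf2ac4775e) (nat_lit 1288))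
 (.leaf (nat_lit 0xf2ac47def) (nat_lit 1029))
) (.node (nat_lit 0xf2ac5ceb9) (.leaf (nat_lit 0xf2ac5c408) (nat_lit 1283))
 (.leaf (nat_lit 0xf2ac5ceb9) (nat_lit 1544))
)) (.node (nat_lit 0xf2ac7b75e) (.node (nat_lit 0xf2ac60eb9) (.leaf (nat_lit 0xf2ac60408) (nat_lit 1543))
 (.leaf (nat_lit 0xf2ac60eb9) (nat_lit 1285))
) (.node (nat_lit 0xf2ac7bdef) (.leaf (nat_lit 0xf2ac7b75e) (nat_lit 1027))
 (.node (nat_lit 0xf2fdc779d) (.leaf (nat_lit 0xf2ac7bdef) (nat_lit 1287))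
 (.leaf (nat_lit 0xf2fdc779d) (nat_lit 769))
)))) (.node (nat_lit 0xf2fde3eb9) (.node (nat_lit 0xf2fddfeb9) (.node (nat_lit 0xf2fddf54e) (.leaf (nat_lit 0xf2fdc7c6a) (nat_lit 1288))
 (.leaf (nat_lit 0xf2fddf54e) (nat_lit 1288))
) (.node (nat_lit 0xf2fde354e) (.leaf (nat_lit 0xf2fddfeb9) (nat_lit 1032))
 (.leaf (nat_lit 0xf2fde354e) (nat_lit 1031))
)) (.node (nat_lit 0xf2fdfbc6a) (.node (nat_lit 0xf2fdfb79d) (.leaf (nat_lit 0xf2fde3eb9) (nat_lit 513))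
 (.leaf (nat_lit 0xf2fdfb79d) (nat_lit 1287))
) (.node (nat_lit 0xf31a8779d) (.leaf (nat_lit 0xf2fdfbc6a) (nat_lit 1026))
 (.node (nat_lit 0xf31a87bf7) (.leaf (nat_lit 0xf31a8779d) (nat_lit 1288))
 (.leaf (nat_lit 0xf31a87bf7) (nat_lit 1029))
))))) (.node (nat_lit 0xf37bdfe7a) (.node (nat_lit 0xf31abb79d) (.node (nat_lit 0xf31aa0210) (.node (nat_lit 0xf31a9ce7a) (.leaf (nat_lit 0xf31a9c210) (nat_lit 1283))
 (.leaf (nat_lit 0xf31a9ce7a) (nat_lit 1544))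
) (.node (nat_lit 0xf31aa0e7a) (.leaf (nat_lit 0xf31aa0210) (nat_lit 1543))
 (.leaf (nat_lit 0xf31aa0e7a) (nat_lit 1285))
)) (.node (nat_lit 0xf37bc775e) (.node (nat_lit 0xf31abbbf7) (.leaf (nat_lit 0xf31abb79d) (nat_lit 1027))
 (.leaf (nat_lit 0xf31abbbf7) (nat_lit 1287))
) (.node (nat_lit 0xf37bc7ab1) (.leaf (nat_lit 0xf37bc775e) (nat_lit 770))
 (.node (nat_lit 0xf37bdf395) (.leaf (nat_lit 0xf37bc7ab1) (nat_lit 1288))
 (.leaf (nat_lit 0xf37bdf395) (nat_lit 1288))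
)))) (.node (nat_lit 0xf37bfbab1) (.node (nat_lit 0xf37be3e7a) (.node (nat_lit 0xf37be3395) (.leaf (nat_lit 0xf37bdfe7a) (nat_lit 1032))
 (.leaf (nat_lit 0xf37be3395) (nat_lit 1031))
) (.node (nat_lit 0xf37bfb75e) (.leaf (nat_lit 0xf37be3e7a) (nat_lit 514))
 (.leaf (nat_lit 0xf37bfb75e) (nat_lit 1287))
)) (.node (nat_lit 0xf39e9cc6a) (.node (nat_lit 0xf39e9c210) (.leaf (nat_lit 0xf37bfbab1) (nat_lit 1025))
 (.leaf (nat_lit 0xf39e9c210) (nat_lit 1544))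
) (.node (nat_lit 0xf39e9f395) (.leaf (nat_lit 0xf39e9cc6a) (nat_lit 1281))
 (.node (nat_lit 0xf39e9fdef) (.leaf (nat_lit 0xf39e9f395) (nat_lit 1032))
 (.leaf (nat_lit 0xf39e9fdef) (nat_lit 1288))
)))))) (.node (nat_lit 0xfc94bb5cf) (.node (nat_lit 0xf3ae60ab1) (.node (nat_lit 0xf3ae5c408) (.node (nat_lit 0xf39ea3395) (.node (nat_lit 0xf39ea0c6a) (.leaf (nat_lit 0xf39ea0210) (nat_lit 1026))
 (.leaf (nat_lit 0xf39ea0c6a) (nat_lit 1543))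
) (.node (nat_lit 0xf39ea3def) (.leaf (nat_lit 0xf39ea3395) (nat_lit 774))
 (.leaf (nat_lit 0xf39ea3def) (nat_lit 775))
)) (.node (nat_lit 0xf3ae5f54e) (.node (nat_lit 0xf3ae5cab1) (.leaf (nat_lit 0xf3ae5c408) (nat_lit 1544))
 (.leaf (nat_lit 0xf3ae5cab1) (nat_lit 1282))
) (.node (nat_lit 0xf3ae5fbf7) (.leaf (nat_lit 0xf3ae5f54e) (nat_lit 1032))
 (.node (nat_lit 0xf3ae60408) (.leaf (nat_lit 0xf3ae5fbf7) (nat_lit 1288))
 (.leaf (nat_lit 0xf3ae60408) (nat_lit 1025))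
)))) (.node (nat_lit 0xfc948479d) (.node (nat_lit 0xf3ae63bf7) (.node (nat_lit 0xf3ae6354e) (.leaf (nat_lit 0xf3ae60ab1) (nat_lit 1543))
 (.leaf (nat_lit 0xf3ae6354e) (nat_lit 774))
) (.node (nat_lit 0xfc94845cf) (.leaf (nat_lit 0xf3ae63bf7) (nat_lit 775))
 (.leaf (nat_lit 0xfc94845cf) (nat_lit 1539))
)) (.node (nat_lit 0xfc949feb9) (.node (nat_lit 0xfc949fceb) (.leaf (nat_lit 0xfc948479d) (nat_lit 1544))
 (.leaf (nat_lit 0xfc949fceb) (nat_lit 1285))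
) (.node (nat_lit 0xfc94a0ceb) (.leaf (nat_lit 0xfc949feb9) (nat_lit 1544))
 (.node (nat_lit 0xfc94a0eb9) (.leaf (nat_lit 0xfc94a0ceb) (nat_lit 1543))
 (.leaf (nat_lit 0xfc94a0eb9) (nat_lit 1539))
))))) (.node (nat_lit 0xfcf5fb75e) (.node (nat_lit 0xfcf5dcd6e) (.node (nat_lit 0xfcf5c4489) (.node (nat_lit 0xfc94bb79d) (.leaf (nat_lit 0xfc94bb5cf) (nat_lit 1543))
 (.leaf (nat_lit 0xfc94bb79d) (nat_lit 1285))
) (.node (nat_lit 0xfcf5c475e) (.leaf (nat_lit 0xfcf5c4489) (nat_lit 1538))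
 (.leaf (nat_lit 0xfcf5c475e) (nat_lit 1284))
)) (.node (nat_lit 0xfcf5e3d6e) (.node (nat_lit 0xfcf5dceb9) (.leaf (nat_lit 0xfcf5dcd6e) (nat_lit 1288))
 (.leaf (nat_lit 0xfcf5dceb9) (nat_lit 771))
) (.node (nat_lit 0xfcf5e3eb9) (.leaf (nat_lit 0xfcf5e3d6e) (nat_lit 1030))
 (.node (nat_lit 0xfcf5fb489) (.leaf (nat_lit 0xfcf5e3eb9) (nat_lit 1031))
 (.leaf (nat_lit 0xfcf5fb489) (nat_lit 1286))
)))) (.node (nat_lit 0xfd225fe7a) (.node (nat_lit 0xfd224475e) (.node (nat_lit 0xfd22443d7) (.leaf (nat_lit 0xfcf5fb75e) (nat_lit 1287))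
 (.leaf (nat_lit 0xfd22443d7) (nat_lit 1539))
) (.node (nat_lit 0xfd225faf3) (.leaf (nat_lit 0xfd224475e) (nat_lit 1544))
 (.leaf (nat_lit 0xfd225faf3) (nat_lit 1285))
)) (.node (nat_lit 0xfd2260e7a) (.node (nat_lit 0xfd2260af3) (.leaf (nat_lit 0xfd225fe7a) (nat_lit 1544))
 (.leaf (nat_lit 0xfd2260af3) (nat_lit 1543))
) (.node (nat_lit 0xfd227b3d7) (.leaf (nat_lit 0xfd2260e7a) (nat_lit 1539))
 (.node (nat_lit 0xfd227b75e) (.leaf (nat_lit 0xfd227b3d7) (nat_lit 1543))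
 (.leaf (nat_lit 0xfd227b75e) (nat_lit 1285))
))))))) (.node (nat_lit 0xfeed635cf) (.node (nat_lit 0xfde747af3) (.node (nat_lit 0xfdd784489) (.node (nat_lit 0xfd73e3bb5) (.node (nat_lit 0xfd73dcbb5) (.node (nat_lit 0xfd73c479d) (.leaf (nat_lit 0xfd73c4252) (nat_lit 1537))
 (.leaf (nat_lit 0xfd73c479d) (nat_lit 1284))
) (.node (nat_lit 0xfd73dce7a) (.leaf (nat_lit 0xfd73dcbb5) (nat_lit 1288))
 (.leaf (nat_lit 0xfd73dce7a) (nat_lit 771))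
)) (.node (nat_lit 0xfd73fb252) (.node (nat_lit 0xfd73e3e7a) (.leaf (nat_lit 0xfd73e3bb5) (nat_lit 1030))
 (.leaf (nat_lit 0xfd73e3e7a) (nat_lit 1031))
) (.node (nat_lit 0xfd73fb79d) (.leaf (nat_lit 0xfd73fb252) (nat_lit 1286))
 (.node (nat_lit 0xfdd7843d7) (.leaf (nat_lit 0xfd73fb79d) (nat_lit 1287))
 (.leaf (nat_lit 0xfdd7843d7) (nat_lit 1544))
)))) (.node (nat_lit 0xfdd7b8ceb) (.node (nat_lit 0xfdd787ceb) (.node (nat_lit 0xfdd787bb5) (.leaf (nat_lit 0xfdd784489) (nat_lit 1282))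
 (.leaf (nat_lit 0xfdd787bb5) (nat_lit 1032))
) (.node (nat_lit 0xfdd7b8bb5) (.leaf (nat_lit 0xfdd787ceb) (nat_lit 1032))
 (.leaf (nat_lit 0xfdd7b8bb5) (nat_lit 774))
)) (.node (nat_lit 0xfdd7bb489) (.node (nat_lit 0xfdd7bb3d7) (.leaf (nat_lit 0xfdd7b8ceb) (nat_lit 775))
 (.leaf (nat_lit 0xfdd7bb3d7) (nat_lit 1025))
) (.node (nat_lit 0xfde744252) (.leaf (nat_lit 0xfdd7bb489) (nat_lit 1543))
 (.node (nat_lit 0xfde7445cf) (.leaf (nat_lit 0xfde744252) (nat_lit 1281))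
 (.leaf (nat_lit 0xfde7445cf) (nat_lit 1544))
))))) (.node (nat_lit 0xfebcdfe7a) (.node (nat_lit 0xfde77b252) (.node (nat_lit 0xfde778af3) (.node (nat_lit 0xfde747d6e) (.leaf (nat_lit 0xfde747af3) (nat_lit 1032))
 (.leaf (nat_lit 0xfde747d6e) (nat_lit 1032))
) (.node (nat_lit 0xfde778d6e) (.leaf (nat_lit 0xfde778af3) (nat_lit 775))
 (.leaf (nat_lit 0xfde778d6e) (nat_lit 774))
)) (.node (nat_lit 0xfebcc779d) (.node (nat_lit 0xfde77b5cf) (.leaf (nat_lit 0xfde77b252) (nat_lit 1543))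
 (.leaf (nat_lit 0xfde77b5cf) (nat_lit 1026))
) (.node (nat_lit 0xfebcc7d6e) (.leaf (nat_lit 0xfebcc779d) (nat_lit 776))
 (.node (nat_lit 0xfebcdf489) (.leaf (nat_lit 0xfebcc7d6e) (nat_lit 1288))
 (.leaf (nat_lit 0xfebcdf489) (nat_lit 1544))
)))) (.node (nat_lit 0xfebcf8d6e) (.node (nat_lit 0xfebce0e7a) (.node (nat_lit 0xfebce0489) (.leaf (nat_lit 0xfebcdfe7a) (nat_lit 1026))
 (.leaf (nat_lit 0xfebce0489) (nat_lit 1281))
) (.node (nat_lit 0xfebcf879d) (.leaf (nat_lit 0xfebce0e7a) (nat_lit 1543))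
 (.leaf (nat_lit 0xfebcf879d) (nat_lit 515))
)) (.node (nat_lit 0xfeed47ceb) (.node (nat_lit 0xfeed4775e) (.leaf (nat_lit 0xfebcf8d6e) (nat_lit 1031))
 (.leaf (nat_lit 0xfeed4775e) (nat_lit 1288))
) (.node (nat_lit 0xfeed5c5cf) (.leaf (nat_lit 0xfeed47ceb) (nat_lit 1032))
 (.node (nat_lit 0xfeed5ce7a) (.leaf (nat_lit 0xfeed5c5cf) (nat_lit 1026))
 (.leaf (nat_lit 0xfeed5ce7a) (nat_lit 1288))
)))))) (.node (nat_lit 0xff5bb879d) (.node (nat_lit 0xff3ae0eb9) (.node (nat_lit 0xff3ac775e) (.node (nat_lit 0xfeed7875e) (.node (nat_lit 0xfeed63e7a) (.leaf (nat_lit 0xfeed635cf) (nat_lit 1287))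
 (.leaf (nat_lit 0xfeed63e7a) (nat_lit 1025))
) (.node (nat_lit 0xfeed78ceb) (.leaf (nat_lit 0xfeed7875e) (nat_lit 1031))
 (.leaf (nat_lit 0xfeed78ceb) (nat_lit 773))
)) (.node (nat_lit 0xff3adf252) (.node (nat_lit 0xff3ac7bb5) (.leaf (nat_lit 0xff3ac775e) (nat_lit 776))
 (.leaf (nat_lit 0xff3ac7bb5) (nat_lit 1288))
) (.node (nat_lit 0xff3adfeb9) (.leaf (nat_lit 0xff3adf252) (nat_lit 1544))
 (.node (nat_lit 0xff3ae0252) (.leaf (nat_lit 0xff3adfeb9) (nat_lit 1025))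
 (.leaf (nat_lit 0xff3ae0252) (nat_lit 1282))
)))) (.node (nat_lit 0xff5b87af3) (.node (nat_lit 0xff3af8bb5) (.node (nat_lit 0xff3af875e) (.leaf (nat_lit 0xff3ae0eb9) (nat_lit 1543))
 (.leaf (nat_lit 0xff3af875e) (nat_lit 515))
) (.node (nat_lit 0xff5b8779d) (.leaf (nat_lit 0xff3af8bb5) (nat_lit 1031))
 (.leaf (nat_lit 0xff5b8779d) (nat_lit 1288))
)) (.node (nat_lit 0xff5b9ceb9) (.node (nat_lit 0xff5b9c3d7) (.leaf (nat_lit 0xff5b87af3) (nat_lit 1032))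
 (.leaf (nat_lit 0xff5b9c3d7) (nat_lit 1025))
) (.node (nat_lit 0xff5ba33d7) (.leaf (nat_lit 0xff5b9ceb9) (nat_lit 1288))
 (.node (nat_lit 0xff5ba3eb9) (.leaf (nat_lit 0xff5ba33d7) (nat_lit 1287))
 (.leaf (nat_lit 0xff5ba3eb9) (nat_lit 1026))
))))) (.node (nat_lit 0xff9ea3bb5) (.node (nat_lit 0xff9e9f489) (.node (nat_lit 0xff9e9c5cf) (.node (nat_lit 0xff5bb8af3) (.leaf (nat_lit 0xff5bb879d) (nat_lit 1031))
 (.leaf (nat_lit 0xff5bb8af3) (nat_lit 773))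
) (.node (nat_lit 0xff9e9cbb5) (.leaf (nat_lit 0xff9e9c5cf) (nat_lit 1032))
 (.leaf (nat_lit 0xff9e9cbb5) (nat_lit 1030))
)) (.node (nat_lit 0xff9ea0489) (.node (nat_lit 0xff9e9faf3) (.leaf (nat_lit 0xff9e9f489) (nat_lit 1286))
 (.leaf (nat_lit 0xff9e9faf3) (nat_lit 1288))
) (.node (nat_lit 0xff9ea0af3) (.leaf (nat_lit 0xff9ea0489) (nat_lit 1537))
 (.node (nat_lit 0xff9ea35cf) (.leaf (nat_lit 0xff9ea0af3) (nat_lit 1284))
 (.leaf (nat_lit 0xff9ea35cf) (nat_lit 771))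
)))) (.node (nat_lit 0xffae5fceb) (.node (nat_lit 0xffae5cd6e) (.node (nat_lit 0xffae5c3d7) (.leaf (nat_lit 0xff9ea3bb5) (nat_lit 1287))
 (.leaf (nat_lit 0xffae5c3d7) (nat_lit 1032))
) (.node (nat_lit 0xffae5f252) (.leaf (nat_lit 0xffae5cd6e) (nat_lit 1030))
 (.leaf (nat_lit 0xffae5f252) (nat_lit 1286))
)) (.node (nat_lit 0xffae60ceb) (.node (nat_lit 0xffae60252) (.leaf (nat_lit 0xffae5fceb) (nat_lit 1288))
 (.leaf (nat_lit 0xffae60252) (nat_lit 1538))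
) (.node (nat_lit 0xffae633d7) (.leaf (nat_lit 0xffae60ceb) (nat_lit 1284))
 (.node (nat_lit 0xffae63d6e) (.leaf (nat_lit 0xffae633d7) (nat_lit 771))
 (.leaf (nat_lit 0xffae63d6e) (nat_lit 1287))
)))))))))))

theorem gT6_ok : genOK B6.A [(nat_lit 0x808404042), (nat_lit 0xe2bcc779d), (nat_lit 0xe33ac775e), (nat_lit 0x910220081), (nat_lit 0x110224081), (nat_lit 0x812244408), (nat_lit 0x802044489), (nat_lit 0x802044408), (nat_lit 0x110220081)] gT6_t (nat_lit 1152) = true := by decide +kernel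

noncomputable def T7_t : ST :=
(.node (nat_lit 0x801084210) (.node (nat_lit 0x708420e7a) (.node (nat_lit 0x1c10a0af3) (.node (nat_lit 0x110220081) (.node (nat_lit 0x108420042) (.node (nat_lit 0x102060408) (.node (nat_lit 0x1010a33d7) (.leaf (nat_lit 0x1010a0210) (nat_lit 1027))
 (.leaf (nat_lit 0x1010a33d7) (nat_lit 1024))
) (.node (nat_lit 0x1020635cf) (.leaf (nat_lit 0x102060408) (nat_lit 515))
 (.leaf (nat_lit 0x1020635cf) (nat_lit 1027))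
)) (.node (nat_lit 0x10f5e3042) (.node (nat_lit 0x10843875e) (.leaf (nat_lit 0x108420042) (nat_lit 771))
 (.leaf (nat_lit 0x10843875e) (nat_lit 768))
) (.node (nat_lit 0x10f5fb75e) (.leaf (nat_lit 0x10f5e3042) (nat_lit 1024))
 (.leaf (nat_lit 0x10f5fb75e) (nat_lit 1025))
))) (.node (nat_lit 0x11d7b8210) (.node (nat_lit 0x1173e3081) (.node (nat_lit 0x11023879d) (.leaf (nat_lit 0x110220081) (nat_lit 259))
 (.leaf (nat_lit 0x11023879d) (nat_lit 1280))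
) (.node (nat_lit 0x1173fb79d) (.leaf (nat_lit 0x1173e3081) (nat_lit 1025))
 (.leaf (nat_lit 0x1173fb79d) (nat_lit 1025))
)) (.node (nat_lit 0x11e778408) (.node (nat_lit 0x11d7bb3d7) (.leaf (nat_lit 0x11d7b8210) (nat_lit 1026))
 (.leaf (nat_lit 0x11d7bb3d7) (nat_lit 1025))
) (.node (nat_lit 0x11e77b5cf) (.leaf (nat_lit 0x11e778408) (nat_lit 1027))
 (.leaf (nat_lit 0x11e77b5cf) (nat_lit 1282))
)))) (.node (nat_lit 0x1ebce0042) (.node (nat_lit 0x1dd7b8ceb) (.node (nat_lit 0x1c2060ceb) (.node (nat_lit 0x1c10a3bf7) (.leaf (nat_lit 0x1c10a0af3) (nat_lit 1025))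
 (.leaf (nat_lit 0x1c10a3bf7) (nat_lit 1026))
) (.node (nat_lit 0x1c2063def) (.leaf (nat_lit 0x1c2060ceb) (nat_lit 1025))
 (.leaf (nat_lit 0x1c2063def) (nat_lit 1281))
)) (.node (nat_lit 0x1de778af3) (.node (nat_lit 0x1dd7bbdef) (.leaf (nat_lit 0x1dd7b8ceb) (nat_lit 768))
 (.leaf (nat_lit 0x1dd7bbdef) (nat_lit 771))
) (.node (nat_lit 0x1de77bbf7) (.leaf (nat_lit 0x1de778af3) (nat_lit 771))
 (.leaf (nat_lit 0x1de77bbf7) (nat_lit 1026))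
))) (.node (nat_lit 0x1f3ae0081) (.node (nat_lit 0x1efde3042) (.node (nat_lit 0x1ebcf879d) (.leaf (nat_lit 0x1ebce0042) (nat_lit 1024))
 (.leaf (nat_lit 0x1ebcf879d) (nat_lit 515))
) (.node (nat_lit 0x1efdfb79d) (.leaf (nat_lit 0x1efde3042) (nat_lit 769))
 (.leaf (nat_lit 0x1efdfb79d) (nat_lit 768))
)) (.node (nat_lit 0x1f7be3081) (.node (nat_lit 0x1f3af875e) (.leaf (nat_lit 0x1f3ae0081) (nat_lit 1024))
 (.leaf (nat_lit 0x1f3af875e) (nat_lit 1027))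
) (.node (nat_lit 0x1f7bfb75e) (.leaf (nat_lit 0x1f7be3081) (nat_lit 1281))
 (.leaf (nat_lit 0x1f7bfb75e) (nat_lit 769))
))))) (.node (nat_lit 0x7ebce0e7a) (.node (nat_lit 0x739ea0210) (.node (nat_lit 0x710220eb9) (.node (nat_lit 0x70f5e3eb9) (.node (nat_lit 0x708438f7e) (.leaf (nat_lit 0x708420e7a) (nat_lit 769))
 (.leaf (nat_lit 0x708438f7e) (nat_lit 1281))
) (.node (nat_lit 0x70f5fbfbd) (.leaf (nat_lit 0x70f5e3eb9) (nat_lit 512))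
 (.leaf (nat_lit 0x70f5fbfbd) (nat_lit 515))
)) (.node (nat_lit 0x7173e3e7a) (.node (nat_lit 0x710238fbd) (.leaf (nat_lit 0x710220eb9) (nat_lit 1281))
 (.leaf (nat_lit 0x710238fbd) (nat_lit 1280))
) (.node (nat_lit 0x7173fbf7e) (.leaf (nat_lit 0x7173e3e7a) (nat_lit 1024))
 (.leaf (nat_lit 0x7173fbf7e) (nat_lit 1027))
))) (.node (nat_lit 0x73dfb8210) (.node (nat_lit 0x73ae60408) (.node (nat_lit 0x739ea35cf) (.leaf (nat_lit 0x739ea0210) (nat_lit 1026))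
 (.leaf (nat_lit 0x739ea35cf) (nat_lit 771))
) (.node (nat_lit 0x73ae633d7) (.leaf (nat_lit 0x73ae60408) (nat_lit 1024))
 (.leaf (nat_lit 0x73ae633d7) (nat_lit 770))
)) (.node (nat_lit 0x73ef78408) (.node (nat_lit 0x73dfbb5cf) (.leaf (nat_lit 0x73dfb8210) (nat_lit 1025))
 (.leaf (nat_lit 0x73dfbb5cf) (nat_lit 1025))
) (.node (nat_lit 0x73ef7b3d7) (.leaf (nat_lit 0x73ef78408) (nat_lit 1283))
 (.leaf (nat_lit 0x73ef7b3d7) (nat_lit 771))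
)))) (.node (nat_lit 0x7f9ea0af3) (.node (nat_lit 0x7f3ae0eb9) (.node (nat_lit 0x7efde3eb9) (.node (nat_lit 0x7ebcf8fbd) (.leaf (nat_lit 0x7ebce0e7a) (nat_lit 1025))
 (.leaf (nat_lit 0x7ebcf8fbd) (nat_lit 513))
) (.node (nat_lit 0x7efdfbf7e) (.leaf (nat_lit 0x7efde3eb9) (nat_lit 771))
 (.leaf (nat_lit 0x7efdfbf7e) (nat_lit 1280))
)) (.node (nat_lit 0x7f7be3e7a) (.node (nat_lit 0x7f3af8f7e) (.leaf (nat_lit 0x7f3ae0eb9) (nat_lit 1024))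
 (.leaf (nat_lit 0x7f3af8f7e) (nat_lit 1025))
) (.node (nat_lit 0x7f7bfbfbd) (.leaf (nat_lit 0x7f7be3e7a) (nat_lit 771))
 (.leaf (nat_lit 0x7f7bfbfbd) (nat_lit 768))
))) (.node (nat_lit 0x7fdfb8ceb) (.node (nat_lit 0x7fae60ceb) (.node (nat_lit 0x7f9ea3def) (.leaf (nat_lit 0x7f9ea0af3) (nat_lit 1027))
 (.leaf (nat_lit 0x7f9ea3def) (nat_lit 769))
) (.node (nat_lit 0x7fae63bf7) (.leaf (nat_lit 0x7fae60ceb) (nat_lit 1281))
 (.leaf (nat_lit 0x7fae63bf7) (nat_lit 1027))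
)) (.node (nat_lit 0x7fef78af3) (.node (nat_lit 0x7fdfbbbf7) (.leaf (nat_lit 0x7fdfb8ceb) (nat_lit 1027))
 (.leaf (nat_lit 0x7fdfbbbf7) (nat_lit 1027))
) (.node (nat_lit 0x7fef7bdef) (.leaf (nat_lit 0x7fef78af3) (nat_lit 770))
 (.leaf (nat_lit 0x7fef7bdef) (nat_lit 1026))
)))))) (.node (nat_lit 0xe0840475e) (.node (nat_lit 0x8c10843d7) (.node (nat_lit 0x82bcc7042) (.node (nat_lit 0x808404042) (.node (nat_lit 0x802044408) (.node (nat_lit 0x801087af3) (.leaf (nat_lit 0x801084210) (nat_lit 770))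
 (.leaf (nat_lit 0x801087af3) (nat_lit 1024))
) (.node (nat_lit 0x802047ceb) (.leaf (nat_lit 0x802044408) (nat_lit 258))
 (.leaf (nat_lit 0x802047ceb) (nat_lit 1024))
)) (.node (nat_lit 0x810204081) (.node (nat_lit 0x80841ce7a) (.leaf (nat_lit 0x808404042) (nat_lit 512))
 (.leaf (nat_lit 0x80841ce7a) (nat_lit 1027))
) (.node (nat_lit 0x81021ceb9) (.leaf (nat_lit 0x810204081) (nat_lit 0))
 (.leaf (nat_lit 0x81021ceb9) (nat_lit 1282))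
))) (.node (nat_lit 0x839e9c210) (.node (nat_lit 0x833ac7081) (.node (nat_lit 0x82bcdfe7a) (.leaf (nat_lit 0x82bcc7042) (nat_lit 1282))
 (.leaf (nat_lit 0x82bcdfe7a) (nat_lit 1026))
) (.node (nat_lit 0x833adfeb9) (.leaf (nat_lit 0x833ac7081) (nat_lit 1283))
 (.leaf (nat_lit 0x833adfeb9) (nat_lit 1283))
)) (.node (nat_lit 0x83ae5c408) (.node (nat_lit 0x839e9faf3) (.leaf (nat_lit 0x839e9c210) (nat_lit 1025))
 (.leaf (nat_lit 0x839e9faf3) (nat_lit 769))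
) (.node (nat_lit 0x83ae5fceb) (.leaf (nat_lit 0x83ae5c408) (nat_lit 1024))
 (.leaf (nat_lit 0x83ae5fceb) (nat_lit 1281))
)))) (.node (nat_lit 0x8efdc7042) (.node (nat_lit 0x8cf5c4042) (.node (nat_lit 0x8c20445cf) (.node (nat_lit 0x8c1087bf7) (.leaf (nat_lit 0x8c10843d7) (nat_lit 1281))
 (.leaf (nat_lit 0x8c1087bf7) (nat_lit 1025))
) (.node (nat_lit 0x8c2047def) (.leaf (nat_lit 0x8c20445cf) (nat_lit 769))
 (.leaf (nat_lit 0x8c2047def) (nat_lit 1024))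
)) (.node (nat_lit 0x8d73c4081) (.node (nat_lit 0x8cf5dceb9) (.leaf (nat_lit 0x8cf5c4042) (nat_lit 1283))
 (.leaf (nat_lit 0x8cf5dceb9) (nat_lit 771))
) (.node (nat_lit 0x8d73dce7a) (.leaf (nat_lit 0x8d73c4081) (nat_lit 1026))
 (.leaf (nat_lit 0x8d73dce7a) (nat_lit 770))
))) (.node (nat_lit 0x8f9e9c5cf) (.node (nat_lit 0x8f7bc7081) (.node (nat_lit 0x8efddfeb9) (.leaf (nat_lit 0x8efdc7042) (nat_lit 1027))
 (.leaf (nat_lit 0x8efddfeb9) (nat_lit 512))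
) (.node (nat_lit 0x8f7bdfe7a) (.leaf (nat_lit 0x8f7bc7081) (nat_lit 1282))
 (.leaf (nat_lit 0x8f7bdfe7a) (nat_lit 513))
)) (.node (nat_lit 0x8fae5c3d7) (.node (nat_lit 0x8f9e9fdef) (.leaf (nat_lit 0x8f9e9c5cf) (nat_lit 512))
 (.leaf (nat_lit 0x8f9e9fdef) (nat_lit 770))
) (.node (nat_lit 0x8fae5fbf7) (.leaf (nat_lit 0x8fae5c3d7) (nat_lit 1024))
 (.leaf (nat_lit 0x8fae5fbf7) (nat_lit 770))
))))) (.node (nat_lit 0xecf5c475e) (.node (nat_lit 0xe2bcc779d) (.node (nat_lit 0xe1d784210) (.node (nat_lit 0xe1020479d) (.node (nat_lit 0xe0841cf7e) (.leaf (nat_lit 0xe0840475e) (nat_lit 1027))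
 (.leaf (nat_lit 0xe0841cf7e) (nat_lit 1282))
) (.node (nat_lit 0xe1021cfbd) (.leaf (nat_lit 0xe1020479d) (nat_lit 1026))
 (.leaf (nat_lit 0xe1021cfbd) (nat_lit 1282))
)) (.node (nat_lit 0xe1e744408) (.node (nat_lit 0xe1d787ceb) (.leaf (nat_lit 0xe1d784210) (nat_lit 1280))
 (.leaf (nat_lit 0xe1d787ceb) (nat_lit 1026))
) (.node (nat_lit 0xe1e747af3) (.leaf (nat_lit 0xe1e744408) (nat_lit 768))
 (.leaf (nat_lit 0xe1e747af3) (nat_lit 514))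
))) (.node (nat_lit 0xe3df9c210) (.node (nat_lit 0xe33ac775e) (.node (nat_lit 0xe2bcdffbd) (.leaf (nat_lit 0xe2bcc779d) (nat_lit 256))
 (.leaf (nat_lit 0xe2bcdffbd) (nat_lit 771))
) (.node (nat_lit 0xe33adff7e) (.leaf (nat_lit 0xe33ac775e) (nat_lit 768))
 (.leaf (nat_lit 0xe33adff7e) (nat_lit 1026))
)) (.node (nat_lit 0xe3ef5c408) (.node (nat_lit 0xe3df9fceb) (.leaf (nat_lit 0xe3df9c210) (nat_lit 1025))
 (.leaf (nat_lit 0xe3df9fceb) (nat_lit 768))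
) (.node (nat_lit 0xe3ef5faf3) (.leaf (nat_lit 0xe3ef5c408) (nat_lit 1025))
 (.leaf (nat_lit 0xe3ef5faf3) (nat_lit 769))
)))) (.node (nat_lit 0xeefdc779d) (.node (nat_lit 0xedd7843d7) (.node (nat_lit 0xed73c479d) (.node (nat_lit 0xecf5dcfbd) (.leaf (nat_lit 0xecf5c475e) (nat_lit 1283))
 (.leaf (nat_lit 0xecf5dcfbd) (nat_lit 257))
) (.node (nat_lit 0xed73dcf7e) (.leaf (nat_lit 0xed73c479d) (nat_lit 1283))
 (.leaf (nat_lit 0xed73dcf7e) (nat_lit 769))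
)) (.node (nat_lit 0xede7445cf) (.node (nat_lit 0xedd787def) (.leaf (nat_lit 0xedd7843d7) (nat_lit 1281))
 (.leaf (nat_lit 0xedd787def) (nat_lit 513))
) (.node (nat_lit 0xede747bf7) (.leaf (nat_lit 0xede7445cf) (nat_lit 1280))
 (.leaf (nat_lit 0xede747bf7) (nat_lit 1025))
))) (.node (nat_lit 0xefdf9c5cf) (.node (nat_lit 0xef7bc775e) (.node (nat_lit 0xeefddff7e) (.leaf (nat_lit 0xeefdc779d) (nat_lit 1027))
 (.leaf (nat_lit 0xeefddff7e) (nat_lit 1026))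
) (.node (nat_lit 0xef7bdffbd) (.leaf (nat_lit 0xef7bc775e) (nat_lit 770))
 (.leaf (nat_lit 0xef7bdffbd) (nat_lit 1027))
)) (.node (nat_lit 0xefef5c3d7) (.node (nat_lit 0xefdf9fbf7) (.leaf (nat_lit 0xefdf9c5cf) (nat_lit 1026))
 (.leaf (nat_lit 0xefdf9fbf7) (nat_lit 768))
) (.node (nat_lit 0xefef5fdef) (.leaf (nat_lit 0xefef5c3d7) (nat_lit 514))
 (.leaf (nat_lit 0xefef5fdef) (nat_lit 1280))
)))))))

theorem T7_ok : genOK B6.A [(nat_lit 0xe2bcc779d), (nat_lit 0xecf5dcfbd), (nat_lit 0x802044408), (nat_lit 0x110220081)] T7_t (nat_lit 128) = true := by decide +kernel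

noncomputable def T6_t : ST :=
(.node (nat_lit 0xe0840475e) (.node (nat_lit 0x8c10843d7) (.node (nat_lit 0x82bcc7042) (.node (nat_lit 0x808404042) (.node (nat_lit 0x802044408) (.node (nat_lit 0x801087af3) (.leaf (nat_lit 0x801084210) (nat_lit 770))
 (.leaf (nat_lit 0x801087af3) (nat_lit 1024))
) (.node (nat_lit 0x802047ceb) (.leaf (nat_lit 0x802044408) (nat_lit 258))
 (.leaf (nat_lit 0x802047ceb) (nat_lit 1024))
)) (.node (nat_lit 0x810204081) (.node (nat_lit 0x80841ce7a) (.leaf (nat_lit 0x808404042) (nat_lit 512))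
 (.leaf (nat_lit 0x80841ce7a) (nat_lit 1282))
) (.node (nat_lit 0x81021ceb9) (.leaf (nat_lit 0x810204081) (nat_lit 0))
 (.leaf (nat_lit 0x81021ceb9) (nat_lit 1282))
))) (.node (nat_lit 0x839e9c210) (.node (nat_lit 0x833ac7081) (.node (nat_lit 0x82bcdfe7a) (.leaf (nat_lit 0x82bcc7042) (nat_lit 1282))
 (.leaf (nat_lit 0x82bcdfe7a) (nat_lit 1026))
) (.node (nat_lit 0x833adfeb9) (.leaf (nat_lit 0x833ac7081) (nat_lit 1282))
 (.leaf (nat_lit 0x833adfeb9) (nat_lit 1538))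
)) (.node (nat_lit 0x83ae5c408) (.node (nat_lit 0x839e9faf3) (.leaf (nat_lit 0x839e9c210) (nat_lit 1025))
 (.leaf (nat_lit 0x839e9faf3) (nat_lit 769))
) (.node (nat_lit 0x83ae5fceb) (.leaf (nat_lit 0x83ae5c408) (nat_lit 1024))
 (.leaf (nat_lit 0x83ae5fceb) (nat_lit 1281))
)))) (.node (nat_lit 0x8efdc7042) (.node (nat_lit 0x8cf5c4042) (.node (nat_lit 0x8c20445cf) (.node (nat_lit 0x8c1087bf7) (.leaf (nat_lit 0x8c10843d7) (nat_lit 1281))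
 (.leaf (nat_lit 0x8c1087bf7) (nat_lit 1025))
) (.node (nat_lit 0x8c2047def) (.leaf (nat_lit 0x8c20445cf) (nat_lit 769))
 (.leaf (nat_lit 0x8c2047def) (nat_lit 1024))
)) (.node (nat_lit 0x8d73c4081) (.node (nat_lit 0x8cf5dceb9) (.leaf (nat_lit 0x8cf5c4042) (nat_lit 1538))
 (.leaf (nat_lit 0x8cf5dceb9) (nat_lit 1282))
) (.node (nat_lit 0x8d73dce7a) (.leaf (nat_lit 0x8d73c4081) (nat_lit 1026))
 (.leaf (nat_lit 0x8d73dce7a) (nat_lit 770))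
))) (.node (nat_lit 0x8f9e9c5cf) (.node (nat_lit 0x8f7bc7081) (.node (nat_lit 0x8efddfeb9) (.leaf (nat_lit 0x8efdc7042) (nat_lit 1282))
 (.leaf (nat_lit 0x8efddfeb9) (nat_lit 512))
) (.node (nat_lit 0x8f7bdfe7a) (.leaf (nat_lit 0x8f7bc7081) (nat_lit 1282))
 (.leaf (nat_lit 0x8f7bdfe7a) (nat_lit 513))
)) (.node (nat_lit 0x8fae5c3d7) (.node (nat_lit 0x8f9e9fdef) (.leaf (nat_lit 0x8f9e9c5cf) (nat_lit 512))
 (.leaf (nat_lit 0x8f9e9fdef) (nat_lit 770))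
) (.node (nat_lit 0x8fae5fbf7) (.leaf (nat_lit 0x8fae5c3d7) (nat_lit 1024))
 (.leaf (nat_lit 0x8fae5fbf7) (nat_lit 770))
))))) (.node (nat_lit 0xecf5c475e) (.node (nat_lit 0xe2bcc779d) (.node (nat_lit 0xe1d784210) (.node (nat_lit 0xe1020479d) (.node (nat_lit 0xe0841cf7e) (.leaf (nat_lit 0xe0840475e) (nat_lit 1538))
 (.leaf (nat_lit 0xe0841cf7e) (nat_lit 1282))
) (.node (nat_lit 0xe1021cfbd) (.leaf (nat_lit 0xe1020479d) (nat_lit 1026))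
 (.leaf (nat_lit 0xe1021cfbd) (nat_lit 1282))
)) (.node (nat_lit 0xe1e744408) (.node (nat_lit 0xe1d787ceb) (.leaf (nat_lit 0xe1d784210) (nat_lit 1280))
 (.leaf (nat_lit 0xe1d787ceb) (nat_lit 1026))
) (.node (nat_lit 0xe1e747af3) (.leaf (nat_lit 0xe1e744408) (nat_lit 768))
 (.leaf (nat_lit 0xe1e747af3) (nat_lit 514))
))) (.node (nat_lit 0xe3df9c210) (.node (nat_lit 0xe33ac775e) (.node (nat_lit 0xe2bcdffbd) (.leaf (nat_lit 0xe2bcc779d) (nat_lit 256))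
 (.leaf (nat_lit 0xe2bcdffbd) (nat_lit 1026))
) (.node (nat_lit 0xe33adff7e) (.leaf (nat_lit 0xe33ac775e) (nat_lit 768))
 (.leaf (nat_lit 0xe33adff7e) (nat_lit 1026))
)) (.node (nat_lit 0xe3ef5c408) (.node (nat_lit 0xe3df9fceb) (.leaf (nat_lit 0xe3df9c210) (nat_lit 1025))
 (.leaf (nat_lit 0xe3df9fceb) (nat_lit 768))
) (.node (nat_lit 0xe3ef5faf3) (.leaf (nat_lit 0xe3ef5c408) (nat_lit 1025))
 (.leaf (nat_lit 0xe3ef5faf3) (nat_lit 769))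
)))) (.node (nat_lit 0xeefdc779d) (.node (nat_lit 0xedd7843d7) (.node (nat_lit 0xed73c479d) (.node (nat_lit 0xecf5dcfbd) (.leaf (nat_lit 0xecf5c475e) (nat_lit 1538))
 (.leaf (nat_lit 0xecf5dcfbd) (nat_lit 257))
) (.node (nat_lit 0xed73dcf7e) (.leaf (nat_lit 0xed73c479d) (nat_lit 1538))
 (.leaf (nat_lit 0xed73dcf7e) (nat_lit 769))
)) (.node (nat_lit 0xede7445cf) (.node (nat_lit 0xedd787def) (.leaf (nat_lit 0xedd7843d7) (nat_lit 1281))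
 (.leaf (nat_lit 0xedd787def) (nat_lit 513))
) (.node (nat_lit 0xede747bf7) (.leaf (nat_lit 0xede7445cf) (nat_lit 1280))
 (.leaf (nat_lit 0xede747bf7) (nat_lit 1025))
))) (.node (nat_lit 0xefdf9c5cf) (.node (nat_lit 0xef7bc775e) (.node (nat_lit 0xeefddff7e) (.leaf (nat_lit 0xeefdc779d) (nat_lit 1282))
 (.leaf (nat_lit 0xeefddff7e) (nat_lit 1026))
) (.node (nat_lit 0xef7bdffbd) (.leaf (nat_lit 0xef7bc775e) (nat_lit 770))
 (.leaf (nat_lit 0xef7bdffbd) (nat_lit 1538))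
)) (.node (nat_lit 0xefef5c3d7) (.node (nat_lit 0xefdf9fbf7) (.leaf (nat_lit 0xefdf9c5cf) (nat_lit 1026))
 (.leaf (nat_lit 0xefdf9fbf7) (nat_lit 768))
) (.node (nat_lit 0xefef5fdef) (.leaf (nat_lit 0xefef5c3d7) (nat_lit 514))
 (.leaf (nat_lit 0xefef5fdef) (nat_lit 1280))
))))))

theorem T6_ok : genOK B6.A [(nat_lit 0xe2bcc779d), (nat_lit 0xecf5dcfbd), (nat_lit 0x802044408)] T6_t (nat_lit 64) = true := by decide +kernel

noncomputable def Z6_t : ST :=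
(.node (nat_lit 0x801084210) (.node (nat_lit 0x708438f7e) (.node (nat_lit 0x1c10a3bf7) (.node (nat_lit 0x110220081) (.node (nat_lit 0x108420042) (.node (nat_lit 0x102060408) (.leaf (nat_lit 0x1010a0210) (nat_lit 1027))
 (.leaf (nat_lit 0x102060408) (nat_lit 515))
) (.node (nat_lit 0x10f5fb75e) (.leaf (nat_lit 0x108420042) (nat_lit 771))
 (.leaf (nat_lit 0x10f5fb75e) (nat_lit 514))
)) (.node (nat_lit 0x11d7bb3d7) (.node (nat_lit 0x1173fb79d) (.leaf (nat_lit 0x110220081) (nat_lit 259))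
 (.leaf (nat_lit 0x1173fb79d) (nat_lit 1026))
) (.node (nat_lit 0x11e77b5cf) (.leaf (nat_lit 0x11d7bb3d7) (nat_lit 770))
 (.leaf (nat_lit 0x11e77b5cf) (nat_lit 1282))
))) (.node (nat_lit 0x1ebcf879d) (.node (nat_lit 0x1dd7b8ceb) (.node (nat_lit 0x1c2063def) (.leaf (nat_lit 0x1c10a3bf7) (nat_lit 1027))
 (.leaf (nat_lit 0x1c2063def) (nat_lit 1026))
) (.node (nat_lit 0x1de778af3) (.leaf (nat_lit 0x1dd7b8ceb) (nat_lit 768))
 (.leaf (nat_lit 0x1de778af3) (nat_lit 771))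
)) (.node (nat_lit 0x1f3af875e) (.node (nat_lit 0x1efde3042) (.leaf (nat_lit 0x1ebcf879d) (nat_lit 515))
 (.leaf (nat_lit 0x1efde3042) (nat_lit 768))
) (.node (nat_lit 0x1f7be3081) (.leaf (nat_lit 0x1f3af875e) (nat_lit 1027))
 (.leaf (nat_lit 0x1f7be3081) (nat_lit 770))
)))) (.node (nat_lit 0x7ebce0e7a) (.node (nat_lit 0x739ea35cf) (.node (nat_lit 0x710238fbd) (.node (nat_lit 0x70f5e3eb9) (.leaf (nat_lit 0x708438f7e) (nat_lit 771))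
 (.leaf (nat_lit 0x70f5e3eb9) (nat_lit 512))
) (.node (nat_lit 0x7173e3e7a) (.leaf (nat_lit 0x710238fbd) (nat_lit 771))
 (.leaf (nat_lit 0x7173e3e7a) (nat_lit 1024))
)) (.node (nat_lit 0x73dfb8210) (.node (nat_lit 0x73ae633d7) (.leaf (nat_lit 0x739ea35cf) (nat_lit 771))
 (.leaf (nat_lit 0x73ae633d7) (nat_lit 769))
) (.node (nat_lit 0x73ef78408) (.leaf (nat_lit 0x73dfb8210) (nat_lit 1027))
 (.leaf (nat_lit 0x73ef78408) (nat_lit 1026))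
))) (.node (nat_lit 0x7f9ea0af3) (.node (nat_lit 0x7f3ae0eb9) (.node (nat_lit 0x7efdfbf7e) (.leaf (nat_lit 0x7ebce0e7a) (nat_lit 515))
 (.leaf (nat_lit 0x7efdfbf7e) (nat_lit 770))
) (.node (nat_lit 0x7f7bfbfbd) (.leaf (nat_lit 0x7f3ae0eb9) (nat_lit 1027))
 (.leaf (nat_lit 0x7f7bfbfbd) (nat_lit 768))
)) (.node (nat_lit 0x7fdfbbbf7) (.node (nat_lit 0x7fae60ceb) (.leaf (nat_lit 0x7f9ea0af3) (nat_lit 771))
 (.leaf (nat_lit 0x7fae60ceb) (nat_lit 1283))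
) (.node (nat_lit 0x7fef7bdef) (.leaf (nat_lit 0x7fdfbbbf7) (nat_lit 1027))
 (.leaf (nat_lit 0x7fef7bdef) (nat_lit 1025))
))))) (.node (nat_lit 0xe0841cf7e) (.node (nat_lit 0x8c1087bf7) (.node (nat_lit 0x82bcdfe7a) (.node (nat_lit 0x808404042) (.node (nat_lit 0x802044408) (.leaf (nat_lit 0x801084210) (nat_lit 769))
 (.leaf (nat_lit 0x802044408) (nat_lit 257))
) (.node (nat_lit 0x810204081) (.leaf (nat_lit 0x808404042) (nat_lit 512))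
 (.leaf (nat_lit 0x810204081) (nat_lit 0))
)) (.node (nat_lit 0x839e9faf3) (.node (nat_lit 0x833adfeb9) (.leaf (nat_lit 0x82bcdfe7a) (nat_lit 258))
 (.leaf (nat_lit 0x833adfeb9) (nat_lit 770))
) (.node (nat_lit 0x83ae5fceb) (.leaf (nat_lit 0x839e9faf3) (nat_lit 514))
 (.leaf (nat_lit 0x83ae5fceb) (nat_lit 1026))
))) (.node (nat_lit 0x8efdc7042) (.node (nat_lit 0x8cf5dceb9) (.node (nat_lit 0x8c2047def) (.leaf (nat_lit 0x8c1087bf7) (nat_lit 770))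
 (.leaf (nat_lit 0x8c2047def) (nat_lit 768))
) (.node (nat_lit 0x8d73dce7a) (.leaf (nat_lit 0x8cf5dceb9) (nat_lit 771))
 (.leaf (nat_lit 0x8d73dce7a) (nat_lit 769))
)) (.node (nat_lit 0x8f9e9c5cf) (.node (nat_lit 0x8f7bc7081) (.leaf (nat_lit 0x8efdc7042) (nat_lit 1026))
 (.leaf (nat_lit 0x8f7bc7081) (nat_lit 1027))
) (.node (nat_lit 0x8fae5c3d7) (.leaf (nat_lit 0x8f9e9c5cf) (nat_lit 512))
 (.leaf (nat_lit 0x8fae5c3d7) (nat_lit 1024))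
)))) (.node (nat_lit 0xecf5c475e) (.node (nat_lit 0xe2bcc779d) (.node (nat_lit 0xe1d787ceb) (.node (nat_lit 0xe1021cfbd) (.leaf (nat_lit 0xe0841cf7e) (nat_lit 514))
 (.leaf (nat_lit 0xe1021cfbd) (nat_lit 512))
) (.node (nat_lit 0xe1e747af3) (.leaf (nat_lit 0xe1d787ceb) (nat_lit 1025))
 (.leaf (nat_lit 0xe1e747af3) (nat_lit 513))
)) (.node (nat_lit 0xe3df9c210) (.node (nat_lit 0xe33ac775e) (.leaf (nat_lit 0xe2bcc779d) (nat_lit 256))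
 (.leaf (nat_lit 0xe33ac775e) (nat_lit 768))
) (.node (nat_lit 0xe3ef5c408) (.leaf (nat_lit 0xe3df9c210) (nat_lit 770))
 (.leaf (nat_lit 0xe3ef5c408) (nat_lit 769))
))) (.node (nat_lit 0xeefddff7e) (.node (nat_lit 0xedd7843d7) (.node (nat_lit 0xed73c479d) (.leaf (nat_lit 0xecf5c475e) (nat_lit 771))
 (.leaf (nat_lit 0xed73c479d) (nat_lit 1283))
) (.node (nat_lit 0xede7445cf) (.leaf (nat_lit 0xedd7843d7) (nat_lit 1026))
 (.leaf (nat_lit 0xede7445cf) (nat_lit 1024))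
)) (.node (nat_lit 0xefdf9fbf7) (.node (nat_lit 0xef7bdffbd) (.leaf (nat_lit 0xeefddff7e) (nat_lit 1025))
 (.leaf (nat_lit 0xef7bdffbd) (nat_lit 1027))
) (.node (nat_lit 0xefef5fdef) (.leaf (nat_lit 0xefdf9fbf7) (nat_lit 768))
 (.leaf (nat_lit 0xefef5fdef) (nat_lit 1280))
))))))

theorem Z6_ok : genOK B6.A [(nat_lit 0xe2bcc779d), (nat_lit 0x802044408), (nat_lit 0x82bcdfe7a), (nat_lit 0x110220081)] Z6_t (nat_lit 64) = true := by decide +kernel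

noncomputable def Qe_t : ST :=
(.node (nat_lit 0xe2bcdffbd) (.node (nat_lit 0x8cf5dceb9) (.node (nat_lit 0x810204081) (.leaf (nat_lit 0x808404042) (nat_lit 512))
 (.leaf (nat_lit 0x810204081) (nat_lit 0))
) (.node (nat_lit 0x8d73dce7a) (.leaf (nat_lit 0x8cf5dceb9) (nat_lit 768))
 (.leaf (nat_lit 0x8d73dce7a) (nat_lit 256))
)) (.node (nat_lit 0xeefdc779d) (.node (nat_lit 0xe33adff7e) (.leaf (nat_lit 0xe2bcdffbd) (nat_lit 513))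
 (.leaf (nat_lit 0xe33adff7e) (nat_lit 512))
) (.node (nat_lit 0xef7bc775e) (.leaf (nat_lit 0xeefdc779d) (nat_lit 769))
 (.leaf (nat_lit 0xef7bc775e) (nat_lit 257))
)))

theorem Qe_ok : genOK B6.A [(nat_lit 0x8d73dce7a), (nat_lit 0xef7bc775e)] Qe_t (nat_lit 8) = true := by decide +kernel

noncomputable def P4_t : ST :=
(.node (nat_lit 0x808404042) (.node (nat_lit 0x73dfbb5cf) (.node (nat_lit 0x1dd7b8ceb) (.node (nat_lit 0x102060408) (.leaf (nat_lit 0x1010a0210) (nat_lit 770))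
 (.leaf (nat_lit 0x102060408) (nat_lit 258))
) (.node (nat_lit 0x1de778af3) (.leaf (nat_lit 0x1dd7b8ceb) (nat_lit 512))
 (.leaf (nat_lit 0x1de778af3) (nat_lit 514))
)) (.node (nat_lit 0x7f9ea3def) (.node (nat_lit 0x73ef7b3d7) (.leaf (nat_lit 0x73dfbb5cf) (nat_lit 769))
 (.leaf (nat_lit 0x73ef7b3d7) (nat_lit 514))
) (.node (nat_lit 0x7fae63bf7) (.leaf (nat_lit 0x7f9ea3def) (nat_lit 513))
 (.leaf (nat_lit 0x7fae63bf7) (nat_lit 770))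
))) (.node (nat_lit 0xe2bcc779d) (.node (nat_lit 0x8efddfeb9) (.node (nat_lit 0x810204081) (.leaf (nat_lit 0x808404042) (nat_lit 512))
 (.leaf (nat_lit 0x810204081) (nat_lit 0))
) (.node (nat_lit 0x8f7bdfe7a) (.leaf (nat_lit 0x8efddfeb9) (nat_lit 512))
 (.leaf (nat_lit 0x8f7bdfe7a) (nat_lit 513))
)) (.node (nat_lit 0xecf5dcfbd) (.node (nat_lit 0xe33ac775e) (.leaf (nat_lit 0xe2bcc779d) (nat_lit 256))
 (.leaf (nat_lit 0xe33ac775e) (nat_lit 768))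
) (.node (nat_lit 0xed73dcf7e) (.leaf (nat_lit 0xecf5dcfbd) (nat_lit 257))
 (.leaf (nat_lit 0xed73dcf7e) (nat_lit 769))
))))

theorem P4_ok : genOK B6.A [(nat_lit 0xe2bcc779d), (nat_lit 0xecf5dcfbd), (nat_lit 0x102060408)] P4_t (nat_lit 16) = true := by decide +kernel

noncomputable def DW_t : ST :=
(.node (nat_lit 0x901084210) (.node (nat_lit 0x7ce563e7a) (.node (nat_lit 0x1eed7875e) (.node (nat_lit 0x110224081) (.node (nat_lit 0x108420252) (.node (nat_lit 0x102060408) (.node (nat_lit 0x1010a4252) (.leaf (nat_lit 0x1010a0210) (nat_lit 771))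
 (.leaf (nat_lit 0x1010a4252) (nat_lit 1538))
) (.node (nat_lit 0x102064489) (.leaf (nat_lit 0x102060408) (nat_lit 259))
 (.leaf (nat_lit 0x102064489) (nat_lit 1025))
)) (.node (nat_lit 0x1094a0042) (.node (nat_lit 0x108424042) (.leaf (nat_lit 0x108420252) (nat_lit 1027))
 (.leaf (nat_lit 0x108424042) (nat_lit 1026))
) (.node (nat_lit 0x1094a4210) (.leaf (nat_lit 0x1094a0042) (nat_lit 1024))
 (.node (nat_lit 0x110220489) (.leaf (nat_lit 0x1094a4210) (nat_lit 1282))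
 (.leaf (nat_lit 0x110220489) (nat_lit 515))
)))) (.node (nat_lit 0x1dd7bfbb5) (.node (nat_lit 0x112264408) (.node (nat_lit 0x112260081) (.leaf (nat_lit 0x110224081) (nat_lit 513))
 (.leaf (nat_lit 0x112260081) (nat_lit 512))
) (.node (nat_lit 0x1dd7b8ceb) (.leaf (nat_lit 0x112264408) (nat_lit 769))
 (.leaf (nat_lit 0x1dd7b8ceb) (nat_lit 514))
)) (.node (nat_lit 0x1de77fd6e) (.node (nat_lit 0x1de778af3) (.leaf (nat_lit 0x1dd7bfbb5) (nat_lit 1283))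
 (.leaf (nat_lit 0x1de778af3) (nat_lit 515))
) (.node (nat_lit 0x1ebcf8d6e) (.leaf (nat_lit 0x1de77fd6e) (nat_lit 1282))
 (.node (nat_lit 0x1ebcff79d) (.leaf (nat_lit 0x1ebcf8d6e) (nat_lit 771))
 (.leaf (nat_lit 0x1ebcff79d) (nat_lit 769))
))))) (.node (nat_lit 0x7173fbab1) (.node (nat_lit 0x1f5bb879d) (.node (nat_lit 0x1f3af8bb5) (.node (nat_lit 0x1eed7fceb) (.leaf (nat_lit 0x1eed7875e) (nat_lit 768))
 (.leaf (nat_lit 0x1eed7fceb) (nat_lit 1282))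
) (.node (nat_lit 0x1f3aff75e) (.leaf (nat_lit 0x1f3af8bb5) (nat_lit 1024))
 (.leaf (nat_lit 0x1f3aff75e) (nat_lit 1027))
)) (.node (nat_lit 0x70f5e7fbd) (.node (nat_lit 0x1f5bbfaf3) (.leaf (nat_lit 0x1f5bb879d) (nat_lit 768))
 (.leaf (nat_lit 0x1f5bbfaf3) (nat_lit 1025))
) (.node (nat_lit 0x70f5fbc6a) (.leaf (nat_lit 0x70f5e7fbd) (nat_lit 770))
 (.node (nat_lit 0x7173e7f7e) (.leaf (nat_lit 0x70f5fbc6a) (nat_lit 771))
 (.leaf (nat_lit 0x7173e7f7e) (nat_lit 1027))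
)))) (.node (nat_lit 0x731abbfbd) (.node (nat_lit 0x72ac7bf7e) (.node (nat_lit 0x72ac675cf) (.leaf (nat_lit 0x7173fbab1) (nat_lit 770))
 (.leaf (nat_lit 0x72ac675cf) (nat_lit 1283))
) (.node (nat_lit 0x731aa73d7) (.leaf (nat_lit 0x72ac7bf7e) (nat_lit 1026))
 (.leaf (nat_lit 0x731aa73d7) (nat_lit 1025))
)) (.node (nat_lit 0x73dfbb5cf) (.node (nat_lit 0x73dfa7ab1) (.leaf (nat_lit 0x731abbfbd) (nat_lit 1027))
 (.leaf (nat_lit 0x73dfa7ab1) (nat_lit 1283))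
) (.node (nat_lit 0x73ef67c6a) (.leaf (nat_lit 0x73dfbb5cf) (nat_lit 1024))
 (.node (nat_lit 0x73ef7b3d7) (.leaf (nat_lit 0x73ef67c6a) (nat_lit 1281))
 (.leaf (nat_lit 0x73ef7b3d7) (nat_lit 1024))
)))))) (.node (nat_lit 0x809484210) (.node (nat_lit 0x7f9ebc395) (.node (nat_lit 0x7efde354e) (.node (nat_lit 0x7d53a3eb9) (.node (nat_lit 0x7ce57cdef) (.leaf (nat_lit 0x7ce563e7a) (nat_lit 770))
 (.leaf (nat_lit 0x7ce57cdef) (nat_lit 1283))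
) (.node (nat_lit 0x7d53bcbf7) (.leaf (nat_lit 0x7d53a3eb9) (nat_lit 1027))
 (.leaf (nat_lit 0x7d53bcbf7) (nat_lit 1026))
)) (.node (nat_lit 0x7f7be3395) (.node (nat_lit 0x7efdfceb9) (.leaf (nat_lit 0x7efde354e) (nat_lit 1026))
 (.leaf (nat_lit 0x7efdfceb9) (nat_lit 769))
) (.node (nat_lit 0x7f7bfce7a) (.leaf (nat_lit 0x7f7be3395) (nat_lit 1027))
 (.node (nat_lit 0x7f9ea3def) (.leaf (nat_lit 0x7f7bfce7a) (nat_lit 1026))
 (.leaf (nat_lit 0x7f9ea3def) (nat_lit 1025))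
)))) (.node (nat_lit 0x8010a4210) (.node (nat_lit 0x7fae7c54e) (.node (nat_lit 0x7fae63bf7) (.leaf (nat_lit 0x7f9ebc395) (nat_lit 1283))
 (.leaf (nat_lit 0x7fae63bf7) (nat_lit 1025))
) (.node (nat_lit 0x801084252) (.leaf (nat_lit 0x7fae7c54e) (nat_lit 1281))
 (.leaf (nat_lit 0x801084252) (nat_lit 1026))
)) (.node (nat_lit 0x802064408) (.node (nat_lit 0x802044489) (.leaf (nat_lit 0x8010a4210) (nat_lit 1027))
 (.leaf (nat_lit 0x802044489) (nat_lit 512))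
) (.node (nat_lit 0x808404042) (.leaf (nat_lit 0x802064408) (nat_lit 515))
 (.node (nat_lit 0x808424252) (.leaf (nat_lit 0x808404042) (nat_lit 514))
 (.leaf (nat_lit 0x808424252) (nat_lit 1283))
))))) (.node (nat_lit 0x8d53bceb9) (.node (nat_lit 0x812244408) (.node (nat_lit 0x810204081) (.node (nat_lit 0x8094a4042) (.leaf (nat_lit 0x809484210) (nat_lit 770))
 (.leaf (nat_lit 0x8094a4042) (nat_lit 1280))
) (.node (nat_lit 0x810224489) (.leaf (nat_lit 0x810204081) (nat_lit 0))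
 (.leaf (nat_lit 0x810224489) (nat_lit 771))
)) (.node (nat_lit 0x8ce55fdef) (.node (nat_lit 0x812264081) (.leaf (nat_lit 0x812244408) (nat_lit 256))
 (.leaf (nat_lit 0x812264081) (nat_lit 768))
) (.node (nat_lit 0x8ce57ce7a) (.leaf (nat_lit 0x8ce55fdef) (nat_lit 770))
 (.node (nat_lit 0x8d539fbf7) (.leaf (nat_lit 0x8ce57ce7a) (nat_lit 1024))
 (.leaf (nat_lit 0x8d539fbf7) (nat_lit 1280))
)))) (.node (nat_lit 0x8f7bfc395) (.node (nat_lit 0x8efdfc54e) (.node (nat_lit 0x8efddfeb9) (.leaf (nat_lit 0x8d53bceb9) (nat_lit 1024))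
 (.leaf (nat_lit 0x8efddfeb9) (nat_lit 1024))
) (.node (nat_lit 0x8f7bdfe7a) (.leaf (nat_lit 0x8efdfc54e) (nat_lit 1027))
 (.leaf (nat_lit 0x8f7bdfe7a) (nat_lit 1283))
)) (.node (nat_lit 0x8f9ebcdef) (.node (nat_lit 0x8f9e9f395) (.leaf (nat_lit 0x8f7bfc395) (nat_lit 1282))
 (.leaf (nat_lit 0x8f9e9f395) (nat_lit 1024))
) (.node (nat_lit 0x8fae5f54e) (.leaf (nat_lit 0x8f9ebcdef) (nat_lit 770))
 (.node (nat_lit 0x8fae7cbf7) (.leaf (nat_lit 0x8fae5f54e) (nat_lit 770))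
 (.leaf (nat_lit 0x8fae7cbf7) (nat_lit 771))
))))))) (.node (nat_lit 0xecf5dcfbd) (.node (nat_lit 0x9f1a9cfbd) (.node (nat_lit 0x910220081) (.node (nat_lit 0x908404252) (.node (nat_lit 0x902044408) (.node (nat_lit 0x9010a0252) (.leaf (nat_lit 0x901084210) (nat_lit 1025))
 (.leaf (nat_lit 0x9010a0252) (nat_lit 1282))
) (.node (nat_lit 0x902060489) (.leaf (nat_lit 0x902044408) (nat_lit 513))
 (.leaf (nat_lit 0x902060489) (nat_lit 769))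
)) (.node (nat_lit 0x909484042) (.node (nat_lit 0x908420042) (.leaf (nat_lit 0x908404252) (nat_lit 1281))
 (.leaf (nat_lit 0x908420042) (nat_lit 770))
) (.node (nat_lit 0x9094a0210) (.leaf (nat_lit 0x909484042) (nat_lit 1281))
 (.node (nat_lit 0x910204489) (.leaf (nat_lit 0x9094a0210) (nat_lit 1026))
 (.leaf (nat_lit 0x910204489) (nat_lit 769))
)))) (.node (nat_lit 0x9cf5fbfbd) (.node (nat_lit 0x912260408) (.node (nat_lit 0x912244081) (.leaf (nat_lit 0x910220081) (nat_lit 257))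
 (.leaf (nat_lit 0x912244081) (nat_lit 769))
) (.node (nat_lit 0x9cf5dcc6a) (.leaf (nat_lit 0x912260408) (nat_lit 513))
 (.leaf (nat_lit 0x9cf5dcc6a) (nat_lit 1025))
)) (.node (nat_lit 0x9d73fbf7e) (.node (nat_lit 0x9d73dcab1) (.leaf (nat_lit 0x9cf5fbfbd) (nat_lit 770))
 (.leaf (nat_lit 0x9d73dcab1) (nat_lit 1025))
) (.node (nat_lit 0x9eac5cf7e) (.leaf (nat_lit 0x9d73fbf7e) (nat_lit 1282))
 (.node (nat_lit 0x9eac7b5cf) (.leaf (nat_lit 0x9eac5cf7e) (nat_lit 1024))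
 (.leaf (nat_lit 0x9eac7b5cf) (nat_lit 1026))
))))) (.node (nat_lit 0xe1e77faf3) (.node (nat_lit 0x9fef5c3d7) (.node (nat_lit 0x9fdf9c5cf) (.node (nat_lit 0x9f1abb3d7) (.leaf (nat_lit 0x9f1a9cfbd) (nat_lit 1281))
 (.leaf (nat_lit 0x9f1abb3d7) (nat_lit 769))
) (.node (nat_lit 0x9fdfbbab1) (.leaf (nat_lit 0x9fdf9c5cf) (nat_lit 770))
 (.leaf (nat_lit 0x9fdfbbab1) (nat_lit 1280))
)) (.node (nat_lit 0xe1d787bb5) (.node (nat_lit 0x9fef7bc6a) (.leaf (nat_lit 0x9fef5c3d7) (nat_lit 1027))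
 (.leaf (nat_lit 0x9fef7bc6a) (nat_lit 1026))
) (.node (nat_lit 0xe1d7bfceb) (.leaf (nat_lit 0xe1d787bb5) (nat_lit 1026))
 (.node (nat_lit 0xe1e747d6e) (.leaf (nat_lit 0xe1d7bfceb) (nat_lit 1025))
 (.leaf (nat_lit 0xe1e747d6e) (nat_lit 768))
)))) (.node (nat_lit 0xe2ed7f75e) (.node (nat_lit 0xe2bcffd6e) (.node (nat_lit 0xe2bcc779d) (.leaf (nat_lit 0xe1e77faf3) (nat_lit 771))
 (.leaf (nat_lit 0xe2bcc779d) (nat_lit 258))
) (.node (nat_lit 0xe2ed47ceb) (.leaf (nat_lit 0xe2bcffd6e) (nat_lit 1027))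
 (.leaf (nat_lit 0xe2ed47ceb) (nat_lit 1026))
)) (.node (nat_lit 0xe33affbb5) (.node (nat_lit 0xe33ac775e) (.leaf (nat_lit 0xe2ed7f75e) (nat_lit 1282))
 (.leaf (nat_lit 0xe33ac775e) (nat_lit 770))
) (.node (nat_lit 0xe35b87af3) (.leaf (nat_lit 0xe33affbb5) (nat_lit 1026))
 (.node (nat_lit 0xe35bbf79d) (.leaf (nat_lit 0xe35b87af3) (nat_lit 512))
 (.leaf (nat_lit 0xe35bbf79d) (nat_lit 1024))
)))))) (.node (nat_lit 0xf37bdf395) (.node (nat_lit 0xefdfa75cf) (.node (nat_lit 0xeeac5c5cf) (.node (nat_lit 0xed73dcf7e) (.node (nat_lit 0xecf5e7c6a) (.leaf (nat_lit 0xecf5dcfbd) (nat_lit 1024))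
 (.leaf (nat_lit 0xecf5e7c6a) (nat_lit 1027))
) (.node (nat_lit 0xed73e7ab1) (.leaf (nat_lit 0xed73dcf7e) (nat_lit 1282))
 (.leaf (nat_lit 0xed73e7ab1) (nat_lit 1281))
)) (.node (nat_lit 0xef1a9c3d7) (.node (nat_lit 0xeeac67f7e) (.leaf (nat_lit 0xeeac5c5cf) (nat_lit 1026))
 (.leaf (nat_lit 0xeeac67f7e) (nat_lit 1026))
) (.node (nat_lit 0xef1aa7fbd) (.leaf (nat_lit 0xef1a9c3d7) (nat_lit 514))
 (.node (nat_lit 0xefdf9cab1) (.leaf (nat_lit 0xef1aa7fbd) (nat_lit 1283))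
 (.leaf (nat_lit 0xefdf9cab1) (nat_lit 1282))
)))) (.node (nat_lit 0xf0e563def) (.node (nat_lit 0xefef673d7) (.node (nat_lit 0xefef5cc6a) (.leaf (nat_lit 0xefdfa75cf) (nat_lit 1026))
 (.leaf (nat_lit 0xefef5cc6a) (nat_lit 768))
) (.node (nat_lit 0xf0e55fe7a) (.leaf (nat_lit 0xefef673d7) (nat_lit 1027))
 (.leaf (nat_lit 0xf0e55fe7a) (nat_lit 1025))
)) (.node (nat_lit 0xf153a3bf7) (.node (nat_lit 0xf1539feb9) (.leaf (nat_lit 0xf0e563def) (nat_lit 1025))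
 (.leaf (nat_lit 0xf1539feb9) (nat_lit 1281))
) (.node (nat_lit 0xf2fddf54e) (.leaf (nat_lit 0xf153a3bf7) (nat_lit 768))
 (.node (nat_lit 0xf2fde3eb9) (.leaf (nat_lit 0xf2fddf54e) (nat_lit 1283))
 (.leaf (nat_lit 0xf2fde3eb9) (nat_lit 514))
))))) (.node (nat_lit 0xfde778d6e) (.node (nat_lit 0xf3ae5fbf7) (.node (nat_lit 0xf39e9fdef) (.node (nat_lit 0xf37be3e7a) (.leaf (nat_lit 0xf37bdf395) (nat_lit 1026))
 (.leaf (nat_lit 0xf37be3e7a) (nat_lit 1026))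
) (.node (nat_lit 0xf39ea3395) (.leaf (nat_lit 0xf39e9fdef) (nat_lit 1026))
 (.leaf (nat_lit 0xf39ea3395) (nat_lit 1282))
)) (.node (nat_lit 0xfdd787ceb) (.node (nat_lit 0xf3ae6354e) (.leaf (nat_lit 0xf3ae5fbf7) (nat_lit 1027))
 (.leaf (nat_lit 0xf3ae6354e) (nat_lit 1025))
) (.node (nat_lit 0xfdd7b8bb5) (.leaf (nat_lit 0xfdd787ceb) (nat_lit 769))
 (.node (nat_lit 0xfde747af3) (.leaf (nat_lit 0xfdd7b8bb5) (nat_lit 1281))
 (.leaf (nat_lit 0xfde747af3) (nat_lit 769))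
)))) (.node (nat_lit 0xfeed78ceb) (.node (nat_lit 0xfebcf879d) (.node (nat_lit 0xfebcc7d6e) (.leaf (nat_lit 0xfde778d6e) (nat_lit 1024))
 (.leaf (nat_lit 0xfebcc7d6e) (nat_lit 1025))
) (.node (nat_lit 0xfeed4775e) (.leaf (nat_lit 0xfebcf879d) (nat_lit 513))
 (.leaf (nat_lit 0xfeed4775e) (nat_lit 1026))
)) (.node (nat_lit 0xff3af875e) (.node (nat_lit 0xff3ac7bb5) (.leaf (nat_lit 0xfeed78ceb) (nat_lit 1282))
 (.leaf (nat_lit 0xff3ac7bb5) (nat_lit 1282))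
) (.node (nat_lit 0xff5b8779d) (.leaf (nat_lit 0xff3af875e) (nat_lit 1026))
 (.node (nat_lit 0xff5bb8af3) (.leaf (nat_lit 0xff5b8779d) (nat_lit 1025))
 (.leaf (nat_lit 0xff5bb8af3) (nat_lit 770))
))))))))

theorem DW_ok : genOK B6.A [(nat_lit 0x812244408), (nat_lit 0x910220081), (nat_lit 0xe2bcc779d), (nat_lit 0x102060408)] DW_t (nat_lit 144) = true := by decide +kernel

noncomputable def Ved_t : ST :=
(.node (nat_lit 0x80706040503010200) (.node (nat_lit 0x70806050403020100) (.leaf (nat_lit 0x70806040503010200) (nat_lit 513))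
 (.leaf (nat_lit 0x70806050403020100) (nat_lit 257))
) (.node (nat_lit 0x80706050403020100) (.leaf (nat_lit 0x80706040503010200) (nat_lit 256))
 (.leaf (nat_lit 0x80706050403020100) (nat_lit 0))
))

theorem Ved_ok : genOK A9 [(nat_lit 0x80706040503010200), (nat_lit 0x70806050403020100)] Ved_t (nat_lit 4) = true := by decide +kernel

end Cfsg.Agent.T16
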