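import Mathlib
import Cfsg.Agent.T16.SpData

/-! Generated by tools/rec: the centraliser of order 648 in Sp6(2) -/

set_option autoImplicit false
set_option maxRecDepth 100000
set_option linter.unusedVariables false
set_option exponentiation.threshold 100000

namespace Cfsg.Agent.T16.Sp6

open Cfsg.Agent.Spor Cfsg.Agent.Rec

universe u

def wZ : List (List ℕ) :=
  [[4, 5, 2, 3, 4, 1, 2, 6, 3, 2, 1, 4, 3, 2, 5, 4]]

theorem wZ_ok : beqL (wZ.map (evC B6.A cS)) [(nat_lit 0x70f5e7fbd)] = true := by decide +kernel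

noncomputable def Ca_t : ST :=
(.node (nat_lit 0x9010a0252) (.node (nat_lit 0x481110264) (.node (nat_lit 0x212101424) (.node (nat_lit 0x102224481) (.node (nat_lit 0x81912260) (.node (nat_lit 0x52809404) (.node (nat_lit 0x44489910) (.node (nat_lit 0x429094a0) (.node (nat_lit 0x42809484) (.leaf (nat_lit 0x421094a4) (nat_lit 1539))
 (.leaf (nat_lit 0x42809484) (nat_lit 1283))
) (.node (nat_lit 0x44089912) (.leaf (nat_lit 0x429094a0) (nat_lit 1027))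
 (.node (nat_lit 0x44409902) (.leaf (nat_lit 0x44089912) (nat_lit 1539))
 (.leaf (nat_lit 0x44409902) (nat_lit 2051))
))) (.node (nat_lit 0x50809084) (.node (nat_lit 0x501090a4) (.leaf (nat_lit 0x44489910) (nat_lit 1795))
 (.leaf (nat_lit 0x501090a4) (nat_lit 2051))
) (.node (nat_lit 0x509090a0) (.leaf (nat_lit 0x50809084) (nat_lit 1795))
 (.node (nat_lit 0x52109424) (.leaf (nat_lit 0x509090a0) (nat_lit 1539))
 (.leaf (nat_lit 0x52109424) (nat_lit 1795))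
)))) (.node (nat_lit 0x64089812) (.node (nat_lit 0x60089112) (.node (nat_lit 0x52909420) (.leaf (nat_lit 0x52809404) (nat_lit 1539))
 (.leaf (nat_lit 0x52909420) (nat_lit 1283))
) (.node (nat_lit 0x60409102) (.leaf (nat_lit 0x60089112) (nat_lit 2051))
 (.node (nat_lit 0x60489110) (.leaf (nat_lit 0x60409102) (nat_lit 1795))
 (.leaf (nat_lit 0x60489110) (nat_lit 1539))
))) (.node (nat_lit 0x64489810) (.node (nat_lit 0x64409802) (.leaf (nat_lit 0x64089812) (nat_lit 1795))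
 (.leaf (nat_lit 0x64409802) (nat_lit 2307))
) (.node (nat_lit 0x81112264) (.leaf (nat_lit 0x64489810) (nat_lit 2051))
 (.node (nat_lit 0x81812244) (.leaf (nat_lit 0x81112264) (nat_lit 1539))
 (.leaf (nat_lit 0x81812244) (nat_lit 2051))
))))) (.node (nat_lit 0xa0052109) (.node (nat_lit 0x88812044) (.node (nat_lit 0x84212901) (.node (nat_lit 0x84052909) (.leaf (nat_lit 0x81912260) (nat_lit 1795))
 (.leaf (nat_lit 0x84052909) (nat_lit 1539))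
) (.node (nat_lit 0x84252908) (.leaf (nat_lit 0x84212901) (nat_lit 2051))
 (.node (nat_lit 0x88112064) (.leaf (nat_lit 0x84252908) (nat_lit 1795))
 (.leaf (nat_lit 0x88112064) (nat_lit 2051))
))) (.node (nat_lit 0x89112224) (.node (nat_lit 0x88912060) (.leaf (nat_lit 0x88812044) (nat_lit 1795))
 (.leaf (nat_lit 0x88912060) (nat_lit 2307))
) (.node (nat_lit 0x89812204) (.leaf (nat_lit 0x89112224) (nat_lit 1795))
 (.node (nat_lit 0x89912220) (.leaf (nat_lit 0x89812204) (nat_lit 1539))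
 (.leaf (nat_lit 0x89912220) (nat_lit 2051))
)))) (.node (nat_lit 0xa4252808) (.node (nat_lit 0xa0252108) (.node (nat_lit 0xa0212101) (.leaf (nat_lit 0xa0052109) (nat_lit 1283))
 (.leaf (nat_lit 0xa0212101) (nat_lit 1795))
) (.node (nat_lit 0xa4052809) (.leaf (nat_lit 0xa0252108) (nat_lit 1539))
 (.node (nat_lit 0xa4212801) (.leaf (nat_lit 0xa4052809) (nat_lit 1027))
 (.leaf (nat_lit 0xa4212801) (nat_lit 1539))
))) (.node (nat_lit 0x101424242) (.node (nat_lit 0x1010a4252) (.leaf (nat_lit 0xa4252808) (nat_lit 1283))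
 (.leaf (nat_lit 0x1010a4252) (nat_lit 1539))
) (.node (nat_lit 0x1014a4250) (.leaf (nat_lit 0x101424242) (nat_lit 1283))
 (.node (nat_lit 0x102064489) (.leaf (nat_lit 0x1014a4250) (nat_lit 1795))
 (.leaf (nat_lit 0x102064489) (nat_lit 770))
)))))) (.node (nat_lit 0x1eb77f7ae) (.node (nat_lit 0x110264088) (.node (nat_lit 0x1090a4212) (.node (nat_lit 0x1080a4052) (.node (nat_lit 0x102264488) (.leaf (nat_lit 0x102224481) (nat_lit 514))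
 (.leaf (nat_lit 0x102264488) (nat_lit 1026))
) (.node (nat_lit 0x108424042) (.leaf (nat_lit 0x1080a4052) (nat_lit 1283))
 (.node (nat_lit 0x1084a4050) (.leaf (nat_lit 0x108424042) (nat_lit 1027))
 (.leaf (nat_lit 0x1084a4050) (nat_lit 1539))
))) (.node (nat_lit 0x1094a4210) (.node (nat_lit 0x109424202) (.leaf (nat_lit 0x1090a4212) (nat_lit 1795))
 (.leaf (nat_lit 0x109424202) (nat_lit 1539))
) (.node (nat_lit 0x110064089) (.leaf (nat_lit 0x1094a4210) (nat_lit 2051))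
 (.node (nat_lit 0x110224081) (.leaf (nat_lit 0x110064089) (nat_lit 514))
 (.leaf (nat_lit 0x110224081) (nat_lit 258))
)))) (.node (nat_lit 0x1ddaffb9e) (.node (nat_lit 0x112224401) (.node (nat_lit 0x112064409) (.leaf (nat_lit 0x110264088) (nat_lit 770))
 (.leaf (nat_lit 0x112064409) (nat_lit 1026))
) (.node (nat_lit 0x112264408) (.leaf (nat_lit 0x112224401) (nat_lit 770))
 (.node (nat_lit 0x1dd7bfbb5) (.leaf (nat_lit 0x112264408) (nat_lit 1282))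
 (.leaf (nat_lit 0x1dd7bfbb5) (nat_lit 1538))
))) (.node (nat_lit 0x1de77fd6e) (.node (nat_lit 0x1ddd7fbab) (.leaf (nat_lit 0x1ddaffb9e) (nat_lit 1282))
 (.leaf (nat_lit 0x1ddd7fbab) (nat_lit 1794))
) (.node (nat_lit 0x1debbfd73) (.leaf (nat_lit 0x1de77fd6e) (nat_lit 771))
 (.node (nat_lit 0x1decffd5d) (.leaf (nat_lit 0x1debbfd73) (nat_lit 1024))
 (.leaf (nat_lit 0x1decffd5d) (nat_lit 1280))
))))) (.node (nat_lit 0x1f5bbfaf3) (.node (nat_lit 0x1eed7fceb) (.node (nat_lit 0x1ebcff79d) (.node (nat_lit 0x1ebbbf7b3) (.leaf (nat_lit 0x1eb77f7ae) (nat_lit 1281))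
 (.leaf (nat_lit 0x1ebbbf7b3) (nat_lit 1537))
) (.node (nat_lit 0x1ee7bfcf5) (.leaf (nat_lit 0x1ebcff79d) (nat_lit 1026))
 (.node (nat_lit 0x1eeaffcde) (.leaf (nat_lit 0x1ee7bfcf5) (nat_lit 1794))
 (.leaf (nat_lit 0x1eeaffcde) (nat_lit 1538))
))) (.node (nat_lit 0x1f3aff75e) (.node (nat_lit 0x1f37bf775) (.leaf (nat_lit 0x1eed7fceb) (nat_lit 2051))
 (.leaf (nat_lit 0x1f37bf775) (nat_lit 1282))
) (.node (nat_lit 0x1f3d7f76b) (.leaf (nat_lit 0x1f3aff75e) (nat_lit 1026))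
 (.node (nat_lit 0x1f577faee) (.leaf (nat_lit 0x1f3d7f76b) (nat_lit 1538))
 (.leaf (nat_lit 0x1f577faee) (nat_lit 1025))
)))) (.node (nat_lit 0x204081912) (.node (nat_lit 0x2021014a4) (.node (nat_lit 0x1f5cffadd) (.leaf (nat_lit 0x1f5bbfaf3) (nat_lit 1281))
 (.leaf (nat_lit 0x1f5cffadd) (nat_lit 1537))
) (.node (nat_lit 0x202801484) (.leaf (nat_lit 0x2021014a4) (nat_lit 2051))
 (.node (nat_lit 0x2029014a0) (.leaf (nat_lit 0x202801484) (nat_lit 1795))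
 (.leaf (nat_lit 0x2029014a0) (nat_lit 1539))
))) (.node (nat_lit 0x2101010a4) (.node (nat_lit 0x204401902) (.leaf (nat_lit 0x204081912) (nat_lit 2051))
 (.node (nat_lit 0x204481910) (.leaf (nat_lit 0x204401902) (nat_lit 1795))
 (.leaf (nat_lit 0x204481910) (nat_lit 2307))
)) (.node (nat_lit 0x210801084) (.leaf (nat_lit 0x2101010a4) (nat_lit 1795))
 (.node (nat_lit 0x2109010a0) (.leaf (nat_lit 0x210801084) (nat_lit 1539))
 (.leaf (nat_lit 0x2109010a0) (nat_lit 2051))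
))))))) (.node (nat_lit 0x3ba8f755f) (.node (nat_lit 0x252908420) (.node (nat_lit 0x242808484) (.node (nat_lit 0x220481110) (.node (nat_lit 0x212901420) (.node (nat_lit 0x212801404) (.leaf (nat_lit 0x212101424) (nat_lit 1539))
 (.leaf (nat_lit 0x212801404) (nat_lit 1283))
) (.node (nat_lit 0x220081112) (.leaf (nat_lit 0x212901420) (nat_lit 1795))
 (.node (nat_lit 0x220401102) (.leaf (nat_lit 0x220081112) (nat_lit 1795))
 (.leaf (nat_lit 0x220401102) (nat_lit 1539))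
))) (.node (nat_lit 0x224401802) (.node (nat_lit 0x224081812) (.leaf (nat_lit 0x220481110) (nat_lit 2051))
 (.leaf (nat_lit 0x224081812) (nat_lit 1539))
) (.node (nat_lit 0x224481810) (.leaf (nat_lit 0x224401802) (nat_lit 2051))
 (.node (nat_lit 0x2421084a4) (.leaf (nat_lit 0x224481810) (nat_lit 1795))
 (.leaf (nat_lit 0x2421084a4) (nat_lit 1795))
)))) (.node (nat_lit 0x2501080a4) (.node (nat_lit 0x244088912) (.node (nat_lit 0x2429084a0) (.leaf (nat_lit 0x242808484) (nat_lit 1539))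
 (.leaf (nat_lit 0x2429084a0) (nat_lit 1283))
) (.node (nat_lit 0x244408902) (.leaf (nat_lit 0x244088912) (nat_lit 1795))
 (.node (nat_lit 0x244488910) (.leaf (nat_lit 0x244408902) (nat_lit 1539))
 (.leaf (nat_lit 0x244488910) (nat_lit 2051))
))) (.node (nat_lit 0x2509080a0) (.node (nat_lit 0x250808084) (.leaf (nat_lit 0x2501080a4) (nat_lit 1539))
 (.leaf (nat_lit 0x250808084) (nat_lit 1283))
) (.node (nat_lit 0x252108424) (.leaf (nat_lit 0x2509080a0) (nat_lit 1795))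
 (.node (nat_lit 0x252808404) (.leaf (nat_lit 0x252108424) (nat_lit 1283))
 (.leaf (nat_lit 0x252808404) (nat_lit 1027))
))))) (.node (nat_lit 0x39f577f2f) (.node (nat_lit 0x264408802) (.node (nat_lit 0x260408102) (.node (nat_lit 0x260088112) (.leaf (nat_lit 0x252908420) (nat_lit 1539))
 (.leaf (nat_lit 0x260088112) (nat_lit 2307))
) (.node (nat_lit 0x260488110) (.leaf (nat_lit 0x260408102) (nat_lit 2051))
 (.node (nat_lit 0x264088812) (.leaf (nat_lit 0x260488110) (nat_lit 1795))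
 (.leaf (nat_lit 0x264088812) (nat_lit 2051))
))) (.node (nat_lit 0x3957f7bfc) (.node (nat_lit 0x264488810) (.leaf (nat_lit 0x264408802) (nat_lit 1795))
 (.leaf (nat_lit 0x264488810) (nat_lit 1539))
) (.node (nat_lit 0x3958f7bdf) (.leaf (nat_lit 0x3957f7bfc) (nat_lit 1282))
 (.node (nat_lit 0x395f37be3) (.leaf (nat_lit 0x3958f7bdf) (nat_lit 1794))
 (.leaf (nat_lit 0x395f37be3) (nat_lit 1538))
)))) (.node (nat_lit 0x3a3eb77d5) (.node (nat_lit 0x39feb7f15) (.node (nat_lit 0x39fbf7f3a) (.leaf (nat_lit 0x39f577f2f) (nat_lit 515))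
 (.leaf (nat_lit 0x39fbf7f3a) (nat_lit 768))
) (.node (nat_lit 0x3a35777ef) (.leaf (nat_lit 0x39feb7f15) (nat_lit 1024))
 (.node (nat_lit 0x3a3bf77fa) (.leaf (nat_lit 0x3a35777ef) (nat_lit 1025))
 (.leaf (nat_lit 0x3a3bf77fa) (nat_lit 1281))
))) (.node (nat_lit 0x3af8f7e9f) (.node (nat_lit 0x3af7f7ebc) (.leaf (nat_lit 0x3a3eb77d5) (nat_lit 1538))
 (.leaf (nat_lit 0x3af7f7ebc) (nat_lit 1538))
) (.node (nat_lit 0x3aff37ea3) (.leaf (nat_lit 0x3af8f7e9f) (nat_lit 2050))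
 (.node (nat_lit 0x3ba7f757c) (.leaf (nat_lit 0x3aff37ea3) (nat_lit 1795))
 (.leaf (nat_lit 0x3ba7f757c) (nat_lit 1794))
)))))) (.node (nat_lit 0x3fd73eaa7) (.node (nat_lit 0x3dcf7e9ea) (.node (nat_lit 0x3d773ef67) (.node (nat_lit 0x3bc5778ef) (.node (nat_lit 0x3baf37563) (.leaf (nat_lit 0x3ba8f755f) (nat_lit 1538))
 (.leaf (nat_lit 0x3baf37563) (nat_lit 2050))
) (.node (nat_lit 0x3bcbf78fa) (.leaf (nat_lit 0x3bc5778ef) (nat_lit 769))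
 (.node (nat_lit 0x3bceb78d5) (.leaf (nat_lit 0x3bcbf78fa) (nat_lit 1025))
 (.leaf (nat_lit 0x3bceb78d5) (nat_lit 1281))
))) (.node (nat_lit 0x3d7efef5c) (.node (nat_lit 0x3d79fef7b) (.leaf (nat_lit 0x3d773ef67) (nat_lit 1027))
 (.leaf (nat_lit 0x3d79fef7b) (nat_lit 1280))
) (.node (nat_lit 0x3dc5fe9fd) (.leaf (nat_lit 0x3d7efef5c) (nat_lit 1536))
 (.node (nat_lit 0x3dcabe9d7) (.leaf (nat_lit 0x3dc5fe9fd) (nat_lit 1794))
 (.leaf (nat_lit 0x3dcabe9d7) (nat_lit 1538))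
)))) (.node (nat_lit 0x3ea9fe5fb) (.node (nat_lit 0x3e7abeed7) (.node (nat_lit 0x3e75feefd) (.leaf (nat_lit 0x3dcf7e9ea) (nat_lit 2050))
 (.leaf (nat_lit 0x3e75feefd) (nat_lit 2050))
) (.node (nat_lit 0x3e7f7eeea) (.leaf (nat_lit 0x3e7abeed7) (nat_lit 1794))
 (.node (nat_lit 0x3ea73e5e7) (.leaf (nat_lit 0x3e7f7eeea) (nat_lit 1539))
 (.leaf (nat_lit 0x3ea73e5e7) (nat_lit 1537))
))) (.node (nat_lit 0x3fb5fe73d) (.node (nat_lit 0x3eaefe5dc) (.leaf (nat_lit 0x3ea9fe5fb) (nat_lit 1793))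
 (.leaf (nat_lit 0x3eaefe5dc) (nat_lit 1282))
) (.node (nat_lit 0x3fbabe717) (.leaf (nat_lit 0x3fb5fe73d) (nat_lit 1538))
 (.node (nat_lit 0x3fbf7e72a) (.leaf (nat_lit 0x3fbabe717) (nat_lit 1282))
 (.leaf (nat_lit 0x3fbf7e72a) (nat_lit 1794))
))))) (.node (nat_lit 0x408802044) (.node (nat_lit 0x401902260) (.node (nat_lit 0x3fdefea9c) (.node (nat_lit 0x3fd9feabb) (.leaf (nat_lit 0x3fd73eaa7) (nat_lit 1281))
 (.leaf (nat_lit 0x3fd9feabb) (nat_lit 1537))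
) (.node (nat_lit 0x401102264) (.leaf (nat_lit 0x3fdefea9c) (nat_lit 1793))
 (.node (nat_lit 0x401802244) (.leaf (nat_lit 0x401102264) (nat_lit 2051))
 (.leaf (nat_lit 0x401802244) (nat_lit 1795))
))) (.node (nat_lit 0x404202901) (.node (nat_lit 0x404042909) (.leaf (nat_lit 0x401902260) (nat_lit 1539))
 (.leaf (nat_lit 0x404042909) (nat_lit 2051))
) (.node (nat_lit 0x404242908) (.leaf (nat_lit 0x404202901) (nat_lit 1795))
 (.node (nat_lit 0x408102064) (.leaf (nat_lit 0x404242908) (nat_lit 1539))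
 (.leaf (nat_lit 0x408102064) (nat_lit 1795))
)))) (.node (nat_lit 0x420042109) (.node (nat_lit 0x409102224) (.node (nat_lit 0x408902060) (.leaf (nat_lit 0x408802044) (nat_lit 1539))
 (.leaf (nat_lit 0x408902060) (nat_lit 2051))
) (.node (nat_lit 0x409802204) (.leaf (nat_lit 0x409102224) (nat_lit 2307))
 (.node (nat_lit 0x409902220) (.leaf (nat_lit 0x409802204) (nat_lit 2051))
 (.leaf (nat_lit 0x409902220) (nat_lit 1795))
))) (.node (nat_lit 0x424042809) (.node (nat_lit 0x420202101) (.leaf (nat_lit 0x420042109) (nat_lit 1795))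
 (.node (nat_lit 0x420242108) (.leaf (nat_lit 0x420202101) (nat_lit 1539))
 (.leaf (nat_lit 0x420242108) (nat_lit 1283))
)) (.node (nat_lit 0x424202801) (.leaf (nat_lit 0x424042809) (nat_lit 1539))
 (.node (nat_lit 0x424242808) (.leaf (nat_lit 0x424202801) (nat_lit 2051))
 (.leaf (nat_lit 0x424242808) (nat_lit 1795))
)))))))) (.node (nat_lit 0x7751eeaff) (.node (nat_lit 0x5dcc7d9cf) (.node (nat_lit 0x54ef2fde3) (.node (nat_lit 0x489810204) (.node (nat_lit 0x484250908) (.node (nat_lit 0x481910260) (.node (nat_lit 0x481810244) (.leaf (nat_lit 0x481110264) (nat_lit 1795))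
 (.leaf (nat_lit 0x481810244) (nat_lit 2307))
) (.node (nat_lit 0x484050909) (.leaf (nat_lit 0x481910260) (nat_lit 2051))
 (.node (nat_lit 0x484210901) (.leaf (nat_lit 0x484050909) (nat_lit 1795))
 (.leaf (nat_lit 0x484210901) (nat_lit 1539))
))) (.node (nat_lit 0x488810044) (.node (nat_lit 0x488110064) (.leaf (nat_lit 0x484250908) (nat_lit 1283))
 (.leaf (nat_lit 0x488110064) (nat_lit 1539))
) (.node (nat_lit 0x488910060) (.leaf (nat_lit 0x488810044) (nat_lit 2051))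
 (.node (nat_lit 0x489110224) (.leaf (nat_lit 0x488910060) (nat_lit 1795))
 (.leaf (nat_lit 0x489110224) (nat_lit 2051))
)))) (.node (nat_lit 0x4a4050809) (.node (nat_lit 0x4a0050109) (.node (nat_lit 0x489910220) (.leaf (nat_lit 0x489810204) (nat_lit 1795))
 (.leaf (nat_lit 0x489910220) (nat_lit 1539))
) (.node (nat_lit 0x4a0210101) (.leaf (nat_lit 0x4a0050109) (nat_lit 1539))
 (.node (nat_lit 0x4a0250108) (.leaf (nat_lit 0x4a0210101) (nat_lit 1283))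
 (.leaf (nat_lit 0x4a0250108) (nat_lit 1027))
))) (.node (nat_lit 0x4a4250808) (.node (nat_lit 0x4a4210801) (.leaf (nat_lit 0x4a4050809) (nat_lit 1283))
 (.leaf (nat_lit 0x4a4210801) (nat_lit 1795))
) (.node (nat_lit 0x54e7efdfc) (.leaf (nat_lit 0x4a4250808) (nat_lit 1539))
 (.node (nat_lit 0x54e8efddf) (.leaf (nat_lit 0x54e7efdfc) (nat_lit 515))
 (.leaf (nat_lit 0x54e8efddf) (nat_lit 1024))
))))) (.node (nat_lit 0x5797ef3bc) (.node (nat_lit 0x563def7f9) (.node (nat_lit 0x55fdeff39) (.node (nat_lit 0x55f3aff37) (.leaf (nat_lit 0x54ef2fde3) (nat_lit 768))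
 (.leaf (nat_lit 0x55f3aff37) (nat_lit 1282))
) (.node (nat_lit 0x55fe6ff0e) (.leaf (nat_lit 0x55fdeff39) (nat_lit 1538))
 (.node (nat_lit 0x5633af7f7) (.leaf (nat_lit 0x55fe6ff0e) (nat_lit 1795))
 (.leaf (nat_lit 0x5633af7f7) (nat_lit 1795))
))) (.node (nat_lit 0x5777efe7c) (.node (nat_lit 0x563e6f7ce) (.leaf (nat_lit 0x563def7f9) (nat_lit 2049))
 (.leaf (nat_lit 0x563e6f7ce) (nat_lit 1538))
) (.node (nat_lit 0x5778efe5f) (.leaf (nat_lit 0x5777efe7c) (nat_lit 769))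
 (.node (nat_lit 0x577f2fe63) (.leaf (nat_lit 0x5778efe5f) (nat_lit 1281))
 (.leaf (nat_lit 0x577f2fe63) (nat_lit 1025))
)))) (.node (nat_lit 0x57ce6f8ce) (.node (nat_lit 0x579f2f3a3) (.node (nat_lit 0x5798ef39f) (.leaf (nat_lit 0x5797ef3bc) (nat_lit 1025))
 (.leaf (nat_lit 0x5798ef39f) (nat_lit 1537))
) (.node (nat_lit 0x57c3af8f7) (.leaf (nat_lit 0x579f2f3a3) (nat_lit 1281))
 (.node (nat_lit 0x57cdef8f9) (.leaf (nat_lit 0x57c3af8f7) (nat_lit 1538))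
 (.leaf (nat_lit 0x57cdef8f9) (nat_lit 1795))
))) (.node (nat_lit 0x5cf9fdfbb) (.node (nat_lit 0x5cf73dfa7) (.leaf (nat_lit 0x57ce6f8ce) (nat_lit 2048))
 (.leaf (nat_lit 0x5cf73dfa7) (nat_lit 1794))
) (.node (nat_lit 0x5cfefdf9c) (.leaf (nat_lit 0x5cf9fdfbb) (nat_lit 2049))
 (.node (nat_lit 0x5dc3fd9fe) (.leaf (nat_lit 0x5cfefdf9c) (nat_lit 1538))
 (.leaf (nat_lit 0x5dc3fd9fe) (nat_lit 1027))
)))))) (.node (nat_lit 0x72a3e75fe) (.node (nat_lit 0x5fbfbd731) (.node (nat_lit 0x5f173d3e7) (.node (nat_lit 0x5e73fdefe) (.node (nat_lit 0x5dcfbd9f1) (.leaf (nat_lit 0x5dcc7d9cf) (nat_lit 1536))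
 (.leaf (nat_lit 0x5dcfbd9f1) (nat_lit 1280))
) (.node (nat_lit 0x5e7c7decf) (.leaf (nat_lit 0x5e73fdefe) (nat_lit 1281))
 (.node (nat_lit 0x5e7fbdef1) (.leaf (nat_lit 0x5e7c7decf) (nat_lit 1794))
 (.leaf (nat_lit 0x5e7fbdef1) (nat_lit 1538))
))) (.node (nat_lit 0x5f1efd3dc) (.node (nat_lit 0x5f19fd3fb) (.leaf (nat_lit 0x5f173d3e7) (nat_lit 1539))
 (.leaf (nat_lit 0x5f19fd3fb) (nat_lit 1793))
) (.node (nat_lit 0x5fb3fd73e) (.leaf (nat_lit 0x5f1efd3dc) (nat_lit 1282))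
 (.node (nat_lit 0x5fbc7d70f) (.leaf (nat_lit 0x5fb3fd73e) (nat_lit 1537))
 (.leaf (nat_lit 0x5fbc7d70f) (nat_lit 1282))
)))) (.node (nat_lit 0x70faa7f97) (.node (nat_lit 0x5fe9fdc7b) (.node (nat_lit 0x5fe73dc67) (.leaf (nat_lit 0x5fbfbd731) (nat_lit 1794))
 (.leaf (nat_lit 0x5fe73dc67) (nat_lit 2048))
) (.node (nat_lit 0x5feefdc5c) (.leaf (nat_lit 0x5fe9fdc7b) (nat_lit 1539))
 (.node (nat_lit 0x70f5e7fbd) (.leaf (nat_lit 0x5feefdc5c) (nat_lit 1792))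
 (.leaf (nat_lit 0x70f5e7fbd) (nat_lit 259))
))) (.node (nat_lit 0x7173e7f7e) (.node (nat_lit 0x70ff67faa) (.leaf (nat_lit 0x70faa7f97) (nat_lit 768))
 (.leaf (nat_lit 0x70ff67faa) (nat_lit 512))
) (.node (nat_lit 0x717c67f4f) (.leaf (nat_lit 0x7173e7f7e) (nat_lit 1026))
 (.node (nat_lit 0x717fa7f71) (.leaf (nat_lit 0x717c67f4f) (nat_lit 1539))
 (.leaf (nat_lit 0x717fa7f71) (nat_lit 1282))
))))) (.node (nat_lit 0x73eaa7c57) (.node (nat_lit 0x731f673ea) (.node (nat_lit 0x72afa75f1) (.node (nat_lit 0x72ac675cf) (.leaf (nat_lit 0x72a3e75fe) (nat_lit 1539))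
 (.leaf (nat_lit 0x72ac675cf) (nat_lit 2050))
) (.node (nat_lit 0x7315e73fd) (.leaf (nat_lit 0x72afa75f1) (nat_lit 1793))
 (.node (nat_lit 0x731aa73d7) (.leaf (nat_lit 0x7315e73fd) (nat_lit 769))
 (.leaf (nat_lit 0x731aa73d7) (nat_lit 1281))
))) (.node (nat_lit 0x73dc67a8f) (.node (nat_lit 0x73d3e7abe) (.leaf (nat_lit 0x731f673ea) (nat_lit 1025))
 (.leaf (nat_lit 0x73d3e7abe) (nat_lit 1282))
) (.node (nat_lit 0x73dfa7ab1) (.leaf (nat_lit 0x73dc67a8f) (nat_lit 1792))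
 (.node (nat_lit 0x73e5e7c7d) (.leaf (nat_lit 0x73dfa7ab1) (nat_lit 1539))
 (.leaf (nat_lit 0x73e5e7c7d) (nat_lit 513))
)))) (.node (nat_lit 0x75e1eed7f) (.node (nat_lit 0x7477aeff5) (.node (nat_lit 0x73ef67c6a) (.leaf (nat_lit 0x73eaa7c57) (nat_lit 1025))
 (.leaf (nat_lit 0x73ef67c6a) (nat_lit 769))
) (.node (nat_lit 0x747aeefde) (.leaf (nat_lit 0x7477aeff5) (nat_lit 771))
 (.node (nat_lit 0x747d6efeb) (.leaf (nat_lit 0x747aeefde) (nat_lit 1280))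
 (.leaf (nat_lit 0x747d6efeb) (nat_lit 1024))
))) (.node (nat_lit 0x76b1ee7bf) (.node (nat_lit 0x75ee2ed47) (.leaf (nat_lit 0x75e1eed7f) (nat_lit 1538))
 (.node (nat_lit 0x75efeed78) (.leaf (nat_lit 0x75ee2ed47) (nat_lit 1283))
 (.leaf (nat_lit 0x75efeed78) (nat_lit 1794))
)) (.node (nat_lit 0x76be2e787) (.leaf (nat_lit 0x76b1ee7bf) (nat_lit 2051))
 (.node (nat_lit 0x76bfee7b8) (.leaf (nat_lit 0x76be2e787) (nat_lit 1794))
 (.leaf (nat_lit 0x76bfee7b8) (nat_lit 1537))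
))))))) (.node (nat_lit 0x7f9bfc3ba) (.node (nat_lit 0x7b3ff5778) (.node (nat_lit 0x787bb5ff3) (.node (nat_lit 0x778d6e1eb) (.node (nat_lit 0x775feeaf8) (.node (nat_lit 0x775e2eac7) (.leaf (nat_lit 0x7751eeaff) (nat_lit 1794))
 (.leaf (nat_lit 0x775e2eac7) (nat_lit 1536))
) (.node (nat_lit 0x7787ae1f5) (.leaf (nat_lit 0x775feeaf8) (nat_lit 1283))
 (.node (nat_lit 0x778aee1de) (.leaf (nat_lit 0x7787ae1f5) (nat_lit 1281))
 (.leaf (nat_lit 0x778aee1de) (nat_lit 1793))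
))) (.node (nat_lit 0x77faeee1e) (.node (nat_lit 0x77f7aee35) (.leaf (nat_lit 0x778d6e1eb) (nat_lit 1537))
 (.leaf (nat_lit 0x77f7aee35) (nat_lit 1025))
) (.node (nat_lit 0x77fd6ee2b) (.leaf (nat_lit 0x77faeee1e) (nat_lit 1537))
 (.node (nat_lit 0x787775fee) (.leaf (nat_lit 0x77fd6ee2b) (nat_lit 1281))
 (.leaf (nat_lit 0x787775fee) (nat_lit 1538))
)))) (.node (nat_lit 0x7ae1f5cff) (.node (nat_lit 0x79d1f5bbf) (.node (nat_lit 0x787cf5fdd) (.leaf (nat_lit 0x787bb5ff3) (nat_lit 1793))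
 (.leaf (nat_lit 0x787cf5fdd) (nat_lit 2050))
) (.node (nat_lit 0x79de35b87) (.leaf (nat_lit 0x79d1f5bbf) (nat_lit 771))
 (.node (nat_lit 0x79dff5bb8) (.leaf (nat_lit 0x79de35b87) (nat_lit 1280))
 (.leaf (nat_lit 0x79dff5bb8) (nat_lit 1024))
))) (.node (nat_lit 0x7aeff5cf8) (.node (nat_lit 0x7aee35cc7) (.leaf (nat_lit 0x7ae1f5cff) (nat_lit 1025))
 (.leaf (nat_lit 0x7aee35cc7) (nat_lit 1538))
) (.node (nat_lit 0x7b31f577f) (.leaf (nat_lit 0x7aeff5cf8) (nat_lit 1282))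
 (.node (nat_lit 0x7b3e35747) (.leaf (nat_lit 0x7b31f577f) (nat_lit 1281))
 (.leaf (nat_lit 0x7b3e35747) (nat_lit 1794))
))))) (.node (nat_lit 0x7d53bcbf7) (.node (nat_lit 0x7bfbb5e33) (.node (nat_lit 0x7b8bb51f3) (.node (nat_lit 0x7b87751ee) (.leaf (nat_lit 0x7b3ff5778) (nat_lit 1538))
 (.leaf (nat_lit 0x7b87751ee) (nat_lit 1283))
) (.node (nat_lit 0x7b8cf51dd) (.leaf (nat_lit 0x7b8bb51f3) (nat_lit 1537))
 (.node (nat_lit 0x7bf775e2e) (.leaf (nat_lit 0x7b8cf51dd) (nat_lit 1794))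
 (.leaf (nat_lit 0x7bf775e2e) (nat_lit 1792))
))) (.node (nat_lit 0x7ce57cdef) (.node (nat_lit 0x7bfcf5e1d) (.leaf (nat_lit 0x7bfbb5e33) (nat_lit 1283))
 (.leaf (nat_lit 0x7bfcf5e1d) (nat_lit 1536))
) (.node (nat_lit 0x7cebfcdfa) (.leaf (nat_lit 0x7ce57cdef) (nat_lit 2050))
 (.node (nat_lit 0x7ceebcdd5) (.leaf (nat_lit 0x7cebfcdfa) (nat_lit 1537))
 (.leaf (nat_lit 0x7ceebcdd5) (nat_lit 1794))
)))) (.node (nat_lit 0x7efe7ce8e) (.node (nat_lit 0x7d5e7cbce) (.node (nat_lit 0x7d5dfcbf9) (.leaf (nat_lit 0x7d53bcbf7) (nat_lit 1283))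
 (.leaf (nat_lit 0x7d5dfcbf9) (nat_lit 1536))
) (.node (nat_lit 0x7ef3bceb7) (.leaf (nat_lit 0x7d5e7cbce) (nat_lit 1792))
 (.node (nat_lit 0x7efdfceb9) (.leaf (nat_lit 0x7ef3bceb7) (nat_lit 1537))
 (.leaf (nat_lit 0x7efdfceb9) (nat_lit 1026))
))) (.node (nat_lit 0x7f7bfce7a) (.node (nat_lit 0x7f757ce6f) (.leaf (nat_lit 0x7efe7ce8e) (nat_lit 1282))
 (.leaf (nat_lit 0x7f757ce6f) (nat_lit 1536))
) (.node (nat_lit 0x7f7ebce55) (.leaf (nat_lit 0x7f7bfce7a) (nat_lit 1027))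
 (.node (nat_lit 0x7f957c3af) (.leaf (nat_lit 0x7f7ebce55) (nat_lit 1280))
 (.leaf (nat_lit 0x7f957c3af) (nat_lit 1795))
)))))) (.node (nat_lit 0x812044409) (.node (nat_lit 0x802244488) (.node (nat_lit 0x801084252) (.node (nat_lit 0x7fa3bc577) (.node (nat_lit 0x7f9ebc395) (.leaf (nat_lit 0x7f9bfc3ba) (nat_lit 1281))
 (.leaf (nat_lit 0x7f9ebc395) (nat_lit 1538))
) (.node (nat_lit 0x7fadfc579) (.leaf (nat_lit 0x7fa3bc577) (nat_lit 1793))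
 (.node (nat_lit 0x7fae7c54e) (.leaf (nat_lit 0x7fadfc579) (nat_lit 1282))
 (.leaf (nat_lit 0x7fae7c54e) (nat_lit 1538))
))) (.node (nat_lit 0x801484250) (.node (nat_lit 0x801404242) (.leaf (nat_lit 0x801084252) (nat_lit 1283))
 (.leaf (nat_lit 0x801404242) (nat_lit 1795))
) (.node (nat_lit 0x802044489) (.leaf (nat_lit 0x801484250) (nat_lit 1539))
 (.node (nat_lit 0x802204481) (.leaf (nat_lit 0x802044489) (nat_lit 513))
 (.leaf (nat_lit 0x802204481) (nat_lit 257))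
)))) (.node (nat_lit 0x809404202) (.node (nat_lit 0x808404042) (.node (nat_lit 0x808084052) (.leaf (nat_lit 0x802244488) (nat_lit 769))
 (.leaf (nat_lit 0x808084052) (nat_lit 1795))
) (.node (nat_lit 0x808484050) (.leaf (nat_lit 0x808404042) (nat_lit 1539))
 (.node (nat_lit 0x809084212) (.leaf (nat_lit 0x808484050) (nat_lit 2051))
 (.leaf (nat_lit 0x809084212) (nat_lit 1539))
))) (.node (nat_lit 0x810044089) (.node (nat_lit 0x809484210) (.leaf (nat_lit 0x809404202) (nat_lit 2051))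
 (.leaf (nat_lit 0x809484210) (nat_lit 1795))
) (.node (nat_lit 0x810204081) (.leaf (nat_lit 0x810044089) (nat_lit 256))
 (.node (nat_lit 0x810244088) (.leaf (nat_lit 0x810204081) (nat_lit 0))
 (.leaf (nat_lit 0x810244088) (nat_lit 512))
))))) (.node (nat_lit 0x8efddfeb9) (.node (nat_lit 0x8cee9fdd5) (.node (nat_lit 0x812244408) (.node (nat_lit 0x812204401) (.leaf (nat_lit 0x812044409) (nat_lit 769))
 (.leaf (nat_lit 0x812204401) (nat_lit 513))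
) (.node (nat_lit 0x8ce55fdef) (.leaf (nat_lit 0x812244408) (nat_lit 1025))
 (.node (nat_lit 0x8cebdfdfa) (.leaf (nat_lit 0x8ce55fdef) (nat_lit 1795))
 (.leaf (nat_lit 0x8cebdfdfa) (nat_lit 2048))
))) (.node (nat_lit 0x8d5ddfbf9) (.node (nat_lit 0x8d539fbf7) (.leaf (nat_lit 0x8cee9fdd5) (nat_lit 1538))
 (.leaf (nat_lit 0x8d539fbf7) (nat_lit 1794))
) (.node (nat_lit 0x8d5e5fbce) (.leaf (nat_lit 0x8d5ddfbf9) (nat_lit 1282))
 (.node (nat_lit 0x8ef39feb7) (.leaf (nat_lit 0x8d5e5fbce) (nat_lit 1537))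
 (.leaf (nat_lit 0x8ef39feb7) (nat_lit 1282))
)))) (.node (nat_lit 0x8f955f3af) (.node (nat_lit 0x8f755fe6f) (.node (nat_lit 0x8efe5fe8e) (.leaf (nat_lit 0x8efddfeb9) (nat_lit 770))
 (.leaf (nat_lit 0x8efe5fe8e) (nat_lit 1026))
) (.node (nat_lit 0x8f7bdfe7a) (.leaf (nat_lit 0x8f755fe6f) (nat_lit 2049))
 (.node (nat_lit 0x8f7e9fe55) (.leaf (nat_lit 0x8f7bdfe7a) (nat_lit 1538))
 (.leaf (nat_lit 0x8f7e9fe55) (nat_lit 1795))
))) (.node (nat_lit 0x8fa39f577) (.node (nat_lit 0x8f9bdf3ba) (.leaf (nat_lit 0x8f955f3af) (nat_lit 1538))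
 (.node (nat_lit 0x8f9e9f395) (.leaf (nat_lit 0x8f9bdf3ba) (nat_lit 1794))
 (.leaf (nat_lit 0x8f9e9f395) (nat_lit 1282))
)) (.node (nat_lit 0x8faddf579) (.leaf (nat_lit 0x8fa39f577) (nat_lit 1536))
 (.node (nat_lit 0x8fae5f54e) (.leaf (nat_lit 0x8faddf579) (nat_lit 1026))
 (.leaf (nat_lit 0x8fae5f54e) (nat_lit 1283))
))))))))) (.node (nat_lit 0xdd57f9bfc) (.node (nat_lit 0xbb51f3aff) (.node (nat_lit 0xa9cc579cf) (.node (nat_lit 0x9cff7bfaa) (.node (nat_lit 0x909420202) (.node (nat_lit 0x902260488) (.node (nat_lit 0x9014a0250) (.node (nat_lit 0x901420242) (.leaf (nat_lit 0x9010a0252) (nat_lit 1027))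
 (.leaf (nat_lit 0x901420242) (nat_lit 1539))
) (.node (nat_lit 0x902060489) (.leaf (nat_lit 0x9014a0250) (nat_lit 1283))
 (.node (nat_lit 0x902220481) (.leaf (nat_lit 0x902060489) (nat_lit 1026))
 (.leaf (nat_lit 0x902220481) (nat_lit 770))
))) (.node (nat_lit 0x908420042) (.node (nat_lit 0x9080a0052) (.leaf (nat_lit 0x902260488) (nat_lit 1282))
 (.leaf (nat_lit 0x9080a0052) (nat_lit 1539))
) (.node (nat_lit 0x9084a0050) (.leaf (nat_lit 0x908420042) (nat_lit 1283))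
 (.node (nat_lit 0x9090a0212) (.leaf (nat_lit 0x9084a0050) (nat_lit 1795))
 (.leaf (nat_lit 0x9090a0212) (nat_lit 1283))
)))) (.node (nat_lit 0x912060409) (.node (nat_lit 0x910060089) (.node (nat_lit 0x9094a0210) (.leaf (nat_lit 0x909420202) (nat_lit 1795))
 (.leaf (nat_lit 0x9094a0210) (nat_lit 1539))
) (.node (nat_lit 0x910220081) (.leaf (nat_lit 0x910060089) (nat_lit 770))
 (.node (nat_lit 0x910260088) (.leaf (nat_lit 0x910220081) (nat_lit 514))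
 (.leaf (nat_lit 0x910260088) (nat_lit 1026))
))) (.node (nat_lit 0x912260408) (.node (nat_lit 0x912220401) (.leaf (nat_lit 0x912060409) (nat_lit 1282))
 (.leaf (nat_lit 0x912220401) (nat_lit 1026))
) (.node (nat_lit 0x9cf5fbfbd) (.leaf (nat_lit 0x912260408) (nat_lit 1538))
 (.node (nat_lit 0x9cfabbf97) (.leaf (nat_lit 0x9cf5fbfbd) (nat_lit 514))
 (.leaf (nat_lit 0x9cfabbf97) (nat_lit 1026))
))))) (.node (nat_lit 0x9fd3fbabe) (.node (nat_lit 0x9eac7b5cf) (.node (nat_lit 0x9d7c7bf4f) (.node (nat_lit 0x9d73fbf7e) (.leaf (nat_lit 0x9cff7bfaa) (nat_lit 770))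
 (.leaf (nat_lit 0x9d73fbf7e) (nat_lit 1282))
) (.node (nat_lit 0x9d7fbbf71) (.leaf (nat_lit 0x9d7c7bf4f) (nat_lit 1793))
 (.node (nat_lit 0x9ea3fb5fe) (.leaf (nat_lit 0x9d7fbbf71) (nat_lit 1539))
 (.leaf (nat_lit 0x9ea3fb5fe) (nat_lit 1792))
))) (.node (nat_lit 0x9f15fb3fd) (.node (nat_lit 0x9eafbb5f1) (.leaf (nat_lit 0x9eac7b5cf) (nat_lit 1539))
 (.leaf (nat_lit 0x9eafbb5f1) (nat_lit 2048))
) (.node (nat_lit 0x9f1abb3d7) (.leaf (nat_lit 0x9f15fb3fd) (nat_lit 1026))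
 (.node (nat_lit 0x9f1f7b3ea) (.leaf (nat_lit 0x9f1abb3d7) (nat_lit 1537))
 (.leaf (nat_lit 0x9f1f7b3ea) (nat_lit 1281))
)))) (.node (nat_lit 0x9fef7bc6a) (.node (nat_lit 0x9fdfbbab1) (.node (nat_lit 0x9fdc7ba8f) (.leaf (nat_lit 0x9fd3fbabe) (nat_lit 1539))
 (.leaf (nat_lit 0x9fdc7ba8f) (nat_lit 2049))
) (.node (nat_lit 0x9fe5fbc7d) (.leaf (nat_lit 0x9fdfbbab1) (nat_lit 1794))
 (.node (nat_lit 0x9feabbc57) (.leaf (nat_lit 0x9fe5fbc7d) (nat_lit 770))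
 (.leaf (nat_lit 0x9feabbc57) (nat_lit 1280))
))) (.node (nat_lit 0xa8f9d7fbb) (.node (nat_lit 0xa8f717fa7) (.leaf (nat_lit 0x9fef7bc6a) (nat_lit 1027))
 (.leaf (nat_lit 0xa8f717fa7) (nat_lit 1539))
) (.node (nat_lit 0xa8fed7f9c) (.leaf (nat_lit 0xa8f9d7fbb) (nat_lit 1792))
 (.node (nat_lit 0xa9c3d79fe) (.leaf (nat_lit 0xa8fed7f9c) (nat_lit 1282))
 (.leaf (nat_lit 0xa9c3d79fe) (nat_lit 1538))
)))))) (.node (nat_lit 0xaee1decff) (.node (nat_lit 0xabbf97731) (.node (nat_lit 0xab17173e7) (.node (nat_lit 0xaa73d7efe) (.node (nat_lit 0xa9cf979f1) (.leaf (nat_lit 0xa9cc579cf) (nat_lit 1281))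
 (.leaf (nat_lit 0xa9cf979f1) (nat_lit 1794))
) (.node (nat_lit 0xaa7c57ecf) (.leaf (nat_lit 0xaa73d7efe) (nat_lit 1794))
 (.node (nat_lit 0xaa7f97ef1) (.leaf (nat_lit 0xaa7c57ecf) (nat_lit 1538))
 (.leaf (nat_lit 0xaa7f97ef1) (nat_lit 1282))
))) (.node (nat_lit 0xab1ed73dc) (.node (nat_lit 0xab19d73fb) (.leaf (nat_lit 0xab17173e7) (nat_lit 1282))
 (.leaf (nat_lit 0xab19d73fb) (nat_lit 1538))
) (.node (nat_lit 0xabb3d773e) (.leaf (nat_lit 0xab1ed73dc) (nat_lit 1026))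
 (.node (nat_lit 0xabbc5770f) (.leaf (nat_lit 0xabb3d773e) (nat_lit 1280))
 (.leaf (nat_lit 0xabbc5770f) (nat_lit 1027))
)))) (.node (nat_lit 0xac7b9eff3) (.node (nat_lit 0xabe9d7c7b) (.node (nat_lit 0xabe717c67) (.leaf (nat_lit 0xabbf97731) (nat_lit 1538))
 (.leaf (nat_lit 0xabe717c67) (nat_lit 1793))
) (.node (nat_lit 0xabeed7c5c) (.leaf (nat_lit 0xabe9d7c7b) (nat_lit 2050))
 (.node (nat_lit 0xac775efee) (.leaf (nat_lit 0xabeed7c5c) (nat_lit 1539))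
 (.leaf (nat_lit 0xac775efee) (nat_lit 1283))
))) (.node (nat_lit 0xadd1debbf) (.node (nat_lit 0xac7cdefdd) (.leaf (nat_lit 0xac7b9eff3) (nat_lit 1536))
 (.leaf (nat_lit 0xac7cdefdd) (nat_lit 1794))
) (.node (nat_lit 0xadde1eb87) (.leaf (nat_lit 0xadd1debbf) (nat_lit 1282))
 (.node (nat_lit 0xaddfdebb8) (.leaf (nat_lit 0xadde1eb87) (nat_lit 1793))
 (.leaf (nat_lit 0xaddfdebb8) (nat_lit 1538))
))))) (.node (nat_lit 0xaffb9ee33) (.node (nat_lit 0xaf3fde778) (.node (nat_lit 0xaeefdecf8) (.node (nat_lit 0xaeee1ecc7) (.leaf (nat_lit 0xaee1decff) (nat_lit 1538))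
 (.leaf (nat_lit 0xaeee1ecc7) (nat_lit 1282))
) (.node (nat_lit 0xaf31de77f) (.leaf (nat_lit 0xaeefdecf8) (nat_lit 1026))
 (.node (nat_lit 0xaf3e1e747) (.leaf (nat_lit 0xaf31de77f) (nat_lit 1792))
 (.leaf (nat_lit 0xaf3e1e747) (nat_lit 1539))
))) (.node (nat_lit 0xaf8b9e1f3) (.node (nat_lit 0xaf875e1ee) (.leaf (nat_lit 0xaf3fde778) (nat_lit 1282))
 (.leaf (nat_lit 0xaf875e1ee) (nat_lit 1794))
) (.node (nat_lit 0xaf8cde1dd) (.leaf (nat_lit 0xaf8b9e1f3) (nat_lit 2050))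
 (.node (nat_lit 0xaff75ee2e) (.leaf (nat_lit 0xaf8cde1dd) (nat_lit 1538))
 (.leaf (nat_lit 0xaff75ee2e) (nat_lit 1537))
)))) (.node (nat_lit 0xb9e1f3d7f) (.node (nat_lit 0xb877b3ff5) (.node (nat_lit 0xaffcdee1d) (.leaf (nat_lit 0xaffb9ee33) (nat_lit 1794))
 (.leaf (nat_lit 0xaffcdee1d) (nat_lit 1283))
) (.node (nat_lit 0xb87af3fde) (.leaf (nat_lit 0xb877b3ff5) (nat_lit 1026))
 (.node (nat_lit 0xb87d73feb) (.leaf (nat_lit 0xb87af3fde) (nat_lit 1538))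
 (.leaf (nat_lit 0xb87d73feb) (nat_lit 1282))
))) (.node (nat_lit 0xbab1f37bf) (.node (nat_lit 0xb9ee33d47) (.leaf (nat_lit 0xb9e1f3d7f) (nat_lit 1794))
 (.node (nat_lit 0xb9eff3d78) (.leaf (nat_lit 0xb9ee33d47) (nat_lit 1537))
 (.leaf (nat_lit 0xb9eff3d78) (nat_lit 2051))
)) (.node (nat_lit 0xbabe33787) (.leaf (nat_lit 0xbab1f37bf) (nat_lit 1536))
 (.node (nat_lit 0xbabff37b8) (.leaf (nat_lit 0xbabe33787) (nat_lit 1283))
 (.leaf (nat_lit 0xbabff37b8) (nat_lit 1792))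
))))))) (.node (nat_lit 0xc7ba8f717) (.node (nat_lit 0xbf7f3ae63) (.node (nat_lit 0xbce8faddf) (.node (nat_lit 0xbb8d731eb) (.node (nat_lit 0xbb5ff3af8) (.node (nat_lit 0xbb5e33ac7) (.leaf (nat_lit 0xbb51f3aff) (nat_lit 1283))
 (.leaf (nat_lit 0xbb5e33ac7) (nat_lit 1793))
) (.node (nat_lit 0xbb87b31f5) (.leaf (nat_lit 0xbb5ff3af8) (nat_lit 1538))
 (.node (nat_lit 0xbb8af31de) (.leaf (nat_lit 0xbb87b31f5) (nat_lit 1538))
 (.leaf (nat_lit 0xbb8af31de) (nat_lit 1281))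
))) (.node (nat_lit 0xbbfaf3e1e) (.node (nat_lit 0xbbf7b3e35) (.leaf (nat_lit 0xbb8d731eb) (nat_lit 1025))
 (.leaf (nat_lit 0xbbf7b3e35) (nat_lit 1282))
) (.node (nat_lit 0xbbfd73e2b) (.leaf (nat_lit 0xbbfaf3e1e) (nat_lit 1024))
 (.node (nat_lit 0xbce7fadfc) (.leaf (nat_lit 0xbbfd73e2b) (nat_lit 771))
 (.leaf (nat_lit 0xbce7fadfc) (nat_lit 770))
)))) (.node (nat_lit 0xbe33ba7f7) (.node (nat_lit 0xbdf3baf37) (.node (nat_lit 0xbcef3ade3) (.leaf (nat_lit 0xbce8faddf) (nat_lit 1282))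
 (.leaf (nat_lit 0xbcef3ade3) (nat_lit 1026))
) (.node (nat_lit 0xbdfdfaf39) (.leaf (nat_lit 0xbdf3baf37) (nat_lit 1538))
 (.node (nat_lit 0xbdfe7af0e) (.leaf (nat_lit 0xbdfdfaf39) (nat_lit 1795))
 (.leaf (nat_lit 0xbdfe7af0e) (nat_lit 1281))
))) (.node (nat_lit 0xbe3e7a7ce) (.node (nat_lit 0xbe3dfa7f9) (.leaf (nat_lit 0xbe33ba7f7) (nat_lit 1280))
 (.leaf (nat_lit 0xbe3dfa7f9) (nat_lit 1536))
) (.node (nat_lit 0xbf77fae7c) (.leaf (nat_lit 0xbe3e7a7ce) (nat_lit 1027))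
 (.node (nat_lit 0xbf78fae5f) (.leaf (nat_lit 0xbf77fae7c) (nat_lit 1026))
 (.leaf (nat_lit 0xbf78fae5f) (nat_lit 1536))
))))) (.node (nat_lit 0xc5c5cf9fd) (.node (nat_lit 0xbfcdfa8f9) (.node (nat_lit 0xbf98fa39f) (.node (nat_lit 0xbf97fa3bc) (.leaf (nat_lit 0xbf7f3ae63) (nat_lit 1283))
 (.leaf (nat_lit 0xbf97fa3bc) (nat_lit 1282))
) (.node (nat_lit 0xbf9f3a3a3) (.leaf (nat_lit 0xbf98fa39f) (nat_lit 1793))
 (.node (nat_lit 0xbfc3ba8f7) (.leaf (nat_lit 0xbf9f3a3a3) (nat_lit 1537))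
 (.leaf (nat_lit 0xbfc3ba8f7) (nat_lit 1795))
))) (.node (nat_lit 0xc5770ff67) (.node (nat_lit 0xbfce7a8ce) (.leaf (nat_lit 0xbfcdfa8f9) (nat_lit 2050))
 (.leaf (nat_lit 0xbfce7a8ce) (nat_lit 1537))
) (.node (nat_lit 0xc579cff7b) (.leaf (nat_lit 0xc5770ff67) (nat_lit 1538))
 (.node (nat_lit 0xc57ecff5c) (.leaf (nat_lit 0xc579cff7b) (nat_lit 1794))
 (.leaf (nat_lit 0xc57ecff5c) (nat_lit 1281))
)))) (.node (nat_lit 0xc67f4feea) (.node (nat_lit 0xc5cf4f9ea) (.node (nat_lit 0xc5ca8f9d7) (.leaf (nat_lit 0xc5c5cf9fd) (nat_lit 1539))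
 (.leaf (nat_lit 0xc5ca8f9d7) (nat_lit 1282))
) (.node (nat_lit 0xc675cfefd) (.leaf (nat_lit 0xc5cf4f9ea) (nat_lit 1792))
 (.node (nat_lit 0xc67a8fed7) (.leaf (nat_lit 0xc675cfefd) (nat_lit 1793))
 (.leaf (nat_lit 0xc67a8fed7) (nat_lit 1538))
))) (.node (nat_lit 0xc6a9cf5fb) (.node (nat_lit 0xc6a70f5e7) (.leaf (nat_lit 0xc67f4feea) (nat_lit 2049))
 (.leaf (nat_lit 0xc6a70f5e7) (nat_lit 1280))
) (.node (nat_lit 0xc6aecf5dc) (.leaf (nat_lit 0xc6a9cf5fb) (nat_lit 1536))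
 (.node (nat_lit 0xc7b5cf73d) (.leaf (nat_lit 0xc6aecf5dc) (nat_lit 1027))
 (.leaf (nat_lit 0xc7b5cf73d) (nat_lit 1282))
)))))) (.node (nat_lit 0xcff79de35) (.node (nat_lit 0xcdefddd78) (.node (nat_lit 0xcc779dff5) (.node (nat_lit 0xc7d70faa7) (.node (nat_lit 0xc7bf4f72a) (.leaf (nat_lit 0xc7ba8f717) (nat_lit 1026))
 (.leaf (nat_lit 0xc7bf4f72a) (nat_lit 1538))
) (.node (nat_lit 0xc7d9cfabb) (.leaf (nat_lit 0xc7d70faa7) (nat_lit 1794))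
 (.node (nat_lit 0xc7decfa9c) (.leaf (nat_lit 0xc7d9cfabb) (nat_lit 1282))
 (.leaf (nat_lit 0xc7decfa9c) (nat_lit 1537))
))) (.node (nat_lit 0xcc7d5dfeb) (.node (nat_lit 0xcc7addfde) (.leaf (nat_lit 0xcc779dff5) (nat_lit 1282))
 (.leaf (nat_lit 0xcc7addfde) (nat_lit 1794))
) (.node (nat_lit 0xcde1ddd7f) (.leaf (nat_lit 0xcc7d5dfeb) (nat_lit 1538))
 (.node (nat_lit 0xcdee1dd47) (.leaf (nat_lit 0xcde1ddd7f) (nat_lit 1283))
 (.leaf (nat_lit 0xcdee1dd47) (nat_lit 1792))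
)))) (.node (nat_lit 0xcf5e1dac7) (.node (nat_lit 0xcebe1d787) (.node (nat_lit 0xceb1dd7bf) (.leaf (nat_lit 0xcdefddd78) (nat_lit 1536))
 (.leaf (nat_lit 0xceb1dd7bf) (nat_lit 1793))
) (.node (nat_lit 0xcebfdd7b8) (.leaf (nat_lit 0xcebe1d787) (nat_lit 1538))
 (.node (nat_lit 0xcf51ddaff) (.leaf (nat_lit 0xcebfdd7b8) (nat_lit 1283))
 (.leaf (nat_lit 0xcf51ddaff) (nat_lit 1537))
))) (.node (nat_lit 0xcf879d1f5) (.node (nat_lit 0xcf5fddaf8) (.leaf (nat_lit 0xcf5e1dac7) (nat_lit 2051))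
 (.leaf (nat_lit 0xcf5fddaf8) (nat_lit 1793))
) (.node (nat_lit 0xcf8add1de) (.leaf (nat_lit 0xcf879d1f5) (nat_lit 1794))
 (.node (nat_lit 0xcf8d5d1eb) (.leaf (nat_lit 0xcf8add1de) (nat_lit 1539))
 (.leaf (nat_lit 0xcf8d5d1eb) (nat_lit 1282))
))))) (.node (nat_lit 0xd6ee2bcc7) (.node (nat_lit 0xd47cebfdd) (.node (nat_lit 0xcffd5de2b) (.node (nat_lit 0xcffadde1e) (.leaf (nat_lit 0xcff79de35) (nat_lit 1538))
 (.leaf (nat_lit 0xcffadde1e) (nat_lit 1282))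
) (.node (nat_lit 0xd4776bfee) (.leaf (nat_lit 0xcffd5de2b) (nat_lit 1026))
 (.node (nat_lit 0xd47babff3) (.leaf (nat_lit 0xd4776bfee) (nat_lit 1793))
 (.leaf (nat_lit 0xd47babff3) (nat_lit 1283))
))) (.node (nat_lit 0xd5de2bb87) (.node (nat_lit 0xd5d1ebbbf) (.leaf (nat_lit 0xd47cebfdd) (nat_lit 1537))
 (.leaf (nat_lit 0xd5d1ebbbf) (nat_lit 1026))
) (.node (nat_lit 0xd5dfebbb8) (.leaf (nat_lit 0xd5de2bb87) (nat_lit 1537))
 (.node (nat_lit 0xd6e1ebcff) (.leaf (nat_lit 0xd5dfebbb8) (nat_lit 1281))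
 (.leaf (nat_lit 0xd6e1ebcff) (nat_lit 1280))
)))) (.node (nat_lit 0xd7876b1ee) (.node (nat_lit 0xd731eb77f) (.node (nat_lit 0xd6efebcf8) (.leaf (nat_lit 0xd6ee2bcc7) (nat_lit 1024))
 (.leaf (nat_lit 0xd6efebcf8) (nat_lit 771))
) (.node (nat_lit 0xd73e2b747) (.leaf (nat_lit 0xd731eb77f) (nat_lit 1537))
 (.node (nat_lit 0xd73feb778) (.leaf (nat_lit 0xd73e2b747) (nat_lit 1281))
 (.leaf (nat_lit 0xd73feb778) (nat_lit 1025))
))) (.node (nat_lit 0xd7f76be2e) (.node (nat_lit 0xd78bab1f3) (.leaf (nat_lit 0xd7876b1ee) (nat_lit 1536))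
 (.node (nat_lit 0xd78ceb1dd) (.leaf (nat_lit 0xd78bab1f3) (nat_lit 1792))
 (.leaf (nat_lit 0xd78ceb1dd) (nat_lit 1283))
)) (.node (nat_lit 0xd7fbabe33) (.leaf (nat_lit 0xd7f76be2e) (nat_lit 2049))
 (.node (nat_lit 0xd7fcebe1d) (.leaf (nat_lit 0xd7fbabe33) (nat_lit 1538))
 (.leaf (nat_lit 0xd7fcebe1d) (nat_lit 1793))
)))))))) (.node (nat_lit 0xef15dc3fd) (.node (nat_lit 0xe5fbcef3a) (.node (nat_lit 0xe1dd47bab) (.node (nat_lit 0xdef8f9e9f) (.node (nat_lit 0xddfeb9f15) (.node (nat_lit 0xdd5f39be3) (.node (nat_lit 0xdd58f9bdf) (.leaf (nat_lit 0xdd57f9bfc) (nat_lit 1537))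
 (.leaf (nat_lit 0xdd58f9bdf) (nat_lit 1281))
) (.node (nat_lit 0xddf579f2f) (.leaf (nat_lit 0xdd5f39be3) (nat_lit 1793))
 (.node (nat_lit 0xddfbf9f3a) (.leaf (nat_lit 0xddf579f2f) (nat_lit 770))
 (.leaf (nat_lit 0xddfbf9f3a) (nat_lit 1026))
))) (.node (nat_lit 0xde3bf97fa) (.node (nat_lit 0xde35797ef) (.leaf (nat_lit 0xddfeb9f15) (nat_lit 1282))
 (.leaf (nat_lit 0xde35797ef) (nat_lit 1282))
) (.node (nat_lit 0xde3eb97d5) (.leaf (nat_lit 0xde3bf97fa) (nat_lit 1537))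
 (.node (nat_lit 0xdef7f9ebc) (.leaf (nat_lit 0xde3eb97d5) (nat_lit 1794))
 (.leaf (nat_lit 0xdef7f9ebc) (nat_lit 1793))
)))) (.node (nat_lit 0xdfc5798ef) (.node (nat_lit 0xdfa7f957c) (.node (nat_lit 0xdeff39ea3) (.leaf (nat_lit 0xdef8f9e9f) (nat_lit 1537))
 (.leaf (nat_lit 0xdeff39ea3) (nat_lit 2049))
) (.node (nat_lit 0xdfa8f955f) (.leaf (nat_lit 0xdfa7f957c) (nat_lit 1280))
 (.node (nat_lit 0xdfaf39563) (.leaf (nat_lit 0xdfa8f955f) (nat_lit 1027))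
 (.leaf (nat_lit 0xdfaf39563) (nat_lit 1536))
))) (.node (nat_lit 0xdfceb98d5) (.node (nat_lit 0xdfcbf98fa) (.leaf (nat_lit 0xdfc5798ef) (nat_lit 1026))
 (.leaf (nat_lit 0xdfcbf98fa) (nat_lit 1283))
) (.node (nat_lit 0xe1d787bb5) (.leaf (nat_lit 0xdfceb98d5) (nat_lit 1536))
 (.node (nat_lit 0xe1dac7b9e) (.leaf (nat_lit 0xe1d787bb5) (nat_lit 1283))
 (.leaf (nat_lit 0xe1dac7b9e) (nat_lit 1026))
))))) (.node (nat_lit 0xe33787775) (.node (nat_lit 0xe2bb877b3) (.node (nat_lit 0xe1eb87d73) (.node (nat_lit 0xe1e747d6e) (.leaf (nat_lit 0xe1dd47bab) (nat_lit 1536))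
 (.leaf (nat_lit 0xe1e747d6e) (nat_lit 1282))
) (.node (nat_lit 0xe1ecc7d5d) (.leaf (nat_lit 0xe1eb87d73) (nat_lit 1538))
 (.node (nat_lit 0xe2b7477ae) (.leaf (nat_lit 0xe1ecc7d5d) (nat_lit 1025))
 (.leaf (nat_lit 0xe2b7477ae) (nat_lit 1024))
))) (.node (nat_lit 0xe2e787cf5) (.node (nat_lit 0xe2bcc779d) (.leaf (nat_lit 0xe2bb877b3) (nat_lit 1280))
 (.leaf (nat_lit 0xe2bcc779d) (nat_lit 771))
) (.node (nat_lit 0xe2eac7cde) (.leaf (nat_lit 0xe2e787cf5) (nat_lit 1537))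
 (.node (nat_lit 0xe2ed47ceb) (.leaf (nat_lit 0xe2eac7cde) (nat_lit 1282))
 (.leaf (nat_lit 0xe2ed47ceb) (nat_lit 1793))
)))) (.node (nat_lit 0xe35cc7add) (.node (nat_lit 0xe33d4776b) (.node (nat_lit 0xe33ac775e) (.leaf (nat_lit 0xe33787775) (nat_lit 1026))
 (.leaf (nat_lit 0xe33ac775e) (nat_lit 770))
) (.node (nat_lit 0xe35747aee) (.leaf (nat_lit 0xe33d4776b) (nat_lit 1282))
 (.node (nat_lit 0xe35b87af3) (.leaf (nat_lit 0xe35747aee) (nat_lit 1538))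
 (.leaf (nat_lit 0xe35b87af3) (nat_lit 1794))
))) (.node (nat_lit 0xe558cebdf) (.node (nat_lit 0xe557cebfc) (.leaf (nat_lit 0xe35cc7add) (nat_lit 1281))
 (.leaf (nat_lit 0xe557cebfc) (nat_lit 1027))
) (.node (nat_lit 0xe55f0ebe3) (.leaf (nat_lit 0xe558cebdf) (nat_lit 1538))
 (.node (nat_lit 0xe5f54ef2f) (.leaf (nat_lit 0xe55f0ebe3) (nat_lit 1280))
 (.leaf (nat_lit 0xe5f54ef2f) (nat_lit 1026))
)))))) (.node (nat_lit 0xea33957f7) (.node (nat_lit 0xe7af0e563) (.node (nat_lit 0xe6f7ceebc) (.node (nat_lit 0xe6354e7ef) (.node (nat_lit 0xe5fe8ef15) (.leaf (nat_lit 0xe5fbcef3a) (nat_lit 1282))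
 (.leaf (nat_lit 0xe5fe8ef15) (nat_lit 1537))
) (.node (nat_lit 0xe63bce7fa) (.leaf (nat_lit 0xe6354e7ef) (nat_lit 1536))
 (.node (nat_lit 0xe63e8e7d5) (.leaf (nat_lit 0xe63bce7fa) (nat_lit 1792))
 (.leaf (nat_lit 0xe63e8e7d5) (nat_lit 1283))
))) (.node (nat_lit 0xe6ff0eea3) (.node (nat_lit 0xe6f8cee9f) (.leaf (nat_lit 0xe6f7ceebc) (nat_lit 1281))
 (.leaf (nat_lit 0xe6f8cee9f) (nat_lit 1794))
) (.node (nat_lit 0xe7a7ce57c) (.leaf (nat_lit 0xe6ff0eea3) (nat_lit 1537))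
 (.node (nat_lit 0xe7a8ce55f) (.leaf (nat_lit 0xe7a7ce57c) (nat_lit 1538))
 (.leaf (nat_lit 0xe7a8ce55f) (nat_lit 1282))
)))) (.node (nat_lit 0xe8e8d5ddf) (.node (nat_lit 0xe7cbce8fa) (.node (nat_lit 0xe7c54e8ef) (.leaf (nat_lit 0xe7af0e563) (nat_lit 1794))
 (.leaf (nat_lit 0xe7c54e8ef) (nat_lit 1282))
) (.node (nat_lit 0xe7ce8e8d5) (.leaf (nat_lit 0xe7cbce8fa) (nat_lit 1538))
 (.node (nat_lit 0xe8e7d5dfc) (.leaf (nat_lit 0xe7ce8e8d5) (nat_lit 1793))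
 (.leaf (nat_lit 0xe8e7d5dfc) (nat_lit 1026))
))) (.node (nat_lit 0xe9f395f37) (.node (nat_lit 0xe8ef15de3) (.leaf (nat_lit 0xe8e8d5ddf) (nat_lit 1538))
 (.leaf (nat_lit 0xe8ef15de3) (nat_lit 1282))
) (.node (nat_lit 0xe9fdd5f39) (.leaf (nat_lit 0xe9f395f37) (nat_lit 1027))
 (.node (nat_lit 0xe9fe55f0e) (.leaf (nat_lit 0xe9fdd5f39) (nat_lit 1280))
 (.leaf (nat_lit 0xe9fe55f0e) (nat_lit 1536))
))))) (.node (nat_lit 0xebcdd58f9) (.node (nat_lit 0xeb7f15e63) (.node (nat_lit 0xea3e557ce) (.node (nat_lit 0xea3dd57f9) (.leaf (nat_lit 0xea33957f7) (nat_lit 1537))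
 (.leaf (nat_lit 0xea3dd57f9) (nat_lit 1795))
) (.node (nat_lit 0xeb77d5e7c) (.leaf (nat_lit 0xea3e557ce) (nat_lit 1282))
 (.node (nat_lit 0xeb78d5e5f) (.leaf (nat_lit 0xeb77d5e7c) (nat_lit 1282))
 (.leaf (nat_lit 0xeb78d5e5f) (nat_lit 1794))
))) (.node (nat_lit 0xeb98d539f) (.node (nat_lit 0xeb97d53bc) (.leaf (nat_lit 0xeb7f15e63) (nat_lit 1538))
 (.leaf (nat_lit 0xeb97d53bc) (nat_lit 1538))
) (.node (nat_lit 0xeb9f153a3) (.leaf (nat_lit 0xeb98d539f) (nat_lit 1283))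
 (.node (nat_lit 0xebc3958f7) (.leaf (nat_lit 0xeb9f153a3) (nat_lit 1794))
 (.leaf (nat_lit 0xebc3958f7) (nat_lit 1281))
)))) (.node (nat_lit 0xed73dcf7e) (.node (nat_lit 0xecf5dcfbd) (.node (nat_lit 0xebce558ce) (.leaf (nat_lit 0xebcdd58f9) (nat_lit 1537))
 (.leaf (nat_lit 0xebce558ce) (nat_lit 1795))
) (.node (nat_lit 0xecfa9cf97) (.leaf (nat_lit 0xecf5dcfbd) (nat_lit 770))
 (.node (nat_lit 0xecff5cfaa) (.leaf (nat_lit 0xecfa9cf97) (nat_lit 1282))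
 (.leaf (nat_lit 0xecff5cfaa) (nat_lit 1026))
))) (.node (nat_lit 0xeea3dc5fe) (.node (nat_lit 0xed7c5cf4f) (.leaf (nat_lit 0xed73dcf7e) (nat_lit 771))
 (.node (nat_lit 0xed7f9cf71) (.leaf (nat_lit 0xed7c5cf4f) (nat_lit 1280))
 (.leaf (nat_lit 0xed7f9cf71) (nat_lit 1024))
)) (.node (nat_lit 0xeeac5c5cf) (.leaf (nat_lit 0xeea3dc5fe) (nat_lit 1281))
 (.node (nat_lit 0xeeaf9c5f1) (.leaf (nat_lit 0xeeac5c5cf) (nat_lit 1794))
 (.leaf (nat_lit 0xeeaf9c5f1) (nat_lit 1539))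
))))))) (.node (nat_lit 0xf7bc6a70f) (.node (nat_lit 0xf37ea3e55) (.node (nat_lit 0xf0ebe3dfa) (.node (nat_lit 0xefdf9cab1) (.node (nat_lit 0xef1f5c3ea) (.node (nat_lit 0xef1a9c3d7) (.leaf (nat_lit 0xef15dc3fd) (nat_lit 1282))
 (.leaf (nat_lit 0xef1a9c3d7) (nat_lit 1795))
) (.node (nat_lit 0xefd3dcabe) (.leaf (nat_lit 0xef1f5c3ea) (nat_lit 1538))
 (.node (nat_lit 0xefdc5ca8f) (.leaf (nat_lit 0xefd3dcabe) (nat_lit 1025))
 (.leaf (nat_lit 0xefdc5ca8f) (nat_lit 1539))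
))) (.node (nat_lit 0xefea9cc57) (.node (nat_lit 0xefe5dcc7d) (.leaf (nat_lit 0xefdf9cab1) (nat_lit 1281))
 (.leaf (nat_lit 0xefe5dcc7d) (nat_lit 1026))
) (.node (nat_lit 0xefef5cc6a) (.leaf (nat_lit 0xefea9cc57) (nat_lit 1538))
 (.node (nat_lit 0xf0e563def) (.leaf (nat_lit 0xefef5cc6a) (nat_lit 1282))
 (.leaf (nat_lit 0xf0e563def) (nat_lit 1537))
)))) (.node (nat_lit 0xf2f3a3eb7) (.node (nat_lit 0xf153a3bf7) (.node (nat_lit 0xf0eea3dd5) (.leaf (nat_lit 0xf0ebe3dfa) (nat_lit 1795))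
 (.leaf (nat_lit 0xf0eea3dd5) (nat_lit 1281))
) (.node (nat_lit 0xf15de3bf9) (.leaf (nat_lit 0xf153a3bf7) (nat_lit 1538))
 (.node (nat_lit 0xf15e63bce) (.leaf (nat_lit 0xf15de3bf9) (nat_lit 1025))
 (.leaf (nat_lit 0xf15e63bce) (nat_lit 1281))
))) (.node (nat_lit 0xf2fe63e8e) (.node (nat_lit 0xf2fde3eb9) (.leaf (nat_lit 0xf2f3a3eb7) (nat_lit 1024))
 (.leaf (nat_lit 0xf2fde3eb9) (nat_lit 515))
) (.node (nat_lit 0xf37563e6f) (.leaf (nat_lit 0xf2fe63e8e) (nat_lit 768))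
 (.node (nat_lit 0xf37be3e7a) (.leaf (nat_lit 0xf37563e6f) (nat_lit 1793))
 (.leaf (nat_lit 0xf37be3e7a) (nat_lit 1282))
))))) (.node (nat_lit 0xf5c3ea9fe) (.node (nat_lit 0xf3ade3579) (.node (nat_lit 0xf39be33ba) (.node (nat_lit 0xf395633af) (.leaf (nat_lit 0xf37ea3e55) (nat_lit 1537))
 (.leaf (nat_lit 0xf395633af) (nat_lit 1280))
) (.node (nat_lit 0xf39ea3395) (.leaf (nat_lit 0xf39be33ba) (nat_lit 1536))
 (.node (nat_lit 0xf3a3a3577) (.leaf (nat_lit 0xf39ea3395) (nat_lit 1027))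
 (.leaf (nat_lit 0xf3a3a3577) (nat_lit 1281))
))) (.node (nat_lit 0xf4f72afa7) (.node (nat_lit 0xf3ae6354e) (.leaf (nat_lit 0xf3ade3579) (nat_lit 769))
 (.leaf (nat_lit 0xf3ae6354e) (nat_lit 1025))
) (.node (nat_lit 0xf4f9eafbb) (.leaf (nat_lit 0xf4f72afa7) (nat_lit 1281))
 (.node (nat_lit 0xf4feeaf9c) (.leaf (nat_lit 0xf4f9eafbb) (nat_lit 1539))
 (.leaf (nat_lit 0xf4feeaf9c) (nat_lit 1025))
)))) (.node (nat_lit 0xf67faaef1) (.node (nat_lit 0xf5cfaa9f1) (.node (nat_lit 0xf5cc6a9cf) (.leaf (nat_lit 0xf5c3ea9fe) (nat_lit 1282))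
 (.leaf (nat_lit 0xf5cc6a9cf) (nat_lit 1793))
) (.node (nat_lit 0xf673eaefe) (.leaf (nat_lit 0xf5cfaa9f1) (nat_lit 1537))
 (.node (nat_lit 0xf67c6aecf) (.leaf (nat_lit 0xf673eaefe) (nat_lit 1536))
 (.leaf (nat_lit 0xf67c6aecf) (nat_lit 1280))
))) (.node (nat_lit 0xf719ea3fb) (.node (nat_lit 0xf7172a3e7) (.leaf (nat_lit 0xf67faaef1) (nat_lit 1027))
 (.leaf (nat_lit 0xf7172a3e7) (nat_lit 1024))
) (.node (nat_lit 0xf71eea3dc) (.leaf (nat_lit 0xf719ea3fb) (nat_lit 1280))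
 (.node (nat_lit 0xf7b3ea73e) (.leaf (nat_lit 0xf71eea3dc) (nat_lit 771))
 (.leaf (nat_lit 0xf7b3ea73e) (nat_lit 1793))
)))))) (.node (nat_lit 0xfbd731aa7) (.node (nat_lit 0xf9cf719ea) (.node (nat_lit 0xf97731f67) (.node (nat_lit 0xf7e72ac67) (.node (nat_lit 0xf7bfaa731) (.leaf (nat_lit 0xf7bc6a70f) (nat_lit 1537))
 (.leaf (nat_lit 0xf7bfaa731) (nat_lit 1281))
) (.node (nat_lit 0xf7e9eac7b) (.leaf (nat_lit 0xf7e72ac67) (nat_lit 1537))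
 (.node (nat_lit 0xf7eeeac5c) (.leaf (nat_lit 0xf7e9eac7b) (nat_lit 1794))
 (.leaf (nat_lit 0xf7eeeac5c) (nat_lit 1281))
))) (.node (nat_lit 0xf97ef1f5c) (.node (nat_lit 0xf979f1f7b) (.leaf (nat_lit 0xf97731f67) (nat_lit 1282))
 (.leaf (nat_lit 0xf979f1f7b) (nat_lit 1538))
) (.node (nat_lit 0xf9c5f19fd) (.leaf (nat_lit 0xf97ef1f5c) (nat_lit 1794))
 (.node (nat_lit 0xf9cab19d7) (.leaf (nat_lit 0xf9c5f19fd) (nat_lit 1281))
 (.leaf (nat_lit 0xf9cab19d7) (nat_lit 1025))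
)))) (.node (nat_lit 0xfaa9f15fb) (.node (nat_lit 0xfa7ab1ed7) (.node (nat_lit 0xfa75f1efd) (.leaf (nat_lit 0xf9cf719ea) (nat_lit 1537))
 (.leaf (nat_lit 0xfa75f1efd) (nat_lit 1537))
) (.node (nat_lit 0xfa7f71eea) (.leaf (nat_lit 0xfa7ab1ed7) (nat_lit 1281))
 (.node (nat_lit 0xfaa7315e7) (.leaf (nat_lit 0xfa7f71eea) (nat_lit 1793))
 (.leaf (nat_lit 0xfaa7315e7) (nat_lit 1794))
))) (.node (nat_lit 0xfbb5f173d) (.node (nat_lit 0xfaaef15dc) (.leaf (nat_lit 0xfaa9f15fb) (nat_lit 1281))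
 (.leaf (nat_lit 0xfaaef15dc) (nat_lit 1538))
) (.node (nat_lit 0xfbbab1717) (.leaf (nat_lit 0xfbb5f173d) (nat_lit 1024))
 (.node (nat_lit 0xfbbf7172a) (.leaf (nat_lit 0xfbbab1717) (nat_lit 771))
 (.leaf (nat_lit 0xfbbf7172a) (nat_lit 1280))
))))) (.node (nat_lit 0xfebbb87b3) (.node (nat_lit 0xfddd78bab) (.node (nat_lit 0xfbdef1a9c) (.node (nat_lit 0xfbd9f1abb) (.leaf (nat_lit 0xfbd731aa7) (nat_lit 1538))
 (.leaf (nat_lit 0xfbd9f1abb) (nat_lit 1027))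
) (.node (nat_lit 0xfdd7b8bb5) (.leaf (nat_lit 0xfbdef1a9c) (nat_lit 1280))
 (.node (nat_lit 0xfddaf8b9e) (.leaf (nat_lit 0xfdd7b8bb5) (nat_lit 1025))
 (.leaf (nat_lit 0xfddaf8b9e) (nat_lit 769))
))) (.node (nat_lit 0xfdebb8d73) (.node (nat_lit 0xfde778d6e) (.leaf (nat_lit 0xfddd78bab) (nat_lit 1281))
 (.leaf (nat_lit 0xfde778d6e) (nat_lit 1026))
) (.node (nat_lit 0xfdecf8d5d) (.leaf (nat_lit 0xfdebb8d73) (nat_lit 1282))
 (.node (nat_lit 0xfeb7787ae) (.leaf (nat_lit 0xfdecf8d5d) (nat_lit 1538))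
 (.leaf (nat_lit 0xfeb7787ae) (nat_lit 1538))
)))) (.node (nat_lit 0xff37b8775) (.node (nat_lit 0xfee7b8cf5) (.node (nat_lit 0xfebcf879d) (.leaf (nat_lit 0xfebbb87b3) (nat_lit 1793))
 (.leaf (nat_lit 0xfebcf879d) (nat_lit 1282))
) (.node (nat_lit 0xfeeaf8cde) (.leaf (nat_lit 0xfee7b8cf5) (nat_lit 1281))
 (.node (nat_lit 0xfeed78ceb) (.leaf (nat_lit 0xfeeaf8cde) (nat_lit 1025))
 (.leaf (nat_lit 0xfeed78ceb) (nat_lit 1537))
))) (.node (nat_lit 0xff5778aee) (.node (nat_lit 0xff3af875e) (.leaf (nat_lit 0xff37b8775) (nat_lit 768))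
 (.node (nat_lit 0xff3d7876b) (.leaf (nat_lit 0xff3af875e) (nat_lit 515))
 (.leaf (nat_lit 0xff3d7876b) (nat_lit 1024))
)) (.node (nat_lit 0xff5bb8af3) (.leaf (nat_lit 0xff5778aee) (nat_lit 1282))
 (.node (nat_lit 0xff5cf8add) (.leaf (nat_lit 0xff5bb8af3) (nat_lit 1539))
 (.leaf (nat_lit 0xff5cf8add) (nat_lit 1792))
))))))))))

theorem Ca_ok : genOK B6.A [(nat_lit 0x810044089), (nat_lit 0x802204481), (nat_lit 0x110224081), (nat_lit 0x70f5e7fbd)] Ca_t (nat_lit 648) = true := by decide +kernel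

end Cfsg.Agent.T16.Sp6
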