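import Mathlib
import Cfsg.Agent.Rec.B6
import Cfsg.Agent.Rec.Orb

/-! Generated by tools/rec: subgroups and classes of Sp6(2) -/

set_option autoImplicit false
set_option maxRecDepth 100000
set_option linter.unusedVariables false
set_option exponentiation.threshold 100000

namespace Cfsg.Agent.T16.Sp6

open Cfsg.Agent.Spor Cfsg.Agent.Rec

universe u

noncomputable def D_t : ST :=
(.node (nat_lit 0x81086d0a8) (.node (nat_lit 0x7efdfbf7e) (.node (nat_lit 0x3ff9eb0ae) (.node (nat_lit 0x1f7be3081) (.node (nat_lit 0x150b61081) (.leaf (nat_lit 0x110220081) (nat_lit 3844))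
 (.node (nat_lit 0x1b6222081) (.leaf (nat_lit 0x150b61081) (nat_lit 771))
 (.leaf (nat_lit 0x1b6222081) (nat_lit 3334))
)) (.node (nat_lit 0x3509690ac) (.node (nat_lit 0x3102280ad) (.leaf (nat_lit 0x1f7be3081) (nat_lit 1798))
 (.leaf (nat_lit 0x3102280ad) (nat_lit 3846))
) (.node (nat_lit 0x3be22a0af) (.leaf (nat_lit 0x3509690ac) (nat_lit 3590))
 (.leaf (nat_lit 0x3be22a0af) (nat_lit 2821))
))) (.node (nat_lit 0x5e7ff3d41) (.node (nat_lit 0x550f71dc1) (.node (nat_lit 0x510230d81) (.leaf (nat_lit 0x3ff9eb0ae) (nat_lit 2563))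
 (.leaf (nat_lit 0x510230d81) (nat_lit 3846))
) (.node (nat_lit 0x5a6232d01) (.leaf (nat_lit 0x550f71dc1) (nat_lit 1286))
 (.leaf (nat_lit 0x5a6232d01) (nat_lit 3590))
)) (.node (nat_lit 0x750d79ffc) (.node (nat_lit 0x710238fbd) (.leaf (nat_lit 0x5e7ff3d41) (nat_lit 1542))
 (.leaf (nat_lit 0x710238fbd) (nat_lit 3333))
) (.node (nat_lit 0x7ae23af3f) (.leaf (nat_lit 0x750d79ffc) (nat_lit 3075))
 (.leaf (nat_lit 0x7ae23af3f) (nat_lit 3077))
)))) (.node (nat_lit 0x810204699) (.node (nat_lit 0x80b4c465a) (.node (nat_lit 0x8036c4441) (.node (nat_lit 0x802204401) (.leaf (nat_lit 0x7efdfbf7e) (nat_lit 2819))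
 (.leaf (nat_lit 0x802204401) (nat_lit 3842))
) (.node (nat_lit 0x80a20461b) (.leaf (nat_lit 0x8036c4441) (nat_lit 2306))
 (.leaf (nat_lit 0x80a20461b) (nat_lit 2309))
)) (.node (nat_lit 0x810204089) (.node (nat_lit 0x810044088) (.leaf (nat_lit 0x80b4c465a) (nat_lit 2052))
 (.leaf (nat_lit 0x810044088) (nat_lit 261))
) (.node (nat_lit 0x810204481) (.leaf (nat_lit 0x810204089) (nat_lit 0))
 (.leaf (nat_lit 0x810204481) (nat_lit 4097))
))) (.node (nat_lit 0x81023ceb9) (.node (nat_lit 0x81022c0a9) (.node (nat_lit 0x810224081) (.leaf (nat_lit 0x810204699) (nat_lit 2053))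
 (.leaf (nat_lit 0x810224081) (nat_lit 4099))
) (.node (nat_lit 0x810234c81) (.leaf (nat_lit 0x81022c0a9) (nat_lit 4099))
 (.leaf (nat_lit 0x810234c81) (nat_lit 4099))
)) (.node (nat_lit 0x8104446d8) (.node (nat_lit 0x810244081) (.leaf (nat_lit 0x81023ceb9) (nat_lit 3077))
 (.leaf (nat_lit 0x810244081) (nat_lit 4100))
) (.node (nat_lit 0x8106444c1) (.leaf (nat_lit 0x8104446d8) (nat_lit 1796))
 (.leaf (nat_lit 0x8106444c1) (nat_lit 2561))
))))) (.node (nat_lit 0x910204081) (.node (nat_lit 0x822236c01) (.node (nat_lit 0x812204081) (.node (nat_lit 0x810c7def8) (.node (nat_lit 0x810a65081) (.leaf (nat_lit 0x81086d0a8) (nat_lit 3843))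
 (.leaf (nat_lit 0x810a65081) (nat_lit 516))
) (.node (nat_lit 0x810e75cc1) (.leaf (nat_lit 0x810c7def8) (nat_lit 2820))
 (.leaf (nat_lit 0x810e75cc1) (nat_lit 1539))
)) (.node (nat_lit 0x81a20408b) (.node (nat_lit 0x8132c4081) (.leaf (nat_lit 0x812204081) (nat_lit 4098))
 (.leaf (nat_lit 0x8132c4081) (nat_lit 2050))
) (.node (nat_lit 0x81b0c408a) (.leaf (nat_lit 0x81a20408b) (nat_lit 2565))
 (.leaf (nat_lit 0x81b0c408a) (nat_lit 2308))
))) (.node (nat_lit 0x832226081) (.node (nat_lit 0x82a23ee3b) (.node (nat_lit 0x823ef7c41) (.leaf (nat_lit 0x822236c01) (nat_lit 3843))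
 (.leaf (nat_lit 0x823ef7c41) (nat_lit 1795))
) (.node (nat_lit 0x82bcffe7a) (.leaf (nat_lit 0x82a23ee3b) (nat_lit 2821))
 (.leaf (nat_lit 0x82bcffe7a) (nat_lit 2564))
)) (.node (nat_lit 0x83a22e0ab) (.node (nat_lit 0x833ae7081) (.leaf (nat_lit 0x832226081) (nat_lit 3587))
 (.leaf (nat_lit 0x833ae7081) (nat_lit 2051))
) (.node (nat_lit 0x83b8ef0aa) (.leaf (nat_lit 0x83a22e0ab) (nat_lit 2565))
 (.leaf (nat_lit 0x83b8ef0aa) (nat_lit 2308))
)))) (.node (nat_lit 0xd10204581) (.node (nat_lit 0xb1020408d) (.node (nat_lit 0x996204081) (.node (nat_lit 0x950344081) (.leaf (nat_lit 0x910204081) (nat_lit 4102))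
 (.leaf (nat_lit 0x950344081) (nat_lit 1030))
) (.node (nat_lit 0x9d73c4081) (.leaf (nat_lit 0x996204081) (nat_lit 3076))
 (.leaf (nat_lit 0x9d73c4081) (nat_lit 1536))
)) (.node (nat_lit 0xb9e20408f) (.node (nat_lit 0xb5014408c) (.leaf (nat_lit 0xb1020408d) (nat_lit 3589))
 (.leaf (nat_lit 0xb5014408c) (nat_lit 3330))
) (.node (nat_lit 0xbdf1c408e) (.leaf (nat_lit 0xb9e20408f) (nat_lit 3078))
 (.leaf (nat_lit 0xbdf1c408e) (nat_lit 2822))
))) (.node (nat_lit 0xf1020479d) (.node (nat_lit 0xd86204501) (.node (nat_lit 0xd507445c1) (.leaf (nat_lit 0xd10204581) (nat_lit 3588))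
 (.leaf (nat_lit 0xd507445c1) (nat_lit 1026))
) (.node (nat_lit 0xdc77c4541) (.leaf (nat_lit 0xd86204501) (nat_lit 3332))
 (.leaf (nat_lit 0xdc77c4541) (nat_lit 1281))
)) (.node (nat_lit 0xf8e20471f) (.node (nat_lit 0xf505447dc) (.leaf (nat_lit 0xf1020479d) (nat_lit 3590))
 (.leaf (nat_lit 0xf505447dc) (nat_lit 3334))
) (.node (nat_lit 0xfcf5c475e) (.leaf (nat_lit 0xf8e20471f) (nat_lit 3334))
 (.leaf (nat_lit 0xfcf5c475e) (nat_lit 3078))
))))))

theorem D_ok : orbOK B6.A [(nat_lit 0x810204481), (nat_lit 0x812204081), (nat_lit 0x810234c81), (nat_lit 0x910204081), (nat_lit 0x81022c0a9), (nat_lit 0x810244081), (nat_lit 0x810224081)] (nat_lit 0x810204089) D_t (nat_lit 63) = true := by decide +kernel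

noncomputable def Dt_t : ST :=
(.node (nat_lit 0x81820c0a3) (.node (nat_lit 0x4ac20a333) (.node (nat_lit 0x279d93ad6) (.node (nat_lit 0xdd9890a2) (.node (nat_lit 0x85a91801) (.node (nat_lit 0x7118a0a0) (.node (nat_lit 0x509090a0) (.node (nat_lit 0x505188e0) (.leaf (nat_lit 0x501080a0) (nat_lit 2308))
 (.leaf (nat_lit 0x505188e0) (nat_lit 1796))
) (.node (nat_lit 0x50d198e0) (.leaf (nat_lit 0x509090a0) (nat_lit 2052))
 (.leaf (nat_lit 0x50d198e0) (nat_lit 2052))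
)) (.node (nat_lit 0x7198b0a0) (.node (nat_lit 0x7159a8e0) (.leaf (nat_lit 0x7118a0a0) (nat_lit 1284))
 (.leaf (nat_lit 0x7159a8e0) (nat_lit 1540))
) (.node (nat_lit 0x71d9b8e0) (.leaf (nat_lit 0x7198b0a0) (nat_lit 1540))
 (.node (nat_lit 0x84210801) (.leaf (nat_lit 0x71d9b8e0) (nat_lit 1796))
 (.leaf (nat_lit 0x84210801) (nat_lit 5380))
)))) (.node (nat_lit 0xac21a823) (.node (nat_lit 0x8da99823) (.node (nat_lit 0x8c218823) (.leaf (nat_lit 0x85a91801) (nat_lit 1282))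
 (.leaf (nat_lit 0x8c218823) (nat_lit 4869))
) (.node (nat_lit 0xa4212801) (.leaf (nat_lit 0x8da99823) (nat_lit 4611))
 (.node (nat_lit 0xa5a93801) (.leaf (nat_lit 0xa4212801) (nat_lit 5124))
 (.leaf (nat_lit 0xa5a93801) (nat_lit 1537))
))) (.node (nat_lit 0xc4710841) (.node (nat_lit 0xada9b823) (.leaf (nat_lit 0xac21a823) (nat_lit 5125))
 (.leaf (nat_lit 0xada9b823) (nat_lit 4867))
) (.node (nat_lit 0xc5f91841) (.leaf (nat_lit 0xc4710841) (nat_lit 2310))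
 (.node (nat_lit 0xdc1080a2) (.leaf (nat_lit 0xc5f91841) (nat_lit 1794))
 (.leaf (nat_lit 0xdc1080a2) (nat_lit 3331))
))))) (.node (nat_lit 0x23880b0a6) (.node (nat_lit 0x210801084) (.node (nat_lit 0xe5792841) (.node (nat_lit 0xe4f13841) (.leaf (nat_lit 0xdd9890a2) (nat_lit 3587))
 (.leaf (nat_lit 0xe4f13841) (nat_lit 2049))
) (.node (nat_lit 0xfc90b0a2) (.leaf (nat_lit 0xe5792841) (nat_lit 2054))
 (.node (nat_lit 0xfd18a0a2) (.leaf (nat_lit 0xfc90b0a2) (nat_lit 3587))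
 (.leaf (nat_lit 0xfd18a0a2) (nat_lit 3843))
))) (.node (nat_lit 0x210811a94) (.node (nat_lit 0x2108090a4) (.leaf (nat_lit 0x210801084) (nat_lit 2566))
 (.leaf (nat_lit 0x2108090a4) (nat_lit 2307))
) (.node (nat_lit 0x210819ab4) (.leaf (nat_lit 0x210811a94) (nat_lit 2562))
 (.node (nat_lit 0x238803086) (.leaf (nat_lit 0x210819ab4) (nat_lit 2822))
 (.leaf (nat_lit 0x238803086) (nat_lit 3072))
)))) (.node (nat_lit 0x250901084) (.node (nat_lit 0x23881bab6) (.node (nat_lit 0x238813a96) (.leaf (nat_lit 0x23880b0a6) (nat_lit 3334))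
 (.leaf (nat_lit 0x238813a96) (nat_lit 2817))
) (.node (nat_lit 0x2501080a4) (.leaf (nat_lit 0x23881bab6) (nat_lit 3078))
 (.node (nat_lit 0x250518af4) (.leaf (nat_lit 0x2501080a4) (nat_lit 2563))
 (.leaf (nat_lit 0x250518af4) (nat_lit 3078))
))) (.node (nat_lit 0x27918a0a6) (.node (nat_lit 0x250d11ad4) (.leaf (nat_lit 0x250901084) (nat_lit 2822))
 (.leaf (nat_lit 0x250d11ad4) (nat_lit 2818))
) (.node (nat_lit 0x27959aaf6) (.leaf (nat_lit 0x27918a0a6) (nat_lit 3590))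
 (.node (nat_lit 0x279983086) (.leaf (nat_lit 0x27959aaf6) (nat_lit 3334))
 (.leaf (nat_lit 0x279983086) (nat_lit 3328))
)))))) (.node (nat_lit 0x420212901) (.node (nat_lit 0x2c4710a55) (.node (nat_lit 0x29d8890a6) (.node (nat_lit 0x28c218a37) (.node (nat_lit 0x284210a15) (.leaf (nat_lit 0x279d93ad6) (nat_lit 3073))
 (.leaf (nat_lit 0x284210a15) (nat_lit 3845))
) (.node (nat_lit 0x295881084) (.leaf (nat_lit 0x28c218a37) (nat_lit 4357))
 (.leaf (nat_lit 0x295881084) (nat_lit 2054))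
)) (.node (nat_lit 0x2ac212a17) (.node (nat_lit 0x2a421aa35) (.leaf (nat_lit 0x29d8890a6) (nat_lit 3334))
 (.leaf (nat_lit 0x2a421aa35) (nat_lit 4101))
) (.node (nat_lit 0x2b588b0a4) (.leaf (nat_lit 0x2ac212a17) (nat_lit 4101))
 (.node (nat_lit 0x2bd883086) (.leaf (nat_lit 0x2b588b0a4) (nat_lit 1795))
 (.leaf (nat_lit 0x2bd883086) (nat_lit 3072))
)))) (.node (nat_lit 0x2ed792a57) (.node (nat_lit 0x2d5981084) (.node (nat_lit 0x2cdf99a77) (.leaf (nat_lit 0x2c4710a55) (nat_lit 3588))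
 (.leaf (nat_lit 0x2cdf99a77) (nat_lit 4100))
) (.node (nat_lit 0x2dc1080a6) (.leaf (nat_lit 0x2d5981084) (nat_lit 1798))
 (.node (nat_lit 0x2e4f1ba75) (.leaf (nat_lit 0x2dc1080a6) (nat_lit 3078))
 (.leaf (nat_lit 0x2e4f1ba75) (nat_lit 3844))
))) (.node (nat_lit 0x2fc903086) (.node (nat_lit 0x2f518a0a4) (.leaf (nat_lit 0x2ed792a57) (nat_lit 3844))
 (.leaf (nat_lit 0x2f518a0a4) (nat_lit 1539))
) (.node (nat_lit 0x420202101) (.leaf (nat_lit 0x2fc903086) (nat_lit 2816))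
 (.node (nat_lit 0x42020a331) (.leaf (nat_lit 0x420202101) (nat_lit 4612))
 (.leaf (nat_lit 0x42020a331) (nat_lit 4613))
))))) (.node (nat_lit 0x461382101) (.node (nat_lit 0x420e1bb71) (.node (nat_lit 0x420e03141) (.node (nat_lit 0x42021ab31) (.leaf (nat_lit 0x420212901) (nat_lit 4868))
 (.leaf (nat_lit 0x42021ab31) (nat_lit 4357))
) (.node (nat_lit 0x420e0b371) (.leaf (nat_lit 0x420e03141) (nat_lit 2048))
 (.node (nat_lit 0x420e13941) (.leaf (nat_lit 0x420e0b371) (nat_lit 4355))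
 (.leaf (nat_lit 0x420e13941) (nat_lit 1793))
))) (.node (nat_lit 0x450518bf0) (.node (nat_lit 0x4501083b0) (.leaf (nat_lit 0x420e1bb71) (nat_lit 4099))
 (.leaf (nat_lit 0x4501083b0) (nat_lit 2819))
) (.node (nat_lit 0x450919bb0) (.leaf (nat_lit 0x450518bf0) (nat_lit 3331))
 (.node (nat_lit 0x450d093f0) (.leaf (nat_lit 0x450919bb0) (nat_lit 3075))
 (.leaf (nat_lit 0x450d093f0) (nat_lit 3075))
)))) (.node (nat_lit 0x485e91941) (.node (nat_lit 0x461b93901) (.node (nat_lit 0x461792941) (.leaf (nat_lit 0x461382101) (nat_lit 2054))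
 (.leaf (nat_lit 0x461792941) (nat_lit 2307))
) (.node (nat_lit 0x461f83141) (.leaf (nat_lit 0x461b93901) (nat_lit 1793))
 (.node (nat_lit 0x484210901) (.leaf (nat_lit 0x461f83141) (nat_lit 2051))
 (.leaf (nat_lit 0x484210901) (nat_lit 5126))
))) (.node (nat_lit 0x48de99b73) (.node (nat_lit 0x48c218b33) (.leaf (nat_lit 0x485e91941) (nat_lit 1538))
 (.leaf (nat_lit 0x48c218b33) (nat_lit 4613))
) (.node (nat_lit 0x4a4202101) (.leaf (nat_lit 0x48de99b73) (nat_lit 4355))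
 (.node (nat_lit 0x4a5e83141) (.leaf (nat_lit 0x4a4202101) (nat_lit 4868))
 (.leaf (nat_lit 0x4a5e83141) (nat_lit 1798))
))))))) (.node (nat_lit 0x6ed382107) (.node (nat_lit 0x6505189e4) (.node (nat_lit 0x4fd59abf2) (.node (nat_lit 0x4dc1083b2) (.node (nat_lit 0x4c4710941) (.node (nat_lit 0x4ade8b373) (.leaf (nat_lit 0x4ac20a333) (nat_lit 4870))
 (.leaf (nat_lit 0x4ade8b373) (nat_lit 4614))
) (.node (nat_lit 0x4c5b91901) (.leaf (nat_lit 0x4c4710941) (nat_lit 2566))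
 (.leaf (nat_lit 0x4c5b91901) (nat_lit 1538))
)) (.node (nat_lit 0x4e4f03141) (.node (nat_lit 0x4ddd893f2) (.leaf (nat_lit 0x4dc1083b2) (nat_lit 3075))
 (.leaf (nat_lit 0x4ddd893f2) (nat_lit 3331))
) (.node (nat_lit 0x4e5382101) (.leaf (nat_lit 0x4e4f03141) (nat_lit 2304))
 (.node (nat_lit 0x4fc91bbb2) (.leaf (nat_lit 0x4e5382101) (nat_lit 1798))
 (.leaf (nat_lit 0x4fc91bbb2) (nat_lit 3331))
)))) (.node (nat_lit 0x628202107) (.node (nat_lit 0x610c093f4) (.node (nat_lit 0x610c011c4) (.leaf (nat_lit 0x4fd59abf2) (nat_lit 3587))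
 (.leaf (nat_lit 0x610c011c4) (nat_lit 2566))
) (.node (nat_lit 0x610c11bd4) (.leaf (nat_lit 0x610c093f4) (nat_lit 2822))
 (.node (nat_lit 0x610c199e4) (.leaf (nat_lit 0x610c11bd4) (nat_lit 2562))
 (.leaf (nat_lit 0x610c199e4) (nat_lit 2307))
))) (.node (nat_lit 0x628212b17) (.node (nat_lit 0x62820a337) (.leaf (nat_lit 0x628202107) (nat_lit 4613))
 (.leaf (nat_lit 0x62820a337) (nat_lit 4613))
) (.node (nat_lit 0x62821a927) (.leaf (nat_lit 0x628212b17) (nat_lit 4357))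
 (.node (nat_lit 0x6501083b4) (.leaf (nat_lit 0x62821a927) (nat_lit 4869))
 (.leaf (nat_lit 0x6501083b4) (nat_lit 2566))
))))) (.node (nat_lit 0x69dc893f6) (.node (nat_lit 0x669b9b927) (.node (nat_lit 0x650d011c4) (.node (nat_lit 0x650911b94) (.leaf (nat_lit 0x6505189e4) (nat_lit 2051))
 (.leaf (nat_lit 0x650911b94) (nat_lit 2306))
) (.node (nat_lit 0x669382107) (.leaf (nat_lit 0x650d011c4) (nat_lit 2310))
 (.node (nat_lit 0x669792b57) (.leaf (nat_lit 0x669382107) (nat_lit 4356))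
 (.leaf (nat_lit 0x669792b57) (nat_lit 4099))
))) (.node (nat_lit 0x684210b15) (.node (nat_lit 0x669f8b377) (.leaf (nat_lit 0x669b9b927) (nat_lit 4612))
 (.leaf (nat_lit 0x669f8b377) (nat_lit 4356))
) (.node (nat_lit 0x68c218927) (.leaf (nat_lit 0x684210b15) (nat_lit 4101))
 (.node (nat_lit 0x695c811c4) (.leaf (nat_lit 0x68c218927) (nat_lit 4613))
 (.leaf (nat_lit 0x695c811c4) (nat_lit 2310))
)))) (.node (nat_lit 0x6c4710b55) (.node (nat_lit 0x6ac202107) (.node (nat_lit 0x6a420a335) (.leaf (nat_lit 0x69dc893f6) (nat_lit 3078))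
 (.leaf (nat_lit 0x6a420a335) (nat_lit 4357))
) (.node (nat_lit 0x6b5c9b9e4) (.leaf (nat_lit 0x6ac202107) (nat_lit 4357))
 (.node (nat_lit 0x6bdc93bd6) (.leaf (nat_lit 0x6b5c9b9e4) (nat_lit 2051))
 (.leaf (nat_lit 0x6bdc93bd6) (nat_lit 2817))
))) (.node (nat_lit 0x6d5d811c4) (.node (nat_lit 0x6cdb99927) (.leaf (nat_lit 0x6c4710b55) (nat_lit 3844))
 (.leaf (nat_lit 0x6cdb99927) (nat_lit 4356))
) (.node (nat_lit 0x6dc1083b6) (.leaf (nat_lit 0x6d5d811c4) (nat_lit 2054))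
 (.node (nat_lit 0x6e4f0b375) (.leaf (nat_lit 0x6dc1083b6) (nat_lit 2822))
 (.leaf (nat_lit 0x6e4f0b375) (nat_lit 4100))
)))))) (.node (nat_lit 0x81021c8a1) (.node (nat_lit 0x80841ca72) (.node (nat_lit 0x801895a10) (.node (nat_lit 0x6fc913b96) (.node (nat_lit 0x6f559a9e4) (.leaf (nat_lit 0x6ed382107) (nat_lit 4100))
 (.leaf (nat_lit 0x6f559a9e4) (nat_lit 1795))
) (.node (nat_lit 0x801084210) (.leaf (nat_lit 0x6fc913b96) (nat_lit 2561))
 (.node (nat_lit 0x801484250) (.leaf (nat_lit 0x801084210) (nat_lit 3332))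
 (.leaf (nat_lit 0x801484250) (nat_lit 3588))
))) (.node (nat_lit 0x808404042) (.node (nat_lit 0x801c95a50) (.leaf (nat_lit 0x801895a10) (nat_lit 3841))
 (.leaf (nat_lit 0x801c95a50) (nat_lit 3588))
) (.node (nat_lit 0x808404252) (.leaf (nat_lit 0x808404042) (nat_lit 3074))
 (.node (nat_lit 0x80841c862) (.leaf (nat_lit 0x808404252) (nat_lit 3333))
 (.leaf (nat_lit 0x80841c862) (nat_lit 3077))
)))) (.node (nat_lit 0x810204291) (.node (nat_lit 0x809484042) (.node (nat_lit 0x809084212) (.leaf (nat_lit 0x80841ca72) (nat_lit 2819))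
 (.leaf (nat_lit 0x809084212) (nat_lit 3076))
) (.node (nat_lit 0x80989da32) (.leaf (nat_lit 0x809484042) (nat_lit 2820))
 (.node (nat_lit 0x809c9d862) (.leaf (nat_lit 0x80989da32) (nat_lit 2563))
 (.leaf (nat_lit 0x809c9d862) (nat_lit 2820))
))) (.node (nat_lit 0x81020c2b1) (.node (nat_lit 0x81020c0a1) (.leaf (nat_lit 0x810204291) (nat_lit 0))
 (.leaf (nat_lit 0x81020c0a1) (nat_lit 2051))
) (.node (nat_lit 0x810214881) (.leaf (nat_lit 0x81020c2b1) (nat_lit 1025))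
 (.node (nat_lit 0x810214a91) (.leaf (nat_lit 0x810214881) (nat_lit 6147))
 (.leaf (nat_lit 0x810214a91) (nat_lit 5125))
))))) (.node (nat_lit 0x810e050c1) (.node (nat_lit 0x810614ad1) (.node (nat_lit 0x8106040c1) (.node (nat_lit 0x81021cab1) (.leaf (nat_lit 0x81021c8a1) (nat_lit 3077))
 (.leaf (nat_lit 0x81021cab1) (nat_lit 4101))
) (.node (nat_lit 0x8106042d1) (.leaf (nat_lit 0x8106040c1) (nat_lit 4609))
 (.node (nat_lit 0x8106148c1) (.leaf (nat_lit 0x8106042d1) (nat_lit 261))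
 (.leaf (nat_lit 0x8106148c1) (nat_lit 516))
))) (.node (nat_lit 0x810a0d0a1) (.node (nat_lit 0x810a05081) (.leaf (nat_lit 0x810614ad1) (nat_lit 4868))
 (.leaf (nat_lit 0x810a05081) (nat_lit 2564))
) (.node (nat_lit 0x810a15881) (.leaf (nat_lit 0x810a0d0a1) (nat_lit 2309))
 (.node (nat_lit 0x810a1d8a1) (.leaf (nat_lit 0x810a15881) (nat_lit 2563))
 (.leaf (nat_lit 0x810a1d8a1) (nat_lit 2820))
)))) (.node (nat_lit 0x8116840c1) (.node (nat_lit 0x810e158c1) (.node (nat_lit 0x810e0d2f1) (.leaf (nat_lit 0x810e050c1) (nat_lit 3587))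
 (.leaf (nat_lit 0x810e0d2f1) (nat_lit 1285))
) (.node (nat_lit 0x810e1daf1) (.leaf (nat_lit 0x810e158c1) (nat_lit 1540))
 (.node (nat_lit 0x811284081) (.leaf (nat_lit 0x810e1daf1) (nat_lit 3844))
 (.leaf (nat_lit 0x811284081) (nat_lit 4098))
))) (.node (nat_lit 0x811e850c1) (.node (nat_lit 0x811a85081) (.leaf (nat_lit 0x8116840c1) (nat_lit 4354))
 (.leaf (nat_lit 0x811a85081) (nat_lit 4099))
) (.node (nat_lit 0x818204083) (.leaf (nat_lit 0x811e850c1) (nat_lit 3843))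
 (.node (nat_lit 0x818204293) (.leaf (nat_lit 0x818204083) (nat_lit 512))
 (.leaf (nat_lit 0x818204293) (nat_lit 257))
)))))))) (.node (nat_lit 0xa8d084216) (.node (nat_lit 0x8507040c1) (.node (nat_lit 0x83020e0a1) (.node (nat_lit 0x821c8f270) (.node (nat_lit 0x819a8d0a3) (.node (nat_lit 0x819284083) (.node (nat_lit 0x81820c2b3) (.leaf (nat_lit 0x81820c0a3) (nat_lit 514))
 (.leaf (nat_lit 0x81820c2b3) (nat_lit 770))
) (.node (nat_lit 0x8196842d3) (.leaf (nat_lit 0x819284083) (nat_lit 773))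
 (.leaf (nat_lit 0x8196842d3) (nat_lit 517))
)) (.node (nat_lit 0x82108e230) (.node (nat_lit 0x819e8d2f3) (.leaf (nat_lit 0x819a8d0a3) (nat_lit 773))
 (.leaf (nat_lit 0x819e8d2f3) (nat_lit 1029))
) (.node (nat_lit 0x82149ea70) (.leaf (nat_lit 0x82108e230) (nat_lit 2819))
 (.node (nat_lit 0x82189fa30) (.leaf (nat_lit 0x82149ea70) (nat_lit 2563))
 (.leaf (nat_lit 0x82189fa30) (nat_lit 2307))
)))) (.node (nat_lit 0x82908e232) (.node (nat_lit 0x828c0f272) (.node (nat_lit 0x828c07042) (.leaf (nat_lit 0x821c8f270) (nat_lit 2563))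
 (.leaf (nat_lit 0x828c07042) (nat_lit 3074))
) (.node (nat_lit 0x828c17a52) (.leaf (nat_lit 0x828c0f272) (nat_lit 2819))
 (.node (nat_lit 0x828c1f862) (.leaf (nat_lit 0x828c17a52) (nat_lit 3330))
 (.leaf (nat_lit 0x828c1f862) (nat_lit 3075))
))) (.node (nat_lit 0x829897a12) (.node (nat_lit 0x82949e862) (.leaf (nat_lit 0x82908e232) (nat_lit 3075))
 (.leaf (nat_lit 0x82949e862) (nat_lit 3331))
) (.node (nat_lit 0x829c87042) (.leaf (nat_lit 0x829897a12) (nat_lit 3586))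
 (.node (nat_lit 0x830206081) (.leaf (nat_lit 0x829c87042) (nat_lit 3330))
 (.leaf (nat_lit 0x830206081) (nat_lit 5635))
))))) (.node (nat_lit 0x831e978c1) (.node (nat_lit 0x830a17881) (.node (nat_lit 0x83021e8a1) (.node (nat_lit 0x830216881) (.leaf (nat_lit 0x83020e0a1) (nat_lit 3589))
 (.leaf (nat_lit 0x830216881) (nat_lit 5891))
) (.node (nat_lit 0x830a07081) (.leaf (nat_lit 0x83021e8a1) (nat_lit 3333))
 (.node (nat_lit 0x830a0f0a1) (.leaf (nat_lit 0x830a07081) (nat_lit 3075))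
 (.leaf (nat_lit 0x830a0f0a1) (nat_lit 3332))
))) (.node (nat_lit 0x831286081) (.node (nat_lit 0x830a1f8a1) (.leaf (nat_lit 0x830a17881) (nat_lit 2819))
 (.leaf (nat_lit 0x830a1f8a1) (nat_lit 3076))
) (.node (nat_lit 0x8316968c1) (.leaf (nat_lit 0x831286081) (nat_lit 1028))
 (.node (nat_lit 0x831a87081) (.leaf (nat_lit 0x8316968c1) (nat_lit 772))
 (.leaf (nat_lit 0x831a87081) (nat_lit 1028))
)))) (.node (nat_lit 0x839286083) (.node (nat_lit 0x83820e0a3) (.node (nat_lit 0x838206083) (.leaf (nat_lit 0x831e978c1) (nat_lit 1284))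
 (.leaf (nat_lit 0x838206083) (nat_lit 4613))
) (.node (nat_lit 0x838216a93) (.leaf (nat_lit 0x83820e0a3) (nat_lit 4613))
 (.node (nat_lit 0x83821eab3) (.leaf (nat_lit 0x838216a93) (nat_lit 4869))
 (.leaf (nat_lit 0x83821eab3) (nat_lit 4357))
))) (.node (nat_lit 0x839a8f0a3) (.node (nat_lit 0x839696ad3) (.leaf (nat_lit 0x839286083) (nat_lit 4356))
 (.leaf (nat_lit 0x839696ad3) (nat_lit 4612))
) (.node (nat_lit 0x839e9faf3) (.leaf (nat_lit 0x839a8f0a3) (nat_lit 4356))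
 (.node (nat_lit 0x850304081) (.leaf (nat_lit 0x839e9faf3) (nat_lit 4100))
 (.leaf (nat_lit 0x850304081) (nat_lit 3078))
)))))) (.node (nat_lit 0x8edd87042) (.node (nat_lit 0x89d284083) (.node (nat_lit 0x851b85081) (.node (nat_lit 0x850f050c1) (.node (nat_lit 0x850b05081) (.leaf (nat_lit 0x8507040c1) (nat_lit 3074))
 (.leaf (nat_lit 0x850b05081) (nat_lit 2819))
) (.node (nat_lit 0x851384081) (.leaf (nat_lit 0x850f050c1) (nat_lit 3334))
 (.node (nat_lit 0x8517840c1) (.leaf (nat_lit 0x851384081) (nat_lit 3584))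
 (.leaf (nat_lit 0x8517840c1) (nat_lit 3329))
))) (.node (nat_lit 0x894204081) (.node (nat_lit 0x851f850c1) (.leaf (nat_lit 0x851b85081) (nat_lit 3846))
 (.leaf (nat_lit 0x851f850c1) (nat_lit 3590))
) (.node (nat_lit 0x895284081) (.leaf (nat_lit 0x894204081) (nat_lit 5124))
 (.node (nat_lit 0x89c204083) (.leaf (nat_lit 0x895284081) (nat_lit 1542))
 (.leaf (nat_lit 0x89c204083) (nat_lit 5126))
)))) (.node (nat_lit 0x8cc504042) (.node (nat_lit 0x8b5286081) (.node (nat_lit 0x8b4206081) (.leaf (nat_lit 0x89d284083) (nat_lit 4870))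
 (.leaf (nat_lit 0x8b4206081) (nat_lit 5382))
) (.node (nat_lit 0x8bc206083) (.leaf (nat_lit 0x8b5286081) (nat_lit 1283))
 (.node (nat_lit 0x8bd286083) (.leaf (nat_lit 0x8bc206083) (nat_lit 4869))
 (.leaf (nat_lit 0x8bd286083) (nat_lit 4611))
))) (.node (nat_lit 0x8d4304081) (.node (nat_lit 0x8cd584042) (.leaf (nat_lit 0x8cc504042) (nat_lit 3586))
 (.leaf (nat_lit 0x8cd584042) (nat_lit 3842))
) (.node (nat_lit 0x8d5384081) (.leaf (nat_lit 0x8d4304081) (nat_lit 2560))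
 (.node (nat_lit 0x8ecd07042) (.leaf (nat_lit 0x8d5384081) (nat_lit 1542))
 (.leaf (nat_lit 0x8ecd07042) (nat_lit 3330))
))))) (.node (nat_lit 0xa1820c2b7) (.node (nat_lit 0xa1020c0a5) (.node (nat_lit 0x8f5b87081) (.node (nat_lit 0x8f4b07081) (.leaf (nat_lit 0x8edd87042) (nat_lit 3586))
 (.leaf (nat_lit 0x8f4b07081) (nat_lit 2822))
) (.node (nat_lit 0xa10204085) (.leaf (nat_lit 0x8f5b87081) (nat_lit 1283))
 (.node (nat_lit 0xa10204295) (.leaf (nat_lit 0xa10204085) (nat_lit 1538))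
 (.leaf (nat_lit 0xa10204295) (nat_lit 1540))
))) (.node (nat_lit 0xa18204087) (.node (nat_lit 0xa1020c2b5) (.leaf (nat_lit 0xa1020c0a5) (nat_lit 1796))
 (.leaf (nat_lit 0xa1020c2b5) (nat_lit 1283))
) (.node (nat_lit 0xa18204297) (.leaf (nat_lit 0xa18204087) (nat_lit 1028))
 (.node (nat_lit 0xa1820c0a7) (.leaf (nat_lit 0xa18204297) (nat_lit 1284))
 (.leaf (nat_lit 0xa1820c0a7) (nat_lit 771))
)))) (.node (nat_lit 0xa59384087) (.node (nat_lit 0xa507042d5) (.node (nat_lit 0xa50304085) (.leaf (nat_lit 0xa1820c2b7) (nat_lit 1027))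
 (.leaf (nat_lit 0xa50304085) (nat_lit 1797))
) (.node (nat_lit 0xa50b0d0a5) (.leaf (nat_lit 0xa507042d5) (nat_lit 1797))
 (.node (nat_lit 0xa50f0d2f5) (.leaf (nat_lit 0xa50b0d0a5) (nat_lit 2053))
 (.leaf (nat_lit 0xa50f0d2f5) (nat_lit 1541))
))) (.node (nat_lit 0xa59b8d0a7) (.node (nat_lit 0xa597842d7) (.leaf (nat_lit 0xa59384087) (nat_lit 1285))
 (.leaf (nat_lit 0xa597842d7) (nat_lit 1541))
) (.node (nat_lit 0xa59f8d2f7) (.leaf (nat_lit 0xa59b8d0a7) (nat_lit 1029))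
 (.node (nat_lit 0xa85084214) (.leaf (nat_lit 0xa59f8d2f7) (nat_lit 1285))
 (.leaf (nat_lit 0xa85084214) (nat_lit 2306))
))))))) (.node (nat_lit 0xccc504352) (.node (nat_lit 0xc106041c1) (.node (nat_lit 0xad4304085) (.node (nat_lit 0xaad08e236) (.node (nat_lit 0xa9c204087) (.node (nat_lit 0xa94204085) (.leaf (nat_lit 0xa8d084216) (nat_lit 2561))
 (.leaf (nat_lit 0xa94204085) (nat_lit 4101))
) (.node (nat_lit 0xaa508e234) (.leaf (nat_lit 0xa9c204087) (nat_lit 4101))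
 (.leaf (nat_lit 0xaa508e234) (nat_lit 2566))
)) (.node (nat_lit 0xabc20e0a7) (.node (nat_lit 0xab420e0a5) (.leaf (nat_lit 0xaad08e236) (nat_lit 2822))
 (.leaf (nat_lit 0xab420e0a5) (nat_lit 3845))
) (.node (nat_lit 0xac5584254) (.leaf (nat_lit 0xabc20e0a7) (nat_lit 4357))
 (.node (nat_lit 0xacc504256) (.leaf (nat_lit 0xac5584254) (nat_lit 2050))
 (.leaf (nat_lit 0xacc504256) (nat_lit 2305))
)))) (.node (nat_lit 0xafdb8f0a7) (.node (nat_lit 0xae5d8f274) (.node (nat_lit 0xadd384087) (.leaf (nat_lit 0xad4304085) (nat_lit 3844))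
 (.leaf (nat_lit 0xadd384087) (nat_lit 3844))
) (.node (nat_lit 0xaecd0f276) (.leaf (nat_lit 0xae5d8f274) (nat_lit 2310))
 (.node (nat_lit 0xaf4b0f0a5) (.leaf (nat_lit 0xaecd0f276) (nat_lit 2566))
 (.leaf (nat_lit 0xaf4b0f0a5) (nat_lit 3588))
))) (.node (nat_lit 0xc10204391) (.node (nat_lit 0xc10204181) (.leaf (nat_lit 0xafdb8f0a7) (nat_lit 4100))
 (.leaf (nat_lit 0xc10204181) (nat_lit 5636))
) (.node (nat_lit 0xc10214981) (.leaf (nat_lit 0xc10204391) (nat_lit 5637))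
 (.node (nat_lit 0xc10214b91) (.leaf (nat_lit 0xc10214981) (nat_lit 5892))
 (.leaf (nat_lit 0xc10214b91) (nat_lit 5381))
))))) (.node (nat_lit 0xc50b15981) (.node (nat_lit 0xc41584350) (.node (nat_lit 0xc106149c1) (.node (nat_lit 0xc106043d1) (.leaf (nat_lit 0xc106041c1) (nat_lit 1026))
 (.leaf (nat_lit 0xc106043d1) (nat_lit 5378))
) (.node (nat_lit 0xc10614bd1) (.leaf (nat_lit 0xc106149c1) (nat_lit 771))
 (.node (nat_lit 0xc41184310) (.leaf (nat_lit 0xc10614bd1) (nat_lit 5123))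
 (.leaf (nat_lit 0xc41184310) (nat_lit 4353))
))) (.node (nat_lit 0xc41d95b50) (.node (nat_lit 0xc41995b10) (.leaf (nat_lit 0xc41584350) (nat_lit 4097))
 (.leaf (nat_lit 0xc41995b10) (nat_lit 4097))
) (.node (nat_lit 0xc50304181) (.leaf (nat_lit 0xc41d95b50) (nat_lit 3841))
 (.node (nat_lit 0xc507041c1) (.leaf (nat_lit 0xc50304181) (nat_lit 2050))
 (.leaf (nat_lit 0xc507041c1) (nat_lit 2054))
)))) (.node (nat_lit 0xc9d6843d3) (.node (nat_lit 0xc94204181) (.node (nat_lit 0xc50f159c1) (.leaf (nat_lit 0xc50b15981) (nat_lit 2310))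
 (.leaf (nat_lit 0xc50f159c1) (nat_lit 1795))
) (.node (nat_lit 0xc956841c1) (.leaf (nat_lit 0xc94204181) (nat_lit 5380))
 (.node (nat_lit 0xc9c204393) (.leaf (nat_lit 0xc956841c1) (nat_lit 1286))
 (.leaf (nat_lit 0xc9c204393) (nat_lit 5382))
))) (.node (nat_lit 0xcb56969c1) (.node (nat_lit 0xcb4216981) (.leaf (nat_lit 0xc9d6843d3) (nat_lit 5126))
 (.leaf (nat_lit 0xcb4216981) (nat_lit 5638))
) (.node (nat_lit 0xcbc216b93) (.leaf (nat_lit 0xcb56969c1) (nat_lit 1027))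
 (.node (nat_lit 0xcbd696bd3) (.leaf (nat_lit 0xcbc216b93) (nat_lit 5125))
 (.leaf (nat_lit 0xcbd696bd3) (nat_lit 4867))
)))))) (.node (nat_lit 0xe50304185) (.node (nat_lit 0xe0841c966) (.node (nat_lit 0xced997b12) (.node (nat_lit 0xcd4304181) (.node (nat_lit 0xccd184312) (.leaf (nat_lit 0xccc504352) (nat_lit 3842))
 (.leaf (nat_lit 0xccd184312) (nat_lit 4098))
) (.node (nat_lit 0xcd57841c1) (.leaf (nat_lit 0xcd4304181) (nat_lit 2305))
 (.node (nat_lit 0xcecd17b52) (.leaf (nat_lit 0xcd57841c1) (nat_lit 1798))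
 (.leaf (nat_lit 0xcecd17b52) (nat_lit 3586))
))) (.node (nat_lit 0xcf5f979c1) (.node (nat_lit 0xcf4b17981) (.leaf (nat_lit 0xced997b12) (nat_lit 3842))
 (.leaf (nat_lit 0xcf4b17981) (nat_lit 2566))
) (.node (nat_lit 0xe08404146) (.leaf (nat_lit 0xcf5f979c1) (nat_lit 1539))
 (.node (nat_lit 0xe08404356) (.leaf (nat_lit 0xe08404146) (nat_lit 2565))
 (.leaf (nat_lit 0xe08404356) (nat_lit 2305))
)))) (.node (nat_lit 0xe1021cbb5) (.node (nat_lit 0xe10204185) (.node (nat_lit 0xe0841cb76) (.leaf (nat_lit 0xe0841c966) (nat_lit 2821))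
 (.leaf (nat_lit 0xe0841cb76) (nat_lit 2566))
) (.node (nat_lit 0xe10204395) (.leaf (nat_lit 0xe10204185) (nat_lit 3589))
 (.node (nat_lit 0xe1021c9a5) (.leaf (nat_lit 0xe10204395) (nat_lit 3589))
 (.leaf (nat_lit 0xe1021c9a5) (nat_lit 3333))
))) (.node (nat_lit 0xe49584146) (.node (nat_lit 0xe49184316) (.leaf (nat_lit 0xe1021cbb5) (nat_lit 3845))
 (.leaf (nat_lit 0xe49184316) (nat_lit 2049))
) (.node (nat_lit 0xe4999db36) (.leaf (nat_lit 0xe49584146) (nat_lit 2308))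
 (.node (nat_lit 0xe49d9d966) (.leaf (nat_lit 0xe4999db36) (nat_lit 2310))
 (.leaf (nat_lit 0xe49d9d966) (nat_lit 2564))
))))) (.node (nat_lit 0xeb421e9a5) (.node (nat_lit 0xe8d484146) (.node (nat_lit 0xe50b1d9a5) (.node (nat_lit 0xe507043d5) (.leaf (nat_lit 0xe50304185) (nat_lit 3332))
 (.leaf (nat_lit 0xe507043d5) (nat_lit 3332))
) (.node (nat_lit 0xe50f1dbf5) (.leaf (nat_lit 0xe50b1d9a5) (nat_lit 3076))
 (.node (nat_lit 0xe85484354) (.leaf (nat_lit 0xe50f1dbf5) (nat_lit 3588))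
 (.leaf (nat_lit 0xe85484354) (nat_lit 2050))
))) (.node (nat_lit 0xe9c204397) (.node (nat_lit 0xe94204185) (.leaf (nat_lit 0xe8d484146) (nat_lit 2816))
 (.leaf (nat_lit 0xe94204185) (nat_lit 3845))
) (.node (nat_lit 0xea549eb74) (.leaf (nat_lit 0xe9c204397) (nat_lit 3845))
 (.node (nat_lit 0xead49e966) (.leaf (nat_lit 0xea549eb74) (nat_lit 2310))
 (.leaf (nat_lit 0xead49e966) (nat_lit 3078))
)))) (.node (nat_lit 0xedd7843d7) (.node (nat_lit 0xec5184314) (.node (nat_lit 0xebc21ebb7) (.leaf (nat_lit 0xeb421e9a5) (nat_lit 3589))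
 (.leaf (nat_lit 0xebc21ebb7) (nat_lit 4101))
) (.node (nat_lit 0xecc504146) (.leaf (nat_lit 0xec5184314) (nat_lit 1794))
 (.node (nat_lit 0xed4304185) (.leaf (nat_lit 0xecc504146) (nat_lit 2560))
 (.leaf (nat_lit 0xed4304185) (nat_lit 3588))
))) (.node (nat_lit 0xeecd1f966) (.node (nat_lit 0xee599fb34) (.leaf (nat_lit 0xedd7843d7) (nat_lit 3588))
 (.leaf (nat_lit 0xee599fb34) (nat_lit 2054))
) (.node (nat_lit 0xef4b1f9a5) (.leaf (nat_lit 0xeecd1f966) (nat_lit 2822))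
 (.node (nat_lit 0xefdf9fbf7) (.leaf (nat_lit 0xef4b1f9a5) (nat_lit 3332))
 (.leaf (nat_lit 0xefdf9fbf7) (nat_lit 3844))
)))))))))

theorem Dt_ok : orbOK B6.A [(nat_lit 0x810204481), (nat_lit 0x812204081), (nat_lit 0x810234c81), (nat_lit 0x910204081), (nat_lit 0x81022c0a9), (nat_lit 0x810244081), (nat_lit 0x810224081)] (nat_lit 0x810204291) Dt_t (nat_lit 315) = true := by decide +kernel

noncomputable def D1_t : ST :=
(.node (nat_lit 0x81023ceb9) (.node (nat_lit 0x7ae23af3f) (.node (nat_lit 0x3be22a0af) (.node (nat_lit 0x1b6222081) (.leaf (nat_lit 0x110220081) (nat_lit 1797))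
 (.node (nat_lit 0x3102280ad) (.leaf (nat_lit 0x1b6222081) (nat_lit 771))
 (.leaf (nat_lit 0x3102280ad) (nat_lit 1796))
)) (.node (nat_lit 0x5a6232d01) (.node (nat_lit 0x510230d81) (.leaf (nat_lit 0x3be22a0af) (nat_lit 1285))
 (.leaf (nat_lit 0x510230d81) (nat_lit 1283))
) (.node (nat_lit 0x710238fbd) (.leaf (nat_lit 0x5a6232d01) (nat_lit 1027))
 (.leaf (nat_lit 0x710238fbd) (nat_lit 1797))
))) (.node (nat_lit 0x810204699) (.node (nat_lit 0x80a20461b) (.node (nat_lit 0x802204401) (.leaf (nat_lit 0x7ae23af3f) (nat_lit 1541))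
 (.leaf (nat_lit 0x802204401) (nat_lit 257))
) (.node (nat_lit 0x810204481) (.leaf (nat_lit 0x80a20461b) (nat_lit 1794))
 (.leaf (nat_lit 0x810204481) (nat_lit 0))
)) (.node (nat_lit 0x81022c0a9) (.node (nat_lit 0x810224081) (.leaf (nat_lit 0x810204699) (nat_lit 2049))
 (.leaf (nat_lit 0x810224081) (nat_lit 2051))
) (.node (nat_lit 0x810234c81) (.leaf (nat_lit 0x81022c0a9) (nat_lit 2051))
 (.leaf (nat_lit 0x810234c81) (nat_lit 1025))
)))) (.node (nat_lit 0x910204081) (.node (nat_lit 0x822236c01) (.node (nat_lit 0x812204081) (.leaf (nat_lit 0x81023ceb9) (nat_lit 2051))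
 (.node (nat_lit 0x81a20408b) (.leaf (nat_lit 0x812204081) (nat_lit 512))
 (.leaf (nat_lit 0x81a20408b) (nat_lit 2050))
)) (.node (nat_lit 0x832226081) (.node (nat_lit 0x82a23ee3b) (.leaf (nat_lit 0x822236c01) (nat_lit 770))
 (.leaf (nat_lit 0x82a23ee3b) (nat_lit 1795))
) (.node (nat_lit 0x83a22e0ab) (.leaf (nat_lit 0x832226081) (nat_lit 514))
 (.leaf (nat_lit 0x83a22e0ab) (nat_lit 1539))
))) (.node (nat_lit 0xd10204581) (.node (nat_lit 0xb1020408d) (.node (nat_lit 0x996204081) (.leaf (nat_lit 0x910204081) (nat_lit 1538))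
 (.leaf (nat_lit 0x996204081) (nat_lit 1029))
) (.node (nat_lit 0xb9e20408f) (.leaf (nat_lit 0xb1020408d) (nat_lit 2053))
 (.leaf (nat_lit 0xb9e20408f) (nat_lit 1028))
)) (.node (nat_lit 0xf1020479d) (.node (nat_lit 0xd86204501) (.leaf (nat_lit 0xd10204581) (nat_lit 1541))
 (.leaf (nat_lit 0xd86204501) (nat_lit 1285))
) (.node (nat_lit 0xf8e20471f) (.leaf (nat_lit 0xf1020479d) (nat_lit 1540))
 (.leaf (nat_lit 0xf8e20471f) (nat_lit 1284))
)))))

theorem D1_ok : orbOK B6.A [(nat_lit 0x810204481), (nat_lit 0x812204081), (nat_lit 0x810234c81), (nat_lit 0x910204081), (nat_lit 0x81022c0a9), (nat_lit 0x810224081)] (nat_lit 0x810204481) D1_t (nat_lit 30) = true := by decide +kernel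

noncomputable def P_t : ST :=
(.node (nat_lit 0xa08404142) (.node (nat_lit 0x708420862) (.node (nat_lit 0x3106208e1) (.node (nat_lit 0x118230187) (.node (nat_lit 0x110228085) (.node (nat_lit 0x1086240c2) (.node (nat_lit 0x10843044e) (.node (nat_lit 0x108428342) (.node (nat_lit 0x108424052) (.node (nat_lit 0x10842044a) (.node (nat_lit 0x108420242) (.node (nat_lit 0x108420052) (.leaf (nat_lit 0x108420042) (nat_lit 773))
 (.leaf (nat_lit 0x108420052) (nat_lit 1024))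
) (.node (nat_lit 0x108420252) (.leaf (nat_lit 0x108420242) (nat_lit 1029))
 (.leaf (nat_lit 0x108420252) (nat_lit 1280))
)) (.node (nat_lit 0x10842064a) (.node (nat_lit 0x10842045a) (.leaf (nat_lit 0x10842044a) (nat_lit 1796))
 (.leaf (nat_lit 0x10842045a) (nat_lit 1796))
) (.node (nat_lit 0x10842065a) (.leaf (nat_lit 0x10842064a) (nat_lit 1792))
 (.node (nat_lit 0x108424042) (.leaf (nat_lit 0x10842065a) (nat_lit 1540))
 (.leaf (nat_lit 0x108424042) (nat_lit 773))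
)))) (.node (nat_lit 0x10842445a) (.node (nat_lit 0x108424252) (.node (nat_lit 0x108424242) (.leaf (nat_lit 0x108424052) (nat_lit 1024))
 (.leaf (nat_lit 0x108424242) (nat_lit 1029))
) (.node (nat_lit 0x10842444a) (.leaf (nat_lit 0x108424252) (nat_lit 1280))
 (.leaf (nat_lit 0x10842444a) (nat_lit 2048))
)) (.node (nat_lit 0x10842465a) (.node (nat_lit 0x10842464a) (.leaf (nat_lit 0x10842445a) (nat_lit 1796))
 (.leaf (nat_lit 0x10842464a) (nat_lit 1792))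
) (.node (nat_lit 0x108428142) (.leaf (nat_lit 0x10842465a) (nat_lit 1540))
 (.node (nat_lit 0x108428152) (.leaf (nat_lit 0x108428142) (nat_lit 1283))
 (.leaf (nat_lit 0x108428152) (nat_lit 1539))
))))) (.node (nat_lit 0x10842c352) (.node (nat_lit 0x10842874a) (.node (nat_lit 0x10842854a) (.node (nat_lit 0x108428352) (.leaf (nat_lit 0x108428342) (nat_lit 1027))
 (.leaf (nat_lit 0x108428352) (nat_lit 1283))
) (.node (nat_lit 0x10842855a) (.leaf (nat_lit 0x10842854a) (nat_lit 2052))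
 (.leaf (nat_lit 0x10842855a) (nat_lit 1796))
)) (.node (nat_lit 0x10842c142) (.node (nat_lit 0x10842875a) (.leaf (nat_lit 0x10842874a) (nat_lit 1796))
 (.leaf (nat_lit 0x10842875a) (nat_lit 2052))
) (.node (nat_lit 0x10842c152) (.leaf (nat_lit 0x10842c142) (nat_lit 1283))
 (.node (nat_lit 0x10842c342) (.leaf (nat_lit 0x10842c152) (nat_lit 1539))
 (.leaf (nat_lit 0x10842c342) (nat_lit 1027))
)))) (.node (nat_lit 0x10842c75a) (.node (nat_lit 0x10842c55a) (.node (nat_lit 0x10842c54a) (.leaf (nat_lit 0x10842c352) (nat_lit 1283))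
 (.leaf (nat_lit 0x10842c54a) (nat_lit 2052))
) (.node (nat_lit 0x10842c74a) (.leaf (nat_lit 0x10842c55a) (nat_lit 1796))
 (.leaf (nat_lit 0x10842c74a) (nat_lit 1796))
)) (.node (nat_lit 0x108430056) (.node (nat_lit 0x108430046) (.leaf (nat_lit 0x10842c75a) (nat_lit 2052))
 (.leaf (nat_lit 0x108430046) (nat_lit 1280))
) (.node (nat_lit 0x108430246) (.leaf (nat_lit 0x108430056) (nat_lit 1029))
 (.node (nat_lit 0x108430256) (.leaf (nat_lit 0x108430246) (nat_lit 1536))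
 (.leaf (nat_lit 0x108430256) (nat_lit 1285))
)))))) (.node (nat_lit 0x10843874e) (.node (nat_lit 0x10843445e) (.node (nat_lit 0x108434046) (.node (nat_lit 0x10843064e) (.node (nat_lit 0x10843045e) (.leaf (nat_lit 0x10843044e) (nat_lit 2052))
 (.leaf (nat_lit 0x10843045e) (nat_lit 1796))
) (.node (nat_lit 0x10843065e) (.leaf (nat_lit 0x10843064e) (nat_lit 1796))
 (.leaf (nat_lit 0x10843065e) (nat_lit 2052))
)) (.node (nat_lit 0x108434246) (.node (nat_lit 0x108434056) (.leaf (nat_lit 0x108434046) (nat_lit 1280))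
 (.leaf (nat_lit 0x108434056) (nat_lit 1029))
) (.node (nat_lit 0x108434256) (.leaf (nat_lit 0x108434246) (nat_lit 1536))
 (.node (nat_lit 0x10843444e) (.leaf (nat_lit 0x108434256) (nat_lit 1285))
 (.leaf (nat_lit 0x10843444e) (nat_lit 2052))
)))) (.node (nat_lit 0x108438156) (.node (nat_lit 0x10843465e) (.node (nat_lit 0x10843464e) (.leaf (nat_lit 0x10843445e) (nat_lit 1796))
 (.leaf (nat_lit 0x10843464e) (nat_lit 1796))
) (.node (nat_lit 0x108438146) (.leaf (nat_lit 0x10843465e) (nat_lit 2052))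
 (.leaf (nat_lit 0x108438146) (nat_lit 1795))
)) (.node (nat_lit 0x108438356) (.node (nat_lit 0x108438346) (.leaf (nat_lit 0x108438156) (nat_lit 1539))
 (.leaf (nat_lit 0x108438346) (nat_lit 1539))
) (.node (nat_lit 0x10843854e) (.leaf (nat_lit 0x108438356) (nat_lit 1283))
 (.node (nat_lit 0x10843855e) (.leaf (nat_lit 0x10843854e) (nat_lit 2048))
 (.leaf (nat_lit 0x10843855e) (nat_lit 1796))
))))) (.node (nat_lit 0x10843c75e) (.node (nat_lit 0x10843c346) (.node (nat_lit 0x10843c146) (.node (nat_lit 0x10843875e) (.leaf (nat_lit 0x10843874e) (nat_lit 1792))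
 (.leaf (nat_lit 0x10843875e) (nat_lit 1540))
) (.node (nat_lit 0x10843c156) (.leaf (nat_lit 0x10843c146) (nat_lit 1795))
 (.leaf (nat_lit 0x10843c156) (nat_lit 1539))
)) (.node (nat_lit 0x10843c54e) (.node (nat_lit 0x10843c356) (.leaf (nat_lit 0x10843c346) (nat_lit 1539))
 (.leaf (nat_lit 0x10843c356) (nat_lit 1283))
) (.node (nat_lit 0x10843c55e) (.leaf (nat_lit 0x10843c54e) (nat_lit 2048))
 (.node (nat_lit 0x10843c74e) (.leaf (nat_lit 0x10843c55e) (nat_lit 1796))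
 (.leaf (nat_lit 0x10843c74e) (nat_lit 1792))
)))) (.node (nat_lit 0x1086202da) (.node (nat_lit 0x1086200da) (.node (nat_lit 0x1086200c2) (.leaf (nat_lit 0x10843c75e) (nat_lit 1540))
 (.leaf (nat_lit 0x1086200c2) (nat_lit 772))
) (.node (nat_lit 0x1086202c2) (.leaf (nat_lit 0x1086200da) (nat_lit 1024))
 (.leaf (nat_lit 0x1086202c2) (nat_lit 1028))
)) (.node (nat_lit 0x1086204d2) (.node (nat_lit 0x1086204ca) (.leaf (nat_lit 0x1086202da) (nat_lit 1280))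
 (.leaf (nat_lit 0x1086204ca) (nat_lit 1792))
) (.node (nat_lit 0x1086206ca) (.leaf (nat_lit 0x1086204d2) (nat_lit 1540))
 (.node (nat_lit 0x1086206d2) (.leaf (nat_lit 0x1086206ca) (nat_lit 1797))
 (.leaf (nat_lit 0x1086206d2) (nat_lit 1796))
))))))) (.node (nat_lit 0x1086345ce) (.node (nat_lit 0x10862c3c2) (.node (nat_lit 0x1086281da) (.node (nat_lit 0x1086244ca) (.node (nat_lit 0x1086242c2) (.node (nat_lit 0x1086240da) (.leaf (nat_lit 0x1086240c2) (nat_lit 772))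
 (.leaf (nat_lit 0x1086240da) (nat_lit 1024))
) (.node (nat_lit 0x1086242da) (.leaf (nat_lit 0x1086242c2) (nat_lit 1028))
 (.leaf (nat_lit 0x1086242da) (nat_lit 1280))
)) (.node (nat_lit 0x1086246ca) (.node (nat_lit 0x1086244d2) (.leaf (nat_lit 0x1086244ca) (nat_lit 1792))
 (.leaf (nat_lit 0x1086244d2) (nat_lit 1540))
) (.node (nat_lit 0x1086246d2) (.leaf (nat_lit 0x1086246ca) (nat_lit 2048))
 (.node (nat_lit 0x1086281c2) (.leaf (nat_lit 0x1086246d2) (nat_lit 1796))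
 (.leaf (nat_lit 0x1086281c2) (nat_lit 1283))
)))) (.node (nat_lit 0x1086285d2) (.node (nat_lit 0x1086283da) (.node (nat_lit 0x1086283c2) (.leaf (nat_lit 0x1086281da) (nat_lit 1539))
 (.leaf (nat_lit 0x1086283c2) (nat_lit 1027))
) (.node (nat_lit 0x1086285ca) (.leaf (nat_lit 0x1086283da) (nat_lit 1283))
 (.leaf (nat_lit 0x1086285ca) (nat_lit 1797))
)) (.node (nat_lit 0x1086287d2) (.node (nat_lit 0x1086287ca) (.leaf (nat_lit 0x1086285d2) (nat_lit 2052))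
 (.leaf (nat_lit 0x1086287ca) (nat_lit 2053))
) (.node (nat_lit 0x10862c1c2) (.leaf (nat_lit 0x1086287d2) (nat_lit 1796))
 (.node (nat_lit 0x10862c1da) (.leaf (nat_lit 0x10862c1c2) (nat_lit 1283))
 (.leaf (nat_lit 0x10862c1da) (nat_lit 1539))
))))) (.node (nat_lit 0x1086303de) (.node (nat_lit 0x10862c7ca) (.node (nat_lit 0x10862c5ca) (.node (nat_lit 0x10862c3da) (.leaf (nat_lit 0x10862c3c2) (nat_lit 1027))
 (.leaf (nat_lit 0x10862c3da) (nat_lit 1283))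
) (.node (nat_lit 0x10862c5d2) (.leaf (nat_lit 0x10862c5ca) (nat_lit 1797))
 (.leaf (nat_lit 0x10862c5d2) (nat_lit 2052))
)) (.node (nat_lit 0x1086301c6) (.node (nat_lit 0x10862c7d2) (.leaf (nat_lit 0x10862c7ca) (nat_lit 2053))
 (.leaf (nat_lit 0x10862c7d2) (nat_lit 1796))
) (.node (nat_lit 0x1086301de) (.leaf (nat_lit 0x1086301c6) (nat_lit 1796))
 (.node (nat_lit 0x1086303c6) (.leaf (nat_lit 0x1086301de) (nat_lit 2053))
 (.leaf (nat_lit 0x1086303c6) (nat_lit 2052))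
)))) (.node (nat_lit 0x1086307d6) (.node (nat_lit 0x1086305d6) (.node (nat_lit 0x1086305ce) (.leaf (nat_lit 0x1086303de) (nat_lit 1797))
 (.leaf (nat_lit 0x1086305ce) (nat_lit 1280))
) (.node (nat_lit 0x1086307ce) (.leaf (nat_lit 0x1086305d6) (nat_lit 1028))
 (.leaf (nat_lit 0x1086307ce) (nat_lit 1536))
)) (.node (nat_lit 0x1086341de) (.node (nat_lit 0x1086341c6) (.leaf (nat_lit 0x1086307d6) (nat_lit 1284))
 (.leaf (nat_lit 0x1086341c6) (nat_lit 1796))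
) (.node (nat_lit 0x1086343c6) (.leaf (nat_lit 0x1086341de) (nat_lit 2053))
 (.node (nat_lit 0x1086343de) (.leaf (nat_lit 0x1086343c6) (nat_lit 2052))
 (.leaf (nat_lit 0x1086343de) (nat_lit 1797))
)))))) (.node (nat_lit 0x10863c6ce) (.node (nat_lit 0x1086384d6) (.node (nat_lit 0x1086380c6) (.node (nat_lit 0x1086347ce) (.node (nat_lit 0x1086345d6) (.leaf (nat_lit 0x1086345ce) (nat_lit 1280))
 (.leaf (nat_lit 0x1086345d6) (nat_lit 1028))
) (.node (nat_lit 0x1086347d6) (.leaf (nat_lit 0x1086347ce) (nat_lit 1536))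
 (.leaf (nat_lit 0x1086347d6) (nat_lit 1284))
)) (.node (nat_lit 0x1086382c6) (.node (nat_lit 0x1086380de) (.leaf (nat_lit 0x1086380c6) (nat_lit 1797))
 (.leaf (nat_lit 0x1086380de) (nat_lit 1541))
) (.node (nat_lit 0x1086382de) (.leaf (nat_lit 0x1086382c6) (nat_lit 2053))
 (.node (nat_lit 0x1086384ce) (.leaf (nat_lit 0x1086382de) (nat_lit 1797))
 (.leaf (nat_lit 0x1086384ce) (nat_lit 1795))
)))) (.node (nat_lit 0x10863c0de) (.node (nat_lit 0x1086386d6) (.node (nat_lit 0x1086386ce) (.leaf (nat_lit 0x1086384d6) (nat_lit 1539))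
 (.leaf (nat_lit 0x1086386ce) (nat_lit 1539))
) (.node (nat_lit 0x10863c0c6) (.leaf (nat_lit 0x1086386d6) (nat_lit 1283))
 (.leaf (nat_lit 0x10863c0c6) (nat_lit 1797))
)) (.node (nat_lit 0x10863c2de) (.node (nat_lit 0x10863c2c6) (.leaf (nat_lit 0x10863c0de) (nat_lit 1541))
 (.leaf (nat_lit 0x10863c2c6) (nat_lit 2053))
) (.node (nat_lit 0x10863c4ce) (.leaf (nat_lit 0x10863c2de) (nat_lit 1797))
 (.node (nat_lit 0x10863c4d6) (.leaf (nat_lit 0x10863c4ce) (nat_lit 1795))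
 (.leaf (nat_lit 0x10863c4d6) (nat_lit 1539))
))))) (.node (nat_lit 0x110220699) (.node (nat_lit 0x110220291) (.node (nat_lit 0x110220081) (.node (nat_lit 0x10863c6d6) (.leaf (nat_lit 0x10863c6ce) (nat_lit 1539))
 (.leaf (nat_lit 0x10863c6d6) (nat_lit 1283))
) (.node (nat_lit 0x110220089) (.leaf (nat_lit 0x110220081) (nat_lit 514))
 (.leaf (nat_lit 0x110220089) (nat_lit 770))
)) (.node (nat_lit 0x110220481) (.node (nat_lit 0x110220299) (.leaf (nat_lit 0x110220291) (nat_lit 1796))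
 (.leaf (nat_lit 0x110220299) (nat_lit 1796))
) (.node (nat_lit 0x110220489) (.leaf (nat_lit 0x110220481) (nat_lit 1285))
 (.node (nat_lit 0x110220691) (.leaf (nat_lit 0x110220489) (nat_lit 1541))
 (.leaf (nat_lit 0x110220691) (nat_lit 1796))
)))) (.node (nat_lit 0x110224299) (.node (nat_lit 0x110224089) (.node (nat_lit 0x110224081) (.leaf (nat_lit 0x110220699) (nat_lit 1540))
 (.leaf (nat_lit 0x110224081) (nat_lit 514))
) (.node (nat_lit 0x110224291) (.leaf (nat_lit 0x110224089) (nat_lit 770))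
 (.leaf (nat_lit 0x110224291) (nat_lit 2052))
)) (.node (nat_lit 0x110224489) (.node (nat_lit 0x110224481) (.leaf (nat_lit 0x110224299) (nat_lit 1796))
 (.leaf (nat_lit 0x110224481) (nat_lit 1285))
) (.node (nat_lit 0x110224691) (.leaf (nat_lit 0x110224489) (nat_lit 1541))
 (.node (nat_lit 0x110224699) (.leaf (nat_lit 0x110224691) (nat_lit 1796))
 (.leaf (nat_lit 0x110224699) (nat_lit 1540))
)))))))) (.node (nat_lit 0x11062c1c5) (.node (nat_lit 0x110238585) (.node (nat_lit 0x110230391) (.node (nat_lit 0x11022c08d) (.node (nat_lit 0x110228485) (.node (nat_lit 0x110228295) (.node (nat_lit 0x11022808d) (.leaf (nat_lit 0x110228085) (nat_lit 1541))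
 (.leaf (nat_lit 0x11022808d) (nat_lit 1285))
) (.node (nat_lit 0x11022829d) (.leaf (nat_lit 0x110228295) (nat_lit 2052))
 (.leaf (nat_lit 0x11022829d) (nat_lit 1796))
)) (.node (nat_lit 0x110228695) (.node (nat_lit 0x11022848d) (.leaf (nat_lit 0x110228485) (nat_lit 1797))
 (.leaf (nat_lit 0x11022848d) (nat_lit 1541))
) (.node (nat_lit 0x11022869d) (.leaf (nat_lit 0x110228695) (nat_lit 1796))
 (.node (nat_lit 0x11022c085) (.leaf (nat_lit 0x11022869d) (nat_lit 2052))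
 (.leaf (nat_lit 0x11022c085) (nat_lit 1541))
)))) (.node (nat_lit 0x11022c48d) (.node (nat_lit 0x11022c29d) (.node (nat_lit 0x11022c295) (.leaf (nat_lit 0x11022c08d) (nat_lit 1285))
 (.leaf (nat_lit 0x11022c295) (nat_lit 2052))
) (.node (nat_lit 0x11022c485) (.leaf (nat_lit 0x11022c29d) (nat_lit 1796))
 (.leaf (nat_lit 0x11022c485) (nat_lit 1797))
)) (.node (nat_lit 0x11022c69d) (.node (nat_lit 0x11022c695) (.leaf (nat_lit 0x11022c48d) (nat_lit 1541))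
 (.leaf (nat_lit 0x11022c695) (nat_lit 1796))
) (.node (nat_lit 0x110230181) (.leaf (nat_lit 0x11022c69d) (nat_lit 2052))
 (.node (nat_lit 0x110230189) (.leaf (nat_lit 0x110230181) (nat_lit 1541))
 (.leaf (nat_lit 0x110230189) (nat_lit 1797))
))))) (.node (nat_lit 0x110234399) (.node (nat_lit 0x110230791) (.node (nat_lit 0x110230581) (.node (nat_lit 0x110230399) (.leaf (nat_lit 0x110230391) (nat_lit 2052))
 (.leaf (nat_lit 0x110230399) (nat_lit 1796))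
) (.node (nat_lit 0x110230589) (.leaf (nat_lit 0x110230581) (nat_lit 771))
 (.leaf (nat_lit 0x110230589) (nat_lit 1027))
)) (.node (nat_lit 0x110234181) (.node (nat_lit 0x110230799) (.leaf (nat_lit 0x110230791) (nat_lit 1796))
 (.leaf (nat_lit 0x110230799) (nat_lit 2052))
) (.node (nat_lit 0x110234189) (.leaf (nat_lit 0x110234181) (nat_lit 1541))
 (.node (nat_lit 0x110234391) (.leaf (nat_lit 0x110234189) (nat_lit 1797))
 (.leaf (nat_lit 0x110234391) (nat_lit 2052))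
)))) (.node (nat_lit 0x110234799) (.node (nat_lit 0x110234589) (.node (nat_lit 0x110234581) (.leaf (nat_lit 0x110234399) (nat_lit 1796))
 (.leaf (nat_lit 0x110234581) (nat_lit 771))
) (.node (nat_lit 0x110234791) (.leaf (nat_lit 0x110234589) (nat_lit 1027))
 (.leaf (nat_lit 0x110234791) (nat_lit 1796))
)) (.node (nat_lit 0x11023818d) (.node (nat_lit 0x110238185) (.leaf (nat_lit 0x110234799) (nat_lit 2052))
 (.leaf (nat_lit 0x110238185) (nat_lit 1796))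
) (.node (nat_lit 0x110238395) (.leaf (nat_lit 0x11023818d) (nat_lit 1797))
 (.node (nat_lit 0x11023839d) (.leaf (nat_lit 0x110238395) (nat_lit 2052))
 (.leaf (nat_lit 0x11023839d) (nat_lit 1796))
)))))) (.node (nat_lit 0x1106206c9) (.node (nat_lit 0x11023c58d) (.node (nat_lit 0x11023c185) (.node (nat_lit 0x110238795) (.node (nat_lit 0x11023858d) (.leaf (nat_lit 0x110238585) (nat_lit 1797))
 (.leaf (nat_lit 0x11023858d) (nat_lit 1541))
) (.node (nat_lit 0x11023879d) (.leaf (nat_lit 0x110238795) (nat_lit 1796))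
 (.leaf (nat_lit 0x11023879d) (nat_lit 1540))
)) (.node (nat_lit 0x11023c395) (.node (nat_lit 0x11023c18d) (.leaf (nat_lit 0x11023c185) (nat_lit 1796))
 (.leaf (nat_lit 0x11023c18d) (nat_lit 1797))
) (.node (nat_lit 0x11023c39d) (.leaf (nat_lit 0x11023c395) (nat_lit 2052))
 (.node (nat_lit 0x11023c585) (.leaf (nat_lit 0x11023c39d) (nat_lit 1796))
 (.leaf (nat_lit 0x11023c585) (nat_lit 1797))
)))) (.node (nat_lit 0x1106200d9) (.node (nat_lit 0x11023c79d) (.node (nat_lit 0x11023c795) (.leaf (nat_lit 0x11023c58d) (nat_lit 1541))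
 (.leaf (nat_lit 0x11023c795) (nat_lit 1796))
) (.node (nat_lit 0x1106200c1) (.leaf (nat_lit 0x11023c79d) (nat_lit 1540))
 (.leaf (nat_lit 0x1106200c1) (nat_lit 1028))
)) (.node (nat_lit 0x1106202d1) (.node (nat_lit 0x1106202c9) (.leaf (nat_lit 0x1106200d9) (nat_lit 1280))
 (.leaf (nat_lit 0x1106202c9) (nat_lit 1284))
) (.node (nat_lit 0x1106204c1) (.leaf (nat_lit 0x1106202d1) (nat_lit 1536))
 (.node (nat_lit 0x1106204d9) (.leaf (nat_lit 0x1106204c1) (nat_lit 1284))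
 (.leaf (nat_lit 0x1106204d9) (nat_lit 1536))
))))) (.node (nat_lit 0x1106246d1) (.node (nat_lit 0x1106242c9) (.node (nat_lit 0x1106240c1) (.node (nat_lit 0x1106206d1) (.leaf (nat_lit 0x1106206c9) (nat_lit 1540))
 (.leaf (nat_lit 0x1106206d1) (nat_lit 1792))
) (.node (nat_lit 0x1106240d9) (.leaf (nat_lit 0x1106240c1) (nat_lit 1028))
 (.leaf (nat_lit 0x1106240d9) (nat_lit 1280))
)) (.node (nat_lit 0x1106244c1) (.node (nat_lit 0x1106242d1) (.leaf (nat_lit 0x1106242c9) (nat_lit 1284))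
 (.leaf (nat_lit 0x1106242d1) (nat_lit 1536))
) (.node (nat_lit 0x1106244d9) (.leaf (nat_lit 0x1106244c1) (nat_lit 1284))
 (.node (nat_lit 0x1106246c9) (.leaf (nat_lit 0x1106244d9) (nat_lit 1536))
 (.leaf (nat_lit 0x1106246c9) (nat_lit 1540))
)))) (.node (nat_lit 0x1106283d5) (.node (nat_lit 0x1106281dd) (.node (nat_lit 0x1106281c5) (.leaf (nat_lit 0x1106246d1) (nat_lit 1792))
 (.leaf (nat_lit 0x1106281c5) (nat_lit 1540))
) (.node (nat_lit 0x1106283cd) (.leaf (nat_lit 0x1106281dd) (nat_lit 1792))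
 (.leaf (nat_lit 0x1106283cd) (nat_lit 1284))
)) (.node (nat_lit 0x1106285dd) (.node (nat_lit 0x1106285c5) (.leaf (nat_lit 0x1106283d5) (nat_lit 1536))
 (.leaf (nat_lit 0x1106285c5) (nat_lit 1796))
) (.node (nat_lit 0x1106287cd) (.leaf (nat_lit 0x1106285dd) (nat_lit 1797))
 (.node (nat_lit 0x1106287d5) (.leaf (nat_lit 0x1106287cd) (nat_lit 1540))
 (.leaf (nat_lit 0x1106287d5) (nat_lit 1792))
))))))) (.node (nat_lit 0x11063c4c5) (.node (nat_lit 0x1106343c9) (.node (nat_lit 0x1106301d9) (.node (nat_lit 0x11062c5c5) (.node (nat_lit 0x11062c3cd) (.node (nat_lit 0x11062c1dd) (.leaf (nat_lit 0x11062c1c5) (nat_lit 1540))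
 (.leaf (nat_lit 0x11062c1dd) (nat_lit 1792))
) (.node (nat_lit 0x11062c3d5) (.leaf (nat_lit 0x11062c3cd) (nat_lit 1284))
 (.leaf (nat_lit 0x11062c3d5) (nat_lit 1536))
)) (.node (nat_lit 0x11062c7cd) (.node (nat_lit 0x11062c5dd) (.leaf (nat_lit 0x11062c5c5) (nat_lit 1796))
 (.leaf (nat_lit 0x11062c5dd) (nat_lit 1797))
) (.node (nat_lit 0x11062c7d5) (.leaf (nat_lit 0x11062c7cd) (nat_lit 1540))
 (.node (nat_lit 0x1106301c1) (.leaf (nat_lit 0x11062c7d5) (nat_lit 1792))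
 (.leaf (nat_lit 0x1106301c1) (nat_lit 1540))
)))) (.node (nat_lit 0x1106305d9) (.node (nat_lit 0x1106303d1) (.node (nat_lit 0x1106303c9) (.leaf (nat_lit 0x1106301d9) (nat_lit 1792))
 (.leaf (nat_lit 0x1106303c9) (nat_lit 1796))
) (.node (nat_lit 0x1106305c1) (.leaf (nat_lit 0x1106303d1) (nat_lit 1797))
 (.leaf (nat_lit 0x1106305c1) (nat_lit 1284))
)) (.node (nat_lit 0x1106307d1) (.node (nat_lit 0x1106307c9) (.leaf (nat_lit 0x1106305d9) (nat_lit 1536))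
 (.leaf (nat_lit 0x1106307c9) (nat_lit 1540))
) (.node (nat_lit 0x1106341c1) (.leaf (nat_lit 0x1106307d1) (nat_lit 1792))
 (.node (nat_lit 0x1106341d9) (.leaf (nat_lit 0x1106341c1) (nat_lit 1540))
 (.leaf (nat_lit 0x1106341d9) (nat_lit 1792))
))))) (.node (nat_lit 0x1106382d5) (.node (nat_lit 0x1106347c9) (.node (nat_lit 0x1106345c1) (.node (nat_lit 0x1106343d1) (.leaf (nat_lit 0x1106343c9) (nat_lit 1796))
 (.leaf (nat_lit 0x1106343d1) (nat_lit 1797))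
) (.node (nat_lit 0x1106345d9) (.leaf (nat_lit 0x1106345c1) (nat_lit 1284))
 (.leaf (nat_lit 0x1106345d9) (nat_lit 1536))
)) (.node (nat_lit 0x1106380c5) (.node (nat_lit 0x1106347d1) (.leaf (nat_lit 0x1106347c9) (nat_lit 1540))
 (.leaf (nat_lit 0x1106347d1) (nat_lit 1792))
) (.node (nat_lit 0x1106380dd) (.leaf (nat_lit 0x1106380c5) (nat_lit 1797))
 (.node (nat_lit 0x1106382cd) (.leaf (nat_lit 0x1106380dd) (nat_lit 1541))
 (.leaf (nat_lit 0x1106382cd) (nat_lit 1796))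
)))) (.node (nat_lit 0x1106386d5) (.node (nat_lit 0x1106384dd) (.node (nat_lit 0x1106384c5) (.leaf (nat_lit 0x1106382d5) (nat_lit 1797))
 (.leaf (nat_lit 0x1106384c5) (nat_lit 1796))
) (.node (nat_lit 0x1106386cd) (.leaf (nat_lit 0x1106384dd) (nat_lit 1797))
 (.leaf (nat_lit 0x1106386cd) (nat_lit 1540))
)) (.node (nat_lit 0x11063c0dd) (.node (nat_lit 0x11063c0c5) (.leaf (nat_lit 0x1106386d5) (nat_lit 1792))
 (.leaf (nat_lit 0x11063c0c5) (nat_lit 1797))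
) (.node (nat_lit 0x11063c2cd) (.leaf (nat_lit 0x11063c0dd) (nat_lit 1541))
 (.node (nat_lit 0x11063c2d5) (.leaf (nat_lit 0x11063c2cd) (nat_lit 1796))
 (.leaf (nat_lit 0x11063c2d5) (nat_lit 1797))
)))))) (.node (nat_lit 0x118224683) (.node (nat_lit 0x11822049b) (.node (nat_lit 0x118220083) (.node (nat_lit 0x11063c6cd) (.node (nat_lit 0x11063c4dd) (.leaf (nat_lit 0x11063c4c5) (nat_lit 1796))
 (.leaf (nat_lit 0x11063c4dd) (nat_lit 1797))
) (.node (nat_lit 0x11063c6d5) (.leaf (nat_lit 0x11063c6cd) (nat_lit 1540))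
 (.leaf (nat_lit 0x11063c6d5) (nat_lit 1792))
)) (.node (nat_lit 0x118220293) (.node (nat_lit 0x11822008b) (.leaf (nat_lit 0x118220083) (nat_lit 1029))
 (.leaf (nat_lit 0x11822008b) (nat_lit 1285))
) (.node (nat_lit 0x11822029b) (.leaf (nat_lit 0x118220293) (nat_lit 1794))
 (.node (nat_lit 0x118220493) (.leaf (nat_lit 0x11822029b) (nat_lit 1538))
 (.leaf (nat_lit 0x118220493) (nat_lit 1540))
)))) (.node (nat_lit 0x11822408b) (.node (nat_lit 0x11822068b) (.node (nat_lit 0x118220683) (.leaf (nat_lit 0x11822049b) (nat_lit 1796))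
 (.leaf (nat_lit 0x118220683) (nat_lit 1285))
) (.node (nat_lit 0x118224083) (.leaf (nat_lit 0x11822068b) (nat_lit 1541))
 (.leaf (nat_lit 0x118224083) (nat_lit 1029))
)) (.node (nat_lit 0x11822429b) (.node (nat_lit 0x118224293) (.leaf (nat_lit 0x11822408b) (nat_lit 1285))
 (.leaf (nat_lit 0x118224293) (nat_lit 1796))
) (.node (nat_lit 0x118224493) (.leaf (nat_lit 0x11822429b) (nat_lit 1795))
 (.node (nat_lit 0x11822449b) (.leaf (nat_lit 0x118224493) (nat_lit 1540))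
 (.leaf (nat_lit 0x11822449b) (nat_lit 1796))
))))) (.node (nat_lit 0x11822868f) (.node (nat_lit 0x118228297) (.node (nat_lit 0x118228087) (.node (nat_lit 0x11822468b) (.leaf (nat_lit 0x118224683) (nat_lit 1285))
 (.leaf (nat_lit 0x11822468b) (nat_lit 1541))
) (.node (nat_lit 0x11822808f) (.leaf (nat_lit 0x118228087) (nat_lit 1541))
 (.leaf (nat_lit 0x11822808f) (nat_lit 1285))
)) (.node (nat_lit 0x118228497) (.node (nat_lit 0x11822829f) (.leaf (nat_lit 0x118228297) (nat_lit 1539))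
 (.leaf (nat_lit 0x11822829f) (nat_lit 1795))
) (.node (nat_lit 0x11822849f) (.leaf (nat_lit 0x118228497) (nat_lit 1795))
 (.node (nat_lit 0x118228687) (.leaf (nat_lit 0x11822849f) (nat_lit 1796))
 (.leaf (nat_lit 0x118228687) (nat_lit 1797))
)))) (.node (nat_lit 0x11822c29f) (.node (nat_lit 0x11822c08f) (.node (nat_lit 0x11822c087) (.leaf (nat_lit 0x11822868f) (nat_lit 1541))
 (.leaf (nat_lit 0x11822c087) (nat_lit 1541))
) (.node (nat_lit 0x11822c297) (.leaf (nat_lit 0x11822c08f) (nat_lit 1285))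
 (.leaf (nat_lit 0x11822c297) (nat_lit 1539))
)) (.node (nat_lit 0x11822c49f) (.node (nat_lit 0x11822c497) (.leaf (nat_lit 0x11822c29f) (nat_lit 1795))
 (.leaf (nat_lit 0x11822c497) (nat_lit 1795))
) (.node (nat_lit 0x11822c687) (.leaf (nat_lit 0x11822c49f) (nat_lit 1796))
 (.node (nat_lit 0x11822c68f) (.leaf (nat_lit 0x11822c687) (nat_lit 1797))
 (.leaf (nat_lit 0x11822c68f) (nat_lit 1541))
))))))))) (.node (nat_lit 0x30843894e) (.node (nat_lit 0x118434047) (.node (nat_lit 0x11842044b) (.node (nat_lit 0x118238393) (.node (nat_lit 0x11823418f) (.node (nat_lit 0x118230597) (.node (nat_lit 0x118230397) (.node (nat_lit 0x11823018f) (.leaf (nat_lit 0x118230187) (nat_lit 1796))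
 (.leaf (nat_lit 0x11823018f) (nat_lit 1795))
) (.node (nat_lit 0x11823039f) (.leaf (nat_lit 0x118230397) (nat_lit 1541))
 (.leaf (nat_lit 0x11823039f) (nat_lit 1797))
)) (.node (nat_lit 0x118230787) (.node (nat_lit 0x11823059f) (.leaf (nat_lit 0x118230597) (nat_lit 1285))
 (.leaf (nat_lit 0x11823059f) (nat_lit 1541))
) (.node (nat_lit 0x11823078f) (.leaf (nat_lit 0x118230787) (nat_lit 1795))
 (.node (nat_lit 0x118234187) (.leaf (nat_lit 0x11823078f) (nat_lit 1539))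
 (.leaf (nat_lit 0x118234187) (nat_lit 1796))
)))) (.node (nat_lit 0x11823459f) (.node (nat_lit 0x11823439f) (.node (nat_lit 0x118234397) (.leaf (nat_lit 0x11823418f) (nat_lit 1795))
 (.leaf (nat_lit 0x118234397) (nat_lit 1541))
) (.node (nat_lit 0x118234597) (.leaf (nat_lit 0x11823439f) (nat_lit 1797))
 (.leaf (nat_lit 0x118234597) (nat_lit 1285))
)) (.node (nat_lit 0x11823478f) (.node (nat_lit 0x118234787) (.leaf (nat_lit 0x11823459f) (nat_lit 1541))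
 (.leaf (nat_lit 0x118234787) (nat_lit 1795))
) (.node (nat_lit 0x118238183) (.leaf (nat_lit 0x11823478f) (nat_lit 1539))
 (.node (nat_lit 0x11823818b) (.leaf (nat_lit 0x118238183) (nat_lit 1539))
 (.leaf (nat_lit 0x11823818b) (nat_lit 1795))
))))) (.node (nat_lit 0x11823c39b) (.node (nat_lit 0x118238783) (.node (nat_lit 0x118238593) (.node (nat_lit 0x11823839b) (.leaf (nat_lit 0x118238393) (nat_lit 1795))
 (.leaf (nat_lit 0x11823839b) (nat_lit 1797))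
) (.node (nat_lit 0x11823859b) (.leaf (nat_lit 0x118238593) (nat_lit 1797))
 (.leaf (nat_lit 0x11823859b) (nat_lit 1541))
)) (.node (nat_lit 0x11823c183) (.node (nat_lit 0x11823878b) (.leaf (nat_lit 0x118238783) (nat_lit 1283))
 (.leaf (nat_lit 0x11823878b) (nat_lit 1539))
) (.node (nat_lit 0x11823c18b) (.leaf (nat_lit 0x11823c183) (nat_lit 1539))
 (.node (nat_lit 0x11823c393) (.leaf (nat_lit 0x11823c18b) (nat_lit 1795))
 (.leaf (nat_lit 0x11823c393) (nat_lit 1795))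
)))) (.node (nat_lit 0x11823c78b) (.node (nat_lit 0x11823c59b) (.node (nat_lit 0x11823c593) (.leaf (nat_lit 0x11823c39b) (nat_lit 1797))
 (.leaf (nat_lit 0x11823c593) (nat_lit 1797))
) (.node (nat_lit 0x11823c783) (.leaf (nat_lit 0x11823c59b) (nat_lit 1541))
 (.leaf (nat_lit 0x11823c783) (nat_lit 1283))
)) (.node (nat_lit 0x118420053) (.node (nat_lit 0x118420043) (.leaf (nat_lit 0x11823c78b) (nat_lit 1539))
 (.leaf (nat_lit 0x118420043) (nat_lit 1028))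
) (.node (nat_lit 0x11842024b) (.leaf (nat_lit 0x118420053) (nat_lit 1280))
 (.node (nat_lit 0x11842025b) (.leaf (nat_lit 0x11842024b) (nat_lit 1284))
 (.leaf (nat_lit 0x11842025b) (nat_lit 1536))
)))))) (.node (nat_lit 0x118428747) (.node (nat_lit 0x11842445b) (.node (nat_lit 0x118424043) (.node (nat_lit 0x118420643) (.node (nat_lit 0x11842045b) (.leaf (nat_lit 0x11842044b) (nat_lit 1540))
 (.leaf (nat_lit 0x11842045b) (nat_lit 1538))
) (.node (nat_lit 0x118420653) (.leaf (nat_lit 0x118420643) (nat_lit 1284))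
 (.leaf (nat_lit 0x118420653) (nat_lit 1536))
)) (.node (nat_lit 0x11842424b) (.node (nat_lit 0x118424053) (.leaf (nat_lit 0x118424043) (nat_lit 1028))
 (.leaf (nat_lit 0x118424053) (nat_lit 1280))
) (.node (nat_lit 0x11842425b) (.leaf (nat_lit 0x11842424b) (nat_lit 1284))
 (.node (nat_lit 0x11842444b) (.leaf (nat_lit 0x11842425b) (nat_lit 1536))
 (.leaf (nat_lit 0x11842444b) (nat_lit 1540))
)))) (.node (nat_lit 0x118428157) (.node (nat_lit 0x118424653) (.node (nat_lit 0x118424643) (.leaf (nat_lit 0x11842445b) (nat_lit 1792))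
 (.leaf (nat_lit 0x118424643) (nat_lit 1284))
) (.node (nat_lit 0x118428147) (.leaf (nat_lit 0x118424653) (nat_lit 1536))
 (.leaf (nat_lit 0x118428147) (nat_lit 1540))
)) (.node (nat_lit 0x11842835f) (.node (nat_lit 0x11842834f) (.leaf (nat_lit 0x118428157) (nat_lit 1792))
 (.leaf (nat_lit 0x11842834f) (nat_lit 1284))
) (.node (nat_lit 0x11842854f) (.leaf (nat_lit 0x11842835f) (nat_lit 1536))
 (.node (nat_lit 0x11842855f) (.leaf (nat_lit 0x11842854f) (nat_lit 1540))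
 (.leaf (nat_lit 0x11842855f) (nat_lit 1795))
))))) (.node (nat_lit 0x11842c757) (.node (nat_lit 0x11842c34f) (.node (nat_lit 0x11842c147) (.node (nat_lit 0x118428757) (.leaf (nat_lit 0x118428747) (nat_lit 1796))
 (.leaf (nat_lit 0x118428757) (nat_lit 1539))
) (.node (nat_lit 0x11842c157) (.leaf (nat_lit 0x11842c147) (nat_lit 1540))
 (.leaf (nat_lit 0x11842c157) (nat_lit 1792))
)) (.node (nat_lit 0x11842c54f) (.node (nat_lit 0x11842c35f) (.leaf (nat_lit 0x11842c34f) (nat_lit 1284))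
 (.leaf (nat_lit 0x11842c35f) (nat_lit 1536))
) (.node (nat_lit 0x11842c55f) (.leaf (nat_lit 0x11842c54f) (nat_lit 1540))
 (.node (nat_lit 0x11842c747) (.leaf (nat_lit 0x11842c55f) (nat_lit 1795))
 (.leaf (nat_lit 0x11842c747) (nat_lit 1796))
)))) (.node (nat_lit 0x11843025f) (.node (nat_lit 0x118430057) (.node (nat_lit 0x118430047) (.leaf (nat_lit 0x11842c757) (nat_lit 1539))
 (.leaf (nat_lit 0x118430047) (nat_lit 1536))
) (.node (nat_lit 0x11843024f) (.leaf (nat_lit 0x118430057) (nat_lit 1284))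
 (.leaf (nat_lit 0x11843024f) (nat_lit 1792))
)) (.node (nat_lit 0x11843045f) (.node (nat_lit 0x11843044f) (.leaf (nat_lit 0x11843025f) (nat_lit 1540))
 (.leaf (nat_lit 0x11843044f) (nat_lit 1539))
) (.node (nat_lit 0x118430647) (.leaf (nat_lit 0x11843045f) (nat_lit 1796))
 (.node (nat_lit 0x118430657) (.leaf (nat_lit 0x118430647) (nat_lit 1795))
 (.leaf (nat_lit 0x118430657) (nat_lit 1540))
))))))) (.node (nat_lit 0x308424d4a) (.node (nat_lit 0x11843c34b) (.node (nat_lit 0x118438153) (.node (nat_lit 0x11843444f) (.node (nat_lit 0x11843424f) (.node (nat_lit 0x118434057) (.leaf (nat_lit 0x118434047) (nat_lit 1536))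
 (.leaf (nat_lit 0x118434057) (nat_lit 1284))
) (.node (nat_lit 0x11843425f) (.leaf (nat_lit 0x11843424f) (nat_lit 1792))
 (.leaf (nat_lit 0x11843425f) (nat_lit 1540))
)) (.node (nat_lit 0x118434647) (.node (nat_lit 0x11843445f) (.leaf (nat_lit 0x11843444f) (nat_lit 1539))
 (.leaf (nat_lit 0x11843445f) (nat_lit 1796))
) (.node (nat_lit 0x118434657) (.leaf (nat_lit 0x118434647) (nat_lit 1795))
 (.node (nat_lit 0x118438143) (.leaf (nat_lit 0x118434657) (nat_lit 1540))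
 (.leaf (nat_lit 0x118438143) (nat_lit 1539))
)))) (.node (nat_lit 0x11843855b) (.node (nat_lit 0x11843835b) (.node (nat_lit 0x11843834b) (.leaf (nat_lit 0x118438153) (nat_lit 1796))
 (.leaf (nat_lit 0x11843834b) (nat_lit 1795))
) (.node (nat_lit 0x11843854b) (.leaf (nat_lit 0x11843835b) (nat_lit 1540))
 (.leaf (nat_lit 0x11843854b) (nat_lit 1539))
)) (.node (nat_lit 0x118438753) (.node (nat_lit 0x118438743) (.leaf (nat_lit 0x11843855b) (nat_lit 1795))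
 (.leaf (nat_lit 0x118438743) (nat_lit 1283))
) (.node (nat_lit 0x11843c143) (.leaf (nat_lit 0x118438753) (nat_lit 1539))
 (.node (nat_lit 0x11843c153) (.leaf (nat_lit 0x11843c143) (nat_lit 1539))
 (.leaf (nat_lit 0x11843c153) (nat_lit 1796))
))))) (.node (nat_lit 0x308420a52) (.node (nat_lit 0x11843c743) (.node (nat_lit 0x11843c54b) (.node (nat_lit 0x11843c35b) (.leaf (nat_lit 0x11843c34b) (nat_lit 1795))
 (.leaf (nat_lit 0x11843c35b) (nat_lit 1540))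
) (.node (nat_lit 0x11843c55b) (.leaf (nat_lit 0x11843c54b) (nat_lit 1539))
 (.leaf (nat_lit 0x11843c55b) (nat_lit 1795))
)) (.node (nat_lit 0x308420842) (.node (nat_lit 0x11843c753) (.leaf (nat_lit 0x11843c743) (nat_lit 1283))
 (.leaf (nat_lit 0x11843c753) (nat_lit 1539))
) (.node (nat_lit 0x308420852) (.leaf (nat_lit 0x308420842) (nat_lit 1026))
 (.node (nat_lit 0x308420a42) (.leaf (nat_lit 0x308420852) (nat_lit 1282))
 (.leaf (nat_lit 0x308420a42) (nat_lit 770))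
)))) (.node (nat_lit 0x308420e5a) (.node (nat_lit 0x308420c5a) (.node (nat_lit 0x308420c4a) (.leaf (nat_lit 0x308420a52) (nat_lit 1026))
 (.leaf (nat_lit 0x308420c4a) (nat_lit 1792))
) (.node (nat_lit 0x308420e4a) (.leaf (nat_lit 0x308420c5a) (nat_lit 1540))
 (.leaf (nat_lit 0x308420e4a) (nat_lit 1796))
)) (.node (nat_lit 0x308424952) (.node (nat_lit 0x308424942) (.leaf (nat_lit 0x308420e5a) (nat_lit 1796))
 (.leaf (nat_lit 0x308424942) (nat_lit 1283))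
) (.node (nat_lit 0x308424b42) (.leaf (nat_lit 0x308424952) (nat_lit 1539))
 (.node (nat_lit 0x308424b52) (.leaf (nat_lit 0x308424b42) (nat_lit 1027))
 (.leaf (nat_lit 0x308424b52) (nat_lit 1283))
)))))) (.node (nat_lit 0x30842ce4a) (.node (nat_lit 0x308428d5a) (.node (nat_lit 0x308428942) (.node (nat_lit 0x308424f4a) (.node (nat_lit 0x308424d5a) (.leaf (nat_lit 0x308424d4a) (nat_lit 2052))
 (.leaf (nat_lit 0x308424d5a) (nat_lit 1796))
) (.node (nat_lit 0x308424f5a) (.leaf (nat_lit 0x308424f4a) (nat_lit 1796))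
 (.leaf (nat_lit 0x308424f5a) (nat_lit 2052))
)) (.node (nat_lit 0x308428b42) (.node (nat_lit 0x308428952) (.leaf (nat_lit 0x308428942) (nat_lit 1538))
 (.leaf (nat_lit 0x308428952) (nat_lit 1794))
) (.node (nat_lit 0x308428b52) (.leaf (nat_lit 0x308428b42) (nat_lit 1282))
 (.node (nat_lit 0x308428d4a) (.leaf (nat_lit 0x308428b52) (nat_lit 1538))
 (.leaf (nat_lit 0x308428d4a) (nat_lit 2308))
)))) (.node (nat_lit 0x30842c852) (.node (nat_lit 0x308428f5a) (.node (nat_lit 0x308428f4a) (.leaf (nat_lit 0x308428d5a) (nat_lit 2052))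
 (.leaf (nat_lit 0x308428f4a) (nat_lit 2052))
) (.node (nat_lit 0x30842c842) (.leaf (nat_lit 0x308428f5a) (nat_lit 2308))
 (.leaf (nat_lit 0x30842c842) (nat_lit 1281))
)) (.node (nat_lit 0x30842ca52) (.node (nat_lit 0x30842ca42) (.leaf (nat_lit 0x30842c852) (nat_lit 1537))
 (.leaf (nat_lit 0x30842ca42) (nat_lit 1025))
) (.node (nat_lit 0x30842cc4a) (.leaf (nat_lit 0x30842ca52) (nat_lit 1281))
 (.node (nat_lit 0x30842cc5a) (.leaf (nat_lit 0x30842cc4a) (nat_lit 2052))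
 (.leaf (nat_lit 0x30842cc5a) (nat_lit 1796))
))))) (.node (nat_lit 0x308430e56) (.node (nat_lit 0x308430a4e) (.node (nat_lit 0x30843084e) (.node (nat_lit 0x30842ce5a) (.leaf (nat_lit 0x30842ce4a) (nat_lit 1796))
 (.leaf (nat_lit 0x30842ce5a) (nat_lit 2052))
) (.node (nat_lit 0x30843085e) (.leaf (nat_lit 0x30843084e) (nat_lit 2052))
 (.leaf (nat_lit 0x30843085e) (nat_lit 2053))
)) (.node (nat_lit 0x308430c46) (.node (nat_lit 0x308430a5e) (.leaf (nat_lit 0x308430a4e) (nat_lit 2053))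
 (.leaf (nat_lit 0x308430a5e) (nat_lit 1797))
) (.node (nat_lit 0x308430c56) (.leaf (nat_lit 0x308430c46) (nat_lit 2306))
 (.node (nat_lit 0x308430e46) (.leaf (nat_lit 0x308430c56) (nat_lit 2050))
 (.leaf (nat_lit 0x308430e46) (nat_lit 2050))
)))) (.node (nat_lit 0x308434b5e) (.node (nat_lit 0x30843495e) (.node (nat_lit 0x30843494e) (.leaf (nat_lit 0x308430e56) (nat_lit 1794))
 (.leaf (nat_lit 0x30843494e) (nat_lit 1796))
) (.node (nat_lit 0x308434b4e) (.leaf (nat_lit 0x30843495e) (nat_lit 2048))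
 (.leaf (nat_lit 0x308434b4e) (nat_lit 2052))
)) (.node (nat_lit 0x308434d56) (.node (nat_lit 0x308434d46) (.leaf (nat_lit 0x308434b5e) (nat_lit 2052))
 (.leaf (nat_lit 0x308434d46) (nat_lit 2048))
) (.node (nat_lit 0x308434f46) (.leaf (nat_lit 0x308434d56) (nat_lit 1796))
 (.node (nat_lit 0x308434f56) (.leaf (nat_lit 0x308434f46) (nat_lit 1792))
 (.leaf (nat_lit 0x308434f56) (nat_lit 1540))
)))))))) (.node (nat_lit 0x30863c9ce) (.node (nat_lit 0x308628dca) (.node (nat_lit 0x308620ac2) (.node (nat_lit 0x30843c85e) (.node (nat_lit 0x308438d46) (.node (nat_lit 0x308438b4e) (.node (nat_lit 0x30843895e) (.leaf (nat_lit 0x30843894e) (nat_lit 2052))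
 (.leaf (nat_lit 0x30843895e) (nat_lit 2053))
) (.node (nat_lit 0x308438b5e) (.leaf (nat_lit 0x308438b4e) (nat_lit 2053))
 (.leaf (nat_lit 0x308438b5e) (nat_lit 1797))
)) (.node (nat_lit 0x308438f46) (.node (nat_lit 0x308438d56) (.leaf (nat_lit 0x308438d46) (nat_lit 2304))
 (.leaf (nat_lit 0x308438d56) (nat_lit 2052))
) (.node (nat_lit 0x308438f56) (.leaf (nat_lit 0x308438f46) (nat_lit 2048))
 (.node (nat_lit 0x30843c84e) (.leaf (nat_lit 0x308438f56) (nat_lit 1796))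
 (.leaf (nat_lit 0x30843c84e) (nat_lit 2053))
)))) (.node (nat_lit 0x30843cc56) (.node (nat_lit 0x30843ca5e) (.node (nat_lit 0x30843ca4e) (.leaf (nat_lit 0x30843c85e) (nat_lit 1797))
 (.leaf (nat_lit 0x30843ca4e) (nat_lit 1797))
) (.node (nat_lit 0x30843cc46) (.leaf (nat_lit 0x30843ca5e) (nat_lit 1541))
 (.leaf (nat_lit 0x30843cc46) (nat_lit 2053))
)) (.node (nat_lit 0x30843ce56) (.node (nat_lit 0x30843ce46) (.leaf (nat_lit 0x30843cc56) (nat_lit 2305))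
 (.leaf (nat_lit 0x30843ce46) (nat_lit 2309))
) (.node (nat_lit 0x3086208c2) (.leaf (nat_lit 0x30843ce56) (nat_lit 2049))
 (.node (nat_lit 0x3086208da) (.leaf (nat_lit 0x3086208c2) (nat_lit 1026))
 (.leaf (nat_lit 0x3086208da) (nat_lit 1282))
))))) (.node (nat_lit 0x308624bda) (.node (nat_lit 0x308620eca) (.node (nat_lit 0x308620cca) (.node (nat_lit 0x308620ada) (.leaf (nat_lit 0x308620ac2) (nat_lit 770))
 (.leaf (nat_lit 0x308620ada) (nat_lit 1026))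
) (.node (nat_lit 0x308620cd2) (.leaf (nat_lit 0x308620cca) (nat_lit 1797))
 (.leaf (nat_lit 0x308620cd2) (nat_lit 1796))
)) (.node (nat_lit 0x3086249c2) (.node (nat_lit 0x308620ed2) (.leaf (nat_lit 0x308620eca) (nat_lit 1792))
 (.leaf (nat_lit 0x308620ed2) (nat_lit 1540))
) (.node (nat_lit 0x3086249da) (.leaf (nat_lit 0x3086249c2) (nat_lit 1283))
 (.node (nat_lit 0x308624bc2) (.leaf (nat_lit 0x3086249da) (nat_lit 1539))
 (.leaf (nat_lit 0x308624bc2) (nat_lit 1027))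
)))) (.node (nat_lit 0x308624fd2) (.node (nat_lit 0x308624dd2) (.node (nat_lit 0x308624dca) (.leaf (nat_lit 0x308624bda) (nat_lit 1283))
 (.leaf (nat_lit 0x308624dca) (nat_lit 1797))
) (.node (nat_lit 0x308624fca) (.leaf (nat_lit 0x308624dd2) (nat_lit 2052))
 (.leaf (nat_lit 0x308624fca) (nat_lit 2053))
)) (.node (nat_lit 0x3086289da) (.node (nat_lit 0x3086289c2) (.leaf (nat_lit 0x308624fd2) (nat_lit 1796))
 (.leaf (nat_lit 0x3086289c2) (nat_lit 1538))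
) (.node (nat_lit 0x308628bc2) (.leaf (nat_lit 0x3086289da) (nat_lit 1794))
 (.node (nat_lit 0x308628bda) (.leaf (nat_lit 0x308628bc2) (nat_lit 1282))
 (.leaf (nat_lit 0x308628bda) (nat_lit 1538))
)))))) (.node (nat_lit 0x308630fc6) (.node (nat_lit 0x30862ccd2) (.node (nat_lit 0x30862c8c2) (.node (nat_lit 0x308628fca) (.node (nat_lit 0x308628dd2) (.leaf (nat_lit 0x308628dca) (nat_lit 2053))
 (.leaf (nat_lit 0x308628dd2) (nat_lit 2308))
) (.node (nat_lit 0x308628fd2) (.leaf (nat_lit 0x308628fca) (nat_lit 2309))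
 (.leaf (nat_lit 0x308628fd2) (nat_lit 2052))
)) (.node (nat_lit 0x30862cac2) (.node (nat_lit 0x30862c8da) (.leaf (nat_lit 0x30862c8c2) (nat_lit 1281))
 (.leaf (nat_lit 0x30862c8da) (nat_lit 1537))
) (.node (nat_lit 0x30862cada) (.leaf (nat_lit 0x30862cac2) (nat_lit 1025))
 (.node (nat_lit 0x30862ccca) (.leaf (nat_lit 0x30862cada) (nat_lit 1281))
 (.leaf (nat_lit 0x30862ccca) (nat_lit 1797))
)))) (.node (nat_lit 0x3086309d6) (.node (nat_lit 0x30862ced2) (.node (nat_lit 0x30862ceca) (.leaf (nat_lit 0x30862ccd2) (nat_lit 2052))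
 (.leaf (nat_lit 0x30862ceca) (nat_lit 2053))
) (.node (nat_lit 0x3086309ce) (.leaf (nat_lit 0x30862ced2) (nat_lit 1796))
 (.leaf (nat_lit 0x3086309ce) (nat_lit 2052))
)) (.node (nat_lit 0x308630bd6) (.node (nat_lit 0x308630bce) (.leaf (nat_lit 0x3086309d6) (nat_lit 2050))
 (.leaf (nat_lit 0x308630bce) (nat_lit 2050))
) (.node (nat_lit 0x308630dc6) (.leaf (nat_lit 0x308630bd6) (nat_lit 1794))
 (.node (nat_lit 0x308630dde) (.leaf (nat_lit 0x308630dc6) (nat_lit 2048))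
 (.leaf (nat_lit 0x308630dde) (nat_lit 1796))
))))) (.node (nat_lit 0x308634ede) (.node (nat_lit 0x308634ace) (.node (nat_lit 0x3086348ce) (.node (nat_lit 0x308630fde) (.leaf (nat_lit 0x308630fc6) (nat_lit 2304))
 (.leaf (nat_lit 0x308630fde) (nat_lit 2052))
) (.node (nat_lit 0x3086348d6) (.leaf (nat_lit 0x3086348ce) (nat_lit 2053))
 (.leaf (nat_lit 0x3086348d6) (nat_lit 1797))
)) (.node (nat_lit 0x308634cc6) (.node (nat_lit 0x308634ad6) (.leaf (nat_lit 0x308634ace) (nat_lit 1797))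
 (.leaf (nat_lit 0x308634ad6) (nat_lit 1541))
) (.node (nat_lit 0x308634cde) (.leaf (nat_lit 0x308634cc6) (nat_lit 2308))
 (.node (nat_lit 0x308634ec6) (.leaf (nat_lit 0x308634cde) (nat_lit 2053))
 (.leaf (nat_lit 0x308634ec6) (nat_lit 2052))
)))) (.node (nat_lit 0x308638ad6) (.node (nat_lit 0x3086388d6) (.node (nat_lit 0x3086388ce) (.leaf (nat_lit 0x308634ede) (nat_lit 2309))
 (.leaf (nat_lit 0x3086388ce) (nat_lit 2052))
) (.node (nat_lit 0x308638ace) (.leaf (nat_lit 0x3086388d6) (nat_lit 2053))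
 (.leaf (nat_lit 0x308638ace) (nat_lit 2053))
)) (.node (nat_lit 0x308638cde) (.node (nat_lit 0x308638cc6) (.leaf (nat_lit 0x308638ad6) (nat_lit 1797))
 (.leaf (nat_lit 0x308638cc6) (nat_lit 2048))
) (.node (nat_lit 0x308638ec6) (.leaf (nat_lit 0x308638cde) (nat_lit 1796))
 (.node (nat_lit 0x308638ede) (.leaf (nat_lit 0x308638ec6) (nat_lit 2304))
 (.leaf (nat_lit 0x308638ede) (nat_lit 2052))
))))))) (.node (nat_lit 0x31022c4a1) (.node (nat_lit 0x3102242b5) (.node (nat_lit 0x3102200a9) (.node (nat_lit 0x30863cdc6) (.node (nat_lit 0x30863cbce) (.node (nat_lit 0x30863c9d6) (.leaf (nat_lit 0x30863c9ce) (nat_lit 1796))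
 (.leaf (nat_lit 0x30863c9d6) (nat_lit 2048))
) (.node (nat_lit 0x30863cbd6) (.leaf (nat_lit 0x30863cbce) (nat_lit 2052))
 (.leaf (nat_lit 0x30863cbd6) (nat_lit 2049))
)) (.node (nat_lit 0x30863cfc6) (.node (nat_lit 0x30863cdde) (.leaf (nat_lit 0x30863cdc6) (nat_lit 1792))
 (.leaf (nat_lit 0x30863cdde) (nat_lit 1540))
) (.node (nat_lit 0x30863cfde) (.leaf (nat_lit 0x30863cfc6) (nat_lit 2048))
 (.node (nat_lit 0x3102200a1) (.leaf (nat_lit 0x30863cfde) (nat_lit 1796))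
 (.leaf (nat_lit 0x3102200a1) (nat_lit 1285))
)))) (.node (nat_lit 0x3102204a9) (.node (nat_lit 0x3102202b9) (.node (nat_lit 0x3102202b1) (.leaf (nat_lit 0x3102200a9) (nat_lit 1029))
 (.leaf (nat_lit 0x3102202b1) (nat_lit 1796))
) (.node (nat_lit 0x3102204a1) (.leaf (nat_lit 0x3102202b9) (nat_lit 1796))
 (.leaf (nat_lit 0x3102204a1) (nat_lit 1541))
)) (.node (nat_lit 0x3102206b9) (.node (nat_lit 0x3102206b1) (.leaf (nat_lit 0x3102204a9) (nat_lit 1285))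
 (.leaf (nat_lit 0x3102206b1) (nat_lit 1540))
) (.node (nat_lit 0x3102240a5) (.leaf (nat_lit 0x3102206b9) (nat_lit 1796))
 (.node (nat_lit 0x3102240ad) (.leaf (nat_lit 0x3102240a5) (nat_lit 1541))
 (.leaf (nat_lit 0x3102240ad) (nat_lit 1285))
))))) (.node (nat_lit 0x3102282bd) (.node (nat_lit 0x3102246b5) (.node (nat_lit 0x3102244a5) (.node (nat_lit 0x3102242bd) (.leaf (nat_lit 0x3102242b5) (nat_lit 2052))
 (.leaf (nat_lit 0x3102242bd) (nat_lit 1796))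
) (.node (nat_lit 0x3102244ad) (.leaf (nat_lit 0x3102244a5) (nat_lit 1797))
 (.leaf (nat_lit 0x3102244ad) (nat_lit 1541))
)) (.node (nat_lit 0x3102280a5) (.node (nat_lit 0x3102246bd) (.leaf (nat_lit 0x3102246b5) (nat_lit 1796))
 (.leaf (nat_lit 0x3102246bd) (nat_lit 2052))
) (.node (nat_lit 0x3102280ad) (.leaf (nat_lit 0x3102280a5) (nat_lit 1797))
 (.node (nat_lit 0x3102282b5) (.leaf (nat_lit 0x3102280ad) (nat_lit 1541))
 (.leaf (nat_lit 0x3102282b5) (nat_lit 2051))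
)))) (.node (nat_lit 0x3102286bd) (.node (nat_lit 0x3102284ad) (.node (nat_lit 0x3102284a5) (.leaf (nat_lit 0x3102282bd) (nat_lit 1795))
 (.leaf (nat_lit 0x3102284a5) (nat_lit 2053))
) (.node (nat_lit 0x3102286b5) (.leaf (nat_lit 0x3102284ad) (nat_lit 1797))
 (.leaf (nat_lit 0x3102286b5) (nat_lit 2052))
)) (.node (nat_lit 0x31022c0a9) (.node (nat_lit 0x31022c0a1) (.leaf (nat_lit 0x3102286bd) (nat_lit 2051))
 (.leaf (nat_lit 0x31022c0a1) (nat_lit 1541))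
) (.node (nat_lit 0x31022c2b1) (.leaf (nat_lit 0x31022c0a9) (nat_lit 1285))
 (.node (nat_lit 0x31022c2b9) (.leaf (nat_lit 0x31022c2b1) (nat_lit 2052))
 (.leaf (nat_lit 0x31022c2b9) (nat_lit 1796))
)))))) (.node (nat_lit 0x3102347a5) (.node (nat_lit 0x3102305b9) (.node (nat_lit 0x3102301b1) (.node (nat_lit 0x31022c6b1) (.node (nat_lit 0x31022c4a9) (.leaf (nat_lit 0x31022c4a1) (nat_lit 1797))
 (.leaf (nat_lit 0x31022c4a9) (nat_lit 1541))
) (.node (nat_lit 0x31022c6b9) (.leaf (nat_lit 0x31022c6b1) (nat_lit 1796))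
 (.leaf (nat_lit 0x31022c6b9) (nat_lit 2052))
)) (.node (nat_lit 0x3102303a1) (.node (nat_lit 0x3102301b9) (.leaf (nat_lit 0x3102301b1) (nat_lit 2051))
 (.leaf (nat_lit 0x3102301b9) (nat_lit 2052))
) (.node (nat_lit 0x3102303a9) (.leaf (nat_lit 0x3102303a1) (nat_lit 2051))
 (.node (nat_lit 0x3102305b1) (.leaf (nat_lit 0x3102303a9) (nat_lit 1795))
 (.leaf (nat_lit 0x3102305b1) (nat_lit 2052))
)))) (.node (nat_lit 0x3102341bd) (.node (nat_lit 0x3102307a9) (.node (nat_lit 0x3102307a1) (.leaf (nat_lit 0x3102305b9) (nat_lit 1796))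
 (.leaf (nat_lit 0x3102307a1) (nat_lit 1795))
) (.node (nat_lit 0x3102341b5) (.leaf (nat_lit 0x3102307a9) (nat_lit 1539))
 (.leaf (nat_lit 0x3102341b5) (nat_lit 2052))
)) (.node (nat_lit 0x3102343ad) (.node (nat_lit 0x3102343a5) (.leaf (nat_lit 0x3102341bd) (nat_lit 1796))
 (.leaf (nat_lit 0x3102343a5) (nat_lit 1796))
) (.node (nat_lit 0x3102345b5) (.leaf (nat_lit 0x3102343ad) (nat_lit 2052))
 (.node (nat_lit 0x3102345bd) (.leaf (nat_lit 0x3102345b5) (nat_lit 1796))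
 (.leaf (nat_lit 0x3102345bd) (nat_lit 1540))
))))) (.node (nat_lit 0x3102387ad) (.node (nat_lit 0x3102383a5) (.node (nat_lit 0x3102381b5) (.node (nat_lit 0x3102347ad) (.leaf (nat_lit 0x3102347a5) (nat_lit 2051))
 (.leaf (nat_lit 0x3102347ad) (nat_lit 1795))
) (.node (nat_lit 0x3102381bd) (.leaf (nat_lit 0x3102381b5) (nat_lit 2051))
 (.leaf (nat_lit 0x3102381bd) (nat_lit 2052))
)) (.node (nat_lit 0x3102385b5) (.node (nat_lit 0x3102383ad) (.leaf (nat_lit 0x3102383a5) (nat_lit 2051))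
 (.leaf (nat_lit 0x3102383ad) (nat_lit 1795))
) (.node (nat_lit 0x3102385bd) (.leaf (nat_lit 0x3102385b5) (nat_lit 2052))
 (.node (nat_lit 0x3102387a5) (.leaf (nat_lit 0x3102385bd) (nat_lit 1796))
 (.leaf (nat_lit 0x3102387a5) (nat_lit 1795))
)))) (.node (nat_lit 0x31023c3a9) (.node (nat_lit 0x31023c1b9) (.node (nat_lit 0x31023c1b1) (.leaf (nat_lit 0x3102387ad) (nat_lit 1539))
 (.leaf (nat_lit 0x31023c1b1) (nat_lit 1795))
) (.node (nat_lit 0x31023c3a1) (.leaf (nat_lit 0x31023c1b9) (nat_lit 2051))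
 (.leaf (nat_lit 0x31023c3a1) (nat_lit 1795))
)) (.node (nat_lit 0x31023c5b9) (.node (nat_lit 0x31023c5b1) (.leaf (nat_lit 0x31023c3a9) (nat_lit 1539))
 (.leaf (nat_lit 0x31023c5b1) (nat_lit 2051))
) (.node (nat_lit 0x31023c7a1) (.leaf (nat_lit 0x31023c5b9) (nat_lit 2051))
 (.node (nat_lit 0x31023c7a9) (.leaf (nat_lit 0x31023c7a1) (nat_lit 1539))
 (.leaf (nat_lit 0x31023c7a9) (nat_lit 1283))
)))))))))) (.node (nat_lit 0x5086309e6) (.node (nat_lit 0x318428967) (.node (nat_lit 0x3182240a7) (.node (nat_lit 0x310630de9) (.node (nat_lit 0x310628bed) (.node (nat_lit 0x3106249fd) (.node (nat_lit 0x310620ce1) (.node (nat_lit 0x310620ae9) (.node (nat_lit 0x3106208f9) (.leaf (nat_lit 0x3106208e1) (nat_lit 1284))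
 (.leaf (nat_lit 0x3106208f9) (nat_lit 1536))
) (.node (nat_lit 0x310620af1) (.leaf (nat_lit 0x310620ae9) (nat_lit 1028))
 (.leaf (nat_lit 0x310620af1) (nat_lit 1280))
)) (.node (nat_lit 0x310620ee9) (.node (nat_lit 0x310620cf9) (.leaf (nat_lit 0x310620ce1) (nat_lit 1540))
 (.leaf (nat_lit 0x310620cf9) (nat_lit 1792))
) (.node (nat_lit 0x310620ef1) (.leaf (nat_lit 0x310620ee9) (nat_lit 1284))
 (.node (nat_lit 0x3106249e5) (.leaf (nat_lit 0x310620ef1) (nat_lit 1536))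
 (.leaf (nat_lit 0x3106249e5) (nat_lit 1540))
)))) (.node (nat_lit 0x310624dfd) (.node (nat_lit 0x310624bf5) (.node (nat_lit 0x310624bed) (.leaf (nat_lit 0x3106249fd) (nat_lit 1792))
 (.leaf (nat_lit 0x310624bed) (nat_lit 1284))
) (.node (nat_lit 0x310624de5) (.leaf (nat_lit 0x310624bf5) (nat_lit 1536))
 (.leaf (nat_lit 0x310624de5) (nat_lit 1796))
)) (.node (nat_lit 0x310624ff5) (.node (nat_lit 0x310624fed) (.leaf (nat_lit 0x310624dfd) (nat_lit 1797))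
 (.leaf (nat_lit 0x310624fed) (nat_lit 1540))
) (.node (nat_lit 0x3106289e5) (.leaf (nat_lit 0x310624ff5) (nat_lit 1792))
 (.node (nat_lit 0x3106289fd) (.leaf (nat_lit 0x3106289e5) (nat_lit 1796))
 (.leaf (nat_lit 0x3106289fd) (nat_lit 2048))
))))) (.node (nat_lit 0x31062caf1) (.node (nat_lit 0x310628fed) (.node (nat_lit 0x310628de5) (.node (nat_lit 0x310628bf5) (.leaf (nat_lit 0x310628bed) (nat_lit 1540))
 (.leaf (nat_lit 0x310628bf5) (nat_lit 1792))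
) (.node (nat_lit 0x310628dfd) (.leaf (nat_lit 0x310628de5) (nat_lit 2052))
 (.leaf (nat_lit 0x310628dfd) (nat_lit 1795))
)) (.node (nat_lit 0x31062c8e1) (.node (nat_lit 0x310628ff5) (.leaf (nat_lit 0x310628fed) (nat_lit 1796))
 (.leaf (nat_lit 0x310628ff5) (nat_lit 2051))
) (.node (nat_lit 0x31062c8f9) (.leaf (nat_lit 0x31062c8e1) (nat_lit 1540))
 (.node (nat_lit 0x31062cae9) (.leaf (nat_lit 0x31062c8f9) (nat_lit 1792))
 (.leaf (nat_lit 0x31062cae9) (nat_lit 1284))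
)))) (.node (nat_lit 0x31062cef1) (.node (nat_lit 0x31062ccf9) (.node (nat_lit 0x31062cce1) (.leaf (nat_lit 0x31062caf1) (nat_lit 1536))
 (.leaf (nat_lit 0x31062cce1) (nat_lit 1796))
) (.node (nat_lit 0x31062cee9) (.leaf (nat_lit 0x31062ccf9) (nat_lit 1797))
 (.leaf (nat_lit 0x31062cee9) (nat_lit 1540))
)) (.node (nat_lit 0x3106309f1) (.node (nat_lit 0x3106309e9) (.leaf (nat_lit 0x31062cef1) (nat_lit 1792))
 (.leaf (nat_lit 0x3106309e9) (nat_lit 1795))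
) (.node (nat_lit 0x310630be1) (.leaf (nat_lit 0x3106309f1) (nat_lit 2053))
 (.node (nat_lit 0x310630bf9) (.leaf (nat_lit 0x310630be1) (nat_lit 2051))
 (.leaf (nat_lit 0x310630bf9) (nat_lit 1797))
)))))) (.node (nat_lit 0x310638ee5) (.node (nat_lit 0x310634cf5) (.node (nat_lit 0x3106348ed) (.node (nat_lit 0x310630fe1) (.node (nat_lit 0x310630df1) (.leaf (nat_lit 0x310630de9) (nat_lit 1539))
 (.leaf (nat_lit 0x310630df1) (nat_lit 1795))
) (.node (nat_lit 0x310630ff9) (.leaf (nat_lit 0x310630fe1) (nat_lit 1795))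
 (.leaf (nat_lit 0x310630ff9) (nat_lit 2051))
)) (.node (nat_lit 0x310634ae5) (.node (nat_lit 0x3106348f5) (.leaf (nat_lit 0x3106348ed) (nat_lit 2053))
 (.leaf (nat_lit 0x3106348f5) (nat_lit 1797))
) (.node (nat_lit 0x310634afd) (.leaf (nat_lit 0x310634ae5) (nat_lit 1797))
 (.node (nat_lit 0x310634ced) (.leaf (nat_lit 0x310634afd) (nat_lit 1541))
 (.leaf (nat_lit 0x310634ced) (nat_lit 1795))
)))) (.node (nat_lit 0x3106388f5) (.node (nat_lit 0x310634efd) (.node (nat_lit 0x310634ee5) (.leaf (nat_lit 0x310634cf5) (nat_lit 2053))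
 (.leaf (nat_lit 0x310634ee5) (nat_lit 2051))
) (.node (nat_lit 0x3106388ed) (.leaf (nat_lit 0x310634efd) (nat_lit 1797))
 (.leaf (nat_lit 0x3106388ed) (nat_lit 1795))
)) (.node (nat_lit 0x310638afd) (.node (nat_lit 0x310638ae5) (.leaf (nat_lit 0x3106388f5) (nat_lit 2053))
 (.leaf (nat_lit 0x310638ae5) (nat_lit 2051))
) (.node (nat_lit 0x310638ced) (.leaf (nat_lit 0x310638afd) (nat_lit 1797))
 (.node (nat_lit 0x310638cf5) (.leaf (nat_lit 0x310638ced) (nat_lit 1539))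
 (.leaf (nat_lit 0x310638cf5) (nat_lit 1795))
))))) (.node (nat_lit 0x31063cff9) (.node (nat_lit 0x31063cbe1) (.node (nat_lit 0x31063c9e9) (.node (nat_lit 0x310638efd) (.leaf (nat_lit 0x310638ee5) (nat_lit 1795))
 (.leaf (nat_lit 0x310638efd) (nat_lit 2051))
) (.node (nat_lit 0x31063c9f1) (.leaf (nat_lit 0x31063c9e9) (nat_lit 1539))
 (.leaf (nat_lit 0x31063c9f1) (nat_lit 1795))
)) (.node (nat_lit 0x31063cde9) (.node (nat_lit 0x31063cbf9) (.leaf (nat_lit 0x31063cbe1) (nat_lit 1795))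
 (.leaf (nat_lit 0x31063cbf9) (nat_lit 2051))
) (.node (nat_lit 0x31063cdf1) (.leaf (nat_lit 0x31063cde9) (nat_lit 1283))
 (.node (nat_lit 0x31063cfe1) (.leaf (nat_lit 0x31063cdf1) (nat_lit 1539))
 (.leaf (nat_lit 0x31063cfe1) (nat_lit 1539))
)))) (.node (nat_lit 0x3182202bb) (.node (nat_lit 0x3182200ab) (.node (nat_lit 0x3182200a3) (.leaf (nat_lit 0x31063cff9) (nat_lit 1795))
 (.leaf (nat_lit 0x3182200a3) (nat_lit 1285))
) (.node (nat_lit 0x3182202b3) (.leaf (nat_lit 0x3182200ab) (nat_lit 1029))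
 (.leaf (nat_lit 0x3182202b3) (nat_lit 1538))
)) (.node (nat_lit 0x3182204bb) (.node (nat_lit 0x3182204b3) (.leaf (nat_lit 0x3182202bb) (nat_lit 1794))
 (.leaf (nat_lit 0x3182204b3) (nat_lit 1796))
) (.node (nat_lit 0x3182206a3) (.leaf (nat_lit 0x3182204bb) (nat_lit 1540))
 (.node (nat_lit 0x3182206ab) (.leaf (nat_lit 0x3182206a3) (nat_lit 1541))
 (.leaf (nat_lit 0x3182206ab) (nat_lit 1285))
))))))) (.node (nat_lit 0x3182345a3) (.node (nat_lit 0x31822c2b3) (.node (nat_lit 0x3182280af) (.node (nat_lit 0x3182244b7) (.node (nat_lit 0x3182242b7) (.node (nat_lit 0x3182240af) (.leaf (nat_lit 0x3182240a7) (nat_lit 1541))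
 (.leaf (nat_lit 0x3182240af) (nat_lit 1285))
) (.node (nat_lit 0x3182242bf) (.leaf (nat_lit 0x3182242b7) (nat_lit 1538))
 (.leaf (nat_lit 0x3182242bf) (nat_lit 1794))
)) (.node (nat_lit 0x3182246a7) (.node (nat_lit 0x3182244bf) (.leaf (nat_lit 0x3182244b7) (nat_lit 1794))
 (.leaf (nat_lit 0x3182244bf) (nat_lit 1796))
) (.node (nat_lit 0x3182246af) (.leaf (nat_lit 0x3182246a7) (nat_lit 1797))
 (.node (nat_lit 0x3182280a7) (.leaf (nat_lit 0x3182246af) (nat_lit 1541))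
 (.leaf (nat_lit 0x3182280a7) (nat_lit 1797))
)))) (.node (nat_lit 0x3182284bf) (.node (nat_lit 0x3182282bf) (.node (nat_lit 0x3182282b7) (.leaf (nat_lit 0x3182280af) (nat_lit 1541))
 (.leaf (nat_lit 0x3182282b7) (nat_lit 1793))
) (.node (nat_lit 0x3182284b7) (.leaf (nat_lit 0x3182282bf) (nat_lit 2049))
 (.leaf (nat_lit 0x3182284b7) (nat_lit 2049))
)) (.node (nat_lit 0x3182286af) (.node (nat_lit 0x3182286a7) (.leaf (nat_lit 0x3182284bf) (nat_lit 2052))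
 (.leaf (nat_lit 0x3182286a7) (nat_lit 2053))
) (.node (nat_lit 0x31822c0a3) (.leaf (nat_lit 0x3182286af) (nat_lit 1797))
 (.node (nat_lit 0x31822c0ab) (.leaf (nat_lit 0x31822c0a3) (nat_lit 1541))
 (.leaf (nat_lit 0x31822c0ab) (nat_lit 1285))
))))) (.node (nat_lit 0x3182303af) (.node (nat_lit 0x31822c6a3) (.node (nat_lit 0x31822c4b3) (.node (nat_lit 0x31822c2bb) (.leaf (nat_lit 0x31822c2b3) (nat_lit 1538))
 (.leaf (nat_lit 0x31822c2bb) (nat_lit 1794))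
) (.node (nat_lit 0x31822c4bb) (.leaf (nat_lit 0x31822c4b3) (nat_lit 1794))
 (.leaf (nat_lit 0x31822c4bb) (nat_lit 1796))
)) (.node (nat_lit 0x3182301b7) (.node (nat_lit 0x31822c6ab) (.leaf (nat_lit 0x31822c6a3) (nat_lit 1797))
 (.leaf (nat_lit 0x31822c6ab) (nat_lit 1541))
) (.node (nat_lit 0x3182301bf) (.leaf (nat_lit 0x3182301b7) (nat_lit 2051))
 (.node (nat_lit 0x3182303a7) (.leaf (nat_lit 0x3182301bf) (nat_lit 2051))
 (.leaf (nat_lit 0x3182303a7) (nat_lit 2051))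
)))) (.node (nat_lit 0x3182307bf) (.node (nat_lit 0x3182305af) (.node (nat_lit 0x3182305a7) (.leaf (nat_lit 0x3182303af) (nat_lit 1795))
 (.leaf (nat_lit 0x3182305a7) (nat_lit 1795))
) (.node (nat_lit 0x3182307b7) (.leaf (nat_lit 0x3182305af) (nat_lit 1539))
 (.leaf (nat_lit 0x3182307b7) (nat_lit 1795))
)) (.node (nat_lit 0x3182341bb) (.node (nat_lit 0x3182341b3) (.leaf (nat_lit 0x3182307bf) (nat_lit 2051))
 (.leaf (nat_lit 0x3182341b3) (nat_lit 2051))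
) (.node (nat_lit 0x3182343a3) (.leaf (nat_lit 0x3182341bb) (nat_lit 1795))
 (.node (nat_lit 0x3182343ab) (.leaf (nat_lit 0x3182343a3) (nat_lit 1795))
 (.leaf (nat_lit 0x3182343ab) (nat_lit 1539))
)))))) (.node (nat_lit 0x31823c7b7) (.node (nat_lit 0x3182385ab) (.node (nat_lit 0x3182381b3) (.node (nat_lit 0x3182347b3) (.node (nat_lit 0x3182345ab) (.leaf (nat_lit 0x3182345a3) (nat_lit 1539))
 (.leaf (nat_lit 0x3182345ab) (nat_lit 1283))
) (.node (nat_lit 0x3182347bb) (.leaf (nat_lit 0x3182347b3) (nat_lit 1795))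
 (.leaf (nat_lit 0x3182347bb) (nat_lit 2051))
)) (.node (nat_lit 0x3182383a3) (.node (nat_lit 0x3182381bb) (.leaf (nat_lit 0x3182381b3) (nat_lit 2051))
 (.leaf (nat_lit 0x3182381bb) (nat_lit 2051))
) (.node (nat_lit 0x3182383ab) (.leaf (nat_lit 0x3182383a3) (nat_lit 2051))
 (.node (nat_lit 0x3182385a3) (.leaf (nat_lit 0x3182383ab) (nat_lit 1795))
 (.leaf (nat_lit 0x3182385a3) (nat_lit 1795))
)))) (.node (nat_lit 0x31823c1bf) (.node (nat_lit 0x3182387bb) (.node (nat_lit 0x3182387b3) (.leaf (nat_lit 0x3182385ab) (nat_lit 1539))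
 (.leaf (nat_lit 0x3182387b3) (nat_lit 1795))
) (.node (nat_lit 0x31823c1b7) (.leaf (nat_lit 0x3182387bb) (nat_lit 2051))
 (.leaf (nat_lit 0x31823c1b7) (nat_lit 1796))
)) (.node (nat_lit 0x31823c3af) (.node (nat_lit 0x31823c3a7) (.leaf (nat_lit 0x31823c1bf) (nat_lit 2052))
 (.leaf (nat_lit 0x31823c3a7) (nat_lit 1796))
) (.node (nat_lit 0x31823c5a7) (.leaf (nat_lit 0x31823c3af) (nat_lit 2052))
 (.node (nat_lit 0x31823c5af) (.leaf (nat_lit 0x31823c5a7) (nat_lit 2051))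
 (.leaf (nat_lit 0x31823c5af) (nat_lit 1795))
))))) (.node (nat_lit 0x318420e73) (.node (nat_lit 0x318420a6b) (.node (nat_lit 0x318420863) (.node (nat_lit 0x31823c7bf) (.leaf (nat_lit 0x31823c7b7) (nat_lit 1540))
 (.leaf (nat_lit 0x31823c7bf) (nat_lit 1796))
) (.node (nat_lit 0x318420873) (.leaf (nat_lit 0x318420863) (nat_lit 1284))
 (.leaf (nat_lit 0x318420873) (nat_lit 1536))
)) (.node (nat_lit 0x318420c6b) (.node (nat_lit 0x318420a7b) (.leaf (nat_lit 0x318420a6b) (nat_lit 1028))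
 (.leaf (nat_lit 0x318420a7b) (nat_lit 1280))
) (.node (nat_lit 0x318420c7b) (.leaf (nat_lit 0x318420c6b) (nat_lit 1284))
 (.node (nat_lit 0x318420e63) (.leaf (nat_lit 0x318420c7b) (nat_lit 1536))
 (.leaf (nat_lit 0x318420e63) (nat_lit 1540))
)))) (.node (nat_lit 0x318424b7f) (.node (nat_lit 0x318424977) (.node (nat_lit 0x318424967) (.leaf (nat_lit 0x318420e73) (nat_lit 1538))
 (.leaf (nat_lit 0x318424967) (nat_lit 1540))
) (.node (nat_lit 0x318424b6f) (.leaf (nat_lit 0x318424977) (nat_lit 1792))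
 (.leaf (nat_lit 0x318424b6f) (nat_lit 1284))
)) (.node (nat_lit 0x318424d7f) (.node (nat_lit 0x318424d6f) (.leaf (nat_lit 0x318424b7f) (nat_lit 1536))
 (.leaf (nat_lit 0x318424d6f) (nat_lit 1540))
) (.node (nat_lit 0x318424f67) (.leaf (nat_lit 0x318424d7f) (nat_lit 1794))
 (.node (nat_lit 0x318424f77) (.leaf (nat_lit 0x318424f67) (nat_lit 1796))
 (.leaf (nat_lit 0x318424f77) (nat_lit 1538))
)))))))) (.node (nat_lit 0x50842c16e) (.node (nat_lit 0x318438d63) (.node (nat_lit 0x318430a67) (.node (nat_lit 0x31842c873) (.node (nat_lit 0x318428d6f) (.node (nat_lit 0x318428b6f) (.node (nat_lit 0x318428977) (.leaf (nat_lit 0x318428967) (nat_lit 1796))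
 (.leaf (nat_lit 0x318428977) (nat_lit 2048))
) (.node (nat_lit 0x318428b7f) (.leaf (nat_lit 0x318428b6f) (nat_lit 1540))
 (.leaf (nat_lit 0x318428b7f) (nat_lit 1792))
)) (.node (nat_lit 0x318428f67) (.node (nat_lit 0x318428d7f) (.leaf (nat_lit 0x318428d6f) (nat_lit 1796))
 (.leaf (nat_lit 0x318428d7f) (nat_lit 2049))
) (.node (nat_lit 0x318428f77) (.leaf (nat_lit 0x318428f67) (nat_lit 2052))
 (.node (nat_lit 0x31842c863) (.leaf (nat_lit 0x318428f77) (nat_lit 1793))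
 (.leaf (nat_lit 0x31842c863) (nat_lit 1540))
)))) (.node (nat_lit 0x31842cc7b) (.node (nat_lit 0x31842ca7b) (.node (nat_lit 0x31842ca6b) (.leaf (nat_lit 0x31842c873) (nat_lit 1792))
 (.leaf (nat_lit 0x31842ca6b) (nat_lit 1284))
) (.node (nat_lit 0x31842cc6b) (.leaf (nat_lit 0x31842ca7b) (nat_lit 1536))
 (.leaf (nat_lit 0x31842cc6b) (nat_lit 1540))
)) (.node (nat_lit 0x31842ce73) (.node (nat_lit 0x31842ce63) (.leaf (nat_lit 0x31842cc7b) (nat_lit 1794))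
 (.leaf (nat_lit 0x31842ce63) (nat_lit 1796))
) (.node (nat_lit 0x31843086f) (.leaf (nat_lit 0x31842ce73) (nat_lit 1538))
 (.node (nat_lit 0x31843087f) (.leaf (nat_lit 0x31843086f) (nat_lit 1795))
 (.leaf (nat_lit 0x31843087f) (nat_lit 2051))
))))) (.node (nat_lit 0x318434b73) (.node (nat_lit 0x318430e6f) (.node (nat_lit 0x318430c67) (.node (nat_lit 0x318430a77) (.leaf (nat_lit 0x318430a67) (nat_lit 2051))
 (.leaf (nat_lit 0x318430a77) (nat_lit 1795))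
) (.node (nat_lit 0x318430c77) (.leaf (nat_lit 0x318430c67) (nat_lit 1795))
 (.leaf (nat_lit 0x318430c77) (nat_lit 2051))
)) (.node (nat_lit 0x31843496b) (.node (nat_lit 0x318430e7f) (.leaf (nat_lit 0x318430e6f) (nat_lit 1539))
 (.leaf (nat_lit 0x318430e7f) (nat_lit 1795))
) (.node (nat_lit 0x31843497b) (.leaf (nat_lit 0x31843496b) (nat_lit 1539))
 (.node (nat_lit 0x318434b63) (.leaf (nat_lit 0x31843497b) (nat_lit 1795))
 (.leaf (nat_lit 0x318434b63) (nat_lit 1795))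
)))) (.node (nat_lit 0x318434f7b) (.node (nat_lit 0x318434d73) (.node (nat_lit 0x318434d63) (.leaf (nat_lit 0x318434b73) (nat_lit 1795))
 (.leaf (nat_lit 0x318434d63) (nat_lit 1539))
) (.node (nat_lit 0x318434f6b) (.leaf (nat_lit 0x318434d73) (nat_lit 1795))
 (.leaf (nat_lit 0x318434f6b) (nat_lit 1283))
)) (.node (nat_lit 0x31843897b) (.node (nat_lit 0x31843896b) (.leaf (nat_lit 0x318434f7b) (nat_lit 1539))
 (.leaf (nat_lit 0x31843896b) (nat_lit 1795))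
) (.node (nat_lit 0x318438b63) (.leaf (nat_lit 0x31843897b) (nat_lit 2051))
 (.node (nat_lit 0x318438b73) (.leaf (nat_lit 0x318438b63) (nat_lit 2051))
 (.leaf (nat_lit 0x318438b73) (nat_lit 1795))
)))))) (.node (nat_lit 0x50842066a) (.node (nat_lit 0x31843cc77) (.node (nat_lit 0x31843c86f) (.node (nat_lit 0x318438f6b) (.node (nat_lit 0x318438d73) (.leaf (nat_lit 0x318438d63) (nat_lit 1795))
 (.leaf (nat_lit 0x318438d73) (nat_lit 2051))
) (.node (nat_lit 0x318438f7b) (.leaf (nat_lit 0x318438f6b) (nat_lit 1539))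
 (.leaf (nat_lit 0x318438f7b) (nat_lit 1795))
)) (.node (nat_lit 0x31843ca67) (.node (nat_lit 0x31843c87f) (.leaf (nat_lit 0x31843c86f) (nat_lit 2053))
 (.leaf (nat_lit 0x31843c87f) (nat_lit 1797))
) (.node (nat_lit 0x31843ca77) (.leaf (nat_lit 0x31843ca67) (nat_lit 1797))
 (.node (nat_lit 0x31843cc67) (.leaf (nat_lit 0x31843ca77) (nat_lit 1541))
 (.leaf (nat_lit 0x31843cc67) (nat_lit 2051))
)))) (.node (nat_lit 0x508420072) (.node (nat_lit 0x31843ce7f) (.node (nat_lit 0x31843ce6f) (.leaf (nat_lit 0x31843cc77) (nat_lit 1797))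
 (.leaf (nat_lit 0x31843ce6f) (nat_lit 1795))
) (.node (nat_lit 0x508420062) (.leaf (nat_lit 0x31843ce7f) (nat_lit 2053))
 (.leaf (nat_lit 0x508420062) (nat_lit 1024))
)) (.node (nat_lit 0x508420272) (.node (nat_lit 0x508420262) (.leaf (nat_lit 0x508420072) (nat_lit 773))
 (.leaf (nat_lit 0x508420262) (nat_lit 1280))
) (.node (nat_lit 0x50842046a) (.leaf (nat_lit 0x508420272) (nat_lit 1029))
 (.node (nat_lit 0x50842047a) (.leaf (nat_lit 0x50842046a) (nat_lit 1796))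
 (.leaf (nat_lit 0x50842047a) (nat_lit 1796))
))))) (.node (nat_lit 0x50842467e) (.node (nat_lit 0x508424266) (.node (nat_lit 0x508424066) (.node (nat_lit 0x50842067a) (.leaf (nat_lit 0x50842066a) (nat_lit 1540))
 (.leaf (nat_lit 0x50842067a) (nat_lit 1792))
) (.node (nat_lit 0x508424076) (.leaf (nat_lit 0x508424066) (nat_lit 1280))
 (.leaf (nat_lit 0x508424076) (nat_lit 1029))
)) (.node (nat_lit 0x50842446e) (.node (nat_lit 0x508424276) (.leaf (nat_lit 0x508424266) (nat_lit 1536))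
 (.leaf (nat_lit 0x508424276) (nat_lit 1285))
) (.node (nat_lit 0x50842447e) (.leaf (nat_lit 0x50842446e) (nat_lit 2052))
 (.node (nat_lit 0x50842466e) (.leaf (nat_lit 0x50842447e) (nat_lit 1796))
 (.leaf (nat_lit 0x50842466e) (nat_lit 1796))
)))) (.node (nat_lit 0x50842837a) (.node (nat_lit 0x50842817a) (.node (nat_lit 0x50842816a) (.leaf (nat_lit 0x50842467e) (nat_lit 2052))
 (.leaf (nat_lit 0x50842816a) (nat_lit 2052))
) (.node (nat_lit 0x50842836a) (.leaf (nat_lit 0x50842817a) (nat_lit 2052))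
 (.leaf (nat_lit 0x50842836a) (nat_lit 2048))
)) (.node (nat_lit 0x508428572) (.node (nat_lit 0x508428562) (.leaf (nat_lit 0x50842837a) (nat_lit 1796))
 (.leaf (nat_lit 0x508428562) (nat_lit 1795))
) (.node (nat_lit 0x508428762) (.leaf (nat_lit 0x508428572) (nat_lit 1539))
 (.node (nat_lit 0x508428772) (.leaf (nat_lit 0x508428762) (nat_lit 1539))
 (.leaf (nat_lit 0x508428772) (nat_lit 1283))
))))))) (.node (nat_lit 0x50843c562) (.node (nat_lit 0x508434262) (.node (nat_lit 0x508430076) (.node (nat_lit 0x50842c566) (.node (nat_lit 0x50842c36e) (.node (nat_lit 0x50842c17e) (.leaf (nat_lit 0x50842c16e) (nat_lit 2048))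
 (.leaf (nat_lit 0x50842c17e) (nat_lit 1796))
) (.node (nat_lit 0x50842c37e) (.leaf (nat_lit 0x50842c36e) (nat_lit 1792))
 (.leaf (nat_lit 0x50842c37e) (nat_lit 1540))
)) (.node (nat_lit 0x50842c766) (.node (nat_lit 0x50842c576) (.leaf (nat_lit 0x50842c566) (nat_lit 1796))
 (.leaf (nat_lit 0x50842c576) (nat_lit 1795))
) (.node (nat_lit 0x50842c776) (.leaf (nat_lit 0x50842c766) (nat_lit 1795))
 (.node (nat_lit 0x508430066) (.leaf (nat_lit 0x50842c776) (nat_lit 1539))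
 (.leaf (nat_lit 0x508430066) (nat_lit 1536))
)))) (.node (nat_lit 0x50843047e) (.node (nat_lit 0x508430276) (.node (nat_lit 0x508430266) (.leaf (nat_lit 0x508430076) (nat_lit 1285))
 (.leaf (nat_lit 0x508430266) (nat_lit 1792))
) (.node (nat_lit 0x50843046e) (.leaf (nat_lit 0x508430276) (nat_lit 1541))
 (.leaf (nat_lit 0x50843046e) (nat_lit 2048))
)) (.node (nat_lit 0x50843067e) (.node (nat_lit 0x50843066e) (.leaf (nat_lit 0x50843047e) (nat_lit 1796))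
 (.leaf (nat_lit 0x50843066e) (nat_lit 2052))
) (.node (nat_lit 0x508434062) (.leaf (nat_lit 0x50843067e) (nat_lit 2052))
 (.node (nat_lit 0x508434072) (.leaf (nat_lit 0x508434062) (nat_lit 1280))
 (.leaf (nat_lit 0x508434072) (nat_lit 1029))
))))) (.node (nat_lit 0x50843837e) (.node (nat_lit 0x50843466a) (.node (nat_lit 0x50843446a) (.node (nat_lit 0x508434272) (.leaf (nat_lit 0x508434262) (nat_lit 1536))
 (.leaf (nat_lit 0x508434272) (nat_lit 1285))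
) (.node (nat_lit 0x50843447a) (.leaf (nat_lit 0x50843446a) (nat_lit 2052))
 (.leaf (nat_lit 0x50843447a) (nat_lit 1796))
)) (.node (nat_lit 0x50843816e) (.node (nat_lit 0x50843467a) (.leaf (nat_lit 0x50843466a) (nat_lit 1796))
 (.leaf (nat_lit 0x50843467a) (nat_lit 2052))
) (.node (nat_lit 0x50843817e) (.leaf (nat_lit 0x50843816e) (nat_lit 2052))
 (.node (nat_lit 0x50843836e) (.leaf (nat_lit 0x50843817e) (nat_lit 2052))
 (.leaf (nat_lit 0x50843836e) (nat_lit 2048))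
)))) (.node (nat_lit 0x508438776) (.node (nat_lit 0x508438576) (.node (nat_lit 0x508438566) (.leaf (nat_lit 0x50843837e) (nat_lit 1796))
 (.leaf (nat_lit 0x508438566) (nat_lit 1795))
) (.node (nat_lit 0x508438766) (.leaf (nat_lit 0x508438576) (nat_lit 1539))
 (.leaf (nat_lit 0x508438766) (nat_lit 1539))
)) (.node (nat_lit 0x50843c17a) (.node (nat_lit 0x50843c16a) (.leaf (nat_lit 0x508438776) (nat_lit 1283))
 (.leaf (nat_lit 0x50843c16a) (nat_lit 1796))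
) (.node (nat_lit 0x50843c36a) (.leaf (nat_lit 0x50843c17a) (nat_lit 2048))
 (.node (nat_lit 0x50843c37a) (.leaf (nat_lit 0x50843c36a) (nat_lit 2052))
 (.leaf (nat_lit 0x50843c37a) (nat_lit 2051))
)))))) (.node (nat_lit 0x508624fee) (.node (nat_lit 0x508620cf2) (.node (nat_lit 0x5086208e2) (.node (nat_lit 0x50843c762) (.node (nat_lit 0x50843c572) (.leaf (nat_lit 0x50843c562) (nat_lit 1539))
 (.leaf (nat_lit 0x50843c572) (nat_lit 1283))
) (.node (nat_lit 0x50843c772) (.leaf (nat_lit 0x50843c762) (nat_lit 1283))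
 (.leaf (nat_lit 0x50843c772) (nat_lit 1027))
)) (.node (nat_lit 0x508620ae2) (.node (nat_lit 0x5086208fa) (.leaf (nat_lit 0x5086208e2) (nat_lit 1540))
 (.leaf (nat_lit 0x5086208fa) (nat_lit 1792))
) (.node (nat_lit 0x508620afa) (.leaf (nat_lit 0x508620ae2) (nat_lit 1796))
 (.node (nat_lit 0x508620cea) (.leaf (nat_lit 0x508620afa) (nat_lit 1797))
 (.leaf (nat_lit 0x508620cea) (nat_lit 1024))
)))) (.node (nat_lit 0x5086249fe) (.node (nat_lit 0x508620ef2) (.node (nat_lit 0x508620eea) (.leaf (nat_lit 0x508620cf2) (nat_lit 772))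
 (.leaf (nat_lit 0x508620eea) (nat_lit 1280))
) (.node (nat_lit 0x5086249e6) (.leaf (nat_lit 0x508620ef2) (nat_lit 1028))
 (.leaf (nat_lit 0x5086249e6) (nat_lit 1796))
)) (.node (nat_lit 0x508624bfe) (.node (nat_lit 0x508624be6) (.leaf (nat_lit 0x5086249fe) (nat_lit 2053))
 (.leaf (nat_lit 0x508624be6) (nat_lit 2052))
) (.node (nat_lit 0x508624dee) (.leaf (nat_lit 0x508624bfe) (nat_lit 1797))
 (.node (nat_lit 0x508624df6) (.leaf (nat_lit 0x508624dee) (nat_lit 1280))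
 (.leaf (nat_lit 0x508624df6) (nat_lit 1028))
))))) (.node (nat_lit 0x508628ffa) (.node (nat_lit 0x508628bea) (.node (nat_lit 0x5086289ea) (.node (nat_lit 0x508624ff6) (.leaf (nat_lit 0x508624fee) (nat_lit 1536))
 (.leaf (nat_lit 0x508624ff6) (nat_lit 1284))
) (.node (nat_lit 0x5086289f2) (.leaf (nat_lit 0x5086289ea) (nat_lit 1795))
 (.leaf (nat_lit 0x5086289f2) (nat_lit 1539))
)) (.node (nat_lit 0x508628de2) (.node (nat_lit 0x508628bf2) (.leaf (nat_lit 0x508628bea) (nat_lit 1539))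
 (.leaf (nat_lit 0x508628bf2) (nat_lit 1283))
) (.node (nat_lit 0x508628dfa) (.leaf (nat_lit 0x508628de2) (nat_lit 2053))
 (.node (nat_lit 0x508628fe2) (.leaf (nat_lit 0x508628dfa) (nat_lit 1797))
 (.leaf (nat_lit 0x508628fe2) (nat_lit 2052))
)))) (.node (nat_lit 0x50862caf6) (.node (nat_lit 0x50862c8f6) (.node (nat_lit 0x50862c8ee) (.leaf (nat_lit 0x508628ffa) (nat_lit 2053))
 (.leaf (nat_lit 0x50862c8ee) (nat_lit 2051))
) (.node (nat_lit 0x50862caee) (.leaf (nat_lit 0x50862c8f6) (nat_lit 1795))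
 (.leaf (nat_lit 0x50862caee) (nat_lit 1795))
)) (.node (nat_lit 0x50862ccfe) (.node (nat_lit 0x50862cce6) (.leaf (nat_lit 0x50862caf6) (nat_lit 1539))
 (.leaf (nat_lit 0x50862cce6) (nat_lit 1797))
) (.node (nat_lit 0x50862cee6) (.leaf (nat_lit 0x50862ccfe) (nat_lit 1541))
 (.node (nat_lit 0x50862cefe) (.leaf (nat_lit 0x50862cee6) (nat_lit 2053))
 (.leaf (nat_lit 0x50862cefe) (nat_lit 1797))
))))))))) (.node (nat_lit 0x5106388cd) (.node (nat_lit 0x510234881) (.node (nat_lit 0x510220c81) (.node (nat_lit 0x508638aee) (.node (nat_lit 0x5086348fa) (.node (nat_lit 0x508630dee) (.node (nat_lit 0x508630be6) (.node (nat_lit 0x5086309fe) (.leaf (nat_lit 0x5086309e6) (nat_lit 2052))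
 (.leaf (nat_lit 0x5086309fe) (nat_lit 2053))
) (.node (nat_lit 0x508630bfe) (.leaf (nat_lit 0x508630be6) (nat_lit 2053))
 (.leaf (nat_lit 0x508630bfe) (nat_lit 1797))
)) (.node (nat_lit 0x508630fee) (.node (nat_lit 0x508630df6) (.leaf (nat_lit 0x508630dee) (nat_lit 1536))
 (.leaf (nat_lit 0x508630df6) (nat_lit 1284))
) (.node (nat_lit 0x508630ff6) (.leaf (nat_lit 0x508630fee) (nat_lit 1792))
 (.node (nat_lit 0x5086348e2) (.leaf (nat_lit 0x508630ff6) (nat_lit 1540))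
 (.leaf (nat_lit 0x5086348e2) (nat_lit 1796))
)))) (.node (nat_lit 0x508634cf2) (.node (nat_lit 0x508634afa) (.node (nat_lit 0x508634ae2) (.leaf (nat_lit 0x5086348fa) (nat_lit 2053))
 (.leaf (nat_lit 0x508634ae2) (nat_lit 2052))
) (.node (nat_lit 0x508634cea) (.leaf (nat_lit 0x508634afa) (nat_lit 1797))
 (.leaf (nat_lit 0x508634cea) (nat_lit 1280))
)) (.node (nat_lit 0x508634ef2) (.node (nat_lit 0x508634eea) (.leaf (nat_lit 0x508634cf2) (nat_lit 1028))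
 (.leaf (nat_lit 0x508634eea) (nat_lit 1536))
) (.node (nat_lit 0x5086388ee) (.leaf (nat_lit 0x508634ef2) (nat_lit 1284))
 (.node (nat_lit 0x5086388f6) (.leaf (nat_lit 0x5086388ee) (nat_lit 1795))
 (.leaf (nat_lit 0x5086388f6) (nat_lit 1539))
))))) (.node (nat_lit 0x50863cbf2) (.node (nat_lit 0x508638ee6) (.node (nat_lit 0x508638ce6) (.node (nat_lit 0x508638af6) (.leaf (nat_lit 0x508638aee) (nat_lit 1539))
 (.leaf (nat_lit 0x508638af6) (nat_lit 1283))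
) (.node (nat_lit 0x508638cfe) (.leaf (nat_lit 0x508638ce6) (nat_lit 2053))
 (.leaf (nat_lit 0x508638cfe) (nat_lit 1797))
)) (.node (nat_lit 0x50863c9ea) (.node (nat_lit 0x508638efe) (.leaf (nat_lit 0x508638ee6) (nat_lit 2052))
 (.leaf (nat_lit 0x508638efe) (nat_lit 2053))
) (.node (nat_lit 0x50863c9f2) (.leaf (nat_lit 0x50863c9ea) (nat_lit 1539))
 (.node (nat_lit 0x50863cbea) (.leaf (nat_lit 0x50863c9f2) (nat_lit 1283))
 (.leaf (nat_lit 0x50863cbea) (nat_lit 1283))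
)))) (.node (nat_lit 0x50863cffa) (.node (nat_lit 0x50863cdfa) (.node (nat_lit 0x50863cde2) (.leaf (nat_lit 0x50863cbf2) (nat_lit 1027))
 (.leaf (nat_lit 0x50863cde2) (nat_lit 2052))
) (.node (nat_lit 0x50863cfe2) (.leaf (nat_lit 0x50863cdfa) (nat_lit 2051))
 (.leaf (nat_lit 0x50863cfe2) (nat_lit 1796))
)) (.node (nat_lit 0x510220889) (.node (nat_lit 0x510220881) (.leaf (nat_lit 0x50863cffa) (nat_lit 2048))
 (.leaf (nat_lit 0x510220881) (nat_lit 1285))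
) (.node (nat_lit 0x510220a91) (.leaf (nat_lit 0x510220889) (nat_lit 1541))
 (.node (nat_lit 0x510220a99) (.leaf (nat_lit 0x510220a91) (nat_lit 1796))
 (.leaf (nat_lit 0x510220a99) (nat_lit 1540))
)))))) (.node (nat_lit 0x510228e85) (.node (nat_lit 0x510224d89) (.node (nat_lit 0x510224981) (.node (nat_lit 0x510220e91) (.node (nat_lit 0x510220c89) (.leaf (nat_lit 0x510220c81) (nat_lit 514))
 (.leaf (nat_lit 0x510220c89) (nat_lit 770))
) (.node (nat_lit 0x510220e99) (.leaf (nat_lit 0x510220e91) (nat_lit 1796))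
 (.leaf (nat_lit 0x510220e99) (nat_lit 1796))
)) (.node (nat_lit 0x510224b91) (.node (nat_lit 0x510224989) (.leaf (nat_lit 0x510224981) (nat_lit 1541))
 (.leaf (nat_lit 0x510224989) (nat_lit 1797))
) (.node (nat_lit 0x510224b99) (.leaf (nat_lit 0x510224b91) (nat_lit 2052))
 (.node (nat_lit 0x510224d81) (.leaf (nat_lit 0x510224b99) (nat_lit 1796))
 (.leaf (nat_lit 0x510224d81) (nat_lit 771))
)))) (.node (nat_lit 0x51022889d) (.node (nat_lit 0x510224f99) (.node (nat_lit 0x510224f91) (.leaf (nat_lit 0x510224d89) (nat_lit 1027))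
 (.leaf (nat_lit 0x510224f91) (nat_lit 1796))
) (.node (nat_lit 0x510228895) (.leaf (nat_lit 0x510224f99) (nat_lit 2052))
 (.leaf (nat_lit 0x510228895) (nat_lit 2053))
)) (.node (nat_lit 0x510228a8d) (.node (nat_lit 0x510228a85) (.leaf (nat_lit 0x51022889d) (nat_lit 1797))
 (.leaf (nat_lit 0x510228a85) (nat_lit 2052))
) (.node (nat_lit 0x510228c95) (.leaf (nat_lit 0x510228a8d) (nat_lit 2052))
 (.node (nat_lit 0x510228c9d) (.leaf (nat_lit 0x510228c95) (nat_lit 1797))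
 (.leaf (nat_lit 0x510228c9d) (nat_lit 1541))
))))) (.node (nat_lit 0x51022cf8d) (.node (nat_lit 0x51022cb85) (.node (nat_lit 0x51022c995) (.node (nat_lit 0x510228e8d) (.leaf (nat_lit 0x510228e85) (nat_lit 2052))
 (.leaf (nat_lit 0x510228e8d) (nat_lit 1796))
) (.node (nat_lit 0x51022c99d) (.leaf (nat_lit 0x51022c995) (nat_lit 1796))
 (.leaf (nat_lit 0x51022c99d) (nat_lit 2052))
)) (.node (nat_lit 0x51022cd95) (.node (nat_lit 0x51022cb8d) (.leaf (nat_lit 0x51022cb85) (nat_lit 2052))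
 (.leaf (nat_lit 0x51022cb8d) (nat_lit 1796))
) (.node (nat_lit 0x51022cd9d) (.leaf (nat_lit 0x51022cd95) (nat_lit 2053))
 (.node (nat_lit 0x51022cf85) (.leaf (nat_lit 0x51022cd9d) (nat_lit 1797))
 (.leaf (nat_lit 0x51022cf85) (nat_lit 1796))
)))) (.node (nat_lit 0x510230b99) (.node (nat_lit 0x510230989) (.node (nat_lit 0x510230981) (.leaf (nat_lit 0x51022cf8d) (nat_lit 1540))
 (.leaf (nat_lit 0x510230981) (nat_lit 1797))
) (.node (nat_lit 0x510230b91) (.leaf (nat_lit 0x510230989) (nat_lit 2053))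
 (.leaf (nat_lit 0x510230b91) (nat_lit 2052))
)) (.node (nat_lit 0x510230d89) (.node (nat_lit 0x510230d81) (.leaf (nat_lit 0x510230b99) (nat_lit 2052))
 (.leaf (nat_lit 0x510230d81) (nat_lit 1026))
) (.node (nat_lit 0x510230f91) (.leaf (nat_lit 0x510230d89) (nat_lit 1282))
 (.node (nat_lit 0x510230f99) (.leaf (nat_lit 0x510230f91) (nat_lit 1796))
 (.leaf (nat_lit 0x510230f99) (nat_lit 2052))
))))))) (.node (nat_lit 0x510624dc1) (.node (nat_lit 0x51023ca85) (.node (nat_lit 0x51023899d) (.node (nat_lit 0x510234c81) (.node (nat_lit 0x510234a91) (.node (nat_lit 0x510234889) (.leaf (nat_lit 0x510234881) (nat_lit 1541))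
 (.leaf (nat_lit 0x510234889) (nat_lit 1797))
) (.node (nat_lit 0x510234a99) (.leaf (nat_lit 0x510234a91) (nat_lit 2052))
 (.leaf (nat_lit 0x510234a99) (nat_lit 1796))
)) (.node (nat_lit 0x510234e91) (.node (nat_lit 0x510234c89) (.leaf (nat_lit 0x510234c81) (nat_lit 769))
 (.leaf (nat_lit 0x510234c89) (nat_lit 1025))
) (.node (nat_lit 0x510234e99) (.leaf (nat_lit 0x510234e91) (nat_lit 1796))
 (.node (nat_lit 0x510238995) (.leaf (nat_lit 0x510234e99) (nat_lit 2052))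
 (.leaf (nat_lit 0x510238995) (nat_lit 2053))
)))) (.node (nat_lit 0x510238d9d) (.node (nat_lit 0x510238b8d) (.node (nat_lit 0x510238b85) (.leaf (nat_lit 0x51023899d) (nat_lit 1797))
 (.leaf (nat_lit 0x510238b85) (nat_lit 2052))
) (.node (nat_lit 0x510238d95) (.leaf (nat_lit 0x510238b8d) (nat_lit 2052))
 (.leaf (nat_lit 0x510238d95) (nat_lit 1797))
)) (.node (nat_lit 0x510238f8d) (.node (nat_lit 0x510238f85) (.leaf (nat_lit 0x510238d9d) (nat_lit 1541))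
 (.leaf (nat_lit 0x510238f85) (nat_lit 2052))
) (.node (nat_lit 0x51023c895) (.leaf (nat_lit 0x510238f8d) (nat_lit 1796))
 (.node (nat_lit 0x51023c89d) (.leaf (nat_lit 0x51023c895) (nat_lit 1797))
 (.leaf (nat_lit 0x51023c89d) (nat_lit 1541))
))))) (.node (nat_lit 0x510620ad1) (.node (nat_lit 0x51023ce85) (.node (nat_lit 0x51023cc95) (.node (nat_lit 0x51023ca8d) (.leaf (nat_lit 0x51023ca85) (nat_lit 1796))
 (.leaf (nat_lit 0x51023ca8d) (nat_lit 2052))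
) (.node (nat_lit 0x51023cc9d) (.leaf (nat_lit 0x51023cc95) (nat_lit 1541))
 (.leaf (nat_lit 0x51023cc9d) (nat_lit 1285))
)) (.node (nat_lit 0x5106208c1) (.node (nat_lit 0x51023ce8d) (.leaf (nat_lit 0x51023ce85) (nat_lit 2052))
 (.leaf (nat_lit 0x51023ce8d) (nat_lit 2052))
) (.node (nat_lit 0x5106208d9) (.leaf (nat_lit 0x5106208c1) (nat_lit 1284))
 (.node (nat_lit 0x510620ac9) (.leaf (nat_lit 0x5106208d9) (nat_lit 1536))
 (.leaf (nat_lit 0x510620ac9) (nat_lit 1540))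
)))) (.node (nat_lit 0x510620ed1) (.node (nat_lit 0x510620cd9) (.node (nat_lit 0x510620cc1) (.leaf (nat_lit 0x510620ad1) (nat_lit 1792))
 (.leaf (nat_lit 0x510620cc1) (nat_lit 1028))
) (.node (nat_lit 0x510620ec9) (.leaf (nat_lit 0x510620cd9) (nat_lit 1280))
 (.leaf (nat_lit 0x510620ec9) (nat_lit 1284))
)) (.node (nat_lit 0x5106249d9) (.node (nat_lit 0x5106249c1) (.leaf (nat_lit 0x510620ed1) (nat_lit 1536))
 (.leaf (nat_lit 0x5106249c1) (nat_lit 1540))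
) (.node (nat_lit 0x510624bc9) (.leaf (nat_lit 0x5106249d9) (nat_lit 1792))
 (.node (nat_lit 0x510624bd1) (.leaf (nat_lit 0x510624bc9) (nat_lit 1796))
 (.leaf (nat_lit 0x510624bd1) (nat_lit 1797))
)))))) (.node (nat_lit 0x51062cec5) (.node (nat_lit 0x510628dd5) (.node (nat_lit 0x5106289cd) (.node (nat_lit 0x510624fc9) (.node (nat_lit 0x510624dd9) (.leaf (nat_lit 0x510624dc1) (nat_lit 1284))
 (.leaf (nat_lit 0x510624dd9) (nat_lit 1536))
) (.node (nat_lit 0x510624fd1) (.leaf (nat_lit 0x510624fc9) (nat_lit 1540))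
 (.leaf (nat_lit 0x510624fd1) (nat_lit 1792))
)) (.node (nat_lit 0x510628bc5) (.node (nat_lit 0x5106289d5) (.leaf (nat_lit 0x5106289cd) (nat_lit 2048))
 (.leaf (nat_lit 0x5106289d5) (nat_lit 1796))
) (.node (nat_lit 0x510628bdd) (.leaf (nat_lit 0x510628bc5) (nat_lit 1792))
 (.node (nat_lit 0x510628dcd) (.leaf (nat_lit 0x510628bdd) (nat_lit 1540))
 (.leaf (nat_lit 0x510628dcd) (nat_lit 1797))
)))) (.node (nat_lit 0x51062c8d5) (.node (nat_lit 0x510628fdd) (.node (nat_lit 0x510628fc5) (.leaf (nat_lit 0x510628dd5) (nat_lit 2052))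
 (.leaf (nat_lit 0x510628fc5) (nat_lit 2053))
) (.node (nat_lit 0x51062c8cd) (.leaf (nat_lit 0x510628fdd) (nat_lit 1796))
 (.leaf (nat_lit 0x51062c8cd) (nat_lit 1797))
)) (.node (nat_lit 0x51062cadd) (.node (nat_lit 0x51062cac5) (.leaf (nat_lit 0x51062c8d5) (nat_lit 2052))
 (.leaf (nat_lit 0x51062cac5) (nat_lit 2053))
) (.node (nat_lit 0x51062cccd) (.leaf (nat_lit 0x51062cadd) (nat_lit 1796))
 (.node (nat_lit 0x51062ccd5) (.leaf (nat_lit 0x51062cccd) (nat_lit 1541))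
 (.leaf (nat_lit 0x51062ccd5) (nat_lit 1797))
))))) (.node (nat_lit 0x510630fd1) (.node (nat_lit 0x510630bc9) (.node (nat_lit 0x5106309c1) (.node (nat_lit 0x51062cedd) (.leaf (nat_lit 0x51062cec5) (nat_lit 1797))
 (.leaf (nat_lit 0x51062cedd) (nat_lit 2053))
) (.node (nat_lit 0x5106309d9) (.leaf (nat_lit 0x5106309c1) (nat_lit 1796))
 (.leaf (nat_lit 0x5106309d9) (nat_lit 2053))
)) (.node (nat_lit 0x510630dc1) (.node (nat_lit 0x510630bd1) (.leaf (nat_lit 0x510630bc9) (nat_lit 2052))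
 (.leaf (nat_lit 0x510630bd1) (nat_lit 1797))
) (.node (nat_lit 0x510630dd9) (.leaf (nat_lit 0x510630dc1) (nat_lit 1540))
 (.node (nat_lit 0x510630fc9) (.leaf (nat_lit 0x510630dd9) (nat_lit 1792))
 (.leaf (nat_lit 0x510630fc9) (nat_lit 1796))
)))) (.node (nat_lit 0x510634ad1) (.node (nat_lit 0x5106348d9) (.node (nat_lit 0x5106348c1) (.leaf (nat_lit 0x510630fd1) (nat_lit 2048))
 (.leaf (nat_lit 0x5106348c1) (nat_lit 1540))
) (.node (nat_lit 0x510634ac9) (.leaf (nat_lit 0x5106348d9) (nat_lit 1792))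
 (.leaf (nat_lit 0x510634ac9) (nat_lit 1796))
)) (.node (nat_lit 0x510634cd9) (.node (nat_lit 0x510634cc1) (.leaf (nat_lit 0x510634ad1) (nat_lit 1797))
 (.leaf (nat_lit 0x510634cc1) (nat_lit 1284))
) (.node (nat_lit 0x510634ec9) (.leaf (nat_lit 0x510634cd9) (nat_lit 1536))
 (.node (nat_lit 0x510634ed1) (.leaf (nat_lit 0x510634ec9) (nat_lit 1540))
 (.leaf (nat_lit 0x510634ed1) (nat_lit 1792))
)))))))) (.node (nat_lit 0x51823c8b7) (.node (nat_lit 0x518228ca7) (.node (nat_lit 0x518220ab3) (.node (nat_lit 0x51063c9d5) (.node (nat_lit 0x510638ccd) (.node (nat_lit 0x510638ac5) (.node (nat_lit 0x5106388d5) (.leaf (nat_lit 0x5106388cd) (nat_lit 2048))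
 (.leaf (nat_lit 0x5106388d5) (nat_lit 1796))
) (.node (nat_lit 0x510638add) (.leaf (nat_lit 0x510638ac5) (nat_lit 1792))
 (.leaf (nat_lit 0x510638add) (nat_lit 1540))
)) (.node (nat_lit 0x510638ec5) (.node (nat_lit 0x510638cd5) (.leaf (nat_lit 0x510638ccd) (nat_lit 1797))
 (.leaf (nat_lit 0x510638cd5) (nat_lit 2052))
) (.node (nat_lit 0x510638edd) (.leaf (nat_lit 0x510638ec5) (nat_lit 2053))
 (.node (nat_lit 0x51063c9cd) (.leaf (nat_lit 0x510638edd) (nat_lit 1796))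
 (.leaf (nat_lit 0x51063c9cd) (nat_lit 1792))
)))) (.node (nat_lit 0x51063cdd5) (.node (nat_lit 0x51063cbdd) (.node (nat_lit 0x51063cbc5) (.leaf (nat_lit 0x51063c9d5) (nat_lit 1540))
 (.leaf (nat_lit 0x51063cbc5) (nat_lit 1536))
) (.node (nat_lit 0x51063cdcd) (.leaf (nat_lit 0x51063cbdd) (nat_lit 1284))
 (.leaf (nat_lit 0x51063cdcd) (nat_lit 2048))
)) (.node (nat_lit 0x51063cfdd) (.node (nat_lit 0x51063cfc5) (.leaf (nat_lit 0x51063cdd5) (nat_lit 1796))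
 (.leaf (nat_lit 0x51063cfc5) (nat_lit 1792))
) (.node (nat_lit 0x5182208a3) (.leaf (nat_lit 0x51063cfdd) (nat_lit 1540))
 (.node (nat_lit 0x5182208ab) (.leaf (nat_lit 0x5182208a3) (nat_lit 1540))
 (.leaf (nat_lit 0x5182208ab) (nat_lit 1796))
))))) (.node (nat_lit 0x518224bbf) (.node (nat_lit 0x518220ea3) (.node (nat_lit 0x518220cb3) (.node (nat_lit 0x518220abb) (.leaf (nat_lit 0x518220ab3) (nat_lit 1285))
 (.leaf (nat_lit 0x518220abb) (nat_lit 1541))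
) (.node (nat_lit 0x518220cbb) (.leaf (nat_lit 0x518220cb3) (nat_lit 1029))
 (.leaf (nat_lit 0x518220cbb) (nat_lit 1285))
)) (.node (nat_lit 0x5182249a7) (.node (nat_lit 0x518220eab) (.leaf (nat_lit 0x518220ea3) (nat_lit 1794))
 (.leaf (nat_lit 0x518220eab) (nat_lit 1538))
) (.node (nat_lit 0x5182249af) (.leaf (nat_lit 0x5182249a7) (nat_lit 1796))
 (.node (nat_lit 0x518224bb7) (.leaf (nat_lit 0x5182249af) (nat_lit 1794))
 (.leaf (nat_lit 0x518224bb7) (nat_lit 1541))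
)))) (.node (nat_lit 0x518224faf) (.node (nat_lit 0x518224dbf) (.node (nat_lit 0x518224db7) (.leaf (nat_lit 0x518224bbf) (nat_lit 1797))
 (.leaf (nat_lit 0x518224db7) (nat_lit 1285))
) (.node (nat_lit 0x518224fa7) (.leaf (nat_lit 0x518224dbf) (nat_lit 1541))
 (.leaf (nat_lit 0x518224fa7) (nat_lit 1794))
)) (.node (nat_lit 0x5182288bf) (.node (nat_lit 0x5182288b7) (.leaf (nat_lit 0x518224faf) (nat_lit 1538))
 (.leaf (nat_lit 0x5182288b7) (nat_lit 1795))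
) (.node (nat_lit 0x518228aa7) (.leaf (nat_lit 0x5182288bf) (nat_lit 2051))
 (.node (nat_lit 0x518228aaf) (.leaf (nat_lit 0x518228aa7) (nat_lit 2053))
 (.leaf (nat_lit 0x518228aaf) (nat_lit 1797))
)))))) (.node (nat_lit 0x518230fa7) (.node (nat_lit 0x51822cdab) (.node (nat_lit 0x51822c9b3) (.node (nat_lit 0x518228eb7) (.node (nat_lit 0x518228caf) (.leaf (nat_lit 0x518228ca7) (nat_lit 1797))
 (.leaf (nat_lit 0x518228caf) (nat_lit 1541))
) (.node (nat_lit 0x518228ebf) (.leaf (nat_lit 0x518228eb7) (nat_lit 1539))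
 (.leaf (nat_lit 0x518228ebf) (nat_lit 1795))
)) (.node (nat_lit 0x51822cba3) (.node (nat_lit 0x51822c9bb) (.leaf (nat_lit 0x51822c9b3) (nat_lit 1539))
 (.leaf (nat_lit 0x51822c9bb) (nat_lit 1795))
) (.node (nat_lit 0x51822cbab) (.leaf (nat_lit 0x51822cba3) (nat_lit 1795))
 (.node (nat_lit 0x51822cda3) (.leaf (nat_lit 0x51822cbab) (nat_lit 2051))
 (.leaf (nat_lit 0x51822cda3) (nat_lit 2051))
)))) (.node (nat_lit 0x5182309af) (.node (nat_lit 0x51822cfbb) (.node (nat_lit 0x51822cfb3) (.leaf (nat_lit 0x51822cdab) (nat_lit 1795))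
 (.leaf (nat_lit 0x51822cfb3) (nat_lit 1283))
) (.node (nat_lit 0x5182309a7) (.leaf (nat_lit 0x51822cfbb) (nat_lit 1539))
 (.leaf (nat_lit 0x5182309a7) (nat_lit 2051))
)) (.node (nat_lit 0x518230bbf) (.node (nat_lit 0x518230bb7) (.leaf (nat_lit 0x5182309af) (nat_lit 1795))
 (.leaf (nat_lit 0x518230bb7) (nat_lit 1797))
) (.node (nat_lit 0x518230db7) (.leaf (nat_lit 0x518230bbf) (nat_lit 2053))
 (.node (nat_lit 0x518230dbf) (.leaf (nat_lit 0x518230db7) (nat_lit 1541))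
 (.leaf (nat_lit 0x518230dbf) (nat_lit 1797))
))))) (.node (nat_lit 0x518234eab) (.node (nat_lit 0x518234ab3) (.node (nat_lit 0x5182348a3) (.node (nat_lit 0x518230faf) (.leaf (nat_lit 0x518230fa7) (nat_lit 1795))
 (.leaf (nat_lit 0x518230faf) (nat_lit 1539))
) (.node (nat_lit 0x5182348ab) (.leaf (nat_lit 0x5182348a3) (nat_lit 1796))
 (.leaf (nat_lit 0x5182348ab) (nat_lit 1794))
)) (.node (nat_lit 0x518234cb3) (.node (nat_lit 0x518234abb) (.leaf (nat_lit 0x518234ab3) (nat_lit 1541))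
 (.leaf (nat_lit 0x518234abb) (nat_lit 1797))
) (.node (nat_lit 0x518234cbb) (.leaf (nat_lit 0x518234cb3) (nat_lit 1285))
 (.node (nat_lit 0x518234ea3) (.leaf (nat_lit 0x518234cbb) (nat_lit 1541))
 (.leaf (nat_lit 0x518234ea3) (nat_lit 1794))
)))) (.node (nat_lit 0x518238bab) (.node (nat_lit 0x5182389bb) (.node (nat_lit 0x5182389b3) (.leaf (nat_lit 0x518234eab) (nat_lit 1538))
 (.leaf (nat_lit 0x5182389b3) (nat_lit 1795))
) (.node (nat_lit 0x518238ba3) (.leaf (nat_lit 0x5182389bb) (nat_lit 2051))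
 (.leaf (nat_lit 0x518238ba3) (nat_lit 2053))
)) (.node (nat_lit 0x518238dab) (.node (nat_lit 0x518238da3) (.leaf (nat_lit 0x518238bab) (nat_lit 1797))
 (.leaf (nat_lit 0x518238da3) (nat_lit 1797))
) (.node (nat_lit 0x518238fb3) (.leaf (nat_lit 0x518238dab) (nat_lit 1541))
 (.node (nat_lit 0x518238fbb) (.leaf (nat_lit 0x518238fb3) (nat_lit 1539))
 (.leaf (nat_lit 0x518238fbb) (nat_lit 1795))
))))))) (.node (nat_lit 0x51842c563) (.node (nat_lit 0x51842426f) (.node (nat_lit 0x518420073) (.node (nat_lit 0x51823cca7) (.node (nat_lit 0x51823caa7) (.node (nat_lit 0x51823c8bf) (.leaf (nat_lit 0x51823c8b7) (nat_lit 2052))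
 (.leaf (nat_lit 0x51823c8bf) (nat_lit 1796))
) (.node (nat_lit 0x51823caaf) (.leaf (nat_lit 0x51823caa7) (nat_lit 1797))
 (.leaf (nat_lit 0x51823caaf) (nat_lit 1541))
)) (.node (nat_lit 0x51823ceb7) (.node (nat_lit 0x51823ccaf) (.leaf (nat_lit 0x51823cca7) (nat_lit 1541))
 (.leaf (nat_lit 0x51823ccaf) (nat_lit 1285))
) (.node (nat_lit 0x51823cebf) (.leaf (nat_lit 0x51823ceb7) (nat_lit 1795))
 (.node (nat_lit 0x518420063) (.leaf (nat_lit 0x51823cebf) (nat_lit 2051))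
 (.leaf (nat_lit 0x518420063) (nat_lit 1280))
)))) (.node (nat_lit 0x51842047b) (.node (nat_lit 0x51842027b) (.node (nat_lit 0x51842026b) (.leaf (nat_lit 0x518420073) (nat_lit 1028))
 (.leaf (nat_lit 0x51842026b) (nat_lit 1536))
) (.node (nat_lit 0x51842046b) (.leaf (nat_lit 0x51842027b) (nat_lit 1284))
 (.leaf (nat_lit 0x51842046b) (nat_lit 1538))
)) (.node (nat_lit 0x518420673) (.node (nat_lit 0x518420663) (.leaf (nat_lit 0x51842047b) (nat_lit 1540))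
 (.leaf (nat_lit 0x518420663) (nat_lit 1536))
) (.node (nat_lit 0x518424067) (.leaf (nat_lit 0x518420673) (nat_lit 1284))
 (.node (nat_lit 0x518424077) (.leaf (nat_lit 0x518424067) (nat_lit 1536))
 (.leaf (nat_lit 0x518424077) (nat_lit 1284))
))))) (.node (nat_lit 0x518428377) (.node (nat_lit 0x518424667) (.node (nat_lit 0x51842446f) (.node (nat_lit 0x51842427f) (.leaf (nat_lit 0x51842426f) (nat_lit 1792))
 (.leaf (nat_lit 0x51842427f) (nat_lit 1540))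
) (.node (nat_lit 0x51842447f) (.leaf (nat_lit 0x51842446f) (nat_lit 1538))
 (.leaf (nat_lit 0x51842447f) (nat_lit 1796))
)) (.node (nat_lit 0x51842816f) (.node (nat_lit 0x518424677) (.leaf (nat_lit 0x518424667) (nat_lit 1794))
 (.leaf (nat_lit 0x518424677) (nat_lit 1540))
) (.node (nat_lit 0x51842817f) (.leaf (nat_lit 0x51842816f) (nat_lit 1796))
 (.node (nat_lit 0x518428367) (.leaf (nat_lit 0x51842817f) (nat_lit 1795))
 (.leaf (nat_lit 0x518428367) (nat_lit 1795))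
)))) (.node (nat_lit 0x51842877f) (.node (nat_lit 0x518428577) (.node (nat_lit 0x518428567) (.leaf (nat_lit 0x518428377) (nat_lit 1539))
 (.leaf (nat_lit 0x518428567) (nat_lit 1796))
) (.node (nat_lit 0x51842876f) (.leaf (nat_lit 0x518428577) (nat_lit 1795))
 (.leaf (nat_lit 0x51842876f) (nat_lit 1540))
)) (.node (nat_lit 0x51842c17b) (.node (nat_lit 0x51842c16b) (.leaf (nat_lit 0x51842877f) (nat_lit 1792))
 (.leaf (nat_lit 0x51842c16b) (nat_lit 1795))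
) (.node (nat_lit 0x51842c363) (.leaf (nat_lit 0x51842c17b) (nat_lit 1539))
 (.node (nat_lit 0x51842c373) (.leaf (nat_lit 0x51842c363) (nat_lit 1539))
 (.leaf (nat_lit 0x51842c373) (nat_lit 1283))
)))))) (.node (nat_lit 0x518434663) (.node (nat_lit 0x51843047f) (.node (nat_lit 0x518430067) (.node (nat_lit 0x51842c76b) (.node (nat_lit 0x51842c573) (.leaf (nat_lit 0x51842c563) (nat_lit 1795))
 (.leaf (nat_lit 0x51842c573) (nat_lit 1539))
) (.node (nat_lit 0x51842c77b) (.leaf (nat_lit 0x51842c76b) (nat_lit 1795))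
 (.leaf (nat_lit 0x51842c77b) (nat_lit 1795))
)) (.node (nat_lit 0x51843026f) (.node (nat_lit 0x518430077) (.leaf (nat_lit 0x518430067) (nat_lit 1792))
 (.leaf (nat_lit 0x518430077) (nat_lit 1540))
) (.node (nat_lit 0x51843027f) (.leaf (nat_lit 0x51843026f) (nat_lit 1795))
 (.node (nat_lit 0x51843046f) (.leaf (nat_lit 0x51843027f) (nat_lit 1796))
 (.leaf (nat_lit 0x51843046f) (nat_lit 1539))
)))) (.node (nat_lit 0x518434073) (.node (nat_lit 0x518430677) (.node (nat_lit 0x518430667) (.leaf (nat_lit 0x51843047f) (nat_lit 1795))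
 (.leaf (nat_lit 0x518430667) (nat_lit 1795))
) (.node (nat_lit 0x518434063) (.leaf (nat_lit 0x518430677) (nat_lit 1796))
 (.leaf (nat_lit 0x518434063) (nat_lit 1536))
)) (.node (nat_lit 0x51843427b) (.node (nat_lit 0x51843426b) (.leaf (nat_lit 0x518434073) (nat_lit 1284))
 (.leaf (nat_lit 0x51843426b) (nat_lit 1792))
) (.node (nat_lit 0x51843446b) (.leaf (nat_lit 0x51843427b) (nat_lit 1540))
 (.node (nat_lit 0x51843447b) (.leaf (nat_lit 0x51843446b) (nat_lit 1538))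
 (.leaf (nat_lit 0x51843447b) (nat_lit 1796))
))))) (.node (nat_lit 0x51843877b) (.node (nat_lit 0x518438363) (.node (nat_lit 0x51843816b) (.node (nat_lit 0x518434673) (.leaf (nat_lit 0x518434663) (nat_lit 1794))
 (.leaf (nat_lit 0x518434673) (nat_lit 1540))
) (.node (nat_lit 0x51843817b) (.leaf (nat_lit 0x51843816b) (nat_lit 1796))
 (.leaf (nat_lit 0x51843817b) (nat_lit 1795))
)) (.node (nat_lit 0x518438563) (.node (nat_lit 0x518438373) (.leaf (nat_lit 0x518438363) (nat_lit 1795))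
 (.leaf (nat_lit 0x518438373) (nat_lit 1539))
) (.node (nat_lit 0x518438573) (.leaf (nat_lit 0x518438563) (nat_lit 1796))
 (.node (nat_lit 0x51843876b) (.leaf (nat_lit 0x518438573) (nat_lit 1795))
 (.leaf (nat_lit 0x51843876b) (nat_lit 1540))
)))) (.node (nat_lit 0x51843c377) (.node (nat_lit 0x51843c17f) (.node (nat_lit 0x51843c16f) (.leaf (nat_lit 0x51843877b) (nat_lit 1792))
 (.leaf (nat_lit 0x51843c16f) (nat_lit 1540))
) (.node (nat_lit 0x51843c367) (.leaf (nat_lit 0x51843c17f) (nat_lit 1792))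
 (.leaf (nat_lit 0x51843c367) (nat_lit 1796))
)) (.node (nat_lit 0x51843c577) (.node (nat_lit 0x51843c567) (.leaf (nat_lit 0x51843c377) (nat_lit 1795))
 (.leaf (nat_lit 0x51843c567) (nat_lit 1540))
) (.node (nat_lit 0x51843c76f) (.leaf (nat_lit 0x51843c577) (nat_lit 1792))
 (.node (nat_lit 0x51843c77f) (.leaf (nat_lit 0x51843c76f) (nat_lit 1284))
 (.leaf (nat_lit 0x51843c77f) (nat_lit 1536))
))))))))))) (.node (nat_lit 0x8106040c1) (.node (nat_lit 0x718230997) (.node (nat_lit 0x7102288b5) (.node (nat_lit 0x7086240e6) (.node (nat_lit 0x708430c66) (.node (nat_lit 0x708428b6a) (.node (nat_lit 0x708424976) (.node (nat_lit 0x708420c6a) (.node (nat_lit 0x708420a62) (.node (nat_lit 0x708420872) (.leaf (nat_lit 0x708420862) (nat_lit 1540))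
 (.leaf (nat_lit 0x708420872) (nat_lit 1538))
) (.node (nat_lit 0x708420a72) (.leaf (nat_lit 0x708420a62) (nat_lit 1538))
 (.leaf (nat_lit 0x708420a72) (nat_lit 1282))
)) (.node (nat_lit 0x708420e6a) (.node (nat_lit 0x708420c7a) (.leaf (nat_lit 0x708420c6a) (nat_lit 1792))
 (.leaf (nat_lit 0x708420c7a) (nat_lit 1540))
) (.node (nat_lit 0x708420e7a) (.leaf (nat_lit 0x708420e6a) (nat_lit 1536))
 (.node (nat_lit 0x708424966) (.leaf (nat_lit 0x708420e7a) (nat_lit 1284))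
 (.leaf (nat_lit 0x708424966) (nat_lit 1794))
)))) (.node (nat_lit 0x708424d7e) (.node (nat_lit 0x708424b76) (.node (nat_lit 0x708424b66) (.leaf (nat_lit 0x708424976) (nat_lit 1538))
 (.leaf (nat_lit 0x708424b66) (nat_lit 1538))
) (.node (nat_lit 0x708424d6e) (.leaf (nat_lit 0x708424b76) (nat_lit 1282))
 (.leaf (nat_lit 0x708424d6e) (nat_lit 2048))
)) (.node (nat_lit 0x708424f7e) (.node (nat_lit 0x708424f6e) (.leaf (nat_lit 0x708424d7e) (nat_lit 1796))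
 (.leaf (nat_lit 0x708424f6e) (nat_lit 1792))
) (.node (nat_lit 0x70842896a) (.leaf (nat_lit 0x708424f7e) (nat_lit 1540))
 (.node (nat_lit 0x70842897a) (.leaf (nat_lit 0x70842896a) (nat_lit 2307))
 (.leaf (nat_lit 0x70842897a) (nat_lit 2051))
))))) (.node (nat_lit 0x70842ca7e) (.node (nat_lit 0x708428f62) (.node (nat_lit 0x708428d62) (.node (nat_lit 0x708428b7a) (.leaf (nat_lit 0x708428b6a) (nat_lit 2051))
 (.leaf (nat_lit 0x708428b7a) (nat_lit 1795))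
) (.node (nat_lit 0x708428d72) (.leaf (nat_lit 0x708428d62) (nat_lit 2051))
 (.leaf (nat_lit 0x708428d72) (nat_lit 1795))
)) (.node (nat_lit 0x70842c86e) (.node (nat_lit 0x708428f72) (.leaf (nat_lit 0x708428f62) (nat_lit 1795))
 (.leaf (nat_lit 0x708428f72) (nat_lit 1539))
) (.node (nat_lit 0x70842c87e) (.leaf (nat_lit 0x70842c86e) (nat_lit 2053))
 (.node (nat_lit 0x70842ca6e) (.leaf (nat_lit 0x70842c87e) (nat_lit 2309))
 (.leaf (nat_lit 0x70842ca6e) (nat_lit 2309))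
)))) (.node (nat_lit 0x70842ce76) (.node (nat_lit 0x70842cc76) (.node (nat_lit 0x70842cc66) (.leaf (nat_lit 0x70842ca7e) (nat_lit 2053))
 (.leaf (nat_lit 0x70842cc66) (nat_lit 2306))
) (.node (nat_lit 0x70842ce66) (.leaf (nat_lit 0x70842cc76) (nat_lit 2050))
 (.leaf (nat_lit 0x70842ce66) (nat_lit 2050))
)) (.node (nat_lit 0x70843087e) (.node (nat_lit 0x70843086e) (.leaf (nat_lit 0x70842ce76) (nat_lit 1794))
 (.leaf (nat_lit 0x70843086e) (nat_lit 2307))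
) (.node (nat_lit 0x708430a6e) (.leaf (nat_lit 0x70843087e) (nat_lit 2051))
 (.node (nat_lit 0x708430a7e) (.leaf (nat_lit 0x708430a6e) (nat_lit 2051))
 (.leaf (nat_lit 0x708430a7e) (nat_lit 1795))
)))))) (.node (nat_lit 0x708438f6e) (.node (nat_lit 0x708434d72) (.node (nat_lit 0x70843496a) (.node (nat_lit 0x708430e66) (.node (nat_lit 0x708430c76) (.leaf (nat_lit 0x708430c66) (nat_lit 2051))
 (.leaf (nat_lit 0x708430c76) (nat_lit 1795))
) (.node (nat_lit 0x708430e76) (.leaf (nat_lit 0x708430e66) (nat_lit 1795))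
 (.leaf (nat_lit 0x708430e76) (nat_lit 1539))
)) (.node (nat_lit 0x708434b6a) (.node (nat_lit 0x70843497a) (.leaf (nat_lit 0x70843496a) (nat_lit 2051))
 (.leaf (nat_lit 0x70843497a) (nat_lit 1795))
) (.node (nat_lit 0x708434b7a) (.leaf (nat_lit 0x708434b6a) (nat_lit 1795))
 (.node (nat_lit 0x708434d62) (.leaf (nat_lit 0x708434b7a) (nat_lit 1539))
 (.leaf (nat_lit 0x708434d62) (nat_lit 1795))
)))) (.node (nat_lit 0x708438976) (.node (nat_lit 0x708434f72) (.node (nat_lit 0x708434f62) (.leaf (nat_lit 0x708434d72) (nat_lit 1795))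
 (.leaf (nat_lit 0x708434f62) (nat_lit 1795))
) (.node (nat_lit 0x708438966) (.leaf (nat_lit 0x708434f72) (nat_lit 1539))
 (.leaf (nat_lit 0x708438966) (nat_lit 2049))
)) (.node (nat_lit 0x708438b76) (.node (nat_lit 0x708438b66) (.leaf (nat_lit 0x708438976) (nat_lit 1793))
 (.leaf (nat_lit 0x708438b66) (nat_lit 1793))
) (.node (nat_lit 0x708438d6e) (.leaf (nat_lit 0x708438b76) (nat_lit 1537))
 (.node (nat_lit 0x708438d7e) (.leaf (nat_lit 0x708438d6e) (nat_lit 2304))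
 (.leaf (nat_lit 0x708438d7e) (nat_lit 2052))
))))) (.node (nat_lit 0x70843ce7a) (.node (nat_lit 0x70843ca62) (.node (nat_lit 0x70843c862) (.node (nat_lit 0x708438f7e) (.leaf (nat_lit 0x708438f6e) (nat_lit 2048))
 (.leaf (nat_lit 0x708438f7e) (nat_lit 1796))
) (.node (nat_lit 0x70843c872) (.leaf (nat_lit 0x70843c862) (nat_lit 1794))
 (.leaf (nat_lit 0x70843c872) (nat_lit 1538))
)) (.node (nat_lit 0x70843cc6a) (.node (nat_lit 0x70843ca72) (.leaf (nat_lit 0x70843ca62) (nat_lit 1538))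
 (.leaf (nat_lit 0x70843ca72) (nat_lit 1282))
) (.node (nat_lit 0x70843cc7a) (.leaf (nat_lit 0x70843cc6a) (nat_lit 2048))
 (.node (nat_lit 0x70843ce6a) (.leaf (nat_lit 0x70843cc7a) (nat_lit 1796))
 (.leaf (nat_lit 0x70843ce6a) (nat_lit 1792))
)))) (.node (nat_lit 0x7086202fa) (.node (nat_lit 0x7086200fa) (.node (nat_lit 0x7086200e2) (.leaf (nat_lit 0x70843ce7a) (nat_lit 1540))
 (.leaf (nat_lit 0x7086200e2) (nat_lit 1541))
) (.node (nat_lit 0x7086202e2) (.leaf (nat_lit 0x7086200fa) (nat_lit 1285))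
 (.leaf (nat_lit 0x7086202e2) (nat_lit 1797))
)) (.node (nat_lit 0x7086204f2) (.node (nat_lit 0x7086204ea) (.leaf (nat_lit 0x7086202fa) (nat_lit 1541))
 (.leaf (nat_lit 0x7086204ea) (nat_lit 1794))
) (.node (nat_lit 0x7086206ea) (.leaf (nat_lit 0x7086204f2) (nat_lit 1538))
 (.node (nat_lit 0x7086206f2) (.leaf (nat_lit 0x7086206ea) (nat_lit 1538))
 (.leaf (nat_lit 0x7086206f2) (nat_lit 1282))
))))))) (.node (nat_lit 0x7086345e2) (.node (nat_lit 0x70862c3ee) (.node (nat_lit 0x7086281f2) (.node (nat_lit 0x7086244ee) (.node (nat_lit 0x7086242e6) (.node (nat_lit 0x7086240fe) (.leaf (nat_lit 0x7086240e6) (nat_lit 1797))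
 (.leaf (nat_lit 0x7086240fe) (nat_lit 1541))
) (.node (nat_lit 0x7086242fe) (.leaf (nat_lit 0x7086242e6) (nat_lit 2053))
 (.leaf (nat_lit 0x7086242fe) (nat_lit 1797))
)) (.node (nat_lit 0x7086246ee) (.node (nat_lit 0x7086244f6) (.leaf (nat_lit 0x7086244ee) (nat_lit 1794))
 (.leaf (nat_lit 0x7086244f6) (nat_lit 1538))
) (.node (nat_lit 0x7086246f6) (.leaf (nat_lit 0x7086246ee) (nat_lit 1538))
 (.node (nat_lit 0x7086281ea) (.leaf (nat_lit 0x7086246f6) (nat_lit 1282))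
 (.leaf (nat_lit 0x7086281ea) (nat_lit 2051))
)))) (.node (nat_lit 0x7086285fa) (.node (nat_lit 0x7086283f2) (.node (nat_lit 0x7086283ea) (.leaf (nat_lit 0x7086281f2) (nat_lit 1795))
 (.leaf (nat_lit 0x7086283ea) (nat_lit 1795))
) (.node (nat_lit 0x7086285e2) (.leaf (nat_lit 0x7086283f2) (nat_lit 1539))
 (.leaf (nat_lit 0x7086285e2) (nat_lit 2051))
)) (.node (nat_lit 0x7086287fa) (.node (nat_lit 0x7086287e2) (.leaf (nat_lit 0x7086285fa) (nat_lit 1795))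
 (.leaf (nat_lit 0x7086287e2) (nat_lit 2307))
) (.node (nat_lit 0x70862c1ee) (.leaf (nat_lit 0x7086287fa) (nat_lit 2051))
 (.node (nat_lit 0x70862c1f6) (.leaf (nat_lit 0x70862c1ee) (nat_lit 2306))
 (.leaf (nat_lit 0x70862c1f6) (nat_lit 2050))
))))) (.node (nat_lit 0x7086303f6) (.node (nat_lit 0x70862c7e6) (.node (nat_lit 0x70862c5e6) (.node (nat_lit 0x70862c3f6) (.leaf (nat_lit 0x70862c3ee) (nat_lit 2050))
 (.leaf (nat_lit 0x70862c3f6) (nat_lit 1794))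
) (.node (nat_lit 0x70862c5fe) (.leaf (nat_lit 0x70862c5e6) (nat_lit 2308))
 (.leaf (nat_lit 0x70862c5fe) (nat_lit 2052))
)) (.node (nat_lit 0x7086301ee) (.node (nat_lit 0x70862c7fe) (.leaf (nat_lit 0x70862c7e6) (nat_lit 2052))
 (.leaf (nat_lit 0x70862c7fe) (nat_lit 2308))
) (.node (nat_lit 0x7086301f6) (.leaf (nat_lit 0x7086301ee) (nat_lit 2051))
 (.node (nat_lit 0x7086303ee) (.leaf (nat_lit 0x7086301f6) (nat_lit 1795))
 (.leaf (nat_lit 0x7086303ee) (nat_lit 1795))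
)))) (.node (nat_lit 0x7086307fe) (.node (nat_lit 0x7086305fe) (.node (nat_lit 0x7086305e6) (.leaf (nat_lit 0x7086303f6) (nat_lit 1539))
 (.leaf (nat_lit 0x7086305e6) (nat_lit 2051))
) (.node (nat_lit 0x7086307e6) (.leaf (nat_lit 0x7086305fe) (nat_lit 1795))
 (.leaf (nat_lit 0x7086307e6) (nat_lit 2307))
)) (.node (nat_lit 0x7086341f2) (.node (nat_lit 0x7086341ea) (.leaf (nat_lit 0x7086307fe) (nat_lit 2051))
 (.leaf (nat_lit 0x7086341ea) (nat_lit 2051))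
) (.node (nat_lit 0x7086343ea) (.leaf (nat_lit 0x7086341f2) (nat_lit 1795))
 (.node (nat_lit 0x7086343f2) (.leaf (nat_lit 0x7086343ea) (nat_lit 1795))
 (.leaf (nat_lit 0x7086343f2) (nat_lit 1539))
)))))) (.node (nat_lit 0x70863c6ea) (.node (nat_lit 0x7086384f6) (.node (nat_lit 0x7086380e6) (.node (nat_lit 0x7086347e2) (.node (nat_lit 0x7086345fa) (.leaf (nat_lit 0x7086345e2) (nat_lit 1795))
 (.leaf (nat_lit 0x7086345fa) (nat_lit 1539))
) (.node (nat_lit 0x7086347fa) (.leaf (nat_lit 0x7086347e2) (nat_lit 2051))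
 (.leaf (nat_lit 0x7086347fa) (nat_lit 1795))
)) (.node (nat_lit 0x7086382e6) (.node (nat_lit 0x7086380fe) (.leaf (nat_lit 0x7086380e6) (nat_lit 2053))
 (.leaf (nat_lit 0x7086380fe) (nat_lit 1797))
) (.node (nat_lit 0x7086382fe) (.leaf (nat_lit 0x7086382e6) (nat_lit 2309))
 (.node (nat_lit 0x7086384ee) (.leaf (nat_lit 0x7086382fe) (nat_lit 2053))
 (.leaf (nat_lit 0x7086384ee) (nat_lit 2049))
)))) (.node (nat_lit 0x70863c0fa) (.node (nat_lit 0x7086386f6) (.node (nat_lit 0x7086386ee) (.leaf (nat_lit 0x7086384f6) (nat_lit 1793))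
 (.leaf (nat_lit 0x7086386ee) (nat_lit 1793))
) (.node (nat_lit 0x70863c0e2) (.leaf (nat_lit 0x7086386f6) (nat_lit 1537))
 (.leaf (nat_lit 0x70863c0e2) (nat_lit 1797))
)) (.node (nat_lit 0x70863c2fa) (.node (nat_lit 0x70863c2e2) (.leaf (nat_lit 0x70863c0fa) (nat_lit 1541))
 (.leaf (nat_lit 0x70863c2e2) (nat_lit 2053))
) (.node (nat_lit 0x70863c4ea) (.leaf (nat_lit 0x70863c2fa) (nat_lit 1797))
 (.node (nat_lit 0x70863c4f2) (.leaf (nat_lit 0x70863c4ea) (nat_lit 1794))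
 (.leaf (nat_lit 0x70863c4f2) (nat_lit 1538))
))))) (.node (nat_lit 0x710220eb9) (.node (nat_lit 0x710220ab1) (.node (nat_lit 0x7102208a1) (.node (nat_lit 0x70863c6f2) (.leaf (nat_lit 0x70863c6ea) (nat_lit 1538))
 (.leaf (nat_lit 0x70863c6f2) (nat_lit 1282))
) (.node (nat_lit 0x7102208a9) (.leaf (nat_lit 0x7102208a1) (nat_lit 1540))
 (.leaf (nat_lit 0x7102208a9) (nat_lit 1796))
)) (.node (nat_lit 0x710220ca1) (.node (nat_lit 0x710220ab9) (.leaf (nat_lit 0x710220ab1) (nat_lit 1796))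
 (.leaf (nat_lit 0x710220ab9) (nat_lit 1540))
) (.node (nat_lit 0x710220ca9) (.leaf (nat_lit 0x710220ca1) (nat_lit 1797))
 (.node (nat_lit 0x710220eb1) (.leaf (nat_lit 0x710220ca9) (nat_lit 1541))
 (.leaf (nat_lit 0x710220eb1) (nat_lit 1540))
)))) (.node (nat_lit 0x710224bbd) (.node (nat_lit 0x7102249ad) (.node (nat_lit 0x7102249a5) (.leaf (nat_lit 0x710220eb9) (nat_lit 1284))
 (.leaf (nat_lit 0x7102249a5) (nat_lit 1796))
) (.node (nat_lit 0x710224bb5) (.leaf (nat_lit 0x7102249ad) (nat_lit 1797))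
 (.leaf (nat_lit 0x710224bb5) (nat_lit 2052))
)) (.node (nat_lit 0x710224dad) (.node (nat_lit 0x710224da5) (.leaf (nat_lit 0x710224bbd) (nat_lit 1796))
 (.leaf (nat_lit 0x710224da5) (nat_lit 1797))
) (.node (nat_lit 0x710224fb5) (.leaf (nat_lit 0x710224dad) (nat_lit 1541))
 (.node (nat_lit 0x710224fbd) (.leaf (nat_lit 0x710224fb5) (nat_lit 1796))
 (.leaf (nat_lit 0x710224fbd) (nat_lit 1540))
)))))))) (.node (nat_lit 0x71062c1e9) (.node (nat_lit 0x710238da5) (.node (nat_lit 0x710230ba1) (.node (nat_lit 0x71022c9b9) (.node (nat_lit 0x710228cb5) (.node (nat_lit 0x710228aa5) (.node (nat_lit 0x7102288bd) (.leaf (nat_lit 0x7102288b5) (nat_lit 2309))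
 (.leaf (nat_lit 0x7102288bd) (nat_lit 2053))
) (.node (nat_lit 0x710228aad) (.leaf (nat_lit 0x710228aa5) (nat_lit 2051))
 (.leaf (nat_lit 0x710228aad) (nat_lit 2051))
)) (.node (nat_lit 0x710228ea5) (.node (nat_lit 0x710228cbd) (.leaf (nat_lit 0x710228cb5) (nat_lit 2053))
 (.leaf (nat_lit 0x710228cbd) (nat_lit 1797))
) (.node (nat_lit 0x710228ead) (.leaf (nat_lit 0x710228ea5) (nat_lit 2051))
 (.node (nat_lit 0x71022c9b1) (.leaf (nat_lit 0x710228ead) (nat_lit 1795))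
 (.leaf (nat_lit 0x71022c9b1) (nat_lit 2051))
)))) (.node (nat_lit 0x71022cdb9) (.node (nat_lit 0x71022cba9) (.node (nat_lit 0x71022cba1) (.leaf (nat_lit 0x71022c9b9) (nat_lit 1795))
 (.leaf (nat_lit 0x71022cba1) (nat_lit 1795))
) (.node (nat_lit 0x71022cdb1) (.leaf (nat_lit 0x71022cba9) (nat_lit 2051))
 (.leaf (nat_lit 0x71022cdb1) (nat_lit 1795))
)) (.node (nat_lit 0x71022cfa9) (.node (nat_lit 0x71022cfa1) (.leaf (nat_lit 0x71022cdb9) (nat_lit 1539))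
 (.leaf (nat_lit 0x71022cfa1) (nat_lit 2051))
) (.node (nat_lit 0x7102309b1) (.leaf (nat_lit 0x71022cfa9) (nat_lit 1795))
 (.node (nat_lit 0x7102309b9) (.leaf (nat_lit 0x7102309b1) (nat_lit 2309))
 (.leaf (nat_lit 0x7102309b9) (nat_lit 2053))
))))) (.node (nat_lit 0x710234aad) (.node (nat_lit 0x710230fa1) (.node (nat_lit 0x710230db1) (.node (nat_lit 0x710230ba9) (.leaf (nat_lit 0x710230ba1) (nat_lit 2051))
 (.leaf (nat_lit 0x710230ba9) (nat_lit 2051))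
) (.node (nat_lit 0x710230db9) (.leaf (nat_lit 0x710230db1) (nat_lit 2053))
 (.leaf (nat_lit 0x710230db9) (nat_lit 1797))
)) (.node (nat_lit 0x7102348b5) (.node (nat_lit 0x710230fa9) (.leaf (nat_lit 0x710230fa1) (nat_lit 2051))
 (.leaf (nat_lit 0x710230fa9) (nat_lit 1795))
) (.node (nat_lit 0x7102348bd) (.leaf (nat_lit 0x7102348b5) (nat_lit 2053))
 (.node (nat_lit 0x710234aa5) (.leaf (nat_lit 0x7102348bd) (nat_lit 2053))
 (.leaf (nat_lit 0x710234aa5) (nat_lit 2309))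
)))) (.node (nat_lit 0x710234ead) (.node (nat_lit 0x710234cbd) (.node (nat_lit 0x710234cb5) (.leaf (nat_lit 0x710234aad) (nat_lit 2053))
 (.leaf (nat_lit 0x710234cb5) (nat_lit 2053))
) (.node (nat_lit 0x710234ea5) (.leaf (nat_lit 0x710234cbd) (nat_lit 1797))
 (.leaf (nat_lit 0x710234ea5) (nat_lit 2053))
)) (.node (nat_lit 0x7102389ad) (.node (nat_lit 0x7102389a5) (.leaf (nat_lit 0x710234ead) (nat_lit 1797))
 (.leaf (nat_lit 0x7102389a5) (nat_lit 2052))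
) (.node (nat_lit 0x710238bb5) (.leaf (nat_lit 0x7102389ad) (nat_lit 2053))
 (.node (nat_lit 0x710238bbd) (.leaf (nat_lit 0x710238bb5) (nat_lit 2308))
 (.leaf (nat_lit 0x710238bbd) (nat_lit 2052))
)))))) (.node (nat_lit 0x7106206e9) (.node (nat_lit 0x71023cca9) (.node (nat_lit 0x71023c8a1) (.node (nat_lit 0x710238fb5) (.node (nat_lit 0x710238dad) (.leaf (nat_lit 0x710238da5) (nat_lit 2053))
 (.leaf (nat_lit 0x710238dad) (nat_lit 1797))
) (.node (nat_lit 0x710238fbd) (.leaf (nat_lit 0x710238fb5) (nat_lit 2052))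
 (.leaf (nat_lit 0x710238fbd) (nat_lit 1796))
)) (.node (nat_lit 0x71023cab1) (.node (nat_lit 0x71023c8a9) (.leaf (nat_lit 0x71023c8a1) (nat_lit 1796))
 (.leaf (nat_lit 0x71023c8a9) (nat_lit 1797))
) (.node (nat_lit 0x71023cab9) (.leaf (nat_lit 0x71023cab1) (nat_lit 2052))
 (.node (nat_lit 0x71023cca1) (.leaf (nat_lit 0x71023cab9) (nat_lit 1796))
 (.leaf (nat_lit 0x71023cca1) (nat_lit 1797))
)))) (.node (nat_lit 0x7106200f9) (.node (nat_lit 0x71023ceb9) (.node (nat_lit 0x71023ceb1) (.leaf (nat_lit 0x71023cca9) (nat_lit 1541))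
 (.leaf (nat_lit 0x71023ceb1) (nat_lit 1796))
) (.node (nat_lit 0x7106200e1) (.leaf (nat_lit 0x71023ceb9) (nat_lit 1540))
 (.leaf (nat_lit 0x7106200e1) (nat_lit 1541))
)) (.node (nat_lit 0x7106202f1) (.node (nat_lit 0x7106202e9) (.leaf (nat_lit 0x7106200f9) (nat_lit 1285))
 (.leaf (nat_lit 0x7106202e9) (nat_lit 1797))
) (.node (nat_lit 0x7106204e1) (.leaf (nat_lit 0x7106202f1) (nat_lit 1541))
 (.node (nat_lit 0x7106204f9) (.leaf (nat_lit 0x7106204e1) (nat_lit 1796))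
 (.leaf (nat_lit 0x7106204f9) (nat_lit 1541))
))))) (.node (nat_lit 0x7106246f5) (.node (nat_lit 0x7106242ed) (.node (nat_lit 0x7106240e5) (.node (nat_lit 0x7106206f1) (.leaf (nat_lit 0x7106206e9) (nat_lit 1540))
 (.leaf (nat_lit 0x7106206f1) (nat_lit 1797))
) (.node (nat_lit 0x7106240fd) (.leaf (nat_lit 0x7106240e5) (nat_lit 1797))
 (.leaf (nat_lit 0x7106240fd) (nat_lit 1541))
)) (.node (nat_lit 0x7106244e5) (.node (nat_lit 0x7106242f5) (.leaf (nat_lit 0x7106242ed) (nat_lit 1796))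
 (.leaf (nat_lit 0x7106242f5) (nat_lit 1797))
) (.node (nat_lit 0x7106244fd) (.leaf (nat_lit 0x7106244e5) (nat_lit 1796))
 (.node (nat_lit 0x7106246ed) (.leaf (nat_lit 0x7106244fd) (nat_lit 1797))
 (.leaf (nat_lit 0x7106246ed) (nat_lit 1540))
)))) (.node (nat_lit 0x7106283fd) (.node (nat_lit 0x7106281f5) (.node (nat_lit 0x7106281ed) (.leaf (nat_lit 0x7106246f5) (nat_lit 1792))
 (.leaf (nat_lit 0x7106281ed) (nat_lit 2051))
) (.node (nat_lit 0x7106283e5) (.leaf (nat_lit 0x7106281f5) (nat_lit 2052))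
 (.leaf (nat_lit 0x7106283e5) (nat_lit 2048))
)) (.node (nat_lit 0x7106285f5) (.node (nat_lit 0x7106285ed) (.leaf (nat_lit 0x7106283fd) (nat_lit 1796))
 (.leaf (nat_lit 0x7106285ed) (nat_lit 1795))
) (.node (nat_lit 0x7106287e5) (.leaf (nat_lit 0x7106285f5) (nat_lit 2051))
 (.node (nat_lit 0x7106287fd) (.leaf (nat_lit 0x7106287e5) (nat_lit 2051))
 (.leaf (nat_lit 0x7106287fd) (nat_lit 2052))
))))))) (.node (nat_lit 0x71063c4e1) (.node (nat_lit 0x7106343e5) (.node (nat_lit 0x7106301f1) (.node (nat_lit 0x71062c5e9) (.node (nat_lit 0x71062c3e1) (.node (nat_lit 0x71062c1f1) (.leaf (nat_lit 0x71062c1e9) (nat_lit 2051))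
 (.leaf (nat_lit 0x71062c1f1) (nat_lit 1795))
) (.node (nat_lit 0x71062c3f9) (.leaf (nat_lit 0x71062c3e1) (nat_lit 1795))
 (.leaf (nat_lit 0x71062c3f9) (nat_lit 1539))
)) (.node (nat_lit 0x71062c7e1) (.node (nat_lit 0x71062c5f1) (.leaf (nat_lit 0x71062c5e9) (nat_lit 1795))
 (.leaf (nat_lit 0x71062c5f1) (nat_lit 2051))
) (.node (nat_lit 0x71062c7f9) (.leaf (nat_lit 0x71062c7e1) (nat_lit 2051))
 (.node (nat_lit 0x7106301e9) (.leaf (nat_lit 0x71062c7f9) (nat_lit 1795))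
 (.leaf (nat_lit 0x7106301e9) (nat_lit 2051))
)))) (.node (nat_lit 0x7106305f1) (.node (nat_lit 0x7106303f9) (.node (nat_lit 0x7106303e1) (.leaf (nat_lit 0x7106301f1) (nat_lit 2052))
 (.leaf (nat_lit 0x7106303e1) (nat_lit 2048))
) (.node (nat_lit 0x7106305e9) (.leaf (nat_lit 0x7106303f9) (nat_lit 1796))
 (.leaf (nat_lit 0x7106305e9) (nat_lit 1795))
)) (.node (nat_lit 0x7106307f9) (.node (nat_lit 0x7106307e1) (.leaf (nat_lit 0x7106305f1) (nat_lit 2051))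
 (.leaf (nat_lit 0x7106307e1) (nat_lit 2051))
) (.node (nat_lit 0x7106341ed) (.leaf (nat_lit 0x7106307f9) (nat_lit 2052))
 (.node (nat_lit 0x7106341f5) (.leaf (nat_lit 0x7106341ed) (nat_lit 2052))
 (.leaf (nat_lit 0x7106341f5) (nat_lit 2052))
))))) (.node (nat_lit 0x7106382f5) (.node (nat_lit 0x7106347e5) (.node (nat_lit 0x7106345ed) (.node (nat_lit 0x7106343fd) (.leaf (nat_lit 0x7106343e5) (nat_lit 2048))
 (.leaf (nat_lit 0x7106343fd) (nat_lit 1796))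
) (.node (nat_lit 0x7106345f5) (.leaf (nat_lit 0x7106345ed) (nat_lit 1796))
 (.leaf (nat_lit 0x7106345f5) (nat_lit 2052))
)) (.node (nat_lit 0x7106380e5) (.node (nat_lit 0x7106347fd) (.leaf (nat_lit 0x7106347e5) (nat_lit 2052))
 (.leaf (nat_lit 0x7106347fd) (nat_lit 2052))
) (.node (nat_lit 0x7106380fd) (.leaf (nat_lit 0x7106380e5) (nat_lit 2053))
 (.node (nat_lit 0x7106382ed) (.leaf (nat_lit 0x7106380fd) (nat_lit 1797))
 (.leaf (nat_lit 0x7106382ed) (nat_lit 2052))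
)))) (.node (nat_lit 0x7106386f5) (.node (nat_lit 0x7106384fd) (.node (nat_lit 0x7106384e5) (.leaf (nat_lit 0x7106382f5) (nat_lit 2053))
 (.leaf (nat_lit 0x7106384e5) (nat_lit 2052))
) (.node (nat_lit 0x7106386ed) (.leaf (nat_lit 0x7106384fd) (nat_lit 2053))
 (.leaf (nat_lit 0x7106386ed) (nat_lit 1796))
)) (.node (nat_lit 0x71063c0f9) (.node (nat_lit 0x71063c0e1) (.leaf (nat_lit 0x7106386f5) (nat_lit 2048))
 (.leaf (nat_lit 0x71063c0e1) (nat_lit 1797))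
) (.node (nat_lit 0x71063c2e9) (.leaf (nat_lit 0x71063c0f9) (nat_lit 1541))
 (.node (nat_lit 0x71063c2f1) (.leaf (nat_lit 0x71063c2e9) (nat_lit 1796))
 (.leaf (nat_lit 0x71063c2f1) (nat_lit 1797))
)))))) (.node (nat_lit 0x718224f83) (.node (nat_lit 0x718220c9b) (.node (nat_lit 0x718220883) (.node (nat_lit 0x71063c6e9) (.node (nat_lit 0x71063c4f9) (.leaf (nat_lit 0x71063c4e1) (nat_lit 1796))
 (.leaf (nat_lit 0x71063c4f9) (nat_lit 1797))
) (.node (nat_lit 0x71063c6f1) (.leaf (nat_lit 0x71063c6e9) (nat_lit 1540))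
 (.leaf (nat_lit 0x71063c6f1) (nat_lit 1792))
)) (.node (nat_lit 0x718220a93) (.node (nat_lit 0x71822088b) (.leaf (nat_lit 0x718220883) (nat_lit 1282))
 (.leaf (nat_lit 0x71822088b) (nat_lit 1538))
) (.node (nat_lit 0x718220a9b) (.leaf (nat_lit 0x718220a93) (nat_lit 1538))
 (.node (nat_lit 0x718220c93) (.leaf (nat_lit 0x718220a9b) (nat_lit 1794))
 (.leaf (nat_lit 0x718220c93) (nat_lit 1797))
)))) (.node (nat_lit 0x71822498b) (.node (nat_lit 0x718220e8b) (.node (nat_lit 0x718220e83) (.leaf (nat_lit 0x718220c9b) (nat_lit 1541))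
 (.leaf (nat_lit 0x718220e83) (nat_lit 1026))
) (.node (nat_lit 0x718224983) (.leaf (nat_lit 0x718220e8b) (nat_lit 1282))
 (.leaf (nat_lit 0x718224983) (nat_lit 1539))
)) (.node (nat_lit 0x718224b9b) (.node (nat_lit 0x718224b93) (.leaf (nat_lit 0x71822498b) (nat_lit 1795))
 (.leaf (nat_lit 0x718224b93) (nat_lit 1795))
) (.node (nat_lit 0x718224d93) (.leaf (nat_lit 0x718224b9b) (nat_lit 1797))
 (.node (nat_lit 0x718224d9b) (.leaf (nat_lit 0x718224d93) (nat_lit 1797))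
 (.leaf (nat_lit 0x718224d9b) (nat_lit 1541))
))))) (.node (nat_lit 0x718228e9f) (.node (nat_lit 0x718228a87) (.node (nat_lit 0x718228897) (.node (nat_lit 0x718224f8b) (.leaf (nat_lit 0x718224f83) (nat_lit 1283))
 (.leaf (nat_lit 0x718224f8b) (nat_lit 1539))
) (.node (nat_lit 0x71822889f) (.leaf (nat_lit 0x718228897) (nat_lit 2308))
 (.leaf (nat_lit 0x71822889f) (nat_lit 2308))
)) (.node (nat_lit 0x718228c87) (.node (nat_lit 0x718228a8f) (.leaf (nat_lit 0x718228a87) (nat_lit 2309))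
 (.leaf (nat_lit 0x718228a8f) (nat_lit 2053))
) (.node (nat_lit 0x718228c8f) (.leaf (nat_lit 0x718228c87) (nat_lit 2053))
 (.node (nat_lit 0x718228e97) (.leaf (nat_lit 0x718228c8f) (nat_lit 1797))
 (.leaf (nat_lit 0x718228e97) (nat_lit 2052))
)))) (.node (nat_lit 0x71822cb8f) (.node (nat_lit 0x71822c99f) (.node (nat_lit 0x71822c997) (.leaf (nat_lit 0x718228e9f) (nat_lit 2308))
 (.leaf (nat_lit 0x71822c997) (nat_lit 2308))
) (.node (nat_lit 0x71822cb87) (.leaf (nat_lit 0x71822c99f) (nat_lit 2052))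
 (.leaf (nat_lit 0x71822cb87) (nat_lit 2308))
)) (.node (nat_lit 0x71822cd8f) (.node (nat_lit 0x71822cd87) (.leaf (nat_lit 0x71822cb8f) (nat_lit 2052))
 (.leaf (nat_lit 0x71822cd87) (nat_lit 2052))
) (.node (nat_lit 0x71822cf97) (.leaf (nat_lit 0x71822cd8f) (nat_lit 1796))
 (.node (nat_lit 0x71822cf9f) (.leaf (nat_lit 0x71822cf97) (nat_lit 2052))
 (.leaf (nat_lit 0x71822cf9f) (nat_lit 2308))
))))))))) (.node (nat_lit 0x808434062) (.node (nat_lit 0x71843494f) (.node (nat_lit 0x718420c4b) (.node (nat_lit 0x718238b93) (.node (nat_lit 0x71823489f) (.node (nat_lit 0x718230d87) (.node (nat_lit 0x718230b87) (.node (nat_lit 0x71823099f) (.leaf (nat_lit 0x718230997) (nat_lit 2306))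
 (.leaf (nat_lit 0x71823099f) (nat_lit 2308))
) (.node (nat_lit 0x718230b8f) (.leaf (nat_lit 0x718230b87) (nat_lit 2309))
 (.leaf (nat_lit 0x718230b8f) (nat_lit 2053))
)) (.node (nat_lit 0x718230f97) (.node (nat_lit 0x718230d8f) (.leaf (nat_lit 0x718230d87) (nat_lit 2053))
 (.leaf (nat_lit 0x718230d8f) (nat_lit 1797))
) (.node (nat_lit 0x718230f9f) (.leaf (nat_lit 0x718230f97) (nat_lit 2050))
 (.node (nat_lit 0x718234897) (.leaf (nat_lit 0x718230f9f) (nat_lit 2306))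
 (.leaf (nat_lit 0x718234897) (nat_lit 2053))
)))) (.node (nat_lit 0x718234c8f) (.node (nat_lit 0x718234a8f) (.node (nat_lit 0x718234a87) (.leaf (nat_lit 0x71823489f) (nat_lit 2309))
 (.leaf (nat_lit 0x718234a87) (nat_lit 2309))
) (.node (nat_lit 0x718234c87) (.leaf (nat_lit 0x718234a8f) (nat_lit 2053))
 (.leaf (nat_lit 0x718234c87) (nat_lit 2053))
)) (.node (nat_lit 0x718234e9f) (.node (nat_lit 0x718234e97) (.leaf (nat_lit 0x718234c8f) (nat_lit 1797))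
 (.leaf (nat_lit 0x718234e97) (nat_lit 1797))
) (.node (nat_lit 0x718238983) (.leaf (nat_lit 0x718234e9f) (nat_lit 2053))
 (.node (nat_lit 0x71823898b) (.leaf (nat_lit 0x718238983) (nat_lit 1794))
 (.leaf (nat_lit 0x71823898b) (nat_lit 2050))
))))) (.node (nat_lit 0x71823ca9b) (.node (nat_lit 0x718238f83) (.node (nat_lit 0x718238d93) (.node (nat_lit 0x718238b9b) (.leaf (nat_lit 0x718238b93) (nat_lit 2050))
 (.leaf (nat_lit 0x718238b9b) (nat_lit 2053))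
) (.node (nat_lit 0x718238d9b) (.leaf (nat_lit 0x718238d93) (nat_lit 2053))
 (.leaf (nat_lit 0x718238d9b) (nat_lit 1797))
)) (.node (nat_lit 0x71823c883) (.node (nat_lit 0x718238f8b) (.leaf (nat_lit 0x718238f83) (nat_lit 1538))
 (.leaf (nat_lit 0x718238f8b) (nat_lit 1794))
) (.node (nat_lit 0x71823c88b) (.leaf (nat_lit 0x71823c883) (nat_lit 1537))
 (.node (nat_lit 0x71823ca93) (.leaf (nat_lit 0x71823c88b) (nat_lit 1793))
 (.leaf (nat_lit 0x71823ca93) (nat_lit 1793))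
)))) (.node (nat_lit 0x71823ce8b) (.node (nat_lit 0x71823cc9b) (.node (nat_lit 0x71823cc93) (.leaf (nat_lit 0x71823ca9b) (nat_lit 1797))
 (.leaf (nat_lit 0x71823cc93) (nat_lit 1797))
) (.node (nat_lit 0x71823ce83) (.leaf (nat_lit 0x71823cc9b) (nat_lit 1541))
 (.leaf (nat_lit 0x71823ce83) (nat_lit 1281))
)) (.node (nat_lit 0x718420853) (.node (nat_lit 0x718420843) (.leaf (nat_lit 0x71823ce8b) (nat_lit 1537))
 (.leaf (nat_lit 0x718420843) (nat_lit 1282))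
) (.node (nat_lit 0x718420a4b) (.leaf (nat_lit 0x718420853) (nat_lit 1538))
 (.node (nat_lit 0x718420a5b) (.leaf (nat_lit 0x718420a4b) (nat_lit 1538))
 (.leaf (nat_lit 0x718420a5b) (nat_lit 1540))
)))))) (.node (nat_lit 0x718428f4f) (.node (nat_lit 0x718424d5b) (.node (nat_lit 0x718424943) (.node (nat_lit 0x718420e43) (.node (nat_lit 0x718420c5b) (.leaf (nat_lit 0x718420c4b) (nat_lit 1282))
 (.leaf (nat_lit 0x718420c5b) (nat_lit 1538))
) (.node (nat_lit 0x718420e53) (.leaf (nat_lit 0x718420e43) (nat_lit 1026))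
 (.leaf (nat_lit 0x718420e53) (nat_lit 1282))
)) (.node (nat_lit 0x718424b4b) (.node (nat_lit 0x718424953) (.leaf (nat_lit 0x718424943) (nat_lit 1539))
 (.leaf (nat_lit 0x718424953) (nat_lit 1796))
) (.node (nat_lit 0x718424b5b) (.leaf (nat_lit 0x718424b4b) (nat_lit 1795))
 (.node (nat_lit 0x718424d4b) (.leaf (nat_lit 0x718424b5b) (nat_lit 1540))
 (.leaf (nat_lit 0x718424d4b) (nat_lit 1539))
)))) (.node (nat_lit 0x71842895f) (.node (nat_lit 0x718424f53) (.node (nat_lit 0x718424f43) (.leaf (nat_lit 0x718424d5b) (nat_lit 1795))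
 (.leaf (nat_lit 0x718424f43) (nat_lit 1283))
) (.node (nat_lit 0x71842894f) (.leaf (nat_lit 0x718424f53) (nat_lit 1539))
 (.leaf (nat_lit 0x71842894f) (nat_lit 2052))
)) (.node (nat_lit 0x718428b57) (.node (nat_lit 0x718428b47) (.leaf (nat_lit 0x71842895f) (nat_lit 2309))
 (.leaf (nat_lit 0x718428b47) (nat_lit 2308))
) (.node (nat_lit 0x718428d47) (.leaf (nat_lit 0x718428b57) (nat_lit 2053))
 (.node (nat_lit 0x718428d57) (.leaf (nat_lit 0x718428d47) (nat_lit 2052))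
 (.leaf (nat_lit 0x718428d57) (nat_lit 2304))
))))) (.node (nat_lit 0x71842ce5f) (.node (nat_lit 0x71842ca47) (.node (nat_lit 0x71842c84f) (.node (nat_lit 0x718428f5f) (.leaf (nat_lit 0x718428f4f) (nat_lit 1796))
 (.leaf (nat_lit 0x718428f5f) (nat_lit 2048))
) (.node (nat_lit 0x71842c85f) (.leaf (nat_lit 0x71842c84f) (nat_lit 2053))
 (.leaf (nat_lit 0x71842c85f) (nat_lit 2309))
)) (.node (nat_lit 0x71842cc47) (.node (nat_lit 0x71842ca57) (.leaf (nat_lit 0x71842ca47) (nat_lit 2309))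
 (.leaf (nat_lit 0x71842ca57) (nat_lit 2053))
) (.node (nat_lit 0x71842cc57) (.leaf (nat_lit 0x71842cc47) (nat_lit 2053))
 (.node (nat_lit 0x71842ce4f) (.leaf (nat_lit 0x71842cc57) (nat_lit 2309))
 (.leaf (nat_lit 0x71842ce4f) (nat_lit 1797))
)))) (.node (nat_lit 0x718430a57) (.node (nat_lit 0x71843085f) (.node (nat_lit 0x71843084f) (.leaf (nat_lit 0x71842ce5f) (nat_lit 2053))
 (.leaf (nat_lit 0x71843084f) (nat_lit 2052))
) (.node (nat_lit 0x718430a47) (.leaf (nat_lit 0x71843085f) (nat_lit 2306))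
 (.leaf (nat_lit 0x718430a47) (nat_lit 2308))
)) (.node (nat_lit 0x718430c57) (.node (nat_lit 0x718430c47) (.leaf (nat_lit 0x718430a57) (nat_lit 2050))
 (.leaf (nat_lit 0x718430c47) (nat_lit 2052))
) (.node (nat_lit 0x718430e4f) (.leaf (nat_lit 0x718430c57) (nat_lit 2304))
 (.node (nat_lit 0x718430e5f) (.leaf (nat_lit 0x718430e4f) (nat_lit 1796))
 (.leaf (nat_lit 0x718430e5f) (nat_lit 2048))
))))))) (.node (nat_lit 0x80840cc4a) (.node (nat_lit 0x71843ca4b) (.node (nat_lit 0x718438953) (.node (nat_lit 0x718434d47) (.node (nat_lit 0x718434b47) (.node (nat_lit 0x71843495f) (.leaf (nat_lit 0x71843494f) (nat_lit 2052))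
 (.leaf (nat_lit 0x71843495f) (nat_lit 2052))
) (.node (nat_lit 0x718434b57) (.leaf (nat_lit 0x718434b47) (nat_lit 2048))
 (.leaf (nat_lit 0x718434b57) (nat_lit 1796))
)) (.node (nat_lit 0x718434f4f) (.node (nat_lit 0x718434d57) (.leaf (nat_lit 0x718434d47) (nat_lit 2052))
 (.leaf (nat_lit 0x718434d57) (nat_lit 2052))
) (.node (nat_lit 0x718434f5f) (.leaf (nat_lit 0x718434f4f) (nat_lit 1796))
 (.node (nat_lit 0x718438943) (.leaf (nat_lit 0x718434f5f) (nat_lit 2048))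
 (.leaf (nat_lit 0x718438943) (nat_lit 1794))
)))) (.node (nat_lit 0x718438d5b) (.node (nat_lit 0x718438b5b) (.node (nat_lit 0x718438b4b) (.leaf (nat_lit 0x718438953) (nat_lit 2052))
 (.leaf (nat_lit 0x718438b4b) (nat_lit 2050))
) (.node (nat_lit 0x718438d4b) (.leaf (nat_lit 0x718438b5b) (nat_lit 1796))
 (.leaf (nat_lit 0x718438d4b) (nat_lit 1794))
)) (.node (nat_lit 0x718438f53) (.node (nat_lit 0x718438f43) (.leaf (nat_lit 0x718438d5b) (nat_lit 2050))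
 (.leaf (nat_lit 0x718438f43) (nat_lit 1538))
) (.node (nat_lit 0x71843c843) (.leaf (nat_lit 0x718438f53) (nat_lit 1794))
 (.node (nat_lit 0x71843c853) (.leaf (nat_lit 0x71843c843) (nat_lit 1537))
 (.leaf (nat_lit 0x71843c853) (nat_lit 1796))
))))) (.node (nat_lit 0x808404252) (.node (nat_lit 0x71843ce43) (.node (nat_lit 0x71843cc4b) (.node (nat_lit 0x71843ca5b) (.leaf (nat_lit 0x71843ca4b) (nat_lit 1793))
 (.leaf (nat_lit 0x71843ca5b) (nat_lit 1540))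
) (.node (nat_lit 0x71843cc5b) (.leaf (nat_lit 0x71843cc4b) (nat_lit 1537))
 (.leaf (nat_lit 0x71843cc5b) (nat_lit 1793))
)) (.node (nat_lit 0x808404042) (.node (nat_lit 0x71843ce53) (.leaf (nat_lit 0x71843ce43) (nat_lit 1281))
 (.leaf (nat_lit 0x71843ce53) (nat_lit 1537))
) (.node (nat_lit 0x808404052) (.leaf (nat_lit 0x808404042) (nat_lit 261))
 (.node (nat_lit 0x808404242) (.leaf (nat_lit 0x808404052) (nat_lit 512))
 (.leaf (nat_lit 0x808404242) (nat_lit 517))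
)))) (.node (nat_lit 0x80840465a) (.node (nat_lit 0x80840445a) (.node (nat_lit 0x80840444a) (.leaf (nat_lit 0x808404252) (nat_lit 768))
 (.leaf (nat_lit 0x80840444a) (nat_lit 1536))
) (.node (nat_lit 0x80840464a) (.leaf (nat_lit 0x80840445a) (nat_lit 1284))
 (.leaf (nat_lit 0x80840464a) (nat_lit 1280))
)) (.node (nat_lit 0x80840c852) (.node (nat_lit 0x80840c842) (.leaf (nat_lit 0x80840465a) (nat_lit 1028))
 (.leaf (nat_lit 0x80840c842) (nat_lit 1027))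
) (.node (nat_lit 0x80840ca42) (.leaf (nat_lit 0x80840c852) (nat_lit 1283))
 (.node (nat_lit 0x80840ca52) (.leaf (nat_lit 0x80840ca42) (nat_lit 771))
 (.leaf (nat_lit 0x80840ca52) (nat_lit 1027))
)))))) (.node (nat_lit 0x80841ce6a) (.node (nat_lit 0x80841447a) (.node (nat_lit 0x808414062) (.node (nat_lit 0x80840ce4a) (.node (nat_lit 0x80840cc5a) (.leaf (nat_lit 0x80840cc4a) (nat_lit 1540))
 (.leaf (nat_lit 0x80840cc5a) (nat_lit 1540))
) (.node (nat_lit 0x80840ce5a) (.leaf (nat_lit 0x80840ce4a) (nat_lit 1284))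
 (.leaf (nat_lit 0x80840ce5a) (nat_lit 1536))
)) (.node (nat_lit 0x808414262) (.node (nat_lit 0x808414072) (.leaf (nat_lit 0x808414062) (nat_lit 1024))
 (.leaf (nat_lit 0x808414072) (nat_lit 773))
) (.node (nat_lit 0x808414272) (.leaf (nat_lit 0x808414262) (nat_lit 1280))
 (.node (nat_lit 0x80841446a) (.leaf (nat_lit 0x808414272) (nat_lit 1029))
 (.leaf (nat_lit 0x80841446a) (nat_lit 1536))
)))) (.node (nat_lit 0x80841c872) (.node (nat_lit 0x80841467a) (.node (nat_lit 0x80841466a) (.leaf (nat_lit 0x80841447a) (nat_lit 1284))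
 (.leaf (nat_lit 0x80841466a) (nat_lit 1540))
) (.node (nat_lit 0x80841c862) (.leaf (nat_lit 0x80841467a) (nat_lit 1540))
 (.leaf (nat_lit 0x80841c862) (nat_lit 1283))
)) (.node (nat_lit 0x80841ca72) (.node (nat_lit 0x80841ca62) (.leaf (nat_lit 0x80841c872) (nat_lit 1027))
 (.leaf (nat_lit 0x80841ca62) (nat_lit 1027))
) (.node (nat_lit 0x80841cc6a) (.leaf (nat_lit 0x80841ca72) (nat_lit 771))
 (.node (nat_lit 0x80841cc7a) (.leaf (nat_lit 0x80841cc6a) (nat_lit 1540))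
 (.leaf (nat_lit 0x80841cc7a) (nat_lit 1540))
))))) (.node (nat_lit 0x80842465a) (.node (nat_lit 0x808424242) (.node (nat_lit 0x808424042) (.node (nat_lit 0x80841ce7a) (.leaf (nat_lit 0x80841ce6a) (nat_lit 1536))
 (.leaf (nat_lit 0x80841ce7a) (nat_lit 1284))
) (.node (nat_lit 0x808424052) (.leaf (nat_lit 0x808424042) (nat_lit 517))
 (.leaf (nat_lit 0x808424052) (nat_lit 768))
)) (.node (nat_lit 0x80842444a) (.node (nat_lit 0x808424252) (.leaf (nat_lit 0x808424242) (nat_lit 773))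
 (.leaf (nat_lit 0x808424252) (nat_lit 1024))
) (.node (nat_lit 0x80842445a) (.leaf (nat_lit 0x80842444a) (nat_lit 1540))
 (.node (nat_lit 0x80842464a) (.leaf (nat_lit 0x80842445a) (nat_lit 1540))
 (.leaf (nat_lit 0x80842464a) (nat_lit 1536))
)))) (.node (nat_lit 0x80842ca52) (.node (nat_lit 0x80842c852) (.node (nat_lit 0x80842c842) (.leaf (nat_lit 0x80842465a) (nat_lit 1284))
 (.leaf (nat_lit 0x80842c842) (nat_lit 771))
) (.node (nat_lit 0x80842ca42) (.leaf (nat_lit 0x80842c852) (nat_lit 1027))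
 (.leaf (nat_lit 0x80842ca42) (nat_lit 515))
)) (.node (nat_lit 0x80842cc5a) (.node (nat_lit 0x80842cc4a) (.leaf (nat_lit 0x80842ca52) (nat_lit 771))
 (.leaf (nat_lit 0x80842cc4a) (nat_lit 1536))
) (.node (nat_lit 0x80842ce4a) (.leaf (nat_lit 0x80842cc5a) (nat_lit 1284))
 (.node (nat_lit 0x80842ce5a) (.leaf (nat_lit 0x80842ce4a) (nat_lit 1540))
 (.leaf (nat_lit 0x80842ce5a) (nat_lit 1540))
)))))))) (.node (nat_lit 0x80863c0e2) (.node (nat_lit 0x808614cea) (.node (nat_lit 0x8086042c2) (.node (nat_lit 0x80843c872) (.node (nat_lit 0x80843446a) (.node (nat_lit 0x808434262) (.node (nat_lit 0x808434072) (.leaf (nat_lit 0x808434062) (nat_lit 768))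
 (.leaf (nat_lit 0x808434072) (nat_lit 517))
) (.node (nat_lit 0x808434272) (.leaf (nat_lit 0x808434262) (nat_lit 1024))
 (.leaf (nat_lit 0x808434272) (nat_lit 773))
)) (.node (nat_lit 0x80843466a) (.node (nat_lit 0x80843447a) (.leaf (nat_lit 0x80843446a) (nat_lit 1540))
 (.leaf (nat_lit 0x80843447a) (nat_lit 1540))
) (.node (nat_lit 0x80843467a) (.leaf (nat_lit 0x80843466a) (nat_lit 1284))
 (.node (nat_lit 0x80843c862) (.leaf (nat_lit 0x80843467a) (nat_lit 1536))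
 (.leaf (nat_lit 0x80843c862) (nat_lit 1284))
)))) (.node (nat_lit 0x80843cc7a) (.node (nat_lit 0x80843ca72) (.node (nat_lit 0x80843ca62) (.leaf (nat_lit 0x80843c872) (nat_lit 1283))
 (.leaf (nat_lit 0x80843ca62) (nat_lit 1283))
) (.node (nat_lit 0x80843cc6a) (.leaf (nat_lit 0x80843ca72) (nat_lit 1027))
 (.leaf (nat_lit 0x80843cc6a) (nat_lit 1536))
)) (.node (nat_lit 0x80843ce7a) (.node (nat_lit 0x80843ce6a) (.leaf (nat_lit 0x80843cc7a) (nat_lit 1284))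
 (.leaf (nat_lit 0x80843ce6a) (nat_lit 1280))
) (.node (nat_lit 0x8086040c2) (.leaf (nat_lit 0x80843ce7a) (nat_lit 1028))
 (.node (nat_lit 0x8086040da) (.leaf (nat_lit 0x8086040c2) (nat_lit 260))
 (.leaf (nat_lit 0x8086040da) (nat_lit 512))
))))) (.node (nat_lit 0x80860cada) (.node (nat_lit 0x8086046ca) (.node (nat_lit 0x8086044ca) (.node (nat_lit 0x8086042da) (.leaf (nat_lit 0x8086042c2) (nat_lit 516))
 (.leaf (nat_lit 0x8086042da) (nat_lit 768))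
) (.node (nat_lit 0x8086044d2) (.leaf (nat_lit 0x8086044ca) (nat_lit 1280))
 (.leaf (nat_lit 0x8086044d2) (nat_lit 1028))
)) (.node (nat_lit 0x80860c8c2) (.node (nat_lit 0x8086046d2) (.leaf (nat_lit 0x8086046ca) (nat_lit 1536))
 (.leaf (nat_lit 0x8086046d2) (nat_lit 1284))
) (.node (nat_lit 0x80860c8da) (.leaf (nat_lit 0x80860c8c2) (nat_lit 1027))
 (.node (nat_lit 0x80860cac2) (.leaf (nat_lit 0x80860c8da) (nat_lit 1283))
 (.leaf (nat_lit 0x80860cac2) (nat_lit 771))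
)))) (.node (nat_lit 0x80860ced2) (.node (nat_lit 0x80860ccd2) (.node (nat_lit 0x80860ccca) (.leaf (nat_lit 0x80860cada) (nat_lit 1027))
 (.leaf (nat_lit 0x80860ccca) (nat_lit 1285))
) (.node (nat_lit 0x80860ceca) (.leaf (nat_lit 0x80860ccd2) (nat_lit 1541))
 (.leaf (nat_lit 0x80860ceca) (nat_lit 1541))
)) (.node (nat_lit 0x8086148fa) (.node (nat_lit 0x8086148e2) (.leaf (nat_lit 0x80860ced2) (nat_lit 1540))
 (.leaf (nat_lit 0x8086148e2) (nat_lit 1540))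
) (.node (nat_lit 0x808614ae2) (.leaf (nat_lit 0x8086148fa) (nat_lit 1541))
 (.node (nat_lit 0x808614afa) (.leaf (nat_lit 0x808614ae2) (nat_lit 1541))
 (.leaf (nat_lit 0x808614afa) (nat_lit 1285))
)))))) (.node (nat_lit 0x8086246ca) (.node (nat_lit 0x80861c4f2) (.node (nat_lit 0x80861c0e2) (.node (nat_lit 0x808614eea) (.node (nat_lit 0x808614cf2) (.leaf (nat_lit 0x808614cea) (nat_lit 1024))
 (.leaf (nat_lit 0x808614cf2) (nat_lit 772))
) (.node (nat_lit 0x808614ef2) (.leaf (nat_lit 0x808614eea) (nat_lit 1280))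
 (.leaf (nat_lit 0x808614ef2) (nat_lit 1028))
)) (.node (nat_lit 0x80861c2e2) (.node (nat_lit 0x80861c0fa) (.leaf (nat_lit 0x80861c0e2) (nat_lit 1541))
 (.leaf (nat_lit 0x80861c0fa) (nat_lit 1285))
) (.node (nat_lit 0x80861c2fa) (.leaf (nat_lit 0x80861c2e2) (nat_lit 1540))
 (.node (nat_lit 0x80861c4ea) (.leaf (nat_lit 0x80861c2fa) (nat_lit 1541))
 (.leaf (nat_lit 0x80861c4ea) (nat_lit 1283))
)))) (.node (nat_lit 0x8086240da) (.node (nat_lit 0x80861c6f2) (.node (nat_lit 0x80861c6ea) (.leaf (nat_lit 0x80861c4f2) (nat_lit 1027))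
 (.leaf (nat_lit 0x80861c6ea) (nat_lit 1027))
) (.node (nat_lit 0x8086240c2) (.leaf (nat_lit 0x80861c6f2) (nat_lit 771))
 (.leaf (nat_lit 0x8086240c2) (nat_lit 516))
)) (.node (nat_lit 0x8086242da) (.node (nat_lit 0x8086242c2) (.leaf (nat_lit 0x8086240da) (nat_lit 768))
 (.leaf (nat_lit 0x8086242c2) (nat_lit 772))
) (.node (nat_lit 0x8086244ca) (.leaf (nat_lit 0x8086242da) (nat_lit 1024))
 (.node (nat_lit 0x8086244d2) (.leaf (nat_lit 0x8086244ca) (nat_lit 1536))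
 (.leaf (nat_lit 0x8086244d2) (nat_lit 1284))
))))) (.node (nat_lit 0x80862ced2) (.node (nat_lit 0x80862cac2) (.node (nat_lit 0x80862c8c2) (.node (nat_lit 0x8086246d2) (.leaf (nat_lit 0x8086246ca) (nat_lit 1541))
 (.leaf (nat_lit 0x8086246d2) (nat_lit 1540))
) (.node (nat_lit 0x80862c8da) (.leaf (nat_lit 0x80862c8c2) (nat_lit 771))
 (.leaf (nat_lit 0x80862c8da) (nat_lit 1027))
)) (.node (nat_lit 0x80862ccca) (.node (nat_lit 0x80862cada) (.leaf (nat_lit 0x80862cac2) (nat_lit 515))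
 (.leaf (nat_lit 0x80862cada) (nat_lit 771))
) (.node (nat_lit 0x80862ccd2) (.leaf (nat_lit 0x80862ccca) (nat_lit 1541))
 (.node (nat_lit 0x80862ceca) (.leaf (nat_lit 0x80862ccd2) (nat_lit 1540))
 (.leaf (nat_lit 0x80862ceca) (nat_lit 1536))
)))) (.node (nat_lit 0x808634afa) (.node (nat_lit 0x8086348fa) (.node (nat_lit 0x8086348e2) (.leaf (nat_lit 0x80862ced2) (nat_lit 1284))
 (.leaf (nat_lit 0x8086348e2) (nat_lit 1284))
) (.node (nat_lit 0x808634ae2) (.leaf (nat_lit 0x8086348fa) (nat_lit 1536))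
 (.leaf (nat_lit 0x808634ae2) (nat_lit 1540))
)) (.node (nat_lit 0x808634cf2) (.node (nat_lit 0x808634cea) (.leaf (nat_lit 0x808634afa) (nat_lit 1541))
 (.leaf (nat_lit 0x808634cea) (nat_lit 768))
) (.node (nat_lit 0x808634eea) (.leaf (nat_lit 0x808634cf2) (nat_lit 516))
 (.node (nat_lit 0x808634ef2) (.leaf (nat_lit 0x808634eea) (nat_lit 1024))
 (.leaf (nat_lit 0x808634ef2) (nat_lit 772))
))))))) (.node (nat_lit 0x81021cca1) (.node (nat_lit 0x81020c2b1) (.node (nat_lit 0x810204089) (.node (nat_lit 0x80863c4ea) (.node (nat_lit 0x80863c2e2) (.node (nat_lit 0x80863c0fa) (.leaf (nat_lit 0x80863c0e2) (nat_lit 1285))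
 (.leaf (nat_lit 0x80863c0fa) (nat_lit 1029))
) (.node (nat_lit 0x80863c2fa) (.leaf (nat_lit 0x80863c2e2) (nat_lit 1541))
 (.leaf (nat_lit 0x80863c2fa) (nat_lit 1285))
)) (.node (nat_lit 0x80863c6ea) (.node (nat_lit 0x80863c4f2) (.leaf (nat_lit 0x80863c4ea) (nat_lit 1539))
 (.leaf (nat_lit 0x80863c4f2) (nat_lit 1283))
) (.node (nat_lit 0x80863c6f2) (.leaf (nat_lit 0x80863c6ea) (nat_lit 1283))
 (.node (nat_lit 0x810204081) (.leaf (nat_lit 0x80863c6f2) (nat_lit 1027))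
 (.leaf (nat_lit 0x810204081) (nat_lit 0))
)))) (.node (nat_lit 0x810204489) (.node (nat_lit 0x810204299) (.node (nat_lit 0x810204291) (.leaf (nat_lit 0x810204089) (nat_lit 256))
 (.leaf (nat_lit 0x810204291) (nat_lit 1540))
) (.node (nat_lit 0x810204481) (.leaf (nat_lit 0x810204299) (nat_lit 1284))
 (.leaf (nat_lit 0x810204481) (nat_lit 773))
)) (.node (nat_lit 0x810204699) (.node (nat_lit 0x810204691) (.leaf (nat_lit 0x810204489) (nat_lit 1029))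
 (.leaf (nat_lit 0x810204691) (nat_lit 1284))
) (.node (nat_lit 0x81020c0a1) (.leaf (nat_lit 0x810204699) (nat_lit 1028))
 (.node (nat_lit 0x81020c0a9) (.leaf (nat_lit 0x81020c0a1) (nat_lit 1285))
 (.leaf (nat_lit 0x81020c0a9) (nat_lit 1029))
))))) (.node (nat_lit 0x810214a99) (.node (nat_lit 0x81020c6b1) (.node (nat_lit 0x81020c4a1) (.node (nat_lit 0x81020c2b9) (.leaf (nat_lit 0x81020c2b1) (nat_lit 1540))
 (.leaf (nat_lit 0x81020c2b9) (nat_lit 1284))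
) (.node (nat_lit 0x81020c4a9) (.leaf (nat_lit 0x81020c4a1) (nat_lit 1541))
 (.leaf (nat_lit 0x81020c4a9) (nat_lit 1285))
)) (.node (nat_lit 0x810214881) (.node (nat_lit 0x81020c6b9) (.leaf (nat_lit 0x81020c6b1) (nat_lit 1540))
 (.leaf (nat_lit 0x81020c6b9) (nat_lit 1540))
) (.node (nat_lit 0x810214889) (.leaf (nat_lit 0x810214881) (nat_lit 1285))
 (.node (nat_lit 0x810214a91) (.leaf (nat_lit 0x810214889) (nat_lit 1541))
 (.leaf (nat_lit 0x810214a91) (nat_lit 1540))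
)))) (.node (nat_lit 0x810214e99) (.node (nat_lit 0x810214c89) (.node (nat_lit 0x810214c81) (.leaf (nat_lit 0x810214a99) (nat_lit 1540))
 (.leaf (nat_lit 0x810214c81) (nat_lit 515))
) (.node (nat_lit 0x810214e91) (.leaf (nat_lit 0x810214c89) (nat_lit 771))
 (.leaf (nat_lit 0x810214e91) (nat_lit 1284))
)) (.node (nat_lit 0x81021c8a9) (.node (nat_lit 0x81021c8a1) (.leaf (nat_lit 0x810214e99) (nat_lit 1540))
 (.leaf (nat_lit 0x81021c8a1) (nat_lit 1541))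
) (.node (nat_lit 0x81021cab1) (.leaf (nat_lit 0x81021c8a9) (nat_lit 1285))
 (.node (nat_lit 0x81021cab9) (.leaf (nat_lit 0x81021cab1) (nat_lit 1540))
 (.leaf (nat_lit 0x81021cab9) (nat_lit 1540))
)))))) (.node (nat_lit 0x81022c6b1) (.node (nat_lit 0x810224489) (.node (nat_lit 0x810224081) (.node (nat_lit 0x81021ceb1) (.node (nat_lit 0x81021cca9) (.leaf (nat_lit 0x81021cca1) (nat_lit 1285))
 (.leaf (nat_lit 0x81021cca9) (nat_lit 1029))
) (.node (nat_lit 0x81021ceb9) (.leaf (nat_lit 0x81021ceb1) (nat_lit 1540))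
 (.leaf (nat_lit 0x81021ceb9) (nat_lit 1284))
)) (.node (nat_lit 0x810224291) (.node (nat_lit 0x810224089) (.leaf (nat_lit 0x810224081) (nat_lit 257))
 (.leaf (nat_lit 0x810224089) (nat_lit 513))
) (.node (nat_lit 0x810224299) (.leaf (nat_lit 0x810224291) (nat_lit 1540))
 (.node (nat_lit 0x810224481) (.leaf (nat_lit 0x810224299) (nat_lit 1540))
 (.leaf (nat_lit 0x810224481) (nat_lit 1029))
)))) (.node (nat_lit 0x81022c0a9) (.node (nat_lit 0x810224699) (.node (nat_lit 0x810224691) (.leaf (nat_lit 0x810224489) (nat_lit 1285))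
 (.leaf (nat_lit 0x810224691) (nat_lit 1540))
) (.node (nat_lit 0x81022c0a1) (.leaf (nat_lit 0x810224699) (nat_lit 1284))
 (.leaf (nat_lit 0x81022c0a1) (nat_lit 1029))
)) (.node (nat_lit 0x81022c2b9) (.node (nat_lit 0x81022c2b1) (.leaf (nat_lit 0x81022c0a9) (nat_lit 773))
 (.leaf (nat_lit 0x81022c2b1) (nat_lit 1540))
) (.node (nat_lit 0x81022c4a1) (.leaf (nat_lit 0x81022c2b9) (nat_lit 1540))
 (.node (nat_lit 0x81022c4a9) (.leaf (nat_lit 0x81022c4a1) (nat_lit 1285))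
 (.leaf (nat_lit 0x81022c4a9) (nat_lit 1029))
))))) (.node (nat_lit 0x810234e99) (.node (nat_lit 0x810234a91) (.node (nat_lit 0x810234881) (.node (nat_lit 0x81022c6b9) (.leaf (nat_lit 0x81022c6b1) (nat_lit 1284))
 (.leaf (nat_lit 0x81022c6b9) (nat_lit 1540))
) (.node (nat_lit 0x810234889) (.leaf (nat_lit 0x810234881) (nat_lit 1029))
 (.leaf (nat_lit 0x810234889) (nat_lit 1285))
)) (.node (nat_lit 0x810234c81) (.node (nat_lit 0x810234a99) (.leaf (nat_lit 0x810234a91) (nat_lit 1540))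
 (.leaf (nat_lit 0x810234a99) (nat_lit 1284))
) (.node (nat_lit 0x810234c89) (.leaf (nat_lit 0x810234c81) (nat_lit 259))
 (.node (nat_lit 0x810234e91) (.leaf (nat_lit 0x810234c89) (nat_lit 515))
 (.leaf (nat_lit 0x810234e91) (nat_lit 1540))
)))) (.node (nat_lit 0x81023cab9) (.node (nat_lit 0x81023c8a9) (.node (nat_lit 0x81023c8a1) (.leaf (nat_lit 0x810234e99) (nat_lit 1540))
 (.leaf (nat_lit 0x81023c8a1) (nat_lit 1284))
) (.node (nat_lit 0x81023cab1) (.leaf (nat_lit 0x81023c8a9) (nat_lit 1540))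
 (.leaf (nat_lit 0x81023cab1) (nat_lit 1540))
)) (.node (nat_lit 0x81023cca9) (.node (nat_lit 0x81023cca1) (.leaf (nat_lit 0x81023cab9) (nat_lit 1284))
 (.leaf (nat_lit 0x81023cca1) (nat_lit 1541))
) (.node (nat_lit 0x81023ceb1) (.leaf (nat_lit 0x81023cca9) (nat_lit 1285))
 (.node (nat_lit 0x81023ceb9) (.leaf (nat_lit 0x81023ceb1) (nat_lit 1284))
 (.leaf (nat_lit 0x81023ceb9) (nat_lit 1028))
)))))))))) (.node (nat_lit 0x9086200c2) (.node (nat_lit 0x818414063) (.node (nat_lit 0x81820c0a3) (.node (nat_lit 0x8106244c1) (.node (nat_lit 0x810614ac9) (.node (nat_lit 0x81060c8f9) (.node (nat_lit 0x8106044c1) (.node (nat_lit 0x8106042c9) (.node (nat_lit 0x8106040d9) (.leaf (nat_lit 0x8106040c1) (nat_lit 516))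
 (.leaf (nat_lit 0x8106040d9) (nat_lit 768))
) (.node (nat_lit 0x8106042d1) (.leaf (nat_lit 0x8106042c9) (nat_lit 772))
 (.leaf (nat_lit 0x8106042d1) (nat_lit 1024))
)) (.node (nat_lit 0x8106046c9) (.node (nat_lit 0x8106044d9) (.leaf (nat_lit 0x8106044c1) (nat_lit 772))
 (.leaf (nat_lit 0x8106044d9) (nat_lit 1024))
) (.node (nat_lit 0x8106046d1) (.leaf (nat_lit 0x8106046c9) (nat_lit 1028))
 (.node (nat_lit 0x81060c8e1) (.leaf (nat_lit 0x8106046d1) (nat_lit 1280))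
 (.leaf (nat_lit 0x81060c8e1) (nat_lit 1284))
)))) (.node (nat_lit 0x81060ccf9) (.node (nat_lit 0x81060caf1) (.node (nat_lit 0x81060cae9) (.leaf (nat_lit 0x81060c8f9) (nat_lit 1536))
 (.leaf (nat_lit 0x81060cae9) (nat_lit 1028))
) (.node (nat_lit 0x81060cce1) (.leaf (nat_lit 0x81060caf1) (nat_lit 1280))
 (.leaf (nat_lit 0x81060cce1) (nat_lit 1540))
)) (.node (nat_lit 0x81060cef1) (.node (nat_lit 0x81060cee9) (.leaf (nat_lit 0x81060ccf9) (nat_lit 1285))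
 (.leaf (nat_lit 0x81060cee9) (nat_lit 1284))
) (.node (nat_lit 0x8106148c1) (.leaf (nat_lit 0x81060cef1) (nat_lit 1541))
 (.node (nat_lit 0x8106148d9) (.leaf (nat_lit 0x8106148c1) (nat_lit 1284))
 (.leaf (nat_lit 0x8106148d9) (nat_lit 1541))
))))) (.node (nat_lit 0x81061c2f1) (.node (nat_lit 0x810614ec9) (.node (nat_lit 0x810614cc1) (.node (nat_lit 0x810614ad1) (.leaf (nat_lit 0x810614ac9) (nat_lit 1540))
 (.leaf (nat_lit 0x810614ad1) (nat_lit 1285))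
) (.node (nat_lit 0x810614cd9) (.leaf (nat_lit 0x810614cc1) (nat_lit 1028))
 (.leaf (nat_lit 0x810614cd9) (nat_lit 1280))
)) (.node (nat_lit 0x81061c0e1) (.node (nat_lit 0x810614ed1) (.leaf (nat_lit 0x810614ec9) (nat_lit 1284))
 (.leaf (nat_lit 0x810614ed1) (nat_lit 1536))
) (.node (nat_lit 0x81061c0f9) (.leaf (nat_lit 0x81061c0e1) (nat_lit 1540))
 (.node (nat_lit 0x81061c2e9) (.leaf (nat_lit 0x81061c0f9) (nat_lit 1285))
 (.leaf (nat_lit 0x81061c2e9) (nat_lit 1284))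
)))) (.node (nat_lit 0x81061c6f1) (.node (nat_lit 0x81061c4f9) (.node (nat_lit 0x81061c4e1) (.leaf (nat_lit 0x81061c2f1) (nat_lit 1541))
 (.leaf (nat_lit 0x81061c4e1) (nat_lit 1284))
) (.node (nat_lit 0x81061c6e9) (.leaf (nat_lit 0x81061c4f9) (nat_lit 1536))
 (.leaf (nat_lit 0x81061c6e9) (nat_lit 1028))
)) (.node (nat_lit 0x8106240d9) (.node (nat_lit 0x8106240c1) (.leaf (nat_lit 0x81061c6f1) (nat_lit 1280))
 (.leaf (nat_lit 0x8106240c1) (nat_lit 772))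
) (.node (nat_lit 0x8106242c9) (.leaf (nat_lit 0x8106240d9) (nat_lit 1024))
 (.node (nat_lit 0x8106242d1) (.leaf (nat_lit 0x8106242c9) (nat_lit 1028))
 (.leaf (nat_lit 0x8106242d1) (nat_lit 1280))
)))))) (.node (nat_lit 0x810634ec9) (.node (nat_lit 0x81062ccf9) (.node (nat_lit 0x81062c8e1) (.node (nat_lit 0x8106246c9) (.node (nat_lit 0x8106244d9) (.leaf (nat_lit 0x8106244c1) (nat_lit 1028))
 (.leaf (nat_lit 0x8106244d9) (nat_lit 1280))
) (.node (nat_lit 0x8106246d1) (.leaf (nat_lit 0x8106246c9) (nat_lit 1284))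
 (.leaf (nat_lit 0x8106246d1) (nat_lit 1536))
)) (.node (nat_lit 0x81062cae9) (.node (nat_lit 0x81062c8f9) (.leaf (nat_lit 0x81062c8e1) (nat_lit 1028))
 (.leaf (nat_lit 0x81062c8f9) (nat_lit 1280))
) (.node (nat_lit 0x81062caf1) (.leaf (nat_lit 0x81062cae9) (nat_lit 772))
 (.node (nat_lit 0x81062cce1) (.leaf (nat_lit 0x81062caf1) (nat_lit 1024))
 (.leaf (nat_lit 0x81062cce1) (nat_lit 1284))
)))) (.node (nat_lit 0x8106348d9) (.node (nat_lit 0x81062cef1) (.node (nat_lit 0x81062cee9) (.leaf (nat_lit 0x81062ccf9) (nat_lit 1536))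
 (.leaf (nat_lit 0x81062cee9) (nat_lit 1028))
) (.node (nat_lit 0x8106348c1) (.leaf (nat_lit 0x81062cef1) (nat_lit 1280))
 (.leaf (nat_lit 0x8106348c1) (nat_lit 1028))
)) (.node (nat_lit 0x810634ad1) (.node (nat_lit 0x810634ac9) (.leaf (nat_lit 0x8106348d9) (nat_lit 1280))
 (.leaf (nat_lit 0x810634ac9) (nat_lit 1284))
) (.node (nat_lit 0x810634cc1) (.leaf (nat_lit 0x810634ad1) (nat_lit 1536))
 (.node (nat_lit 0x810634cd9) (.leaf (nat_lit 0x810634cc1) (nat_lit 772))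
 (.leaf (nat_lit 0x810634cd9) (nat_lit 1024))
))))) (.node (nat_lit 0x81063c6f1) (.node (nat_lit 0x81063c2e9) (.node (nat_lit 0x81063c0e1) (.node (nat_lit 0x810634ed1) (.leaf (nat_lit 0x810634ec9) (nat_lit 1028))
 (.leaf (nat_lit 0x810634ed1) (nat_lit 1280))
) (.node (nat_lit 0x81063c0f9) (.leaf (nat_lit 0x81063c0e1) (nat_lit 1285))
 (.leaf (nat_lit 0x81063c0f9) (nat_lit 1029))
)) (.node (nat_lit 0x81063c4e1) (.node (nat_lit 0x81063c2f1) (.leaf (nat_lit 0x81063c2e9) (nat_lit 1541))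
 (.leaf (nat_lit 0x81063c2f1) (nat_lit 1285))
) (.node (nat_lit 0x81063c4f9) (.leaf (nat_lit 0x81063c4e1) (nat_lit 1540))
 (.node (nat_lit 0x81063c6e9) (.leaf (nat_lit 0x81063c4f9) (nat_lit 1285))
 (.leaf (nat_lit 0x81063c6e9) (nat_lit 1284))
)))) (.node (nat_lit 0x81820429b) (.node (nat_lit 0x81820408b) (.node (nat_lit 0x818204083) (.leaf (nat_lit 0x81063c6f1) (nat_lit 1541))
 (.leaf (nat_lit 0x818204083) (nat_lit 517))
) (.node (nat_lit 0x818204293) (.leaf (nat_lit 0x81820408b) (nat_lit 773))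
 (.leaf (nat_lit 0x818204293) (nat_lit 1284))
)) (.node (nat_lit 0x81820449b) (.node (nat_lit 0x818204493) (.leaf (nat_lit 0x81820429b) (nat_lit 1540))
 (.leaf (nat_lit 0x818204493) (nat_lit 1028))
) (.node (nat_lit 0x818204683) (.leaf (nat_lit 0x81820449b) (nat_lit 1284))
 (.node (nat_lit 0x81820468b) (.leaf (nat_lit 0x818204683) (nat_lit 773))
 (.leaf (nat_lit 0x81820468b) (nat_lit 1029))
))))))) (.node (nat_lit 0x81822c4b3) (.node (nat_lit 0x81821ca93) (.node (nat_lit 0x8182148ab) (.node (nat_lit 0x81820c4b3) (.node (nat_lit 0x81820c2b3) (.node (nat_lit 0x81820c0ab) (.leaf (nat_lit 0x81820c0a3) (nat_lit 1285))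
 (.leaf (nat_lit 0x81820c0ab) (nat_lit 1029))
) (.node (nat_lit 0x81820c2bb) (.leaf (nat_lit 0x81820c2b3) (nat_lit 1027))
 (.leaf (nat_lit 0x81820c2bb) (nat_lit 1283))
)) (.node (nat_lit 0x81820c6a3) (.node (nat_lit 0x81820c4bb) (.leaf (nat_lit 0x81820c4b3) (nat_lit 1283))
 (.leaf (nat_lit 0x81820c4bb) (nat_lit 1539))
) (.node (nat_lit 0x81820c6ab) (.leaf (nat_lit 0x81820c6a3) (nat_lit 1541))
 (.node (nat_lit 0x8182148a3) (.leaf (nat_lit 0x81820c6ab) (nat_lit 1285))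
 (.leaf (nat_lit 0x8182148a3) (nat_lit 1539))
)))) (.node (nat_lit 0x818214cbb) (.node (nat_lit 0x818214abb) (.node (nat_lit 0x818214ab3) (.leaf (nat_lit 0x8182148ab) (nat_lit 1283))
 (.leaf (nat_lit 0x818214ab3) (nat_lit 1285))
) (.node (nat_lit 0x818214cb3) (.leaf (nat_lit 0x818214abb) (nat_lit 1541))
 (.leaf (nat_lit 0x818214cb3) (nat_lit 1029))
)) (.node (nat_lit 0x818214eab) (.node (nat_lit 0x818214ea3) (.leaf (nat_lit 0x818214cbb) (nat_lit 1285))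
 (.leaf (nat_lit 0x818214ea3) (nat_lit 1283))
) (.node (nat_lit 0x81821c883) (.leaf (nat_lit 0x818214eab) (nat_lit 1027))
 (.node (nat_lit 0x81821c88b) (.leaf (nat_lit 0x81821c883) (nat_lit 1283))
 (.leaf (nat_lit 0x81821c88b) (nat_lit 1539))
))))) (.node (nat_lit 0x81822429b) (.node (nat_lit 0x81821ce83) (.node (nat_lit 0x81821cc93) (.node (nat_lit 0x81821ca9b) (.leaf (nat_lit 0x81821ca93) (nat_lit 1541))
 (.leaf (nat_lit 0x81821ca9b) (nat_lit 1285))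
) (.node (nat_lit 0x81821cc9b) (.leaf (nat_lit 0x81821cc93) (nat_lit 1285))
 (.leaf (nat_lit 0x81821cc9b) (nat_lit 1029))
)) (.node (nat_lit 0x818224083) (.node (nat_lit 0x81821ce8b) (.leaf (nat_lit 0x81821ce83) (nat_lit 1027))
 (.leaf (nat_lit 0x81821ce8b) (nat_lit 1283))
) (.node (nat_lit 0x81822408b) (.leaf (nat_lit 0x818224083) (nat_lit 773))
 (.node (nat_lit 0x818224293) (.leaf (nat_lit 0x81822408b) (nat_lit 1029))
 (.leaf (nat_lit 0x818224293) (nat_lit 1539))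
)))) (.node (nat_lit 0x81822468b) (.node (nat_lit 0x81822449b) (.node (nat_lit 0x818224493) (.leaf (nat_lit 0x81822429b) (nat_lit 1283))
 (.leaf (nat_lit 0x818224493) (nat_lit 1284))
) (.node (nat_lit 0x818224683) (.leaf (nat_lit 0x81822449b) (nat_lit 1540))
 (.leaf (nat_lit 0x818224683) (nat_lit 1029))
)) (.node (nat_lit 0x81822c0ab) (.node (nat_lit 0x81822c0a3) (.leaf (nat_lit 0x81822468b) (nat_lit 1285))
 (.leaf (nat_lit 0x81822c0a3) (nat_lit 1029))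
) (.node (nat_lit 0x81822c2b3) (.leaf (nat_lit 0x81822c0ab) (nat_lit 773))
 (.node (nat_lit 0x81822c2bb) (.leaf (nat_lit 0x81822c2b3) (nat_lit 1283))
 (.leaf (nat_lit 0x81822c2bb) (nat_lit 1539))
)))))) (.node (nat_lit 0x81823ce83) (.node (nat_lit 0x818234cbb) (.node (nat_lit 0x8182348a3) (.node (nat_lit 0x81822c6a3) (.node (nat_lit 0x81822c4bb) (.leaf (nat_lit 0x81822c4b3) (nat_lit 1540))
 (.leaf (nat_lit 0x81822c4bb) (nat_lit 1284))
) (.node (nat_lit 0x81822c6ab) (.leaf (nat_lit 0x81822c6a3) (nat_lit 1285))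
 (.leaf (nat_lit 0x81822c6ab) (nat_lit 1029))
)) (.node (nat_lit 0x818234ab3) (.node (nat_lit 0x8182348ab) (.leaf (nat_lit 0x8182348a3) (nat_lit 1284))
 (.leaf (nat_lit 0x8182348ab) (nat_lit 1540))
) (.node (nat_lit 0x818234abb) (.leaf (nat_lit 0x818234ab3) (nat_lit 1029))
 (.node (nat_lit 0x818234cb3) (.leaf (nat_lit 0x818234abb) (nat_lit 1285))
 (.leaf (nat_lit 0x818234cb3) (nat_lit 773))
)))) (.node (nat_lit 0x81823c88b) (.node (nat_lit 0x818234eab) (.node (nat_lit 0x818234ea3) (.leaf (nat_lit 0x818234cbb) (nat_lit 1029))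
 (.leaf (nat_lit 0x818234ea3) (nat_lit 1539))
) (.node (nat_lit 0x81823c883) (.leaf (nat_lit 0x818234eab) (nat_lit 1283))
 (.leaf (nat_lit 0x81823c883) (nat_lit 1027))
)) (.node (nat_lit 0x81823ca9b) (.node (nat_lit 0x81823ca93) (.leaf (nat_lit 0x81823c88b) (nat_lit 1283))
 (.leaf (nat_lit 0x81823ca93) (nat_lit 1283))
) (.node (nat_lit 0x81823cc93) (.leaf (nat_lit 0x81823ca9b) (nat_lit 1539))
 (.node (nat_lit 0x81823cc9b) (.leaf (nat_lit 0x81823cc93) (nat_lit 1541))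
 (.leaf (nat_lit 0x81823cc9b) (nat_lit 1285))
))))) (.node (nat_lit 0x818404653) (.node (nat_lit 0x81840424b) (.node (nat_lit 0x818404043) (.node (nat_lit 0x81823ce8b) (.leaf (nat_lit 0x81823ce83) (nat_lit 771))
 (.leaf (nat_lit 0x81823ce8b) (nat_lit 1027))
) (.node (nat_lit 0x818404053) (.leaf (nat_lit 0x818404043) (nat_lit 516))
 (.leaf (nat_lit 0x818404053) (nat_lit 768))
)) (.node (nat_lit 0x81840444b) (.node (nat_lit 0x81840425b) (.leaf (nat_lit 0x81840424b) (nat_lit 772))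
 (.leaf (nat_lit 0x81840425b) (nat_lit 1024))
) (.node (nat_lit 0x81840445b) (.leaf (nat_lit 0x81840444b) (nat_lit 1028))
 (.node (nat_lit 0x818404643) (.leaf (nat_lit 0x81840445b) (nat_lit 1280))
 (.leaf (nat_lit 0x818404643) (nat_lit 772))
)))) (.node (nat_lit 0x81840ca7b) (.node (nat_lit 0x81840c873) (.node (nat_lit 0x81840c863) (.leaf (nat_lit 0x818404653) (nat_lit 1024))
 (.leaf (nat_lit 0x81840c863) (nat_lit 1284))
) (.node (nat_lit 0x81840ca6b) (.leaf (nat_lit 0x81840c873) (nat_lit 1283))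
 (.leaf (nat_lit 0x81840ca6b) (nat_lit 1028))
)) (.node (nat_lit 0x81840cc7b) (.node (nat_lit 0x81840cc6b) (.leaf (nat_lit 0x81840ca7b) (nat_lit 1280))
 (.leaf (nat_lit 0x81840cc6b) (nat_lit 1284))
) (.node (nat_lit 0x81840ce63) (.leaf (nat_lit 0x81840cc7b) (nat_lit 1283))
 (.node (nat_lit 0x81840ce73) (.leaf (nat_lit 0x81840ce63) (nat_lit 1283))
 (.leaf (nat_lit 0x81840ce73) (nat_lit 1027))
)))))))) (.node (nat_lit 0x90841c966) (.node (nat_lit 0x81843446b) (.node (nat_lit 0x81842424b) (.node (nat_lit 0x81841c853) (.node (nat_lit 0x81841446b) (.node (nat_lit 0x81841426b) (.node (nat_lit 0x818414073) (.leaf (nat_lit 0x818414063) (nat_lit 1280))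
 (.leaf (nat_lit 0x818414073) (nat_lit 1028))
) (.node (nat_lit 0x81841427b) (.leaf (nat_lit 0x81841426b) (nat_lit 1283))
 (.leaf (nat_lit 0x81841427b) (nat_lit 1284))
)) (.node (nat_lit 0x818414663) (.node (nat_lit 0x81841447b) (.leaf (nat_lit 0x81841446b) (nat_lit 1027))
 (.leaf (nat_lit 0x81841447b) (nat_lit 1283))
) (.node (nat_lit 0x818414673) (.leaf (nat_lit 0x818414663) (nat_lit 1283))
 (.node (nat_lit 0x81841c843) (.leaf (nat_lit 0x818414673) (nat_lit 1284))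
 (.leaf (nat_lit 0x81841c843) (nat_lit 1283))
)))) (.node (nat_lit 0x81841cc5b) (.node (nat_lit 0x81841ca5b) (.node (nat_lit 0x81841ca4b) (.leaf (nat_lit 0x81841c853) (nat_lit 1284))
 (.leaf (nat_lit 0x81841ca4b) (nat_lit 1280))
) (.node (nat_lit 0x81841cc4b) (.leaf (nat_lit 0x81841ca5b) (nat_lit 1028))
 (.leaf (nat_lit 0x81841cc4b) (nat_lit 1283))
)) (.node (nat_lit 0x81841ce53) (.node (nat_lit 0x81841ce43) (.leaf (nat_lit 0x81841cc5b) (nat_lit 1284))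
 (.leaf (nat_lit 0x81841ce43) (nat_lit 1027))
) (.node (nat_lit 0x818424043) (.leaf (nat_lit 0x81841ce53) (nat_lit 1283))
 (.node (nat_lit 0x818424053) (.leaf (nat_lit 0x818424043) (nat_lit 772))
 (.leaf (nat_lit 0x818424053) (nat_lit 1024))
))))) (.node (nat_lit 0x81842ca7b) (.node (nat_lit 0x818424643) (.node (nat_lit 0x81842444b) (.node (nat_lit 0x81842425b) (.leaf (nat_lit 0x81842424b) (nat_lit 1028))
 (.leaf (nat_lit 0x81842425b) (nat_lit 1280))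
) (.node (nat_lit 0x81842445b) (.leaf (nat_lit 0x81842444b) (nat_lit 1284))
 (.leaf (nat_lit 0x81842445b) (nat_lit 1283))
)) (.node (nat_lit 0x81842c863) (.node (nat_lit 0x818424653) (.leaf (nat_lit 0x818424643) (nat_lit 1028))
 (.leaf (nat_lit 0x818424653) (nat_lit 1280))
) (.node (nat_lit 0x81842c873) (.leaf (nat_lit 0x81842c863) (nat_lit 1028))
 (.node (nat_lit 0x81842ca6b) (.leaf (nat_lit 0x81842c873) (nat_lit 1280))
 (.leaf (nat_lit 0x81842ca6b) (nat_lit 772))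
)))) (.node (nat_lit 0x81842ce73) (.node (nat_lit 0x81842cc7b) (.node (nat_lit 0x81842cc6b) (.leaf (nat_lit 0x81842ca7b) (nat_lit 1024))
 (.leaf (nat_lit 0x81842cc6b) (nat_lit 1028))
) (.node (nat_lit 0x81842ce63) (.leaf (nat_lit 0x81842cc7b) (nat_lit 1280))
 (.leaf (nat_lit 0x81842ce63) (nat_lit 1284))
)) (.node (nat_lit 0x818434073) (.node (nat_lit 0x818434063) (.leaf (nat_lit 0x81842ce73) (nat_lit 1283))
 (.leaf (nat_lit 0x818434063) (nat_lit 1024))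
) (.node (nat_lit 0x81843426b) (.leaf (nat_lit 0x818434073) (nat_lit 772))
 (.node (nat_lit 0x81843427b) (.leaf (nat_lit 0x81843426b) (nat_lit 1280))
 (.leaf (nat_lit 0x81843427b) (nat_lit 1028))
)))))) (.node (nat_lit 0x90840464a) (.node (nat_lit 0x81843cc5b) (.node (nat_lit 0x81843c843) (.node (nat_lit 0x818434663) (.node (nat_lit 0x81843447b) (.leaf (nat_lit 0x81843446b) (nat_lit 1283))
 (.leaf (nat_lit 0x81843447b) (nat_lit 1284))
) (.node (nat_lit 0x818434673) (.leaf (nat_lit 0x818434663) (nat_lit 1280))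
 (.leaf (nat_lit 0x818434673) (nat_lit 1028))
)) (.node (nat_lit 0x81843ca4b) (.node (nat_lit 0x81843c853) (.leaf (nat_lit 0x81843c843) (nat_lit 1027))
 (.leaf (nat_lit 0x81843c853) (nat_lit 1283))
) (.node (nat_lit 0x81843ca5b) (.leaf (nat_lit 0x81843ca4b) (nat_lit 1283))
 (.node (nat_lit 0x81843cc4b) (.leaf (nat_lit 0x81843ca5b) (nat_lit 1284))
 (.leaf (nat_lit 0x81843cc4b) (nat_lit 1027))
)))) (.node (nat_lit 0x908404052) (.node (nat_lit 0x81843ce53) (.node (nat_lit 0x81843ce43) (.leaf (nat_lit 0x81843cc5b) (nat_lit 1283))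
 (.leaf (nat_lit 0x81843ce43) (nat_lit 771))
) (.node (nat_lit 0x908404042) (.leaf (nat_lit 0x81843ce53) (nat_lit 1027))
 (.leaf (nat_lit 0x908404042) (nat_lit 773))
)) (.node (nat_lit 0x908404252) (.node (nat_lit 0x908404242) (.leaf (nat_lit 0x908404052) (nat_lit 1024))
 (.leaf (nat_lit 0x908404242) (nat_lit 1029))
) (.node (nat_lit 0x90840444a) (.leaf (nat_lit 0x908404252) (nat_lit 1280))
 (.node (nat_lit 0x90840445a) (.leaf (nat_lit 0x90840444a) (nat_lit 1796))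
 (.leaf (nat_lit 0x90840445a) (nat_lit 1796))
))))) (.node (nat_lit 0x90840cf5a) (.node (nat_lit 0x90840cb42) (.node (nat_lit 0x90840c942) (.node (nat_lit 0x90840465a) (.leaf (nat_lit 0x90840464a) (nat_lit 1792))
 (.leaf (nat_lit 0x90840465a) (nat_lit 1540))
) (.node (nat_lit 0x90840c952) (.leaf (nat_lit 0x90840c942) (nat_lit 1027))
 (.leaf (nat_lit 0x90840c952) (nat_lit 1283))
)) (.node (nat_lit 0x90840cd4a) (.node (nat_lit 0x90840cb52) (.leaf (nat_lit 0x90840cb42) (nat_lit 771))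
 (.leaf (nat_lit 0x90840cb52) (nat_lit 1027))
) (.node (nat_lit 0x90840cd5a) (.leaf (nat_lit 0x90840cd4a) (nat_lit 1792))
 (.node (nat_lit 0x90840cf4a) (.leaf (nat_lit 0x90840cd5a) (nat_lit 1540))
 (.leaf (nat_lit 0x90840cf4a) (nat_lit 1796))
)))) (.node (nat_lit 0x908414276) (.node (nat_lit 0x908414076) (.node (nat_lit 0x908414066) (.leaf (nat_lit 0x90840cf5a) (nat_lit 1796))
 (.leaf (nat_lit 0x908414066) (nat_lit 1024))
) (.node (nat_lit 0x908414266) (.leaf (nat_lit 0x908414076) (nat_lit 773))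
 (.leaf (nat_lit 0x908414266) (nat_lit 1280))
)) (.node (nat_lit 0x90841447e) (.node (nat_lit 0x90841446e) (.leaf (nat_lit 0x908414276) (nat_lit 1029))
 (.leaf (nat_lit 0x90841446e) (nat_lit 1796))
) (.node (nat_lit 0x90841466e) (.leaf (nat_lit 0x90841447e) (nat_lit 1796))
 (.node (nat_lit 0x90841467e) (.leaf (nat_lit 0x90841466e) (nat_lit 1540))
 (.leaf (nat_lit 0x90841467e) (nat_lit 1792))
))))))) (.node (nat_lit 0x908438d6e) (.node (nat_lit 0x908428b42) (.node (nat_lit 0x908420052) (.node (nat_lit 0x90841cd6e) (.node (nat_lit 0x90841cb66) (.node (nat_lit 0x90841c976) (.leaf (nat_lit 0x90841c966) (nat_lit 1540))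
 (.leaf (nat_lit 0x90841c976) (nat_lit 1539))
) (.node (nat_lit 0x90841cb76) (.leaf (nat_lit 0x90841cb66) (nat_lit 1539))
 (.leaf (nat_lit 0x90841cb76) (nat_lit 1283))
)) (.node (nat_lit 0x90841cf6e) (.node (nat_lit 0x90841cd7e) (.leaf (nat_lit 0x90841cd6e) (nat_lit 1792))
 (.leaf (nat_lit 0x90841cd7e) (nat_lit 1540))
) (.node (nat_lit 0x90841cf7e) (.leaf (nat_lit 0x90841cf6e) (nat_lit 1536))
 (.node (nat_lit 0x908420042) (.leaf (nat_lit 0x90841cf7e) (nat_lit 1284))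
 (.leaf (nat_lit 0x908420042) (nat_lit 517))
)))) (.node (nat_lit 0x90842045a) (.node (nat_lit 0x908420252) (.node (nat_lit 0x908420242) (.leaf (nat_lit 0x908420052) (nat_lit 768))
 (.leaf (nat_lit 0x908420242) (nat_lit 773))
) (.node (nat_lit 0x90842044a) (.leaf (nat_lit 0x908420252) (nat_lit 1024))
 (.leaf (nat_lit 0x90842044a) (nat_lit 1792))
)) (.node (nat_lit 0x90842065a) (.node (nat_lit 0x90842064a) (.leaf (nat_lit 0x90842045a) (nat_lit 1540))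
 (.leaf (nat_lit 0x90842064a) (nat_lit 1536))
) (.node (nat_lit 0x908428942) (.leaf (nat_lit 0x90842065a) (nat_lit 1284))
 (.node (nat_lit 0x908428952) (.leaf (nat_lit 0x908428942) (nat_lit 1283))
 (.leaf (nat_lit 0x908428952) (nat_lit 1539))
))))) (.node (nat_lit 0x908430276) (.node (nat_lit 0x908428f4a) (.node (nat_lit 0x908428d4a) (.node (nat_lit 0x908428b52) (.leaf (nat_lit 0x908428b42) (nat_lit 1027))
 (.leaf (nat_lit 0x908428b52) (nat_lit 1283))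
) (.node (nat_lit 0x908428d5a) (.leaf (nat_lit 0x908428d4a) (nat_lit 1796))
 (.leaf (nat_lit 0x908428d5a) (nat_lit 1796))
)) (.node (nat_lit 0x908430066) (.node (nat_lit 0x908428f5a) (.leaf (nat_lit 0x908428f4a) (nat_lit 1540))
 (.leaf (nat_lit 0x908428f5a) (nat_lit 1792))
) (.node (nat_lit 0x908430076) (.leaf (nat_lit 0x908430066) (nat_lit 1280))
 (.node (nat_lit 0x908430266) (.leaf (nat_lit 0x908430076) (nat_lit 1029))
 (.leaf (nat_lit 0x908430266) (nat_lit 1536))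
)))) (.node (nat_lit 0x90843067e) (.node (nat_lit 0x90843047e) (.node (nat_lit 0x90843046e) (.leaf (nat_lit 0x908430276) (nat_lit 1285))
 (.leaf (nat_lit 0x90843046e) (nat_lit 1792))
) (.node (nat_lit 0x90843066e) (.leaf (nat_lit 0x90843047e) (nat_lit 1540))
 (.leaf (nat_lit 0x90843066e) (nat_lit 1796))
)) (.node (nat_lit 0x908438976) (.node (nat_lit 0x908438966) (.leaf (nat_lit 0x90843067e) (nat_lit 1796))
 (.leaf (nat_lit 0x908438966) (nat_lit 1539))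
) (.node (nat_lit 0x908438b66) (.leaf (nat_lit 0x908438976) (nat_lit 1283))
 (.node (nat_lit 0x908438b76) (.leaf (nat_lit 0x908438b66) (nat_lit 1283))
 (.leaf (nat_lit 0x908438b76) (nat_lit 1027))
)))))) (.node (nat_lit 0x90860cfca) (.node (nat_lit 0x9086044d2) (.node (nat_lit 0x9086040c2) (.node (nat_lit 0x908438f6e) (.node (nat_lit 0x908438d7e) (.leaf (nat_lit 0x908438d6e) (nat_lit 1796))
 (.leaf (nat_lit 0x908438d7e) (nat_lit 1796))
) (.node (nat_lit 0x908438f7e) (.leaf (nat_lit 0x908438f6e) (nat_lit 1792))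
 (.leaf (nat_lit 0x908438f7e) (nat_lit 1540))
)) (.node (nat_lit 0x9086042c2) (.node (nat_lit 0x9086040da) (.leaf (nat_lit 0x9086040c2) (nat_lit 772))
 (.leaf (nat_lit 0x9086040da) (nat_lit 1024))
) (.node (nat_lit 0x9086042da) (.leaf (nat_lit 0x9086042c2) (nat_lit 1028))
 (.node (nat_lit 0x9086044ca) (.leaf (nat_lit 0x9086042da) (nat_lit 1280))
 (.leaf (nat_lit 0x9086044ca) (nat_lit 1792))
)))) (.node (nat_lit 0x90860c9da) (.node (nat_lit 0x9086046d2) (.node (nat_lit 0x9086046ca) (.leaf (nat_lit 0x9086044d2) (nat_lit 1540))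
 (.leaf (nat_lit 0x9086046ca) (nat_lit 1797))
) (.node (nat_lit 0x90860c9c2) (.leaf (nat_lit 0x9086046d2) (nat_lit 1796))
 (.leaf (nat_lit 0x90860c9c2) (nat_lit 1027))
)) (.node (nat_lit 0x90860cbda) (.node (nat_lit 0x90860cbc2) (.leaf (nat_lit 0x90860c9da) (nat_lit 1283))
 (.leaf (nat_lit 0x90860cbc2) (nat_lit 771))
) (.node (nat_lit 0x90860cdca) (.leaf (nat_lit 0x90860cbda) (nat_lit 1027))
 (.node (nat_lit 0x90860cdd2) (.leaf (nat_lit 0x90860cdca) (nat_lit 1797))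
 (.leaf (nat_lit 0x90860cdd2) (nat_lit 1796))
))))) (.node (nat_lit 0x908614ff6) (.node (nat_lit 0x908614be6) (.node (nat_lit 0x9086149e6) (.node (nat_lit 0x90860cfd2) (.leaf (nat_lit 0x90860cfca) (nat_lit 1792))
 (.leaf (nat_lit 0x90860cfd2) (nat_lit 1540))
) (.node (nat_lit 0x9086149fe) (.leaf (nat_lit 0x9086149e6) (nat_lit 1540))
 (.leaf (nat_lit 0x9086149fe) (nat_lit 1792))
)) (.node (nat_lit 0x908614dee) (.node (nat_lit 0x908614bfe) (.leaf (nat_lit 0x908614be6) (nat_lit 1796))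
 (.leaf (nat_lit 0x908614bfe) (nat_lit 1797))
) (.node (nat_lit 0x908614df6) (.leaf (nat_lit 0x908614dee) (nat_lit 1024))
 (.node (nat_lit 0x908614fee) (.leaf (nat_lit 0x908614df6) (nat_lit 772))
 (.leaf (nat_lit 0x908614fee) (nat_lit 1280))
)))) (.node (nat_lit 0x90861c2fe) (.node (nat_lit 0x90861c0fe) (.node (nat_lit 0x90861c0e6) (.leaf (nat_lit 0x908614ff6) (nat_lit 1028))
 (.leaf (nat_lit 0x90861c0e6) (nat_lit 1541))
) (.node (nat_lit 0x90861c2e6) (.leaf (nat_lit 0x90861c0fe) (nat_lit 1285))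
 (.leaf (nat_lit 0x90861c2e6) (nat_lit 1797))
)) (.node (nat_lit 0x90861c4f6) (.node (nat_lit 0x90861c4ee) (.leaf (nat_lit 0x90861c2fe) (nat_lit 1541))
 (.leaf (nat_lit 0x90861c4ee) (nat_lit 1795))
) (.node (nat_lit 0x90861c6ee) (.leaf (nat_lit 0x90861c4f6) (nat_lit 1539))
 (.node (nat_lit 0x90861c6f6) (.leaf (nat_lit 0x90861c6ee) (nat_lit 1539))
 (.leaf (nat_lit 0x90861c6f6) (nat_lit 1283))
))))))))) (.node (nat_lit 0x9106309c1) (.node (nat_lit 0x9102280a5) (.node (nat_lit 0x910204481) (.node (nat_lit 0x908630be6) (.node (nat_lit 0x9086289da) (.node (nat_lit 0x9086204ca) (.node (nat_lit 0x9086202c2) (.node (nat_lit 0x9086200da) (.leaf (nat_lit 0x9086200c2) (nat_lit 516))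
 (.leaf (nat_lit 0x9086200da) (nat_lit 768))
) (.node (nat_lit 0x9086202da) (.leaf (nat_lit 0x9086202c2) (nat_lit 772))
 (.leaf (nat_lit 0x9086202da) (nat_lit 1024))
)) (.node (nat_lit 0x9086206ca) (.node (nat_lit 0x9086204d2) (.leaf (nat_lit 0x9086204ca) (nat_lit 1536))
 (.leaf (nat_lit 0x9086204d2) (nat_lit 1284))
) (.node (nat_lit 0x9086206d2) (.leaf (nat_lit 0x9086206ca) (nat_lit 1792))
 (.node (nat_lit 0x9086289c2) (.leaf (nat_lit 0x9086206d2) (nat_lit 1540))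
 (.leaf (nat_lit 0x9086289c2) (nat_lit 1283))
)))) (.node (nat_lit 0x908628dd2) (.node (nat_lit 0x908628bda) (.node (nat_lit 0x908628bc2) (.leaf (nat_lit 0x9086289da) (nat_lit 1539))
 (.leaf (nat_lit 0x908628bc2) (nat_lit 1027))
) (.node (nat_lit 0x908628dca) (.leaf (nat_lit 0x908628bda) (nat_lit 1283))
 (.leaf (nat_lit 0x908628dca) (nat_lit 1541))
)) (.node (nat_lit 0x908628fd2) (.node (nat_lit 0x908628fca) (.leaf (nat_lit 0x908628dd2) (nat_lit 1797))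
 (.leaf (nat_lit 0x908628fca) (nat_lit 1797))
) (.node (nat_lit 0x9086309e6) (.leaf (nat_lit 0x908628fd2) (nat_lit 1796))
 (.node (nat_lit 0x9086309fe) (.leaf (nat_lit 0x9086309e6) (nat_lit 1796))
 (.leaf (nat_lit 0x9086309fe) (nat_lit 1797))
))))) (.node (nat_lit 0x9086382fe) (.node (nat_lit 0x908630fee) (.node (nat_lit 0x908630dee) (.node (nat_lit 0x908630bfe) (.leaf (nat_lit 0x908630be6) (nat_lit 1797))
 (.leaf (nat_lit 0x908630bfe) (nat_lit 1541))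
) (.node (nat_lit 0x908630df6) (.leaf (nat_lit 0x908630dee) (nat_lit 1280))
 (.leaf (nat_lit 0x908630df6) (nat_lit 1028))
)) (.node (nat_lit 0x9086380e6) (.node (nat_lit 0x908630ff6) (.leaf (nat_lit 0x908630fee) (nat_lit 1536))
 (.leaf (nat_lit 0x908630ff6) (nat_lit 1284))
) (.node (nat_lit 0x9086380fe) (.leaf (nat_lit 0x9086380e6) (nat_lit 1797))
 (.node (nat_lit 0x9086382e6) (.leaf (nat_lit 0x9086380fe) (nat_lit 1541))
 (.leaf (nat_lit 0x9086382e6) (nat_lit 1796))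
)))) (.node (nat_lit 0x9086386f6) (.node (nat_lit 0x9086384f6) (.node (nat_lit 0x9086384ee) (.leaf (nat_lit 0x9086382fe) (nat_lit 1797))
 (.leaf (nat_lit 0x9086384ee) (nat_lit 1539))
) (.node (nat_lit 0x9086386ee) (.leaf (nat_lit 0x9086384f6) (nat_lit 1283))
 (.leaf (nat_lit 0x9086386ee) (nat_lit 1283))
)) (.node (nat_lit 0x910204089) (.node (nat_lit 0x910204081) (.leaf (nat_lit 0x9086386f6) (nat_lit 1027))
 (.leaf (nat_lit 0x910204081) (nat_lit 513))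
) (.node (nat_lit 0x910204291) (.leaf (nat_lit 0x910204089) (nat_lit 769))
 (.node (nat_lit 0x910204299) (.leaf (nat_lit 0x910204291) (nat_lit 1796))
 (.leaf (nat_lit 0x910204299) (nat_lit 1796))
)))))) (.node (nat_lit 0x910214f91) (.node (nat_lit 0x91020c4ad) (.node (nat_lit 0x91020c0a5) (.node (nat_lit 0x910204691) (.node (nat_lit 0x910204489) (.leaf (nat_lit 0x910204481) (nat_lit 1285))
 (.leaf (nat_lit 0x910204489) (nat_lit 1541))
) (.node (nat_lit 0x910204699) (.leaf (nat_lit 0x910204691) (nat_lit 1796))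
 (.leaf (nat_lit 0x910204699) (nat_lit 1540))
)) (.node (nat_lit 0x91020c2b5) (.node (nat_lit 0x91020c0ad) (.leaf (nat_lit 0x91020c0a5) (nat_lit 1285))
 (.leaf (nat_lit 0x91020c0ad) (nat_lit 1029))
) (.node (nat_lit 0x91020c2bd) (.leaf (nat_lit 0x91020c2b5) (nat_lit 1796))
 (.node (nat_lit 0x91020c4a5) (.leaf (nat_lit 0x91020c2bd) (nat_lit 1796))
 (.leaf (nat_lit 0x91020c4a5) (nat_lit 1541))
)))) (.node (nat_lit 0x910214989) (.node (nat_lit 0x91020c6bd) (.node (nat_lit 0x91020c6b5) (.leaf (nat_lit 0x91020c4ad) (nat_lit 1285))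
 (.leaf (nat_lit 0x91020c6b5) (nat_lit 1540))
) (.node (nat_lit 0x910214981) (.leaf (nat_lit 0x91020c6bd) (nat_lit 1796))
 (.leaf (nat_lit 0x910214981) (nat_lit 1285))
)) (.node (nat_lit 0x910214b99) (.node (nat_lit 0x910214b91) (.leaf (nat_lit 0x910214989) (nat_lit 1541))
 (.leaf (nat_lit 0x910214b91) (nat_lit 1796))
) (.node (nat_lit 0x910214d81) (.leaf (nat_lit 0x910214b99) (nat_lit 1540))
 (.node (nat_lit 0x910214d89) (.leaf (nat_lit 0x910214d81) (nat_lit 515))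
 (.leaf (nat_lit 0x910214d89) (nat_lit 771))
))))) (.node (nat_lit 0x91021cfbd) (.node (nat_lit 0x91021cbb5) (.node (nat_lit 0x91021c9a5) (.node (nat_lit 0x910214f99) (.leaf (nat_lit 0x910214f91) (nat_lit 1796))
 (.leaf (nat_lit 0x910214f99) (nat_lit 1796))
) (.node (nat_lit 0x91021c9ad) (.leaf (nat_lit 0x91021c9a5) (nat_lit 1540))
 (.leaf (nat_lit 0x91021c9ad) (nat_lit 1796))
)) (.node (nat_lit 0x91021cda5) (.node (nat_lit 0x91021cbbd) (.leaf (nat_lit 0x91021cbb5) (nat_lit 1796))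
 (.leaf (nat_lit 0x91021cbbd) (nat_lit 1540))
) (.node (nat_lit 0x91021cdad) (.leaf (nat_lit 0x91021cda5) (nat_lit 1797))
 (.node (nat_lit 0x91021cfb5) (.leaf (nat_lit 0x91021cdad) (nat_lit 1541))
 (.leaf (nat_lit 0x91021cfb5) (nat_lit 1540))
)))) (.node (nat_lit 0x910220299) (.node (nat_lit 0x910220089) (.node (nat_lit 0x910220081) (.leaf (nat_lit 0x91021cfbd) (nat_lit 1284))
 (.leaf (nat_lit 0x910220081) (nat_lit 258))
) (.node (nat_lit 0x910220291) (.leaf (nat_lit 0x910220089) (nat_lit 514))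
 (.leaf (nat_lit 0x910220291) (nat_lit 1796))
)) (.node (nat_lit 0x910220489) (.node (nat_lit 0x910220481) (.leaf (nat_lit 0x910220299) (nat_lit 1540))
 (.leaf (nat_lit 0x910220481) (nat_lit 1029))
) (.node (nat_lit 0x910220691) (.leaf (nat_lit 0x910220489) (nat_lit 1285))
 (.node (nat_lit 0x910220699) (.leaf (nat_lit 0x910220691) (nat_lit 1540))
 (.leaf (nat_lit 0x910220699) (nat_lit 1284))
))))))) (.node (nat_lit 0x91060cde5) (.node (nat_lit 0x910238bb5) (.node (nat_lit 0x910230989) (.node (nat_lit 0x9102284a5) (.node (nat_lit 0x9102282b5) (.node (nat_lit 0x9102280ad) (.leaf (nat_lit 0x9102280a5) (nat_lit 1541))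
 (.leaf (nat_lit 0x9102280ad) (nat_lit 1285))
) (.node (nat_lit 0x9102282bd) (.leaf (nat_lit 0x9102282b5) (nat_lit 1796))
 (.leaf (nat_lit 0x9102282bd) (nat_lit 1540))
)) (.node (nat_lit 0x9102286b5) (.node (nat_lit 0x9102284ad) (.leaf (nat_lit 0x9102284a5) (nat_lit 1797))
 (.leaf (nat_lit 0x9102284ad) (nat_lit 1541))
) (.node (nat_lit 0x9102286bd) (.leaf (nat_lit 0x9102286b5) (nat_lit 1796))
 (.node (nat_lit 0x910230981) (.leaf (nat_lit 0x9102286bd) (nat_lit 1796))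
 (.leaf (nat_lit 0x910230981) (nat_lit 1541))
)))) (.node (nat_lit 0x910230d89) (.node (nat_lit 0x910230b99) (.node (nat_lit 0x910230b91) (.leaf (nat_lit 0x910230989) (nat_lit 1797))
 (.leaf (nat_lit 0x910230b91) (nat_lit 1796))
) (.node (nat_lit 0x910230d81) (.leaf (nat_lit 0x910230b99) (nat_lit 1796))
 (.leaf (nat_lit 0x910230d81) (nat_lit 771))
)) (.node (nat_lit 0x910230f99) (.node (nat_lit 0x910230f91) (.leaf (nat_lit 0x910230d89) (nat_lit 1027))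
 (.leaf (nat_lit 0x910230f91) (nat_lit 1540))
) (.node (nat_lit 0x9102389a5) (.leaf (nat_lit 0x910230f99) (nat_lit 1796))
 (.node (nat_lit 0x9102389ad) (.leaf (nat_lit 0x9102389a5) (nat_lit 1797))
 (.leaf (nat_lit 0x9102389ad) (nat_lit 1541))
))))) (.node (nat_lit 0x9106042d1) (.node (nat_lit 0x910238fb5) (.node (nat_lit 0x910238da5) (.node (nat_lit 0x910238bbd) (.leaf (nat_lit 0x910238bb5) (nat_lit 1796))
 (.leaf (nat_lit 0x910238bbd) (nat_lit 1796))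
) (.node (nat_lit 0x910238dad) (.leaf (nat_lit 0x910238da5) (nat_lit 1541))
 (.leaf (nat_lit 0x910238dad) (nat_lit 1285))
)) (.node (nat_lit 0x9106040c1) (.node (nat_lit 0x910238fbd) (.leaf (nat_lit 0x910238fb5) (nat_lit 1796))
 (.leaf (nat_lit 0x910238fbd) (nat_lit 1540))
) (.node (nat_lit 0x9106040d9) (.leaf (nat_lit 0x9106040c1) (nat_lit 1028))
 (.node (nat_lit 0x9106042c9) (.leaf (nat_lit 0x9106040d9) (nat_lit 1280))
 (.leaf (nat_lit 0x9106042c9) (nat_lit 1284))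
)))) (.node (nat_lit 0x9106046d1) (.node (nat_lit 0x9106044d9) (.node (nat_lit 0x9106044c1) (.leaf (nat_lit 0x9106042d1) (nat_lit 1536))
 (.leaf (nat_lit 0x9106044c1) (nat_lit 1284))
) (.node (nat_lit 0x9106046c9) (.leaf (nat_lit 0x9106044d9) (nat_lit 1536))
 (.leaf (nat_lit 0x9106046c9) (nat_lit 1540))
)) (.node (nat_lit 0x91060c9fd) (.node (nat_lit 0x91060c9e5) (.leaf (nat_lit 0x9106046d1) (nat_lit 1792))
 (.leaf (nat_lit 0x91060c9e5) (nat_lit 1284))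
) (.node (nat_lit 0x91060cbed) (.leaf (nat_lit 0x91060c9fd) (nat_lit 1536))
 (.node (nat_lit 0x91060cbf5) (.leaf (nat_lit 0x91060cbed) (nat_lit 1028))
 (.leaf (nat_lit 0x91060cbf5) (nat_lit 1280))
)))))) (.node (nat_lit 0x91061c6ed) (.node (nat_lit 0x910614dd9) (.node (nat_lit 0x9106149c1) (.node (nat_lit 0x91060cfed) (.node (nat_lit 0x91060cdfd) (.leaf (nat_lit 0x91060cde5) (nat_lit 1540))
 (.leaf (nat_lit 0x91060cdfd) (nat_lit 1792))
) (.node (nat_lit 0x91060cff5) (.leaf (nat_lit 0x91060cfed) (nat_lit 1284))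
 (.leaf (nat_lit 0x91060cff5) (nat_lit 1536))
)) (.node (nat_lit 0x910614bc9) (.node (nat_lit 0x9106149d9) (.leaf (nat_lit 0x9106149c1) (nat_lit 1284))
 (.leaf (nat_lit 0x9106149d9) (nat_lit 1536))
) (.node (nat_lit 0x910614bd1) (.leaf (nat_lit 0x910614bc9) (nat_lit 1540))
 (.node (nat_lit 0x910614dc1) (.leaf (nat_lit 0x910614bd1) (nat_lit 1792))
 (.leaf (nat_lit 0x910614dc1) (nat_lit 1028))
)))) (.node (nat_lit 0x91061c0fd) (.node (nat_lit 0x910614fd1) (.node (nat_lit 0x910614fc9) (.leaf (nat_lit 0x910614dd9) (nat_lit 1280))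
 (.leaf (nat_lit 0x910614fc9) (nat_lit 1284))
) (.node (nat_lit 0x91061c0e5) (.leaf (nat_lit 0x910614fd1) (nat_lit 1536))
 (.leaf (nat_lit 0x91061c0e5) (nat_lit 1541))
)) (.node (nat_lit 0x91061c2f5) (.node (nat_lit 0x91061c2ed) (.leaf (nat_lit 0x91061c0fd) (nat_lit 1285))
 (.leaf (nat_lit 0x91061c2ed) (nat_lit 1797))
) (.node (nat_lit 0x91061c4e5) (.leaf (nat_lit 0x91061c2f5) (nat_lit 1541))
 (.node (nat_lit 0x91061c4fd) (.leaf (nat_lit 0x91061c4e5) (nat_lit 1796))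
 (.leaf (nat_lit 0x91061c4fd) (nat_lit 1541))
))))) (.node (nat_lit 0x9106206d1) (.node (nat_lit 0x9106202c9) (.node (nat_lit 0x9106200c1) (.node (nat_lit 0x91061c6f5) (.leaf (nat_lit 0x91061c6ed) (nat_lit 1540))
 (.leaf (nat_lit 0x91061c6f5) (nat_lit 1797))
) (.node (nat_lit 0x9106200d9) (.leaf (nat_lit 0x9106200c1) (nat_lit 772))
 (.leaf (nat_lit 0x9106200d9) (nat_lit 1024))
)) (.node (nat_lit 0x9106204c1) (.node (nat_lit 0x9106202d1) (.leaf (nat_lit 0x9106202c9) (nat_lit 1028))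
 (.leaf (nat_lit 0x9106202d1) (nat_lit 1280))
) (.node (nat_lit 0x9106204d9) (.leaf (nat_lit 0x9106204c1) (nat_lit 1028))
 (.node (nat_lit 0x9106206c9) (.leaf (nat_lit 0x9106204d9) (nat_lit 1280))
 (.leaf (nat_lit 0x9106206c9) (nat_lit 1284))
)))) (.node (nat_lit 0x910628bf5) (.node (nat_lit 0x9106289fd) (.node (nat_lit 0x9106289e5) (.leaf (nat_lit 0x9106206d1) (nat_lit 1536))
 (.leaf (nat_lit 0x9106289e5) (nat_lit 1540))
) (.node (nat_lit 0x910628bed) (.leaf (nat_lit 0x9106289fd) (nat_lit 1792))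
 (.leaf (nat_lit 0x910628bed) (nat_lit 1284))
)) (.node (nat_lit 0x910628dfd) (.node (nat_lit 0x910628de5) (.leaf (nat_lit 0x910628bf5) (nat_lit 1536))
 (.leaf (nat_lit 0x910628de5) (nat_lit 1796))
) (.node (nat_lit 0x910628fed) (.leaf (nat_lit 0x910628dfd) (nat_lit 1541))
 (.node (nat_lit 0x910628ff5) (.leaf (nat_lit 0x910628fed) (nat_lit 1540))
 (.leaf (nat_lit 0x910628ff5) (nat_lit 1797))
)))))))) (.node (nat_lit 0x918238983) (.node (nat_lit 0x918214db7) (.node (nat_lit 0x918204293) (.node (nat_lit 0x9106380fd) (.node (nat_lit 0x910630dc1) (.node (nat_lit 0x910630bc9) (.node (nat_lit 0x9106309d9) (.leaf (nat_lit 0x9106309c1) (nat_lit 1540))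
 (.leaf (nat_lit 0x9106309d9) (nat_lit 1797))
) (.node (nat_lit 0x910630bd1) (.leaf (nat_lit 0x910630bc9) (nat_lit 1796))
 (.leaf (nat_lit 0x910630bd1) (nat_lit 1541))
)) (.node (nat_lit 0x910630fc9) (.node (nat_lit 0x910630dd9) (.leaf (nat_lit 0x910630dc1) (nat_lit 1284))
 (.leaf (nat_lit 0x910630dd9) (nat_lit 1536))
) (.node (nat_lit 0x910630fd1) (.leaf (nat_lit 0x910630fc9) (nat_lit 1540))
 (.node (nat_lit 0x9106380e5) (.leaf (nat_lit 0x910630fd1) (nat_lit 1792))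
 (.leaf (nat_lit 0x9106380e5) (nat_lit 1796))
)))) (.node (nat_lit 0x9106384fd) (.node (nat_lit 0x9106382f5) (.node (nat_lit 0x9106382ed) (.leaf (nat_lit 0x9106380fd) (nat_lit 1541))
 (.leaf (nat_lit 0x9106382ed) (nat_lit 1540))
) (.node (nat_lit 0x9106384e5) (.leaf (nat_lit 0x9106382f5) (nat_lit 1797))
 (.leaf (nat_lit 0x9106384e5) (nat_lit 1540))
)) (.node (nat_lit 0x9106386f5) (.node (nat_lit 0x9106386ed) (.leaf (nat_lit 0x9106384fd) (nat_lit 1792))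
 (.leaf (nat_lit 0x9106386ed) (nat_lit 1284))
) (.node (nat_lit 0x918204083) (.leaf (nat_lit 0x9106386f5) (nat_lit 1536))
 (.node (nat_lit 0x91820408b) (.leaf (nat_lit 0x918204083) (nat_lit 1029))
 (.leaf (nat_lit 0x91820408b) (nat_lit 1285))
))))) (.node (nat_lit 0x91820c2bf) (.node (nat_lit 0x918204683) (.node (nat_lit 0x918204493) (.node (nat_lit 0x91820429b) (.leaf (nat_lit 0x918204293) (nat_lit 1795))
 (.leaf (nat_lit 0x91820429b) (nat_lit 1539))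
) (.node (nat_lit 0x91820449b) (.leaf (nat_lit 0x918204493) (nat_lit 1540))
 (.leaf (nat_lit 0x91820449b) (nat_lit 1796))
)) (.node (nat_lit 0x91820c0a7) (.node (nat_lit 0x91820468b) (.leaf (nat_lit 0x918204683) (nat_lit 1285))
 (.leaf (nat_lit 0x91820468b) (nat_lit 1541))
) (.node (nat_lit 0x91820c0af) (.leaf (nat_lit 0x91820c0a7) (nat_lit 1285))
 (.node (nat_lit 0x91820c2b7) (.leaf (nat_lit 0x91820c0af) (nat_lit 1029))
 (.leaf (nat_lit 0x91820c2b7) (nat_lit 1539))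
)))) (.node (nat_lit 0x91820c6af) (.node (nat_lit 0x91820c4bf) (.node (nat_lit 0x91820c4b7) (.leaf (nat_lit 0x91820c2bf) (nat_lit 1795))
 (.leaf (nat_lit 0x91820c4b7) (nat_lit 1796))
) (.node (nat_lit 0x91820c6a7) (.leaf (nat_lit 0x91820c4bf) (nat_lit 1540))
 (.leaf (nat_lit 0x91820c6a7) (nat_lit 1541))
)) (.node (nat_lit 0x9182149af) (.node (nat_lit 0x9182149a7) (.leaf (nat_lit 0x91820c6af) (nat_lit 1285))
 (.leaf (nat_lit 0x9182149a7) (nat_lit 1540))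
) (.node (nat_lit 0x918214bb7) (.leaf (nat_lit 0x9182149af) (nat_lit 1796))
 (.node (nat_lit 0x918214bbf) (.leaf (nat_lit 0x918214bb7) (nat_lit 1285))
 (.leaf (nat_lit 0x918214bbf) (nat_lit 1541))
)))))) (.node (nat_lit 0x918220683) (.node (nat_lit 0x91821cd9b) (.node (nat_lit 0x91821c983) (.node (nat_lit 0x918214fa7) (.node (nat_lit 0x918214dbf) (.leaf (nat_lit 0x918214db7) (nat_lit 1029))
 (.leaf (nat_lit 0x918214dbf) (nat_lit 1285))
) (.node (nat_lit 0x918214faf) (.leaf (nat_lit 0x918214fa7) (nat_lit 1795))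
 (.leaf (nat_lit 0x918214faf) (nat_lit 1539))
)) (.node (nat_lit 0x91821cb93) (.node (nat_lit 0x91821c98b) (.leaf (nat_lit 0x91821c983) (nat_lit 1283))
 (.leaf (nat_lit 0x91821c98b) (nat_lit 1539))
) (.node (nat_lit 0x91821cb9b) (.leaf (nat_lit 0x91821cb93) (nat_lit 1539))
 (.node (nat_lit 0x91821cd93) (.leaf (nat_lit 0x91821cb9b) (nat_lit 1795))
 (.leaf (nat_lit 0x91821cd93) (nat_lit 1797))
)))) (.node (nat_lit 0x91822008b) (.node (nat_lit 0x91821cf8b) (.node (nat_lit 0x91821cf83) (.leaf (nat_lit 0x91821cd9b) (nat_lit 1541))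
 (.leaf (nat_lit 0x91821cf83) (nat_lit 1027))
) (.node (nat_lit 0x918220083) (.leaf (nat_lit 0x91821cf8b) (nat_lit 1283))
 (.leaf (nat_lit 0x918220083) (nat_lit 773))
)) (.node (nat_lit 0x91822029b) (.node (nat_lit 0x918220293) (.leaf (nat_lit 0x91822008b) (nat_lit 1029))
 (.leaf (nat_lit 0x918220293) (nat_lit 1540))
) (.node (nat_lit 0x918220493) (.leaf (nat_lit 0x91822029b) (nat_lit 1796))
 (.node (nat_lit 0x91822049b) (.leaf (nat_lit 0x918220493) (nat_lit 1284))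
 (.leaf (nat_lit 0x91822049b) (nat_lit 1540))
))))) (.node (nat_lit 0x9182286af) (.node (nat_lit 0x9182282b7) (.node (nat_lit 0x9182280a7) (.node (nat_lit 0x91822068b) (.leaf (nat_lit 0x918220683) (nat_lit 1029))
 (.leaf (nat_lit 0x91822068b) (nat_lit 1285))
) (.node (nat_lit 0x9182280af) (.leaf (nat_lit 0x9182280a7) (nat_lit 1541))
 (.leaf (nat_lit 0x9182280af) (nat_lit 1285))
)) (.node (nat_lit 0x9182284b7) (.node (nat_lit 0x9182282bf) (.leaf (nat_lit 0x9182282b7) (nat_lit 1283))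
 (.leaf (nat_lit 0x9182282bf) (nat_lit 1539))
) (.node (nat_lit 0x9182284bf) (.leaf (nat_lit 0x9182284b7) (nat_lit 1539))
 (.node (nat_lit 0x9182286a7) (.leaf (nat_lit 0x9182284bf) (nat_lit 1795))
 (.leaf (nat_lit 0x9182286a7) (nat_lit 1797))
)))) (.node (nat_lit 0x918230bbf) (.node (nat_lit 0x9182309af) (.node (nat_lit 0x9182309a7) (.leaf (nat_lit 0x9182286af) (nat_lit 1541))
 (.leaf (nat_lit 0x9182309a7) (nat_lit 1795))
) (.node (nat_lit 0x918230bb7) (.leaf (nat_lit 0x9182309af) (nat_lit 1539))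
 (.leaf (nat_lit 0x918230bb7) (nat_lit 1541))
)) (.node (nat_lit 0x918230dbf) (.node (nat_lit 0x918230db7) (.leaf (nat_lit 0x918230bbf) (nat_lit 1797))
 (.leaf (nat_lit 0x918230db7) (nat_lit 1285))
) (.node (nat_lit 0x918230fa7) (.leaf (nat_lit 0x918230dbf) (nat_lit 1541))
 (.node (nat_lit 0x918230faf) (.leaf (nat_lit 0x918230fa7) (nat_lit 1539))
 (.leaf (nat_lit 0x918230faf) (nat_lit 1283))
))))))) (.node (nat_lit 0x91841cd4b) (.node (nat_lit 0x91840cb6f) (.node (nat_lit 0x918404053) (.node (nat_lit 0x918238d93) (.node (nat_lit 0x918238b93) (.node (nat_lit 0x91823898b) (.leaf (nat_lit 0x918238983) (nat_lit 1539))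
 (.leaf (nat_lit 0x91823898b) (nat_lit 1795))
) (.node (nat_lit 0x918238b9b) (.leaf (nat_lit 0x918238b93) (nat_lit 1797))
 (.leaf (nat_lit 0x918238b9b) (nat_lit 1541))
)) (.node (nat_lit 0x918238f83) (.node (nat_lit 0x918238d9b) (.leaf (nat_lit 0x918238d93) (nat_lit 1541))
 (.leaf (nat_lit 0x918238d9b) (nat_lit 1285))
) (.node (nat_lit 0x918238f8b) (.leaf (nat_lit 0x918238f83) (nat_lit 1283))
 (.node (nat_lit 0x918404043) (.leaf (nat_lit 0x918238f8b) (nat_lit 1539))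
 (.leaf (nat_lit 0x918404043) (nat_lit 1028))
)))) (.node (nat_lit 0x91840445b) (.node (nat_lit 0x91840425b) (.node (nat_lit 0x91840424b) (.leaf (nat_lit 0x918404053) (nat_lit 1280))
 (.leaf (nat_lit 0x91840424b) (nat_lit 1284))
) (.node (nat_lit 0x91840444b) (.leaf (nat_lit 0x91840425b) (nat_lit 1536))
 (.leaf (nat_lit 0x91840444b) (nat_lit 1540))
)) (.node (nat_lit 0x918404653) (.node (nat_lit 0x918404643) (.leaf (nat_lit 0x91840445b) (nat_lit 1539))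
 (.leaf (nat_lit 0x918404643) (nat_lit 1284))
) (.node (nat_lit 0x91840c967) (.leaf (nat_lit 0x918404653) (nat_lit 1536))
 (.node (nat_lit 0x91840c977) (.leaf (nat_lit 0x91840c967) (nat_lit 1284))
 (.leaf (nat_lit 0x91840c977) (nat_lit 1536))
))))) (.node (nat_lit 0x91841427f) (.node (nat_lit 0x91840cf67) (.node (nat_lit 0x91840cd6f) (.node (nat_lit 0x91840cb7f) (.leaf (nat_lit 0x91840cb6f) (nat_lit 1028))
 (.leaf (nat_lit 0x91840cb7f) (nat_lit 1280))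
) (.node (nat_lit 0x91840cd7f) (.leaf (nat_lit 0x91840cd6f) (nat_lit 1284))
 (.leaf (nat_lit 0x91840cd7f) (nat_lit 1536))
)) (.node (nat_lit 0x918414067) (.node (nat_lit 0x91840cf77) (.leaf (nat_lit 0x91840cf67) (nat_lit 1540))
 (.leaf (nat_lit 0x91840cf77) (nat_lit 1539))
) (.node (nat_lit 0x918414077) (.leaf (nat_lit 0x918414067) (nat_lit 1280))
 (.node (nat_lit 0x91841426f) (.leaf (nat_lit 0x918414077) (nat_lit 1028))
 (.leaf (nat_lit 0x91841426f) (nat_lit 1536))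
)))) (.node (nat_lit 0x918414677) (.node (nat_lit 0x91841447f) (.node (nat_lit 0x91841446f) (.leaf (nat_lit 0x91841427f) (nat_lit 1284))
 (.leaf (nat_lit 0x91841446f) (nat_lit 1539))
) (.node (nat_lit 0x918414667) (.leaf (nat_lit 0x91841447f) (nat_lit 1540))
 (.leaf (nat_lit 0x918414667) (nat_lit 1536))
)) (.node (nat_lit 0x91841c953) (.node (nat_lit 0x91841c943) (.leaf (nat_lit 0x918414677) (nat_lit 1284))
 (.leaf (nat_lit 0x91841c943) (nat_lit 1283))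
) (.node (nat_lit 0x91841cb4b) (.leaf (nat_lit 0x91841c953) (nat_lit 1539))
 (.node (nat_lit 0x91841cb5b) (.leaf (nat_lit 0x91841cb4b) (nat_lit 1539))
 (.leaf (nat_lit 0x91841cb5b) (nat_lit 1540))
)))))) (.node (nat_lit 0x918428f67) (.node (nat_lit 0x91842045b) (.node (nat_lit 0x918420043) (.node (nat_lit 0x91841cf43) (.node (nat_lit 0x91841cd5b) (.leaf (nat_lit 0x91841cd4b) (nat_lit 1283))
 (.leaf (nat_lit 0x91841cd5b) (nat_lit 1539))
) (.node (nat_lit 0x91841cf53) (.leaf (nat_lit 0x91841cf43) (nat_lit 1027))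
 (.leaf (nat_lit 0x91841cf53) (nat_lit 1283))
)) (.node (nat_lit 0x91842024b) (.node (nat_lit 0x918420053) (.leaf (nat_lit 0x918420043) (nat_lit 772))
 (.leaf (nat_lit 0x918420053) (nat_lit 1024))
) (.node (nat_lit 0x91842025b) (.leaf (nat_lit 0x91842024b) (nat_lit 1028))
 (.node (nat_lit 0x91842044b) (.leaf (nat_lit 0x91842025b) (nat_lit 1280))
 (.leaf (nat_lit 0x91842044b) (nat_lit 1284))
)))) (.node (nat_lit 0x918428977) (.node (nat_lit 0x918420653) (.node (nat_lit 0x918420643) (.leaf (nat_lit 0x91842045b) (nat_lit 1536))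
 (.leaf (nat_lit 0x918420643) (nat_lit 1028))
) (.node (nat_lit 0x918428967) (.leaf (nat_lit 0x918420653) (nat_lit 1280))
 (.leaf (nat_lit 0x918428967) (nat_lit 1540))
)) (.node (nat_lit 0x918428b7f) (.node (nat_lit 0x918428b6f) (.leaf (nat_lit 0x918428977) (nat_lit 1539))
 (.leaf (nat_lit 0x918428b6f) (nat_lit 1284))
) (.node (nat_lit 0x918428d6f) (.leaf (nat_lit 0x918428b7f) (nat_lit 1536))
 (.node (nat_lit 0x918428d7f) (.leaf (nat_lit 0x918428d6f) (nat_lit 1540))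
 (.leaf (nat_lit 0x918428d7f) (nat_lit 1539))
))))) (.node (nat_lit 0x918430677) (.node (nat_lit 0x91843026f) (.node (nat_lit 0x918430067) (.node (nat_lit 0x918428f77) (.leaf (nat_lit 0x918428f67) (nat_lit 1539))
 (.leaf (nat_lit 0x918428f77) (nat_lit 1283))
) (.node (nat_lit 0x918430077) (.leaf (nat_lit 0x918430067) (nat_lit 1536))
 (.leaf (nat_lit 0x918430077) (nat_lit 1284))
)) (.node (nat_lit 0x91843046f) (.node (nat_lit 0x91843027f) (.leaf (nat_lit 0x91843026f) (nat_lit 1539))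
 (.leaf (nat_lit 0x91843027f) (nat_lit 1540))
) (.node (nat_lit 0x91843047f) (.leaf (nat_lit 0x91843046f) (nat_lit 1283))
 (.node (nat_lit 0x918430667) (.leaf (nat_lit 0x91843047f) (nat_lit 1539))
 (.leaf (nat_lit 0x918430667) (nat_lit 1539))
)))) (.node (nat_lit 0x918438b5b) (.node (nat_lit 0x918438953) (.node (nat_lit 0x918438943) (.leaf (nat_lit 0x918430677) (nat_lit 1540))
 (.leaf (nat_lit 0x918438943) (nat_lit 1539))
) (.node (nat_lit 0x918438b4b) (.leaf (nat_lit 0x918438953) (nat_lit 1540))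
 (.leaf (nat_lit 0x918438b4b) (nat_lit 1536))
)) (.node (nat_lit 0x918438d5b) (.node (nat_lit 0x918438d4b) (.leaf (nat_lit 0x918438b5b) (nat_lit 1284))
 (.leaf (nat_lit 0x918438d4b) (nat_lit 1539))
) (.node (nat_lit 0x918438f43) (.leaf (nat_lit 0x918438d5b) (nat_lit 1540))
 (.node (nat_lit 0x918438f53) (.leaf (nat_lit 0x918438f43) (nat_lit 1283))
 (.leaf (nat_lit 0x918438f53) (nat_lit 1539))
)))))))))))) (.node (nat_lit 0xd08404046) (.node (nat_lit 0xb106041c5) (.node (nat_lit 0xa182240a7) (.node (nat_lit 0xa10214895) (.node (nat_lit 0xa0860c9c2) (.node (nat_lit 0xa08424d4a) (.node (nat_lit 0xa0841436a) (.node (nat_lit 0xa0840c952) (.node (nat_lit 0xa0840454a) (.node (nat_lit 0xa08404342) (.node (nat_lit 0xa08404152) (.leaf (nat_lit 0xa08404142) (nat_lit 1538))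
 (.leaf (nat_lit 0xa08404152) (nat_lit 1794))
) (.node (nat_lit 0xa08404352) (.leaf (nat_lit 0xa08404342) (nat_lit 1282))
 (.leaf (nat_lit 0xa08404352) (nat_lit 1538))
)) (.node (nat_lit 0xa0840474a) (.node (nat_lit 0xa0840455a) (.leaf (nat_lit 0xa0840454a) (nat_lit 2308))
 (.leaf (nat_lit 0xa0840455a) (nat_lit 2052))
) (.node (nat_lit 0xa0840475a) (.leaf (nat_lit 0xa0840474a) (nat_lit 2052))
 (.node (nat_lit 0xa0840c942) (.leaf (nat_lit 0xa0840475a) (nat_lit 2308))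
 (.leaf (nat_lit 0xa0840c942) (nat_lit 1537))
)))) (.node (nat_lit 0xa0840cd5a) (.node (nat_lit 0xa0840cb52) (.node (nat_lit 0xa0840cb42) (.leaf (nat_lit 0xa0840c952) (nat_lit 1793))
 (.leaf (nat_lit 0xa0840cb42) (nat_lit 1281))
) (.node (nat_lit 0xa0840cd4a) (.leaf (nat_lit 0xa0840cb52) (nat_lit 1537))
 (.leaf (nat_lit 0xa0840cd4a) (nat_lit 2308))
)) (.node (nat_lit 0xa0840cf5a) (.node (nat_lit 0xa0840cf4a) (.leaf (nat_lit 0xa0840cd5a) (nat_lit 2052))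
 (.leaf (nat_lit 0xa0840cf4a) (nat_lit 2052))
) (.node (nat_lit 0xa0841416a) (.leaf (nat_lit 0xa0840cf5a) (nat_lit 2308))
 (.node (nat_lit 0xa0841417a) (.leaf (nat_lit 0xa0841416a) (nat_lit 2052))
 (.leaf (nat_lit 0xa0841417a) (nat_lit 2304))
))))) (.node (nat_lit 0xa0841cb7a) (.node (nat_lit 0xa08414762) (.node (nat_lit 0xa08414562) (.node (nat_lit 0xa0841437a) (.leaf (nat_lit 0xa0841436a) (nat_lit 2308))
 (.leaf (nat_lit 0xa0841437a) (nat_lit 2309))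
) (.node (nat_lit 0xa08414572) (.leaf (nat_lit 0xa08414562) (nat_lit 1794))
 (.leaf (nat_lit 0xa08414572) (nat_lit 1538))
)) (.node (nat_lit 0xa0841c96a) (.node (nat_lit 0xa08414772) (.leaf (nat_lit 0xa08414762) (nat_lit 1538))
 (.leaf (nat_lit 0xa08414772) (nat_lit 1282))
) (.node (nat_lit 0xa0841c97a) (.leaf (nat_lit 0xa0841c96a) (nat_lit 2309))
 (.node (nat_lit 0xa0841cb6a) (.leaf (nat_lit 0xa0841c97a) (nat_lit 2053))
 (.leaf (nat_lit 0xa0841cb6a) (nat_lit 2053))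
)))) (.node (nat_lit 0xa0841cf72) (.node (nat_lit 0xa0841cd72) (.node (nat_lit 0xa0841cd62) (.leaf (nat_lit 0xa0841cb7a) (nat_lit 1797))
 (.leaf (nat_lit 0xa0841cd62) (nat_lit 2050))
) (.node (nat_lit 0xa0841cf62) (.leaf (nat_lit 0xa0841cd72) (nat_lit 2049))
 (.leaf (nat_lit 0xa0841cf62) (nat_lit 2049))
)) (.node (nat_lit 0xa08424952) (.node (nat_lit 0xa08424942) (.leaf (nat_lit 0xa0841cf72) (nat_lit 1793))
 (.leaf (nat_lit 0xa08424942) (nat_lit 1282))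
) (.node (nat_lit 0xa08424b42) (.leaf (nat_lit 0xa08424952) (nat_lit 1538))
 (.node (nat_lit 0xa08424b52) (.leaf (nat_lit 0xa08424b42) (nat_lit 1026))
 (.leaf (nat_lit 0xa08424b52) (nat_lit 1282))
)))))) (.node (nat_lit 0xa08434f62) (.node (nat_lit 0xa0842c55a) (.node (nat_lit 0xa0842c142) (.node (nat_lit 0xa08424f4a) (.node (nat_lit 0xa08424d5a) (.leaf (nat_lit 0xa08424d4a) (nat_lit 2048))
 (.leaf (nat_lit 0xa08424d5a) (nat_lit 1796))
) (.node (nat_lit 0xa08424f5a) (.leaf (nat_lit 0xa08424f4a) (nat_lit 2052))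
 (.leaf (nat_lit 0xa08424f5a) (nat_lit 2052))
)) (.node (nat_lit 0xa0842c342) (.node (nat_lit 0xa0842c152) (.leaf (nat_lit 0xa0842c142) (nat_lit 1793))
 (.leaf (nat_lit 0xa0842c152) (nat_lit 2049))
) (.node (nat_lit 0xa0842c352) (.leaf (nat_lit 0xa0842c342) (nat_lit 1537))
 (.node (nat_lit 0xa0842c54a) (.leaf (nat_lit 0xa0842c352) (nat_lit 1793))
 (.leaf (nat_lit 0xa0842c54a) (nat_lit 2309))
)))) (.node (nat_lit 0xa0843497a) (.node (nat_lit 0xa0842c75a) (.node (nat_lit 0xa0842c74a) (.leaf (nat_lit 0xa0842c55a) (nat_lit 2308))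
 (.leaf (nat_lit 0xa0842c74a) (nat_lit 2053))
) (.node (nat_lit 0xa0843496a) (.leaf (nat_lit 0xa0842c75a) (nat_lit 2309))
 (.leaf (nat_lit 0xa0843496a) (nat_lit 2308))
)) (.node (nat_lit 0xa08434b7a) (.node (nat_lit 0xa08434b6a) (.leaf (nat_lit 0xa0843497a) (nat_lit 2309))
 (.leaf (nat_lit 0xa08434b6a) (nat_lit 2309))
) (.node (nat_lit 0xa08434d62) (.leaf (nat_lit 0xa08434b7a) (nat_lit 2053))
 (.node (nat_lit 0xa08434d72) (.leaf (nat_lit 0xa08434d62) (nat_lit 2050))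
 (.leaf (nat_lit 0xa08434d72) (nat_lit 1794))
))))) (.node (nat_lit 0xa0843c772) (.node (nat_lit 0xa0843c36a) (.node (nat_lit 0xa0843c16a) (.node (nat_lit 0xa08434f72) (.leaf (nat_lit 0xa08434f62) (nat_lit 1794))
 (.leaf (nat_lit 0xa08434f72) (nat_lit 1538))
) (.node (nat_lit 0xa0843c17a) (.leaf (nat_lit 0xa0843c16a) (nat_lit 2308))
 (.leaf (nat_lit 0xa0843c17a) (nat_lit 2309))
)) (.node (nat_lit 0xa0843c562) (.node (nat_lit 0xa0843c37a) (.leaf (nat_lit 0xa0843c36a) (nat_lit 2309))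
 (.leaf (nat_lit 0xa0843c37a) (nat_lit 2053))
) (.node (nat_lit 0xa0843c572) (.leaf (nat_lit 0xa0843c562) (nat_lit 2049))
 (.node (nat_lit 0xa0843c762) (.leaf (nat_lit 0xa0843c572) (nat_lit 1793))
 (.leaf (nat_lit 0xa0843c762) (nat_lit 1793))
)))) (.node (nat_lit 0xa086043da) (.node (nat_lit 0xa086041da) (.node (nat_lit 0xa086041c2) (.leaf (nat_lit 0xa0843c772) (nat_lit 1537))
 (.leaf (nat_lit 0xa086041c2) (nat_lit 1538))
) (.node (nat_lit 0xa086043c2) (.leaf (nat_lit 0xa086041da) (nat_lit 1794))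
 (.leaf (nat_lit 0xa086043c2) (nat_lit 1282))
)) (.node (nat_lit 0xa086045d2) (.node (nat_lit 0xa086045ca) (.leaf (nat_lit 0xa086043da) (nat_lit 1538))
 (.leaf (nat_lit 0xa086045ca) (nat_lit 2053))
) (.node (nat_lit 0xa086047ca) (.leaf (nat_lit 0xa086045d2) (nat_lit 2308))
 (.node (nat_lit 0xa086047d2) (.leaf (nat_lit 0xa086047ca) (nat_lit 2309))
 (.leaf (nat_lit 0xa086047d2) (nat_lit 2052))
))))))) (.node (nat_lit 0xa0862c5ca) (.node (nat_lit 0xa0861c3ea) (.node (nat_lit 0xa086149f2) (.node (nat_lit 0xa0860cdca) (.node (nat_lit 0xa0860cbc2) (.node (nat_lit 0xa0860c9da) (.leaf (nat_lit 0xa0860c9c2) (nat_lit 1537))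
 (.leaf (nat_lit 0xa0860c9da) (nat_lit 1793))
) (.node (nat_lit 0xa0860cbda) (.leaf (nat_lit 0xa0860cbc2) (nat_lit 1281))
 (.leaf (nat_lit 0xa0860cbda) (nat_lit 1537))
)) (.node (nat_lit 0xa0860cfca) (.node (nat_lit 0xa0860cdd2) (.leaf (nat_lit 0xa0860cdca) (nat_lit 2053))
 (.leaf (nat_lit 0xa0860cdd2) (nat_lit 2308))
) (.node (nat_lit 0xa0860cfd2) (.leaf (nat_lit 0xa0860cfca) (nat_lit 2309))
 (.node (nat_lit 0xa086149ea) (.leaf (nat_lit 0xa0860cfd2) (nat_lit 2052))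
 (.leaf (nat_lit 0xa086149ea) (nat_lit 1794))
)))) (.node (nat_lit 0xa08614dfa) (.node (nat_lit 0xa08614bf2) (.node (nat_lit 0xa08614bea) (.leaf (nat_lit 0xa086149f2) (nat_lit 1538))
 (.leaf (nat_lit 0xa08614bea) (nat_lit 1538))
) (.node (nat_lit 0xa08614de2) (.leaf (nat_lit 0xa08614bf2) (nat_lit 1282))
 (.leaf (nat_lit 0xa08614de2) (nat_lit 2308))
)) (.node (nat_lit 0xa08614ffa) (.node (nat_lit 0xa08614fe2) (.leaf (nat_lit 0xa08614dfa) (nat_lit 2308))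
 (.leaf (nat_lit 0xa08614fe2) (nat_lit 2052))
) (.node (nat_lit 0xa0861c1ea) (.leaf (nat_lit 0xa08614ffa) (nat_lit 2304))
 (.node (nat_lit 0xa0861c1f2) (.leaf (nat_lit 0xa0861c1ea) (nat_lit 2052))
 (.leaf (nat_lit 0xa0861c1f2) (nat_lit 2049))
))))) (.node (nat_lit 0xa08624bda) (.node (nat_lit 0xa0861c7e2) (.node (nat_lit 0xa0861c5e2) (.node (nat_lit 0xa0861c3f2) (.leaf (nat_lit 0xa0861c3ea) (nat_lit 2049))
 (.leaf (nat_lit 0xa0861c3f2) (nat_lit 1793))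
) (.node (nat_lit 0xa0861c5fa) (.leaf (nat_lit 0xa0861c5e2) (nat_lit 2048))
 (.leaf (nat_lit 0xa0861c5fa) (nat_lit 1796))
)) (.node (nat_lit 0xa086249c2) (.node (nat_lit 0xa0861c7fa) (.leaf (nat_lit 0xa0861c7e2) (nat_lit 2304))
 (.leaf (nat_lit 0xa0861c7fa) (nat_lit 2052))
) (.node (nat_lit 0xa086249da) (.leaf (nat_lit 0xa086249c2) (nat_lit 1282))
 (.node (nat_lit 0xa08624bc2) (.leaf (nat_lit 0xa086249da) (nat_lit 1538))
 (.leaf (nat_lit 0xa08624bc2) (nat_lit 1026))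
)))) (.node (nat_lit 0xa08624fd2) (.node (nat_lit 0xa08624dd2) (.node (nat_lit 0xa08624dca) (.leaf (nat_lit 0xa08624bda) (nat_lit 1282))
 (.leaf (nat_lit 0xa08624dca) (nat_lit 2053))
) (.node (nat_lit 0xa08624fca) (.leaf (nat_lit 0xa08624dd2) (nat_lit 2052))
 (.leaf (nat_lit 0xa08624fca) (nat_lit 2048))
)) (.node (nat_lit 0xa0862c1da) (.node (nat_lit 0xa0862c1c2) (.leaf (nat_lit 0xa08624fd2) (nat_lit 1796))
 (.leaf (nat_lit 0xa0862c1c2) (nat_lit 1793))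
) (.node (nat_lit 0xa0862c3c2) (.leaf (nat_lit 0xa0862c1da) (nat_lit 2049))
 (.node (nat_lit 0xa0862c3da) (.leaf (nat_lit 0xa0862c3c2) (nat_lit 1537))
 (.leaf (nat_lit 0xa0862c3da) (nat_lit 1793))
)))))) (.node (nat_lit 0xa0863cfe2) (.node (nat_lit 0xa086345fa) (.node (nat_lit 0xa086341ea) (.node (nat_lit 0xa0862c7ca) (.node (nat_lit 0xa0862c5d2) (.leaf (nat_lit 0xa0862c5ca) (nat_lit 2052))
 (.leaf (nat_lit 0xa0862c5d2) (nat_lit 2304))
) (.node (nat_lit 0xa0862c7d2) (.leaf (nat_lit 0xa0862c7ca) (nat_lit 2308))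
 (.leaf (nat_lit 0xa0862c7d2) (nat_lit 2308))
)) (.node (nat_lit 0xa086343ea) (.node (nat_lit 0xa086341f2) (.leaf (nat_lit 0xa086341ea) (nat_lit 2050))
 (.leaf (nat_lit 0xa086341f2) (nat_lit 1794))
) (.node (nat_lit 0xa086343f2) (.leaf (nat_lit 0xa086343ea) (nat_lit 1794))
 (.node (nat_lit 0xa086345e2) (.leaf (nat_lit 0xa086343f2) (nat_lit 1538))
 (.leaf (nat_lit 0xa086345e2) (nat_lit 2304))
)))) (.node (nat_lit 0xa0863c9f2) (.node (nat_lit 0xa086347fa) (.node (nat_lit 0xa086347e2) (.leaf (nat_lit 0xa086345fa) (nat_lit 2052))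
 (.leaf (nat_lit 0xa086347e2) (nat_lit 2308))
) (.node (nat_lit 0xa0863c9ea) (.leaf (nat_lit 0xa086347fa) (nat_lit 2308))
 (.leaf (nat_lit 0xa0863c9ea) (nat_lit 2049))
)) (.node (nat_lit 0xa0863cbf2) (.node (nat_lit 0xa0863cbea) (.leaf (nat_lit 0xa0863c9f2) (nat_lit 1793))
 (.leaf (nat_lit 0xa0863cbea) (nat_lit 1793))
) (.node (nat_lit 0xa0863cde2) (.leaf (nat_lit 0xa0863cbf2) (nat_lit 1537))
 (.node (nat_lit 0xa0863cdfa) (.leaf (nat_lit 0xa0863cde2) (nat_lit 2304))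
 (.leaf (nat_lit 0xa0863cdfa) (nat_lit 2052))
))))) (.node (nat_lit 0xa1020469d) (.node (nat_lit 0xa10204295) (.node (nat_lit 0xa10204085) (.node (nat_lit 0xa0863cffa) (.leaf (nat_lit 0xa0863cfe2) (nat_lit 2308))
 (.leaf (nat_lit 0xa0863cffa) (nat_lit 2308))
) (.node (nat_lit 0xa1020408d) (.leaf (nat_lit 0xa10204085) (nat_lit 1797))
 (.leaf (nat_lit 0xa1020408d) (nat_lit 1541))
)) (.node (nat_lit 0xa10204485) (.node (nat_lit 0xa1020429d) (.leaf (nat_lit 0xa10204295) (nat_lit 2308))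
 (.leaf (nat_lit 0xa1020429d) (nat_lit 2052))
) (.node (nat_lit 0xa1020448d) (.leaf (nat_lit 0xa10204485) (nat_lit 2053))
 (.node (nat_lit 0xa10204695) (.leaf (nat_lit 0xa1020448d) (nat_lit 1797))
 (.leaf (nat_lit 0xa10204695) (nat_lit 2052))
)))) (.node (nat_lit 0xa1020c2bd) (.node (nat_lit 0xa1020c0ad) (.node (nat_lit 0xa1020c0a5) (.leaf (nat_lit 0xa1020469d) (nat_lit 2308))
 (.leaf (nat_lit 0xa1020c0a5) (nat_lit 1797))
) (.node (nat_lit 0xa1020c2b5) (.leaf (nat_lit 0xa1020c0ad) (nat_lit 1541))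
 (.leaf (nat_lit 0xa1020c2b5) (nat_lit 2307))
)) (.node (nat_lit 0xa1020c4ad) (.node (nat_lit 0xa1020c4a5) (.leaf (nat_lit 0xa1020c2bd) (nat_lit 2051))
 (.leaf (nat_lit 0xa1020c4a5) (nat_lit 2053))
) (.node (nat_lit 0xa1020c6b5) (.leaf (nat_lit 0xa1020c4ad) (nat_lit 1797))
 (.node (nat_lit 0xa1020c6bd) (.leaf (nat_lit 0xa1020c6b5) (nat_lit 2052))
 (.leaf (nat_lit 0xa1020c6bd) (nat_lit 2308))
)))))))) (.node (nat_lit 0xa1061c1ed) (.node (nat_lit 0xa10234cb5) (.node (nat_lit 0xa102242b5) (.node (nat_lit 0xa1021c8bd) (.node (nat_lit 0xa10214c95) (.node (nat_lit 0xa10214a85) (.node (nat_lit 0xa1021489d) (.leaf (nat_lit 0xa10214895) (nat_lit 2053))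
 (.leaf (nat_lit 0xa1021489d) (nat_lit 1797))
) (.node (nat_lit 0xa10214a8d) (.leaf (nat_lit 0xa10214a85) (nat_lit 2052))
 (.leaf (nat_lit 0xa10214a8d) (nat_lit 2308))
)) (.node (nat_lit 0xa10214e85) (.node (nat_lit 0xa10214c9d) (.leaf (nat_lit 0xa10214c95) (nat_lit 1797))
 (.leaf (nat_lit 0xa10214c9d) (nat_lit 1541))
) (.node (nat_lit 0xa10214e8d) (.leaf (nat_lit 0xa10214e85) (nat_lit 2307))
 (.node (nat_lit 0xa1021c8b5) (.leaf (nat_lit 0xa10214e8d) (nat_lit 2051))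
 (.leaf (nat_lit 0xa1021c8b5) (nat_lit 2051))
)))) (.node (nat_lit 0xa1021ccbd) (.node (nat_lit 0xa1021caad) (.node (nat_lit 0xa1021caa5) (.leaf (nat_lit 0xa1021c8bd) (nat_lit 2307))
 (.leaf (nat_lit 0xa1021caa5) (nat_lit 2051))
) (.node (nat_lit 0xa1021ccb5) (.leaf (nat_lit 0xa1021caad) (nat_lit 1795))
 (.leaf (nat_lit 0xa1021ccb5) (nat_lit 2309))
)) (.node (nat_lit 0xa1021cead) (.node (nat_lit 0xa1021cea5) (.leaf (nat_lit 0xa1021ccbd) (nat_lit 2053))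
 (.leaf (nat_lit 0xa1021cea5) (nat_lit 1795))
) (.node (nat_lit 0xa102240a5) (.leaf (nat_lit 0xa1021cead) (nat_lit 1539))
 (.node (nat_lit 0xa102240ad) (.leaf (nat_lit 0xa102240a5) (nat_lit 1541))
 (.leaf (nat_lit 0xa102240ad) (nat_lit 1285))
))))) (.node (nat_lit 0xa1022c29d) (.node (nat_lit 0xa102246b5) (.node (nat_lit 0xa102244a5) (.node (nat_lit 0xa102242bd) (.leaf (nat_lit 0xa102242b5) (nat_lit 2052))
 (.leaf (nat_lit 0xa102242bd) (nat_lit 2052))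
) (.node (nat_lit 0xa102244ad) (.leaf (nat_lit 0xa102244a5) (nat_lit 1797))
 (.leaf (nat_lit 0xa102244ad) (nat_lit 1541))
)) (.node (nat_lit 0xa1022c085) (.node (nat_lit 0xa102246bd) (.leaf (nat_lit 0xa102246b5) (nat_lit 1796))
 (.leaf (nat_lit 0xa102246bd) (nat_lit 2052))
) (.node (nat_lit 0xa1022c08d) (.leaf (nat_lit 0xa1022c085) (nat_lit 2053))
 (.node (nat_lit 0xa1022c295) (.leaf (nat_lit 0xa1022c08d) (nat_lit 1797))
 (.leaf (nat_lit 0xa1022c295) (nat_lit 2051))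
)))) (.node (nat_lit 0xa1022c69d) (.node (nat_lit 0xa1022c48d) (.node (nat_lit 0xa1022c485) (.leaf (nat_lit 0xa1022c29d) (nat_lit 1795))
 (.leaf (nat_lit 0xa1022c485) (nat_lit 2309))
) (.node (nat_lit 0xa1022c695) (.leaf (nat_lit 0xa1022c48d) (nat_lit 2053))
 (.leaf (nat_lit 0xa1022c695) (nat_lit 2307))
)) (.node (nat_lit 0xa102348bd) (.node (nat_lit 0xa102348b5) (.leaf (nat_lit 0xa1022c69d) (nat_lit 2051))
 (.leaf (nat_lit 0xa102348b5) (nat_lit 2309))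
) (.node (nat_lit 0xa10234aa5) (.leaf (nat_lit 0xa102348bd) (nat_lit 2053))
 (.node (nat_lit 0xa10234aad) (.leaf (nat_lit 0xa10234aa5) (nat_lit 2307))
 (.leaf (nat_lit 0xa10234aad) (nat_lit 2051))
)))))) (.node (nat_lit 0xa106047cd) (.node (nat_lit 0xa1023cc9d) (.node (nat_lit 0xa1023c895) (.node (nat_lit 0xa10234ea5) (.node (nat_lit 0xa10234cbd) (.leaf (nat_lit 0xa10234cb5) (nat_lit 2053))
 (.leaf (nat_lit 0xa10234cbd) (nat_lit 1797))
) (.node (nat_lit 0xa10234ead) (.leaf (nat_lit 0xa10234ea5) (nat_lit 2051))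
 (.leaf (nat_lit 0xa10234ead) (nat_lit 1795))
)) (.node (nat_lit 0xa1023ca85) (.node (nat_lit 0xa1023c89d) (.leaf (nat_lit 0xa1023c895) (nat_lit 2309))
 (.leaf (nat_lit 0xa1023c89d) (nat_lit 2053))
) (.node (nat_lit 0xa1023ca8d) (.leaf (nat_lit 0xa1023ca85) (nat_lit 2307))
 (.node (nat_lit 0xa1023cc95) (.leaf (nat_lit 0xa1023ca8d) (nat_lit 2051))
 (.leaf (nat_lit 0xa1023cc95) (nat_lit 2053))
)))) (.node (nat_lit 0xa106041dd) (.node (nat_lit 0xa1023ce8d) (.node (nat_lit 0xa1023ce85) (.leaf (nat_lit 0xa1023cc9d) (nat_lit 1797))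
 (.leaf (nat_lit 0xa1023ce85) (nat_lit 2051))
) (.node (nat_lit 0xa106041c5) (.leaf (nat_lit 0xa1023ce8d) (nat_lit 1795))
 (.leaf (nat_lit 0xa106041c5) (nat_lit 1796))
)) (.node (nat_lit 0xa106043d5) (.node (nat_lit 0xa106043cd) (.leaf (nat_lit 0xa106041dd) (nat_lit 2048))
 (.leaf (nat_lit 0xa106043cd) (nat_lit 1540))
) (.node (nat_lit 0xa106045c5) (.leaf (nat_lit 0xa106043d5) (nat_lit 1792))
 (.node (nat_lit 0xa106045dd) (.leaf (nat_lit 0xa106045c5) (nat_lit 2052))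
 (.leaf (nat_lit 0xa106045dd) (nat_lit 2053))
))))) (.node (nat_lit 0xa1060cff5) (.node (nat_lit 0xa1060cbed) (.node (nat_lit 0xa1060c9e5) (.node (nat_lit 0xa106047d5) (.leaf (nat_lit 0xa106047cd) (nat_lit 1796))
 (.leaf (nat_lit 0xa106047d5) (nat_lit 2048))
) (.node (nat_lit 0xa1060c9fd) (.leaf (nat_lit 0xa1060c9e5) (nat_lit 1796))
 (.leaf (nat_lit 0xa1060c9fd) (nat_lit 2048))
)) (.node (nat_lit 0xa1060cde5) (.node (nat_lit 0xa1060cbf5) (.leaf (nat_lit 0xa1060cbed) (nat_lit 1540))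
 (.leaf (nat_lit 0xa1060cbf5) (nat_lit 1792))
) (.node (nat_lit 0xa1060cdfd) (.leaf (nat_lit 0xa1060cde5) (nat_lit 2052))
 (.node (nat_lit 0xa1060cfed) (.leaf (nat_lit 0xa1060cdfd) (nat_lit 2051))
 (.leaf (nat_lit 0xa1060cfed) (nat_lit 1796))
)))) (.node (nat_lit 0xa10614bdd) (.node (nat_lit 0xa106149d5) (.node (nat_lit 0xa106149cd) (.leaf (nat_lit 0xa1060cff5) (nat_lit 2048))
 (.leaf (nat_lit 0xa106149cd) (nat_lit 2048))
) (.node (nat_lit 0xa10614bc5) (.leaf (nat_lit 0xa106149d5) (nat_lit 1796))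
 (.leaf (nat_lit 0xa10614bc5) (nat_lit 1792))
)) (.node (nat_lit 0xa10614dd5) (.node (nat_lit 0xa10614dcd) (.leaf (nat_lit 0xa10614bdd) (nat_lit 1540))
 (.leaf (nat_lit 0xa10614dcd) (nat_lit 2051))
) (.node (nat_lit 0xa10614fc5) (.leaf (nat_lit 0xa10614dd5) (nat_lit 2052))
 (.node (nat_lit 0xa10614fdd) (.leaf (nat_lit 0xa10614fc5) (nat_lit 2048))
 (.leaf (nat_lit 0xa10614fdd) (nat_lit 1796))
))))))) (.node (nat_lit 0xa1063cdcd) (.node (nat_lit 0xa1062c3cd) (.node (nat_lit 0xa106249fd) (.node (nat_lit 0xa1061c5ed) (.node (nat_lit 0xa1061c3e5) (.node (nat_lit 0xa1061c1f5) (.leaf (nat_lit 0xa1061c1ed) (nat_lit 1795))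
 (.leaf (nat_lit 0xa1061c1f5) (nat_lit 2051))
) (.node (nat_lit 0xa1061c3fd) (.leaf (nat_lit 0xa1061c3e5) (nat_lit 2051))
 (.leaf (nat_lit 0xa1061c3fd) (nat_lit 2052))
)) (.node (nat_lit 0xa1061c7e5) (.node (nat_lit 0xa1061c5f5) (.leaf (nat_lit 0xa1061c5ed) (nat_lit 1539))
 (.leaf (nat_lit 0xa1061c5f5) (nat_lit 1795))
) (.node (nat_lit 0xa1061c7fd) (.leaf (nat_lit 0xa1061c7e5) (nat_lit 1795))
 (.node (nat_lit 0xa106249e5) (.leaf (nat_lit 0xa1061c7fd) (nat_lit 2051))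
 (.leaf (nat_lit 0xa106249e5) (nat_lit 1540))
)))) (.node (nat_lit 0xa10624dfd) (.node (nat_lit 0xa10624bf5) (.node (nat_lit 0xa10624bed) (.leaf (nat_lit 0xa106249fd) (nat_lit 1792))
 (.leaf (nat_lit 0xa10624bed) (nat_lit 1284))
) (.node (nat_lit 0xa10624de5) (.leaf (nat_lit 0xa10624bf5) (nat_lit 1536))
 (.leaf (nat_lit 0xa10624de5) (nat_lit 1796))
)) (.node (nat_lit 0xa10624ff5) (.node (nat_lit 0xa10624fed) (.leaf (nat_lit 0xa10624dfd) (nat_lit 2048))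
 (.leaf (nat_lit 0xa10624fed) (nat_lit 1540))
) (.node (nat_lit 0xa1062c1c5) (.leaf (nat_lit 0xa10624ff5) (nat_lit 1792))
 (.node (nat_lit 0xa1062c1dd) (.leaf (nat_lit 0xa1062c1c5) (nat_lit 2052))
 (.leaf (nat_lit 0xa1062c1dd) (nat_lit 2051))
))))) (.node (nat_lit 0xa106343fd) (.node (nat_lit 0xa1062c7cd) (.node (nat_lit 0xa1062c5c5) (.node (nat_lit 0xa1062c3d5) (.leaf (nat_lit 0xa1062c3cd) (nat_lit 1796))
 (.leaf (nat_lit 0xa1062c3d5) (nat_lit 2048))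
) (.node (nat_lit 0xa1062c5dd) (.leaf (nat_lit 0xa1062c5c5) (nat_lit 2051))
 (.leaf (nat_lit 0xa1062c5dd) (nat_lit 1795))
)) (.node (nat_lit 0xa106341ed) (.node (nat_lit 0xa1062c7d5) (.leaf (nat_lit 0xa1062c7cd) (nat_lit 2052))
 (.leaf (nat_lit 0xa1062c7d5) (nat_lit 2051))
) (.node (nat_lit 0xa106341f5) (.leaf (nat_lit 0xa106341ed) (nat_lit 2051))
 (.node (nat_lit 0xa106343e5) (.leaf (nat_lit 0xa106341f5) (nat_lit 2052))
 (.leaf (nat_lit 0xa106343e5) (nat_lit 2048))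
)))) (.node (nat_lit 0xa106347fd) (.node (nat_lit 0xa106345f5) (.node (nat_lit 0xa106345ed) (.leaf (nat_lit 0xa106343fd) (nat_lit 1796))
 (.leaf (nat_lit 0xa106345ed) (nat_lit 1795))
) (.node (nat_lit 0xa106347e5) (.leaf (nat_lit 0xa106345f5) (nat_lit 2051))
 (.leaf (nat_lit 0xa106347e5) (nat_lit 2051))
)) (.node (nat_lit 0xa1063c9d5) (.node (nat_lit 0xa1063c9cd) (.leaf (nat_lit 0xa106347fd) (nat_lit 2052))
 (.leaf (nat_lit 0xa1063c9cd) (nat_lit 2051))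
) (.node (nat_lit 0xa1063cbc5) (.leaf (nat_lit 0xa1063c9d5) (nat_lit 2052))
 (.node (nat_lit 0xa1063cbdd) (.leaf (nat_lit 0xa1063cbc5) (nat_lit 2048))
 (.leaf (nat_lit 0xa1063cbdd) (nat_lit 1796))
)))))) (.node (nat_lit 0xa1820c6a7) (.node (nat_lit 0xa1820449f) (.node (nat_lit 0xa18204087) (.node (nat_lit 0xa1063cfc5) (.node (nat_lit 0xa1063cdd5) (.leaf (nat_lit 0xa1063cdcd) (nat_lit 1795))
 (.leaf (nat_lit 0xa1063cdd5) (nat_lit 2051))
) (.node (nat_lit 0xa1063cfdd) (.leaf (nat_lit 0xa1063cfc5) (nat_lit 2051))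
 (.leaf (nat_lit 0xa1063cfdd) (nat_lit 2052))
)) (.node (nat_lit 0xa18204297) (.node (nat_lit 0xa1820408f) (.leaf (nat_lit 0xa18204087) (nat_lit 1797))
 (.leaf (nat_lit 0xa1820408f) (nat_lit 1541))
) (.node (nat_lit 0xa1820429f) (.leaf (nat_lit 0xa18204297) (nat_lit 1794))
 (.node (nat_lit 0xa18204497) (.leaf (nat_lit 0xa1820429f) (nat_lit 2050))
 (.leaf (nat_lit 0xa18204497) (nat_lit 2050))
)))) (.node (nat_lit 0xa1820c0af) (.node (nat_lit 0xa1820468f) (.node (nat_lit 0xa18204687) (.leaf (nat_lit 0xa1820449f) (nat_lit 2052))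
 (.leaf (nat_lit 0xa18204687) (nat_lit 2053))
) (.node (nat_lit 0xa1820c0a7) (.leaf (nat_lit 0xa1820468f) (nat_lit 1797))
 (.leaf (nat_lit 0xa1820c0a7) (nat_lit 1797))
)) (.node (nat_lit 0xa1820c2bf) (.node (nat_lit 0xa1820c2b7) (.leaf (nat_lit 0xa1820c0af) (nat_lit 1541))
 (.leaf (nat_lit 0xa1820c2b7) (nat_lit 1794))
) (.node (nat_lit 0xa1820c4b7) (.leaf (nat_lit 0xa1820c2bf) (nat_lit 2050))
 (.node (nat_lit 0xa1820c4bf) (.leaf (nat_lit 0xa1820c4b7) (nat_lit 2050))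
 (.leaf (nat_lit 0xa1820c4bf) (nat_lit 2052))
))))) (.node (nat_lit 0xa18214ebf) (.node (nat_lit 0xa18214aa7) (.node (nat_lit 0xa182148b7) (.node (nat_lit 0xa1820c6af) (.leaf (nat_lit 0xa1820c6a7) (nat_lit 2053))
 (.leaf (nat_lit 0xa1820c6af) (nat_lit 1797))
) (.node (nat_lit 0xa182148bf) (.leaf (nat_lit 0xa182148b7) (nat_lit 2307))
 (.leaf (nat_lit 0xa182148bf) (nat_lit 2051))
)) (.node (nat_lit 0xa18214ca7) (.node (nat_lit 0xa18214aaf) (.leaf (nat_lit 0xa18214aa7) (nat_lit 2051))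
 (.leaf (nat_lit 0xa18214aaf) (nat_lit 1795))
) (.node (nat_lit 0xa18214caf) (.leaf (nat_lit 0xa18214ca7) (nat_lit 1795))
 (.node (nat_lit 0xa18214eb7) (.leaf (nat_lit 0xa18214caf) (nat_lit 1539))
 (.leaf (nat_lit 0xa18214eb7) (nat_lit 2051))
)))) (.node (nat_lit 0xa1821ca8f) (.node (nat_lit 0xa1821c89f) (.node (nat_lit 0xa1821c897) (.leaf (nat_lit 0xa18214ebf) (nat_lit 2307))
 (.leaf (nat_lit 0xa1821c897) (nat_lit 2052))
) (.node (nat_lit 0xa1821ca87) (.leaf (nat_lit 0xa1821c89f) (nat_lit 2308))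
 (.leaf (nat_lit 0xa1821ca87) (nat_lit 2052))
)) (.node (nat_lit 0xa1821cc8f) (.node (nat_lit 0xa1821cc87) (.leaf (nat_lit 0xa1821ca8f) (nat_lit 2308))
 (.leaf (nat_lit 0xa1821cc87) (nat_lit 2307))
) (.node (nat_lit 0xa1821ce97) (.leaf (nat_lit 0xa1821cc8f) (nat_lit 2051))
 (.node (nat_lit 0xa1821ce9f) (.leaf (nat_lit 0xa1821ce97) (nat_lit 1796))
 (.leaf (nat_lit 0xa1821ce9f) (nat_lit 2052))
))))))))) (.node (nat_lit 0xb0843086e) (.node (nat_lit 0xa1842c147) (.node (nat_lit 0xa1840454f) (.node (nat_lit 0xa18234a87) (.node (nat_lit 0xa1822c08f) (.node (nat_lit 0xa182244b7) (.node (nat_lit 0xa182242b7) (.node (nat_lit 0xa182240af) (.leaf (nat_lit 0xa182240a7) (nat_lit 1541))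
 (.leaf (nat_lit 0xa182240af) (nat_lit 1285))
) (.node (nat_lit 0xa182242bf) (.leaf (nat_lit 0xa182242b7) (nat_lit 1794))
 (.leaf (nat_lit 0xa182242bf) (nat_lit 2050))
)) (.node (nat_lit 0xa182246a7) (.node (nat_lit 0xa182244bf) (.leaf (nat_lit 0xa182244b7) (nat_lit 2052))
 (.leaf (nat_lit 0xa182244bf) (nat_lit 1796))
) (.node (nat_lit 0xa182246af) (.leaf (nat_lit 0xa182246a7) (nat_lit 1797))
 (.node (nat_lit 0xa1822c087) (.leaf (nat_lit 0xa182246af) (nat_lit 1541))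
 (.leaf (nat_lit 0xa1822c087) (nat_lit 2053))
)))) (.node (nat_lit 0xa1822c49f) (.node (nat_lit 0xa1822c29f) (.node (nat_lit 0xa1822c297) (.leaf (nat_lit 0xa1822c08f) (nat_lit 1797))
 (.leaf (nat_lit 0xa1822c297) (nat_lit 2050))
) (.node (nat_lit 0xa1822c497) (.leaf (nat_lit 0xa1822c29f) (nat_lit 2306))
 (.leaf (nat_lit 0xa1822c497) (nat_lit 2306))
)) (.node (nat_lit 0xa1822c68f) (.node (nat_lit 0xa1822c687) (.leaf (nat_lit 0xa1822c49f) (nat_lit 2308))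
 (.leaf (nat_lit 0xa1822c687) (nat_lit 2309))
) (.node (nat_lit 0xa18234897) (.leaf (nat_lit 0xa1822c68f) (nat_lit 2053))
 (.node (nat_lit 0xa1823489f) (.leaf (nat_lit 0xa18234897) (nat_lit 2307))
 (.leaf (nat_lit 0xa1823489f) (nat_lit 2307))
))))) (.node (nat_lit 0xa1823caaf) (.node (nat_lit 0xa18234e97) (.node (nat_lit 0xa18234c87) (.node (nat_lit 0xa18234a8f) (.leaf (nat_lit 0xa18234a87) (nat_lit 2307))
 (.leaf (nat_lit 0xa18234a8f) (nat_lit 2051))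
) (.node (nat_lit 0xa18234c8f) (.leaf (nat_lit 0xa18234c87) (nat_lit 2051))
 (.leaf (nat_lit 0xa18234c8f) (nat_lit 1795))
)) (.node (nat_lit 0xa1823c8b7) (.node (nat_lit 0xa18234e9f) (.leaf (nat_lit 0xa18234e97) (nat_lit 2051))
 (.leaf (nat_lit 0xa18234e9f) (nat_lit 2307))
) (.node (nat_lit 0xa1823c8bf) (.leaf (nat_lit 0xa1823c8b7) (nat_lit 2308))
 (.node (nat_lit 0xa1823caa7) (.leaf (nat_lit 0xa1823c8bf) (nat_lit 2307))
 (.leaf (nat_lit 0xa1823caa7) (nat_lit 2307))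
)))) (.node (nat_lit 0xa1823cebf) (.node (nat_lit 0xa1823ccaf) (.node (nat_lit 0xa1823cca7) (.leaf (nat_lit 0xa1823caaf) (nat_lit 2051))
 (.leaf (nat_lit 0xa1823cca7) (nat_lit 2051))
) (.node (nat_lit 0xa1823ceb7) (.leaf (nat_lit 0xa1823ccaf) (nat_lit 1795))
 (.leaf (nat_lit 0xa1823ceb7) (nat_lit 2052))
)) (.node (nat_lit 0xa18404157) (.node (nat_lit 0xa18404147) (.leaf (nat_lit 0xa1823cebf) (nat_lit 2308))
 (.leaf (nat_lit 0xa18404147) (nat_lit 1796))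
) (.node (nat_lit 0xa1840434f) (.leaf (nat_lit 0xa18404157) (nat_lit 2048))
 (.node (nat_lit 0xa1840435f) (.leaf (nat_lit 0xa1840434f) (nat_lit 1540))
 (.leaf (nat_lit 0xa1840435f) (nat_lit 1792))
)))))) (.node (nat_lit 0xa1841476f) (.node (nat_lit 0xa1840cd7f) (.node (nat_lit 0xa1840c967) (.node (nat_lit 0xa18404747) (.node (nat_lit 0xa1840455f) (.leaf (nat_lit 0xa1840454f) (nat_lit 1796))
 (.leaf (nat_lit 0xa1840455f) (nat_lit 2050))
) (.node (nat_lit 0xa18404757) (.leaf (nat_lit 0xa18404747) (nat_lit 2052))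
 (.leaf (nat_lit 0xa18404757) (nat_lit 1794))
)) (.node (nat_lit 0xa1840cb6f) (.node (nat_lit 0xa1840c977) (.leaf (nat_lit 0xa1840c967) (nat_lit 1796))
 (.leaf (nat_lit 0xa1840c977) (nat_lit 2048))
) (.node (nat_lit 0xa1840cb7f) (.leaf (nat_lit 0xa1840cb6f) (nat_lit 1540))
 (.node (nat_lit 0xa1840cd6f) (.leaf (nat_lit 0xa1840cb7f) (nat_lit 1792))
 (.leaf (nat_lit 0xa1840cd6f) (nat_lit 1796))
)))) (.node (nat_lit 0xa1841417f) (.node (nat_lit 0xa1840cf77) (.node (nat_lit 0xa1840cf67) (.leaf (nat_lit 0xa1840cd7f) (nat_lit 2050))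
 (.leaf (nat_lit 0xa1840cf67) (nat_lit 2052))
) (.node (nat_lit 0xa1841416f) (.leaf (nat_lit 0xa1840cf77) (nat_lit 1794))
 (.leaf (nat_lit 0xa1841416f) (nat_lit 1795))
)) (.node (nat_lit 0xa18414377) (.node (nat_lit 0xa18414367) (.leaf (nat_lit 0xa1841417f) (nat_lit 2051))
 (.leaf (nat_lit 0xa18414367) (nat_lit 2051))
) (.node (nat_lit 0xa18414567) (.leaf (nat_lit 0xa18414377) (nat_lit 2051))
 (.node (nat_lit 0xa18414577) (.leaf (nat_lit 0xa18414567) (nat_lit 1795))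
 (.leaf (nat_lit 0xa18414577) (nat_lit 2051))
))))) (.node (nat_lit 0xa1841cf5f) (.node (nat_lit 0xa1841cb47) (.node (nat_lit 0xa1841c94f) (.node (nat_lit 0xa1841477f) (.leaf (nat_lit 0xa1841476f) (nat_lit 1539))
 (.leaf (nat_lit 0xa1841477f) (nat_lit 1795))
) (.node (nat_lit 0xa1841c95f) (.leaf (nat_lit 0xa1841c94f) (nat_lit 2309))
 (.leaf (nat_lit 0xa1841c95f) (nat_lit 2053))
)) (.node (nat_lit 0xa1841cd47) (.node (nat_lit 0xa1841cb57) (.leaf (nat_lit 0xa1841cb47) (nat_lit 2053))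
 (.leaf (nat_lit 0xa1841cb57) (nat_lit 1797))
) (.node (nat_lit 0xa1841cd57) (.leaf (nat_lit 0xa1841cd47) (nat_lit 2307))
 (.node (nat_lit 0xa1841cf4f) (.leaf (nat_lit 0xa1841cd57) (nat_lit 2053))
 (.leaf (nat_lit 0xa1841cf4f) (nat_lit 2051))
)))) (.node (nat_lit 0xa18424b7f) (.node (nat_lit 0xa18424977) (.node (nat_lit 0xa18424967) (.leaf (nat_lit 0xa1841cf5f) (nat_lit 2309))
 (.leaf (nat_lit 0xa18424967) (nat_lit 1540))
) (.node (nat_lit 0xa18424b6f) (.leaf (nat_lit 0xa18424977) (nat_lit 1792))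
 (.leaf (nat_lit 0xa18424b6f) (nat_lit 1284))
)) (.node (nat_lit 0xa18424d7f) (.node (nat_lit 0xa18424d6f) (.leaf (nat_lit 0xa18424b7f) (nat_lit 1536))
 (.leaf (nat_lit 0xa18424d6f) (nat_lit 1540))
) (.node (nat_lit 0xa18424f67) (.leaf (nat_lit 0xa18424d7f) (nat_lit 1792))
 (.node (nat_lit 0xa18424f77) (.leaf (nat_lit 0xa18424f67) (nat_lit 1796))
 (.leaf (nat_lit 0xa18424f77) (nat_lit 1794))
))))))) (.node (nat_lit 0xb0840cc4a) (.node (nat_lit 0xa1843c367) (.node (nat_lit 0xa1843495f) (.node (nat_lit 0xa1842c54f) (.node (nat_lit 0xa1842c34f) (.node (nat_lit 0xa1842c157) (.leaf (nat_lit 0xa1842c147) (nat_lit 2052))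
 (.leaf (nat_lit 0xa1842c157) (nat_lit 2304))
) (.node (nat_lit 0xa1842c35f) (.leaf (nat_lit 0xa1842c34f) (nat_lit 1796))
 (.leaf (nat_lit 0xa1842c35f) (nat_lit 2048))
)) (.node (nat_lit 0xa1842c747) (.node (nat_lit 0xa1842c55f) (.leaf (nat_lit 0xa1842c54f) (nat_lit 2052))
 (.leaf (nat_lit 0xa1842c55f) (nat_lit 2306))
) (.node (nat_lit 0xa1842c757) (.leaf (nat_lit 0xa1842c747) (nat_lit 2308))
 (.node (nat_lit 0xa1843494f) (.leaf (nat_lit 0xa1842c757) (nat_lit 2050))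
 (.leaf (nat_lit 0xa1843494f) (nat_lit 2051))
)))) (.node (nat_lit 0xa18434d57) (.node (nat_lit 0xa18434b57) (.node (nat_lit 0xa18434b47) (.leaf (nat_lit 0xa1843495f) (nat_lit 2307))
 (.leaf (nat_lit 0xa18434b47) (nat_lit 2307))
) (.node (nat_lit 0xa18434d47) (.leaf (nat_lit 0xa18434b57) (nat_lit 2051))
 (.leaf (nat_lit 0xa18434d47) (nat_lit 2051))
)) (.node (nat_lit 0xa18434f5f) (.node (nat_lit 0xa18434f4f) (.leaf (nat_lit 0xa18434d57) (nat_lit 2307))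
 (.leaf (nat_lit 0xa18434f4f) (nat_lit 1795))
) (.node (nat_lit 0xa1843c16f) (.leaf (nat_lit 0xa18434f5f) (nat_lit 2051))
 (.node (nat_lit 0xa1843c17f) (.leaf (nat_lit 0xa1843c16f) (nat_lit 2051))
 (.leaf (nat_lit 0xa1843c17f) (nat_lit 2309))
))))) (.node (nat_lit 0xb08404352) (.node (nat_lit 0xa1843c76f) (.node (nat_lit 0xa1843c567) (.node (nat_lit 0xa1843c377) (.leaf (nat_lit 0xa1843c367) (nat_lit 2307))
 (.leaf (nat_lit 0xa1843c377) (nat_lit 2053))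
) (.node (nat_lit 0xa1843c577) (.leaf (nat_lit 0xa1843c567) (nat_lit 2051))
 (.leaf (nat_lit 0xa1843c577) (nat_lit 2307))
)) (.node (nat_lit 0xb08404142) (.node (nat_lit 0xa1843c77f) (.leaf (nat_lit 0xa1843c76f) (nat_lit 1795))
 (.leaf (nat_lit 0xa1843c77f) (nat_lit 2051))
) (.node (nat_lit 0xb08404152) (.leaf (nat_lit 0xb08404142) (nat_lit 1539))
 (.node (nat_lit 0xb08404342) (.leaf (nat_lit 0xb08404152) (nat_lit 1795))
 (.leaf (nat_lit 0xb08404342) (nat_lit 1283))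
)))) (.node (nat_lit 0xb0840475a) (.node (nat_lit 0xb0840455a) (.node (nat_lit 0xb0840454a) (.leaf (nat_lit 0xb08404352) (nat_lit 1539))
 (.leaf (nat_lit 0xb0840454a) (nat_lit 2051))
) (.node (nat_lit 0xb0840474a) (.leaf (nat_lit 0xb0840455a) (nat_lit 2052))
 (.leaf (nat_lit 0xb0840474a) (nat_lit 1795))
)) (.node (nat_lit 0xb0840c852) (.node (nat_lit 0xb0840c842) (.leaf (nat_lit 0xb0840475a) (nat_lit 2051))
 (.leaf (nat_lit 0xb0840c842) (nat_lit 1282))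
) (.node (nat_lit 0xb0840ca42) (.leaf (nat_lit 0xb0840c852) (nat_lit 1538))
 (.node (nat_lit 0xb0840ca52) (.leaf (nat_lit 0xb0840ca42) (nat_lit 1026))
 (.leaf (nat_lit 0xb0840ca52) (nat_lit 1282))
)))))) (.node (nat_lit 0xb0841ce66) (.node (nat_lit 0xb08414576) (.node (nat_lit 0xb0841416e) (.node (nat_lit 0xb0840ce4a) (.node (nat_lit 0xb0840cc5a) (.leaf (nat_lit 0xb0840cc4a) (nat_lit 2052))
 (.leaf (nat_lit 0xb0840cc5a) (nat_lit 1796))
) (.node (nat_lit 0xb0840ce5a) (.leaf (nat_lit 0xb0840ce4a) (nat_lit 1796))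
 (.leaf (nat_lit 0xb0840ce5a) (nat_lit 2052))
)) (.node (nat_lit 0xb0841436e) (.node (nat_lit 0xb0841417e) (.leaf (nat_lit 0xb0841416e) (nat_lit 2052))
 (.leaf (nat_lit 0xb0841417e) (nat_lit 2052))
) (.node (nat_lit 0xb0841437e) (.leaf (nat_lit 0xb0841436e) (nat_lit 2048))
 (.node (nat_lit 0xb08414566) (.leaf (nat_lit 0xb0841437e) (nat_lit 1796))
 (.leaf (nat_lit 0xb08414566) (nat_lit 2050))
)))) (.node (nat_lit 0xb0841c87e) (.node (nat_lit 0xb08414776) (.node (nat_lit 0xb08414766) (.leaf (nat_lit 0xb08414576) (nat_lit 1794))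
 (.leaf (nat_lit 0xb08414766) (nat_lit 1794))
) (.node (nat_lit 0xb0841c86e) (.leaf (nat_lit 0xb08414776) (nat_lit 1538))
 (.leaf (nat_lit 0xb0841c86e) (nat_lit 2309))
)) (.node (nat_lit 0xb0841ca7e) (.node (nat_lit 0xb0841ca6e) (.leaf (nat_lit 0xb0841c87e) (nat_lit 2053))
 (.leaf (nat_lit 0xb0841ca6e) (nat_lit 2053))
) (.node (nat_lit 0xb0841cc66) (.leaf (nat_lit 0xb0841ca7e) (nat_lit 1797))
 (.node (nat_lit 0xb0841cc76) (.leaf (nat_lit 0xb0841cc66) (nat_lit 2305))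
 (.leaf (nat_lit 0xb0841cc76) (nat_lit 2049))
))))) (.node (nat_lit 0xb08420e5a) (.node (nat_lit 0xb08420a42) (.node (nat_lit 0xb08420842) (.node (nat_lit 0xb0841ce76) (.leaf (nat_lit 0xb0841ce66) (nat_lit 2049))
 (.leaf (nat_lit 0xb0841ce76) (nat_lit 1793))
) (.node (nat_lit 0xb08420852) (.leaf (nat_lit 0xb08420842) (nat_lit 1282))
 (.leaf (nat_lit 0xb08420852) (nat_lit 1538))
)) (.node (nat_lit 0xb08420c4a) (.node (nat_lit 0xb08420a52) (.leaf (nat_lit 0xb08420a42) (nat_lit 1026))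
 (.leaf (nat_lit 0xb08420a52) (nat_lit 1282))
) (.node (nat_lit 0xb08420c5a) (.leaf (nat_lit 0xb08420c4a) (nat_lit 1796))
 (.node (nat_lit 0xb08420e4a) (.leaf (nat_lit 0xb08420c5a) (nat_lit 1796))
 (.leaf (nat_lit 0xb08420e4a) (nat_lit 1540))
)))) (.node (nat_lit 0xb08428352) (.node (nat_lit 0xb08428152) (.node (nat_lit 0xb08428142) (.leaf (nat_lit 0xb08420e5a) (nat_lit 1792))
 (.leaf (nat_lit 0xb08428142) (nat_lit 1539))
) (.node (nat_lit 0xb08428342) (.leaf (nat_lit 0xb08428152) (nat_lit 1795))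
 (.leaf (nat_lit 0xb08428342) (nat_lit 1283))
)) (.node (nat_lit 0xb0842855a) (.node (nat_lit 0xb0842854a) (.leaf (nat_lit 0xb08428352) (nat_lit 1539))
 (.leaf (nat_lit 0xb0842854a) (nat_lit 2307))
) (.node (nat_lit 0xb0842874a) (.leaf (nat_lit 0xb0842855a) (nat_lit 2052))
 (.node (nat_lit 0xb0842875a) (.leaf (nat_lit 0xb0842874a) (nat_lit 2051))
 (.leaf (nat_lit 0xb0842875a) (nat_lit 2308))
)))))))) (.node (nat_lit 0xb086388ee) (.node (nat_lit 0xb08614ce6) (.node (nat_lit 0xb086043c2) (.node (nat_lit 0xb0843817e) (.node (nat_lit 0xb08430c66) (.node (nat_lit 0xb08430a6e) (.node (nat_lit 0xb0843087e) (.leaf (nat_lit 0xb0843086e) (nat_lit 2309))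
 (.leaf (nat_lit 0xb0843087e) (nat_lit 2053))
) (.node (nat_lit 0xb08430a7e) (.leaf (nat_lit 0xb08430a6e) (nat_lit 2053))
 (.leaf (nat_lit 0xb08430a7e) (nat_lit 1797))
)) (.node (nat_lit 0xb08430e66) (.node (nat_lit 0xb08430c76) (.leaf (nat_lit 0xb08430c66) (nat_lit 2050))
 (.leaf (nat_lit 0xb08430c76) (nat_lit 1794))
) (.node (nat_lit 0xb08430e76) (.leaf (nat_lit 0xb08430e66) (nat_lit 1794))
 (.node (nat_lit 0xb0843816e) (.leaf (nat_lit 0xb08430e76) (nat_lit 1538))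
 (.leaf (nat_lit 0xb0843816e) (nat_lit 2052))
)))) (.node (nat_lit 0xb08438576) (.node (nat_lit 0xb0843837e) (.node (nat_lit 0xb0843836e) (.leaf (nat_lit 0xb0843817e) (nat_lit 2309))
 (.leaf (nat_lit 0xb0843836e) (nat_lit 2308))
) (.node (nat_lit 0xb08438566) (.leaf (nat_lit 0xb0843837e) (nat_lit 2053))
 (.leaf (nat_lit 0xb08438566) (nat_lit 2305))
)) (.node (nat_lit 0xb08438776) (.node (nat_lit 0xb08438766) (.leaf (nat_lit 0xb08438576) (nat_lit 2049))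
 (.leaf (nat_lit 0xb08438766) (nat_lit 2049))
) (.node (nat_lit 0xb086041c2) (.leaf (nat_lit 0xb08438776) (nat_lit 1793))
 (.node (nat_lit 0xb086041da) (.leaf (nat_lit 0xb086041c2) (nat_lit 1539))
 (.leaf (nat_lit 0xb086041da) (nat_lit 1795))
))))) (.node (nat_lit 0xb0860cada) (.node (nat_lit 0xb086047ca) (.node (nat_lit 0xb086045ca) (.node (nat_lit 0xb086043da) (.leaf (nat_lit 0xb086043c2) (nat_lit 1283))
 (.leaf (nat_lit 0xb086043da) (nat_lit 1539))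
) (.node (nat_lit 0xb086045d2) (.leaf (nat_lit 0xb086045ca) (nat_lit 1795))
 (.leaf (nat_lit 0xb086045d2) (nat_lit 2051))
)) (.node (nat_lit 0xb0860c8c2) (.node (nat_lit 0xb086047d2) (.leaf (nat_lit 0xb086047ca) (nat_lit 2051))
 (.leaf (nat_lit 0xb086047d2) (nat_lit 2052))
) (.node (nat_lit 0xb0860c8da) (.leaf (nat_lit 0xb0860c8c2) (nat_lit 1282))
 (.node (nat_lit 0xb0860cac2) (.leaf (nat_lit 0xb0860c8da) (nat_lit 1538))
 (.leaf (nat_lit 0xb0860cac2) (nat_lit 1026))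
)))) (.node (nat_lit 0xb0860ced2) (.node (nat_lit 0xb0860ccd2) (.node (nat_lit 0xb0860ccca) (.leaf (nat_lit 0xb0860cada) (nat_lit 1282))
 (.leaf (nat_lit 0xb0860ccca) (nat_lit 1797))
) (.node (nat_lit 0xb0860ceca) (.leaf (nat_lit 0xb0860ccd2) (nat_lit 2052))
 (.leaf (nat_lit 0xb0860ceca) (nat_lit 2053))
)) (.node (nat_lit 0xb086148f6) (.node (nat_lit 0xb086148ee) (.leaf (nat_lit 0xb0860ced2) (nat_lit 1796))
 (.leaf (nat_lit 0xb086148ee) (nat_lit 2050))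
) (.node (nat_lit 0xb08614aee) (.leaf (nat_lit 0xb086148f6) (nat_lit 1794))
 (.node (nat_lit 0xb08614af6) (.leaf (nat_lit 0xb08614aee) (nat_lit 1794))
 (.leaf (nat_lit 0xb08614af6) (nat_lit 1538))
)))))) (.node (nat_lit 0xb08620eca) (.node (nat_lit 0xb0861c5fe) (.node (nat_lit 0xb0861c1ee) (.node (nat_lit 0xb08614ee6) (.node (nat_lit 0xb08614cfe) (.leaf (nat_lit 0xb08614ce6) (nat_lit 2053))
 (.leaf (nat_lit 0xb08614cfe) (nat_lit 1797))
) (.node (nat_lit 0xb08614efe) (.leaf (nat_lit 0xb08614ee6) (nat_lit 2309))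
 (.leaf (nat_lit 0xb08614efe) (nat_lit 2053))
)) (.node (nat_lit 0xb0861c3ee) (.node (nat_lit 0xb0861c1f6) (.leaf (nat_lit 0xb0861c1ee) (nat_lit 2052))
 (.leaf (nat_lit 0xb0861c1f6) (nat_lit 2049))
) (.node (nat_lit 0xb0861c3f6) (.leaf (nat_lit 0xb0861c3ee) (nat_lit 2049))
 (.node (nat_lit 0xb0861c5e6) (.leaf (nat_lit 0xb0861c3f6) (nat_lit 1793))
 (.leaf (nat_lit 0xb0861c5e6) (nat_lit 2048))
)))) (.node (nat_lit 0xb086208da) (.node (nat_lit 0xb0861c7fe) (.node (nat_lit 0xb0861c7e6) (.leaf (nat_lit 0xb0861c5fe) (nat_lit 1796))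
 (.leaf (nat_lit 0xb0861c7e6) (nat_lit 2304))
) (.node (nat_lit 0xb086208c2) (.leaf (nat_lit 0xb0861c7fe) (nat_lit 2052))
 (.leaf (nat_lit 0xb086208c2) (nat_lit 1282))
)) (.node (nat_lit 0xb08620ada) (.node (nat_lit 0xb08620ac2) (.leaf (nat_lit 0xb086208da) (nat_lit 1538))
 (.leaf (nat_lit 0xb08620ac2) (nat_lit 1026))
) (.node (nat_lit 0xb08620cca) (.leaf (nat_lit 0xb08620ada) (nat_lit 1282))
 (.node (nat_lit 0xb08620cd2) (.leaf (nat_lit 0xb08620cca) (nat_lit 1541))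
 (.leaf (nat_lit 0xb08620cd2) (nat_lit 1797))
))))) (.node (nat_lit 0xb086287d2) (.node (nat_lit 0xb086283c2) (.node (nat_lit 0xb086281c2) (.node (nat_lit 0xb08620ed2) (.leaf (nat_lit 0xb08620eca) (nat_lit 1797))
 (.leaf (nat_lit 0xb08620ed2) (nat_lit 1796))
) (.node (nat_lit 0xb086281da) (.leaf (nat_lit 0xb086281c2) (nat_lit 1539))
 (.leaf (nat_lit 0xb086281da) (nat_lit 1795))
)) (.node (nat_lit 0xb086285ca) (.node (nat_lit 0xb086283da) (.leaf (nat_lit 0xb086283c2) (nat_lit 1283))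
 (.leaf (nat_lit 0xb086283da) (nat_lit 1539))
) (.node (nat_lit 0xb086285d2) (.leaf (nat_lit 0xb086285ca) (nat_lit 2051))
 (.node (nat_lit 0xb086287ca) (.leaf (nat_lit 0xb086285d2) (nat_lit 2308))
 (.leaf (nat_lit 0xb086287ca) (nat_lit 2307))
)))) (.node (nat_lit 0xb086303f6) (.node (nat_lit 0xb086301f6) (.node (nat_lit 0xb086301ee) (.leaf (nat_lit 0xb086287d2) (nat_lit 2052))
 (.leaf (nat_lit 0xb086301ee) (nat_lit 2050))
) (.node (nat_lit 0xb086303ee) (.leaf (nat_lit 0xb086301f6) (nat_lit 1794))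
 (.leaf (nat_lit 0xb086303ee) (nat_lit 1794))
)) (.node (nat_lit 0xb086305fe) (.node (nat_lit 0xb086305e6) (.leaf (nat_lit 0xb086303f6) (nat_lit 1538))
 (.leaf (nat_lit 0xb086305e6) (nat_lit 2048))
) (.node (nat_lit 0xb086307e6) (.leaf (nat_lit 0xb086305fe) (nat_lit 1796))
 (.node (nat_lit 0xb086307fe) (.leaf (nat_lit 0xb086307e6) (nat_lit 2304))
 (.leaf (nat_lit 0xb086307fe) (nat_lit 2052))
))))))) (.node (nat_lit 0xb1021cdb1) (.node (nat_lit 0xb1020c2b1) (.node (nat_lit 0xb1020408d) (.node (nat_lit 0xb08638ce6) (.node (nat_lit 0xb08638aee) (.node (nat_lit 0xb086388f6) (.leaf (nat_lit 0xb086388ee) (nat_lit 2305))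
 (.leaf (nat_lit 0xb086388f6) (nat_lit 2049))
) (.node (nat_lit 0xb08638af6) (.leaf (nat_lit 0xb08638aee) (nat_lit 2049))
 (.leaf (nat_lit 0xb08638af6) (nat_lit 1793))
)) (.node (nat_lit 0xb08638ee6) (.node (nat_lit 0xb08638cfe) (.leaf (nat_lit 0xb08638ce6) (nat_lit 2304))
 (.leaf (nat_lit 0xb08638cfe) (nat_lit 2052))
) (.node (nat_lit 0xb08638efe) (.leaf (nat_lit 0xb08638ee6) (nat_lit 2308))
 (.node (nat_lit 0xb10204085) (.leaf (nat_lit 0xb08638efe) (nat_lit 2308))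
 (.leaf (nat_lit 0xb10204085) (nat_lit 1797))
)))) (.node (nat_lit 0xb1020448d) (.node (nat_lit 0xb1020429d) (.node (nat_lit 0xb10204295) (.leaf (nat_lit 0xb1020408d) (nat_lit 1541))
 (.leaf (nat_lit 0xb10204295) (nat_lit 2308))
) (.node (nat_lit 0xb10204485) (.leaf (nat_lit 0xb1020429d) (nat_lit 2052))
 (.leaf (nat_lit 0xb10204485) (nat_lit 2053))
)) (.node (nat_lit 0xb1020469d) (.node (nat_lit 0xb10204695) (.leaf (nat_lit 0xb1020448d) (nat_lit 1797))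
 (.leaf (nat_lit 0xb10204695) (nat_lit 2052))
) (.node (nat_lit 0xb1020c0a1) (.leaf (nat_lit 0xb1020469d) (nat_lit 2308))
 (.node (nat_lit 0xb1020c0a9) (.leaf (nat_lit 0xb1020c0a1) (nat_lit 1541))
 (.leaf (nat_lit 0xb1020c0a9) (nat_lit 1285))
))))) (.node (nat_lit 0xb10214b8d) (.node (nat_lit 0xb1020c6b1) (.node (nat_lit 0xb1020c4a1) (.node (nat_lit 0xb1020c2b9) (.leaf (nat_lit 0xb1020c2b1) (nat_lit 2052))
 (.leaf (nat_lit 0xb1020c2b9) (nat_lit 1796))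
) (.node (nat_lit 0xb1020c4a9) (.leaf (nat_lit 0xb1020c4a1) (nat_lit 1797))
 (.leaf (nat_lit 0xb1020c4a9) (nat_lit 1541))
)) (.node (nat_lit 0xb10214995) (.node (nat_lit 0xb1020c6b9) (.leaf (nat_lit 0xb1020c6b1) (nat_lit 1796))
 (.leaf (nat_lit 0xb1020c6b9) (nat_lit 2052))
) (.node (nat_lit 0xb1021499d) (.leaf (nat_lit 0xb10214995) (nat_lit 2052))
 (.node (nat_lit 0xb10214b85) (.leaf (nat_lit 0xb1021499d) (nat_lit 2052))
 (.leaf (nat_lit 0xb10214b85) (nat_lit 2052))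
)))) (.node (nat_lit 0xb10214f8d) (.node (nat_lit 0xb10214d9d) (.node (nat_lit 0xb10214d95) (.leaf (nat_lit 0xb10214b8d) (nat_lit 2052))
 (.leaf (nat_lit 0xb10214d95) (nat_lit 2052))
) (.node (nat_lit 0xb10214f85) (.leaf (nat_lit 0xb10214d9d) (nat_lit 1796))
 (.leaf (nat_lit 0xb10214f85) (nat_lit 2052))
)) (.node (nat_lit 0xb1021c9b9) (.node (nat_lit 0xb1021c9b1) (.leaf (nat_lit 0xb10214f8d) (nat_lit 1796))
 (.leaf (nat_lit 0xb1021c9b1) (nat_lit 2051))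
) (.node (nat_lit 0xb1021cba1) (.leaf (nat_lit 0xb1021c9b9) (nat_lit 2051))
 (.node (nat_lit 0xb1021cba9) (.leaf (nat_lit 0xb1021cba1) (nat_lit 2051))
 (.leaf (nat_lit 0xb1021cba9) (nat_lit 1795))
)))))) (.node (nat_lit 0xb10228695) (.node (nat_lit 0xb102204a9) (.node (nat_lit 0xb102200a1) (.node (nat_lit 0xb1021cfa1) (.node (nat_lit 0xb1021cdb9) (.leaf (nat_lit 0xb1021cdb1) (nat_lit 2051))
 (.leaf (nat_lit 0xb1021cdb9) (nat_lit 1795))
) (.node (nat_lit 0xb1021cfa9) (.leaf (nat_lit 0xb1021cfa1) (nat_lit 1795))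
 (.leaf (nat_lit 0xb1021cfa9) (nat_lit 1539))
)) (.node (nat_lit 0xb102202b1) (.node (nat_lit 0xb102200a9) (.leaf (nat_lit 0xb102200a1) (nat_lit 1541))
 (.leaf (nat_lit 0xb102200a9) (nat_lit 1285))
) (.node (nat_lit 0xb102202b9) (.leaf (nat_lit 0xb102202b1) (nat_lit 1796))
 (.node (nat_lit 0xb102204a1) (.leaf (nat_lit 0xb102202b9) (nat_lit 1540))
 (.leaf (nat_lit 0xb102204a1) (nat_lit 1797))
)))) (.node (nat_lit 0xb1022808d) (.node (nat_lit 0xb102206b9) (.node (nat_lit 0xb102206b1) (.leaf (nat_lit 0xb102204a9) (nat_lit 1541))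
 (.leaf (nat_lit 0xb102206b1) (nat_lit 1796))
) (.node (nat_lit 0xb10228085) (.leaf (nat_lit 0xb102206b9) (nat_lit 1796))
 (.leaf (nat_lit 0xb10228085) (nat_lit 1797))
)) (.node (nat_lit 0xb1022829d) (.node (nat_lit 0xb10228295) (.leaf (nat_lit 0xb1022808d) (nat_lit 1541))
 (.leaf (nat_lit 0xb10228295) (nat_lit 2307))
) (.node (nat_lit 0xb10228485) (.leaf (nat_lit 0xb1022829d) (nat_lit 2051))
 (.node (nat_lit 0xb1022848d) (.leaf (nat_lit 0xb10228485) (nat_lit 2053))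
 (.leaf (nat_lit 0xb1022848d) (nat_lit 1797))
))))) (.node (nat_lit 0xb10230fa9) (.node (nat_lit 0xb10230ba1) (.node (nat_lit 0xb102309b1) (.node (nat_lit 0xb1022869d) (.leaf (nat_lit 0xb10228695) (nat_lit 2052))
 (.leaf (nat_lit 0xb1022869d) (nat_lit 2308))
) (.node (nat_lit 0xb102309b9) (.leaf (nat_lit 0xb102309b1) (nat_lit 2051))
 (.leaf (nat_lit 0xb102309b9) (nat_lit 2053))
)) (.node (nat_lit 0xb10230db1) (.node (nat_lit 0xb10230ba9) (.leaf (nat_lit 0xb10230ba1) (nat_lit 2051))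
 (.leaf (nat_lit 0xb10230ba9) (nat_lit 1795))
) (.node (nat_lit 0xb10230db9) (.leaf (nat_lit 0xb10230db1) (nat_lit 2053))
 (.node (nat_lit 0xb10230fa1) (.leaf (nat_lit 0xb10230db9) (nat_lit 1797))
 (.leaf (nat_lit 0xb10230fa1) (nat_lit 1795))
)))) (.node (nat_lit 0xb10238b8d) (.node (nat_lit 0xb1023899d) (.node (nat_lit 0xb10238995) (.leaf (nat_lit 0xb10230fa9) (nat_lit 1539))
 (.leaf (nat_lit 0xb10238995) (nat_lit 2308))
) (.node (nat_lit 0xb10238b85) (.leaf (nat_lit 0xb1023899d) (nat_lit 2052))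
 (.leaf (nat_lit 0xb10238b85) (nat_lit 2052))
)) (.node (nat_lit 0xb10238d9d) (.node (nat_lit 0xb10238d95) (.leaf (nat_lit 0xb10238b8d) (nat_lit 2051))
 (.leaf (nat_lit 0xb10238d95) (nat_lit 2052))
) (.node (nat_lit 0xb10238f85) (.leaf (nat_lit 0xb10238d9d) (nat_lit 1796))
 (.node (nat_lit 0xb10238f8d) (.leaf (nat_lit 0xb10238f85) (nat_lit 2051))
 (.leaf (nat_lit 0xb10238f8d) (nat_lit 1795))
)))))))))) (.node (nat_lit 0xc086249e6) (.node (nat_lit 0xb1841416b) (.node (nat_lit 0xb1820c0a3) (.node (nat_lit 0xb10620ce1) (.node (nat_lit 0xb10614ac5) (.node (nat_lit 0xb1060c8f9) (.node (nat_lit 0xb106045c5) (.node (nat_lit 0xb106043cd) (.node (nat_lit 0xb106041dd) (.leaf (nat_lit 0xb106041c5) (nat_lit 1796))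
 (.leaf (nat_lit 0xb106041dd) (nat_lit 2048))
) (.node (nat_lit 0xb106043d5) (.leaf (nat_lit 0xb106043cd) (nat_lit 1540))
 (.leaf (nat_lit 0xb106043d5) (nat_lit 1792))
)) (.node (nat_lit 0xb106047cd) (.node (nat_lit 0xb106045dd) (.leaf (nat_lit 0xb106045c5) (nat_lit 2052))
 (.leaf (nat_lit 0xb106045dd) (nat_lit 2053))
) (.node (nat_lit 0xb106047d5) (.leaf (nat_lit 0xb106047cd) (nat_lit 1796))
 (.node (nat_lit 0xb1060c8e1) (.leaf (nat_lit 0xb106047d5) (nat_lit 2048))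
 (.leaf (nat_lit 0xb1060c8e1) (nat_lit 1540))
)))) (.node (nat_lit 0xb1060ccf9) (.node (nat_lit 0xb1060caf1) (.node (nat_lit 0xb1060cae9) (.leaf (nat_lit 0xb1060c8f9) (nat_lit 1792))
 (.leaf (nat_lit 0xb1060cae9) (nat_lit 1284))
) (.node (nat_lit 0xb1060cce1) (.leaf (nat_lit 0xb1060caf1) (nat_lit 1536))
 (.leaf (nat_lit 0xb1060cce1) (nat_lit 1796))
)) (.node (nat_lit 0xb1060cef1) (.node (nat_lit 0xb1060cee9) (.leaf (nat_lit 0xb1060ccf9) (nat_lit 1797))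
 (.leaf (nat_lit 0xb1060cee9) (nat_lit 1540))
) (.node (nat_lit 0xb106148cd) (.leaf (nat_lit 0xb1060cef1) (nat_lit 1792))
 (.node (nat_lit 0xb106148d5) (.leaf (nat_lit 0xb106148cd) (nat_lit 2053))
 (.leaf (nat_lit 0xb106148d5) (nat_lit 2053))
))))) (.node (nat_lit 0xb1061c3f9) (.node (nat_lit 0xb10614ec5) (.node (nat_lit 0xb10614ccd) (.node (nat_lit 0xb10614add) (.leaf (nat_lit 0xb10614ac5) (nat_lit 2053))
 (.leaf (nat_lit 0xb10614add) (nat_lit 1797))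
) (.node (nat_lit 0xb10614cd5) (.leaf (nat_lit 0xb10614ccd) (nat_lit 1797))
 (.leaf (nat_lit 0xb10614cd5) (nat_lit 2053))
)) (.node (nat_lit 0xb1061c1e9) (.node (nat_lit 0xb10614edd) (.leaf (nat_lit 0xb10614ec5) (nat_lit 2053))
 (.leaf (nat_lit 0xb10614edd) (nat_lit 2053))
) (.node (nat_lit 0xb1061c1f1) (.leaf (nat_lit 0xb1061c1e9) (nat_lit 1795))
 (.node (nat_lit 0xb1061c3e1) (.leaf (nat_lit 0xb1061c1f1) (nat_lit 2051))
 (.leaf (nat_lit 0xb1061c3e1) (nat_lit 2051))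
)))) (.node (nat_lit 0xb1061c7f9) (.node (nat_lit 0xb1061c5f1) (.node (nat_lit 0xb1061c5e9) (.leaf (nat_lit 0xb1061c3f9) (nat_lit 1795))
 (.leaf (nat_lit 0xb1061c5e9) (nat_lit 1539))
) (.node (nat_lit 0xb1061c7e1) (.leaf (nat_lit 0xb1061c5f1) (nat_lit 1795))
 (.leaf (nat_lit 0xb1061c7e1) (nat_lit 1795))
)) (.node (nat_lit 0xb106208f9) (.node (nat_lit 0xb106208e1) (.leaf (nat_lit 0xb1061c7f9) (nat_lit 2051))
 (.leaf (nat_lit 0xb106208e1) (nat_lit 1540))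
) (.node (nat_lit 0xb10620ae9) (.leaf (nat_lit 0xb106208f9) (nat_lit 1792))
 (.node (nat_lit 0xb10620af1) (.leaf (nat_lit 0xb10620ae9) (nat_lit 1284))
 (.leaf (nat_lit 0xb10620af1) (nat_lit 1536))
)))))) (.node (nat_lit 0xb106307e1) (.node (nat_lit 0xb106285dd) (.node (nat_lit 0xb106281c5) (.node (nat_lit 0xb10620ee9) (.node (nat_lit 0xb10620cf9) (.leaf (nat_lit 0xb10620ce1) (nat_lit 1796))
 (.leaf (nat_lit 0xb10620cf9) (nat_lit 1541))
) (.node (nat_lit 0xb10620ef1) (.leaf (nat_lit 0xb10620ee9) (nat_lit 1540))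
 (.leaf (nat_lit 0xb10620ef1) (nat_lit 1797))
)) (.node (nat_lit 0xb106283cd) (.node (nat_lit 0xb106281dd) (.leaf (nat_lit 0xb106281c5) (nat_lit 1796))
 (.leaf (nat_lit 0xb106281dd) (nat_lit 2048))
) (.node (nat_lit 0xb106283d5) (.leaf (nat_lit 0xb106283cd) (nat_lit 1540))
 (.node (nat_lit 0xb106285c5) (.leaf (nat_lit 0xb106283d5) (nat_lit 1792))
 (.leaf (nat_lit 0xb106285c5) (nat_lit 2052))
)))) (.node (nat_lit 0xb106301f1) (.node (nat_lit 0xb106287d5) (.node (nat_lit 0xb106287cd) (.leaf (nat_lit 0xb106285dd) (nat_lit 2051))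
 (.leaf (nat_lit 0xb106287cd) (nat_lit 1796))
) (.node (nat_lit 0xb106301e9) (.leaf (nat_lit 0xb106287d5) (nat_lit 2048))
 (.leaf (nat_lit 0xb106301e9) (nat_lit 1795))
)) (.node (nat_lit 0xb106303f9) (.node (nat_lit 0xb106303e1) (.leaf (nat_lit 0xb106301f1) (nat_lit 2052))
 (.leaf (nat_lit 0xb106303e1) (nat_lit 2051))
) (.node (nat_lit 0xb106305e9) (.leaf (nat_lit 0xb106303f9) (nat_lit 1796))
 (.node (nat_lit 0xb106305f1) (.leaf (nat_lit 0xb106305e9) (nat_lit 1539))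
 (.leaf (nat_lit 0xb106305f1) (nat_lit 1795))
))))) (.node (nat_lit 0xb10638edd) (.node (nat_lit 0xb10638ac5) (.node (nat_lit 0xb106388cd) (.node (nat_lit 0xb106307f9) (.leaf (nat_lit 0xb106307e1) (nat_lit 1795))
 (.leaf (nat_lit 0xb106307f9) (nat_lit 2051))
) (.node (nat_lit 0xb106388d5) (.leaf (nat_lit 0xb106388cd) (nat_lit 2051))
 (.leaf (nat_lit 0xb106388d5) (nat_lit 2053))
)) (.node (nat_lit 0xb10638ccd) (.node (nat_lit 0xb10638add) (.leaf (nat_lit 0xb10638ac5) (nat_lit 2053))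
 (.leaf (nat_lit 0xb10638add) (nat_lit 1797))
) (.node (nat_lit 0xb10638cd5) (.leaf (nat_lit 0xb10638ccd) (nat_lit 1795))
 (.node (nat_lit 0xb10638ec5) (.leaf (nat_lit 0xb10638cd5) (nat_lit 2051))
 (.leaf (nat_lit 0xb10638ec5) (nat_lit 2051))
)))) (.node (nat_lit 0xb1820429f) (.node (nat_lit 0xb1820408f) (.node (nat_lit 0xb18204087) (.leaf (nat_lit 0xb10638edd) (nat_lit 2053))
 (.leaf (nat_lit 0xb18204087) (nat_lit 1797))
) (.node (nat_lit 0xb18204297) (.leaf (nat_lit 0xb1820408f) (nat_lit 1541))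
 (.leaf (nat_lit 0xb18204297) (nat_lit 1794))
)) (.node (nat_lit 0xb1820449f) (.node (nat_lit 0xb18204497) (.leaf (nat_lit 0xb1820429f) (nat_lit 2050))
 (.leaf (nat_lit 0xb18204497) (nat_lit 2050))
) (.node (nat_lit 0xb18204687) (.leaf (nat_lit 0xb1820449f) (nat_lit 2052))
 (.node (nat_lit 0xb1820468f) (.leaf (nat_lit 0xb18204687) (nat_lit 2053))
 (.leaf (nat_lit 0xb1820468f) (nat_lit 1797))
))))))) (.node (nat_lit 0xb18228497) (.node (nat_lit 0xb1821cb87) (.node (nat_lit 0xb182149bb) (.node (nat_lit 0xb1820c4b3) (.node (nat_lit 0xb1820c2b3) (.node (nat_lit 0xb1820c0ab) (.leaf (nat_lit 0xb1820c0a3) (nat_lit 1541))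
 (.leaf (nat_lit 0xb1820c0ab) (nat_lit 1285))
) (.node (nat_lit 0xb1820c2bb) (.leaf (nat_lit 0xb1820c2b3) (nat_lit 1537))
 (.leaf (nat_lit 0xb1820c2bb) (nat_lit 1793))
)) (.node (nat_lit 0xb1820c6a3) (.node (nat_lit 0xb1820c4bb) (.leaf (nat_lit 0xb1820c4b3) (nat_lit 1793))
 (.leaf (nat_lit 0xb1820c4bb) (nat_lit 1796))
) (.node (nat_lit 0xb1820c6ab) (.leaf (nat_lit 0xb1820c6a3) (nat_lit 1797))
 (.node (nat_lit 0xb182149b3) (.leaf (nat_lit 0xb1820c6ab) (nat_lit 1541))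
 (.leaf (nat_lit 0xb182149b3) (nat_lit 1795))
)))) (.node (nat_lit 0xb18214dab) (.node (nat_lit 0xb18214bab) (.node (nat_lit 0xb18214ba3) (.leaf (nat_lit 0xb182149bb) (nat_lit 2051))
 (.leaf (nat_lit 0xb18214ba3) (nat_lit 2051))
) (.node (nat_lit 0xb18214da3) (.leaf (nat_lit 0xb18214bab) (nat_lit 1795))
 (.leaf (nat_lit 0xb18214da3) (nat_lit 1795))
)) (.node (nat_lit 0xb18214fbb) (.node (nat_lit 0xb18214fb3) (.leaf (nat_lit 0xb18214dab) (nat_lit 1539))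
 (.leaf (nat_lit 0xb18214fb3) (nat_lit 1539))
) (.node (nat_lit 0xb1821c997) (.leaf (nat_lit 0xb18214fbb) (nat_lit 1795))
 (.node (nat_lit 0xb1821c99f) (.leaf (nat_lit 0xb1821c997) (nat_lit 2052))
 (.leaf (nat_lit 0xb1821c99f) (nat_lit 2308))
))))) (.node (nat_lit 0xb182202bb) (.node (nat_lit 0xb1821cf97) (.node (nat_lit 0xb1821cd87) (.node (nat_lit 0xb1821cb8f) (.leaf (nat_lit 0xb1821cb87) (nat_lit 2052))
 (.leaf (nat_lit 0xb1821cb8f) (nat_lit 2051))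
) (.node (nat_lit 0xb1821cd8f) (.leaf (nat_lit 0xb1821cd87) (nat_lit 2051))
 (.leaf (nat_lit 0xb1821cd8f) (nat_lit 1795))
)) (.node (nat_lit 0xb182200a3) (.node (nat_lit 0xb1821cf9f) (.leaf (nat_lit 0xb1821cf97) (nat_lit 1796))
 (.leaf (nat_lit 0xb1821cf9f) (nat_lit 2052))
) (.node (nat_lit 0xb182200ab) (.leaf (nat_lit 0xb182200a3) (nat_lit 1541))
 (.node (nat_lit 0xb182202b3) (.leaf (nat_lit 0xb182200ab) (nat_lit 1285))
 (.leaf (nat_lit 0xb182202b3) (nat_lit 1282))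
)))) (.node (nat_lit 0xb182206ab) (.node (nat_lit 0xb182204bb) (.node (nat_lit 0xb182204b3) (.leaf (nat_lit 0xb182202bb) (nat_lit 1538))
 (.leaf (nat_lit 0xb182204b3) (nat_lit 1538))
) (.node (nat_lit 0xb182206a3) (.leaf (nat_lit 0xb182204bb) (nat_lit 1794))
 (.leaf (nat_lit 0xb182206a3) (nat_lit 1797))
)) (.node (nat_lit 0xb1822808f) (.node (nat_lit 0xb18228087) (.leaf (nat_lit 0xb182206ab) (nat_lit 1541))
 (.leaf (nat_lit 0xb18228087) (nat_lit 1797))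
) (.node (nat_lit 0xb18228297) (.leaf (nat_lit 0xb1822808f) (nat_lit 1541))
 (.node (nat_lit 0xb1822829f) (.leaf (nat_lit 0xb18228297) (nat_lit 2049))
 (.leaf (nat_lit 0xb1822829f) (nat_lit 2305))
)))))) (.node (nat_lit 0xb18238fb3) (.node (nat_lit 0xb18230d8f) (.node (nat_lit 0xb18230997) (.node (nat_lit 0xb18228687) (.node (nat_lit 0xb1822849f) (.leaf (nat_lit 0xb18228497) (nat_lit 2308))
 (.leaf (nat_lit 0xb1822849f) (nat_lit 2052))
) (.node (nat_lit 0xb1822868f) (.leaf (nat_lit 0xb18228687) (nat_lit 2053))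
 (.leaf (nat_lit 0xb1822868f) (nat_lit 1797))
)) (.node (nat_lit 0xb18230b87) (.node (nat_lit 0xb1823099f) (.leaf (nat_lit 0xb18230997) (nat_lit 2052))
 (.leaf (nat_lit 0xb1823099f) (nat_lit 2308))
) (.node (nat_lit 0xb18230b8f) (.leaf (nat_lit 0xb18230b87) (nat_lit 2052))
 (.node (nat_lit 0xb18230d87) (.leaf (nat_lit 0xb18230b8f) (nat_lit 2051))
 (.leaf (nat_lit 0xb18230d87) (nat_lit 2051))
)))) (.node (nat_lit 0xb182389bb) (.node (nat_lit 0xb18230f9f) (.node (nat_lit 0xb18230f97) (.leaf (nat_lit 0xb18230d8f) (nat_lit 1795))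
 (.leaf (nat_lit 0xb18230f97) (nat_lit 1796))
) (.node (nat_lit 0xb182389b3) (.leaf (nat_lit 0xb18230f9f) (nat_lit 2052))
 (.leaf (nat_lit 0xb182389b3) (nat_lit 2050))
)) (.node (nat_lit 0xb18238bab) (.node (nat_lit 0xb18238ba3) (.leaf (nat_lit 0xb182389bb) (nat_lit 2051))
 (.leaf (nat_lit 0xb18238ba3) (nat_lit 2051))
) (.node (nat_lit 0xb18238da3) (.leaf (nat_lit 0xb18238bab) (nat_lit 1795))
 (.node (nat_lit 0xb18238dab) (.leaf (nat_lit 0xb18238da3) (nat_lit 1795))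
 (.leaf (nat_lit 0xb18238dab) (nat_lit 1539))
))))) (.node (nat_lit 0xb18404757) (.node (nat_lit 0xb1840434f) (.node (nat_lit 0xb18404147) (.node (nat_lit 0xb18238fbb) (.leaf (nat_lit 0xb18238fb3) (nat_lit 1794))
 (.leaf (nat_lit 0xb18238fbb) (nat_lit 2050))
) (.node (nat_lit 0xb18404157) (.leaf (nat_lit 0xb18404147) (nat_lit 1796))
 (.leaf (nat_lit 0xb18404157) (nat_lit 2048))
)) (.node (nat_lit 0xb1840454f) (.node (nat_lit 0xb1840435f) (.leaf (nat_lit 0xb1840434f) (nat_lit 1540))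
 (.leaf (nat_lit 0xb1840435f) (nat_lit 1792))
) (.node (nat_lit 0xb1840455f) (.leaf (nat_lit 0xb1840454f) (nat_lit 1796))
 (.node (nat_lit 0xb18404747) (.leaf (nat_lit 0xb1840455f) (nat_lit 2050))
 (.leaf (nat_lit 0xb18404747) (nat_lit 2052))
)))) (.node (nat_lit 0xb1840ca7b) (.node (nat_lit 0xb1840c873) (.node (nat_lit 0xb1840c863) (.leaf (nat_lit 0xb18404757) (nat_lit 1794))
 (.leaf (nat_lit 0xb1840c863) (nat_lit 1540))
) (.node (nat_lit 0xb1840ca6b) (.leaf (nat_lit 0xb1840c873) (nat_lit 1792))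
 (.leaf (nat_lit 0xb1840ca6b) (nat_lit 1284))
)) (.node (nat_lit 0xb1840cc7b) (.node (nat_lit 0xb1840cc6b) (.leaf (nat_lit 0xb1840ca7b) (nat_lit 1536))
 (.leaf (nat_lit 0xb1840cc6b) (nat_lit 1540))
) (.node (nat_lit 0xb1840ce63) (.leaf (nat_lit 0xb1840cc7b) (nat_lit 1793))
 (.node (nat_lit 0xb1840ce73) (.leaf (nat_lit 0xb1840ce63) (nat_lit 1796))
 (.leaf (nat_lit 0xb1840ce73) (nat_lit 1537))
)))))))) (.node (nat_lit 0xc0841c86e) (.node (nat_lit 0xb18430c47) (.node (nat_lit 0xb18420a6b) (.node (nat_lit 0xb1841c85f) (.node (nat_lit 0xb18414563) (.node (nat_lit 0xb18414363) (.node (nat_lit 0xb1841417b) (.leaf (nat_lit 0xb1841416b) (nat_lit 1795))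
 (.leaf (nat_lit 0xb1841417b) (nat_lit 1795))
) (.node (nat_lit 0xb18414373) (.leaf (nat_lit 0xb18414363) (nat_lit 1795))
 (.leaf (nat_lit 0xb18414373) (nat_lit 1539))
)) (.node (nat_lit 0xb1841476b) (.node (nat_lit 0xb18414573) (.leaf (nat_lit 0xb18414563) (nat_lit 1795))
 (.leaf (nat_lit 0xb18414573) (nat_lit 1795))
) (.node (nat_lit 0xb1841477b) (.leaf (nat_lit 0xb1841476b) (nat_lit 1539))
 (.node (nat_lit 0xb1841c84f) (.leaf (nat_lit 0xb1841477b) (nat_lit 1795))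
 (.leaf (nat_lit 0xb1841c84f) (nat_lit 2051))
)))) (.node (nat_lit 0xb1841cc57) (.node (nat_lit 0xb1841ca57) (.node (nat_lit 0xb1841ca47) (.leaf (nat_lit 0xb1841c85f) (nat_lit 2053))
 (.leaf (nat_lit 0xb1841ca47) (nat_lit 2053))
) (.node (nat_lit 0xb1841cc47) (.leaf (nat_lit 0xb1841ca57) (nat_lit 1797))
 (.leaf (nat_lit 0xb1841cc47) (nat_lit 2051))
)) (.node (nat_lit 0xb1841ce5f) (.node (nat_lit 0xb1841ce4f) (.leaf (nat_lit 0xb1841cc57) (nat_lit 2053))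
 (.leaf (nat_lit 0xb1841ce4f) (nat_lit 1795))
) (.node (nat_lit 0xb18420863) (.leaf (nat_lit 0xb1841ce5f) (nat_lit 2051))
 (.node (nat_lit 0xb18420873) (.leaf (nat_lit 0xb18420863) (nat_lit 1540))
 (.leaf (nat_lit 0xb18420873) (nat_lit 1538))
))))) (.node (nat_lit 0xb1842835f) (.node (nat_lit 0xb18420e63) (.node (nat_lit 0xb18420c6b) (.node (nat_lit 0xb18420a7b) (.leaf (nat_lit 0xb18420a6b) (nat_lit 1284))
 (.leaf (nat_lit 0xb18420a7b) (nat_lit 1536))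
) (.node (nat_lit 0xb18420c7b) (.leaf (nat_lit 0xb18420c6b) (nat_lit 1540))
 (.leaf (nat_lit 0xb18420c7b) (nat_lit 1538))
)) (.node (nat_lit 0xb18428147) (.node (nat_lit 0xb18420e73) (.leaf (nat_lit 0xb18420e63) (nat_lit 1538))
 (.leaf (nat_lit 0xb18420e73) (nat_lit 1282))
) (.node (nat_lit 0xb18428157) (.leaf (nat_lit 0xb18428147) (nat_lit 1796))
 (.node (nat_lit 0xb1842834f) (.leaf (nat_lit 0xb18428157) (nat_lit 2048))
 (.leaf (nat_lit 0xb1842834f) (nat_lit 1540))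
)))) (.node (nat_lit 0xb18428757) (.node (nat_lit 0xb1842855f) (.node (nat_lit 0xb1842854f) (.leaf (nat_lit 0xb1842835f) (nat_lit 1792))
 (.leaf (nat_lit 0xb1842854f) (nat_lit 1796))
) (.node (nat_lit 0xb18428747) (.leaf (nat_lit 0xb1842855f) (nat_lit 2048))
 (.leaf (nat_lit 0xb18428747) (nat_lit 2052))
)) (.node (nat_lit 0xb1843085f) (.node (nat_lit 0xb1843084f) (.leaf (nat_lit 0xb18428757) (nat_lit 2049))
 (.leaf (nat_lit 0xb1843084f) (nat_lit 2051))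
) (.node (nat_lit 0xb18430a47) (.leaf (nat_lit 0xb1843085f) (nat_lit 2053))
 (.node (nat_lit 0xb18430a57) (.leaf (nat_lit 0xb18430a47) (nat_lit 2053))
 (.leaf (nat_lit 0xb18430a57) (nat_lit 1797))
)))))) (.node (nat_lit 0xc0840464e) (.node (nat_lit 0xb18438573) (.node (nat_lit 0xb1843816b) (.node (nat_lit 0xb18430e4f) (.node (nat_lit 0xb18430c57) (.leaf (nat_lit 0xb18430c47) (nat_lit 2051))
 (.leaf (nat_lit 0xb18430c57) (nat_lit 2053))
) (.node (nat_lit 0xb18430e5f) (.leaf (nat_lit 0xb18430e4f) (nat_lit 1795))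
 (.leaf (nat_lit 0xb18430e5f) (nat_lit 2051))
)) (.node (nat_lit 0xb18438363) (.node (nat_lit 0xb1843817b) (.leaf (nat_lit 0xb1843816b) (nat_lit 1795))
 (.leaf (nat_lit 0xb1843817b) (nat_lit 2050))
) (.node (nat_lit 0xb18438373) (.leaf (nat_lit 0xb18438363) (nat_lit 2051))
 (.node (nat_lit 0xb18438563) (.leaf (nat_lit 0xb18438373) (nat_lit 1794))
 (.leaf (nat_lit 0xb18438563) (nat_lit 1795))
)))) (.node (nat_lit 0xc08404056) (.node (nat_lit 0xb1843877b) (.node (nat_lit 0xb1843876b) (.leaf (nat_lit 0xb18438573) (nat_lit 2051))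
 (.leaf (nat_lit 0xb1843876b) (nat_lit 1539))
) (.node (nat_lit 0xc08404046) (.leaf (nat_lit 0xb1843877b) (nat_lit 1795))
 (.leaf (nat_lit 0xc08404046) (nat_lit 1536))
)) (.node (nat_lit 0xc08404256) (.node (nat_lit 0xc08404246) (.leaf (nat_lit 0xc08404056) (nat_lit 1285))
 (.leaf (nat_lit 0xc08404246) (nat_lit 1792))
) (.node (nat_lit 0xc0840444e) (.leaf (nat_lit 0xc08404256) (nat_lit 1541))
 (.node (nat_lit 0xc0840445e) (.leaf (nat_lit 0xc0840444e) (nat_lit 2308))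
 (.leaf (nat_lit 0xc0840445e) (nat_lit 2052))
))))) (.node (nat_lit 0xc0840ce56) (.node (nat_lit 0xc0840ca4e) (.node (nat_lit 0xc0840c84e) (.node (nat_lit 0xc0840465e) (.leaf (nat_lit 0xc0840464e) (nat_lit 2052))
 (.leaf (nat_lit 0xc0840465e) (nat_lit 2308))
) (.node (nat_lit 0xc0840c85e) (.leaf (nat_lit 0xc0840c84e) (nat_lit 2304))
 (.leaf (nat_lit 0xc0840c85e) (nat_lit 2052))
)) (.node (nat_lit 0xc0840cc46) (.node (nat_lit 0xc0840ca5e) (.leaf (nat_lit 0xc0840ca4e) (nat_lit 2048))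
 (.leaf (nat_lit 0xc0840ca5e) (nat_lit 1796))
) (.node (nat_lit 0xc0840cc56) (.leaf (nat_lit 0xc0840cc46) (nat_lit 2052))
 (.node (nat_lit 0xc0840ce46) (.leaf (nat_lit 0xc0840cc56) (nat_lit 2051))
 (.leaf (nat_lit 0xc0840ce46) (nat_lit 2051))
)))) (.node (nat_lit 0xc08414276) (.node (nat_lit 0xc08414076) (.node (nat_lit 0xc08414066) (.leaf (nat_lit 0xc0840ce56) (nat_lit 1795))
 (.leaf (nat_lit 0xc08414066) (nat_lit 1536))
) (.node (nat_lit 0xc08414266) (.leaf (nat_lit 0xc08414076) (nat_lit 1285))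
 (.leaf (nat_lit 0xc08414266) (nat_lit 1792))
)) (.node (nat_lit 0xc0841447e) (.node (nat_lit 0xc0841446e) (.leaf (nat_lit 0xc08414276) (nat_lit 1541))
 (.leaf (nat_lit 0xc0841446e) (nat_lit 2308))
) (.node (nat_lit 0xc0841466e) (.leaf (nat_lit 0xc0841447e) (nat_lit 2052))
 (.node (nat_lit 0xc0841467e) (.leaf (nat_lit 0xc0841466e) (nat_lit 2052))
 (.leaf (nat_lit 0xc0841467e) (nat_lit 2308))
))))))) (.node (nat_lit 0xc0843cc46) (.node (nat_lit 0xc0842ca6e) (.node (nat_lit 0xc08424076) (.node (nat_lit 0xc0841cc66) (.node (nat_lit 0xc0841ca6e) (.node (nat_lit 0xc0841c87e) (.leaf (nat_lit 0xc0841c86e) (nat_lit 2052))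
 (.leaf (nat_lit 0xc0841c87e) (nat_lit 2304))
) (.node (nat_lit 0xc0841ca7e) (.leaf (nat_lit 0xc0841ca6e) (nat_lit 2308))
 (.leaf (nat_lit 0xc0841ca7e) (nat_lit 2308))
)) (.node (nat_lit 0xc0841ce66) (.node (nat_lit 0xc0841cc76) (.leaf (nat_lit 0xc0841cc66) (nat_lit 1795))
 (.leaf (nat_lit 0xc0841cc76) (nat_lit 1539))
) (.node (nat_lit 0xc0841ce76) (.leaf (nat_lit 0xc0841ce66) (nat_lit 1539))
 (.node (nat_lit 0xc08424066) (.leaf (nat_lit 0xc0841ce76) (nat_lit 1283))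
 (.leaf (nat_lit 0xc08424066) (nat_lit 1280))
)))) (.node (nat_lit 0xc0842447e) (.node (nat_lit 0xc08424276) (.node (nat_lit 0xc08424266) (.leaf (nat_lit 0xc08424076) (nat_lit 1029))
 (.leaf (nat_lit 0xc08424266) (nat_lit 1536))
) (.node (nat_lit 0xc0842446e) (.leaf (nat_lit 0xc08424276) (nat_lit 1285))
 (.leaf (nat_lit 0xc0842446e) (nat_lit 2052))
)) (.node (nat_lit 0xc0842467e) (.node (nat_lit 0xc0842466e) (.leaf (nat_lit 0xc0842447e) (nat_lit 2052))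
 (.leaf (nat_lit 0xc0842466e) (nat_lit 1796))
) (.node (nat_lit 0xc0842c86e) (.leaf (nat_lit 0xc0842467e) (nat_lit 2048))
 (.node (nat_lit 0xc0842c87e) (.leaf (nat_lit 0xc0842c86e) (nat_lit 2308))
 (.leaf (nat_lit 0xc0842c87e) (nat_lit 2308))
))))) (.node (nat_lit 0xc08434256) (.node (nat_lit 0xc0842ce66) (.node (nat_lit 0xc0842cc66) (.node (nat_lit 0xc0842ca7e) (.leaf (nat_lit 0xc0842ca6e) (nat_lit 2304))
 (.leaf (nat_lit 0xc0842ca7e) (nat_lit 2052))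
) (.node (nat_lit 0xc0842cc76) (.leaf (nat_lit 0xc0842cc66) (nat_lit 2051))
 (.leaf (nat_lit 0xc0842cc76) (nat_lit 1795))
)) (.node (nat_lit 0xc08434046) (.node (nat_lit 0xc0842ce76) (.leaf (nat_lit 0xc0842ce66) (nat_lit 1795))
 (.leaf (nat_lit 0xc0842ce76) (nat_lit 1539))
) (.node (nat_lit 0xc08434056) (.leaf (nat_lit 0xc08434046) (nat_lit 1792))
 (.node (nat_lit 0xc08434246) (.leaf (nat_lit 0xc08434056) (nat_lit 1541))
 (.leaf (nat_lit 0xc08434246) (nat_lit 2048))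
)))) (.node (nat_lit 0xc0843465e) (.node (nat_lit 0xc0843445e) (.node (nat_lit 0xc0843444e) (.leaf (nat_lit 0xc08434256) (nat_lit 1797))
 (.leaf (nat_lit 0xc0843444e) (nat_lit 2304))
) (.node (nat_lit 0xc0843464e) (.leaf (nat_lit 0xc0843445e) (nat_lit 2052))
 (.leaf (nat_lit 0xc0843464e) (nat_lit 2308))
)) (.node (nat_lit 0xc0843c85e) (.node (nat_lit 0xc0843c84e) (.leaf (nat_lit 0xc0843465e) (nat_lit 2308))
 (.leaf (nat_lit 0xc0843c84e) (nat_lit 2308))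
) (.node (nat_lit 0xc0843ca4e) (.leaf (nat_lit 0xc0843c85e) (nat_lit 2308))
 (.node (nat_lit 0xc0843ca5e) (.leaf (nat_lit 0xc0843ca4e) (nat_lit 2304))
 (.leaf (nat_lit 0xc0843ca5e) (nat_lit 2052))
)))))) (.node (nat_lit 0xc0860cfc6) (.node (nat_lit 0xc086045d6) (.node (nat_lit 0xc086041c6) (.node (nat_lit 0xc0843ce46) (.node (nat_lit 0xc0843cc56) (.leaf (nat_lit 0xc0843cc46) (nat_lit 2051))
 (.leaf (nat_lit 0xc0843cc56) (nat_lit 1795))
) (.node (nat_lit 0xc0843ce56) (.leaf (nat_lit 0xc0843ce46) (nat_lit 1795))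
 (.leaf (nat_lit 0xc0843ce56) (nat_lit 1539))
)) (.node (nat_lit 0xc086043c6) (.node (nat_lit 0xc086041de) (.leaf (nat_lit 0xc086041c6) (nat_lit 2052))
 (.leaf (nat_lit 0xc086041de) (nat_lit 2309))
) (.node (nat_lit 0xc086043de) (.leaf (nat_lit 0xc086043c6) (nat_lit 2308))
 (.node (nat_lit 0xc086045ce) (.leaf (nat_lit 0xc086043de) (nat_lit 2053))
 (.leaf (nat_lit 0xc086045ce) (nat_lit 1536))
)))) (.node (nat_lit 0xc0860c9d6) (.node (nat_lit 0xc086047d6) (.node (nat_lit 0xc086047ce) (.leaf (nat_lit 0xc086045d6) (nat_lit 1284))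
 (.leaf (nat_lit 0xc086047ce) (nat_lit 1792))
) (.node (nat_lit 0xc0860c9ce) (.leaf (nat_lit 0xc086047d6) (nat_lit 1540))
 (.leaf (nat_lit 0xc0860c9ce) (nat_lit 2052))
)) (.node (nat_lit 0xc0860cbd6) (.node (nat_lit 0xc0860cbce) (.leaf (nat_lit 0xc0860c9d6) (nat_lit 2051))
 (.leaf (nat_lit 0xc0860cbce) (nat_lit 2051))
) (.node (nat_lit 0xc0860cdc6) (.leaf (nat_lit 0xc0860cbd6) (nat_lit 1795))
 (.node (nat_lit 0xc0860cdde) (.leaf (nat_lit 0xc0860cdc6) (nat_lit 2053))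
 (.leaf (nat_lit 0xc0860cdde) (nat_lit 1797))
))))) (.node (nat_lit 0xc08614ff6) (.node (nat_lit 0xc08614be6) (.node (nat_lit 0xc086149e6) (.node (nat_lit 0xc0860cfde) (.leaf (nat_lit 0xc0860cfc6) (nat_lit 2309))
 (.leaf (nat_lit 0xc0860cfde) (nat_lit 2053))
) (.node (nat_lit 0xc086149fe) (.leaf (nat_lit 0xc086149e6) (nat_lit 2052))
 (.leaf (nat_lit 0xc086149fe) (nat_lit 2309))
)) (.node (nat_lit 0xc08614dee) (.node (nat_lit 0xc08614bfe) (.leaf (nat_lit 0xc08614be6) (nat_lit 2308))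
 (.leaf (nat_lit 0xc08614bfe) (nat_lit 2053))
) (.node (nat_lit 0xc08614df6) (.leaf (nat_lit 0xc08614dee) (nat_lit 1536))
 (.node (nat_lit 0xc08614fee) (.leaf (nat_lit 0xc08614df6) (nat_lit 1284))
 (.leaf (nat_lit 0xc08614fee) (nat_lit 1792))
)))) (.node (nat_lit 0xc0861c3f6) (.node (nat_lit 0xc0861c1f6) (.node (nat_lit 0xc0861c1ee) (.leaf (nat_lit 0xc08614ff6) (nat_lit 1540))
 (.leaf (nat_lit 0xc0861c1ee) (nat_lit 1795))
) (.node (nat_lit 0xc0861c3ee) (.leaf (nat_lit 0xc0861c1f6) (nat_lit 1539))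
 (.leaf (nat_lit 0xc0861c3ee) (nat_lit 1539))
)) (.node (nat_lit 0xc0861c5fe) (.node (nat_lit 0xc0861c5e6) (.leaf (nat_lit 0xc0861c3f6) (nat_lit 1283))
 (.leaf (nat_lit 0xc0861c5e6) (nat_lit 2308))
) (.node (nat_lit 0xc0861c7e6) (.leaf (nat_lit 0xc0861c5fe) (nat_lit 2309))
 (.node (nat_lit 0xc0861c7fe) (.leaf (nat_lit 0xc0861c7e6) (nat_lit 2052))
 (.leaf (nat_lit 0xc0861c7fe) (nat_lit 2304))
))))))))) (.node (nat_lit 0xc106341c1) (.node (nat_lit 0xc1022c9b1) (.node (nat_lit 0xc10204581) (.node (nat_lit 0xc086343c6) (.node (nat_lit 0xc0862c1f6) (.node (nat_lit 0xc08624dee) (.node (nat_lit 0xc08624be6) (.node (nat_lit 0xc086249fe) (.leaf (nat_lit 0xc086249e6) (nat_lit 1796))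
 (.leaf (nat_lit 0xc086249fe) (nat_lit 2048))
) (.node (nat_lit 0xc08624bfe) (.leaf (nat_lit 0xc08624be6) (nat_lit 2052))
 (.leaf (nat_lit 0xc08624bfe) (nat_lit 2053))
)) (.node (nat_lit 0xc08624fee) (.node (nat_lit 0xc08624df6) (.leaf (nat_lit 0xc08624dee) (nat_lit 1280))
 (.leaf (nat_lit 0xc08624df6) (nat_lit 1028))
) (.node (nat_lit 0xc08624ff6) (.leaf (nat_lit 0xc08624fee) (nat_lit 1536))
 (.node (nat_lit 0xc0862c1ee) (.leaf (nat_lit 0xc08624ff6) (nat_lit 1284))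
 (.leaf (nat_lit 0xc0862c1ee) (nat_lit 2051))
)))) (.node (nat_lit 0xc0862c5fe) (.node (nat_lit 0xc0862c3f6) (.node (nat_lit 0xc0862c3ee) (.leaf (nat_lit 0xc0862c1f6) (nat_lit 1795))
 (.leaf (nat_lit 0xc0862c3ee) (nat_lit 1795))
) (.node (nat_lit 0xc0862c5e6) (.leaf (nat_lit 0xc0862c3f6) (nat_lit 1539))
 (.leaf (nat_lit 0xc0862c5e6) (nat_lit 2309))
)) (.node (nat_lit 0xc0862c7fe) (.node (nat_lit 0xc0862c7e6) (.leaf (nat_lit 0xc0862c5fe) (nat_lit 2053))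
 (.leaf (nat_lit 0xc0862c7e6) (nat_lit 2308))
) (.node (nat_lit 0xc086341c6) (.leaf (nat_lit 0xc0862c7fe) (nat_lit 2309))
 (.node (nat_lit 0xc086341de) (.leaf (nat_lit 0xc086341c6) (nat_lit 2308))
 (.leaf (nat_lit 0xc086341de) (nat_lit 2309))
))))) (.node (nat_lit 0xc0863cbd6) (.node (nat_lit 0xc086347ce) (.node (nat_lit 0xc086345ce) (.node (nat_lit 0xc086343de) (.leaf (nat_lit 0xc086343c6) (nat_lit 2309))
 (.leaf (nat_lit 0xc086343de) (nat_lit 2053))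
) (.node (nat_lit 0xc086345d6) (.leaf (nat_lit 0xc086345ce) (nat_lit 1792))
 (.leaf (nat_lit 0xc086345d6) (nat_lit 1540))
)) (.node (nat_lit 0xc0863c9ce) (.node (nat_lit 0xc086347d6) (.leaf (nat_lit 0xc086347ce) (nat_lit 2048))
 (.leaf (nat_lit 0xc086347d6) (nat_lit 1796))
) (.node (nat_lit 0xc0863c9d6) (.leaf (nat_lit 0xc0863c9ce) (nat_lit 2051))
 (.node (nat_lit 0xc0863cbce) (.leaf (nat_lit 0xc0863c9d6) (nat_lit 1795))
 (.leaf (nat_lit 0xc0863cbce) (nat_lit 1795))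
)))) (.node (nat_lit 0xc0863cfde) (.node (nat_lit 0xc0863cdde) (.node (nat_lit 0xc0863cdc6) (.leaf (nat_lit 0xc0863cbd6) (nat_lit 1539))
 (.leaf (nat_lit 0xc0863cdc6) (nat_lit 2309))
) (.node (nat_lit 0xc0863cfc6) (.leaf (nat_lit 0xc0863cdde) (nat_lit 2053))
 (.leaf (nat_lit 0xc0863cfc6) (nat_lit 2308))
)) (.node (nat_lit 0xc10204189) (.node (nat_lit 0xc10204181) (.leaf (nat_lit 0xc0863cfde) (nat_lit 2309))
 (.leaf (nat_lit 0xc10204181) (nat_lit 1797))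
) (.node (nat_lit 0xc10204391) (.leaf (nat_lit 0xc10204189) (nat_lit 2053))
 (.node (nat_lit 0xc10204399) (.leaf (nat_lit 0xc10204391) (nat_lit 2308))
 (.leaf (nat_lit 0xc10204399) (nat_lit 2052))
)))))) (.node (nat_lit 0xc10214f91) (.node (nat_lit 0xc1020c5b9) (.node (nat_lit 0xc1020c1b1) (.node (nat_lit 0xc10204791) (.node (nat_lit 0xc10204589) (.leaf (nat_lit 0xc10204581) (nat_lit 1026))
 (.leaf (nat_lit 0xc10204589) (nat_lit 1282))
) (.node (nat_lit 0xc10204799) (.leaf (nat_lit 0xc10204791) (nat_lit 2052))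
 (.leaf (nat_lit 0xc10204799) (nat_lit 2308))
)) (.node (nat_lit 0xc1020c3a1) (.node (nat_lit 0xc1020c1b9) (.leaf (nat_lit 0xc1020c1b1) (nat_lit 2052))
 (.leaf (nat_lit 0xc1020c1b9) (nat_lit 2308))
) (.node (nat_lit 0xc1020c3a9) (.leaf (nat_lit 0xc1020c3a1) (nat_lit 2050))
 (.node (nat_lit 0xc1020c5b1) (.leaf (nat_lit 0xc1020c3a9) (nat_lit 1794))
 (.leaf (nat_lit 0xc1020c5b1) (nat_lit 2309))
)))) (.node (nat_lit 0xc10214989) (.node (nat_lit 0xc1020c7a9) (.node (nat_lit 0xc1020c7a1) (.leaf (nat_lit 0xc1020c5b9) (nat_lit 2053))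
 (.leaf (nat_lit 0xc1020c7a1) (nat_lit 1794))
) (.node (nat_lit 0xc10214981) (.leaf (nat_lit 0xc1020c7a9) (nat_lit 1538))
 (.leaf (nat_lit 0xc10214981) (nat_lit 1797))
)) (.node (nat_lit 0xc10214b99) (.node (nat_lit 0xc10214b91) (.leaf (nat_lit 0xc10214989) (nat_lit 2053))
 (.leaf (nat_lit 0xc10214b91) (nat_lit 2308))
) (.node (nat_lit 0xc10214d81) (.leaf (nat_lit 0xc10214b99) (nat_lit 2052))
 (.node (nat_lit 0xc10214d89) (.leaf (nat_lit 0xc10214d81) (nat_lit 1025))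
 (.leaf (nat_lit 0xc10214d89) (nat_lit 1281))
))))) (.node (nat_lit 0xc1021cfa9) (.node (nat_lit 0xc1021cba1) (.node (nat_lit 0xc1021c9b1) (.node (nat_lit 0xc10214f99) (.leaf (nat_lit 0xc10214f91) (nat_lit 2052))
 (.leaf (nat_lit 0xc10214f99) (nat_lit 2308))
) (.node (nat_lit 0xc1021c9b9) (.leaf (nat_lit 0xc1021c9b1) (nat_lit 2053))
 (.leaf (nat_lit 0xc1021c9b9) (nat_lit 1797))
)) (.node (nat_lit 0xc1021cdb1) (.node (nat_lit 0xc1021cba9) (.leaf (nat_lit 0xc1021cba1) (nat_lit 2052))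
 (.leaf (nat_lit 0xc1021cba9) (nat_lit 2308))
) (.node (nat_lit 0xc1021cdb9) (.leaf (nat_lit 0xc1021cdb1) (nat_lit 1797))
 (.node (nat_lit 0xc1021cfa1) (.leaf (nat_lit 0xc1021cdb9) (nat_lit 1541))
 (.leaf (nat_lit 0xc1021cfa1) (nat_lit 2306))
)))) (.node (nat_lit 0xc10224b99) (.node (nat_lit 0xc10224989) (.node (nat_lit 0xc10224981) (.leaf (nat_lit 0xc1021cfa9) (nat_lit 2050))
 (.leaf (nat_lit 0xc10224981) (nat_lit 1541))
) (.node (nat_lit 0xc10224b91) (.leaf (nat_lit 0xc10224989) (nat_lit 1797))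
 (.leaf (nat_lit 0xc10224b91) (nat_lit 2052))
)) (.node (nat_lit 0xc10224d89) (.node (nat_lit 0xc10224d81) (.leaf (nat_lit 0xc10224b99) (nat_lit 1796))
 (.leaf (nat_lit 0xc10224d81) (nat_lit 770))
) (.node (nat_lit 0xc10224f91) (.leaf (nat_lit 0xc10224d89) (nat_lit 1026))
 (.node (nat_lit 0xc10224f99) (.leaf (nat_lit 0xc10224f91) (nat_lit 2052))
 (.leaf (nat_lit 0xc10224f99) (nat_lit 2052))
))))))) (.node (nat_lit 0xc1060cde9) (.node (nat_lit 0xc1023c3a1) (.node (nat_lit 0xc10234189) (.node (nat_lit 0xc1022cdb1) (.node (nat_lit 0xc1022cba1) (.node (nat_lit 0xc1022c9b9) (.leaf (nat_lit 0xc1022c9b1) (nat_lit 2309))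
 (.leaf (nat_lit 0xc1022c9b9) (nat_lit 2053))
) (.node (nat_lit 0xc1022cba9) (.leaf (nat_lit 0xc1022cba1) (nat_lit 2306))
 (.leaf (nat_lit 0xc1022cba9) (nat_lit 2050))
)) (.node (nat_lit 0xc1022cfa1) (.node (nat_lit 0xc1022cdb9) (.leaf (nat_lit 0xc1022cdb1) (nat_lit 2053))
 (.leaf (nat_lit 0xc1022cdb9) (nat_lit 1797))
) (.node (nat_lit 0xc1022cfa9) (.leaf (nat_lit 0xc1022cfa1) (nat_lit 2050))
 (.node (nat_lit 0xc10234181) (.leaf (nat_lit 0xc1022cfa9) (nat_lit 1794))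
 (.leaf (nat_lit 0xc10234181) (nat_lit 2053))
)))) (.node (nat_lit 0xc10234589) (.node (nat_lit 0xc10234399) (.node (nat_lit 0xc10234391) (.leaf (nat_lit 0xc10234189) (nat_lit 2309))
 (.leaf (nat_lit 0xc10234391) (nat_lit 2308))
) (.node (nat_lit 0xc10234581) (.leaf (nat_lit 0xc10234399) (nat_lit 2308))
 (.leaf (nat_lit 0xc10234581) (nat_lit 1281))
)) (.node (nat_lit 0xc10234799) (.node (nat_lit 0xc10234791) (.leaf (nat_lit 0xc10234589) (nat_lit 1537))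
 (.leaf (nat_lit 0xc10234791) (nat_lit 2052))
) (.node (nat_lit 0xc1023c1b1) (.leaf (nat_lit 0xc10234799) (nat_lit 2308))
 (.node (nat_lit 0xc1023c1b9) (.leaf (nat_lit 0xc1023c1b1) (nat_lit 2309))
 (.leaf (nat_lit 0xc1023c1b9) (nat_lit 2053))
))))) (.node (nat_lit 0xc106043d1) (.node (nat_lit 0xc1023c7a1) (.node (nat_lit 0xc1023c5b1) (.node (nat_lit 0xc1023c3a9) (.leaf (nat_lit 0xc1023c3a1) (nat_lit 2306))
 (.leaf (nat_lit 0xc1023c3a9) (nat_lit 2050))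
) (.node (nat_lit 0xc1023c5b9) (.leaf (nat_lit 0xc1023c5b1) (nat_lit 2053))
 (.leaf (nat_lit 0xc1023c5b9) (nat_lit 1797))
)) (.node (nat_lit 0xc106041c1) (.node (nat_lit 0xc1023c7a9) (.leaf (nat_lit 0xc1023c7a1) (nat_lit 2050))
 (.leaf (nat_lit 0xc1023c7a9) (nat_lit 1794))
) (.node (nat_lit 0xc106041d9) (.leaf (nat_lit 0xc106041c1) (nat_lit 1796))
 (.node (nat_lit 0xc106043c9) (.leaf (nat_lit 0xc106041d9) (nat_lit 2048))
 (.leaf (nat_lit 0xc106043c9) (nat_lit 2052))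
)))) (.node (nat_lit 0xc106047d1) (.node (nat_lit 0xc106045d9) (.node (nat_lit 0xc106045c1) (.leaf (nat_lit 0xc106043d1) (nat_lit 2053))
 (.leaf (nat_lit 0xc106045c1) (nat_lit 1540))
) (.node (nat_lit 0xc106047c9) (.leaf (nat_lit 0xc106045d9) (nat_lit 1792))
 (.leaf (nat_lit 0xc106047c9) (nat_lit 1796))
)) (.node (nat_lit 0xc1060c9f1) (.node (nat_lit 0xc1060c9e9) (.leaf (nat_lit 0xc106047d1) (nat_lit 2048))
 (.leaf (nat_lit 0xc1060c9e9) (nat_lit 1794))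
) (.node (nat_lit 0xc1060cbe1) (.leaf (nat_lit 0xc1060c9f1) (nat_lit 2050))
 (.node (nat_lit 0xc1060cbf9) (.leaf (nat_lit 0xc1060cbe1) (nat_lit 2050))
 (.leaf (nat_lit 0xc1060cbf9) (nat_lit 2052))
)))))) (.node (nat_lit 0xc1061c7e1) (.node (nat_lit 0xc10614dd9) (.node (nat_lit 0xc106149c1) (.node (nat_lit 0xc1060cfe1) (.node (nat_lit 0xc1060cdf1) (.leaf (nat_lit 0xc1060cde9) (nat_lit 1538))
 (.leaf (nat_lit 0xc1060cdf1) (nat_lit 1794))
) (.node (nat_lit 0xc1060cff9) (.leaf (nat_lit 0xc1060cfe1) (nat_lit 1794))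
 (.leaf (nat_lit 0xc1060cff9) (nat_lit 2050))
)) (.node (nat_lit 0xc10614bc9) (.node (nat_lit 0xc106149d9) (.leaf (nat_lit 0xc106149c1) (nat_lit 1796))
 (.leaf (nat_lit 0xc106149d9) (nat_lit 2048))
) (.node (nat_lit 0xc10614bd1) (.leaf (nat_lit 0xc10614bc9) (nat_lit 2052))
 (.node (nat_lit 0xc10614dc1) (.leaf (nat_lit 0xc10614bd1) (nat_lit 2053))
 (.leaf (nat_lit 0xc10614dc1) (nat_lit 1540))
)))) (.node (nat_lit 0xc1061c1f1) (.node (nat_lit 0xc10614fd1) (.node (nat_lit 0xc10614fc9) (.leaf (nat_lit 0xc10614dd9) (nat_lit 1792))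
 (.leaf (nat_lit 0xc10614fc9) (nat_lit 1796))
) (.node (nat_lit 0xc1061c1e9) (.leaf (nat_lit 0xc10614fd1) (nat_lit 2048))
 (.leaf (nat_lit 0xc1061c1e9) (nat_lit 2048))
)) (.node (nat_lit 0xc1061c3f9) (.node (nat_lit 0xc1061c3e1) (.leaf (nat_lit 0xc1061c1f1) (nat_lit 1796))
 (.leaf (nat_lit 0xc1061c3e1) (nat_lit 1792))
) (.node (nat_lit 0xc1061c5e9) (.leaf (nat_lit 0xc1061c3f9) (nat_lit 1540))
 (.node (nat_lit 0xc1061c5f1) (.leaf (nat_lit 0xc1061c5e9) (nat_lit 2050))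
 (.leaf (nat_lit 0xc1061c5f1) (nat_lit 2052))
))))) (.node (nat_lit 0xc10624fd1) (.node (nat_lit 0xc10624bc9) (.node (nat_lit 0xc106249c1) (.node (nat_lit 0xc1061c7f9) (.leaf (nat_lit 0xc1061c7e1) (nat_lit 2048))
 (.leaf (nat_lit 0xc1061c7f9) (nat_lit 1796))
) (.node (nat_lit 0xc106249d9) (.leaf (nat_lit 0xc106249c1) (nat_lit 1540))
 (.leaf (nat_lit 0xc106249d9) (nat_lit 1792))
)) (.node (nat_lit 0xc10624dc1) (.node (nat_lit 0xc10624bd1) (.leaf (nat_lit 0xc10624bc9) (nat_lit 1796))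
 (.leaf (nat_lit 0xc10624bd1) (nat_lit 2048))
) (.node (nat_lit 0xc10624dd9) (.leaf (nat_lit 0xc10624dc1) (nat_lit 1284))
 (.node (nat_lit 0xc10624fc9) (.leaf (nat_lit 0xc10624dd9) (nat_lit 1536))
 (.leaf (nat_lit 0xc10624fc9) (nat_lit 1540))
)))) (.node (nat_lit 0xc1062c3f9) (.node (nat_lit 0xc1062c1f1) (.node (nat_lit 0xc1062c1e9) (.leaf (nat_lit 0xc10624fd1) (nat_lit 1792))
 (.leaf (nat_lit 0xc1062c1e9) (nat_lit 2050))
) (.node (nat_lit 0xc1062c3e1) (.leaf (nat_lit 0xc1062c1f1) (nat_lit 2052))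
 (.leaf (nat_lit 0xc1062c3e1) (nat_lit 2048))
)) (.node (nat_lit 0xc1062c5f1) (.node (nat_lit 0xc1062c5e9) (.leaf (nat_lit 0xc1062c3f9) (nat_lit 1796))
 (.leaf (nat_lit 0xc1062c5e9) (nat_lit 1794))
) (.node (nat_lit 0xc1062c7e1) (.leaf (nat_lit 0xc1062c5f1) (nat_lit 2050))
 (.node (nat_lit 0xc1062c7f9) (.leaf (nat_lit 0xc1062c7e1) (nat_lit 2050))
 (.leaf (nat_lit 0xc1062c7f9) (nat_lit 2052))
)))))))) (.node (nat_lit 0xc1823c1b7) (.node (nat_lit 0xc18214db7) (.node (nat_lit 0xc18204397) (.node (nat_lit 0xc1063c9f1) (.node (nat_lit 0xc106345c1) (.node (nat_lit 0xc106343c9) (.node (nat_lit 0xc106341d9) (.leaf (nat_lit 0xc106341c1) (nat_lit 2052))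
 (.leaf (nat_lit 0xc106341d9) (nat_lit 2309))
) (.node (nat_lit 0xc106343d1) (.leaf (nat_lit 0xc106343c9) (nat_lit 2308))
 (.leaf (nat_lit 0xc106343d1) (nat_lit 2053))
)) (.node (nat_lit 0xc106347c9) (.node (nat_lit 0xc106345d9) (.leaf (nat_lit 0xc106345c1) (nat_lit 1796))
 (.leaf (nat_lit 0xc106345d9) (nat_lit 2048))
) (.node (nat_lit 0xc106347d1) (.leaf (nat_lit 0xc106347c9) (nat_lit 2052))
 (.node (nat_lit 0xc1063c9e9) (.leaf (nat_lit 0xc106347d1) (nat_lit 2304))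
 (.leaf (nat_lit 0xc1063c9e9) (nat_lit 2050))
)))) (.node (nat_lit 0xc1063cdf1) (.node (nat_lit 0xc1063cbf9) (.node (nat_lit 0xc1063cbe1) (.leaf (nat_lit 0xc1063c9f1) (nat_lit 2052))
 (.leaf (nat_lit 0xc1063cbe1) (nat_lit 2048))
) (.node (nat_lit 0xc1063cde9) (.leaf (nat_lit 0xc1063cbf9) (nat_lit 1796))
 (.leaf (nat_lit 0xc1063cde9) (nat_lit 1794))
)) (.node (nat_lit 0xc1063cff9) (.node (nat_lit 0xc1063cfe1) (.leaf (nat_lit 0xc1063cdf1) (nat_lit 2050))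
 (.leaf (nat_lit 0xc1063cfe1) (nat_lit 2050))
) (.node (nat_lit 0xc18204187) (.leaf (nat_lit 0xc1063cff9) (nat_lit 2052))
 (.node (nat_lit 0xc1820418f) (.leaf (nat_lit 0xc18204187) (nat_lit 2052))
 (.leaf (nat_lit 0xc1820418f) (nat_lit 2050))
))))) (.node (nat_lit 0xc1820c3af) (.node (nat_lit 0xc18204787) (.node (nat_lit 0xc18204597) (.node (nat_lit 0xc1820439f) (.leaf (nat_lit 0xc18204397) (nat_lit 1797))
 (.leaf (nat_lit 0xc1820439f) (nat_lit 2053))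
) (.node (nat_lit 0xc1820459f) (.leaf (nat_lit 0xc18204597) (nat_lit 1541))
 (.leaf (nat_lit 0xc1820459f) (nat_lit 1797))
)) (.node (nat_lit 0xc1820c1b7) (.node (nat_lit 0xc1820478f) (.leaf (nat_lit 0xc18204787) (nat_lit 2050))
 (.leaf (nat_lit 0xc1820478f) (nat_lit 1794))
) (.node (nat_lit 0xc1820c1bf) (.leaf (nat_lit 0xc1820c1b7) (nat_lit 1795))
 (.node (nat_lit 0xc1820c3a7) (.leaf (nat_lit 0xc1820c1bf) (nat_lit 2051))
 (.leaf (nat_lit 0xc1820c3a7) (nat_lit 2051))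
)))) (.node (nat_lit 0xc1820c7bf) (.node (nat_lit 0xc1820c5af) (.node (nat_lit 0xc1820c5a7) (.leaf (nat_lit 0xc1820c3af) (nat_lit 2307))
 (.leaf (nat_lit 0xc1820c5a7) (nat_lit 2309))
) (.node (nat_lit 0xc1820c7b7) (.leaf (nat_lit 0xc1820c5af) (nat_lit 2053))
 (.leaf (nat_lit 0xc1820c7b7) (nat_lit 1539))
)) (.node (nat_lit 0xc182149af) (.node (nat_lit 0xc182149a7) (.leaf (nat_lit 0xc1820c7bf) (nat_lit 1795))
 (.leaf (nat_lit 0xc182149a7) (nat_lit 2052))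
) (.node (nat_lit 0xc18214bb7) (.leaf (nat_lit 0xc182149af) (nat_lit 2050))
 (.node (nat_lit 0xc18214bbf) (.leaf (nat_lit 0xc18214bb7) (nat_lit 1797))
 (.leaf (nat_lit 0xc18214bbf) (nat_lit 2053))
)))))) (.node (nat_lit 0xc18224fa7) (.node (nat_lit 0xc1821cd8f) (.node (nat_lit 0xc1821c997) (.node (nat_lit 0xc18214fa7) (.node (nat_lit 0xc18214dbf) (.leaf (nat_lit 0xc18214db7) (nat_lit 1541))
 (.leaf (nat_lit 0xc18214dbf) (nat_lit 1797))
) (.node (nat_lit 0xc18214faf) (.leaf (nat_lit 0xc18214fa7) (nat_lit 2050))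
 (.leaf (nat_lit 0xc18214faf) (nat_lit 1794))
)) (.node (nat_lit 0xc1821cb87) (.node (nat_lit 0xc1821c99f) (.leaf (nat_lit 0xc1821c997) (nat_lit 2308))
 (.leaf (nat_lit 0xc1821c99f) (nat_lit 2052))
) (.node (nat_lit 0xc1821cb8f) (.leaf (nat_lit 0xc1821cb87) (nat_lit 2053))
 (.node (nat_lit 0xc1821cd87) (.leaf (nat_lit 0xc1821cb8f) (nat_lit 1797))
 (.leaf (nat_lit 0xc1821cd87) (nat_lit 1797))
)))) (.node (nat_lit 0xc182249af) (.node (nat_lit 0xc1821cf9f) (.node (nat_lit 0xc1821cf97) (.leaf (nat_lit 0xc1821cd8f) (nat_lit 1541))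
 (.leaf (nat_lit 0xc1821cf97) (nat_lit 2051))
) (.node (nat_lit 0xc182249a7) (.leaf (nat_lit 0xc1821cf9f) (nat_lit 2307))
 (.leaf (nat_lit 0xc182249a7) (nat_lit 1796))
)) (.node (nat_lit 0xc18224bbf) (.node (nat_lit 0xc18224bb7) (.leaf (nat_lit 0xc182249af) (nat_lit 2052))
 (.leaf (nat_lit 0xc18224bb7) (nat_lit 1541))
) (.node (nat_lit 0xc18224db7) (.leaf (nat_lit 0xc18224bbf) (nat_lit 1797))
 (.node (nat_lit 0xc18224dbf) (.leaf (nat_lit 0xc18224db7) (nat_lit 1285))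
 (.leaf (nat_lit 0xc18224dbf) (nat_lit 1541))
))))) (.node (nat_lit 0xc1822cf9f) (.node (nat_lit 0xc1822cb87) (.node (nat_lit 0xc1822c997) (.node (nat_lit 0xc18224faf) (.leaf (nat_lit 0xc18224fa7) (nat_lit 2050))
 (.leaf (nat_lit 0xc18224faf) (nat_lit 1794))
) (.node (nat_lit 0xc1822c99f) (.leaf (nat_lit 0xc1822c997) (nat_lit 2051))
 (.leaf (nat_lit 0xc1822c99f) (nat_lit 2307))
)) (.node (nat_lit 0xc1822cd87) (.node (nat_lit 0xc1822cb8f) (.leaf (nat_lit 0xc1822cb87) (nat_lit 2309))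
 (.leaf (nat_lit 0xc1822cb8f) (nat_lit 2053))
) (.node (nat_lit 0xc1822cd8f) (.leaf (nat_lit 0xc1822cd87) (nat_lit 2053))
 (.node (nat_lit 0xc1822cf97) (.leaf (nat_lit 0xc1822cd8f) (nat_lit 1797))
 (.leaf (nat_lit 0xc1822cf97) (nat_lit 1795))
)))) (.node (nat_lit 0xc1823439f) (.node (nat_lit 0xc1823418f) (.node (nat_lit 0xc18234187) (.leaf (nat_lit 0xc1822cf9f) (nat_lit 2051))
 (.leaf (nat_lit 0xc18234187) (nat_lit 2307))
) (.node (nat_lit 0xc18234397) (.leaf (nat_lit 0xc1823418f) (nat_lit 2051))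
 (.leaf (nat_lit 0xc18234397) (nat_lit 2053))
)) (.node (nat_lit 0xc1823459f) (.node (nat_lit 0xc18234597) (.leaf (nat_lit 0xc1823439f) (nat_lit 2309))
 (.leaf (nat_lit 0xc18234597) (nat_lit 1797))
) (.node (nat_lit 0xc18234787) (.leaf (nat_lit 0xc1823459f) (nat_lit 2053))
 (.node (nat_lit 0xc1823478f) (.leaf (nat_lit 0xc18234787) (nat_lit 2051))
 (.leaf (nat_lit 0xc1823478f) (nat_lit 1795))
))))))) (.node (nat_lit 0xc1841cc47) (.node (nat_lit 0xc1840ca67) (.node (nat_lit 0xc18404057) (.node (nat_lit 0xc1823c5a7) (.node (nat_lit 0xc1823c3a7) (.node (nat_lit 0xc1823c1bf) (.leaf (nat_lit 0xc1823c1b7) (nat_lit 2051))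
 (.leaf (nat_lit 0xc1823c1bf) (nat_lit 2307))
) (.node (nat_lit 0xc1823c3af) (.leaf (nat_lit 0xc1823c3a7) (nat_lit 2309))
 (.leaf (nat_lit 0xc1823c3af) (nat_lit 2053))
)) (.node (nat_lit 0xc1823c7b7) (.node (nat_lit 0xc1823c5af) (.leaf (nat_lit 0xc1823c5a7) (nat_lit 2053))
 (.leaf (nat_lit 0xc1823c5af) (nat_lit 1797))
) (.node (nat_lit 0xc1823c7bf) (.leaf (nat_lit 0xc1823c7b7) (nat_lit 1795))
 (.node (nat_lit 0xc18404047) (.leaf (nat_lit 0xc1823c7bf) (nat_lit 2051))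
 (.leaf (nat_lit 0xc18404047) (nat_lit 1792))
)))) (.node (nat_lit 0xc1840445f) (.node (nat_lit 0xc1840425f) (.node (nat_lit 0xc1840424f) (.leaf (nat_lit 0xc18404057) (nat_lit 1540))
 (.leaf (nat_lit 0xc1840424f) (nat_lit 2048))
) (.node (nat_lit 0xc1840444f) (.leaf (nat_lit 0xc1840425f) (nat_lit 1796))
 (.leaf (nat_lit 0xc1840444f) (nat_lit 1794))
)) (.node (nat_lit 0xc18404657) (.node (nat_lit 0xc18404647) (.leaf (nat_lit 0xc1840445f) (nat_lit 2052))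
 (.leaf (nat_lit 0xc18404647) (nat_lit 2050))
) (.node (nat_lit 0xc1840c86f) (.leaf (nat_lit 0xc18404657) (nat_lit 1796))
 (.node (nat_lit 0xc1840c87f) (.leaf (nat_lit 0xc1840c86f) (nat_lit 2051))
 (.leaf (nat_lit 0xc1840c87f) (nat_lit 1795))
))))) (.node (nat_lit 0xc1841427f) (.node (nat_lit 0xc1840ce6f) (.node (nat_lit 0xc1840cc67) (.node (nat_lit 0xc1840ca77) (.leaf (nat_lit 0xc1840ca67) (nat_lit 1795))
 (.leaf (nat_lit 0xc1840ca77) (nat_lit 1539))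
) (.node (nat_lit 0xc1840cc77) (.leaf (nat_lit 0xc1840cc67) (nat_lit 2051))
 (.leaf (nat_lit 0xc1840cc77) (nat_lit 1795))
)) (.node (nat_lit 0xc18414067) (.node (nat_lit 0xc1840ce7f) (.leaf (nat_lit 0xc1840ce6f) (nat_lit 2052))
 (.leaf (nat_lit 0xc1840ce7f) (nat_lit 2051))
) (.node (nat_lit 0xc18414077) (.leaf (nat_lit 0xc18414067) (nat_lit 1792))
 (.node (nat_lit 0xc1841426f) (.leaf (nat_lit 0xc18414077) (nat_lit 1540))
 (.leaf (nat_lit 0xc1841426f) (nat_lit 2048))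
)))) (.node (nat_lit 0xc18414677) (.node (nat_lit 0xc1841447f) (.node (nat_lit 0xc1841446f) (.leaf (nat_lit 0xc1841427f) (nat_lit 1796))
 (.leaf (nat_lit 0xc1841446f) (nat_lit 1794))
) (.node (nat_lit 0xc18414667) (.leaf (nat_lit 0xc1841447f) (nat_lit 2052))
 (.leaf (nat_lit 0xc18414667) (nat_lit 2050))
)) (.node (nat_lit 0xc1841c85f) (.node (nat_lit 0xc1841c84f) (.leaf (nat_lit 0xc18414677) (nat_lit 1796))
 (.leaf (nat_lit 0xc1841c84f) (nat_lit 1796))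
) (.node (nat_lit 0xc1841ca47) (.leaf (nat_lit 0xc1841c85f) (nat_lit 2048))
 (.node (nat_lit 0xc1841ca57) (.leaf (nat_lit 0xc1841ca47) (nat_lit 2052))
 (.leaf (nat_lit 0xc1841ca57) (nat_lit 2051))
)))))) (.node (nat_lit 0xc1842ce4f) (.node (nat_lit 0xc1842447f) (.node (nat_lit 0xc18424067) (.node (nat_lit 0xc1841ce4f) (.node (nat_lit 0xc1841cc57) (.leaf (nat_lit 0xc1841cc47) (nat_lit 1796))
 (.leaf (nat_lit 0xc1841cc57) (nat_lit 2048))
) (.node (nat_lit 0xc1841ce5f) (.leaf (nat_lit 0xc1841ce4f) (nat_lit 1540))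
 (.leaf (nat_lit 0xc1841ce5f) (nat_lit 1792))
)) (.node (nat_lit 0xc1842426f) (.node (nat_lit 0xc18424077) (.leaf (nat_lit 0xc18424067) (nat_lit 1536))
 (.leaf (nat_lit 0xc18424077) (nat_lit 1284))
) (.node (nat_lit 0xc1842427f) (.leaf (nat_lit 0xc1842426f) (nat_lit 1792))
 (.node (nat_lit 0xc1842446f) (.leaf (nat_lit 0xc1842427f) (nat_lit 1540))
 (.leaf (nat_lit 0xc1842446f) (nat_lit 1794))
)))) (.node (nat_lit 0xc1842c85f) (.node (nat_lit 0xc18424677) (.node (nat_lit 0xc18424667) (.leaf (nat_lit 0xc1842447f) (nat_lit 1796))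
 (.leaf (nat_lit 0xc18424667) (nat_lit 1792))
) (.node (nat_lit 0xc1842c84f) (.leaf (nat_lit 0xc18424677) (nat_lit 1540))
 (.leaf (nat_lit 0xc1842c84f) (nat_lit 2052))
)) (.node (nat_lit 0xc1842ca57) (.node (nat_lit 0xc1842ca47) (.leaf (nat_lit 0xc1842c85f) (nat_lit 2051))
 (.leaf (nat_lit 0xc1842ca47) (nat_lit 2051))
) (.node (nat_lit 0xc1842cc47) (.leaf (nat_lit 0xc1842ca57) (nat_lit 1795))
 (.node (nat_lit 0xc1842cc57) (.leaf (nat_lit 0xc1842cc47) (nat_lit 2052))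
 (.leaf (nat_lit 0xc1842cc57) (nat_lit 2051))
))))) (.node (nat_lit 0xc18434657) (.node (nat_lit 0xc1843424f) (.node (nat_lit 0xc18434047) (.node (nat_lit 0xc1842ce5f) (.leaf (nat_lit 0xc1842ce4f) (nat_lit 1796))
 (.leaf (nat_lit 0xc1842ce5f) (nat_lit 2048))
) (.node (nat_lit 0xc18434057) (.leaf (nat_lit 0xc18434047) (nat_lit 2048))
 (.leaf (nat_lit 0xc18434057) (nat_lit 1796))
)) (.node (nat_lit 0xc1843444f) (.node (nat_lit 0xc1843425f) (.leaf (nat_lit 0xc1843424f) (nat_lit 2051))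
 (.leaf (nat_lit 0xc1843425f) (nat_lit 2052))
) (.node (nat_lit 0xc1843445f) (.leaf (nat_lit 0xc1843444f) (nat_lit 1795))
 (.node (nat_lit 0xc18434647) (.leaf (nat_lit 0xc1843445f) (nat_lit 2051))
 (.leaf (nat_lit 0xc18434647) (nat_lit 2051))
)))) (.node (nat_lit 0xc1843ca77) (.node (nat_lit 0xc1843c87f) (.node (nat_lit 0xc1843c86f) (.leaf (nat_lit 0xc18434657) (nat_lit 2052))
 (.leaf (nat_lit 0xc1843c86f) (nat_lit 2052))
) (.node (nat_lit 0xc1843ca67) (.leaf (nat_lit 0xc1843c87f) (nat_lit 2051))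
 (.leaf (nat_lit 0xc1843ca67) (nat_lit 2051))
)) (.node (nat_lit 0xc1843cc77) (.node (nat_lit 0xc1843cc67) (.leaf (nat_lit 0xc1843ca77) (nat_lit 1795))
 (.leaf (nat_lit 0xc1843cc67) (nat_lit 2052))
) (.node (nat_lit 0xc1843ce6f) (.leaf (nat_lit 0xc1843cc77) (nat_lit 2051))
 (.node (nat_lit 0xc1843ce7f) (.leaf (nat_lit 0xc1843ce6f) (nat_lit 1796))
 (.leaf (nat_lit 0xc1843ce7f) (nat_lit 2048))
))))))))))) (.node (nat_lit 0xe106040c5) (.node (nat_lit 0xd182208a3) (.node (nat_lit 0xd10214881) (.node (nat_lit 0xd0860c8ce) (.node (nat_lit 0xd0842046a) (.node (nat_lit 0xd08414262) (.node (nat_lit 0xd0840c95e) (.node (nat_lit 0xd0840444e) (.node (nat_lit 0xd08404246) (.node (nat_lit 0xd08404056) (.leaf (nat_lit 0xd08404046) (nat_lit 1536))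
 (.leaf (nat_lit 0xd08404056) (nat_lit 1285))
) (.node (nat_lit 0xd08404256) (.leaf (nat_lit 0xd08404246) (nat_lit 1792))
 (.leaf (nat_lit 0xd08404256) (nat_lit 1541))
)) (.node (nat_lit 0xd0840464e) (.node (nat_lit 0xd0840445e) (.leaf (nat_lit 0xd0840444e) (nat_lit 2308))
 (.leaf (nat_lit 0xd0840445e) (nat_lit 2052))
) (.node (nat_lit 0xd0840465e) (.leaf (nat_lit 0xd0840464e) (nat_lit 2052))
 (.node (nat_lit 0xd0840c94e) (.leaf (nat_lit 0xd0840465e) (nat_lit 2308))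
 (.leaf (nat_lit 0xd0840c94e) (nat_lit 2052))
)))) (.node (nat_lit 0xd0840cd56) (.node (nat_lit 0xd0840cb5e) (.node (nat_lit 0xd0840cb4e) (.leaf (nat_lit 0xd0840c95e) (nat_lit 2052))
 (.leaf (nat_lit 0xd0840cb4e) (nat_lit 2048))
) (.node (nat_lit 0xd0840cd46) (.leaf (nat_lit 0xd0840cb5e) (nat_lit 1796))
 (.leaf (nat_lit 0xd0840cd46) (nat_lit 2051))
)) (.node (nat_lit 0xd0840cf56) (.node (nat_lit 0xd0840cf46) (.leaf (nat_lit 0xd0840cd56) (nat_lit 1795))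
 (.leaf (nat_lit 0xd0840cf46) (nat_lit 1795))
) (.node (nat_lit 0xd08414062) (.leaf (nat_lit 0xd0840cf56) (nat_lit 1539))
 (.node (nat_lit 0xd08414072) (.leaf (nat_lit 0xd08414062) (nat_lit 1280))
 (.leaf (nat_lit 0xd08414072) (nat_lit 1029))
))))) (.node (nat_lit 0xd0841cb7a) (.node (nat_lit 0xd0841466a) (.node (nat_lit 0xd0841446a) (.node (nat_lit 0xd08414272) (.leaf (nat_lit 0xd08414262) (nat_lit 1536))
 (.leaf (nat_lit 0xd08414272) (nat_lit 1285))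
) (.node (nat_lit 0xd0841447a) (.leaf (nat_lit 0xd0841446a) (nat_lit 2052))
 (.leaf (nat_lit 0xd0841447a) (nat_lit 1796))
)) (.node (nat_lit 0xd0841c96a) (.node (nat_lit 0xd0841467a) (.leaf (nat_lit 0xd0841466a) (nat_lit 1796))
 (.leaf (nat_lit 0xd0841467a) (nat_lit 2052))
) (.node (nat_lit 0xd0841c97a) (.leaf (nat_lit 0xd0841c96a) (nat_lit 2052))
 (.node (nat_lit 0xd0841cb6a) (.leaf (nat_lit 0xd0841c97a) (nat_lit 2051))
 (.leaf (nat_lit 0xd0841cb6a) (nat_lit 2051))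
)))) (.node (nat_lit 0xd0841cf72) (.node (nat_lit 0xd0841cd72) (.node (nat_lit 0xd0841cd62) (.leaf (nat_lit 0xd0841cb7a) (nat_lit 1795))
 (.leaf (nat_lit 0xd0841cd62) (nat_lit 1795))
) (.node (nat_lit 0xd0841cf62) (.leaf (nat_lit 0xd0841cd72) (nat_lit 1539))
 (.leaf (nat_lit 0xd0841cf62) (nat_lit 1539))
)) (.node (nat_lit 0xd08420072) (.node (nat_lit 0xd08420062) (.leaf (nat_lit 0xd0841cf72) (nat_lit 1283))
 (.leaf (nat_lit 0xd08420062) (nat_lit 1280))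
) (.node (nat_lit 0xd08420262) (.leaf (nat_lit 0xd08420072) (nat_lit 1029))
 (.node (nat_lit 0xd08420272) (.leaf (nat_lit 0xd08420262) (nat_lit 1536))
 (.leaf (nat_lit 0xd08420272) (nat_lit 1285))
)))))) (.node (nat_lit 0xd0843064e) (.node (nat_lit 0xd08428d72) (.node (nat_lit 0xd0842896a) (.node (nat_lit 0xd0842066a) (.node (nat_lit 0xd0842047a) (.leaf (nat_lit 0xd0842046a) (nat_lit 1792))
 (.leaf (nat_lit 0xd0842047a) (nat_lit 1540))
) (.node (nat_lit 0xd0842067a) (.leaf (nat_lit 0xd0842066a) (nat_lit 1796))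
 (.leaf (nat_lit 0xd0842067a) (nat_lit 1796))
)) (.node (nat_lit 0xd08428b6a) (.node (nat_lit 0xd0842897a) (.leaf (nat_lit 0xd0842896a) (nat_lit 2052))
 (.leaf (nat_lit 0xd0842897a) (nat_lit 2308))
) (.node (nat_lit 0xd08428b7a) (.leaf (nat_lit 0xd08428b6a) (nat_lit 2308))
 (.node (nat_lit 0xd08428d62) (.leaf (nat_lit 0xd08428b7a) (nat_lit 2052))
 (.leaf (nat_lit 0xd08428d62) (nat_lit 1795))
)))) (.node (nat_lit 0xd08430056) (.node (nat_lit 0xd08428f72) (.node (nat_lit 0xd08428f62) (.leaf (nat_lit 0xd08428d72) (nat_lit 1539))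
 (.leaf (nat_lit 0xd08428f62) (nat_lit 1539))
) (.node (nat_lit 0xd08430046) (.leaf (nat_lit 0xd08428f72) (nat_lit 1283))
 (.leaf (nat_lit 0xd08430046) (nat_lit 1536))
)) (.node (nat_lit 0xd08430256) (.node (nat_lit 0xd08430246) (.leaf (nat_lit 0xd08430056) (nat_lit 1285))
 (.leaf (nat_lit 0xd08430246) (nat_lit 1792))
) (.node (nat_lit 0xd0843044e) (.leaf (nat_lit 0xd08430256) (nat_lit 1541))
 (.node (nat_lit 0xd0843045e) (.leaf (nat_lit 0xd0843044e) (nat_lit 2308))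
 (.leaf (nat_lit 0xd0843045e) (nat_lit 2052))
))))) (.node (nat_lit 0xd08438f56) (.node (nat_lit 0xd08438b4e) (.node (nat_lit 0xd0843894e) (.node (nat_lit 0xd0843065e) (.leaf (nat_lit 0xd0843064e) (nat_lit 2052))
 (.leaf (nat_lit 0xd0843065e) (nat_lit 2308))
) (.node (nat_lit 0xd0843895e) (.leaf (nat_lit 0xd0843894e) (nat_lit 2304))
 (.leaf (nat_lit 0xd0843895e) (nat_lit 2052))
)) (.node (nat_lit 0xd08438d46) (.node (nat_lit 0xd08438b5e) (.leaf (nat_lit 0xd08438b4e) (nat_lit 2048))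
 (.leaf (nat_lit 0xd08438b5e) (nat_lit 1796))
) (.node (nat_lit 0xd08438d56) (.leaf (nat_lit 0xd08438d46) (nat_lit 2051))
 (.node (nat_lit 0xd08438f46) (.leaf (nat_lit 0xd08438d56) (nat_lit 1795))
 (.leaf (nat_lit 0xd08438f46) (nat_lit 1795))
)))) (.node (nat_lit 0xd086043de) (.node (nat_lit 0xd086041de) (.node (nat_lit 0xd086041c6) (.leaf (nat_lit 0xd08438f56) (nat_lit 1539))
 (.leaf (nat_lit 0xd086041c6) (nat_lit 2052))
) (.node (nat_lit 0xd086043c6) (.leaf (nat_lit 0xd086041de) (nat_lit 2309))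
 (.leaf (nat_lit 0xd086043c6) (nat_lit 2308))
)) (.node (nat_lit 0xd086045d6) (.node (nat_lit 0xd086045ce) (.leaf (nat_lit 0xd086043de) (nat_lit 2053))
 (.leaf (nat_lit 0xd086045ce) (nat_lit 1536))
) (.node (nat_lit 0xd086047ce) (.leaf (nat_lit 0xd086045d6) (nat_lit 1284))
 (.node (nat_lit 0xd086047d6) (.leaf (nat_lit 0xd086047ce) (nat_lit 1792))
 (.leaf (nat_lit 0xd086047d6) (nat_lit 1540))
))))))) (.node (nat_lit 0xd086285e2) (.node (nat_lit 0xd0861c3ea) (.node (nat_lit 0xd086148fa) (.node (nat_lit 0xd0860ccc6) (.node (nat_lit 0xd0860cace) (.node (nat_lit 0xd0860c8d6) (.leaf (nat_lit 0xd0860c8ce) (nat_lit 2051))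
 (.leaf (nat_lit 0xd0860c8d6) (nat_lit 1795))
) (.node (nat_lit 0xd0860cad6) (.leaf (nat_lit 0xd0860cace) (nat_lit 1795))
 (.leaf (nat_lit 0xd0860cad6) (nat_lit 1539))
)) (.node (nat_lit 0xd0860cec6) (.node (nat_lit 0xd0860ccde) (.leaf (nat_lit 0xd0860ccc6) (nat_lit 2053))
 (.leaf (nat_lit 0xd0860ccde) (nat_lit 1797))
) (.node (nat_lit 0xd0860cede) (.leaf (nat_lit 0xd0860cec6) (nat_lit 2309))
 (.node (nat_lit 0xd086148e2) (.leaf (nat_lit 0xd0860cede) (nat_lit 2053))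
 (.leaf (nat_lit 0xd086148e2) (nat_lit 1796))
)))) (.node (nat_lit 0xd08614cf2) (.node (nat_lit 0xd08614afa) (.node (nat_lit 0xd08614ae2) (.leaf (nat_lit 0xd086148fa) (nat_lit 2053))
 (.leaf (nat_lit 0xd08614ae2) (nat_lit 2052))
) (.node (nat_lit 0xd08614cea) (.leaf (nat_lit 0xd08614afa) (nat_lit 1797))
 (.leaf (nat_lit 0xd08614cea) (nat_lit 1280))
)) (.node (nat_lit 0xd08614ef2) (.node (nat_lit 0xd08614eea) (.leaf (nat_lit 0xd08614cf2) (nat_lit 1028))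
 (.leaf (nat_lit 0xd08614eea) (nat_lit 1536))
) (.node (nat_lit 0xd0861c1ea) (.leaf (nat_lit 0xd08614ef2) (nat_lit 1284))
 (.node (nat_lit 0xd0861c1f2) (.leaf (nat_lit 0xd0861c1ea) (nat_lit 1795))
 (.leaf (nat_lit 0xd0861c1f2) (nat_lit 1539))
))))) (.node (nat_lit 0xd08620afa) (.node (nat_lit 0xd0861c7e2) (.node (nat_lit 0xd0861c5e2) (.node (nat_lit 0xd0861c3f2) (.leaf (nat_lit 0xd0861c3ea) (nat_lit 1539))
 (.leaf (nat_lit 0xd0861c3f2) (nat_lit 1283))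
) (.node (nat_lit 0xd0861c5fa) (.leaf (nat_lit 0xd0861c5e2) (nat_lit 2051))
 (.leaf (nat_lit 0xd0861c5fa) (nat_lit 1795))
)) (.node (nat_lit 0xd086208e2) (.node (nat_lit 0xd0861c7fa) (.leaf (nat_lit 0xd0861c7e2) (nat_lit 2052))
 (.leaf (nat_lit 0xd0861c7fa) (nat_lit 2051))
) (.node (nat_lit 0xd086208fa) (.leaf (nat_lit 0xd086208e2) (nat_lit 1796))
 (.node (nat_lit 0xd08620ae2) (.leaf (nat_lit 0xd086208fa) (nat_lit 1797))
 (.leaf (nat_lit 0xd08620ae2) (nat_lit 1797))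
)))) (.node (nat_lit 0xd08620ef2) (.node (nat_lit 0xd08620cf2) (.node (nat_lit 0xd08620cea) (.leaf (nat_lit 0xd08620afa) (nat_lit 1541))
 (.leaf (nat_lit 0xd08620cea) (nat_lit 1280))
) (.node (nat_lit 0xd08620eea) (.leaf (nat_lit 0xd08620cf2) (nat_lit 1028))
 (.leaf (nat_lit 0xd08620eea) (nat_lit 1536))
)) (.node (nat_lit 0xd086281f2) (.node (nat_lit 0xd086281ea) (.leaf (nat_lit 0xd08620ef2) (nat_lit 1284))
 (.leaf (nat_lit 0xd086281ea) (nat_lit 1795))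
) (.node (nat_lit 0xd086283ea) (.leaf (nat_lit 0xd086281f2) (nat_lit 1539))
 (.node (nat_lit 0xd086283f2) (.leaf (nat_lit 0xd086283ea) (nat_lit 1539))
 (.leaf (nat_lit 0xd086283f2) (nat_lit 1283))
)))))) (.node (nat_lit 0xd08638ec6) (.node (nat_lit 0xd086305d6) (.node (nat_lit 0xd086301c6) (.node (nat_lit 0xd086287e2) (.node (nat_lit 0xd086285fa) (.leaf (nat_lit 0xd086285e2) (nat_lit 2308))
 (.leaf (nat_lit 0xd086285fa) (nat_lit 2053))
) (.node (nat_lit 0xd086287fa) (.leaf (nat_lit 0xd086287e2) (nat_lit 2052))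
 (.leaf (nat_lit 0xd086287fa) (nat_lit 2309))
)) (.node (nat_lit 0xd086303c6) (.node (nat_lit 0xd086301de) (.leaf (nat_lit 0xd086301c6) (nat_lit 2052))
 (.leaf (nat_lit 0xd086301de) (nat_lit 2309))
) (.node (nat_lit 0xd086303de) (.leaf (nat_lit 0xd086303c6) (nat_lit 2308))
 (.node (nat_lit 0xd086305ce) (.leaf (nat_lit 0xd086303de) (nat_lit 2053))
 (.leaf (nat_lit 0xd086305ce) (nat_lit 1536))
)))) (.node (nat_lit 0xd086388d6) (.node (nat_lit 0xd086307d6) (.node (nat_lit 0xd086307ce) (.leaf (nat_lit 0xd086305d6) (nat_lit 1284))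
 (.leaf (nat_lit 0xd086307ce) (nat_lit 1792))
) (.node (nat_lit 0xd086388ce) (.leaf (nat_lit 0xd086307d6) (nat_lit 1540))
 (.leaf (nat_lit 0xd086388ce) (nat_lit 2051))
)) (.node (nat_lit 0xd08638ad6) (.node (nat_lit 0xd08638ace) (.leaf (nat_lit 0xd086388d6) (nat_lit 1795))
 (.leaf (nat_lit 0xd08638ace) (nat_lit 1795))
) (.node (nat_lit 0xd08638cc6) (.leaf (nat_lit 0xd08638ad6) (nat_lit 1539))
 (.node (nat_lit 0xd08638cde) (.leaf (nat_lit 0xd08638cc6) (nat_lit 2053))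
 (.leaf (nat_lit 0xd08638cde) (nat_lit 1797))
))))) (.node (nat_lit 0xd10204799) (.node (nat_lit 0xd10204391) (.node (nat_lit 0xd10204181) (.node (nat_lit 0xd08638ede) (.leaf (nat_lit 0xd08638ec6) (nat_lit 2309))
 (.leaf (nat_lit 0xd08638ede) (nat_lit 2053))
) (.node (nat_lit 0xd10204189) (.leaf (nat_lit 0xd10204181) (nat_lit 1797))
 (.leaf (nat_lit 0xd10204189) (nat_lit 2053))
)) (.node (nat_lit 0xd10204581) (.node (nat_lit 0xd10204399) (.leaf (nat_lit 0xd10204391) (nat_lit 2051))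
 (.leaf (nat_lit 0xd10204399) (nat_lit 2052))
) (.node (nat_lit 0xd10204589) (.leaf (nat_lit 0xd10204581) (nat_lit 1027))
 (.node (nat_lit 0xd10204791) (.leaf (nat_lit 0xd10204589) (nat_lit 1283))
 (.leaf (nat_lit 0xd10204791) (nat_lit 1795))
)))) (.node (nat_lit 0xd1020c3ad) (.node (nat_lit 0xd1020c1bd) (.node (nat_lit 0xd1020c1b5) (.leaf (nat_lit 0xd10204799) (nat_lit 2051))
 (.leaf (nat_lit 0xd1020c1b5) (nat_lit 2052))
) (.node (nat_lit 0xd1020c3a5) (.leaf (nat_lit 0xd1020c1bd) (nat_lit 2053))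
 (.leaf (nat_lit 0xd1020c3a5) (nat_lit 2052))
)) (.node (nat_lit 0xd1020c5bd) (.node (nat_lit 0xd1020c5b5) (.leaf (nat_lit 0xd1020c3ad) (nat_lit 2052))
 (.leaf (nat_lit 0xd1020c5b5) (nat_lit 2053))
) (.node (nat_lit 0xd1020c7a5) (.leaf (nat_lit 0xd1020c5bd) (nat_lit 1797))
 (.node (nat_lit 0xd1020c7ad) (.leaf (nat_lit 0xd1020c7a5) (nat_lit 2052))
 (.leaf (nat_lit 0xd1020c7ad) (nat_lit 1796))
)))))))) (.node (nat_lit 0xd1061c1ed) (.node (nat_lit 0xd10230581) (.node (nat_lit 0xd10220a91) (.node (nat_lit 0xd1021c8bd) (.node (nat_lit 0xd10214c81) (.node (nat_lit 0xd10214a91) (.node (nat_lit 0xd10214889) (.leaf (nat_lit 0xd10214881) (nat_lit 1541))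
 (.leaf (nat_lit 0xd10214889) (nat_lit 1797))
) (.node (nat_lit 0xd10214a99) (.leaf (nat_lit 0xd10214a91) (nat_lit 2052))
 (.leaf (nat_lit 0xd10214a99) (nat_lit 1796))
)) (.node (nat_lit 0xd10214e91) (.node (nat_lit 0xd10214c89) (.leaf (nat_lit 0xd10214c81) (nat_lit 770))
 (.leaf (nat_lit 0xd10214c89) (nat_lit 1026))
) (.node (nat_lit 0xd10214e99) (.leaf (nat_lit 0xd10214e91) (nat_lit 1796))
 (.node (nat_lit 0xd1021c8b5) (.leaf (nat_lit 0xd10214e99) (nat_lit 2052))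
 (.leaf (nat_lit 0xd1021c8b5) (nat_lit 2053))
)))) (.node (nat_lit 0xd1021ccbd) (.node (nat_lit 0xd1021caad) (.node (nat_lit 0xd1021caa5) (.leaf (nat_lit 0xd1021c8bd) (nat_lit 1797))
 (.leaf (nat_lit 0xd1021caa5) (nat_lit 2052))
) (.node (nat_lit 0xd1021ccb5) (.leaf (nat_lit 0xd1021caad) (nat_lit 2308))
 (.leaf (nat_lit 0xd1021ccb5) (nat_lit 1797))
)) (.node (nat_lit 0xd1021cead) (.node (nat_lit 0xd1021cea5) (.leaf (nat_lit 0xd1021ccbd) (nat_lit 1541))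
 (.leaf (nat_lit 0xd1021cea5) (nat_lit 2306))
) (.node (nat_lit 0xd10220881) (.leaf (nat_lit 0xd1021cead) (nat_lit 2050))
 (.node (nat_lit 0xd10220889) (.leaf (nat_lit 0xd10220881) (nat_lit 1541))
 (.leaf (nat_lit 0xd10220889) (nat_lit 1797))
))))) (.node (nat_lit 0xd10228aad) (.node (nat_lit 0xd10220e91) (.node (nat_lit 0xd10220c81) (.node (nat_lit 0xd10220a99) (.leaf (nat_lit 0xd10220a91) (nat_lit 1796))
 (.leaf (nat_lit 0xd10220a99) (nat_lit 1796))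
) (.node (nat_lit 0xd10220c89) (.leaf (nat_lit 0xd10220c81) (nat_lit 770))
 (.leaf (nat_lit 0xd10220c89) (nat_lit 1026))
)) (.node (nat_lit 0xd102288b5) (.node (nat_lit 0xd10220e99) (.leaf (nat_lit 0xd10220e91) (nat_lit 1540))
 (.leaf (nat_lit 0xd10220e99) (nat_lit 1796))
) (.node (nat_lit 0xd102288bd) (.leaf (nat_lit 0xd102288b5) (nat_lit 2053))
 (.node (nat_lit 0xd10228aa5) (.leaf (nat_lit 0xd102288bd) (nat_lit 1797))
 (.leaf (nat_lit 0xd10228aa5) (nat_lit 2052))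
)))) (.node (nat_lit 0xd10228ead) (.node (nat_lit 0xd10228cbd) (.node (nat_lit 0xd10228cb5) (.leaf (nat_lit 0xd10228aad) (nat_lit 2050))
 (.leaf (nat_lit 0xd10228cb5) (nat_lit 1797))
) (.node (nat_lit 0xd10228ea5) (.leaf (nat_lit 0xd10228cbd) (nat_lit 1541))
 (.leaf (nat_lit 0xd10228ea5) (nat_lit 2050))
)) (.node (nat_lit 0xd10230189) (.node (nat_lit 0xd10230181) (.leaf (nat_lit 0xd10228ead) (nat_lit 1794))
 (.leaf (nat_lit 0xd10230181) (nat_lit 1797))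
) (.node (nat_lit 0xd10230391) (.leaf (nat_lit 0xd10230189) (nat_lit 2053))
 (.node (nat_lit 0xd10230399) (.leaf (nat_lit 0xd10230391) (nat_lit 2308))
 (.leaf (nat_lit 0xd10230399) (nat_lit 2052))
)))))) (.node (nat_lit 0xd106047c9) (.node (nat_lit 0xd102385bd) (.node (nat_lit 0xd102381b5) (.node (nat_lit 0xd10230791) (.node (nat_lit 0xd10230589) (.leaf (nat_lit 0xd10230581) (nat_lit 1027))
 (.leaf (nat_lit 0xd10230589) (nat_lit 1283))
) (.node (nat_lit 0xd10230799) (.leaf (nat_lit 0xd10230791) (nat_lit 2052))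
 (.leaf (nat_lit 0xd10230799) (nat_lit 2308))
)) (.node (nat_lit 0xd102383a5) (.node (nat_lit 0xd102381bd) (.leaf (nat_lit 0xd102381b5) (nat_lit 2052))
 (.leaf (nat_lit 0xd102381bd) (nat_lit 2053))
) (.node (nat_lit 0xd102383ad) (.leaf (nat_lit 0xd102383a5) (nat_lit 2308))
 (.node (nat_lit 0xd102385b5) (.leaf (nat_lit 0xd102383ad) (nat_lit 2052))
 (.leaf (nat_lit 0xd102385b5) (nat_lit 2053))
)))) (.node (nat_lit 0xd106041d9) (.node (nat_lit 0xd102387ad) (.node (nat_lit 0xd102387a5) (.leaf (nat_lit 0xd102385bd) (nat_lit 1797))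
 (.leaf (nat_lit 0xd102387a5) (nat_lit 2052))
) (.node (nat_lit 0xd106041c1) (.leaf (nat_lit 0xd102387ad) (nat_lit 1796))
 (.leaf (nat_lit 0xd106041c1) (nat_lit 1796))
)) (.node (nat_lit 0xd106043d1) (.node (nat_lit 0xd106043c9) (.leaf (nat_lit 0xd106041d9) (nat_lit 2051))
 (.leaf (nat_lit 0xd106043c9) (nat_lit 2052))
) (.node (nat_lit 0xd106045c1) (.leaf (nat_lit 0xd106043d1) (nat_lit 1795))
 (.node (nat_lit 0xd106045d9) (.leaf (nat_lit 0xd106045c1) (nat_lit 1540))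
 (.leaf (nat_lit 0xd106045d9) (nat_lit 1792))
))))) (.node (nat_lit 0xd1060cefd) (.node (nat_lit 0xd1060cae5) (.node (nat_lit 0xd1060c8ed) (.node (nat_lit 0xd106047d1) (.leaf (nat_lit 0xd106047c9) (nat_lit 1796))
 (.leaf (nat_lit 0xd106047d1) (nat_lit 2048))
) (.node (nat_lit 0xd1060c8f5) (.leaf (nat_lit 0xd1060c8ed) (nat_lit 2053))
 (.leaf (nat_lit 0xd1060c8f5) (nat_lit 2052))
)) (.node (nat_lit 0xd1060cced) (.node (nat_lit 0xd1060cafd) (.leaf (nat_lit 0xd1060cae5) (nat_lit 2048))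
 (.leaf (nat_lit 0xd1060cafd) (nat_lit 1796))
) (.node (nat_lit 0xd1060ccf5) (.leaf (nat_lit 0xd1060cced) (nat_lit 1797))
 (.node (nat_lit 0xd1060cee5) (.leaf (nat_lit 0xd1060ccf5) (nat_lit 2053))
 (.leaf (nat_lit 0xd1060cee5) (nat_lit 2053))
)))) (.node (nat_lit 0xd10614ad1) (.node (nat_lit 0xd106148d9) (.node (nat_lit 0xd106148c1) (.leaf (nat_lit 0xd1060cefd) (nat_lit 2052))
 (.leaf (nat_lit 0xd106148c1) (nat_lit 1540))
) (.node (nat_lit 0xd10614ac9) (.leaf (nat_lit 0xd106148d9) (nat_lit 1792))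
 (.leaf (nat_lit 0xd10614ac9) (nat_lit 1796))
)) (.node (nat_lit 0xd10614cd9) (.node (nat_lit 0xd10614cc1) (.leaf (nat_lit 0xd10614ad1) (nat_lit 1797))
 (.leaf (nat_lit 0xd10614cc1) (nat_lit 1284))
) (.node (nat_lit 0xd10614ec9) (.leaf (nat_lit 0xd10614cd9) (nat_lit 1536))
 (.node (nat_lit 0xd10614ed1) (.leaf (nat_lit 0xd10614ec9) (nat_lit 1540))
 (.leaf (nat_lit 0xd10614ed1) (nat_lit 1792))
))))))) (.node (nat_lit 0xd10638ced) (.node (nat_lit 0xd106283e5) (.node (nat_lit 0xd106208d9) (.node (nat_lit 0xd1061c5ed) (.node (nat_lit 0xd1061c3e5) (.node (nat_lit 0xd1061c1f5) (.leaf (nat_lit 0xd1061c1ed) (nat_lit 2048))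
 (.leaf (nat_lit 0xd1061c1f5) (nat_lit 1796))
) (.node (nat_lit 0xd1061c3fd) (.leaf (nat_lit 0xd1061c3e5) (nat_lit 1792))
 (.leaf (nat_lit 0xd1061c3fd) (nat_lit 1540))
)) (.node (nat_lit 0xd1061c7e5) (.node (nat_lit 0xd1061c5f5) (.leaf (nat_lit 0xd1061c5ed) (nat_lit 2050))
 (.leaf (nat_lit 0xd1061c5f5) (nat_lit 2052))
) (.node (nat_lit 0xd1061c7fd) (.leaf (nat_lit 0xd1061c7e5) (nat_lit 2048))
 (.node (nat_lit 0xd106208c1) (.leaf (nat_lit 0xd1061c7fd) (nat_lit 1796))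
 (.leaf (nat_lit 0xd106208c1) (nat_lit 1540))
)))) (.node (nat_lit 0xd10620cd9) (.node (nat_lit 0xd10620ad1) (.node (nat_lit 0xd10620ac9) (.leaf (nat_lit 0xd106208d9) (nat_lit 1797))
 (.leaf (nat_lit 0xd10620ac9) (nat_lit 1796))
) (.node (nat_lit 0xd10620cc1) (.leaf (nat_lit 0xd10620ad1) (nat_lit 1541))
 (.leaf (nat_lit 0xd10620cc1) (nat_lit 1284))
)) (.node (nat_lit 0xd10620ed1) (.node (nat_lit 0xd10620ec9) (.leaf (nat_lit 0xd10620cd9) (nat_lit 1536))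
 (.leaf (nat_lit 0xd10620ec9) (nat_lit 1540))
) (.node (nat_lit 0xd106281ed) (.leaf (nat_lit 0xd10620ed1) (nat_lit 1792))
 (.node (nat_lit 0xd106281f5) (.leaf (nat_lit 0xd106281ed) (nat_lit 2048))
 (.leaf (nat_lit 0xd106281f5) (nat_lit 1796))
))))) (.node (nat_lit 0xd106303d1) (.node (nat_lit 0xd106287e5) (.node (nat_lit 0xd106285ed) (.node (nat_lit 0xd106283fd) (.leaf (nat_lit 0xd106283e5) (nat_lit 1792))
 (.leaf (nat_lit 0xd106283fd) (nat_lit 1540))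
) (.node (nat_lit 0xd106285f5) (.leaf (nat_lit 0xd106285ed) (nat_lit 1794))
 (.leaf (nat_lit 0xd106285f5) (nat_lit 2052))
)) (.node (nat_lit 0xd106301c1) (.node (nat_lit 0xd106287fd) (.leaf (nat_lit 0xd106287e5) (nat_lit 2050))
 (.leaf (nat_lit 0xd106287fd) (nat_lit 1796))
) (.node (nat_lit 0xd106301d9) (.leaf (nat_lit 0xd106301c1) (nat_lit 1796))
 (.node (nat_lit 0xd106303c9) (.leaf (nat_lit 0xd106301d9) (nat_lit 2048))
 (.leaf (nat_lit 0xd106303c9) (nat_lit 2052))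
)))) (.node (nat_lit 0xd106307d1) (.node (nat_lit 0xd106305d9) (.node (nat_lit 0xd106305c1) (.leaf (nat_lit 0xd106303d1) (nat_lit 2053))
 (.leaf (nat_lit 0xd106305c1) (nat_lit 1540))
) (.node (nat_lit 0xd106307c9) (.leaf (nat_lit 0xd106305d9) (nat_lit 1792))
 (.leaf (nat_lit 0xd106307c9) (nat_lit 1796))
)) (.node (nat_lit 0xd106388f5) (.node (nat_lit 0xd106388ed) (.leaf (nat_lit 0xd106307d1) (nat_lit 2048))
 (.leaf (nat_lit 0xd106388ed) (nat_lit 2053))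
) (.node (nat_lit 0xd10638ae5) (.leaf (nat_lit 0xd106388f5) (nat_lit 2052))
 (.node (nat_lit 0xd10638afd) (.leaf (nat_lit 0xd10638ae5) (nat_lit 2048))
 (.leaf (nat_lit 0xd10638afd) (nat_lit 1796))
)))))) (.node (nat_lit 0xd1820c7b3) (.node (nat_lit 0xd1820459f) (.node (nat_lit 0xd18204187) (.node (nat_lit 0xd10638ee5) (.node (nat_lit 0xd10638cf5) (.leaf (nat_lit 0xd10638ced) (nat_lit 1797))
 (.leaf (nat_lit 0xd10638cf5) (nat_lit 2053))
) (.node (nat_lit 0xd10638efd) (.leaf (nat_lit 0xd10638ee5) (nat_lit 2053))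
 (.leaf (nat_lit 0xd10638efd) (nat_lit 2052))
)) (.node (nat_lit 0xd18204397) (.node (nat_lit 0xd1820418f) (.leaf (nat_lit 0xd18204187) (nat_lit 2052))
 (.leaf (nat_lit 0xd1820418f) (nat_lit 2050))
) (.node (nat_lit 0xd1820439f) (.leaf (nat_lit 0xd18204397) (nat_lit 1797))
 (.node (nat_lit 0xd18204597) (.leaf (nat_lit 0xd1820439f) (nat_lit 2053))
 (.leaf (nat_lit 0xd18204597) (nat_lit 1541))
)))) (.node (nat_lit 0xd1820c1bb) (.node (nat_lit 0xd1820478f) (.node (nat_lit 0xd18204787) (.leaf (nat_lit 0xd1820459f) (nat_lit 1797))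
 (.leaf (nat_lit 0xd18204787) (nat_lit 2050))
) (.node (nat_lit 0xd1820c1b3) (.leaf (nat_lit 0xd1820478f) (nat_lit 1794))
 (.leaf (nat_lit 0xd1820c1b3) (nat_lit 1795))
)) (.node (nat_lit 0xd1820c3ab) (.node (nat_lit 0xd1820c3a3) (.leaf (nat_lit 0xd1820c1bb) (nat_lit 2051))
 (.leaf (nat_lit 0xd1820c3a3) (nat_lit 2051))
) (.node (nat_lit 0xd1820c5a3) (.leaf (nat_lit 0xd1820c3ab) (nat_lit 1795))
 (.node (nat_lit 0xd1820c5ab) (.leaf (nat_lit 0xd1820c5a3) (nat_lit 1795))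
 (.leaf (nat_lit 0xd1820c5ab) (nat_lit 1539))
))))) (.node (nat_lit 0xd18214eab) (.node (nat_lit 0xd18214ab3) (.node (nat_lit 0xd182148a3) (.node (nat_lit 0xd1820c7bb) (.leaf (nat_lit 0xd1820c7b3) (nat_lit 1539))
 (.leaf (nat_lit 0xd1820c7bb) (nat_lit 1795))
) (.node (nat_lit 0xd182148ab) (.leaf (nat_lit 0xd182148a3) (nat_lit 1796))
 (.leaf (nat_lit 0xd182148ab) (nat_lit 1793))
)) (.node (nat_lit 0xd18214cb3) (.node (nat_lit 0xd18214abb) (.leaf (nat_lit 0xd18214ab3) (nat_lit 1541))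
 (.leaf (nat_lit 0xd18214abb) (nat_lit 1797))
) (.node (nat_lit 0xd18214cbb) (.leaf (nat_lit 0xd18214cb3) (nat_lit 1285))
 (.node (nat_lit 0xd18214ea3) (.leaf (nat_lit 0xd18214cbb) (nat_lit 1541))
 (.leaf (nat_lit 0xd18214ea3) (nat_lit 1793))
)))) (.node (nat_lit 0xd1821ca8f) (.node (nat_lit 0xd1821c89f) (.node (nat_lit 0xd1821c897) (.leaf (nat_lit 0xd18214eab) (nat_lit 1537))
 (.leaf (nat_lit 0xd1821c897) (nat_lit 2051))
) (.node (nat_lit 0xd1821ca87) (.leaf (nat_lit 0xd1821c89f) (nat_lit 2052))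
 (.leaf (nat_lit 0xd1821ca87) (nat_lit 2053))
)) (.node (nat_lit 0xd1821cc8f) (.node (nat_lit 0xd1821cc87) (.leaf (nat_lit 0xd1821ca8f) (nat_lit 1797))
 (.leaf (nat_lit 0xd1821cc87) (nat_lit 1797))
) (.node (nat_lit 0xd1821ce97) (.leaf (nat_lit 0xd1821cc8f) (nat_lit 1541))
 (.node (nat_lit 0xd1821ce9f) (.leaf (nat_lit 0xd1821ce97) (nat_lit 1795))
 (.leaf (nat_lit 0xd1821ce9f) (nat_lit 2051))
))))))))) (.node (nat_lit 0xe0843494e) (.node (nat_lit 0xd1842894f) (.node (nat_lit 0xd1840444f) (.node (nat_lit 0xd18230397) (.node (nat_lit 0xd1822889f) (.node (nat_lit 0xd18220cb3) (.node (nat_lit 0xd18220ab3) (.node (nat_lit 0xd182208ab) (.leaf (nat_lit 0xd182208a3) (nat_lit 1794))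
 (.leaf (nat_lit 0xd182208ab) (nat_lit 1538))
) (.node (nat_lit 0xd18220abb) (.leaf (nat_lit 0xd18220ab3) (nat_lit 1541))
 (.leaf (nat_lit 0xd18220abb) (nat_lit 1797))
)) (.node (nat_lit 0xd18220ea3) (.node (nat_lit 0xd18220cbb) (.leaf (nat_lit 0xd18220cb3) (nat_lit 1285))
 (.leaf (nat_lit 0xd18220cbb) (nat_lit 1541))
) (.node (nat_lit 0xd18220eab) (.leaf (nat_lit 0xd18220ea3) (nat_lit 1538))
 (.node (nat_lit 0xd18228897) (.leaf (nat_lit 0xd18220eab) (nat_lit 1282))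
 (.leaf (nat_lit 0xd18228897) (nat_lit 2051))
)))) (.node (nat_lit 0xd18228c8f) (.node (nat_lit 0xd18228a8f) (.node (nat_lit 0xd18228a87) (.leaf (nat_lit 0xd1822889f) (nat_lit 2052))
 (.leaf (nat_lit 0xd18228a87) (nat_lit 2053))
) (.node (nat_lit 0xd18228c87) (.leaf (nat_lit 0xd18228a8f) (nat_lit 1797))
 (.leaf (nat_lit 0xd18228c87) (nat_lit 1797))
)) (.node (nat_lit 0xd18228e9f) (.node (nat_lit 0xd18228e97) (.leaf (nat_lit 0xd18228c8f) (nat_lit 1541))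
 (.leaf (nat_lit 0xd18228e97) (nat_lit 1795))
) (.node (nat_lit 0xd18230187) (.leaf (nat_lit 0xd18228e9f) (nat_lit 2051))
 (.node (nat_lit 0xd1823018f) (.leaf (nat_lit 0xd18230187) (nat_lit 2052))
 (.leaf (nat_lit 0xd1823018f) (nat_lit 2051))
))))) (.node (nat_lit 0xd182383ab) (.node (nat_lit 0xd18230787) (.node (nat_lit 0xd18230597) (.node (nat_lit 0xd1823039f) (.leaf (nat_lit 0xd18230397) (nat_lit 1797))
 (.leaf (nat_lit 0xd1823039f) (nat_lit 2053))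
) (.node (nat_lit 0xd1823059f) (.leaf (nat_lit 0xd18230597) (nat_lit 1541))
 (.leaf (nat_lit 0xd1823059f) (nat_lit 1797))
)) (.node (nat_lit 0xd182381b3) (.node (nat_lit 0xd1823078f) (.leaf (nat_lit 0xd18230787) (nat_lit 2051))
 (.leaf (nat_lit 0xd1823078f) (nat_lit 1795))
) (.node (nat_lit 0xd182381bb) (.leaf (nat_lit 0xd182381b3) (nat_lit 1795))
 (.node (nat_lit 0xd182383a3) (.leaf (nat_lit 0xd182381bb) (nat_lit 2051))
 (.leaf (nat_lit 0xd182383a3) (nat_lit 2051))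
)))) (.node (nat_lit 0xd182387bb) (.node (nat_lit 0xd182385ab) (.node (nat_lit 0xd182385a3) (.leaf (nat_lit 0xd182383ab) (nat_lit 2053))
 (.leaf (nat_lit 0xd182385a3) (nat_lit 2053))
) (.node (nat_lit 0xd182387b3) (.leaf (nat_lit 0xd182385ab) (nat_lit 1797))
 (.leaf (nat_lit 0xd182387b3) (nat_lit 1539))
)) (.node (nat_lit 0xd18404057) (.node (nat_lit 0xd18404047) (.leaf (nat_lit 0xd182387bb) (nat_lit 1795))
 (.leaf (nat_lit 0xd18404047) (nat_lit 1792))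
) (.node (nat_lit 0xd1840424f) (.leaf (nat_lit 0xd18404057) (nat_lit 1540))
 (.node (nat_lit 0xd1840425f) (.leaf (nat_lit 0xd1840424f) (nat_lit 2048))
 (.leaf (nat_lit 0xd1840425f) (nat_lit 1796))
)))))) (.node (nat_lit 0xd18414663) (.node (nat_lit 0xd1840cd73) (.node (nat_lit 0xd1840c96b) (.node (nat_lit 0xd18404647) (.node (nat_lit 0xd1840445f) (.leaf (nat_lit 0xd1840444f) (nat_lit 1794))
 (.leaf (nat_lit 0xd1840445f) (nat_lit 2052))
) (.node (nat_lit 0xd18404657) (.leaf (nat_lit 0xd18404647) (nat_lit 2050))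
 (.leaf (nat_lit 0xd18404657) (nat_lit 1796))
)) (.node (nat_lit 0xd1840cb63) (.node (nat_lit 0xd1840c97b) (.leaf (nat_lit 0xd1840c96b) (nat_lit 1795))
 (.leaf (nat_lit 0xd1840c97b) (nat_lit 1795))
) (.node (nat_lit 0xd1840cb73) (.leaf (nat_lit 0xd1840cb63) (nat_lit 1795))
 (.node (nat_lit 0xd1840cd63) (.leaf (nat_lit 0xd1840cb73) (nat_lit 1539))
 (.leaf (nat_lit 0xd1840cd63) (nat_lit 1795))
)))) (.node (nat_lit 0xd18414073) (.node (nat_lit 0xd1840cf7b) (.node (nat_lit 0xd1840cf6b) (.leaf (nat_lit 0xd1840cd73) (nat_lit 1795))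
 (.leaf (nat_lit 0xd1840cf6b) (nat_lit 1539))
) (.node (nat_lit 0xd18414063) (.leaf (nat_lit 0xd1840cf7b) (nat_lit 1795))
 (.leaf (nat_lit 0xd18414063) (nat_lit 1536))
)) (.node (nat_lit 0xd1841427b) (.node (nat_lit 0xd1841426b) (.leaf (nat_lit 0xd18414073) (nat_lit 1284))
 (.leaf (nat_lit 0xd1841426b) (nat_lit 1792))
) (.node (nat_lit 0xd1841446b) (.leaf (nat_lit 0xd1841427b) (nat_lit 1540))
 (.node (nat_lit 0xd1841447b) (.leaf (nat_lit 0xd1841446b) (nat_lit 1537))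
 (.leaf (nat_lit 0xd1841447b) (nat_lit 1796))
))))) (.node (nat_lit 0xd1841cf5f) (.node (nat_lit 0xd1841cb47) (.node (nat_lit 0xd1841c94f) (.node (nat_lit 0xd18414673) (.leaf (nat_lit 0xd18414663) (nat_lit 1793))
 (.leaf (nat_lit 0xd18414673) (nat_lit 1540))
) (.node (nat_lit 0xd1841c95f) (.leaf (nat_lit 0xd1841c94f) (nat_lit 1796))
 (.leaf (nat_lit 0xd1841c95f) (nat_lit 2051))
)) (.node (nat_lit 0xd1841cd47) (.node (nat_lit 0xd1841cb57) (.leaf (nat_lit 0xd1841cb47) (nat_lit 2052))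
 (.leaf (nat_lit 0xd1841cb57) (nat_lit 1795))
) (.node (nat_lit 0xd1841cd57) (.leaf (nat_lit 0xd1841cd47) (nat_lit 1796))
 (.node (nat_lit 0xd1841cf4f) (.leaf (nat_lit 0xd1841cd57) (nat_lit 2048))
 (.leaf (nat_lit 0xd1841cf4f) (nat_lit 1540))
)))) (.node (nat_lit 0xd1842027b) (.node (nat_lit 0xd18420073) (.node (nat_lit 0xd18420063) (.leaf (nat_lit 0xd1841cf5f) (nat_lit 1792))
 (.leaf (nat_lit 0xd18420063) (nat_lit 1536))
) (.node (nat_lit 0xd1842026b) (.leaf (nat_lit 0xd18420073) (nat_lit 1284))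
 (.leaf (nat_lit 0xd1842026b) (nat_lit 1538))
)) (.node (nat_lit 0xd1842047b) (.node (nat_lit 0xd1842046b) (.leaf (nat_lit 0xd1842027b) (nat_lit 1540))
 (.leaf (nat_lit 0xd1842046b) (nat_lit 1282))
) (.node (nat_lit 0xd18420663) (.leaf (nat_lit 0xd1842047b) (nat_lit 1538))
 (.node (nat_lit 0xd18420673) (.leaf (nat_lit 0xd18420663) (nat_lit 1538))
 (.leaf (nat_lit 0xd18420673) (nat_lit 1540))
))))))) (.node (nat_lit 0xe0840cd46) (.node (nat_lit 0xd18438b63) (.node (nat_lit 0xd18430057) (.node (nat_lit 0xd18428d47) (.node (nat_lit 0xd18428b47) (.node (nat_lit 0xd1842895f) (.leaf (nat_lit 0xd1842894f) (nat_lit 1796))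
 (.leaf (nat_lit 0xd1842895f) (nat_lit 2051))
) (.node (nat_lit 0xd18428b57) (.leaf (nat_lit 0xd18428b47) (nat_lit 2052))
 (.leaf (nat_lit 0xd18428b57) (nat_lit 1795))
)) (.node (nat_lit 0xd18428f4f) (.node (nat_lit 0xd18428d57) (.leaf (nat_lit 0xd18428d47) (nat_lit 1796))
 (.leaf (nat_lit 0xd18428d57) (nat_lit 2048))
) (.node (nat_lit 0xd18428f5f) (.leaf (nat_lit 0xd18428f4f) (nat_lit 1540))
 (.node (nat_lit 0xd18430047) (.leaf (nat_lit 0xd18428f5f) (nat_lit 1792))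
 (.leaf (nat_lit 0xd18430047) (nat_lit 1792))
)))) (.node (nat_lit 0xd1843045f) (.node (nat_lit 0xd1843025f) (.node (nat_lit 0xd1843024f) (.leaf (nat_lit 0xd18430057) (nat_lit 1540))
 (.leaf (nat_lit 0xd1843024f) (nat_lit 2048))
) (.node (nat_lit 0xd1843044f) (.leaf (nat_lit 0xd1843025f) (nat_lit 1796))
 (.leaf (nat_lit 0xd1843044f) (nat_lit 1795))
)) (.node (nat_lit 0xd18430657) (.node (nat_lit 0xd18430647) (.leaf (nat_lit 0xd1843045f) (nat_lit 2052))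
 (.leaf (nat_lit 0xd18430647) (nat_lit 2051))
) (.node (nat_lit 0xd1843896b) (.leaf (nat_lit 0xd18430657) (nat_lit 1796))
 (.node (nat_lit 0xd1843897b) (.leaf (nat_lit 0xd1843896b) (nat_lit 2051))
 (.leaf (nat_lit 0xd1843897b) (nat_lit 1795))
))))) (.node (nat_lit 0xe08404356) (.node (nat_lit 0xd18438f6b) (.node (nat_lit 0xd18438d63) (.node (nat_lit 0xd18438b73) (.leaf (nat_lit 0xd18438b63) (nat_lit 1795))
 (.leaf (nat_lit 0xd18438b73) (nat_lit 1539))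
) (.node (nat_lit 0xd18438d73) (.leaf (nat_lit 0xd18438d63) (nat_lit 2052))
 (.leaf (nat_lit 0xd18438d73) (nat_lit 1795))
)) (.node (nat_lit 0xe08404146) (.node (nat_lit 0xd18438f7b) (.leaf (nat_lit 0xd18438f6b) (nat_lit 1796))
 (.leaf (nat_lit 0xd18438f7b) (nat_lit 2051))
) (.node (nat_lit 0xe08404156) (.leaf (nat_lit 0xe08404146) (nat_lit 2050))
 (.node (nat_lit 0xe08404346) (.leaf (nat_lit 0xe08404156) (nat_lit 1794))
 (.leaf (nat_lit 0xe08404346) (nat_lit 1794))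
)))) (.node (nat_lit 0xe0840475e) (.node (nat_lit 0xe0840455e) (.node (nat_lit 0xe0840454e) (.leaf (nat_lit 0xe08404356) (nat_lit 1538))
 (.leaf (nat_lit 0xe0840454e) (nat_lit 2304))
) (.node (nat_lit 0xe0840474e) (.leaf (nat_lit 0xe0840455e) (nat_lit 2052))
 (.leaf (nat_lit 0xe0840474e) (nat_lit 2048))
)) (.node (nat_lit 0xe0840c95e) (.node (nat_lit 0xe0840c94e) (.leaf (nat_lit 0xe0840475e) (nat_lit 1796))
 (.leaf (nat_lit 0xe0840c94e) (nat_lit 2052))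
) (.node (nat_lit 0xe0840cb4e) (.leaf (nat_lit 0xe0840c95e) (nat_lit 2304))
 (.node (nat_lit 0xe0840cb5e) (.leaf (nat_lit 0xe0840cb4e) (nat_lit 2308))
 (.leaf (nat_lit 0xe0840cb5e) (nat_lit 2307))
)))))) (.node (nat_lit 0xe0841cf6e) (.node (nat_lit 0xe08414576) (.node (nat_lit 0xe0841416e) (.node (nat_lit 0xe0840cf46) (.node (nat_lit 0xe0840cd56) (.leaf (nat_lit 0xe0840cd46) (nat_lit 2304))
 (.leaf (nat_lit 0xe0840cd56) (nat_lit 2052))
) (.node (nat_lit 0xe0840cf56) (.leaf (nat_lit 0xe0840cf46) (nat_lit 2048))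
 (.leaf (nat_lit 0xe0840cf56) (nat_lit 1796))
)) (.node (nat_lit 0xe0841436e) (.node (nat_lit 0xe0841417e) (.leaf (nat_lit 0xe0841416e) (nat_lit 2307))
 (.leaf (nat_lit 0xe0841417e) (nat_lit 2051))
) (.node (nat_lit 0xe0841437e) (.leaf (nat_lit 0xe0841436e) (nat_lit 2051))
 (.node (nat_lit 0xe08414566) (.leaf (nat_lit 0xe0841437e) (nat_lit 1795))
 (.leaf (nat_lit 0xe08414566) (nat_lit 2051))
)))) (.node (nat_lit 0xe0841c976) (.node (nat_lit 0xe08414776) (.node (nat_lit 0xe08414766) (.leaf (nat_lit 0xe08414576) (nat_lit 2051))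
 (.leaf (nat_lit 0xe08414766) (nat_lit 2051))
) (.node (nat_lit 0xe0841c966) (.leaf (nat_lit 0xe08414776) (nat_lit 1795))
 (.leaf (nat_lit 0xe0841c966) (nat_lit 2050))
)) (.node (nat_lit 0xe0841cb76) (.node (nat_lit 0xe0841cb66) (.leaf (nat_lit 0xe0841c976) (nat_lit 1794))
 (.leaf (nat_lit 0xe0841cb66) (nat_lit 1794))
) (.node (nat_lit 0xe0841cd6e) (.leaf (nat_lit 0xe0841cb76) (nat_lit 1538))
 (.node (nat_lit 0xe0841cd7e) (.leaf (nat_lit 0xe0841cd6e) (nat_lit 2304))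
 (.leaf (nat_lit 0xe0841cd7e) (nat_lit 2052))
))))) (.node (nat_lit 0xe08424f7e) (.node (nat_lit 0xe08424b66) (.node (nat_lit 0xe08424966) (.node (nat_lit 0xe0841cf7e) (.leaf (nat_lit 0xe0841cf6e) (nat_lit 2048))
 (.leaf (nat_lit 0xe0841cf7e) (nat_lit 1796))
) (.node (nat_lit 0xe08424976) (.leaf (nat_lit 0xe08424966) (nat_lit 1796))
 (.leaf (nat_lit 0xe08424976) (nat_lit 1794))
)) (.node (nat_lit 0xe08424d6e) (.node (nat_lit 0xe08424b76) (.leaf (nat_lit 0xe08424b66) (nat_lit 1794))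
 (.leaf (nat_lit 0xe08424b76) (nat_lit 1538))
) (.node (nat_lit 0xe08424d7e) (.leaf (nat_lit 0xe08424d6e) (nat_lit 2048))
 (.node (nat_lit 0xe08424f6e) (.leaf (nat_lit 0xe08424d7e) (nat_lit 1796))
 (.leaf (nat_lit 0xe08424f6e) (nat_lit 1792))
)))) (.node (nat_lit 0xe0842c37e) (.node (nat_lit 0xe0842c17e) (.node (nat_lit 0xe0842c16e) (.leaf (nat_lit 0xe08424f7e) (nat_lit 1540))
 (.leaf (nat_lit 0xe0842c16e) (nat_lit 2308))
) (.node (nat_lit 0xe0842c36e) (.leaf (nat_lit 0xe0842c17e) (nat_lit 2307))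
 (.leaf (nat_lit 0xe0842c36e) (nat_lit 2307))
)) (.node (nat_lit 0xe0842c576) (.node (nat_lit 0xe0842c566) (.leaf (nat_lit 0xe0842c37e) (nat_lit 2051))
 (.leaf (nat_lit 0xe0842c566) (nat_lit 2307))
) (.node (nat_lit 0xe0842c766) (.leaf (nat_lit 0xe0842c576) (nat_lit 2051))
 (.node (nat_lit 0xe0842c776) (.leaf (nat_lit 0xe0842c766) (nat_lit 2051))
 (.leaf (nat_lit 0xe0842c776) (nat_lit 1795))
)))))))) (.node (nat_lit 0xe0863c0c6) (.node (nat_lit 0xe08614ce6) (.node (nat_lit 0xe086042c6) (.node (nat_lit 0xe0843c156) (.node (nat_lit 0xe08434d46) (.node (nat_lit 0xe08434b4e) (.node (nat_lit 0xe0843495e) (.leaf (nat_lit 0xe0843494e) (nat_lit 2308))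
 (.leaf (nat_lit 0xe0843495e) (nat_lit 2307))
) (.node (nat_lit 0xe08434b5e) (.leaf (nat_lit 0xe08434b4e) (nat_lit 2307))
 (.leaf (nat_lit 0xe08434b5e) (nat_lit 2051))
)) (.node (nat_lit 0xe08434f46) (.node (nat_lit 0xe08434d56) (.leaf (nat_lit 0xe08434d46) (nat_lit 2307))
 (.leaf (nat_lit 0xe08434d56) (nat_lit 2051))
) (.node (nat_lit 0xe08434f56) (.leaf (nat_lit 0xe08434f46) (nat_lit 2051))
 (.node (nat_lit 0xe0843c146) (.leaf (nat_lit 0xe08434f56) (nat_lit 1795))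
 (.leaf (nat_lit 0xe0843c146) (nat_lit 2306))
)))) (.node (nat_lit 0xe0843c55e) (.node (nat_lit 0xe0843c356) (.node (nat_lit 0xe0843c346) (.leaf (nat_lit 0xe0843c156) (nat_lit 2050))
 (.leaf (nat_lit 0xe0843c346) (nat_lit 2050))
) (.node (nat_lit 0xe0843c54e) (.leaf (nat_lit 0xe0843c356) (nat_lit 1794))
 (.leaf (nat_lit 0xe0843c54e) (nat_lit 2308))
)) (.node (nat_lit 0xe0843c75e) (.node (nat_lit 0xe0843c74e) (.leaf (nat_lit 0xe0843c55e) (nat_lit 2308))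
 (.leaf (nat_lit 0xe0843c74e) (nat_lit 2304))
) (.node (nat_lit 0xe086040c6) (.leaf (nat_lit 0xe0843c75e) (nat_lit 2052))
 (.node (nat_lit 0xe086040de) (.leaf (nat_lit 0xe086040c6) (nat_lit 2053))
 (.leaf (nat_lit 0xe086040de) (nat_lit 1797))
))))) (.node (nat_lit 0xe0860cad6) (.node (nat_lit 0xe086046ce) (.node (nat_lit 0xe086044ce) (.node (nat_lit 0xe086042de) (.leaf (nat_lit 0xe086042c6) (nat_lit 2309))
 (.leaf (nat_lit 0xe086042de) (nat_lit 2053))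
) (.node (nat_lit 0xe086044d6) (.leaf (nat_lit 0xe086044ce) (nat_lit 2050))
 (.leaf (nat_lit 0xe086044d6) (nat_lit 1794))
)) (.node (nat_lit 0xe0860c8ce) (.node (nat_lit 0xe086046d6) (.leaf (nat_lit 0xe086046ce) (nat_lit 1794))
 (.leaf (nat_lit 0xe086046d6) (nat_lit 1538))
) (.node (nat_lit 0xe0860c8d6) (.leaf (nat_lit 0xe0860c8ce) (nat_lit 2309))
 (.node (nat_lit 0xe0860cace) (.leaf (nat_lit 0xe0860c8d6) (nat_lit 2053))
 (.leaf (nat_lit 0xe0860cace) (nat_lit 2053))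
)))) (.node (nat_lit 0xe0860cede) (.node (nat_lit 0xe0860ccde) (.node (nat_lit 0xe0860ccc6) (.leaf (nat_lit 0xe0860cad6) (nat_lit 1797))
 (.leaf (nat_lit 0xe0860ccc6) (nat_lit 2564))
) (.node (nat_lit 0xe0860cec6) (.leaf (nat_lit 0xe0860ccde) (nat_lit 2307))
 (.leaf (nat_lit 0xe0860cec6) (nat_lit 2308))
)) (.node (nat_lit 0xe086148f6) (.node (nat_lit 0xe086148ee) (.leaf (nat_lit 0xe0860cede) (nat_lit 2563))
 (.leaf (nat_lit 0xe086148ee) (nat_lit 2307))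
) (.node (nat_lit 0xe08614aee) (.leaf (nat_lit 0xe086148f6) (nat_lit 2051))
 (.node (nat_lit 0xe08614af6) (.leaf (nat_lit 0xe08614aee) (nat_lit 2051))
 (.leaf (nat_lit 0xe08614af6) (nat_lit 1795))
)))))) (.node (nat_lit 0xe086246ee) (.node (nat_lit 0xe0861c4f6) (.node (nat_lit 0xe0861c0e6) (.node (nat_lit 0xe08614ee6) (.node (nat_lit 0xe08614cfe) (.leaf (nat_lit 0xe08614ce6) (nat_lit 2051))
 (.leaf (nat_lit 0xe08614cfe) (nat_lit 1795))
) (.node (nat_lit 0xe08614efe) (.leaf (nat_lit 0xe08614ee6) (nat_lit 2307))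
 (.leaf (nat_lit 0xe08614efe) (nat_lit 2051))
)) (.node (nat_lit 0xe0861c2e6) (.node (nat_lit 0xe0861c0fe) (.leaf (nat_lit 0xe0861c0e6) (nat_lit 2053))
 (.leaf (nat_lit 0xe0861c0fe) (nat_lit 1797))
) (.node (nat_lit 0xe0861c2fe) (.leaf (nat_lit 0xe0861c2e6) (nat_lit 2309))
 (.node (nat_lit 0xe0861c4ee) (.leaf (nat_lit 0xe0861c2fe) (nat_lit 2053))
 (.leaf (nat_lit 0xe0861c4ee) (nat_lit 2050))
)))) (.node (nat_lit 0xe086240fe) (.node (nat_lit 0xe0861c6f6) (.node (nat_lit 0xe0861c6ee) (.leaf (nat_lit 0xe0861c4f6) (nat_lit 1794))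
 (.leaf (nat_lit 0xe0861c6ee) (nat_lit 1794))
) (.node (nat_lit 0xe086240e6) (.leaf (nat_lit 0xe0861c6f6) (nat_lit 1538))
 (.leaf (nat_lit 0xe086240e6) (nat_lit 1797))
)) (.node (nat_lit 0xe086242fe) (.node (nat_lit 0xe086242e6) (.leaf (nat_lit 0xe086240fe) (nat_lit 1541))
 (.leaf (nat_lit 0xe086242e6) (nat_lit 2053))
) (.node (nat_lit 0xe086244ee) (.leaf (nat_lit 0xe086242fe) (nat_lit 1797))
 (.node (nat_lit 0xe086244f6) (.leaf (nat_lit 0xe086244ee) (nat_lit 2050))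
 (.leaf (nat_lit 0xe086244f6) (nat_lit 1794))
))))) (.node (nat_lit 0xe0862cefe) (.node (nat_lit 0xe0862caee) (.node (nat_lit 0xe0862c8ee) (.node (nat_lit 0xe086246f6) (.leaf (nat_lit 0xe086246ee) (nat_lit 1794))
 (.leaf (nat_lit 0xe086246f6) (nat_lit 1538))
) (.node (nat_lit 0xe0862c8f6) (.leaf (nat_lit 0xe0862c8ee) (nat_lit 2307))
 (.leaf (nat_lit 0xe0862c8f6) (nat_lit 2051))
)) (.node (nat_lit 0xe0862cce6) (.node (nat_lit 0xe0862caf6) (.leaf (nat_lit 0xe0862caee) (nat_lit 2051))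
 (.leaf (nat_lit 0xe0862caf6) (nat_lit 1795))
) (.node (nat_lit 0xe0862ccfe) (.leaf (nat_lit 0xe0862cce6) (nat_lit 2307))
 (.node (nat_lit 0xe0862cee6) (.leaf (nat_lit 0xe0862ccfe) (nat_lit 2051))
 (.leaf (nat_lit 0xe0862cee6) (nat_lit 2563))
)))) (.node (nat_lit 0xe08634ad6) (.node (nat_lit 0xe086348d6) (.node (nat_lit 0xe086348ce) (.leaf (nat_lit 0xe0862cefe) (nat_lit 2307))
 (.leaf (nat_lit 0xe086348ce) (nat_lit 2307))
) (.node (nat_lit 0xe08634ace) (.leaf (nat_lit 0xe086348d6) (nat_lit 2051))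
 (.leaf (nat_lit 0xe08634ace) (nat_lit 2051))
)) (.node (nat_lit 0xe08634cde) (.node (nat_lit 0xe08634cc6) (.leaf (nat_lit 0xe08634ad6) (nat_lit 1795))
 (.leaf (nat_lit 0xe08634cc6) (nat_lit 2307))
) (.node (nat_lit 0xe08634ec6) (.leaf (nat_lit 0xe08634cde) (nat_lit 2051))
 (.node (nat_lit 0xe08634ede) (.leaf (nat_lit 0xe08634ec6) (nat_lit 2563))
 (.leaf (nat_lit 0xe08634ede) (nat_lit 2307))
))))))) (.node (nat_lit 0xe1021cda5) (.node (nat_lit 0xe1020c3a5) (.node (nat_lit 0xe1020418d) (.node (nat_lit 0xe0863c4ce) (.node (nat_lit 0xe0863c2c6) (.node (nat_lit 0xe0863c0de) (.leaf (nat_lit 0xe0863c0c6) (nat_lit 2309))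
 (.leaf (nat_lit 0xe0863c0de) (nat_lit 2053))
) (.node (nat_lit 0xe0863c2de) (.leaf (nat_lit 0xe0863c2c6) (nat_lit 2565))
 (.leaf (nat_lit 0xe0863c2de) (nat_lit 2309))
)) (.node (nat_lit 0xe0863c6ce) (.node (nat_lit 0xe0863c4d6) (.leaf (nat_lit 0xe0863c4ce) (nat_lit 2306))
 (.leaf (nat_lit 0xe0863c4d6) (nat_lit 2050))
) (.node (nat_lit 0xe0863c6d6) (.leaf (nat_lit 0xe0863c6ce) (nat_lit 2050))
 (.node (nat_lit 0xe10204185) (.leaf (nat_lit 0xe0863c6d6) (nat_lit 1794))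
 (.leaf (nat_lit 0xe10204185) (nat_lit 2052))
)))) (.node (nat_lit 0xe1020458d) (.node (nat_lit 0xe1020439d) (.node (nat_lit 0xe10204395) (.leaf (nat_lit 0xe1020418d) (nat_lit 2053))
 (.leaf (nat_lit 0xe10204395) (nat_lit 2308))
) (.node (nat_lit 0xe10204585) (.leaf (nat_lit 0xe1020439d) (nat_lit 2052))
 (.leaf (nat_lit 0xe10204585) (nat_lit 2053))
)) (.node (nat_lit 0xe1020479d) (.node (nat_lit 0xe10204795) (.leaf (nat_lit 0xe1020458d) (nat_lit 1797))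
 (.leaf (nat_lit 0xe10204795) (nat_lit 2052))
) (.node (nat_lit 0xe1020c1b5) (.leaf (nat_lit 0xe1020479d) (nat_lit 1796))
 (.node (nat_lit 0xe1020c1bd) (.leaf (nat_lit 0xe1020c1b5) (nat_lit 2307))
 (.leaf (nat_lit 0xe1020c1bd) (nat_lit 2051))
))))) (.node (nat_lit 0xe10214b8d) (.node (nat_lit 0xe1020c7a5) (.node (nat_lit 0xe1020c5b5) (.node (nat_lit 0xe1020c3ad) (.leaf (nat_lit 0xe1020c3a5) (nat_lit 2051))
 (.leaf (nat_lit 0xe1020c3ad) (nat_lit 2307))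
) (.node (nat_lit 0xe1020c5bd) (.leaf (nat_lit 0xe1020c5b5) (nat_lit 2051))
 (.leaf (nat_lit 0xe1020c5bd) (nat_lit 1795))
)) (.node (nat_lit 0xe10214995) (.node (nat_lit 0xe1020c7ad) (.leaf (nat_lit 0xe1020c7a5) (nat_lit 2307))
 (.leaf (nat_lit 0xe1020c7ad) (nat_lit 2051))
) (.node (nat_lit 0xe1021499d) (.leaf (nat_lit 0xe10214995) (nat_lit 2052))
 (.node (nat_lit 0xe10214b85) (.leaf (nat_lit 0xe1021499d) (nat_lit 2308))
 (.leaf (nat_lit 0xe10214b85) (nat_lit 2308))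
)))) (.node (nat_lit 0xe10214f8d) (.node (nat_lit 0xe10214d9d) (.node (nat_lit 0xe10214d95) (.leaf (nat_lit 0xe10214b8d) (nat_lit 2052))
 (.leaf (nat_lit 0xe10214d95) (nat_lit 2309))
) (.node (nat_lit 0xe10214f85) (.leaf (nat_lit 0xe10214d9d) (nat_lit 2053))
 (.leaf (nat_lit 0xe10214f85) (nat_lit 2052))
)) (.node (nat_lit 0xe1021c9ad) (.node (nat_lit 0xe1021c9a5) (.leaf (nat_lit 0xe10214f8d) (nat_lit 1796))
 (.leaf (nat_lit 0xe1021c9a5) (nat_lit 2052))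
) (.node (nat_lit 0xe1021cbb5) (.leaf (nat_lit 0xe1021c9ad) (nat_lit 2053))
 (.node (nat_lit 0xe1021cbbd) (.leaf (nat_lit 0xe1021cbb5) (nat_lit 2308))
 (.leaf (nat_lit 0xe1021cbbd) (nat_lit 2052))
)))))) (.node (nat_lit 0xe1022cf85) (.node (nat_lit 0xe10224dad) (.node (nat_lit 0xe102249a5) (.node (nat_lit 0xe1021cfb5) (.node (nat_lit 0xe1021cdad) (.leaf (nat_lit 0xe1021cda5) (nat_lit 2053))
 (.leaf (nat_lit 0xe1021cdad) (nat_lit 1797))
) (.node (nat_lit 0xe1021cfbd) (.leaf (nat_lit 0xe1021cfb5) (nat_lit 2052))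
 (.leaf (nat_lit 0xe1021cfbd) (nat_lit 1796))
)) (.node (nat_lit 0xe10224bb5) (.node (nat_lit 0xe102249ad) (.leaf (nat_lit 0xe102249a5) (nat_lit 1796))
 (.leaf (nat_lit 0xe102249ad) (nat_lit 2052))
) (.node (nat_lit 0xe10224bbd) (.leaf (nat_lit 0xe10224bb5) (nat_lit 2052))
 (.node (nat_lit 0xe10224da5) (.leaf (nat_lit 0xe10224bbd) (nat_lit 1796))
 (.leaf (nat_lit 0xe10224da5) (nat_lit 2053))
)))) (.node (nat_lit 0xe1022c99d) (.node (nat_lit 0xe10224fbd) (.node (nat_lit 0xe10224fb5) (.leaf (nat_lit 0xe10224dad) (nat_lit 1797))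
 (.leaf (nat_lit 0xe10224fb5) (nat_lit 1796))
) (.node (nat_lit 0xe1022c995) (.leaf (nat_lit 0xe10224fbd) (nat_lit 1540))
 (.leaf (nat_lit 0xe1022c995) (nat_lit 2308))
)) (.node (nat_lit 0xe1022cb8d) (.node (nat_lit 0xe1022cb85) (.leaf (nat_lit 0xe1022c99d) (nat_lit 2307))
 (.leaf (nat_lit 0xe1022cb85) (nat_lit 2307))
) (.node (nat_lit 0xe1022cd95) (.leaf (nat_lit 0xe1022cb8d) (nat_lit 2307))
 (.node (nat_lit 0xe1022cd9d) (.leaf (nat_lit 0xe1022cd95) (nat_lit 2307))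
 (.leaf (nat_lit 0xe1022cd9d) (nat_lit 2051))
))))) (.node (nat_lit 0xe102347ad) (.node (nat_lit 0xe102343a5) (.node (nat_lit 0xe102341b5) (.node (nat_lit 0xe1022cf8d) (.leaf (nat_lit 0xe1022cf85) (nat_lit 2307))
 (.leaf (nat_lit 0xe1022cf8d) (nat_lit 2051))
) (.node (nat_lit 0xe102341bd) (.leaf (nat_lit 0xe102341b5) (nat_lit 2308))
 (.leaf (nat_lit 0xe102341bd) (nat_lit 2309))
)) (.node (nat_lit 0xe102345b5) (.node (nat_lit 0xe102343ad) (.leaf (nat_lit 0xe102343a5) (nat_lit 2307))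
 (.leaf (nat_lit 0xe102343ad) (nat_lit 2308))
) (.node (nat_lit 0xe102345bd) (.leaf (nat_lit 0xe102345b5) (nat_lit 2309))
 (.node (nat_lit 0xe102347a5) (.leaf (nat_lit 0xe102345bd) (nat_lit 2053))
 (.leaf (nat_lit 0xe102347a5) (nat_lit 2308))
)))) (.node (nat_lit 0xe1023c39d) (.node (nat_lit 0xe1023c18d) (.node (nat_lit 0xe1023c185) (.leaf (nat_lit 0xe102347ad) (nat_lit 2052))
 (.leaf (nat_lit 0xe1023c185) (nat_lit 2308))
) (.node (nat_lit 0xe1023c395) (.leaf (nat_lit 0xe1023c18d) (nat_lit 2309))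
 (.leaf (nat_lit 0xe1023c395) (nat_lit 2307))
)) (.node (nat_lit 0xe1023c58d) (.node (nat_lit 0xe1023c585) (.leaf (nat_lit 0xe1023c39d) (nat_lit 2308))
 (.leaf (nat_lit 0xe1023c585) (nat_lit 2309))
) (.node (nat_lit 0xe1023c795) (.leaf (nat_lit 0xe1023c58d) (nat_lit 2053))
 (.node (nat_lit 0xe1023c79d) (.leaf (nat_lit 0xe1023c795) (nat_lit 2308))
 (.leaf (nat_lit 0xe1023c79d) (nat_lit 2052))
)))))))))) (.node (nat_lit 0xf086200e2) (.node (nat_lit 0xe1841416b) (.node (nat_lit 0xe1820c1b3) (.node (nat_lit 0xe106244e5) (.node (nat_lit 0xe10614ac5) (.node (nat_lit 0xe1060c8f5) (.node (nat_lit 0xe106044c5) (.node (nat_lit 0xe106042cd) (.node (nat_lit 0xe106040dd) (.leaf (nat_lit 0xe106040c5) (nat_lit 2053))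
 (.leaf (nat_lit 0xe106040dd) (nat_lit 1797))
) (.node (nat_lit 0xe106042d5) (.leaf (nat_lit 0xe106042cd) (nat_lit 2052))
 (.leaf (nat_lit 0xe106042d5) (nat_lit 2053))
)) (.node (nat_lit 0xe106046cd) (.node (nat_lit 0xe106044dd) (.leaf (nat_lit 0xe106044c5) (nat_lit 2052))
 (.leaf (nat_lit 0xe106044dd) (nat_lit 2053))
) (.node (nat_lit 0xe106046d5) (.leaf (nat_lit 0xe106046cd) (nat_lit 1796))
 (.node (nat_lit 0xe1060c8ed) (.leaf (nat_lit 0xe106046d5) (nat_lit 2048))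
 (.leaf (nat_lit 0xe1060c8ed) (nat_lit 2307))
)))) (.node (nat_lit 0xe1060ccf5) (.node (nat_lit 0xe1060cafd) (.node (nat_lit 0xe1060cae5) (.leaf (nat_lit 0xe1060c8f5) (nat_lit 2051))
 (.leaf (nat_lit 0xe1060cae5) (nat_lit 2051))
) (.node (nat_lit 0xe1060cced) (.leaf (nat_lit 0xe1060cafd) (nat_lit 1795))
 (.leaf (nat_lit 0xe1060cced) (nat_lit 2051))
)) (.node (nat_lit 0xe1060cefd) (.node (nat_lit 0xe1060cee5) (.leaf (nat_lit 0xe1060ccf5) (nat_lit 2307))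
 (.leaf (nat_lit 0xe1060cee5) (nat_lit 2307))
) (.node (nat_lit 0xe106148cd) (.leaf (nat_lit 0xe1060cefd) (nat_lit 2051))
 (.node (nat_lit 0xe106148d5) (.leaf (nat_lit 0xe106148cd) (nat_lit 2053))
 (.leaf (nat_lit 0xe106148d5) (nat_lit 2308))
))))) (.node (nat_lit 0xe1061c2f5) (.node (nat_lit 0xe10614ec5) (.node (nat_lit 0xe10614ccd) (.node (nat_lit 0xe10614add) (.leaf (nat_lit 0xe10614ac5) (nat_lit 2309))
 (.leaf (nat_lit 0xe10614add) (nat_lit 2052))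
) (.node (nat_lit 0xe10614cd5) (.leaf (nat_lit 0xe10614ccd) (nat_lit 1797))
 (.leaf (nat_lit 0xe10614cd5) (nat_lit 2053))
)) (.node (nat_lit 0xe1061c0e5) (.node (nat_lit 0xe10614edd) (.leaf (nat_lit 0xe10614ec5) (nat_lit 2053))
 (.leaf (nat_lit 0xe10614edd) (nat_lit 2309))
) (.node (nat_lit 0xe1061c0fd) (.leaf (nat_lit 0xe1061c0e5) (nat_lit 2053))
 (.node (nat_lit 0xe1061c2ed) (.leaf (nat_lit 0xe1061c0fd) (nat_lit 1797))
 (.leaf (nat_lit 0xe1061c2ed) (nat_lit 2052))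
)))) (.node (nat_lit 0xe1061c6f5) (.node (nat_lit 0xe1061c4fd) (.node (nat_lit 0xe1061c4e5) (.leaf (nat_lit 0xe1061c2f5) (nat_lit 2053))
 (.leaf (nat_lit 0xe1061c4e5) (nat_lit 2052))
) (.node (nat_lit 0xe1061c6ed) (.leaf (nat_lit 0xe1061c4fd) (nat_lit 2053))
 (.leaf (nat_lit 0xe1061c6ed) (nat_lit 1796))
)) (.node (nat_lit 0xe106240fd) (.node (nat_lit 0xe106240e5) (.leaf (nat_lit 0xe1061c6f5) (nat_lit 2048))
 (.leaf (nat_lit 0xe106240e5) (nat_lit 1797))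
) (.node (nat_lit 0xe106242ed) (.leaf (nat_lit 0xe106240fd) (nat_lit 1541))
 (.node (nat_lit 0xe106242f5) (.leaf (nat_lit 0xe106242ed) (nat_lit 2053))
 (.leaf (nat_lit 0xe106242f5) (nat_lit 1797))
)))))) (.node (nat_lit 0xe10634ee5) (.node (nat_lit 0xe1062ccd5) (.node (nat_lit 0xe1062c8cd) (.node (nat_lit 0xe106246ed) (.node (nat_lit 0xe106244fd) (.leaf (nat_lit 0xe106244e5) (nat_lit 2052))
 (.leaf (nat_lit 0xe106244fd) (nat_lit 1797))
) (.node (nat_lit 0xe106246f5) (.leaf (nat_lit 0xe106246ed) (nat_lit 1796))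
 (.leaf (nat_lit 0xe106246f5) (nat_lit 2053))
)) (.node (nat_lit 0xe1062cac5) (.node (nat_lit 0xe1062c8d5) (.leaf (nat_lit 0xe1062c8cd) (nat_lit 2307))
 (.leaf (nat_lit 0xe1062c8d5) (nat_lit 2307))
) (.node (nat_lit 0xe1062cadd) (.leaf (nat_lit 0xe1062cac5) (nat_lit 2307))
 (.node (nat_lit 0xe1062cccd) (.leaf (nat_lit 0xe1062cadd) (nat_lit 2051))
 (.leaf (nat_lit 0xe1062cccd) (nat_lit 2051))
)))) (.node (nat_lit 0xe106348f5) (.node (nat_lit 0xe1062cedd) (.node (nat_lit 0xe1062cec5) (.leaf (nat_lit 0xe1062ccd5) (nat_lit 2307))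
 (.leaf (nat_lit 0xe1062cec5) (nat_lit 2307))
) (.node (nat_lit 0xe106348ed) (.leaf (nat_lit 0xe1062cedd) (nat_lit 2307))
 (.leaf (nat_lit 0xe106348ed) (nat_lit 2309))
)) (.node (nat_lit 0xe10634afd) (.node (nat_lit 0xe10634ae5) (.leaf (nat_lit 0xe106348f5) (nat_lit 2308))
 (.leaf (nat_lit 0xe10634ae5) (nat_lit 2304))
) (.node (nat_lit 0xe10634ced) (.leaf (nat_lit 0xe10634afd) (nat_lit 2052))
 (.node (nat_lit 0xe10634cf5) (.leaf (nat_lit 0xe10634ced) (nat_lit 2053))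
 (.leaf (nat_lit 0xe10634cf5) (nat_lit 2309))
))))) (.node (nat_lit 0xe1063c6d5) (.node (nat_lit 0xe1063c2cd) (.node (nat_lit 0xe1063c0c5) (.node (nat_lit 0xe10634efd) (.leaf (nat_lit 0xe10634ee5) (nat_lit 2309))
 (.leaf (nat_lit 0xe10634efd) (nat_lit 2308))
) (.node (nat_lit 0xe1063c0dd) (.leaf (nat_lit 0xe1063c0c5) (nat_lit 2309))
 (.leaf (nat_lit 0xe1063c0dd) (nat_lit 2053))
)) (.node (nat_lit 0xe1063c4c5) (.node (nat_lit 0xe1063c2d5) (.leaf (nat_lit 0xe1063c2cd) (nat_lit 2308))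
 (.leaf (nat_lit 0xe1063c2d5) (nat_lit 2309))
) (.node (nat_lit 0xe1063c4dd) (.leaf (nat_lit 0xe1063c4c5) (nat_lit 2308))
 (.node (nat_lit 0xe1063c6cd) (.leaf (nat_lit 0xe1063c4dd) (nat_lit 2309))
 (.leaf (nat_lit 0xe1063c6cd) (nat_lit 2052))
)))) (.node (nat_lit 0xe1820439b) (.node (nat_lit 0xe1820418b) (.node (nat_lit 0xe18204183) (.leaf (nat_lit 0xe1063c6d5) (nat_lit 2304))
 (.leaf (nat_lit 0xe18204183) (nat_lit 1794))
) (.node (nat_lit 0xe18204393) (.leaf (nat_lit 0xe1820418b) (nat_lit 2050))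
 (.leaf (nat_lit 0xe18204393) (nat_lit 2050))
)) (.node (nat_lit 0xe1820459b) (.node (nat_lit 0xe18204593) (.leaf (nat_lit 0xe1820439b) (nat_lit 2053))
 (.leaf (nat_lit 0xe18204593) (nat_lit 2053))
) (.node (nat_lit 0xe18204783) (.leaf (nat_lit 0xe1820459b) (nat_lit 1797))
 (.node (nat_lit 0xe1820478b) (.leaf (nat_lit 0xe18204783) (nat_lit 1538))
 (.leaf (nat_lit 0xe1820478b) (nat_lit 1794))
))))))) (.node (nat_lit 0xe1822cda3) (.node (nat_lit 0xe1821cb93) (.node (nat_lit 0xe182149bb) (.node (nat_lit 0xe1820c5a3) (.node (nat_lit 0xe1820c3a3) (.node (nat_lit 0xe1820c1bb) (.leaf (nat_lit 0xe1820c1b3) (nat_lit 2306))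
 (.leaf (nat_lit 0xe1820c1bb) (nat_lit 2050))
) (.node (nat_lit 0xe1820c3ab) (.leaf (nat_lit 0xe1820c3a3) (nat_lit 2050))
 (.leaf (nat_lit 0xe1820c3ab) (nat_lit 1794))
)) (.node (nat_lit 0xe1820c7b3) (.node (nat_lit 0xe1820c5ab) (.leaf (nat_lit 0xe1820c5a3) (nat_lit 1794))
 (.leaf (nat_lit 0xe1820c5ab) (nat_lit 1538))
) (.node (nat_lit 0xe1820c7bb) (.leaf (nat_lit 0xe1820c7b3) (nat_lit 2049))
 (.node (nat_lit 0xe182149b3) (.leaf (nat_lit 0xe1820c7bb) (nat_lit 2305))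
 (.leaf (nat_lit 0xe182149b3) (nat_lit 1794))
)))) (.node (nat_lit 0xe18214dab) (.node (nat_lit 0xe18214bab) (.node (nat_lit 0xe18214ba3) (.leaf (nat_lit 0xe182149bb) (nat_lit 2050))
 (.leaf (nat_lit 0xe18214ba3) (nat_lit 2050))
) (.node (nat_lit 0xe18214da3) (.leaf (nat_lit 0xe18214bab) (nat_lit 2306))
 (.leaf (nat_lit 0xe18214da3) (nat_lit 2305))
)) (.node (nat_lit 0xe18214fbb) (.node (nat_lit 0xe18214fb3) (.leaf (nat_lit 0xe18214dab) (nat_lit 2049))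
 (.leaf (nat_lit 0xe18214fb3) (nat_lit 1538))
) (.node (nat_lit 0xe1821c983) (.leaf (nat_lit 0xe18214fbb) (nat_lit 1794))
 (.node (nat_lit 0xe1821c98b) (.leaf (nat_lit 0xe1821c983) (nat_lit 1793))
 (.leaf (nat_lit 0xe1821c98b) (nat_lit 2049))
))))) (.node (nat_lit 0xe18224b9b) (.node (nat_lit 0xe1821cf83) (.node (nat_lit 0xe1821cd93) (.node (nat_lit 0xe1821cb9b) (.leaf (nat_lit 0xe1821cb93) (nat_lit 2049))
 (.leaf (nat_lit 0xe1821cb9b) (nat_lit 2053))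
) (.node (nat_lit 0xe1821cd9b) (.leaf (nat_lit 0xe1821cd93) (nat_lit 2053))
 (.leaf (nat_lit 0xe1821cd9b) (nat_lit 1797))
)) (.node (nat_lit 0xe18224983) (.node (nat_lit 0xe1821cf8b) (.leaf (nat_lit 0xe1821cf83) (nat_lit 1537))
 (.leaf (nat_lit 0xe1821cf8b) (nat_lit 1793))
) (.node (nat_lit 0xe1822498b) (.leaf (nat_lit 0xe18224983) (nat_lit 1538))
 (.node (nat_lit 0xe18224b93) (.leaf (nat_lit 0xe1822498b) (nat_lit 1794))
 (.leaf (nat_lit 0xe18224b93) (nat_lit 1794))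
)))) (.node (nat_lit 0xe18224f8b) (.node (nat_lit 0xe18224d9b) (.node (nat_lit 0xe18224d93) (.leaf (nat_lit 0xe18224b9b) (nat_lit 2050))
 (.leaf (nat_lit 0xe18224d93) (nat_lit 2053))
) (.node (nat_lit 0xe18224f83) (.leaf (nat_lit 0xe18224d9b) (nat_lit 1797))
 (.leaf (nat_lit 0xe18224f83) (nat_lit 1282))
)) (.node (nat_lit 0xe1822c9bb) (.node (nat_lit 0xe1822c9b3) (.leaf (nat_lit 0xe18224f8b) (nat_lit 1538))
 (.leaf (nat_lit 0xe1822c9b3) (nat_lit 2049))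
) (.node (nat_lit 0xe1822cba3) (.leaf (nat_lit 0xe1822c9bb) (nat_lit 2305))
 (.node (nat_lit 0xe1822cbab) (.leaf (nat_lit 0xe1822cba3) (nat_lit 2306))
 (.leaf (nat_lit 0xe1822cbab) (nat_lit 2050))
)))))) (.node (nat_lit 0xe1823c783) (.node (nat_lit 0xe182345ab) (.node (nat_lit 0xe182341b3) (.node (nat_lit 0xe1822cfb3) (.node (nat_lit 0xe1822cdab) (.leaf (nat_lit 0xe1822cda3) (nat_lit 2050))
 (.leaf (nat_lit 0xe1822cdab) (nat_lit 1794))
) (.node (nat_lit 0xe1822cfbb) (.leaf (nat_lit 0xe1822cfb3) (nat_lit 1793))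
 (.leaf (nat_lit 0xe1822cfbb) (nat_lit 2049))
)) (.node (nat_lit 0xe182343a3) (.node (nat_lit 0xe182341bb) (.leaf (nat_lit 0xe182341b3) (nat_lit 2050))
 (.leaf (nat_lit 0xe182341bb) (nat_lit 2306))
) (.node (nat_lit 0xe182343ab) (.leaf (nat_lit 0xe182343a3) (nat_lit 2305))
 (.node (nat_lit 0xe182345a3) (.leaf (nat_lit 0xe182343ab) (nat_lit 2049))
 (.leaf (nat_lit 0xe182345a3) (nat_lit 2049))
)))) (.node (nat_lit 0xe1823c18b) (.node (nat_lit 0xe182347bb) (.node (nat_lit 0xe182347b3) (.leaf (nat_lit 0xe182345ab) (nat_lit 1793))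
 (.leaf (nat_lit 0xe182347b3) (nat_lit 1794))
) (.node (nat_lit 0xe1823c183) (.leaf (nat_lit 0xe182347bb) (nat_lit 2050))
 (.leaf (nat_lit 0xe1823c183) (nat_lit 2049))
)) (.node (nat_lit 0xe1823c39b) (.node (nat_lit 0xe1823c393) (.leaf (nat_lit 0xe1823c18b) (nat_lit 2305))
 (.leaf (nat_lit 0xe1823c393) (nat_lit 2306))
) (.node (nat_lit 0xe1823c593) (.leaf (nat_lit 0xe1823c39b) (nat_lit 2050))
 (.node (nat_lit 0xe1823c59b) (.leaf (nat_lit 0xe1823c593) (nat_lit 2050))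
 (.leaf (nat_lit 0xe1823c59b) (nat_lit 1794))
))))) (.node (nat_lit 0xe18404753) (.node (nat_lit 0xe1840434b) (.node (nat_lit 0xe18404143) (.node (nat_lit 0xe1823c78b) (.leaf (nat_lit 0xe1823c783) (nat_lit 1793))
 (.leaf (nat_lit 0xe1823c78b) (nat_lit 2049))
) (.node (nat_lit 0xe18404153) (.leaf (nat_lit 0xe18404143) (nat_lit 1794))
 (.leaf (nat_lit 0xe18404153) (nat_lit 2052))
)) (.node (nat_lit 0xe1840454b) (.node (nat_lit 0xe1840435b) (.leaf (nat_lit 0xe1840434b) (nat_lit 2050))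
 (.leaf (nat_lit 0xe1840435b) (nat_lit 1796))
) (.node (nat_lit 0xe1840455b) (.leaf (nat_lit 0xe1840454b) (nat_lit 1794))
 (.node (nat_lit 0xe18404743) (.leaf (nat_lit 0xe1840455b) (nat_lit 2050))
 (.leaf (nat_lit 0xe18404743) (nat_lit 1538))
)))) (.node (nat_lit 0xe1840cb73) (.node (nat_lit 0xe1840c97b) (.node (nat_lit 0xe1840c96b) (.leaf (nat_lit 0xe18404753) (nat_lit 1794))
 (.leaf (nat_lit 0xe1840c96b) (nat_lit 1794))
) (.node (nat_lit 0xe1840cb63) (.leaf (nat_lit 0xe1840c97b) (nat_lit 2050))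
 (.leaf (nat_lit 0xe1840cb63) (nat_lit 2050))
)) (.node (nat_lit 0xe1840cd73) (.node (nat_lit 0xe1840cd63) (.leaf (nat_lit 0xe1840cb73) (nat_lit 2049))
 (.leaf (nat_lit 0xe1840cd63) (nat_lit 1794))
) (.node (nat_lit 0xe1840cf6b) (.leaf (nat_lit 0xe1840cd73) (nat_lit 2050))
 (.node (nat_lit 0xe1840cf7b) (.leaf (nat_lit 0xe1840cf6b) (nat_lit 1538))
 (.leaf (nat_lit 0xe1840cf7b) (nat_lit 1794))
)))))))) (.node (nat_lit 0xf0841c862) (.node (nat_lit 0xe18434d63) (.node (nat_lit 0xe18424b4b) (.node (nat_lit 0xe1841c953) (.node (nat_lit 0xe18414563) (.node (nat_lit 0xe18414363) (.node (nat_lit 0xe1841417b) (.leaf (nat_lit 0xe1841416b) (nat_lit 2050))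
 (.leaf (nat_lit 0xe1841417b) (nat_lit 1794))
) (.node (nat_lit 0xe18414373) (.leaf (nat_lit 0xe18414363) (nat_lit 1794))
 (.leaf (nat_lit 0xe18414373) (nat_lit 1538))
)) (.node (nat_lit 0xe1841476b) (.node (nat_lit 0xe18414573) (.leaf (nat_lit 0xe18414563) (nat_lit 2050))
 (.leaf (nat_lit 0xe18414573) (nat_lit 1794))
) (.node (nat_lit 0xe1841477b) (.leaf (nat_lit 0xe1841476b) (nat_lit 2049))
 (.node (nat_lit 0xe1841c943) (.leaf (nat_lit 0xe1841477b) (nat_lit 2050))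
 (.leaf (nat_lit 0xe1841c943) (nat_lit 1793))
)))) (.node (nat_lit 0xe1841cd5b) (.node (nat_lit 0xe1841cb5b) (.node (nat_lit 0xe1841cb4b) (.leaf (nat_lit 0xe1841c953) (nat_lit 2052))
 (.leaf (nat_lit 0xe1841cb4b) (nat_lit 2049))
) (.node (nat_lit 0xe1841cd4b) (.leaf (nat_lit 0xe1841cb5b) (nat_lit 1796))
 (.leaf (nat_lit 0xe1841cd4b) (nat_lit 1793))
)) (.node (nat_lit 0xe1841cf53) (.node (nat_lit 0xe1841cf43) (.leaf (nat_lit 0xe1841cd5b) (nat_lit 2049))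
 (.leaf (nat_lit 0xe1841cf43) (nat_lit 1537))
) (.node (nat_lit 0xe18424943) (.leaf (nat_lit 0xe1841cf53) (nat_lit 1793))
 (.node (nat_lit 0xe18424953) (.leaf (nat_lit 0xe18424943) (nat_lit 1538))
 (.leaf (nat_lit 0xe18424953) (nat_lit 1794))
))))) (.node (nat_lit 0xe1842c373) (.node (nat_lit 0xe18424f43) (.node (nat_lit 0xe18424d4b) (.node (nat_lit 0xe18424b5b) (.leaf (nat_lit 0xe18424b4b) (nat_lit 1794))
 (.leaf (nat_lit 0xe18424b5b) (nat_lit 1796))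
) (.node (nat_lit 0xe18424d5b) (.leaf (nat_lit 0xe18424d4b) (nat_lit 1538))
 (.leaf (nat_lit 0xe18424d5b) (nat_lit 1794))
)) (.node (nat_lit 0xe1842c16b) (.node (nat_lit 0xe18424f53) (.leaf (nat_lit 0xe18424f43) (nat_lit 1282))
 (.leaf (nat_lit 0xe18424f53) (nat_lit 1538))
) (.node (nat_lit 0xe1842c17b) (.leaf (nat_lit 0xe1842c16b) (nat_lit 2050))
 (.node (nat_lit 0xe1842c363) (.leaf (nat_lit 0xe1842c17b) (nat_lit 2049))
 (.leaf (nat_lit 0xe1842c363) (nat_lit 2049))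
)))) (.node (nat_lit 0xe1842c77b) (.node (nat_lit 0xe1842c573) (.node (nat_lit 0xe1842c563) (.leaf (nat_lit 0xe1842c373) (nat_lit 1793))
 (.leaf (nat_lit 0xe1842c563) (nat_lit 2050))
) (.node (nat_lit 0xe1842c76b) (.leaf (nat_lit 0xe1842c573) (nat_lit 2049))
 (.leaf (nat_lit 0xe1842c76b) (nat_lit 1794))
)) (.node (nat_lit 0xe1843497b) (.node (nat_lit 0xe1843496b) (.leaf (nat_lit 0xe1842c77b) (nat_lit 2050))
 (.leaf (nat_lit 0xe1843496b) (nat_lit 2049))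
) (.node (nat_lit 0xe18434b63) (.leaf (nat_lit 0xe1843497b) (nat_lit 2050))
 (.node (nat_lit 0xe18434b73) (.leaf (nat_lit 0xe18434b63) (nat_lit 2050))
 (.leaf (nat_lit 0xe18434b73) (nat_lit 1794))
)))))) (.node (nat_lit 0xf0840474e) (.node (nat_lit 0xe1843c55b) (.node (nat_lit 0xe1843c143) (.node (nat_lit 0xe18434f6b) (.node (nat_lit 0xe18434d73) (.leaf (nat_lit 0xe18434d63) (nat_lit 2049))
 (.leaf (nat_lit 0xe18434d73) (nat_lit 2050))
) (.node (nat_lit 0xe18434f7b) (.leaf (nat_lit 0xe18434f6b) (nat_lit 1793))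
 (.leaf (nat_lit 0xe18434f7b) (nat_lit 2049))
)) (.node (nat_lit 0xe1843c34b) (.node (nat_lit 0xe1843c153) (.leaf (nat_lit 0xe1843c143) (nat_lit 2049))
 (.leaf (nat_lit 0xe1843c153) (nat_lit 2050))
) (.node (nat_lit 0xe1843c35b) (.leaf (nat_lit 0xe1843c34b) (nat_lit 2050))
 (.node (nat_lit 0xe1843c54b) (.leaf (nat_lit 0xe1843c35b) (nat_lit 1794))
 (.leaf (nat_lit 0xe1843c54b) (nat_lit 2049))
)))) (.node (nat_lit 0xf08404156) (.node (nat_lit 0xe1843c753) (.node (nat_lit 0xe1843c743) (.leaf (nat_lit 0xe1843c55b) (nat_lit 2050))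
 (.leaf (nat_lit 0xe1843c743) (nat_lit 1793))
) (.node (nat_lit 0xf08404146) (.leaf (nat_lit 0xe1843c753) (nat_lit 2049))
 (.leaf (nat_lit 0xf08404146) (nat_lit 2050))
)) (.node (nat_lit 0xf08404356) (.node (nat_lit 0xf08404346) (.leaf (nat_lit 0xf08404156) (nat_lit 1794))
 (.leaf (nat_lit 0xf08404346) (nat_lit 1794))
) (.node (nat_lit 0xf0840454e) (.leaf (nat_lit 0xf08404356) (nat_lit 1538))
 (.node (nat_lit 0xf0840455e) (.leaf (nat_lit 0xf0840454e) (nat_lit 2052))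
 (.leaf (nat_lit 0xf0840455e) (nat_lit 2052))
))))) (.node (nat_lit 0xf0840ce56) (.node (nat_lit 0xf0840ca4e) (.node (nat_lit 0xf0840c84e) (.node (nat_lit 0xf0840475e) (.leaf (nat_lit 0xf0840474e) (nat_lit 2048))
 (.leaf (nat_lit 0xf0840475e) (nat_lit 1796))
) (.node (nat_lit 0xf0840c85e) (.leaf (nat_lit 0xf0840c84e) (nat_lit 2309))
 (.leaf (nat_lit 0xf0840c85e) (nat_lit 2053))
)) (.node (nat_lit 0xf0840cc46) (.node (nat_lit 0xf0840ca5e) (.leaf (nat_lit 0xf0840ca4e) (nat_lit 2053))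
 (.leaf (nat_lit 0xf0840ca5e) (nat_lit 1797))
) (.node (nat_lit 0xf0840cc56) (.leaf (nat_lit 0xf0840cc46) (nat_lit 2309))
 (.node (nat_lit 0xf0840ce46) (.leaf (nat_lit 0xf0840cc56) (nat_lit 2306))
 (.leaf (nat_lit 0xf0840ce46) (nat_lit 2306))
)))) (.node (nat_lit 0xf0841437a) (.node (nat_lit 0xf0841417a) (.node (nat_lit 0xf0841416a) (.leaf (nat_lit 0xf0840ce56) (nat_lit 2050))
 (.leaf (nat_lit 0xf0841416a) (nat_lit 2052))
) (.node (nat_lit 0xf0841436a) (.leaf (nat_lit 0xf0841417a) (nat_lit 2051))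
 (.leaf (nat_lit 0xf0841436a) (nat_lit 2051))
)) (.node (nat_lit 0xf08414572) (.node (nat_lit 0xf08414562) (.leaf (nat_lit 0xf0841437a) (nat_lit 1795))
 (.leaf (nat_lit 0xf08414562) (nat_lit 1795))
) (.node (nat_lit 0xf08414762) (.leaf (nat_lit 0xf08414572) (nat_lit 1539))
 (.node (nat_lit 0xf08414772) (.leaf (nat_lit 0xf08414762) (nat_lit 1539))
 (.leaf (nat_lit 0xf08414772) (nat_lit 1283))
))))))) (.node (nat_lit 0xf0843854e) (.node (nat_lit 0xf0842836a) (.node (nat_lit 0xf08420872) (.node (nat_lit 0xf0841cc6a) (.node (nat_lit 0xf0841ca62) (.node (nat_lit 0xf0841c872) (.leaf (nat_lit 0xf0841c862) (nat_lit 1793))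
 (.leaf (nat_lit 0xf0841c872) (nat_lit 1537))
) (.node (nat_lit 0xf0841ca72) (.leaf (nat_lit 0xf0841ca62) (nat_lit 1537))
 (.leaf (nat_lit 0xf0841ca72) (nat_lit 1281))
)) (.node (nat_lit 0xf0841ce6a) (.node (nat_lit 0xf0841cc7a) (.leaf (nat_lit 0xf0841cc6a) (nat_lit 2048))
 (.leaf (nat_lit 0xf0841cc7a) (nat_lit 1796))
) (.node (nat_lit 0xf0841ce7a) (.leaf (nat_lit 0xf0841ce6a) (nat_lit 1792))
 (.node (nat_lit 0xf08420862) (.leaf (nat_lit 0xf0841ce7a) (nat_lit 1540))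
 (.leaf (nat_lit 0xf08420862) (nat_lit 1538))
)))) (.node (nat_lit 0xf08420c7a) (.node (nat_lit 0xf08420a72) (.node (nat_lit 0xf08420a62) (.leaf (nat_lit 0xf08420872) (nat_lit 1282))
 (.leaf (nat_lit 0xf08420a62) (nat_lit 1282))
) (.node (nat_lit 0xf08420c6a) (.leaf (nat_lit 0xf08420a72) (nat_lit 1026))
 (.leaf (nat_lit 0xf08420c6a) (nat_lit 1796))
)) (.node (nat_lit 0xf08420e7a) (.node (nat_lit 0xf08420e6a) (.leaf (nat_lit 0xf08420c7a) (nat_lit 1796))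
 (.leaf (nat_lit 0xf08420e6a) (nat_lit 1792))
) (.node (nat_lit 0xf0842816a) (.leaf (nat_lit 0xf08420e7a) (nat_lit 1540))
 (.node (nat_lit 0xf0842817a) (.leaf (nat_lit 0xf0842816a) (nat_lit 2307))
 (.leaf (nat_lit 0xf0842817a) (nat_lit 2051))
))))) (.node (nat_lit 0xf08430a5e) (.node (nat_lit 0xf08428762) (.node (nat_lit 0xf08428562) (.node (nat_lit 0xf0842837a) (.leaf (nat_lit 0xf0842836a) (nat_lit 2051))
 (.leaf (nat_lit 0xf0842837a) (nat_lit 1795))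
) (.node (nat_lit 0xf08428572) (.leaf (nat_lit 0xf08428562) (nat_lit 2050))
 (.leaf (nat_lit 0xf08428572) (nat_lit 1794))
)) (.node (nat_lit 0xf0843084e) (.node (nat_lit 0xf08428772) (.leaf (nat_lit 0xf08428762) (nat_lit 1794))
 (.leaf (nat_lit 0xf08428772) (nat_lit 1538))
) (.node (nat_lit 0xf0843085e) (.leaf (nat_lit 0xf0843084e) (nat_lit 2308))
 (.node (nat_lit 0xf08430a4e) (.leaf (nat_lit 0xf0843085e) (nat_lit 2307))
 (.leaf (nat_lit 0xf08430a4e) (nat_lit 2307))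
)))) (.node (nat_lit 0xf08430e56) (.node (nat_lit 0xf08430c56) (.node (nat_lit 0xf08430c46) (.leaf (nat_lit 0xf08430a5e) (nat_lit 2051))
 (.leaf (nat_lit 0xf08430c46) (nat_lit 2307))
) (.node (nat_lit 0xf08430e46) (.leaf (nat_lit 0xf08430c56) (nat_lit 2051))
 (.leaf (nat_lit 0xf08430e46) (nat_lit 2051))
)) (.node (nat_lit 0xf08438156) (.node (nat_lit 0xf08438146) (.leaf (nat_lit 0xf08430e56) (nat_lit 1795))
 (.leaf (nat_lit 0xf08438146) (nat_lit 2052))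
) (.node (nat_lit 0xf08438346) (.leaf (nat_lit 0xf08438156) (nat_lit 2049))
 (.node (nat_lit 0xf08438356) (.leaf (nat_lit 0xf08438346) (nat_lit 2049))
 (.leaf (nat_lit 0xf08438356) (nat_lit 1793))
)))))) (.node (nat_lit 0xf0860cfc6) (.node (nat_lit 0xf086044d6) (.node (nat_lit 0xf086040c6) (.node (nat_lit 0xf0843874e) (.node (nat_lit 0xf0843855e) (.leaf (nat_lit 0xf0843854e) (nat_lit 2304))
 (.leaf (nat_lit 0xf0843855e) (nat_lit 2052))
) (.node (nat_lit 0xf0843875e) (.leaf (nat_lit 0xf0843874e) (nat_lit 2048))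
 (.leaf (nat_lit 0xf0843875e) (nat_lit 1796))
)) (.node (nat_lit 0xf086042c6) (.node (nat_lit 0xf086040de) (.leaf (nat_lit 0xf086040c6) (nat_lit 2053))
 (.leaf (nat_lit 0xf086040de) (nat_lit 1797))
) (.node (nat_lit 0xf086042de) (.leaf (nat_lit 0xf086042c6) (nat_lit 2309))
 (.node (nat_lit 0xf086044ce) (.leaf (nat_lit 0xf086042de) (nat_lit 2053))
 (.leaf (nat_lit 0xf086044ce) (nat_lit 2050))
)))) (.node (nat_lit 0xf0860c9d6) (.node (nat_lit 0xf086046d6) (.node (nat_lit 0xf086046ce) (.leaf (nat_lit 0xf086044d6) (nat_lit 1794))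
 (.leaf (nat_lit 0xf086046ce) (nat_lit 1794))
) (.node (nat_lit 0xf0860c9ce) (.leaf (nat_lit 0xf086046d6) (nat_lit 1538))
 (.leaf (nat_lit 0xf0860c9ce) (nat_lit 2052))
)) (.node (nat_lit 0xf0860cbd6) (.node (nat_lit 0xf0860cbce) (.leaf (nat_lit 0xf0860c9d6) (nat_lit 2306))
 (.leaf (nat_lit 0xf0860cbce) (nat_lit 2308))
) (.node (nat_lit 0xf0860cdc6) (.leaf (nat_lit 0xf0860cbd6) (nat_lit 2050))
 (.node (nat_lit 0xf0860cdde) (.leaf (nat_lit 0xf0860cdc6) (nat_lit 2048))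
 (.leaf (nat_lit 0xf0860cdde) (nat_lit 1796))
))))) (.node (nat_lit 0xf08614ffa) (.node (nat_lit 0xf08614bea) (.node (nat_lit 0xf086149ea) (.node (nat_lit 0xf0860cfde) (.leaf (nat_lit 0xf0860cfc6) (nat_lit 2304))
 (.leaf (nat_lit 0xf0860cfde) (nat_lit 2052))
) (.node (nat_lit 0xf086149f2) (.leaf (nat_lit 0xf086149ea) (nat_lit 1795))
 (.leaf (nat_lit 0xf086149f2) (nat_lit 1539))
)) (.node (nat_lit 0xf08614de2) (.node (nat_lit 0xf08614bf2) (.leaf (nat_lit 0xf08614bea) (nat_lit 1539))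
 (.leaf (nat_lit 0xf08614bf2) (nat_lit 1283))
) (.node (nat_lit 0xf08614dfa) (.leaf (nat_lit 0xf08614de2) (nat_lit 2051))
 (.node (nat_lit 0xf08614fe2) (.leaf (nat_lit 0xf08614dfa) (nat_lit 1795))
 (.leaf (nat_lit 0xf08614fe2) (nat_lit 2052))
)))) (.node (nat_lit 0xf0861c2fa) (.node (nat_lit 0xf0861c0fa) (.node (nat_lit 0xf0861c0e2) (.leaf (nat_lit 0xf08614ffa) (nat_lit 2051))
 (.leaf (nat_lit 0xf0861c0e2) (nat_lit 1797))
) (.node (nat_lit 0xf0861c2e2) (.leaf (nat_lit 0xf0861c0fa) (nat_lit 1541))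
 (.leaf (nat_lit 0xf0861c2e2) (nat_lit 2053))
)) (.node (nat_lit 0xf0861c4f2) (.node (nat_lit 0xf0861c4ea) (.leaf (nat_lit 0xf0861c2fa) (nat_lit 1797))
 (.leaf (nat_lit 0xf0861c4ea) (nat_lit 1793))
) (.node (nat_lit 0xf0861c6ea) (.leaf (nat_lit 0xf0861c4f2) (nat_lit 1537))
 (.node (nat_lit 0xf0861c6f2) (.leaf (nat_lit 0xf0861c6ea) (nat_lit 1537))
 (.leaf (nat_lit 0xf0861c6f2) (nat_lit 1281))
))))))))) (.node (nat_lit 0xf106309e9) (.node (nat_lit 0xf10228895) (.node (nat_lit 0xf10204585) (.node (nat_lit 0xf08630bce) (.node (nat_lit 0xf086289f2) (.node (nat_lit 0xf086204ea) (.node (nat_lit 0xf086202e2) (.node (nat_lit 0xf086200fa) (.leaf (nat_lit 0xf086200e2) (nat_lit 1797))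
 (.leaf (nat_lit 0xf086200fa) (nat_lit 1541))
) (.node (nat_lit 0xf086202fa) (.leaf (nat_lit 0xf086202e2) (nat_lit 1796))
 (.leaf (nat_lit 0xf086202fa) (nat_lit 1797))
)) (.node (nat_lit 0xf086206ea) (.node (nat_lit 0xf086204f2) (.leaf (nat_lit 0xf086204ea) (nat_lit 1538))
 (.leaf (nat_lit 0xf086204f2) (nat_lit 1282))
) (.node (nat_lit 0xf086206f2) (.leaf (nat_lit 0xf086206ea) (nat_lit 1282))
 (.node (nat_lit 0xf086289ea) (.leaf (nat_lit 0xf086206f2) (nat_lit 1026))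
 (.leaf (nat_lit 0xf086289ea) (nat_lit 2050))
)))) (.node (nat_lit 0xf08628dfa) (.node (nat_lit 0xf08628bf2) (.node (nat_lit 0xf08628bea) (.leaf (nat_lit 0xf086289f2) (nat_lit 1794))
 (.leaf (nat_lit 0xf08628bea) (nat_lit 1794))
) (.node (nat_lit 0xf08628de2) (.leaf (nat_lit 0xf08628bf2) (nat_lit 1538))
 (.leaf (nat_lit 0xf08628de2) (nat_lit 2051))
)) (.node (nat_lit 0xf08628ffa) (.node (nat_lit 0xf08628fe2) (.leaf (nat_lit 0xf08628dfa) (nat_lit 1795))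
 (.leaf (nat_lit 0xf08628fe2) (nat_lit 2307))
) (.node (nat_lit 0xf086309ce) (.leaf (nat_lit 0xf08628ffa) (nat_lit 2051))
 (.node (nat_lit 0xf086309d6) (.leaf (nat_lit 0xf086309ce) (nat_lit 2307))
 (.leaf (nat_lit 0xf086309d6) (nat_lit 2051))
))))) (.node (nat_lit 0xf086382de) (.node (nat_lit 0xf08630fc6) (.node (nat_lit 0xf08630dc6) (.node (nat_lit 0xf08630bd6) (.leaf (nat_lit 0xf08630bce) (nat_lit 2051))
 (.leaf (nat_lit 0xf08630bd6) (nat_lit 1795))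
) (.node (nat_lit 0xf08630dde) (.leaf (nat_lit 0xf08630dc6) (nat_lit 2307))
 (.leaf (nat_lit 0xf08630dde) (nat_lit 2051))
)) (.node (nat_lit 0xf086380c6) (.node (nat_lit 0xf08630fde) (.leaf (nat_lit 0xf08630fc6) (nat_lit 2308))
 (.leaf (nat_lit 0xf08630fde) (nat_lit 2307))
) (.node (nat_lit 0xf086380de) (.leaf (nat_lit 0xf086380c6) (nat_lit 2053))
 (.node (nat_lit 0xf086382c6) (.leaf (nat_lit 0xf086380de) (nat_lit 1797))
 (.leaf (nat_lit 0xf086382c6) (nat_lit 2309))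
)))) (.node (nat_lit 0xf086386d6) (.node (nat_lit 0xf086384d6) (.node (nat_lit 0xf086384ce) (.leaf (nat_lit 0xf086382de) (nat_lit 2053))
 (.leaf (nat_lit 0xf086384ce) (nat_lit 2305))
) (.node (nat_lit 0xf086386ce) (.leaf (nat_lit 0xf086384d6) (nat_lit 2049))
 (.leaf (nat_lit 0xf086386ce) (nat_lit 2049))
)) (.node (nat_lit 0xf1020418d) (.node (nat_lit 0xf10204185) (.leaf (nat_lit 0xf086386d6) (nat_lit 1793))
 (.leaf (nat_lit 0xf10204185) (nat_lit 2052))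
) (.node (nat_lit 0xf10204395) (.leaf (nat_lit 0xf1020418d) (nat_lit 2053))
 (.node (nat_lit 0xf1020439d) (.leaf (nat_lit 0xf10204395) (nat_lit 2052))
 (.leaf (nat_lit 0xf1020439d) (nat_lit 2052))
)))))) (.node (nat_lit 0xf10214e85) (.node (nat_lit 0xf1020c5b9) (.node (nat_lit 0xf1020c1b1) (.node (nat_lit 0xf10204795) (.node (nat_lit 0xf1020458d) (.leaf (nat_lit 0xf10204585) (nat_lit 2053))
 (.leaf (nat_lit 0xf1020458d) (nat_lit 1797))
) (.node (nat_lit 0xf1020479d) (.leaf (nat_lit 0xf10204795) (nat_lit 2052))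
 (.leaf (nat_lit 0xf1020479d) (nat_lit 1796))
)) (.node (nat_lit 0xf1020c3a1) (.node (nat_lit 0xf1020c1b9) (.leaf (nat_lit 0xf1020c1b1) (nat_lit 2051))
 (.leaf (nat_lit 0xf1020c1b9) (nat_lit 2051))
) (.node (nat_lit 0xf1020c3a9) (.leaf (nat_lit 0xf1020c3a1) (nat_lit 2051))
 (.node (nat_lit 0xf1020c5b1) (.leaf (nat_lit 0xf1020c3a9) (nat_lit 1795))
 (.leaf (nat_lit 0xf1020c5b1) (nat_lit 2051))
)))) (.node (nat_lit 0xf1021489d) (.node (nat_lit 0xf1020c7a9) (.node (nat_lit 0xf1020c7a1) (.leaf (nat_lit 0xf1020c5b9) (nat_lit 1795))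
 (.leaf (nat_lit 0xf1020c7a1) (nat_lit 1795))
) (.node (nat_lit 0xf10214895) (.leaf (nat_lit 0xf1020c7a9) (nat_lit 1539))
 (.leaf (nat_lit 0xf10214895) (nat_lit 2053))
)) (.node (nat_lit 0xf10214a8d) (.node (nat_lit 0xf10214a85) (.leaf (nat_lit 0xf1021489d) (nat_lit 1797))
 (.leaf (nat_lit 0xf10214a85) (nat_lit 2052))
) (.node (nat_lit 0xf10214c95) (.leaf (nat_lit 0xf10214a8d) (nat_lit 2308))
 (.node (nat_lit 0xf10214c9d) (.leaf (nat_lit 0xf10214c95) (nat_lit 1797))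
 (.leaf (nat_lit 0xf10214c9d) (nat_lit 1541))
))))) (.node (nat_lit 0xf1021ceb9) (.node (nat_lit 0xf1021cab1) (.node (nat_lit 0xf1021c8a1) (.node (nat_lit 0xf10214e8d) (.leaf (nat_lit 0xf10214e85) (nat_lit 2309))
 (.leaf (nat_lit 0xf10214e8d) (nat_lit 2053))
) (.node (nat_lit 0xf1021c8a9) (.leaf (nat_lit 0xf1021c8a1) (nat_lit 1796))
 (.leaf (nat_lit 0xf1021c8a9) (nat_lit 1797))
)) (.node (nat_lit 0xf1021cca1) (.node (nat_lit 0xf1021cab9) (.leaf (nat_lit 0xf1021cab1) (nat_lit 2052))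
 (.leaf (nat_lit 0xf1021cab9) (nat_lit 1796))
) (.node (nat_lit 0xf1021cca9) (.leaf (nat_lit 0xf1021cca1) (nat_lit 1797))
 (.node (nat_lit 0xf1021ceb1) (.leaf (nat_lit 0xf1021cca9) (nat_lit 1541))
 (.leaf (nat_lit 0xf1021ceb1) (nat_lit 1796))
)))) (.node (nat_lit 0xf10220ab9) (.node (nat_lit 0xf102208a9) (.node (nat_lit 0xf102208a1) (.leaf (nat_lit 0xf1021ceb9) (nat_lit 1540))
 (.leaf (nat_lit 0xf102208a1) (nat_lit 1797))
) (.node (nat_lit 0xf10220ab1) (.leaf (nat_lit 0xf102208a9) (nat_lit 1541))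
 (.leaf (nat_lit 0xf10220ab1) (nat_lit 1796))
)) (.node (nat_lit 0xf10220ca9) (.node (nat_lit 0xf10220ca1) (.leaf (nat_lit 0xf10220ab9) (nat_lit 1796))
 (.leaf (nat_lit 0xf10220ca1) (nat_lit 1541))
) (.node (nat_lit 0xf10220eb1) (.leaf (nat_lit 0xf10220ca9) (nat_lit 1285))
 (.node (nat_lit 0xf10220eb9) (.leaf (nat_lit 0xf10220eb1) (nat_lit 1796))
 (.leaf (nat_lit 0xf10220eb9) (nat_lit 1540))
))))))) (.node (nat_lit 0xf1060cde9) (.node (nat_lit 0xf10238395) (.node (nat_lit 0xf102301b9) (.node (nat_lit 0xf10228c95) (.node (nat_lit 0xf10228a85) (.node (nat_lit 0xf1022889d) (.leaf (nat_lit 0xf10228895) (nat_lit 2309))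
 (.leaf (nat_lit 0xf1022889d) (nat_lit 2053))
) (.node (nat_lit 0xf10228a8d) (.leaf (nat_lit 0xf10228a85) (nat_lit 2307))
 (.leaf (nat_lit 0xf10228a8d) (nat_lit 2307))
)) (.node (nat_lit 0xf10228e85) (.node (nat_lit 0xf10228c9d) (.leaf (nat_lit 0xf10228c95) (nat_lit 2053))
 (.leaf (nat_lit 0xf10228c9d) (nat_lit 1797))
) (.node (nat_lit 0xf10228e8d) (.leaf (nat_lit 0xf10228e85) (nat_lit 2307))
 (.node (nat_lit 0xf102301b1) (.leaf (nat_lit 0xf10228e8d) (nat_lit 2051))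
 (.leaf (nat_lit 0xf102301b1) (nat_lit 2307))
)))) (.node (nat_lit 0xf102305b9) (.node (nat_lit 0xf102303a9) (.node (nat_lit 0xf102303a1) (.leaf (nat_lit 0xf102301b9) (nat_lit 2051))
 (.leaf (nat_lit 0xf102303a1) (nat_lit 2051))
) (.node (nat_lit 0xf102305b1) (.leaf (nat_lit 0xf102303a9) (nat_lit 2051))
 (.leaf (nat_lit 0xf102305b1) (nat_lit 2051))
)) (.node (nat_lit 0xf102307a9) (.node (nat_lit 0xf102307a1) (.leaf (nat_lit 0xf102305b9) (nat_lit 1795))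
 (.leaf (nat_lit 0xf102307a1) (nat_lit 2051))
) (.node (nat_lit 0xf10238185) (.leaf (nat_lit 0xf102307a9) (nat_lit 1795))
 (.node (nat_lit 0xf1023818d) (.leaf (nat_lit 0xf10238185) (nat_lit 2052))
 (.leaf (nat_lit 0xf1023818d) (nat_lit 2308))
))))) (.node (nat_lit 0xf106042d5) (.node (nat_lit 0xf10238795) (.node (nat_lit 0xf10238585) (.node (nat_lit 0xf1023839d) (.leaf (nat_lit 0xf10238395) (nat_lit 2307))
 (.leaf (nat_lit 0xf1023839d) (nat_lit 2051))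
) (.node (nat_lit 0xf1023858d) (.leaf (nat_lit 0xf10238585) (nat_lit 2309))
 (.leaf (nat_lit 0xf1023858d) (nat_lit 2053))
)) (.node (nat_lit 0xf106040c5) (.node (nat_lit 0xf1023879d) (.leaf (nat_lit 0xf10238795) (nat_lit 2051))
 (.leaf (nat_lit 0xf1023879d) (nat_lit 1795))
) (.node (nat_lit 0xf106040dd) (.leaf (nat_lit 0xf106040c5) (nat_lit 2053))
 (.node (nat_lit 0xf106042cd) (.leaf (nat_lit 0xf106040dd) (nat_lit 1797))
 (.leaf (nat_lit 0xf106042cd) (nat_lit 2052))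
)))) (.node (nat_lit 0xf106046d5) (.node (nat_lit 0xf106044dd) (.node (nat_lit 0xf106044c5) (.leaf (nat_lit 0xf106042d5) (nat_lit 2053))
 (.leaf (nat_lit 0xf106044c5) (nat_lit 2052))
) (.node (nat_lit 0xf106046cd) (.leaf (nat_lit 0xf106044dd) (nat_lit 2053))
 (.leaf (nat_lit 0xf106046cd) (nat_lit 1796))
)) (.node (nat_lit 0xf1060c9f1) (.node (nat_lit 0xf1060c9e9) (.leaf (nat_lit 0xf106046d5) (nat_lit 2048))
 (.leaf (nat_lit 0xf1060c9e9) (nat_lit 1795))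
) (.node (nat_lit 0xf1060cbe1) (.leaf (nat_lit 0xf1060c9f1) (nat_lit 2051))
 (.node (nat_lit 0xf1060cbf9) (.leaf (nat_lit 0xf1060cbe1) (nat_lit 2051))
 (.leaf (nat_lit 0xf1060cbf9) (nat_lit 1795))
)))))) (.node (nat_lit 0xf1061c6e9) (.node (nat_lit 0xf10614dd5) (.node (nat_lit 0xf106149cd) (.node (nat_lit 0xf1060cfe1) (.node (nat_lit 0xf1060cdf1) (.leaf (nat_lit 0xf1060cde9) (nat_lit 1539))
 (.leaf (nat_lit 0xf1060cdf1) (nat_lit 1795))
) (.node (nat_lit 0xf1060cff9) (.leaf (nat_lit 0xf1060cfe1) (nat_lit 1795))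
 (.leaf (nat_lit 0xf1060cff9) (nat_lit 2051))
)) (.node (nat_lit 0xf10614bc5) (.node (nat_lit 0xf106149d5) (.leaf (nat_lit 0xf106149cd) (nat_lit 2048))
 (.leaf (nat_lit 0xf106149d5) (nat_lit 1796))
) (.node (nat_lit 0xf10614bdd) (.leaf (nat_lit 0xf10614bc5) (nat_lit 1792))
 (.node (nat_lit 0xf10614dcd) (.leaf (nat_lit 0xf10614bdd) (nat_lit 1540))
 (.leaf (nat_lit 0xf10614dcd) (nat_lit 2052))
)))) (.node (nat_lit 0xf1061c0f9) (.node (nat_lit 0xf10614fdd) (.node (nat_lit 0xf10614fc5) (.leaf (nat_lit 0xf10614dd5) (nat_lit 2052))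
 (.leaf (nat_lit 0xf10614fc5) (nat_lit 2048))
) (.node (nat_lit 0xf1061c0e1) (.leaf (nat_lit 0xf10614fdd) (nat_lit 1796))
 (.leaf (nat_lit 0xf1061c0e1) (nat_lit 1797))
)) (.node (nat_lit 0xf1061c2f1) (.node (nat_lit 0xf1061c2e9) (.leaf (nat_lit 0xf1061c0f9) (nat_lit 1541))
 (.leaf (nat_lit 0xf1061c2e9) (nat_lit 1796))
) (.node (nat_lit 0xf1061c4e1) (.leaf (nat_lit 0xf1061c2f1) (nat_lit 1797))
 (.node (nat_lit 0xf1061c4f9) (.leaf (nat_lit 0xf1061c4e1) (nat_lit 1796))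
 (.leaf (nat_lit 0xf1061c4f9) (nat_lit 1797))
))))) (.node (nat_lit 0xf106206f1) (.node (nat_lit 0xf106202e9) (.node (nat_lit 0xf106200e1) (.node (nat_lit 0xf1061c6f1) (.leaf (nat_lit 0xf1061c6e9) (nat_lit 1540))
 (.leaf (nat_lit 0xf1061c6f1) (nat_lit 1792))
) (.node (nat_lit 0xf106200f9) (.leaf (nat_lit 0xf106200e1) (nat_lit 1796))
 (.leaf (nat_lit 0xf106200f9) (nat_lit 1541))
)) (.node (nat_lit 0xf106204e1) (.node (nat_lit 0xf106202f1) (.leaf (nat_lit 0xf106202e9) (nat_lit 1540))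
 (.leaf (nat_lit 0xf106202f1) (nat_lit 1797))
) (.node (nat_lit 0xf106204f9) (.leaf (nat_lit 0xf106204e1) (nat_lit 1540))
 (.node (nat_lit 0xf106206e9) (.leaf (nat_lit 0xf106204f9) (nat_lit 1792))
 (.leaf (nat_lit 0xf106206e9) (nat_lit 1284))
)))) (.node (nat_lit 0xf10628bdd) (.node (nat_lit 0xf106289d5) (.node (nat_lit 0xf106289cd) (.leaf (nat_lit 0xf106206f1) (nat_lit 1536))
 (.leaf (nat_lit 0xf106289cd) (nat_lit 2304))
) (.node (nat_lit 0xf10628bc5) (.leaf (nat_lit 0xf106289d5) (nat_lit 2052))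
 (.leaf (nat_lit 0xf10628bc5) (nat_lit 2048))
)) (.node (nat_lit 0xf10628dd5) (.node (nat_lit 0xf10628dcd) (.leaf (nat_lit 0xf10628bdd) (nat_lit 1796))
 (.leaf (nat_lit 0xf10628dcd) (nat_lit 2051))
) (.node (nat_lit 0xf10628fc5) (.leaf (nat_lit 0xf10628dd5) (nat_lit 2308))
 (.node (nat_lit 0xf10628fdd) (.leaf (nat_lit 0xf10628fc5) (nat_lit 2307))
 (.leaf (nat_lit 0xf10628fdd) (nat_lit 2052))
)))))))) (.node (nat_lit 0xf18238183) (.node (nat_lit 0xf18214ca7) (.node (nat_lit 0xf18204393) (.node (nat_lit 0xf106380dd) (.node (nat_lit 0xf10630de9) (.node (nat_lit 0xf10630be1) (.node (nat_lit 0xf106309f1) (.leaf (nat_lit 0xf106309e9) (nat_lit 2051))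
 (.leaf (nat_lit 0xf106309f1) (nat_lit 2051))
) (.node (nat_lit 0xf10630bf9) (.leaf (nat_lit 0xf10630be1) (nat_lit 2051))
 (.leaf (nat_lit 0xf10630bf9) (nat_lit 1795))
)) (.node (nat_lit 0xf10630fe1) (.node (nat_lit 0xf10630df1) (.leaf (nat_lit 0xf10630de9) (nat_lit 1795))
 (.leaf (nat_lit 0xf10630df1) (nat_lit 2051))
) (.node (nat_lit 0xf10630ff9) (.leaf (nat_lit 0xf10630fe1) (nat_lit 2051))
 (.node (nat_lit 0xf106380c5) (.leaf (nat_lit 0xf10630ff9) (nat_lit 2051))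
 (.leaf (nat_lit 0xf106380c5) (nat_lit 2051))
)))) (.node (nat_lit 0xf106384dd) (.node (nat_lit 0xf106382d5) (.node (nat_lit 0xf106382cd) (.leaf (nat_lit 0xf106380dd) (nat_lit 1795))
 (.leaf (nat_lit 0xf106382cd) (nat_lit 2307))
) (.node (nat_lit 0xf106384c5) (.leaf (nat_lit 0xf106382d5) (nat_lit 2051))
 (.leaf (nat_lit 0xf106384c5) (nat_lit 2308))
)) (.node (nat_lit 0xf106386d5) (.node (nat_lit 0xf106386cd) (.leaf (nat_lit 0xf106384dd) (nat_lit 2051))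
 (.leaf (nat_lit 0xf106386cd) (nat_lit 2052))
) (.node (nat_lit 0xf18204183) (.leaf (nat_lit 0xf106386d5) (nat_lit 2307))
 (.node (nat_lit 0xf1820418b) (.leaf (nat_lit 0xf18204183) (nat_lit 1795))
 (.leaf (nat_lit 0xf1820418b) (nat_lit 2051))
))))) (.node (nat_lit 0xf1820c3af) (.node (nat_lit 0xf18204783) (.node (nat_lit 0xf18204593) (.node (nat_lit 0xf1820439b) (.leaf (nat_lit 0xf18204393) (nat_lit 2051))
 (.leaf (nat_lit 0xf1820439b) (nat_lit 1795))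
) (.node (nat_lit 0xf1820459b) (.leaf (nat_lit 0xf18204593) (nat_lit 1795))
 (.leaf (nat_lit 0xf1820459b) (nat_lit 1539))
)) (.node (nat_lit 0xf1820c1b7) (.node (nat_lit 0xf1820478b) (.leaf (nat_lit 0xf18204783) (nat_lit 1539))
 (.leaf (nat_lit 0xf1820478b) (nat_lit 1795))
) (.node (nat_lit 0xf1820c1bf) (.leaf (nat_lit 0xf1820c1b7) (nat_lit 2052))
 (.node (nat_lit 0xf1820c3a7) (.leaf (nat_lit 0xf1820c1bf) (nat_lit 2308))
 (.leaf (nat_lit 0xf1820c3a7) (nat_lit 2052))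
)))) (.node (nat_lit 0xf1820c7bf) (.node (nat_lit 0xf1820c5af) (.node (nat_lit 0xf1820c5a7) (.leaf (nat_lit 0xf1820c3af) (nat_lit 2050))
 (.leaf (nat_lit 0xf1820c5a7) (nat_lit 2050))
) (.node (nat_lit 0xf1820c7b7) (.leaf (nat_lit 0xf1820c5af) (nat_lit 1794))
 (.leaf (nat_lit 0xf1820c7b7) (nat_lit 1796))
)) (.node (nat_lit 0xf182148bf) (.node (nat_lit 0xf182148b7) (.leaf (nat_lit 0xf1820c7bf) (nat_lit 2052))
 (.leaf (nat_lit 0xf182148b7) (nat_lit 2050))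
) (.node (nat_lit 0xf18214aa7) (.leaf (nat_lit 0xf182148bf) (nat_lit 2052))
 (.node (nat_lit 0xf18214aaf) (.leaf (nat_lit 0xf18214aa7) (nat_lit 2053))
 (.leaf (nat_lit 0xf18214aaf) (nat_lit 1797))
)))))) (.node (nat_lit 0xf18220e83) (.node (nat_lit 0xf1821cc9b) (.node (nat_lit 0xf1821c883) (.node (nat_lit 0xf18214eb7) (.node (nat_lit 0xf18214caf) (.leaf (nat_lit 0xf18214ca7) (nat_lit 1797))
 (.leaf (nat_lit 0xf18214caf) (nat_lit 1541))
) (.node (nat_lit 0xf18214ebf) (.leaf (nat_lit 0xf18214eb7) (nat_lit 1794))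
 (.leaf (nat_lit 0xf18214ebf) (nat_lit 2050))
)) (.node (nat_lit 0xf1821ca93) (.node (nat_lit 0xf1821c88b) (.leaf (nat_lit 0xf1821c883) (nat_lit 1538))
 (.leaf (nat_lit 0xf1821c88b) (nat_lit 1794))
) (.node (nat_lit 0xf1821ca9b) (.leaf (nat_lit 0xf1821ca93) (nat_lit 1794))
 (.node (nat_lit 0xf1821cc93) (.leaf (nat_lit 0xf1821ca9b) (nat_lit 1797))
 (.leaf (nat_lit 0xf1821cc93) (nat_lit 1797))
)))) (.node (nat_lit 0xf1822088b) (.node (nat_lit 0xf1821ce8b) (.node (nat_lit 0xf1821ce83) (.leaf (nat_lit 0xf1821cc9b) (nat_lit 1541))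
 (.leaf (nat_lit 0xf1821ce83) (nat_lit 1282))
) (.node (nat_lit 0xf18220883) (.leaf (nat_lit 0xf1821ce8b) (nat_lit 1538))
 (.leaf (nat_lit 0xf18220883) (nat_lit 1538))
)) (.node (nat_lit 0xf18220a9b) (.node (nat_lit 0xf18220a93) (.leaf (nat_lit 0xf1822088b) (nat_lit 1794))
 (.leaf (nat_lit 0xf18220a93) (nat_lit 1797))
) (.node (nat_lit 0xf18220c93) (.leaf (nat_lit 0xf18220a9b) (nat_lit 1541))
 (.node (nat_lit 0xf18220c9b) (.leaf (nat_lit 0xf18220c93) (nat_lit 1541))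
 (.leaf (nat_lit 0xf18220c9b) (nat_lit 1285))
))))) (.node (nat_lit 0xf18228ebf) (.node (nat_lit 0xf18228aa7) (.node (nat_lit 0xf182288b7) (.node (nat_lit 0xf18220e8b) (.leaf (nat_lit 0xf18220e83) (nat_lit 1282))
 (.leaf (nat_lit 0xf18220e8b) (nat_lit 1538))
) (.node (nat_lit 0xf182288bf) (.leaf (nat_lit 0xf182288b7) (nat_lit 2305))
 (.leaf (nat_lit 0xf182288bf) (nat_lit 2306))
)) (.node (nat_lit 0xf18228ca7) (.node (nat_lit 0xf18228aaf) (.leaf (nat_lit 0xf18228aa7) (nat_lit 2306))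
 (.leaf (nat_lit 0xf18228aaf) (nat_lit 2050))
) (.node (nat_lit 0xf18228caf) (.leaf (nat_lit 0xf18228ca7) (nat_lit 2050))
 (.node (nat_lit 0xf18228eb7) (.leaf (nat_lit 0xf18228caf) (nat_lit 1794))
 (.leaf (nat_lit 0xf18228eb7) (nat_lit 2049))
)))) (.node (nat_lit 0xf182303af) (.node (nat_lit 0xf182301bf) (.node (nat_lit 0xf182301b7) (.leaf (nat_lit 0xf18228ebf) (nat_lit 2305))
 (.leaf (nat_lit 0xf182301b7) (nat_lit 2050))
) (.node (nat_lit 0xf182303a7) (.leaf (nat_lit 0xf182301bf) (nat_lit 2306))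
 (.leaf (nat_lit 0xf182303a7) (nat_lit 2307))
)) (.node (nat_lit 0xf182305af) (.node (nat_lit 0xf182305a7) (.leaf (nat_lit 0xf182303af) (nat_lit 2051))
 (.leaf (nat_lit 0xf182305a7) (nat_lit 2051))
) (.node (nat_lit 0xf182307b7) (.leaf (nat_lit 0xf182305af) (nat_lit 1795))
 (.node (nat_lit 0xf182307bf) (.leaf (nat_lit 0xf182307b7) (nat_lit 1794))
 (.leaf (nat_lit 0xf182307bf) (nat_lit 2050))
))))))) (.node (nat_lit 0xf1841cc4b) (.node (nat_lit 0xf1840ca67) (.node (nat_lit 0xf18404153) (.node (nat_lit 0xf18238593) (.node (nat_lit 0xf18238393) (.node (nat_lit 0xf1823818b) (.leaf (nat_lit 0xf18238183) (nat_lit 1795))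
 (.leaf (nat_lit 0xf1823818b) (nat_lit 2051))
) (.node (nat_lit 0xf1823839b) (.leaf (nat_lit 0xf18238393) (nat_lit 2051))
 (.leaf (nat_lit 0xf1823839b) (nat_lit 2051))
)) (.node (nat_lit 0xf18238783) (.node (nat_lit 0xf1823859b) (.leaf (nat_lit 0xf18238593) (nat_lit 2051))
 (.leaf (nat_lit 0xf1823859b) (nat_lit 1795))
) (.node (nat_lit 0xf1823878b) (.leaf (nat_lit 0xf18238783) (nat_lit 1539))
 (.node (nat_lit 0xf18404143) (.leaf (nat_lit 0xf1823878b) (nat_lit 1795))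
 (.leaf (nat_lit 0xf18404143) (nat_lit 1795))
)))) (.node (nat_lit 0xf1840455b) (.node (nat_lit 0xf1840435b) (.node (nat_lit 0xf1840434b) (.leaf (nat_lit 0xf18404153) (nat_lit 1795))
 (.leaf (nat_lit 0xf1840434b) (nat_lit 1795))
) (.node (nat_lit 0xf1840454b) (.leaf (nat_lit 0xf1840435b) (nat_lit 1539))
 (.leaf (nat_lit 0xf1840454b) (nat_lit 1795))
)) (.node (nat_lit 0xf18404753) (.node (nat_lit 0xf18404743) (.leaf (nat_lit 0xf1840455b) (nat_lit 1795))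
 (.leaf (nat_lit 0xf18404743) (nat_lit 1539))
) (.node (nat_lit 0xf1840c86f) (.leaf (nat_lit 0xf18404753) (nat_lit 1795))
 (.node (nat_lit 0xf1840c87f) (.leaf (nat_lit 0xf1840c86f) (nat_lit 2050))
 (.leaf (nat_lit 0xf1840c87f) (nat_lit 2053))
))))) (.node (nat_lit 0xf18414377) (.node (nat_lit 0xf1840ce6f) (.node (nat_lit 0xf1840cc67) (.node (nat_lit 0xf1840ca77) (.leaf (nat_lit 0xf1840ca67) (nat_lit 2053))
 (.leaf (nat_lit 0xf1840ca77) (nat_lit 1797))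
) (.node (nat_lit 0xf1840cc77) (.leaf (nat_lit 0xf1840cc67) (nat_lit 2050))
 (.leaf (nat_lit 0xf1840cc77) (nat_lit 2053))
)) (.node (nat_lit 0xf1841416f) (.node (nat_lit 0xf1840ce7f) (.leaf (nat_lit 0xf1840ce6f) (nat_lit 1794))
 (.leaf (nat_lit 0xf1840ce7f) (nat_lit 2050))
) (.node (nat_lit 0xf1841417f) (.leaf (nat_lit 0xf1841416f) (nat_lit 1796))
 (.node (nat_lit 0xf18414367) (.leaf (nat_lit 0xf1841417f) (nat_lit 2050))
 (.leaf (nat_lit 0xf18414367) (nat_lit 2052))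
)))) (.node (nat_lit 0xf1841477f) (.node (nat_lit 0xf18414577) (.node (nat_lit 0xf18414567) (.leaf (nat_lit 0xf18414377) (nat_lit 1794))
 (.leaf (nat_lit 0xf18414567) (nat_lit 1796))
) (.node (nat_lit 0xf1841476f) (.leaf (nat_lit 0xf18414577) (nat_lit 2048))
 (.leaf (nat_lit 0xf1841476f) (nat_lit 1540))
)) (.node (nat_lit 0xf1841c853) (.node (nat_lit 0xf1841c843) (.leaf (nat_lit 0xf1841477f) (nat_lit 1792))
 (.leaf (nat_lit 0xf1841c843) (nat_lit 1538))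
) (.node (nat_lit 0xf1841ca4b) (.leaf (nat_lit 0xf1841c853) (nat_lit 1796))
 (.node (nat_lit 0xf1841ca5b) (.leaf (nat_lit 0xf1841ca4b) (nat_lit 1794))
 (.leaf (nat_lit 0xf1841ca5b) (nat_lit 1540))
)))))) (.node (nat_lit 0xf1842876f) (.node (nat_lit 0xf18420c5b) (.node (nat_lit 0xf18420843) (.node (nat_lit 0xf1841ce43) (.node (nat_lit 0xf1841cc5b) (.leaf (nat_lit 0xf1841cc4b) (nat_lit 1538))
 (.leaf (nat_lit 0xf1841cc5b) (nat_lit 1794))
) (.node (nat_lit 0xf1841ce53) (.leaf (nat_lit 0xf1841ce43) (nat_lit 1282))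
 (.leaf (nat_lit 0xf1841ce53) (nat_lit 1538))
)) (.node (nat_lit 0xf18420a4b) (.node (nat_lit 0xf18420853) (.leaf (nat_lit 0xf18420843) (nat_lit 1538))
 (.leaf (nat_lit 0xf18420853) (nat_lit 1540))
) (.node (nat_lit 0xf18420a5b) (.leaf (nat_lit 0xf18420a4b) (nat_lit 1536))
 (.node (nat_lit 0xf18420c4b) (.leaf (nat_lit 0xf18420a5b) (nat_lit 1284))
 (.leaf (nat_lit 0xf18420c4b) (nat_lit 1538))
)))) (.node (nat_lit 0xf1842817f) (.node (nat_lit 0xf18420e53) (.node (nat_lit 0xf18420e43) (.leaf (nat_lit 0xf18420c5b) (nat_lit 1540))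
 (.leaf (nat_lit 0xf18420e43) (nat_lit 1282))
) (.node (nat_lit 0xf1842816f) (.leaf (nat_lit 0xf18420e53) (nat_lit 1538))
 (.leaf (nat_lit 0xf1842816f) (nat_lit 2050))
)) (.node (nat_lit 0xf18428377) (.node (nat_lit 0xf18428367) (.leaf (nat_lit 0xf1842817f) (nat_lit 2305))
 (.leaf (nat_lit 0xf18428367) (nat_lit 2306))
) (.node (nat_lit 0xf18428567) (.leaf (nat_lit 0xf18428377) (nat_lit 2049))
 (.node (nat_lit 0xf18428577) (.leaf (nat_lit 0xf18428567) (nat_lit 2050))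
 (.leaf (nat_lit 0xf18428577) (nat_lit 2306))
))))) (.node (nat_lit 0xf18430e7f) (.node (nat_lit 0xf18430a67) (.node (nat_lit 0xf1843086f) (.node (nat_lit 0xf1842877f) (.leaf (nat_lit 0xf1842876f) (nat_lit 1794))
 (.leaf (nat_lit 0xf1842877f) (nat_lit 2050))
) (.node (nat_lit 0xf1843087f) (.leaf (nat_lit 0xf1843086f) (nat_lit 2051))
 (.leaf (nat_lit 0xf1843087f) (nat_lit 2050))
)) (.node (nat_lit 0xf18430c67) (.node (nat_lit 0xf18430a77) (.leaf (nat_lit 0xf18430a67) (nat_lit 2050))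
 (.leaf (nat_lit 0xf18430a77) (nat_lit 1794))
) (.node (nat_lit 0xf18430c77) (.leaf (nat_lit 0xf18430c67) (nat_lit 2051))
 (.node (nat_lit 0xf18430e6f) (.leaf (nat_lit 0xf18430c77) (nat_lit 2050))
 (.leaf (nat_lit 0xf18430e6f) (nat_lit 1795))
)))) (.node (nat_lit 0xf1843835b) (.node (nat_lit 0xf18438153) (.node (nat_lit 0xf18438143) (.leaf (nat_lit 0xf18430e7f) (nat_lit 2051))
 (.leaf (nat_lit 0xf18438143) (nat_lit 1795))
) (.node (nat_lit 0xf1843834b) (.leaf (nat_lit 0xf18438153) (nat_lit 2051))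
 (.leaf (nat_lit 0xf1843834b) (nat_lit 2051))
)) (.node (nat_lit 0xf1843855b) (.node (nat_lit 0xf1843854b) (.leaf (nat_lit 0xf1843835b) (nat_lit 1795))
 (.leaf (nat_lit 0xf1843854b) (nat_lit 1795))
) (.node (nat_lit 0xf18438743) (.leaf (nat_lit 0xf1843855b) (nat_lit 2051))
 (.node (nat_lit 0xf18438753) (.leaf (nat_lit 0xf18438743) (nat_lit 1539))
 (.leaf (nat_lit 0xf18438753) (nat_lit 1795))
)))))))))))))

theorem P_ok : genOK B6.A [(nat_lit 0x810204089), (nat_lit 0x810224081), (nat_lit 0x910220081), (nat_lit 0x810234c81), (nat_lit 0x8086040c2), (nat_lit 0x808404042)] P_t (nat_lit 4608) = true := by decide +kernel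

noncomputable def R_t : ST :=
(.node (nat_lit 0xc08404046) (.node (nat_lit 0xa08404142) (.node (nat_lit 0x810204081) (.node (nat_lit 0x808424042) (.node (nat_lit 0x808414062) (.node (nat_lit 0x80840c842) (.node (nat_lit 0x80840444a) (.node (nat_lit 0x808404242) (.node (nat_lit 0x808404052) (.leaf (nat_lit 0x808404042) (nat_lit 259))
 (.leaf (nat_lit 0x808404052) (nat_lit 512))
) (.node (nat_lit 0x808404252) (.leaf (nat_lit 0x808404242) (nat_lit 515))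
 (.leaf (nat_lit 0x808404252) (nat_lit 768))
)) (.node (nat_lit 0x80840464a) (.node (nat_lit 0x80840445a) (.leaf (nat_lit 0x80840444a) (nat_lit 2308))
 (.leaf (nat_lit 0x80840445a) (nat_lit 2564))
) (.node (nat_lit 0x80840465a) (.leaf (nat_lit 0x80840464a) (nat_lit 2564))
 (.leaf (nat_lit 0x80840465a) (nat_lit 2820))
))) (.node (nat_lit 0x80840cc4a) (.node (nat_lit 0x80840ca42) (.node (nat_lit 0x80840c852) (.leaf (nat_lit 0x80840c842) (nat_lit 1026))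
 (.leaf (nat_lit 0x80840c852) (nat_lit 1282))
) (.node (nat_lit 0x80840ca52) (.leaf (nat_lit 0x80840ca42) (nat_lit 770))
 (.leaf (nat_lit 0x80840ca52) (nat_lit 1026))
)) (.node (nat_lit 0x80840ce4a) (.node (nat_lit 0x80840cc5a) (.leaf (nat_lit 0x80840cc4a) (nat_lit 2052))
 (.leaf (nat_lit 0x80840cc5a) (nat_lit 2308))
) (.node (nat_lit 0x80840ce5a) (.leaf (nat_lit 0x80840ce4a) (nat_lit 1796))
 (.leaf (nat_lit 0x80840ce5a) (nat_lit 2052))
)))) (.node (nat_lit 0x80841c862) (.node (nat_lit 0x80841446a) (.node (nat_lit 0x808414262) (.node (nat_lit 0x808414072) (.leaf (nat_lit 0x808414062) (nat_lit 1024))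
 (.leaf (nat_lit 0x808414072) (nat_lit 771))
) (.node (nat_lit 0x808414272) (.leaf (nat_lit 0x808414262) (nat_lit 1280))
 (.leaf (nat_lit 0x808414272) (nat_lit 1027))
)) (.node (nat_lit 0x80841466a) (.node (nat_lit 0x80841447a) (.leaf (nat_lit 0x80841446a) (nat_lit 2052))
 (.leaf (nat_lit 0x80841447a) (nat_lit 1796))
) (.node (nat_lit 0x80841467a) (.leaf (nat_lit 0x80841466a) (nat_lit 2308))
 (.leaf (nat_lit 0x80841467a) (nat_lit 2052))
))) (.node (nat_lit 0x80841cc6a) (.node (nat_lit 0x80841ca62) (.node (nat_lit 0x80841c872) (.leaf (nat_lit 0x80841c862) (nat_lit 1282))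
 (.leaf (nat_lit 0x80841c872) (nat_lit 1026))
) (.node (nat_lit 0x80841ca72) (.leaf (nat_lit 0x80841ca62) (nat_lit 1026))
 (.leaf (nat_lit 0x80841ca72) (nat_lit 770))
)) (.node (nat_lit 0x80841ce6a) (.node (nat_lit 0x80841cc7a) (.leaf (nat_lit 0x80841cc6a) (nat_lit 2308))
 (.leaf (nat_lit 0x80841cc7a) (nat_lit 2052))
) (.node (nat_lit 0x80841ce7a) (.leaf (nat_lit 0x80841ce6a) (nat_lit 2052))
 (.leaf (nat_lit 0x80841ce7a) (nat_lit 1796))
))))) (.node (nat_lit 0x808434062) (.node (nat_lit 0x80842c842) (.node (nat_lit 0x80842444a) (.node (nat_lit 0x808424242) (.node (nat_lit 0x808424052) (.leaf (nat_lit 0x808424042) (nat_lit 515))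
 (.leaf (nat_lit 0x808424052) (nat_lit 768))
) (.node (nat_lit 0x808424252) (.leaf (nat_lit 0x808424242) (nat_lit 771))
 (.leaf (nat_lit 0x808424252) (nat_lit 1024))
)) (.node (nat_lit 0x80842464a) (.node (nat_lit 0x80842445a) (.leaf (nat_lit 0x80842444a) (nat_lit 2052))
 (.leaf (nat_lit 0x80842445a) (nat_lit 2308))
) (.node (nat_lit 0x80842465a) (.leaf (nat_lit 0x80842464a) (nat_lit 2308))
 (.leaf (nat_lit 0x80842465a) (nat_lit 2564))
))) (.node (nat_lit 0x80842cc4a) (.node (nat_lit 0x80842ca42) (.node (nat_lit 0x80842c852) (.leaf (nat_lit 0x80842c842) (nat_lit 770))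
 (.leaf (nat_lit 0x80842c852) (nat_lit 1026))
) (.node (nat_lit 0x80842ca52) (.leaf (nat_lit 0x80842ca42) (nat_lit 514))
 (.leaf (nat_lit 0x80842ca52) (nat_lit 770))
)) (.node (nat_lit 0x80842ce4a) (.node (nat_lit 0x80842cc5a) (.leaf (nat_lit 0x80842cc4a) (nat_lit 2308))
 (.leaf (nat_lit 0x80842cc5a) (nat_lit 2564))
) (.node (nat_lit 0x80842ce5a) (.leaf (nat_lit 0x80842ce4a) (nat_lit 2052))
 (.leaf (nat_lit 0x80842ce5a) (nat_lit 2308))
)))) (.node (nat_lit 0x80843c862) (.node (nat_lit 0x80843446a) (.node (nat_lit 0x808434262) (.node (nat_lit 0x808434072) (.leaf (nat_lit 0x808434062) (nat_lit 768))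
 (.leaf (nat_lit 0x808434072) (nat_lit 515))
) (.node (nat_lit 0x808434272) (.leaf (nat_lit 0x808434262) (nat_lit 1024))
 (.leaf (nat_lit 0x808434272) (nat_lit 771))
)) (.node (nat_lit 0x80843466a) (.node (nat_lit 0x80843447a) (.leaf (nat_lit 0x80843446a) (nat_lit 2308))
 (.leaf (nat_lit 0x80843447a) (nat_lit 2052))
) (.node (nat_lit 0x80843467a) (.leaf (nat_lit 0x80843466a) (nat_lit 2564))
 (.leaf (nat_lit 0x80843467a) (nat_lit 2308))
))) (.node (nat_lit 0x80843cc6a) (.node (nat_lit 0x80843ca62) (.node (nat_lit 0x80843c872) (.leaf (nat_lit 0x80843c862) (nat_lit 1538))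
 (.leaf (nat_lit 0x80843c872) (nat_lit 1282))
) (.node (nat_lit 0x80843ca72) (.leaf (nat_lit 0x80843ca62) (nat_lit 1282))
 (.leaf (nat_lit 0x80843ca72) (nat_lit 1026))
)) (.node (nat_lit 0x80843ce6a) (.node (nat_lit 0x80843cc7a) (.leaf (nat_lit 0x80843cc6a) (nat_lit 2052))
 (.leaf (nat_lit 0x80843cc7a) (nat_lit 1796))
) (.node (nat_lit 0x80843ce7a) (.leaf (nat_lit 0x80843ce6a) (nat_lit 1796))
 (.leaf (nat_lit 0x80843ce7a) (nat_lit 1540))
)))))) (.node (nat_lit 0x810224081) (.node (nat_lit 0x810214881) (.node (nat_lit 0x81020c0a1) (.node (nat_lit 0x810204481) (.node (nat_lit 0x810204291) (.node (nat_lit 0x810204089) (.leaf (nat_lit 0x810204081) (nat_lit 0))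
 (.leaf (nat_lit 0x810204089) (nat_lit 256))
) (.node (nat_lit 0x810204299) (.leaf (nat_lit 0x810204291) (nat_lit 2564))
 (.leaf (nat_lit 0x810204299) (nat_lit 2820))
)) (.node (nat_lit 0x810204691) (.node (nat_lit 0x810204489) (.leaf (nat_lit 0x810204481) (nat_lit 771))
 (.leaf (nat_lit 0x810204489) (nat_lit 1027))
) (.node (nat_lit 0x810204699) (.leaf (nat_lit 0x810204691) (nat_lit 2820))
 (.leaf (nat_lit 0x810204699) (nat_lit 3076))
))) (.node (nat_lit 0x81020c4a1) (.node (nat_lit 0x81020c2b1) (.node (nat_lit 0x81020c0a9) (.leaf (nat_lit 0x81020c0a1) (nat_lit 1283))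
 (.leaf (nat_lit 0x81020c0a9) (nat_lit 1027))
) (.node (nat_lit 0x81020c2b9) (.leaf (nat_lit 0x81020c2b1) (nat_lit 1796))
 (.leaf (nat_lit 0x81020c2b9) (nat_lit 1540))
)) (.node (nat_lit 0x81020c6b1) (.node (nat_lit 0x81020c4a9) (.leaf (nat_lit 0x81020c4a1) (nat_lit 1539))
 (.leaf (nat_lit 0x81020c4a9) (nat_lit 1283))
) (.node (nat_lit 0x81020c6b9) (.leaf (nat_lit 0x81020c6b1) (nat_lit 2052))
 (.leaf (nat_lit 0x81020c6b9) (nat_lit 1796))
)))) (.node (nat_lit 0x81021c8a1) (.node (nat_lit 0x810214c81) (.node (nat_lit 0x810214a91) (.node (nat_lit 0x810214889) (.leaf (nat_lit 0x810214881) (nat_lit 1283))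
 (.leaf (nat_lit 0x810214889) (nat_lit 1539))
) (.node (nat_lit 0x810214a99) (.leaf (nat_lit 0x810214a91) (nat_lit 2308))
 (.leaf (nat_lit 0x810214a99) (nat_lit 2564))
)) (.node (nat_lit 0x810214e91) (.node (nat_lit 0x810214c89) (.leaf (nat_lit 0x810214c81) (nat_lit 514))
 (.leaf (nat_lit 0x810214c89) (nat_lit 770))
) (.node (nat_lit 0x810214e99) (.leaf (nat_lit 0x810214e91) (nat_lit 2052))
 (.leaf (nat_lit 0x810214e99) (nat_lit 2308))
))) (.node (nat_lit 0x81021cca1) (.node (nat_lit 0x81021cab1) (.node (nat_lit 0x81021c8a9) (.leaf (nat_lit 0x81021c8a1) (nat_lit 1539))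
 (.leaf (nat_lit 0x81021c8a9) (nat_lit 1283))
) (.node (nat_lit 0x81021cab9) (.leaf (nat_lit 0x81021cab1) (nat_lit 2052))
 (.leaf (nat_lit 0x81021cab9) (nat_lit 1796))
)) (.node (nat_lit 0x81021ceb1) (.node (nat_lit 0x81021cca9) (.leaf (nat_lit 0x81021cca1) (nat_lit 1283))
 (.leaf (nat_lit 0x81021cca9) (nat_lit 1027))
) (.node (nat_lit 0x81021ceb9) (.leaf (nat_lit 0x81021ceb1) (nat_lit 1796))
 (.leaf (nat_lit 0x81021ceb9) (nat_lit 1540))
))))) (.node (nat_lit 0x810234881) (.node (nat_lit 0x81022c0a1) (.node (nat_lit 0x810224481) (.node (nat_lit 0x810224291) (.node (nat_lit 0x810224089) (.leaf (nat_lit 0x810224081) (nat_lit 257))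
 (.leaf (nat_lit 0x810224089) (nat_lit 513))
) (.node (nat_lit 0x810224299) (.leaf (nat_lit 0x810224291) (nat_lit 2308))
 (.leaf (nat_lit 0x810224299) (nat_lit 2564))
)) (.node (nat_lit 0x810224691) (.node (nat_lit 0x810224489) (.leaf (nat_lit 0x810224481) (nat_lit 1027))
 (.leaf (nat_lit 0x810224489) (nat_lit 1283))
) (.node (nat_lit 0x810224699) (.leaf (nat_lit 0x810224691) (nat_lit 2564))
 (.leaf (nat_lit 0x810224699) (nat_lit 2820))
))) (.node (nat_lit 0x81022c4a1) (.node (nat_lit 0x81022c2b1) (.node (nat_lit 0x81022c0a9) (.leaf (nat_lit 0x81022c0a1) (nat_lit 1027))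
 (.leaf (nat_lit 0x81022c0a9) (nat_lit 771))
) (.node (nat_lit 0x81022c2b9) (.leaf (nat_lit 0x81022c2b1) (nat_lit 2052))
 (.leaf (nat_lit 0x81022c2b9) (nat_lit 1796))
)) (.node (nat_lit 0x81022c6b1) (.node (nat_lit 0x81022c4a9) (.leaf (nat_lit 0x81022c4a1) (nat_lit 1283))
 (.leaf (nat_lit 0x81022c4a9) (nat_lit 1027))
) (.node (nat_lit 0x81022c6b9) (.leaf (nat_lit 0x81022c6b1) (nat_lit 2308))
 (.leaf (nat_lit 0x81022c6b9) (nat_lit 2052))
)))) (.node (nat_lit 0x81023c8a1) (.node (nat_lit 0x810234c81) (.node (nat_lit 0x810234a91) (.node (nat_lit 0x810234889) (.leaf (nat_lit 0x810234881) (nat_lit 1027))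
 (.leaf (nat_lit 0x810234889) (nat_lit 1283))
) (.node (nat_lit 0x810234a99) (.leaf (nat_lit 0x810234a91) (nat_lit 2564))
 (.leaf (nat_lit 0x810234a99) (nat_lit 2820))
)) (.node (nat_lit 0x810234e91) (.node (nat_lit 0x810234c89) (.leaf (nat_lit 0x810234c81) (nat_lit 258))
 (.leaf (nat_lit 0x810234c89) (nat_lit 514))
) (.node (nat_lit 0x810234e99) (.leaf (nat_lit 0x810234e91) (nat_lit 2308))
 (.leaf (nat_lit 0x810234e99) (nat_lit 2564))
))) (.node (nat_lit 0x81023cca1) (.node (nat_lit 0x81023cab1) (.node (nat_lit 0x81023c8a9) (.leaf (nat_lit 0x81023c8a1) (nat_lit 1795))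
 (.leaf (nat_lit 0x81023c8a9) (nat_lit 1539))
) (.node (nat_lit 0x81023cab9) (.leaf (nat_lit 0x81023cab1) (nat_lit 1796))
 (.leaf (nat_lit 0x81023cab9) (nat_lit 1540))
)) (.node (nat_lit 0x81023ceb1) (.node (nat_lit 0x81023cca9) (.leaf (nat_lit 0x81023cca1) (nat_lit 1539))
 (.leaf (nat_lit 0x81023cca9) (nat_lit 1283))
) (.node (nat_lit 0x81023ceb9) (.leaf (nat_lit 0x81023ceb1) (nat_lit 1540))
 (.leaf (nat_lit 0x81023ceb9) (nat_lit 1284))
))))))) (.node (nat_lit 0xa10204085) (.node (nat_lit 0xa08424942) (.node (nat_lit 0xa0841416a) (.node (nat_lit 0xa0840c942) (.node (nat_lit 0xa0840454a) (.node (nat_lit 0xa08404342) (.node (nat_lit 0xa08404152) (.leaf (nat_lit 0xa08404142) (nat_lit 772))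
 (.leaf (nat_lit 0xa08404152) (nat_lit 1028))
) (.node (nat_lit 0xa08404352) (.leaf (nat_lit 0xa08404342) (nat_lit 516))
 (.leaf (nat_lit 0xa08404352) (nat_lit 772))
)) (.node (nat_lit 0xa0840474a) (.node (nat_lit 0xa0840455a) (.leaf (nat_lit 0xa0840454a) (nat_lit 2307))
 (.leaf (nat_lit 0xa0840455a) (nat_lit 2563))
) (.node (nat_lit 0xa0840475a) (.leaf (nat_lit 0xa0840474a) (nat_lit 2051))
 (.leaf (nat_lit 0xa0840475a) (nat_lit 2307))
))) (.node (nat_lit 0xa0840cd4a) (.node (nat_lit 0xa0840cb42) (.node (nat_lit 0xa0840c952) (.leaf (nat_lit 0xa0840c942) (nat_lit 1284))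
 (.leaf (nat_lit 0xa0840c952) (nat_lit 1540))
) (.node (nat_lit 0xa0840cb52) (.leaf (nat_lit 0xa0840cb42) (nat_lit 1028))
 (.leaf (nat_lit 0xa0840cb52) (nat_lit 1284))
)) (.node (nat_lit 0xa0840cf4a) (.node (nat_lit 0xa0840cd5a) (.leaf (nat_lit 0xa0840cd4a) (nat_lit 1795))
 (.leaf (nat_lit 0xa0840cd5a) (nat_lit 2051))
) (.node (nat_lit 0xa0840cf5a) (.leaf (nat_lit 0xa0840cf4a) (nat_lit 1539))
 (.leaf (nat_lit 0xa0840cf5a) (nat_lit 1795))
)))) (.node (nat_lit 0xa0841c96a) (.node (nat_lit 0xa08414562) (.node (nat_lit 0xa0841436a) (.node (nat_lit 0xa0841417a) (.leaf (nat_lit 0xa0841416a) (nat_lit 2051))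
 (.leaf (nat_lit 0xa0841417a) (nat_lit 1795))
) (.node (nat_lit 0xa0841437a) (.leaf (nat_lit 0xa0841436a) (nat_lit 1795))
 (.leaf (nat_lit 0xa0841437a) (nat_lit 1539))
)) (.node (nat_lit 0xa08414762) (.node (nat_lit 0xa08414572) (.leaf (nat_lit 0xa08414562) (nat_lit 1540))
 (.leaf (nat_lit 0xa08414572) (nat_lit 1284))
) (.node (nat_lit 0xa08414772) (.leaf (nat_lit 0xa08414762) (nat_lit 1284))
 (.leaf (nat_lit 0xa08414772) (nat_lit 1028))
))) (.node (nat_lit 0xa0841cd62) (.node (nat_lit 0xa0841cb6a) (.node (nat_lit 0xa0841c97a) (.leaf (nat_lit 0xa0841c96a) (nat_lit 2051))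
 (.leaf (nat_lit 0xa0841c97a) (nat_lit 1795))
) (.node (nat_lit 0xa0841cb7a) (.leaf (nat_lit 0xa0841cb6a) (nat_lit 1795))
 (.leaf (nat_lit 0xa0841cb7a) (nat_lit 1539))
)) (.node (nat_lit 0xa0841cf62) (.node (nat_lit 0xa0841cd72) (.leaf (nat_lit 0xa0841cd62) (nat_lit 1540))
 (.leaf (nat_lit 0xa0841cd72) (nat_lit 1284))
) (.node (nat_lit 0xa0841cf72) (.leaf (nat_lit 0xa0841cf62) (nat_lit 1284))
 (.leaf (nat_lit 0xa0841cf72) (nat_lit 1028))
))))) (.node (nat_lit 0xa0843496a) (.node (nat_lit 0xa0842c142) (.node (nat_lit 0xa08424d4a) (.node (nat_lit 0xa08424b42) (.node (nat_lit 0xa08424952) (.leaf (nat_lit 0xa08424942) (nat_lit 1028))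
 (.leaf (nat_lit 0xa08424952) (nat_lit 1284))
) (.node (nat_lit 0xa08424b52) (.leaf (nat_lit 0xa08424b42) (nat_lit 772))
 (.leaf (nat_lit 0xa08424b52) (nat_lit 1028))
)) (.node (nat_lit 0xa08424f4a) (.node (nat_lit 0xa08424d5a) (.leaf (nat_lit 0xa08424d4a) (nat_lit 2051))
 (.leaf (nat_lit 0xa08424d5a) (nat_lit 2307))
) (.node (nat_lit 0xa08424f5a) (.leaf (nat_lit 0xa08424f4a) (nat_lit 1795))
 (.leaf (nat_lit 0xa08424f5a) (nat_lit 2051))
))) (.node (nat_lit 0xa0842c54a) (.node (nat_lit 0xa0842c342) (.node (nat_lit 0xa0842c152) (.leaf (nat_lit 0xa0842c142) (nat_lit 1028))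
 (.leaf (nat_lit 0xa0842c152) (nat_lit 1284))
) (.node (nat_lit 0xa0842c352) (.leaf (nat_lit 0xa0842c342) (nat_lit 772))
 (.leaf (nat_lit 0xa0842c352) (nat_lit 1028))
)) (.node (nat_lit 0xa0842c74a) (.node (nat_lit 0xa0842c55a) (.leaf (nat_lit 0xa0842c54a) (nat_lit 2051))
 (.leaf (nat_lit 0xa0842c55a) (nat_lit 2307))
) (.node (nat_lit 0xa0842c75a) (.leaf (nat_lit 0xa0842c74a) (nat_lit 1795))
 (.leaf (nat_lit 0xa0842c75a) (nat_lit 2051))
)))) (.node (nat_lit 0xa0843c16a) (.node (nat_lit 0xa08434d62) (.node (nat_lit 0xa08434b6a) (.node (nat_lit 0xa0843497a) (.leaf (nat_lit 0xa0843496a) (nat_lit 2307))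
 (.leaf (nat_lit 0xa0843497a) (nat_lit 2051))
) (.node (nat_lit 0xa08434b7a) (.leaf (nat_lit 0xa08434b6a) (nat_lit 2051))
 (.leaf (nat_lit 0xa08434b7a) (nat_lit 1795))
)) (.node (nat_lit 0xa08434f62) (.node (nat_lit 0xa08434d72) (.leaf (nat_lit 0xa08434d62) (nat_lit 1284))
 (.leaf (nat_lit 0xa08434d72) (nat_lit 1028))
) (.node (nat_lit 0xa08434f72) (.leaf (nat_lit 0xa08434f62) (nat_lit 1028))
 (.leaf (nat_lit 0xa08434f72) (nat_lit 772))
))) (.node (nat_lit 0xa0843c562) (.node (nat_lit 0xa0843c36a) (.node (nat_lit 0xa0843c17a) (.leaf (nat_lit 0xa0843c16a) (nat_lit 1795))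
 (.leaf (nat_lit 0xa0843c17a) (nat_lit 1539))
) (.node (nat_lit 0xa0843c37a) (.leaf (nat_lit 0xa0843c36a) (nat_lit 1539))
 (.leaf (nat_lit 0xa0843c37a) (nat_lit 1283))
)) (.node (nat_lit 0xa0843c762) (.node (nat_lit 0xa0843c572) (.leaf (nat_lit 0xa0843c562) (nat_lit 1796))
 (.leaf (nat_lit 0xa0843c572) (nat_lit 1540))
) (.node (nat_lit 0xa0843c772) (.leaf (nat_lit 0xa0843c762) (nat_lit 1540))
 (.leaf (nat_lit 0xa0843c772) (nat_lit 1284))
)))))) (.node (nat_lit 0xa102240a5) (.node (nat_lit 0xa10214895) (.node (nat_lit 0xa1020c0a5) (.node (nat_lit 0xa10204485) (.node (nat_lit 0xa10204295) (.node (nat_lit 0xa1020408d) (.leaf (nat_lit 0xa10204085) (nat_lit 1027))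
 (.leaf (nat_lit 0xa1020408d) (nat_lit 771))
) (.node (nat_lit 0xa1020429d) (.leaf (nat_lit 0xa10204295) (nat_lit 2050))
 (.leaf (nat_lit 0xa1020429d) (nat_lit 1794))
)) (.node (nat_lit 0xa10204695) (.node (nat_lit 0xa1020448d) (.leaf (nat_lit 0xa10204485) (nat_lit 1283))
 (.leaf (nat_lit 0xa1020448d) (nat_lit 1027))
) (.node (nat_lit 0xa1020469d) (.leaf (nat_lit 0xa10204695) (nat_lit 2306))
 (.leaf (nat_lit 0xa1020469d) (nat_lit 2050))
))) (.node (nat_lit 0xa1020c4a5) (.node (nat_lit 0xa1020c2b5) (.node (nat_lit 0xa1020c0ad) (.leaf (nat_lit 0xa1020c0a5) (nat_lit 1539))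
 (.leaf (nat_lit 0xa1020c0ad) (nat_lit 1283))
) (.node (nat_lit 0xa1020c2bd) (.leaf (nat_lit 0xa1020c2b5) (nat_lit 1538))
 (.leaf (nat_lit 0xa1020c2bd) (nat_lit 1282))
)) (.node (nat_lit 0xa1020c6b5) (.node (nat_lit 0xa1020c4ad) (.leaf (nat_lit 0xa1020c4a5) (nat_lit 1795))
 (.leaf (nat_lit 0xa1020c4ad) (nat_lit 1539))
) (.node (nat_lit 0xa1020c6bd) (.leaf (nat_lit 0xa1020c6b5) (nat_lit 1794))
 (.leaf (nat_lit 0xa1020c6bd) (nat_lit 1538))
)))) (.node (nat_lit 0xa1021c8b5) (.node (nat_lit 0xa10214c95) (.node (nat_lit 0xa10214a85) (.node (nat_lit 0xa1021489d) (.leaf (nat_lit 0xa10214895) (nat_lit 1795))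
 (.leaf (nat_lit 0xa1021489d) (nat_lit 1539))
) (.node (nat_lit 0xa10214a8d) (.leaf (nat_lit 0xa10214a85) (nat_lit 1794))
 (.leaf (nat_lit 0xa10214a8d) (nat_lit 1538))
)) (.node (nat_lit 0xa10214e85) (.node (nat_lit 0xa10214c9d) (.leaf (nat_lit 0xa10214c95) (nat_lit 1539))
 (.leaf (nat_lit 0xa10214c9d) (nat_lit 1283))
) (.node (nat_lit 0xa10214e8d) (.leaf (nat_lit 0xa10214e85) (nat_lit 1538))
 (.leaf (nat_lit 0xa10214e8d) (nat_lit 1282))
))) (.node (nat_lit 0xa1021ccb5) (.node (nat_lit 0xa1021caa5) (.node (nat_lit 0xa1021c8bd) (.leaf (nat_lit 0xa1021c8b5) (nat_lit 1795))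
 (.leaf (nat_lit 0xa1021c8bd) (nat_lit 1539))
) (.node (nat_lit 0xa1021caad) (.leaf (nat_lit 0xa1021caa5) (nat_lit 1794))
 (.leaf (nat_lit 0xa1021caad) (nat_lit 1538))
)) (.node (nat_lit 0xa1021cea5) (.node (nat_lit 0xa1021ccbd) (.leaf (nat_lit 0xa1021ccb5) (nat_lit 1539))
 (.leaf (nat_lit 0xa1021ccbd) (nat_lit 1283))
) (.node (nat_lit 0xa1021cead) (.leaf (nat_lit 0xa1021cea5) (nat_lit 1538))
 (.leaf (nat_lit 0xa1021cead) (nat_lit 1282))
))))) (.node (nat_lit 0xa102348b5) (.node (nat_lit 0xa1022c085) (.node (nat_lit 0xa102244a5) (.node (nat_lit 0xa102242b5) (.node (nat_lit 0xa102240ad) (.leaf (nat_lit 0xa102240a5) (nat_lit 1283))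
 (.leaf (nat_lit 0xa102240ad) (nat_lit 1027))
) (.node (nat_lit 0xa102242bd) (.leaf (nat_lit 0xa102242b5) (nat_lit 1794))
 (.leaf (nat_lit 0xa102242bd) (nat_lit 1538))
)) (.node (nat_lit 0xa102246b5) (.node (nat_lit 0xa102244ad) (.leaf (nat_lit 0xa102244a5) (nat_lit 1539))
 (.leaf (nat_lit 0xa102244ad) (nat_lit 1283))
) (.node (nat_lit 0xa102246bd) (.leaf (nat_lit 0xa102246b5) (nat_lit 2050))
 (.leaf (nat_lit 0xa102246bd) (nat_lit 1794))
))) (.node (nat_lit 0xa1022c485) (.node (nat_lit 0xa1022c295) (.node (nat_lit 0xa1022c08d) (.leaf (nat_lit 0xa1022c085) (nat_lit 1283))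
 (.leaf (nat_lit 0xa1022c08d) (nat_lit 1027))
) (.node (nat_lit 0xa1022c29d) (.leaf (nat_lit 0xa1022c295) (nat_lit 1794))
 (.leaf (nat_lit 0xa1022c29d) (nat_lit 1538))
)) (.node (nat_lit 0xa1022c695) (.node (nat_lit 0xa1022c48d) (.leaf (nat_lit 0xa1022c485) (nat_lit 1539))
 (.leaf (nat_lit 0xa1022c48d) (nat_lit 1283))
) (.node (nat_lit 0xa1022c69d) (.leaf (nat_lit 0xa1022c695) (nat_lit 2050))
 (.leaf (nat_lit 0xa1022c69d) (nat_lit 1794))
)))) (.node (nat_lit 0xa1023c895) (.node (nat_lit 0xa10234cb5) (.node (nat_lit 0xa10234aa5) (.node (nat_lit 0xa102348bd) (.leaf (nat_lit 0xa102348b5) (nat_lit 1539))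
 (.leaf (nat_lit 0xa102348bd) (nat_lit 1283))
) (.node (nat_lit 0xa10234aad) (.leaf (nat_lit 0xa10234aa5) (nat_lit 2050))
 (.leaf (nat_lit 0xa10234aad) (nat_lit 1794))
)) (.node (nat_lit 0xa10234ea5) (.node (nat_lit 0xa10234cbd) (.leaf (nat_lit 0xa10234cb5) (nat_lit 1283))
 (.leaf (nat_lit 0xa10234cbd) (nat_lit 1027))
) (.node (nat_lit 0xa10234ead) (.leaf (nat_lit 0xa10234ea5) (nat_lit 1794))
 (.leaf (nat_lit 0xa10234ead) (nat_lit 1538))
))) (.node (nat_lit 0xa1023cc95) (.node (nat_lit 0xa1023ca85) (.node (nat_lit 0xa1023c89d) (.leaf (nat_lit 0xa1023c895) (nat_lit 2051))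
 (.leaf (nat_lit 0xa1023c89d) (nat_lit 1795))
) (.node (nat_lit 0xa1023ca8d) (.leaf (nat_lit 0xa1023ca85) (nat_lit 1538))
 (.leaf (nat_lit 0xa1023ca8d) (nat_lit 1282))
)) (.node (nat_lit 0xa1023ce85) (.node (nat_lit 0xa1023cc9d) (.leaf (nat_lit 0xa1023cc95) (nat_lit 1795))
 (.leaf (nat_lit 0xa1023cc9d) (nat_lit 1539))
) (.node (nat_lit 0xa1023ce8d) (.leaf (nat_lit 0xa1023ce85) (nat_lit 1282))
 (.leaf (nat_lit 0xa1023ce8d) (nat_lit 1026))
)))))))) (.node (nat_lit 0xe08404146) (.node (nat_lit 0xc10204181) (.node (nat_lit 0xc08424066) (.node (nat_lit 0xc08414066) (.node (nat_lit 0xc0840c84e) (.node (nat_lit 0xc0840444e) (.node (nat_lit 0xc08404246) (.node (nat_lit 0xc08404056) (.leaf (nat_lit 0xc08404046) (nat_lit 768))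
 (.leaf (nat_lit 0xc08404056) (nat_lit 515))
) (.node (nat_lit 0xc08404256) (.leaf (nat_lit 0xc08404246) (nat_lit 1024))
 (.leaf (nat_lit 0xc08404256) (nat_lit 771))
)) (.node (nat_lit 0xc0840464e) (.node (nat_lit 0xc0840445e) (.leaf (nat_lit 0xc0840444e) (nat_lit 2306))
 (.leaf (nat_lit 0xc0840445e) (nat_lit 2050))
) (.node (nat_lit 0xc0840465e) (.leaf (nat_lit 0xc0840464e) (nat_lit 2562))
 (.leaf (nat_lit 0xc0840465e) (nat_lit 2306))
))) (.node (nat_lit 0xc0840cc46) (.node (nat_lit 0xc0840ca4e) (.node (nat_lit 0xc0840c85e) (.leaf (nat_lit 0xc0840c84e) (nat_lit 2051))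
 (.leaf (nat_lit 0xc0840c85e) (nat_lit 1795))
) (.node (nat_lit 0xc0840ca5e) (.leaf (nat_lit 0xc0840ca4e) (nat_lit 1795))
 (.leaf (nat_lit 0xc0840ca5e) (nat_lit 1539))
)) (.node (nat_lit 0xc0840ce46) (.node (nat_lit 0xc0840cc56) (.leaf (nat_lit 0xc0840cc46) (nat_lit 1538))
 (.leaf (nat_lit 0xc0840cc56) (nat_lit 1282))
) (.node (nat_lit 0xc0840ce56) (.leaf (nat_lit 0xc0840ce46) (nat_lit 1282))
 (.leaf (nat_lit 0xc0840ce56) (nat_lit 1026))
)))) (.node (nat_lit 0xc0841c86e) (.node (nat_lit 0xc0841446e) (.node (nat_lit 0xc08414266) (.node (nat_lit 0xc08414076) (.leaf (nat_lit 0xc08414066) (nat_lit 1280))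
 (.leaf (nat_lit 0xc08414076) (nat_lit 1027))
) (.node (nat_lit 0xc08414276) (.leaf (nat_lit 0xc08414266) (nat_lit 1536))
 (.leaf (nat_lit 0xc08414276) (nat_lit 1283))
)) (.node (nat_lit 0xc0841466e) (.node (nat_lit 0xc0841447e) (.leaf (nat_lit 0xc0841446e) (nat_lit 1794))
 (.leaf (nat_lit 0xc0841447e) (nat_lit 1538))
) (.node (nat_lit 0xc0841467e) (.leaf (nat_lit 0xc0841466e) (nat_lit 2050))
 (.leaf (nat_lit 0xc0841467e) (nat_lit 1794))
))) (.node (nat_lit 0xc0841cc66) (.node (nat_lit 0xc0841ca6e) (.node (nat_lit 0xc0841c87e) (.leaf (nat_lit 0xc0841c86e) (nat_lit 2051))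
 (.leaf (nat_lit 0xc0841c87e) (nat_lit 1795))
) (.node (nat_lit 0xc0841ca7e) (.leaf (nat_lit 0xc0841ca6e) (nat_lit 1795))
 (.leaf (nat_lit 0xc0841ca7e) (nat_lit 1539))
)) (.node (nat_lit 0xc0841ce66) (.node (nat_lit 0xc0841cc76) (.leaf (nat_lit 0xc0841cc66) (nat_lit 1538))
 (.leaf (nat_lit 0xc0841cc76) (nat_lit 1282))
) (.node (nat_lit 0xc0841ce76) (.leaf (nat_lit 0xc0841ce66) (nat_lit 1282))
 (.leaf (nat_lit 0xc0841ce76) (nat_lit 1026))
))))) (.node (nat_lit 0xc08434046) (.node (nat_lit 0xc0842c86e) (.node (nat_lit 0xc0842446e) (.node (nat_lit 0xc08424266) (.node (nat_lit 0xc08424076) (.leaf (nat_lit 0xc08424066) (nat_lit 1024))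
 (.leaf (nat_lit 0xc08424076) (nat_lit 771))
) (.node (nat_lit 0xc08424276) (.leaf (nat_lit 0xc08424266) (nat_lit 1280))
 (.leaf (nat_lit 0xc08424276) (nat_lit 1027))
)) (.node (nat_lit 0xc0842466e) (.node (nat_lit 0xc0842447e) (.leaf (nat_lit 0xc0842446e) (nat_lit 2050))
 (.leaf (nat_lit 0xc0842447e) (nat_lit 1794))
) (.node (nat_lit 0xc0842467e) (.leaf (nat_lit 0xc0842466e) (nat_lit 2306))
 (.leaf (nat_lit 0xc0842467e) (nat_lit 2050))
))) (.node (nat_lit 0xc0842cc66) (.node (nat_lit 0xc0842ca6e) (.node (nat_lit 0xc0842c87e) (.leaf (nat_lit 0xc0842c86e) (nat_lit 1795))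
 (.leaf (nat_lit 0xc0842c87e) (nat_lit 1539))
) (.node (nat_lit 0xc0842ca7e) (.leaf (nat_lit 0xc0842ca6e) (nat_lit 1539))
 (.leaf (nat_lit 0xc0842ca7e) (nat_lit 1283))
)) (.node (nat_lit 0xc0842ce66) (.node (nat_lit 0xc0842cc76) (.leaf (nat_lit 0xc0842cc66) (nat_lit 1794))
 (.leaf (nat_lit 0xc0842cc76) (nat_lit 1538))
) (.node (nat_lit 0xc0842ce76) (.leaf (nat_lit 0xc0842ce66) (nat_lit 1538))
 (.leaf (nat_lit 0xc0842ce76) (nat_lit 1282))
)))) (.node (nat_lit 0xc0843c84e) (.node (nat_lit 0xc0843444e) (.node (nat_lit 0xc08434246) (.node (nat_lit 0xc08434056) (.leaf (nat_lit 0xc08434046) (nat_lit 1024))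
 (.leaf (nat_lit 0xc08434056) (nat_lit 771))
) (.node (nat_lit 0xc08434256) (.leaf (nat_lit 0xc08434246) (nat_lit 1280))
 (.leaf (nat_lit 0xc08434256) (nat_lit 1027))
)) (.node (nat_lit 0xc0843464e) (.node (nat_lit 0xc0843445e) (.leaf (nat_lit 0xc0843444e) (nat_lit 2050))
 (.leaf (nat_lit 0xc0843445e) (nat_lit 1794))
) (.node (nat_lit 0xc0843465e) (.leaf (nat_lit 0xc0843464e) (nat_lit 2306))
 (.leaf (nat_lit 0xc0843465e) (nat_lit 2050))
))) (.node (nat_lit 0xc0843cc46) (.node (nat_lit 0xc0843ca4e) (.node (nat_lit 0xc0843c85e) (.leaf (nat_lit 0xc0843c84e) (nat_lit 2307))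
 (.leaf (nat_lit 0xc0843c85e) (nat_lit 2051))
) (.node (nat_lit 0xc0843ca5e) (.leaf (nat_lit 0xc0843ca4e) (nat_lit 2051))
 (.leaf (nat_lit 0xc0843ca5e) (nat_lit 1795))
)) (.node (nat_lit 0xc0843ce46) (.node (nat_lit 0xc0843cc56) (.leaf (nat_lit 0xc0843cc46) (nat_lit 1282))
 (.leaf (nat_lit 0xc0843cc56) (nat_lit 1026))
) (.node (nat_lit 0xc0843ce56) (.leaf (nat_lit 0xc0843ce46) (nat_lit 1026))
 (.leaf (nat_lit 0xc0843ce56) (nat_lit 770))
)))))) (.node (nat_lit 0xc10224981) (.node (nat_lit 0xc10214981) (.node (nat_lit 0xc1020c1b1) (.node (nat_lit 0xc10204581) (.node (nat_lit 0xc10204391) (.node (nat_lit 0xc10204189) (.leaf (nat_lit 0xc10204181) (nat_lit 1028))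
 (.leaf (nat_lit 0xc10204189) (nat_lit 1284))
) (.node (nat_lit 0xc10204399) (.leaf (nat_lit 0xc10204391) (nat_lit 2563))
 (.leaf (nat_lit 0xc10204399) (nat_lit 2819))
)) (.node (nat_lit 0xc10204791) (.node (nat_lit 0xc10204589) (.leaf (nat_lit 0xc10204581) (nat_lit 260))
 (.leaf (nat_lit 0xc10204589) (nat_lit 516))
) (.node (nat_lit 0xc10204799) (.leaf (nat_lit 0xc10204791) (nat_lit 2307))
 (.leaf (nat_lit 0xc10204799) (nat_lit 2563))
))) (.node (nat_lit 0xc1020c5b1) (.node (nat_lit 0xc1020c3a1) (.node (nat_lit 0xc1020c1b9) (.leaf (nat_lit 0xc1020c1b1) (nat_lit 1795))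
 (.leaf (nat_lit 0xc1020c1b9) (nat_lit 1539))
) (.node (nat_lit 0xc1020c3a9) (.leaf (nat_lit 0xc1020c3a1) (nat_lit 1796))
 (.leaf (nat_lit 0xc1020c3a9) (nat_lit 1540))
)) (.node (nat_lit 0xc1020c7a1) (.node (nat_lit 0xc1020c5b9) (.leaf (nat_lit 0xc1020c5b1) (nat_lit 1539))
 (.leaf (nat_lit 0xc1020c5b9) (nat_lit 1283))
) (.node (nat_lit 0xc1020c7a9) (.leaf (nat_lit 0xc1020c7a1) (nat_lit 1540))
 (.leaf (nat_lit 0xc1020c7a9) (nat_lit 1284))
)))) (.node (nat_lit 0xc1021c9b1) (.node (nat_lit 0xc10214d81) (.node (nat_lit 0xc10214b91) (.node (nat_lit 0xc10214989) (.leaf (nat_lit 0xc10214981) (nat_lit 1540))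
 (.leaf (nat_lit 0xc10214989) (nat_lit 1796))
) (.node (nat_lit 0xc10214b99) (.leaf (nat_lit 0xc10214b91) (nat_lit 2051))
 (.leaf (nat_lit 0xc10214b99) (nat_lit 2307))
)) (.node (nat_lit 0xc10214f91) (.node (nat_lit 0xc10214d89) (.leaf (nat_lit 0xc10214d81) (nat_lit 772))
 (.leaf (nat_lit 0xc10214d89) (nat_lit 1028))
) (.node (nat_lit 0xc10214f99) (.leaf (nat_lit 0xc10214f91) (nat_lit 1795))
 (.leaf (nat_lit 0xc10214f99) (nat_lit 2051))
))) (.node (nat_lit 0xc1021cdb1) (.node (nat_lit 0xc1021cba1) (.node (nat_lit 0xc1021c9b9) (.leaf (nat_lit 0xc1021c9b1) (nat_lit 1795))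
 (.leaf (nat_lit 0xc1021c9b9) (nat_lit 1539))
) (.node (nat_lit 0xc1021cba9) (.leaf (nat_lit 0xc1021cba1) (nat_lit 1796))
 (.leaf (nat_lit 0xc1021cba9) (nat_lit 1540))
)) (.node (nat_lit 0xc1021cfa1) (.node (nat_lit 0xc1021cdb9) (.leaf (nat_lit 0xc1021cdb1) (nat_lit 1539))
 (.leaf (nat_lit 0xc1021cdb9) (nat_lit 1283))
) (.node (nat_lit 0xc1021cfa9) (.leaf (nat_lit 0xc1021cfa1) (nat_lit 1540))
 (.leaf (nat_lit 0xc1021cfa9) (nat_lit 1284))
))))) (.node (nat_lit 0xc10234181) (.node (nat_lit 0xc1022c9b1) (.node (nat_lit 0xc10224d81) (.node (nat_lit 0xc10224b91) (.node (nat_lit 0xc10224989) (.leaf (nat_lit 0xc10224981) (nat_lit 1284))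
 (.leaf (nat_lit 0xc10224989) (nat_lit 1540))
) (.node (nat_lit 0xc10224b99) (.leaf (nat_lit 0xc10224b91) (nat_lit 2307))
 (.leaf (nat_lit 0xc10224b99) (nat_lit 2563))
)) (.node (nat_lit 0xc10224f91) (.node (nat_lit 0xc10224d89) (.leaf (nat_lit 0xc10224d81) (nat_lit 516))
 (.leaf (nat_lit 0xc10224d89) (nat_lit 772))
) (.node (nat_lit 0xc10224f99) (.leaf (nat_lit 0xc10224f91) (nat_lit 2051))
 (.leaf (nat_lit 0xc10224f99) (nat_lit 2307))
))) (.node (nat_lit 0xc1022cdb1) (.node (nat_lit 0xc1022cba1) (.node (nat_lit 0xc1022c9b9) (.leaf (nat_lit 0xc1022c9b1) (nat_lit 2051))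
 (.leaf (nat_lit 0xc1022c9b9) (nat_lit 1795))
) (.node (nat_lit 0xc1022cba9) (.leaf (nat_lit 0xc1022cba1) (nat_lit 1540))
 (.leaf (nat_lit 0xc1022cba9) (nat_lit 1284))
)) (.node (nat_lit 0xc1022cfa1) (.node (nat_lit 0xc1022cdb9) (.leaf (nat_lit 0xc1022cdb1) (nat_lit 1795))
 (.leaf (nat_lit 0xc1022cdb9) (nat_lit 1539))
) (.node (nat_lit 0xc1022cfa9) (.leaf (nat_lit 0xc1022cfa1) (nat_lit 1284))
 (.leaf (nat_lit 0xc1022cfa9) (nat_lit 1028))
)))) (.node (nat_lit 0xc1023c1b1) (.node (nat_lit 0xc10234581) (.node (nat_lit 0xc10234391) (.node (nat_lit 0xc10234189) (.leaf (nat_lit 0xc10234181) (nat_lit 1284))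
 (.leaf (nat_lit 0xc10234189) (nat_lit 1540))
) (.node (nat_lit 0xc10234399) (.leaf (nat_lit 0xc10234391) (nat_lit 2307))
 (.leaf (nat_lit 0xc10234399) (nat_lit 2563))
)) (.node (nat_lit 0xc10234791) (.node (nat_lit 0xc10234589) (.leaf (nat_lit 0xc10234581) (nat_lit 516))
 (.leaf (nat_lit 0xc10234589) (nat_lit 772))
) (.node (nat_lit 0xc10234799) (.leaf (nat_lit 0xc10234791) (nat_lit 2051))
 (.leaf (nat_lit 0xc10234799) (nat_lit 2307))
))) (.node (nat_lit 0xc1023c5b1) (.node (nat_lit 0xc1023c3a1) (.node (nat_lit 0xc1023c1b9) (.leaf (nat_lit 0xc1023c1b1) (nat_lit 1539))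
 (.leaf (nat_lit 0xc1023c1b9) (nat_lit 1283))
) (.node (nat_lit 0xc1023c3a9) (.leaf (nat_lit 0xc1023c3a1) (nat_lit 2052))
 (.leaf (nat_lit 0xc1023c3a9) (nat_lit 1796))
)) (.node (nat_lit 0xc1023c7a1) (.node (nat_lit 0xc1023c5b9) (.leaf (nat_lit 0xc1023c5b1) (nat_lit 1283))
 (.leaf (nat_lit 0xc1023c5b9) (nat_lit 1027))
) (.node (nat_lit 0xc1023c7a9) (.leaf (nat_lit 0xc1023c7a1) (nat_lit 1796))
 (.leaf (nat_lit 0xc1023c7a9) (nat_lit 1540))
))))))) (.node (nat_lit 0xe10204185) (.node (nat_lit 0xe08424966) (.node (nat_lit 0xe0841416e) (.node (nat_lit 0xe0840c94e) (.node (nat_lit 0xe0840454e) (.node (nat_lit 0xe08404346) (.node (nat_lit 0xe08404156) (.leaf (nat_lit 0xe08404146) (nat_lit 1284))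
 (.leaf (nat_lit 0xe08404156) (nat_lit 1028))
) (.node (nat_lit 0xe08404356) (.leaf (nat_lit 0xe08404346) (nat_lit 1028))
 (.leaf (nat_lit 0xe08404356) (nat_lit 772))
)) (.node (nat_lit 0xe0840474e) (.node (nat_lit 0xe0840455e) (.leaf (nat_lit 0xe0840454e) (nat_lit 2820))
 (.leaf (nat_lit 0xe0840455e) (nat_lit 2564))
) (.node (nat_lit 0xe0840475e) (.leaf (nat_lit 0xe0840474e) (nat_lit 2564))
 (.leaf (nat_lit 0xe0840475e) (nat_lit 2308))
))) (.node (nat_lit 0xe0840cd46) (.node (nat_lit 0xe0840cb4e) (.node (nat_lit 0xe0840c95e) (.leaf (nat_lit 0xe0840c94e) (nat_lit 2308))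
 (.leaf (nat_lit 0xe0840c95e) (nat_lit 2052))
) (.node (nat_lit 0xe0840cb5e) (.leaf (nat_lit 0xe0840cb4e) (nat_lit 2052))
 (.leaf (nat_lit 0xe0840cb5e) (nat_lit 1796))
)) (.node (nat_lit 0xe0840cf46) (.node (nat_lit 0xe0840cd56) (.leaf (nat_lit 0xe0840cd46) (nat_lit 1796))
 (.leaf (nat_lit 0xe0840cd56) (nat_lit 1540))
) (.node (nat_lit 0xe0840cf56) (.leaf (nat_lit 0xe0840cf46) (nat_lit 1540))
 (.leaf (nat_lit 0xe0840cf56) (nat_lit 1284))
)))) (.node (nat_lit 0xe0841c966) (.node (nat_lit 0xe08414566) (.node (nat_lit 0xe0841436e) (.node (nat_lit 0xe0841417e) (.leaf (nat_lit 0xe0841416e) (nat_lit 2308))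
 (.leaf (nat_lit 0xe0841417e) (nat_lit 2052))
) (.node (nat_lit 0xe0841437e) (.leaf (nat_lit 0xe0841436e) (nat_lit 2052))
 (.leaf (nat_lit 0xe0841437e) (nat_lit 1796))
)) (.node (nat_lit 0xe08414766) (.node (nat_lit 0xe08414576) (.leaf (nat_lit 0xe08414566) (nat_lit 1796))
 (.leaf (nat_lit 0xe08414576) (nat_lit 1540))
) (.node (nat_lit 0xe08414776) (.leaf (nat_lit 0xe08414766) (nat_lit 1540))
 (.leaf (nat_lit 0xe08414776) (nat_lit 1284))
))) (.node (nat_lit 0xe0841cd6e) (.node (nat_lit 0xe0841cb66) (.node (nat_lit 0xe0841c976) (.leaf (nat_lit 0xe0841c966) (nat_lit 1796))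
 (.leaf (nat_lit 0xe0841c976) (nat_lit 1540))
) (.node (nat_lit 0xe0841cb76) (.leaf (nat_lit 0xe0841cb66) (nat_lit 1540))
 (.leaf (nat_lit 0xe0841cb76) (nat_lit 1284))
)) (.node (nat_lit 0xe0841cf6e) (.node (nat_lit 0xe0841cd7e) (.leaf (nat_lit 0xe0841cd6e) (nat_lit 2308))
 (.leaf (nat_lit 0xe0841cd7e) (nat_lit 2052))
) (.node (nat_lit 0xe0841cf7e) (.leaf (nat_lit 0xe0841cf6e) (nat_lit 2052))
 (.leaf (nat_lit 0xe0841cf7e) (nat_lit 1796))
))))) (.node (nat_lit 0xe0843494e) (.node (nat_lit 0xe0842c16e) (.node (nat_lit 0xe08424d6e) (.node (nat_lit 0xe08424b66) (.node (nat_lit 0xe08424976) (.leaf (nat_lit 0xe08424966) (nat_lit 1540))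
 (.leaf (nat_lit 0xe08424976) (nat_lit 1284))
) (.node (nat_lit 0xe08424b76) (.leaf (nat_lit 0xe08424b66) (nat_lit 1284))
 (.leaf (nat_lit 0xe08424b76) (nat_lit 1028))
)) (.node (nat_lit 0xe08424f6e) (.node (nat_lit 0xe08424d7e) (.leaf (nat_lit 0xe08424d6e) (nat_lit 2564))
 (.leaf (nat_lit 0xe08424d7e) (nat_lit 2308))
) (.node (nat_lit 0xe08424f7e) (.leaf (nat_lit 0xe08424f6e) (nat_lit 2308))
 (.leaf (nat_lit 0xe08424f7e) (nat_lit 2052))
))) (.node (nat_lit 0xe0842c566) (.node (nat_lit 0xe0842c36e) (.node (nat_lit 0xe0842c17e) (.leaf (nat_lit 0xe0842c16e) (nat_lit 2052))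
 (.leaf (nat_lit 0xe0842c17e) (nat_lit 1796))
) (.node (nat_lit 0xe0842c37e) (.leaf (nat_lit 0xe0842c36e) (nat_lit 1796))
 (.leaf (nat_lit 0xe0842c37e) (nat_lit 1540))
)) (.node (nat_lit 0xe0842c766) (.node (nat_lit 0xe0842c576) (.leaf (nat_lit 0xe0842c566) (nat_lit 2052))
 (.leaf (nat_lit 0xe0842c576) (nat_lit 1796))
) (.node (nat_lit 0xe0842c776) (.leaf (nat_lit 0xe0842c766) (nat_lit 1796))
 (.leaf (nat_lit 0xe0842c776) (nat_lit 1540))
)))) (.node (nat_lit 0xe0843c146) (.node (nat_lit 0xe08434d46) (.node (nat_lit 0xe08434b4e) (.node (nat_lit 0xe0843495e) (.leaf (nat_lit 0xe0843494e) (nat_lit 2564))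
 (.leaf (nat_lit 0xe0843495e) (nat_lit 2308))
) (.node (nat_lit 0xe08434b5e) (.leaf (nat_lit 0xe08434b4e) (nat_lit 2308))
 (.leaf (nat_lit 0xe08434b5e) (nat_lit 2052))
)) (.node (nat_lit 0xe08434f46) (.node (nat_lit 0xe08434d56) (.leaf (nat_lit 0xe08434d46) (nat_lit 1540))
 (.leaf (nat_lit 0xe08434d56) (nat_lit 1284))
) (.node (nat_lit 0xe08434f56) (.leaf (nat_lit 0xe08434f46) (nat_lit 1284))
 (.leaf (nat_lit 0xe08434f56) (nat_lit 1028))
))) (.node (nat_lit 0xe0843c54e) (.node (nat_lit 0xe0843c346) (.node (nat_lit 0xe0843c156) (.leaf (nat_lit 0xe0843c146) (nat_lit 1540))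
 (.leaf (nat_lit 0xe0843c156) (nat_lit 1284))
) (.node (nat_lit 0xe0843c356) (.leaf (nat_lit 0xe0843c346) (nat_lit 1284))
 (.leaf (nat_lit 0xe0843c356) (nat_lit 1028))
)) (.node (nat_lit 0xe0843c74e) (.node (nat_lit 0xe0843c55e) (.leaf (nat_lit 0xe0843c54e) (nat_lit 2564))
 (.leaf (nat_lit 0xe0843c55e) (nat_lit 2308))
) (.node (nat_lit 0xe0843c75e) (.leaf (nat_lit 0xe0843c74e) (nat_lit 2308))
 (.leaf (nat_lit 0xe0843c75e) (nat_lit 2052))
)))))) (.node (nat_lit 0xe102249a5) (.node (nat_lit 0xe10214995) (.node (nat_lit 0xe1020c1b5) (.node (nat_lit 0xe10204585) (.node (nat_lit 0xe10204395) (.node (nat_lit 0xe1020418d) (.leaf (nat_lit 0xe10204185) (nat_lit 1540))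
 (.leaf (nat_lit 0xe1020418d) (nat_lit 1284))
) (.node (nat_lit 0xe1020439d) (.leaf (nat_lit 0xe10204395) (nat_lit 2564))
 (.leaf (nat_lit 0xe1020439d) (nat_lit 2308))
)) (.node (nat_lit 0xe10204795) (.node (nat_lit 0xe1020458d) (.leaf (nat_lit 0xe10204585) (nat_lit 1284))
 (.leaf (nat_lit 0xe1020458d) (nat_lit 1028))
) (.node (nat_lit 0xe1020479d) (.leaf (nat_lit 0xe10204795) (nat_lit 2308))
 (.leaf (nat_lit 0xe1020479d) (nat_lit 2052))
))) (.node (nat_lit 0xe1020c5b5) (.node (nat_lit 0xe1020c3a5) (.node (nat_lit 0xe1020c1bd) (.leaf (nat_lit 0xe1020c1b5) (nat_lit 2052))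
 (.leaf (nat_lit 0xe1020c1bd) (nat_lit 1796))
) (.node (nat_lit 0xe1020c3ad) (.leaf (nat_lit 0xe1020c3a5) (nat_lit 2052))
 (.leaf (nat_lit 0xe1020c3ad) (nat_lit 1796))
)) (.node (nat_lit 0xe1020c7a5) (.node (nat_lit 0xe1020c5bd) (.leaf (nat_lit 0xe1020c5b5) (nat_lit 1796))
 (.leaf (nat_lit 0xe1020c5bd) (nat_lit 1540))
) (.node (nat_lit 0xe1020c7ad) (.leaf (nat_lit 0xe1020c7a5) (nat_lit 1796))
 (.leaf (nat_lit 0xe1020c7ad) (nat_lit 1540))
)))) (.node (nat_lit 0xe1021c9a5) (.node (nat_lit 0xe10214d95) (.node (nat_lit 0xe10214b85) (.node (nat_lit 0xe1021499d) (.leaf (nat_lit 0xe10214995) (nat_lit 2052))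
 (.leaf (nat_lit 0xe1021499d) (nat_lit 1796))
) (.node (nat_lit 0xe10214b8d) (.leaf (nat_lit 0xe10214b85) (nat_lit 2052))
 (.leaf (nat_lit 0xe10214b8d) (nat_lit 1796))
)) (.node (nat_lit 0xe10214f85) (.node (nat_lit 0xe10214d9d) (.leaf (nat_lit 0xe10214d95) (nat_lit 1796))
 (.leaf (nat_lit 0xe10214d9d) (nat_lit 1540))
) (.node (nat_lit 0xe10214f8d) (.leaf (nat_lit 0xe10214f85) (nat_lit 1796))
 (.leaf (nat_lit 0xe10214f8d) (nat_lit 1540))
))) (.node (nat_lit 0xe1021cda5) (.node (nat_lit 0xe1021cbb5) (.node (nat_lit 0xe1021c9ad) (.leaf (nat_lit 0xe1021c9a5) (nat_lit 2052))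
 (.leaf (nat_lit 0xe1021c9ad) (nat_lit 1796))
) (.node (nat_lit 0xe1021cbbd) (.leaf (nat_lit 0xe1021cbb5) (nat_lit 2052))
 (.leaf (nat_lit 0xe1021cbbd) (nat_lit 1796))
)) (.node (nat_lit 0xe1021cfb5) (.node (nat_lit 0xe1021cdad) (.leaf (nat_lit 0xe1021cda5) (nat_lit 1796))
 (.leaf (nat_lit 0xe1021cdad) (nat_lit 1540))
) (.node (nat_lit 0xe1021cfbd) (.leaf (nat_lit 0xe1021cfb5) (nat_lit 1796))
 (.leaf (nat_lit 0xe1021cfbd) (nat_lit 1540))
))))) (.node (nat_lit 0xe102341b5) (.node (nat_lit 0xe1022c995) (.node (nat_lit 0xe10224da5) (.node (nat_lit 0xe10224bb5) (.node (nat_lit 0xe102249ad) (.leaf (nat_lit 0xe102249a5) (nat_lit 1796))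
 (.leaf (nat_lit 0xe102249ad) (nat_lit 1540))
) (.node (nat_lit 0xe10224bbd) (.leaf (nat_lit 0xe10224bb5) (nat_lit 2308))
 (.leaf (nat_lit 0xe10224bbd) (nat_lit 2052))
)) (.node (nat_lit 0xe10224fb5) (.node (nat_lit 0xe10224dad) (.leaf (nat_lit 0xe10224da5) (nat_lit 1540))
 (.leaf (nat_lit 0xe10224dad) (nat_lit 1284))
) (.node (nat_lit 0xe10224fbd) (.leaf (nat_lit 0xe10224fb5) (nat_lit 2052))
 (.leaf (nat_lit 0xe10224fbd) (nat_lit 1796))
))) (.node (nat_lit 0xe1022cd95) (.node (nat_lit 0xe1022cb85) (.node (nat_lit 0xe1022c99d) (.leaf (nat_lit 0xe1022c995) (nat_lit 2308))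
 (.leaf (nat_lit 0xe1022c99d) (nat_lit 2052))
) (.node (nat_lit 0xe1022cb8d) (.leaf (nat_lit 0xe1022cb85) (nat_lit 1796))
 (.leaf (nat_lit 0xe1022cb8d) (nat_lit 1540))
)) (.node (nat_lit 0xe1022cf85) (.node (nat_lit 0xe1022cd9d) (.leaf (nat_lit 0xe1022cd95) (nat_lit 2052))
 (.leaf (nat_lit 0xe1022cd9d) (nat_lit 1796))
) (.node (nat_lit 0xe1022cf8d) (.leaf (nat_lit 0xe1022cf85) (nat_lit 1540))
 (.leaf (nat_lit 0xe1022cf8d) (nat_lit 1284))
)))) (.node (nat_lit 0xe1023c185) (.node (nat_lit 0xe102345b5) (.node (nat_lit 0xe102343a5) (.node (nat_lit 0xe102341bd) (.leaf (nat_lit 0xe102341b5) (nat_lit 1796))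
 (.leaf (nat_lit 0xe102341bd) (nat_lit 1540))
) (.node (nat_lit 0xe102343ad) (.leaf (nat_lit 0xe102343a5) (nat_lit 2308))
 (.leaf (nat_lit 0xe102343ad) (nat_lit 2052))
)) (.node (nat_lit 0xe102347a5) (.node (nat_lit 0xe102345bd) (.leaf (nat_lit 0xe102345b5) (nat_lit 1540))
 (.leaf (nat_lit 0xe102345bd) (nat_lit 1284))
) (.node (nat_lit 0xe102347ad) (.leaf (nat_lit 0xe102347a5) (nat_lit 2052))
 (.leaf (nat_lit 0xe102347ad) (nat_lit 1796))
))) (.node (nat_lit 0xe1023c585) (.node (nat_lit 0xe1023c395) (.node (nat_lit 0xe1023c18d) (.leaf (nat_lit 0xe1023c185) (nat_lit 1796))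
 (.leaf (nat_lit 0xe1023c18d) (nat_lit 1540))
) (.node (nat_lit 0xe1023c39d) (.leaf (nat_lit 0xe1023c395) (nat_lit 2308))
 (.leaf (nat_lit 0xe1023c39d) (nat_lit 2052))
)) (.node (nat_lit 0xe1023c795) (.node (nat_lit 0xe1023c58d) (.leaf (nat_lit 0xe1023c585) (nat_lit 1540))
 (.leaf (nat_lit 0xe1023c58d) (nat_lit 1284))
) (.node (nat_lit 0xe1023c79d) (.leaf (nat_lit 0xe1023c795) (nat_lit 2052))
 (.leaf (nat_lit 0xe1023c79d) (nat_lit 1796))
)))))))))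

theorem R_ok : genOK B6.A [(nat_lit 0x810204089), (nat_lit 0x810224081), (nat_lit 0x810234c81), (nat_lit 0x808404042), (nat_lit 0xc10204581)] R_t (nat_lit 512) = true := by decide +kernel

noncomputable def E24_t : ST :=
(.node (nat_lit 0x810204481) (.node (nat_lit 0x110224691) (.node (nat_lit 0x110224299) (.node (nat_lit 0x110224089) (.leaf (nat_lit 0x110224081) (nat_lit 512))
 (.node (nat_lit 0x110224291) (.leaf (nat_lit 0x110224089) (nat_lit 769))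
 (.leaf (nat_lit 0x110224291) (nat_lit 1283))
)) (.node (nat_lit 0x110224481) (.leaf (nat_lit 0x110224299) (nat_lit 1027))
 (.node (nat_lit 0x110224489) (.leaf (nat_lit 0x110224481) (nat_lit 770))
 (.leaf (nat_lit 0x110224489) (nat_lit 1026))
))) (.node (nat_lit 0x810204089) (.node (nat_lit 0x110224699) (.leaf (nat_lit 0x110224691) (nat_lit 1027))
 (.node (nat_lit 0x810204081) (.leaf (nat_lit 0x110224699) (nat_lit 771))
 (.leaf (nat_lit 0x810204081) (nat_lit 0))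
)) (.node (nat_lit 0x810204291) (.leaf (nat_lit 0x810204089) (nat_lit 257))
 (.node (nat_lit 0x810204299) (.leaf (nat_lit 0x810204291) (nat_lit 771))
 (.leaf (nat_lit 0x810204299) (nat_lit 515))
)))) (.node (nat_lit 0x910220291) (.node (nat_lit 0x810204699) (.node (nat_lit 0x810204489) (.leaf (nat_lit 0x810204481) (nat_lit 258))
 (.node (nat_lit 0x810204691) (.leaf (nat_lit 0x810204489) (nat_lit 514))
 (.leaf (nat_lit 0x810204691) (nat_lit 515))
)) (.node (nat_lit 0x910220081) (.leaf (nat_lit 0x810204699) (nat_lit 259))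
 (.node (nat_lit 0x910220089) (.leaf (nat_lit 0x910220081) (nat_lit 256))
 (.leaf (nat_lit 0x910220089) (nat_lit 513))
))) (.node (nat_lit 0x910220489) (.node (nat_lit 0x910220299) (.leaf (nat_lit 0x910220291) (nat_lit 1027))
 (.node (nat_lit 0x910220481) (.leaf (nat_lit 0x910220299) (nat_lit 771))
 (.leaf (nat_lit 0x910220481) (nat_lit 514))
)) (.node (nat_lit 0x910220691) (.leaf (nat_lit 0x910220489) (nat_lit 770))
 (.node (nat_lit 0x910220699) (.leaf (nat_lit 0x910220691) (nat_lit 771))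
 (.leaf (nat_lit 0x910220699) (nat_lit 515))
)))))

theorem E24_ok : genOK B6.A [(nat_lit 0x910220081), (nat_lit 0x810204089), (nat_lit 0x810204481), (nat_lit 0x810204699)] E24_t (nat_lit 24) = true := by decide +kernel

noncomputable def A9_t : ST :=
(.node (nat_lit 0x810204081) (.node (nat_lit 0x118424043) (.node (nat_lit 0x110224081) (.leaf (nat_lit 0x1086240c2) (nat_lit 769))
 (.leaf (nat_lit 0x110224081) (nat_lit 512))
) (.node (nat_lit 0x8086040c2) (.leaf (nat_lit 0x118424043) (nat_lit 1025))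
 (.leaf (nat_lit 0x8086040c2) (nat_lit 257))
)) (.node (nat_lit 0x9086200c2) (.node (nat_lit 0x818404043) (.leaf (nat_lit 0x810204081) (nat_lit 0))
 (.leaf (nat_lit 0x818404043) (nat_lit 513))
) (.node (nat_lit 0x910220081) (.leaf (nat_lit 0x9086200c2) (nat_lit 513))
 (.node (nat_lit 0x918420043) (.leaf (nat_lit 0x910220081) (nat_lit 256))
 (.leaf (nat_lit 0x918420043) (nat_lit 769))
))))

theorem A9_ok : genOK B6.A [(nat_lit 0x910220081), (nat_lit 0x8086040c2)] A9_t (nat_lit 9) = true := by decide +kernel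

noncomputable def V8_t : ST :=
(.node (nat_lit 0x810204481) (.node (nat_lit 0x810204291) (.node (nat_lit 0x810204089) (.leaf (nat_lit 0x810204081) (nat_lit 0))
 (.leaf (nat_lit 0x810204089) (nat_lit 256))
) (.node (nat_lit 0x810204299) (.leaf (nat_lit 0x810204291) (nat_lit 770))
 (.leaf (nat_lit 0x810204299) (nat_lit 514))
)) (.node (nat_lit 0x810204691) (.node (nat_lit 0x810204489) (.leaf (nat_lit 0x810204481) (nat_lit 257))
 (.leaf (nat_lit 0x810204489) (nat_lit 513))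
) (.node (nat_lit 0x810204699) (.leaf (nat_lit 0x810204691) (nat_lit 514))
 (.leaf (nat_lit 0x810204699) (nat_lit 258))
)))

theorem V8_ok : genOK B6.A [(nat_lit 0x810204089), (nat_lit 0x810204481), (nat_lit 0x810204699)] V8_t (nat_lit 8) = true := by decide +kernel

noncomputable def E32_t : ST :=
(.node (nat_lit 0xc10204581) (.node (nat_lit 0xa1020408d) (.node (nat_lit 0x810214c81) (.node (nat_lit 0x81020c0a9) (.node (nat_lit 0x810204291) (.leaf (nat_lit 0x810204081) (nat_lit 0))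
 (.leaf (nat_lit 0x810204291) (nat_lit 1027))
) (.node (nat_lit 0x81020c2b9) (.leaf (nat_lit 0x81020c0a9) (nat_lit 258))
 (.leaf (nat_lit 0x81020c2b9) (nat_lit 769))
)) (.node (nat_lit 0x81021cca9) (.node (nat_lit 0x810214e91) (.leaf (nat_lit 0x810214c81) (nat_lit 256))
 (.leaf (nat_lit 0x810214e91) (nat_lit 771))
) (.node (nat_lit 0x81021ceb9) (.leaf (nat_lit 0x81021cca9) (nat_lit 514))
 (.leaf (nat_lit 0x81021ceb9) (nat_lit 1025))
))) (.node (nat_lit 0xa10214c9d) (.node (nat_lit 0xa1020c0ad) (.node (nat_lit 0xa1020429d) (.leaf (nat_lit 0xa1020408d) (nat_lit 259))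
 (.leaf (nat_lit 0xa1020429d) (nat_lit 768))
) (.node (nat_lit 0xa1020c2bd) (.leaf (nat_lit 0xa1020c0ad) (nat_lit 515))
 (.leaf (nat_lit 0xa1020c2bd) (nat_lit 1024))
)) (.node (nat_lit 0xa1021ccbd) (.node (nat_lit 0xa10214e8d) (.leaf (nat_lit 0xa10214c9d) (nat_lit 515))
 (.leaf (nat_lit 0xa10214e8d) (nat_lit 512))
) (.node (nat_lit 0xa1021cead) (.leaf (nat_lit 0xa1021ccbd) (nat_lit 771))
 (.leaf (nat_lit 0xa1021cead) (nat_lit 768))
)))) (.node (nat_lit 0xe1020458d) (.node (nat_lit 0xc10214d81) (.node (nat_lit 0xc1020c5b9) (.node (nat_lit 0xc10204791) (.leaf (nat_lit 0xc10204581) (nat_lit 257))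
 (.leaf (nat_lit 0xc10204791) (nat_lit 770))
) (.node (nat_lit 0xc1020c7a9) (.leaf (nat_lit 0xc1020c5b9) (nat_lit 514))
 (.leaf (nat_lit 0xc1020c7a9) (nat_lit 513))
)) (.node (nat_lit 0xc1021cdb9) (.node (nat_lit 0xc10214f91) (.leaf (nat_lit 0xc10214d81) (nat_lit 513))
 (.leaf (nat_lit 0xc10214f91) (nat_lit 1026))
) (.node (nat_lit 0xc1021cfa9) (.leaf (nat_lit 0xc1021cdb9) (nat_lit 770))
 (.leaf (nat_lit 0xc1021cfa9) (nat_lit 769))
))) (.node (nat_lit 0xe10214d9d) (.node (nat_lit 0xe1020c5bd) (.node (nat_lit 0xe1020479d) (.leaf (nat_lit 0xe1020458d) (nat_lit 515))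
 (.leaf (nat_lit 0xe1020479d) (nat_lit 1024))
) (.node (nat_lit 0xe1020c7ad) (.leaf (nat_lit 0xe1020c5bd) (nat_lit 771))
 (.leaf (nat_lit 0xe1020c7ad) (nat_lit 771))
)) (.node (nat_lit 0xe1021cdad) (.node (nat_lit 0xe10214f8d) (.leaf (nat_lit 0xe10214d9d) (nat_lit 771))
 (.leaf (nat_lit 0xe10214f8d) (nat_lit 768))
) (.node (nat_lit 0xe1021cfbd) (.leaf (nat_lit 0xe1021cdad) (nat_lit 1027))
 (.leaf (nat_lit 0xe1021cfbd) (nat_lit 1027))
)))))

theorem E32_ok : genOK B6.A [(nat_lit 0x810214c81), (nat_lit 0xc10204581), (nat_lit 0x81020c0a9), (nat_lit 0xa1020408d)] E32_t (nat_lit 32) = true := by decide +kernel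

end Cfsg.Agent.T16.Sp6
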