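import Mathlib
import Cfsg.Agent.T16.FrData

/-! Generated by tools/rec: 3^3:A4 inside Sym(9) (tools/t16/a4.py) -/

set_option autoImplicit false
set_option maxRecDepth 100000
set_option linter.unusedVariables false
set_option exponentiation.threshold 100000

namespace Cfsg.Agent.T16

open Cfsg.Agent.Spor Cfsg.Agent.Rec

universe u

noncomputable def a4l : List ℕ := [(nat_lit 0x80706050403000201), (nat_lit 0x80706050403010002), (nat_lit 0x80706030504020100), (nat_lit 0x80706040305020100), (nat_lit 0x60807050403020100), (nat_lit 0x70608050403020100), (nat_lit 0x20100080706050403), (nat_lit 0x50403020100080706), (nat_lit 0x80706040503010200)]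

noncomputable def a4c : List ℕ := [(nat_lit 0x80706050403000201), (nat_lit 0x80706030504020100), (nat_lit 0x60807050403020100), (nat_lit 0x20100080706050403), (nat_lit 0x80706040503010200)]

def a4ex : List (List ℕ) :=
  [[6, 7],
   [7, 6],
   [6, 6, 6],
   [6, 0, 7, 3],
   [6, 2, 7, 5],
   [8, 8],
   [8, 0, 8, 0],
   [8, 2, 8, 2],
   [8, 4, 8, 5],
   [8, 6, 8, 7, 7, 8, 6]]

def a4rel : List (List ℕ) := relJ ++ a4ex

noncomputable def a4t_rels : LT :=
(.node (.node (.node (.node (.node (.leaf [])
 (.leaf [nat_lit 6,nat_lit 6,nat_lit 6])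
) (.leaf [nat_lit 7,nat_lit 6])
) (.node (.node (.leaf [nat_lit 3,nat_lit 2])
 (.leaf [nat_lit 8,nat_lit 2,nat_lit 8,nat_lit 2])
) (.leaf [nat_lit 4,nat_lit 4,nat_lit 4])
)) (.node (.node (.node (.leaf [nat_lit 1,nat_lit 0])
 (.leaf [nat_lit 6,nat_lit 2,nat_lit 7,nat_lit 5])
) (.leaf [nat_lit 0,nat_lit 0,nat_lit 0])
) (.node (.node (.leaf [nat_lit 5,nat_lit 4])
 (.leaf [nat_lit 8,nat_lit 6,nat_lit 8,nat_lit 7,nat_lit 7,nat_lit 8,nat_lit 6])
) (.leaf [nat_lit 0,nat_lit 4,nat_lit 1,nat_lit 5])
))) (.node (.node (.node (.node (.leaf [nat_lit 0,nat_lit 1])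
 (.leaf [nat_lit 6,nat_lit 0,nat_lit 7,nat_lit 3])
) (.leaf [nat_lit 8,nat_lit 8])
) (.node (.node (.leaf [nat_lit 4,nat_lit 5])
 (.leaf [nat_lit 8,nat_lit 4,nat_lit 8,nat_lit 5])
) (.leaf [nat_lit 0,nat_lit 2,nat_lit 1,nat_lit 3])
)) (.node (.node (.node (.leaf [nat_lit 2,nat_lit 3])
 (.leaf [nat_lit 8,nat_lit 0,nat_lit 8,nat_lit 0])
) (.leaf [nat_lit 2,nat_lit 2,nat_lit 2])
) (.node (.leaf [nat_lit 6,nat_lit 7])
 (.leaf [nat_lit 2,nat_lit 4,nat_lit 3,nat_lit 5])
))))
noncomputable def a4t_hws : LT :=
(.leaf [])

noncomputable def a4t_inv : ℕ → ℕ := getP (nat_lit 8) (nat_lit 255) (nat_lit 0x80607040502030001)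

noncomputable def a4t_t : BT :=
(.node (.node (.node (.node (.leaf (nat_lit 0x6235581162808a920444802203810c998854ac4224620d1810588081021c000))
 (.leaf (nat_lit 0xb234351172400bb5444870024c001a6c0052400211000c8020a141040808183))
) (.leaf (nat_lit 0x33d8017e800a72004b8001eb910f9a085cb04264820f18004c8882821c040))
) (.node (.node (.leaf (nat_lit 0x32d8916a800a3224468001db890d19c858ae4244720e1800448481421c020))
 (.leaf (nat_lit 0x183a80c194060e8030640103980818c0410402081008400041c0020c000000))
) (.leaf (nat_lit 0x30a8018ec009a8004f9001b9800e5c10ad40842804183000340001e408061))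
)) (.node (.node (.node (.leaf (nat_lit 0x35d80166800ab2004580020b800cd80056a00234000d98005c8001221c010))
 (.leaf (nat_lit 0x1ff800ffc007fe003ff001ff800ffc007fe003ff001ff800ffc007fe003ff0))
) (.leaf (nat_lit 0x42335c917a908a53244a8421e3800fd8005ea00274000f9a10488002a21c050))
) (.node (.leaf (nat_lit 0x323258016e8c8a1200478321d3800d58005aa00254000e9990408001621c030))
 (.leaf (nat_lit 0x523150015d5489d000434521c3000c4c10c16084c9041b3a90384000e0080c2))
)))

noncomputable def a4t_rules : LT :=
(.node (.node (.node (.node (.leaf [nat_lit 17,nat_lit 2,nat_lit 1,nat_lit 0,nat_lit 7,nat_lit 2,nat_lit 6])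
 (.leaf [nat_lit 21,nat_lit 2,nat_lit 1,nat_lit 4,nat_lit 8,nat_lit 4,nat_lit 8])
) (.leaf [nat_lit 18,nat_lit 0,nat_lit 1,nat_lit 5,nat_lit 6,nat_lit 3,nat_lit 7])
) (.node (.node (.leaf [nat_lit 18,nat_lit 3,nat_lit 0,nat_lit 4,nat_lit 6,nat_lit 2,nat_lit 7])
 (.leaf [nat_lit 22,nat_lit 4,nat_lit 1,nat_lit 8,nat_lit 7,nat_lit 8,nat_lit 7,nat_lit 8,nat_lit 6,nat_lit 6])
) (.leaf [nat_lit 19,nat_lit 2,nat_lit 1,nat_lit 0,nat_lit 8,nat_lit 1,nat_lit 8])
)) (.node (.node (.node (.leaf [nat_lit 18,nat_lit 2,nat_lit 1,nat_lit 2,nat_lit 7,nat_lit 4,nat_lit 6])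
 (.leaf [nat_lit 21,nat_lit 0,nat_lit 1,nat_lit 5,nat_lit 8,nat_lit 5,nat_lit 8])
) (.leaf [nat_lit 16,nat_lit 1,nat_lit 0,nat_lit 7,nat_lit 6,nat_lit 6])
) (.node (.node (.leaf [nat_lit 17,nat_lit 0,nat_lit 1,nat_lit 3,nat_lit 6,nat_lit 1,nat_lit 7])
 (.leaf [nat_lit 22,nat_lit 1,nat_lit 1,nat_lit 8,nat_lit 6,nat_lit 6,nat_lit 8,nat_lit 7,nat_lit 8,nat_lit 7])
) (.leaf [nat_lit 20,nat_lit 2,nat_lit 1,nat_lit 2,nat_lit 8,nat_lit 3,nat_lit 8])
)))

noncomputable def a4t_subs : LT :=
(.leaf [nat_lit 0,nat_lit 0,nat_lit 0,nat_lit 9])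


noncomputable def a4t : TC :=
  ⟨fun x c => Nat.shiftRight (BT.get a4t_t x) (Nat.mul (nat_lit 21) c),
  (nat_lit 4), (nat_lit 15), (nat_lit 16383), (nat_lit 14), (nat_lit 127), (nat_lit 16368), (nat_lit 12), (nat_lit 12), (nat_lit 9), (nat_lit 6), (nat_lit 9), (nat_lit 10), a4t_inv, a4t_rules, a4t_subs⟩

theorem a4t_c1 : a4t.rules.all (ruleOK a4t.m a4t.inv a4t_rels) = true := by decide +kernel
theorem a4t_c2 : a4t.subs.all (subOK a4t.m a4t.inv a4t_hws) = true := by decide +kernel
theorem a4t_c3 : a4t.base = true := by decide +kernel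

theorem a4t_s0 : a4t.slots (nat_lit 0) (nat_lit 12) = true := by decide +kernel

theorem a4t_c4 : a4t.Upto a4t.N := ((TC.upto_zero a4t).step _ a4t_s0)
theorem a4t_c5 : a4t.UptoE a4t.N := (TC.uptoE_n a4t)
theorem a4t_bound {G : Type*} [Group G] {g : ℕ → G} {H : Subgroup G} (hinv : ∀ x < 9, g x * g (a4t_inv x) = 1)
    (hrels : ∀ i, evalW g (a4t_rels.get i) = 1) (hH : ∀ x < 6, g x ∈ H) (hhws : ∀ i, evalW g (a4t_hws.get i) ∈ H) :
    H.relIndex (genLt g 9) ≠ 0 ∧ H.relIndex (genLt g 9) ≤ 12 :=
  TC.relIndex_le (T := a4t) hinv hrels hH hhws a4t_c1 a4t_c2 a4t_c3 a4t_c4 a4t_c5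

theorem a4t_bd : Bound.{u} a4rel 6 9 12 := fun _ _ _ _ hs hH =>
  a4t_bound (hs.hinv (by decide +kernel)) (hs.tree (by decide +kernel)) hH (leaf_nil_mem' _ _ (by decide +kernel))

theorem a4pres : Pres.{u} a4rel 9 324 := presJ.step a4t_bd (by decide +kernel)

theorem a4l_ok : allL a4l (permOK 9) = true := by decide +kernel

theorem a4rel_ok : allL a4rel (fun w => Nat.beq (evC A9 a4l w) A9.one) = true := by decide +kernel

noncomputable def a4g_t : ST :=
(.node (nat_lit 0x40503000102060807) (.node (nat_lit 0x20001070806030504) (.node (nat_lit 0x10002060807040305) (.node (nat_lit 0x201060708050304) (.node (nat_lit 0x102070806040305) (.node (nat_lit 0x102060807050304) (.node (nat_lit 0x102060708050403) (.node (nat_lit 0x102060708040305) (.leaf (nat_lit 0x102060708030504) (nat_lit 1543))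
 (.leaf (nat_lit 0x102060708040305) (nat_lit 1543))
) (.node (nat_lit 0x102060807030405) (.leaf (nat_lit 0x102060708050403) (nat_lit 1287))
 (.node (nat_lit 0x102060807040503) (.leaf (nat_lit 0x102060807030405) (nat_lit 1288))
 (.leaf (nat_lit 0x102060807040503) (nat_lit 1032))
))) (.node (nat_lit 0x102070608040503) (.node (nat_lit 0x102070608030405) (.leaf (nat_lit 0x102060807050304) (nat_lit 1288))
 (.leaf (nat_lit 0x102070608030405) (nat_lit 1288))
) (.node (nat_lit 0x102070608050304) (.leaf (nat_lit 0x102070608040503) (nat_lit 1032))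
 (.node (nat_lit 0x102070806030504) (.leaf (nat_lit 0x102070608050304) (nat_lit 1288))
 (.leaf (nat_lit 0x102070806030504) (nat_lit 1287))
)))) (.node (nat_lit 0x102080706030405) (.node (nat_lit 0x102080607030504) (.node (nat_lit 0x102070806050403) (.leaf (nat_lit 0x102070806040305) (nat_lit 1287))
 (.leaf (nat_lit 0x102070806050403) (nat_lit 1031))
) (.node (nat_lit 0x102080607040305) (.leaf (nat_lit 0x102080607030504) (nat_lit 1543))
 (.node (nat_lit 0x102080607050403) (.leaf (nat_lit 0x102080607040305) (nat_lit 1543))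
 (.leaf (nat_lit 0x102080607050403) (nat_lit 1287))
))) (.node (nat_lit 0x102080706050304) (.node (nat_lit 0x102080706040503) (.leaf (nat_lit 0x102080706030405) (nat_lit 1032))
 (.leaf (nat_lit 0x102080706040503) (nat_lit 776))
) (.node (nat_lit 0x201060708030405) (.leaf (nat_lit 0x102080706050304) (nat_lit 1032))
 (.node (nat_lit 0x201060708040503) (.leaf (nat_lit 0x201060708030405) (nat_lit 1286))
 (.leaf (nat_lit 0x201060708040503) (nat_lit 1030))
))))) (.node (nat_lit 0x201080607030405) (.node (nat_lit 0x201070608040305) (.node (nat_lit 0x201060807040305) (.node (nat_lit 0x201060807030504) (.leaf (nat_lit 0x201060708050304) (nat_lit 1286))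
 (.leaf (nat_lit 0x201060807030504) (nat_lit 1030))
) (.node (nat_lit 0x201060807050403) (.leaf (nat_lit 0x201060807040305) (nat_lit 1030))
 (.node (nat_lit 0x201070608030504) (.leaf (nat_lit 0x201060807050403) (nat_lit 774))
 (.leaf (nat_lit 0x201070608030504) (nat_lit 1030))
))) (.node (nat_lit 0x201070806030405) (.node (nat_lit 0x201070608050403) (.leaf (nat_lit 0x201070608040305) (nat_lit 1030))
 (.leaf (nat_lit 0x201070608050403) (nat_lit 774))
) (.node (nat_lit 0x201070806040503) (.leaf (nat_lit 0x201070806030405) (nat_lit 1030))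
 (.node (nat_lit 0x201070806050304) (.leaf (nat_lit 0x201070806040503) (nat_lit 774))
 (.leaf (nat_lit 0x201070806050304) (nat_lit 1030))
)))) (.node (nat_lit 0x201080706050403) (.node (nat_lit 0x201080607050304) (.node (nat_lit 0x201080607040503) (.leaf (nat_lit 0x201080607030405) (nat_lit 1286))
 (.leaf (nat_lit 0x201080607040503) (nat_lit 1030))
) (.node (nat_lit 0x201080706030504) (.leaf (nat_lit 0x201080607050304) (nat_lit 1286))
 (.node (nat_lit 0x201080706040305) (.leaf (nat_lit 0x201080706030504) (nat_lit 774))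
 (.leaf (nat_lit 0x201080706040305) (nat_lit 774))
))) (.node (nat_lit 0x10002060708040503) (.node (nat_lit 0x10002060708030405) (.leaf (nat_lit 0x201080706050403) (nat_lit 518))
 (.leaf (nat_lit 0x10002060708030405) (nat_lit 1286))
) (.node (nat_lit 0x10002060708050304) (.leaf (nat_lit 0x10002060708040503) (nat_lit 1030))
 (.node (nat_lit 0x10002060807030504) (.leaf (nat_lit 0x10002060708050304) (nat_lit 1286))
 (.leaf (nat_lit 0x10002060807030504) (nat_lit 1030))
)))))) (.node (nat_lit 0x10200070608030405) (.node (nat_lit 0x10002080607050304) (.node (nat_lit 0x10002070806030405) (.node (nat_lit 0x10002070608030504) (.node (nat_lit 0x10002060807050403) (.leaf (nat_lit 0x10002060807040305) (nat_lit 1030))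
 (.leaf (nat_lit 0x10002060807050403) (nat_lit 774))
) (.node (nat_lit 0x10002070608040305) (.leaf (nat_lit 0x10002070608030504) (nat_lit 1030))
 (.node (nat_lit 0x10002070608050403) (.leaf (nat_lit 0x10002070608040305) (nat_lit 1030))
 (.leaf (nat_lit 0x10002070608050403) (nat_lit 774))
))) (.node (nat_lit 0x10002070806050304) (.node (nat_lit 0x10002070806040503) (.leaf (nat_lit 0x10002070806030405) (nat_lit 1030))
 (.leaf (nat_lit 0x10002070806040503) (nat_lit 774))
) (.node (nat_lit 0x10002080607030405) (.leaf (nat_lit 0x10002070806050304) (nat_lit 1030))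
 (.node (nat_lit 0x10002080607040503) (.leaf (nat_lit 0x10002080607030405) (nat_lit 1286))
 (.leaf (nat_lit 0x10002080607040503) (nat_lit 1030))
)))) (.node (nat_lit 0x10200060708040305) (.node (nat_lit 0x10002080706040305) (.node (nat_lit 0x10002080706030504) (.leaf (nat_lit 0x10002080607050304) (nat_lit 1286))
 (.leaf (nat_lit 0x10002080706030504) (nat_lit 774))
) (.node (nat_lit 0x10002080706050403) (.leaf (nat_lit 0x10002080706040305) (nat_lit 774))
 (.node (nat_lit 0x10200060708030504) (.leaf (nat_lit 0x10002080706050403) (nat_lit 518))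
 (.leaf (nat_lit 0x10200060708030504) (nat_lit 1287))
))) (.node (nat_lit 0x10200060807030405) (.node (nat_lit 0x10200060708050403) (.leaf (nat_lit 0x10200060708040305) (nat_lit 1287))
 (.leaf (nat_lit 0x10200060708050403) (nat_lit 1031))
) (.node (nat_lit 0x10200060807040503) (.leaf (nat_lit 0x10200060807030405) (nat_lit 1032))
 (.node (nat_lit 0x10200060807050304) (.leaf (nat_lit 0x10200060807040503) (nat_lit 776))
 (.leaf (nat_lit 0x10200060807050304) (nat_lit 1032))
))))) (.node (nat_lit 0x10200080706040503) (.node (nat_lit 0x10200070806050403) (.node (nat_lit 0x10200070608050304) (.node (nat_lit 0x10200070608040503) (.leaf (nat_lit 0x10200070608030405) (nat_lit 1032))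
 (.leaf (nat_lit 0x10200070608040503) (nat_lit 776))
) (.node (nat_lit 0x10200070806030504) (.leaf (nat_lit 0x10200070608050304) (nat_lit 1032))
 (.node (nat_lit 0x10200070806040305) (.leaf (nat_lit 0x10200070806030504) (nat_lit 1031))
 (.leaf (nat_lit 0x10200070806040305) (nat_lit 1031))
))) (.node (nat_lit 0x10200080607040305) (.node (nat_lit 0x10200080607030504) (.leaf (nat_lit 0x10200070806050403) (nat_lit 775))
 (.leaf (nat_lit 0x10200080607030504) (nat_lit 1287))
) (.node (nat_lit 0x10200080607050403) (.leaf (nat_lit 0x10200080607040305) (nat_lit 1287))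
 (.node (nat_lit 0x10200080706030405) (.leaf (nat_lit 0x10200080607050403) (nat_lit 1031))
 (.leaf (nat_lit 0x10200080706030405) (nat_lit 776))
)))) (.node (nat_lit 0x20001060807030405) (.node (nat_lit 0x20001060708030504) (.node (nat_lit 0x10200080706050304) (.leaf (nat_lit 0x10200080706040503) (nat_lit 520))
 (.leaf (nat_lit 0x10200080706050304) (nat_lit 776))
) (.node (nat_lit 0x20001060708040305) (.leaf (nat_lit 0x20001060708030504) (nat_lit 1543))
 (.node (nat_lit 0x20001060708050403) (.leaf (nat_lit 0x20001060708040305) (nat_lit 1543))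
 (.leaf (nat_lit 0x20001060708050403) (nat_lit 1287))
))) (.node (nat_lit 0x20001070608030405) (.node (nat_lit 0x20001060807040503) (.leaf (nat_lit 0x20001060807030405) (nat_lit 1288))
 (.node (nat_lit 0x20001060807050304) (.leaf (nat_lit 0x20001060807040503) (nat_lit 1032))
 (.leaf (nat_lit 0x20001060807050304) (nat_lit 1288))
)) (.node (nat_lit 0x20001070608040503) (.leaf (nat_lit 0x20001070608030405) (nat_lit 1288))
 (.node (nat_lit 0x20001070608050304) (.leaf (nat_lit 0x20001070608040503) (nat_lit 1032))
 (.leaf (nat_lit 0x20001070608050304) (nat_lit 1288))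
))))))) (.node (nat_lit 0x30405020001070608) (.node (nat_lit 0x20100070806050304) (.node (nat_lit 0x20100060708040503) (.node (nat_lit 0x20001080607050403) (.node (nat_lit 0x20001070806050403) (.node (nat_lit 0x20001070806040305) (.leaf (nat_lit 0x20001070806030504) (nat_lit 1287))
 (.leaf (nat_lit 0x20001070806040305) (nat_lit 1287))
) (.node (nat_lit 0x20001080607030504) (.leaf (nat_lit 0x20001070806050403) (nat_lit 1031))
 (.node (nat_lit 0x20001080607040305) (.leaf (nat_lit 0x20001080607030504) (nat_lit 1543))
 (.leaf (nat_lit 0x20001080607040305) (nat_lit 1543))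
))) (.node (nat_lit 0x20001080706040503) (.node (nat_lit 0x20001080706030405) (.leaf (nat_lit 0x20001080607050403) (nat_lit 1287))
 (.leaf (nat_lit 0x20001080706030405) (nat_lit 1032))
) (.node (nat_lit 0x20001080706050304) (.leaf (nat_lit 0x20001080706040503) (nat_lit 776))
 (.node (nat_lit 0x20100060708030405) (.leaf (nat_lit 0x20001080706050304) (nat_lit 1032))
 (.leaf (nat_lit 0x20100060708030405) (nat_lit 1030))
)))) (.node (nat_lit 0x20100070608030504) (.node (nat_lit 0x20100060807030504) (.node (nat_lit 0x20100060708050304) (.leaf (nat_lit 0x20100060708040503) (nat_lit 774))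
 (.leaf (nat_lit 0x20100060708050304) (nat_lit 1030))
) (.node (nat_lit 0x20100060807040305) (.leaf (nat_lit 0x20100060807030504) (nat_lit 774))
 (.node (nat_lit 0x20100060807050403) (.leaf (nat_lit 0x20100060807040305) (nat_lit 774))
 (.leaf (nat_lit 0x20100060807050403) (nat_lit 518))
))) (.node (nat_lit 0x20100070608050403) (.node (nat_lit 0x20100070608040305) (.leaf (nat_lit 0x20100070608030504) (nat_lit 774))
 (.leaf (nat_lit 0x20100070608040305) (nat_lit 774))
) (.node (nat_lit 0x20100070806030405) (.leaf (nat_lit 0x20100070608050403) (nat_lit 518))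
 (.node (nat_lit 0x20100070806040503) (.leaf (nat_lit 0x20100070806030405) (nat_lit 774))
 (.leaf (nat_lit 0x20100070806040503) (nat_lit 518))
))))) (.node (nat_lit 0x30405000201060708) (.node (nat_lit 0x20100080706040305) (.node (nat_lit 0x20100080607040503) (.node (nat_lit 0x20100080607030405) (.leaf (nat_lit 0x20100070806050304) (nat_lit 774))
 (.leaf (nat_lit 0x20100080607030405) (nat_lit 1030))
) (.node (nat_lit 0x20100080607050304) (.leaf (nat_lit 0x20100080607040503) (nat_lit 774))
 (.node (nat_lit 0x20100080706030504) (.leaf (nat_lit 0x20100080607050304) (nat_lit 1030))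
 (.leaf (nat_lit 0x20100080706030504) (nat_lit 518))
))) (.node (nat_lit 0x30405000102060807) (.node (nat_lit 0x20100080706050403) (.leaf (nat_lit 0x20100080706040305) (nat_lit 518))
 (.leaf (nat_lit 0x20100080706050403) (nat_lit 262))
) (.node (nat_lit 0x30405000102070608) (.leaf (nat_lit 0x30405000102060807) (nat_lit 1288))
 (.node (nat_lit 0x30405000102080706) (.leaf (nat_lit 0x30405000102070608) (nat_lit 1288))
 (.leaf (nat_lit 0x30405000102080706) (nat_lit 1032))
)))) (.node (nat_lit 0x30405010002080607) (.node (nat_lit 0x30405000201080607) (.node (nat_lit 0x30405000201070806) (.leaf (nat_lit 0x30405000201060708) (nat_lit 1542))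
 (.leaf (nat_lit 0x30405000201070806) (nat_lit 1286))
) (.node (nat_lit 0x30405010002060708) (.leaf (nat_lit 0x30405000201080607) (nat_lit 1542))
 (.node (nat_lit 0x30405010002070806) (.leaf (nat_lit 0x30405010002060708) (nat_lit 1542))
 (.leaf (nat_lit 0x30405010002070806) (nat_lit 1286))
))) (.node (nat_lit 0x30405010200070608) (.node (nat_lit 0x30405010200060807) (.leaf (nat_lit 0x30405010002080607) (nat_lit 1542))
 (.leaf (nat_lit 0x30405010200060807) (nat_lit 1032))
) (.node (nat_lit 0x30405010200080706) (.leaf (nat_lit 0x30405010200070608) (nat_lit 1032))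
 (.node (nat_lit 0x30405020001060807) (.leaf (nat_lit 0x30405010200080706) (nat_lit 776))
 (.leaf (nat_lit 0x30405020001060807) (nat_lit 1288))
)))))) (.node (nat_lit 0x30504020100060807) (.node (nat_lit 0x30504000201080706) (.node (nat_lit 0x30504000102060708) (.node (nat_lit 0x30405020100060708) (.node (nat_lit 0x30405020001080706) (.leaf (nat_lit 0x30405020001070608) (nat_lit 1288))
 (.leaf (nat_lit 0x30405020001080706) (nat_lit 1032))
) (.node (nat_lit 0x30405020100070806) (.leaf (nat_lit 0x30405020100060708) (nat_lit 1286))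
 (.node (nat_lit 0x30405020100080607) (.leaf (nat_lit 0x30405020100070806) (nat_lit 1030))
 (.leaf (nat_lit 0x30405020100080607) (nat_lit 1286))
))) (.node (nat_lit 0x30504000102080607) (.node (nat_lit 0x30504000102070806) (.leaf (nat_lit 0x30504000102060708) (nat_lit 1287))
 (.leaf (nat_lit 0x30504000102070806) (nat_lit 1031))
) (.node (nat_lit 0x30504000201060807) (.leaf (nat_lit 0x30504000102080607) (nat_lit 1287))
 (.node (nat_lit 0x30504000201070608) (.leaf (nat_lit 0x30504000201060807) (nat_lit 1031))
 (.leaf (nat_lit 0x30504000201070608) (nat_lit 1031))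
)))) (.node (nat_lit 0x30504010200070806) (.node (nat_lit 0x30504010002070608) (.node (nat_lit 0x30504010002060807) (.leaf (nat_lit 0x30504000201080706) (nat_lit 775))
 (.leaf (nat_lit 0x30504010002060807) (nat_lit 1031))
) (.node (nat_lit 0x30504010002080706) (.leaf (nat_lit 0x30504010002070608) (nat_lit 1031))
 (.node (nat_lit 0x30504010200060708) (.leaf (nat_lit 0x30504010002080706) (nat_lit 775))
 (.leaf (nat_lit 0x30504010200060708) (nat_lit 1031))
))) (.node (nat_lit 0x30504020001060708) (.node (nat_lit 0x30504010200080607) (.leaf (nat_lit 0x30504010200070806) (nat_lit 775))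
 (.leaf (nat_lit 0x30504010200080607) (nat_lit 1031))
) (.node (nat_lit 0x30504020001070806) (.leaf (nat_lit 0x30504020001060708) (nat_lit 1287))
 (.node (nat_lit 0x30504020001080607) (.leaf (nat_lit 0x30504020001070806) (nat_lit 1031))
 (.leaf (nat_lit 0x30504020001080607) (nat_lit 1287))
))))) (.node (nat_lit 0x40305010002070608) (.node (nat_lit 0x40305000102080607) (.node (nat_lit 0x30504020100080706) (.node (nat_lit 0x30504020100070608) (.leaf (nat_lit 0x30504020100060807) (nat_lit 775))
 (.leaf (nat_lit 0x30504020100070608) (nat_lit 775))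
) (.node (nat_lit 0x40305000102060708) (.leaf (nat_lit 0x30504020100080706) (nat_lit 519))
 (.node (nat_lit 0x40305000102070806) (.leaf (nat_lit 0x40305000102060708) (nat_lit 1287))
 (.leaf (nat_lit 0x40305000102070806) (nat_lit 1031))
))) (.node (nat_lit 0x40305000201070608) (.node (nat_lit 0x40305000201060807) (.leaf (nat_lit 0x40305000102080607) (nat_lit 1287))
 (.leaf (nat_lit 0x40305000201060807) (nat_lit 1031))
) (.node (nat_lit 0x40305000201080706) (.leaf (nat_lit 0x40305000201070608) (nat_lit 1031))
 (.node (nat_lit 0x40305010002060807) (.leaf (nat_lit 0x40305000201080706) (nat_lit 775))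
 (.leaf (nat_lit 0x40305010002060807) (nat_lit 1031))
)))) (.node (nat_lit 0x40305020001060708) (.node (nat_lit 0x40305010200060708) (.node (nat_lit 0x40305010002080706) (.leaf (nat_lit 0x40305010002070608) (nat_lit 1031))
 (.leaf (nat_lit 0x40305010002080706) (nat_lit 775))
) (.node (nat_lit 0x40305010200070806) (.leaf (nat_lit 0x40305010200060708) (nat_lit 1031))
 (.node (nat_lit 0x40305010200080607) (.leaf (nat_lit 0x40305010200070806) (nat_lit 775))
 (.leaf (nat_lit 0x40305010200080607) (nat_lit 1031))
))) (.node (nat_lit 0x40305020100060807) (.node (nat_lit 0x40305020001070806) (.leaf (nat_lit 0x40305020001060708) (nat_lit 1287))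
 (.node (nat_lit 0x40305020001080607) (.leaf (nat_lit 0x40305020001070806) (nat_lit 1031))
 (.leaf (nat_lit 0x40305020001080607) (nat_lit 1287))
)) (.node (nat_lit 0x40305020100070608) (.leaf (nat_lit 0x40305020100060807) (nat_lit 775))
 (.node (nat_lit 0x40305020100080706) (.leaf (nat_lit 0x40305020100070608) (nat_lit 775))
 (.leaf (nat_lit 0x40305020100080706) (nat_lit 519))
)))))))) (.node (nat_lit 0x60807040503000102) (.node (nat_lit 0x50403000201070608) (.node (nat_lit 0x50304000102080706) (.node (nat_lit 0x40503010200070608) (.node (nat_lit 0x40503000201080607) (.node (nat_lit 0x40503000102080706) (.node (nat_lit 0x40503000102070608) (.leaf (nat_lit 0x40503000102060807) (nat_lit 1032))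
 (.leaf (nat_lit 0x40503000102070608) (nat_lit 1032))
) (.node (nat_lit 0x40503000201060708) (.leaf (nat_lit 0x40503000102080706) (nat_lit 776))
 (.node (nat_lit 0x40503000201070806) (.leaf (nat_lit 0x40503000201060708) (nat_lit 1286))
 (.leaf (nat_lit 0x40503000201070806) (nat_lit 1030))
))) (.node (nat_lit 0x40503010002070806) (.node (nat_lit 0x40503010002060708) (.leaf (nat_lit 0x40503000201080607) (nat_lit 1286))
 (.leaf (nat_lit 0x40503010002060708) (nat_lit 1286))
) (.node (nat_lit 0x40503010002080607) (.leaf (nat_lit 0x40503010002070806) (nat_lit 1030))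
 (.node (nat_lit 0x40503010200060807) (.leaf (nat_lit 0x40503010002080607) (nat_lit 1286))
 (.leaf (nat_lit 0x40503010200060807) (nat_lit 776))
)))) (.node (nat_lit 0x40503020100060708) (.node (nat_lit 0x40503020001060807) (.node (nat_lit 0x40503010200080706) (.leaf (nat_lit 0x40503010200070608) (nat_lit 776))
 (.leaf (nat_lit 0x40503010200080706) (nat_lit 520))
) (.node (nat_lit 0x40503020001070608) (.leaf (nat_lit 0x40503020001060807) (nat_lit 1032))
 (.node (nat_lit 0x40503020001080706) (.leaf (nat_lit 0x40503020001070608) (nat_lit 1032))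
 (.leaf (nat_lit 0x40503020001080706) (nat_lit 776))
))) (.node (nat_lit 0x40503020100080607) (.node (nat_lit 0x40503020100070806) (.leaf (nat_lit 0x40503020100060708) (nat_lit 1030))
 (.leaf (nat_lit 0x40503020100070806) (nat_lit 774))
) (.node (nat_lit 0x50304000102060807) (.leaf (nat_lit 0x40503020100080607) (nat_lit 1030))
 (.node (nat_lit 0x50304000102070608) (.leaf (nat_lit 0x50304000102060807) (nat_lit 1288))
 (.leaf (nat_lit 0x50304000102070608) (nat_lit 1288))
))))) (.node (nat_lit 0x50304020001060807) (.node (nat_lit 0x50304010002070806) (.node (nat_lit 0x50304000201070806) (.node (nat_lit 0x50304000201060708) (.leaf (nat_lit 0x50304000102080706) (nat_lit 1032))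
 (.leaf (nat_lit 0x50304000201060708) (nat_lit 1542))
) (.node (nat_lit 0x50304000201080607) (.leaf (nat_lit 0x50304000201070806) (nat_lit 1286))
 (.node (nat_lit 0x50304010002060708) (.leaf (nat_lit 0x50304000201080607) (nat_lit 1542))
 (.leaf (nat_lit 0x50304010002060708) (nat_lit 1542))
))) (.node (nat_lit 0x50304010200060807) (.node (nat_lit 0x50304010002080607) (.leaf (nat_lit 0x50304010002070806) (nat_lit 1286))
 (.leaf (nat_lit 0x50304010002080607) (nat_lit 1542))
) (.node (nat_lit 0x50304010200070608) (.leaf (nat_lit 0x50304010200060807) (nat_lit 1032))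
 (.node (nat_lit 0x50304010200080706) (.leaf (nat_lit 0x50304010200070608) (nat_lit 1032))
 (.leaf (nat_lit 0x50304010200080706) (nat_lit 776))
)))) (.node (nat_lit 0x50304020100080607) (.node (nat_lit 0x50304020001080706) (.node (nat_lit 0x50304020001070608) (.leaf (nat_lit 0x50304020001060807) (nat_lit 1288))
 (.leaf (nat_lit 0x50304020001070608) (nat_lit 1288))
) (.node (nat_lit 0x50304020100060708) (.leaf (nat_lit 0x50304020001080706) (nat_lit 1032))
 (.node (nat_lit 0x50304020100070806) (.leaf (nat_lit 0x50304020100060708) (nat_lit 1286))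
 (.leaf (nat_lit 0x50304020100070806) (nat_lit 1030))
))) (.node (nat_lit 0x50403000102070806) (.node (nat_lit 0x50403000102060708) (.leaf (nat_lit 0x50304020100080607) (nat_lit 1286))
 (.leaf (nat_lit 0x50403000102060708) (nat_lit 1031))
) (.node (nat_lit 0x50403000102080607) (.leaf (nat_lit 0x50403000102070806) (nat_lit 775))
 (.node (nat_lit 0x50403000201060807) (.leaf (nat_lit 0x50403000102080607) (nat_lit 1031))
 (.leaf (nat_lit 0x50403000201060807) (nat_lit 775))
)))))) (.node (nat_lit 0x60708040305000102) (.node (nat_lit 0x50403020001080607) (.node (nat_lit 0x50403010200060708) (.node (nat_lit 0x50403010002060807) (.node (nat_lit 0x50403000201080706) (.leaf (nat_lit 0x50403000201070608) (nat_lit 775))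
 (.leaf (nat_lit 0x50403000201080706) (nat_lit 519))
) (.node (nat_lit 0x50403010002070608) (.leaf (nat_lit 0x50403010002060807) (nat_lit 775))
 (.node (nat_lit 0x50403010002080706) (.leaf (nat_lit 0x50403010002070608) (nat_lit 775))
 (.leaf (nat_lit 0x50403010002080706) (nat_lit 519))
))) (.node (nat_lit 0x50403010200080607) (.node (nat_lit 0x50403010200070806) (.leaf (nat_lit 0x50403010200060708) (nat_lit 775))
 (.leaf (nat_lit 0x50403010200070806) (nat_lit 519))
) (.node (nat_lit 0x50403020001060708) (.leaf (nat_lit 0x50403010200080607) (nat_lit 775))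
 (.node (nat_lit 0x50403020001070806) (.leaf (nat_lit 0x50403020001060708) (nat_lit 1031))
 (.leaf (nat_lit 0x50403020001070806) (nat_lit 775))
)))) (.node (nat_lit 0x60708030405010002) (.node (nat_lit 0x50403020100070608) (.node (nat_lit 0x50403020100060807) (.leaf (nat_lit 0x50403020001080607) (nat_lit 1031))
 (.leaf (nat_lit 0x50403020100060807) (nat_lit 519))
) (.node (nat_lit 0x50403020100080706) (.leaf (nat_lit 0x50403020100070608) (nat_lit 519))
 (.node (nat_lit 0x60708030405000201) (.leaf (nat_lit 0x50403020100080706) (nat_lit 263))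
 (.leaf (nat_lit 0x60708030405000201) (nat_lit 1542))
))) (.node (nat_lit 0x60708030504000102) (.node (nat_lit 0x60708030405020100) (.leaf (nat_lit 0x60708030405010002) (nat_lit 1542))
 (.leaf (nat_lit 0x60708030405020100) (nat_lit 1286))
) (.node (nat_lit 0x60708030504010200) (.leaf (nat_lit 0x60708030504000102) (nat_lit 1543))
 (.node (nat_lit 0x60708030504020001) (.leaf (nat_lit 0x60708030504010200) (nat_lit 1287))
 (.leaf (nat_lit 0x60708030504020001) (nat_lit 1543))
))))) (.node (nat_lit 0x60708050403010200) (.node (nat_lit 0x60708040503020100) (.node (nat_lit 0x60708040305020001) (.node (nat_lit 0x60708040305010200) (.leaf (nat_lit 0x60708040305000102) (nat_lit 1543))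
 (.leaf (nat_lit 0x60708040305010200) (nat_lit 1287))
) (.node (nat_lit 0x60708040503000201) (.leaf (nat_lit 0x60708040305020001) (nat_lit 1543))
 (.node (nat_lit 0x60708040503010002) (.leaf (nat_lit 0x60708040503000201) (nat_lit 1286))
 (.leaf (nat_lit 0x60708040503010002) (nat_lit 1286))
))) (.node (nat_lit 0x60708050304010002) (.node (nat_lit 0x60708050304000201) (.leaf (nat_lit 0x60708040503020100) (nat_lit 1030))
 (.leaf (nat_lit 0x60708050304000201) (nat_lit 1542))
) (.node (nat_lit 0x60708050304020100) (.leaf (nat_lit 0x60708050304010002) (nat_lit 1542))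
 (.node (nat_lit 0x60708050403000102) (.leaf (nat_lit 0x60708050304020100) (nat_lit 1286))
 (.leaf (nat_lit 0x60708050403000102) (nat_lit 1287))
)))) (.node (nat_lit 0x60807030504000201) (.node (nat_lit 0x60807030405000102) (.node (nat_lit 0x60708050403020001) (.leaf (nat_lit 0x60708050403010200) (nat_lit 1031))
 (.leaf (nat_lit 0x60708050403020001) (nat_lit 1287))
) (.node (nat_lit 0x60807030405010200) (.leaf (nat_lit 0x60807030405000102) (nat_lit 1032))
 (.node (nat_lit 0x60807030405020001) (.leaf (nat_lit 0x60807030405010200) (nat_lit 776))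
 (.leaf (nat_lit 0x60807030405020001) (nat_lit 1032))
))) (.node (nat_lit 0x60807040305000201) (.node (nat_lit 0x60807030504010002) (.leaf (nat_lit 0x60807030504000201) (nat_lit 772))
 (.node (nat_lit 0x60807030504020100) (.leaf (nat_lit 0x60807030504010002) (nat_lit 772))
 (.leaf (nat_lit 0x60807030504020100) (nat_lit 516))
)) (.node (nat_lit 0x60807040305010002) (.leaf (nat_lit 0x60807040305000201) (nat_lit 772))
 (.node (nat_lit 0x60807040305020100) (.leaf (nat_lit 0x60807040305010002) (nat_lit 772))
 (.leaf (nat_lit 0x60807040305020100) (nat_lit 516))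
))))))) (.node (nat_lit 0x70806050304010002) (.node (nat_lit 0x70608040503020001) (.node (nat_lit 0x70608030405010200) (.node (nat_lit 0x60807050304020001) (.node (nat_lit 0x60807040503020001) (.node (nat_lit 0x60807040503010200) (.leaf (nat_lit 0x60807040503000102) (nat_lit 776))
 (.leaf (nat_lit 0x60807040503010200) (nat_lit 520))
) (.node (nat_lit 0x60807050304000102) (.leaf (nat_lit 0x60807040503020001) (nat_lit 776))
 (.node (nat_lit 0x60807050304010200) (.leaf (nat_lit 0x60807050304000102) (nat_lit 1032))
 (.leaf (nat_lit 0x60807050304010200) (nat_lit 776))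
))) (.node (nat_lit 0x60807050403010002) (.node (nat_lit 0x60807050403000201) (.leaf (nat_lit 0x60807050304020001) (nat_lit 1032))
 (.leaf (nat_lit 0x60807050403000201) (nat_lit 516))
) (.node (nat_lit 0x60807050403020100) (.leaf (nat_lit 0x60807050403010002) (nat_lit 516))
 (.node (nat_lit 0x70608030405000102) (.leaf (nat_lit 0x60807050403020100) (nat_lit 260))
 (.leaf (nat_lit 0x70608030405000102) (nat_lit 1032))
)))) (.node (nat_lit 0x70608040305000201) (.node (nat_lit 0x70608030504000201) (.node (nat_lit 0x70608030405020001) (.leaf (nat_lit 0x70608030405010200) (nat_lit 776))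
 (.leaf (nat_lit 0x70608030405020001) (nat_lit 1032))
) (.node (nat_lit 0x70608030504010002) (.leaf (nat_lit 0x70608030504000201) (nat_lit 773))
 (.node (nat_lit 0x70608030504020100) (.leaf (nat_lit 0x70608030504010002) (nat_lit 773))
 (.leaf (nat_lit 0x70608030504020100) (nat_lit 517))
))) (.node (nat_lit 0x70608040305020100) (.node (nat_lit 0x70608040305010002) (.leaf (nat_lit 0x70608040305000201) (nat_lit 773))
 (.leaf (nat_lit 0x70608040305010002) (nat_lit 773))
) (.node (nat_lit 0x70608040503000102) (.leaf (nat_lit 0x70608040305020100) (nat_lit 517))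
 (.node (nat_lit 0x70608040503010200) (.leaf (nat_lit 0x70608040503000102) (nat_lit 776))
 (.leaf (nat_lit 0x70608040503010200) (nat_lit 520))
))))) (.node (nat_lit 0x70806030504000102) (.node (nat_lit 0x70608050403010002) (.node (nat_lit 0x70608050304010200) (.node (nat_lit 0x70608050304000102) (.leaf (nat_lit 0x70608040503020001) (nat_lit 776))
 (.leaf (nat_lit 0x70608050304000102) (nat_lit 1032))
) (.node (nat_lit 0x70608050304020001) (.leaf (nat_lit 0x70608050304010200) (nat_lit 776))
 (.node (nat_lit 0x70608050403000201) (.leaf (nat_lit 0x70608050304020001) (nat_lit 1032))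
 (.leaf (nat_lit 0x70608050403000201) (nat_lit 517))
))) (.node (nat_lit 0x70806030405000201) (.node (nat_lit 0x70608050403020100) (.leaf (nat_lit 0x70608050403010002) (nat_lit 517))
 (.leaf (nat_lit 0x70608050403020100) (nat_lit 261))
) (.node (nat_lit 0x70806030405010002) (.leaf (nat_lit 0x70806030405000201) (nat_lit 1286))
 (.node (nat_lit 0x70806030405020100) (.leaf (nat_lit 0x70806030405010002) (nat_lit 1286))
 (.leaf (nat_lit 0x70806030405020100) (nat_lit 1030))
)))) (.node (nat_lit 0x70806040305020001) (.node (nat_lit 0x70806030504020001) (.node (nat_lit 0x70806030504010200) (.leaf (nat_lit 0x70806030504000102) (nat_lit 1287))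
 (.leaf (nat_lit 0x70806030504010200) (nat_lit 1031))
) (.node (nat_lit 0x70806040305000102) (.leaf (nat_lit 0x70806030504020001) (nat_lit 1287))
 (.node (nat_lit 0x70806040305010200) (.leaf (nat_lit 0x70806040305000102) (nat_lit 1287))
 (.leaf (nat_lit 0x70806040305010200) (nat_lit 1031))
))) (.node (nat_lit 0x70806040503010002) (.node (nat_lit 0x70806040503000201) (.leaf (nat_lit 0x70806040305020001) (nat_lit 1287))
 (.leaf (nat_lit 0x70806040503000201) (nat_lit 1030))
) (.node (nat_lit 0x70806040503020100) (.leaf (nat_lit 0x70806040503010002) (nat_lit 1030))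
 (.node (nat_lit 0x70806050304000201) (.leaf (nat_lit 0x70806040503020100) (nat_lit 774))
 (.leaf (nat_lit 0x70806050304000201) (nat_lit 1286))
)))))) (.node (nat_lit 0x80607050403000102) (.node (nat_lit 0x80607030504020001) (.node (nat_lit 0x80607030405000201) (.node (nat_lit 0x70806050403000102) (.node (nat_lit 0x70806050304020100) (.leaf (nat_lit 0x70806050304010002) (nat_lit 1286))
 (.leaf (nat_lit 0x70806050304020100) (nat_lit 1030))
) (.node (nat_lit 0x70806050403010200) (.leaf (nat_lit 0x70806050403000102) (nat_lit 1031))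
 (.node (nat_lit 0x70806050403020001) (.leaf (nat_lit 0x70806050403010200) (nat_lit 775))
 (.leaf (nat_lit 0x70806050403020001) (nat_lit 1031))
))) (.node (nat_lit 0x80607030405020100) (.node (nat_lit 0x80607030405010002) (.leaf (nat_lit 0x80607030405000201) (nat_lit 1542))
 (.leaf (nat_lit 0x80607030405010002) (nat_lit 1542))
) (.node (nat_lit 0x80607030504000102) (.leaf (nat_lit 0x80607030405020100) (nat_lit 1286))
 (.node (nat_lit 0x80607030504010200) (.leaf (nat_lit 0x80607030504000102) (nat_lit 1543))
 (.leaf (nat_lit 0x80607030504010200) (nat_lit 1287))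
)))) (.node (nat_lit 0x80607040503010002) (.node (nat_lit 0x80607040305010200) (.node (nat_lit 0x80607040305000102) (.leaf (nat_lit 0x80607030504020001) (nat_lit 1543))
 (.leaf (nat_lit 0x80607040305000102) (nat_lit 1543))
) (.node (nat_lit 0x80607040305020001) (.leaf (nat_lit 0x80607040305010200) (nat_lit 1287))
 (.node (nat_lit 0x80607040503000201) (.leaf (nat_lit 0x80607040305020001) (nat_lit 1543))
 (.leaf (nat_lit 0x80607040503000201) (nat_lit 1286))
))) (.node (nat_lit 0x80607050304000201) (.node (nat_lit 0x80607040503020100) (.leaf (nat_lit 0x80607040503010002) (nat_lit 1286))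
 (.leaf (nat_lit 0x80607040503020100) (nat_lit 1030))
) (.node (nat_lit 0x80607050304010002) (.leaf (nat_lit 0x80607050304000201) (nat_lit 1542))
 (.node (nat_lit 0x80607050304020100) (.leaf (nat_lit 0x80607050304010002) (nat_lit 1542))
 (.leaf (nat_lit 0x80607050304020100) (nat_lit 1286))
))))) (.node (nat_lit 0x80706040305010002) (.node (nat_lit 0x80706030405020001) (.node (nat_lit 0x80607050403020001) (.node (nat_lit 0x80607050403010200) (.leaf (nat_lit 0x80607050403000102) (nat_lit 1287))
 (.leaf (nat_lit 0x80607050403010200) (nat_lit 1031))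
) (.node (nat_lit 0x80706030405000102) (.leaf (nat_lit 0x80607050403020001) (nat_lit 1287))
 (.node (nat_lit 0x80706030405010200) (.leaf (nat_lit 0x80706030405000102) (nat_lit 776))
 (.leaf (nat_lit 0x80706030405010200) (nat_lit 520))
))) (.node (nat_lit 0x80706030504010002) (.node (nat_lit 0x80706030504000201) (.leaf (nat_lit 0x80706030405020001) (nat_lit 776))
 (.leaf (nat_lit 0x80706030504000201) (nat_lit 514))
) (.node (nat_lit 0x80706030504020100) (.leaf (nat_lit 0x80706030504010002) (nat_lit 514))
 (.node (nat_lit 0x80706040305000201) (.leaf (nat_lit 0x80706030504020100) (nat_lit 258))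
 (.leaf (nat_lit 0x80706040305000201) (nat_lit 515))
)))) (.node (nat_lit 0x80706050304000102) (.node (nat_lit 0x80706040503000102) (.node (nat_lit 0x80706040305020100) (.leaf (nat_lit 0x80706040305010002) (nat_lit 515))
 (.leaf (nat_lit 0x80706040305020100) (nat_lit 259))
) (.node (nat_lit 0x80706040503010200) (.leaf (nat_lit 0x80706040503000102) (nat_lit 520))
 (.node (nat_lit 0x80706040503020001) (.leaf (nat_lit 0x80706040503010200) (nat_lit 264))
 (.leaf (nat_lit 0x80706040503020001) (nat_lit 520))
))) (.node (nat_lit 0x80706050403000201) (.node (nat_lit 0x80706050304010200) (.leaf (nat_lit 0x80706050304000102) (nat_lit 776))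
 (.node (nat_lit 0x80706050304020001) (.leaf (nat_lit 0x80706050304010200) (nat_lit 520))
 (.leaf (nat_lit 0x80706050304020001) (nat_lit 776))
)) (.node (nat_lit 0x80706050403010002) (.leaf (nat_lit 0x80706050403000201) (nat_lit 256))
 (.node (nat_lit 0x80706050403020100) (.leaf (nat_lit 0x80706050403010002) (nat_lit 257))
 (.leaf (nat_lit 0x80706050403020100) (nat_lit 0))
)))))))))

theorem a4g_ok : genOK A9 [(nat_lit 0x80706050403000201), (nat_lit 0x80706050403010002), (nat_lit 0x80706030504020100), (nat_lit 0x80706040305020100), (nat_lit 0x60807050403020100), (nat_lit 0x70608050403020100), (nat_lit 0x20100080706050403), (nat_lit 0x50403020100080706), (nat_lit 0x80706040503010200)] a4g_t (nat_lit 324) = true := by decide +kernel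

noncomputable def a4M_t : ST :=
(.node (nat_lit 0x40503000102060807) (.node (nat_lit 0x20001070806030504) (.node (nat_lit 0x10002060807040305) (.node (nat_lit 0x201060708050304) (.node (nat_lit 0x102070806040305) (.node (nat_lit 0x102060807050304) (.node (nat_lit 0x102060708050403) (.node (nat_lit 0x102060708040305) (.leaf (nat_lit 0x102060708030504) (nat_lit 1540))
 (.leaf (nat_lit 0x102060708040305) (nat_lit 1540))
) (.node (nat_lit 0x102060807030405) (.leaf (nat_lit 0x102060708050403) (nat_lit 1284))
 (.node (nat_lit 0x102060807040503) (.leaf (nat_lit 0x102060807030405) (nat_lit 1284))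
 (.leaf (nat_lit 0x102060807040503) (nat_lit 1028))
))) (.node (nat_lit 0x102070608040503) (.node (nat_lit 0x102070608030405) (.leaf (nat_lit 0x102060807050304) (nat_lit 1281))
 (.leaf (nat_lit 0x102070608030405) (nat_lit 1540))
) (.node (nat_lit 0x102070608050304) (.leaf (nat_lit 0x102070608040503) (nat_lit 1284))
 (.node (nat_lit 0x102070806030504) (.leaf (nat_lit 0x102070608050304) (nat_lit 1537))
 (.leaf (nat_lit 0x102070806030504) (nat_lit 1284))
)))) (.node (nat_lit 0x102080706030405) (.node (nat_lit 0x102080607030504) (.node (nat_lit 0x102070806050403) (.leaf (nat_lit 0x102070806040305) (nat_lit 1284))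
 (.leaf (nat_lit 0x102070806050403) (nat_lit 1028))
) (.node (nat_lit 0x102080607040305) (.leaf (nat_lit 0x102080607030504) (nat_lit 1540))
 (.node (nat_lit 0x102080607050403) (.leaf (nat_lit 0x102080607040305) (nat_lit 1540))
 (.leaf (nat_lit 0x102080607050403) (nat_lit 1284))
))) (.node (nat_lit 0x102080706050304) (.node (nat_lit 0x102080706040503) (.leaf (nat_lit 0x102080706030405) (nat_lit 1028))
 (.leaf (nat_lit 0x102080706040503) (nat_lit 772))
) (.node (nat_lit 0x201060708030405) (.leaf (nat_lit 0x102080706050304) (nat_lit 1025))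
 (.node (nat_lit 0x201060708040503) (.leaf (nat_lit 0x201060708030405) (nat_lit 1283))
 (.leaf (nat_lit 0x201060708040503) (nat_lit 1027))
))))) (.node (nat_lit 0x201080607030405) (.node (nat_lit 0x201070608040305) (.node (nat_lit 0x201060807040305) (.node (nat_lit 0x201060807030504) (.leaf (nat_lit 0x201060708050304) (nat_lit 1283))
 (.leaf (nat_lit 0x201060807030504) (nat_lit 1027))
) (.node (nat_lit 0x201060807050403) (.leaf (nat_lit 0x201060807040305) (nat_lit 1283))
 (.node (nat_lit 0x201070608030504) (.leaf (nat_lit 0x201060807050403) (nat_lit 771))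
 (.leaf (nat_lit 0x201070608030504) (nat_lit 1283))
))) (.node (nat_lit 0x201070806030405) (.node (nat_lit 0x201070608050403) (.leaf (nat_lit 0x201070608040305) (nat_lit 1539))
 (.leaf (nat_lit 0x201070608050403) (nat_lit 1027))
) (.node (nat_lit 0x201070806040503) (.leaf (nat_lit 0x201070806030405) (nat_lit 1027))
 (.node (nat_lit 0x201070806050304) (.leaf (nat_lit 0x201070806040503) (nat_lit 771))
 (.leaf (nat_lit 0x201070806050304) (nat_lit 1027))
)))) (.node (nat_lit 0x201080706050403) (.node (nat_lit 0x201080607050304) (.node (nat_lit 0x201080607040503) (.leaf (nat_lit 0x201080607030405) (nat_lit 1283))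
 (.leaf (nat_lit 0x201080607040503) (nat_lit 1027))
) (.node (nat_lit 0x201080706030504) (.leaf (nat_lit 0x201080607050304) (nat_lit 1283))
 (.node (nat_lit 0x201080706040305) (.leaf (nat_lit 0x201080706030504) (nat_lit 771))
 (.leaf (nat_lit 0x201080706040305) (nat_lit 1027))
))) (.node (nat_lit 0x10002060708040503) (.node (nat_lit 0x10002060708030405) (.leaf (nat_lit 0x201080706050403) (nat_lit 515))
 (.leaf (nat_lit 0x10002060708030405) (nat_lit 1539))
) (.node (nat_lit 0x10002060708050304) (.leaf (nat_lit 0x10002060708040503) (nat_lit 1283))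
 (.node (nat_lit 0x10002060807030504) (.leaf (nat_lit 0x10002060708050304) (nat_lit 1539))
 (.leaf (nat_lit 0x10002060807030504) (nat_lit 1283))
)))))) (.node (nat_lit 0x10200070608030405) (.node (nat_lit 0x10002080607050304) (.node (nat_lit 0x10002070806030405) (.node (nat_lit 0x10002070608030504) (.node (nat_lit 0x10002060807050403) (.leaf (nat_lit 0x10002060807040305) (nat_lit 1539))
 (.leaf (nat_lit 0x10002060807050403) (nat_lit 1027))
) (.node (nat_lit 0x10002070608040305) (.leaf (nat_lit 0x10002070608030504) (nat_lit 1539))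
 (.node (nat_lit 0x10002070608050403) (.leaf (nat_lit 0x10002070608040305) (nat_lit 1795))
 (.leaf (nat_lit 0x10002070608050403) (nat_lit 1283))
))) (.node (nat_lit 0x10002070806050304) (.node (nat_lit 0x10002070806040503) (.leaf (nat_lit 0x10002070806030405) (nat_lit 1283))
 (.leaf (nat_lit 0x10002070806040503) (nat_lit 1027))
) (.node (nat_lit 0x10002080607030405) (.leaf (nat_lit 0x10002070806050304) (nat_lit 1283))
 (.node (nat_lit 0x10002080607040503) (.leaf (nat_lit 0x10002080607030405) (nat_lit 1539))
 (.leaf (nat_lit 0x10002080607040503) (nat_lit 1283))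
)))) (.node (nat_lit 0x10200060708040305) (.node (nat_lit 0x10002080706040305) (.node (nat_lit 0x10002080706030504) (.leaf (nat_lit 0x10002080607050304) (nat_lit 1539))
 (.leaf (nat_lit 0x10002080706030504) (nat_lit 1027))
) (.node (nat_lit 0x10002080706050403) (.leaf (nat_lit 0x10002080706040305) (nat_lit 1283))
 (.node (nat_lit 0x10200060708030504) (.leaf (nat_lit 0x10002080706050403) (nat_lit 771))
 (.leaf (nat_lit 0x10200060708030504) (nat_lit 1284))
))) (.node (nat_lit 0x10200060807030405) (.node (nat_lit 0x10200060708050403) (.leaf (nat_lit 0x10200060708040305) (nat_lit 1284))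
 (.leaf (nat_lit 0x10200060708050403) (nat_lit 1028))
) (.node (nat_lit 0x10200060807040503) (.leaf (nat_lit 0x10200060807030405) (nat_lit 1028))
 (.node (nat_lit 0x10200060807050304) (.leaf (nat_lit 0x10200060807040503) (nat_lit 772))
 (.leaf (nat_lit 0x10200060807050304) (nat_lit 1025))
))))) (.node (nat_lit 0x10200080706040503) (.node (nat_lit 0x10200070806050403) (.node (nat_lit 0x10200070608050304) (.node (nat_lit 0x10200070608040503) (.leaf (nat_lit 0x10200070608030405) (nat_lit 1284))
 (.leaf (nat_lit 0x10200070608040503) (nat_lit 1028))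
) (.node (nat_lit 0x10200070806030504) (.leaf (nat_lit 0x10200070608050304) (nat_lit 1281))
 (.node (nat_lit 0x10200070806040305) (.leaf (nat_lit 0x10200070806030504) (nat_lit 1028))
 (.leaf (nat_lit 0x10200070806040305) (nat_lit 1028))
))) (.node (nat_lit 0x10200080607040305) (.node (nat_lit 0x10200080607030504) (.leaf (nat_lit 0x10200070806050403) (nat_lit 772))
 (.leaf (nat_lit 0x10200080607030504) (nat_lit 1284))
) (.node (nat_lit 0x10200080607050403) (.leaf (nat_lit 0x10200080607040305) (nat_lit 1284))
 (.node (nat_lit 0x10200080706030405) (.leaf (nat_lit 0x10200080607050403) (nat_lit 1028))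
 (.leaf (nat_lit 0x10200080706030405) (nat_lit 772))
)))) (.node (nat_lit 0x20001060807030405) (.node (nat_lit 0x20001060708030504) (.node (nat_lit 0x10200080706050304) (.leaf (nat_lit 0x10200080706040503) (nat_lit 516))
 (.leaf (nat_lit 0x10200080706050304) (nat_lit 769))
) (.node (nat_lit 0x20001060708040305) (.leaf (nat_lit 0x20001060708030504) (nat_lit 1536))
 (.node (nat_lit 0x20001060708050403) (.leaf (nat_lit 0x20001060708040305) (nat_lit 1536))
 (.leaf (nat_lit 0x20001060708050403) (nat_lit 1280))
))) (.node (nat_lit 0x20001070608030405) (.node (nat_lit 0x20001060807040503) (.leaf (nat_lit 0x20001060807030405) (nat_lit 1280))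
 (.node (nat_lit 0x20001060807050304) (.leaf (nat_lit 0x20001060807040503) (nat_lit 1024))
 (.leaf (nat_lit 0x20001060807050304) (nat_lit 1281))
)) (.node (nat_lit 0x20001070608040503) (.leaf (nat_lit 0x20001070608030405) (nat_lit 1536))
 (.node (nat_lit 0x20001070608050304) (.leaf (nat_lit 0x20001070608040503) (nat_lit 1280))
 (.leaf (nat_lit 0x20001070608050304) (nat_lit 1537))
))))))) (.node (nat_lit 0x30405020001070608) (.node (nat_lit 0x20100070806050304) (.node (nat_lit 0x20100060708040503) (.node (nat_lit 0x20001080607050403) (.node (nat_lit 0x20001070806050403) (.node (nat_lit 0x20001070806040305) (.leaf (nat_lit 0x20001070806030504) (nat_lit 1280))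
 (.leaf (nat_lit 0x20001070806040305) (nat_lit 1280))
) (.node (nat_lit 0x20001080607030504) (.leaf (nat_lit 0x20001070806050403) (nat_lit 1024))
 (.node (nat_lit 0x20001080607040305) (.leaf (nat_lit 0x20001080607030504) (nat_lit 1536))
 (.leaf (nat_lit 0x20001080607040305) (nat_lit 1536))
))) (.node (nat_lit 0x20001080706040503) (.node (nat_lit 0x20001080706030405) (.leaf (nat_lit 0x20001080607050403) (nat_lit 1280))
 (.leaf (nat_lit 0x20001080706030405) (nat_lit 1024))
) (.node (nat_lit 0x20001080706050304) (.leaf (nat_lit 0x20001080706040503) (nat_lit 768))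
 (.node (nat_lit 0x20100060708030405) (.leaf (nat_lit 0x20001080706050304) (nat_lit 1025))
 (.leaf (nat_lit 0x20100060708030405) (nat_lit 1027))
)))) (.node (nat_lit 0x20100070608030504) (.node (nat_lit 0x20100060807030504) (.node (nat_lit 0x20100060708050304) (.leaf (nat_lit 0x20100060708040503) (nat_lit 771))
 (.leaf (nat_lit 0x20100060708050304) (nat_lit 1027))
) (.node (nat_lit 0x20100060807040305) (.leaf (nat_lit 0x20100060807030504) (nat_lit 771))
 (.node (nat_lit 0x20100060807050403) (.leaf (nat_lit 0x20100060807040305) (nat_lit 1027))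
 (.leaf (nat_lit 0x20100060807050403) (nat_lit 515))
))) (.node (nat_lit 0x20100070608050403) (.node (nat_lit 0x20100070608040305) (.leaf (nat_lit 0x20100070608030504) (nat_lit 1027))
 (.leaf (nat_lit 0x20100070608040305) (nat_lit 1283))
) (.node (nat_lit 0x20100070806030405) (.leaf (nat_lit 0x20100070608050403) (nat_lit 771))
 (.node (nat_lit 0x20100070806040503) (.leaf (nat_lit 0x20100070806030405) (nat_lit 771))
 (.leaf (nat_lit 0x20100070806040503) (nat_lit 515))
))))) (.node (nat_lit 0x30405000201060708) (.node (nat_lit 0x20100080706040305) (.node (nat_lit 0x20100080607040503) (.node (nat_lit 0x20100080607030405) (.leaf (nat_lit 0x20100070806050304) (nat_lit 771))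
 (.leaf (nat_lit 0x20100080607030405) (nat_lit 1027))
) (.node (nat_lit 0x20100080607050304) (.leaf (nat_lit 0x20100080607040503) (nat_lit 771))
 (.node (nat_lit 0x20100080706030504) (.leaf (nat_lit 0x20100080607050304) (nat_lit 1027))
 (.leaf (nat_lit 0x20100080706030504) (nat_lit 515))
))) (.node (nat_lit 0x30405000102060807) (.node (nat_lit 0x20100080706050403) (.leaf (nat_lit 0x20100080706040305) (nat_lit 771))
 (.leaf (nat_lit 0x20100080706050403) (nat_lit 259))
) (.node (nat_lit 0x30405000102070608) (.leaf (nat_lit 0x30405000102060807) (nat_lit 1540))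
 (.node (nat_lit 0x30405000102080706) (.leaf (nat_lit 0x30405000102070608) (nat_lit 1796))
 (.leaf (nat_lit 0x30405000102080706) (nat_lit 1284))
)))) (.node (nat_lit 0x30405010002080607) (.node (nat_lit 0x30405000201080607) (.node (nat_lit 0x30405000201070806) (.leaf (nat_lit 0x30405000201060708) (nat_lit 1539))
 (.leaf (nat_lit 0x30405000201070806) (nat_lit 1283))
) (.node (nat_lit 0x30405010002060708) (.leaf (nat_lit 0x30405000201080607) (nat_lit 1539))
 (.node (nat_lit 0x30405010002070806) (.leaf (nat_lit 0x30405010002060708) (nat_lit 1795))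
 (.leaf (nat_lit 0x30405010002070806) (nat_lit 1539))
))) (.node (nat_lit 0x30405010200070608) (.node (nat_lit 0x30405010200060807) (.leaf (nat_lit 0x30405010002080607) (nat_lit 1795))
 (.leaf (nat_lit 0x30405010200060807) (nat_lit 1284))
) (.node (nat_lit 0x30405010200080706) (.leaf (nat_lit 0x30405010200070608) (nat_lit 1540))
 (.node (nat_lit 0x30405020001060807) (.leaf (nat_lit 0x30405010200080706) (nat_lit 1028))
 (.leaf (nat_lit 0x30405020001060807) (nat_lit 1536))
)))))) (.node (nat_lit 0x30504020100060807) (.node (nat_lit 0x30504000201080706) (.node (nat_lit 0x30504000102060708) (.node (nat_lit 0x30405020100060708) (.node (nat_lit 0x30405020001080706) (.leaf (nat_lit 0x30405020001070608) (nat_lit 1792))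
 (.leaf (nat_lit 0x30405020001080706) (nat_lit 1280))
) (.node (nat_lit 0x30405020100070806) (.leaf (nat_lit 0x30405020100060708) (nat_lit 1283))
 (.node (nat_lit 0x30405020100080607) (.leaf (nat_lit 0x30405020100070806) (nat_lit 1027))
 (.leaf (nat_lit 0x30405020100080607) (nat_lit 1283))
))) (.node (nat_lit 0x30504000102080607) (.node (nat_lit 0x30504000102070806) (.leaf (nat_lit 0x30504000102060708) (nat_lit 1539))
 (.leaf (nat_lit 0x30504000102070806) (nat_lit 1283))
) (.node (nat_lit 0x30504000201060807) (.leaf (nat_lit 0x30504000102080607) (nat_lit 1539))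
 (.node (nat_lit 0x30504000201070608) (.leaf (nat_lit 0x30504000201060807) (nat_lit 1283))
 (.leaf (nat_lit 0x30504000201070608) (nat_lit 1539))
)))) (.node (nat_lit 0x30504010200070806) (.node (nat_lit 0x30504010002070608) (.node (nat_lit 0x30504010002060807) (.leaf (nat_lit 0x30504000201080706) (nat_lit 1027))
 (.leaf (nat_lit 0x30504010002060807) (nat_lit 1539))
) (.node (nat_lit 0x30504010002080706) (.leaf (nat_lit 0x30504010002070608) (nat_lit 1795))
 (.node (nat_lit 0x30504010200060708) (.leaf (nat_lit 0x30504010002080706) (nat_lit 1283))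
 (.leaf (nat_lit 0x30504010200060708) (nat_lit 1283))
))) (.node (nat_lit 0x30504020001060708) (.node (nat_lit 0x30504010200080607) (.leaf (nat_lit 0x30504010200070806) (nat_lit 1027))
 (.leaf (nat_lit 0x30504010200080607) (nat_lit 1283))
) (.node (nat_lit 0x30504020001070806) (.leaf (nat_lit 0x30504020001060708) (nat_lit 1539))
 (.node (nat_lit 0x30504020001080607) (.leaf (nat_lit 0x30504020001070806) (nat_lit 1283))
 (.leaf (nat_lit 0x30504020001080607) (nat_lit 1539))
))))) (.node (nat_lit 0x40305010002070608) (.node (nat_lit 0x40305000102080607) (.node (nat_lit 0x30504020100080706) (.node (nat_lit 0x30504020100070608) (.leaf (nat_lit 0x30504020100060807) (nat_lit 1027))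
 (.leaf (nat_lit 0x30504020100070608) (nat_lit 1283))
) (.node (nat_lit 0x40305000102060708) (.leaf (nat_lit 0x30504020100080706) (nat_lit 771))
 (.node (nat_lit 0x40305000102070806) (.leaf (nat_lit 0x40305000102060708) (nat_lit 1795))
 (.leaf (nat_lit 0x40305000102070806) (nat_lit 1539))
))) (.node (nat_lit 0x40305000201070608) (.node (nat_lit 0x40305000201060807) (.leaf (nat_lit 0x40305000102080607) (nat_lit 1795))
 (.leaf (nat_lit 0x40305000201060807) (nat_lit 1539))
) (.node (nat_lit 0x40305000201080706) (.leaf (nat_lit 0x40305000201070608) (nat_lit 1795))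
 (.node (nat_lit 0x40305010002060807) (.leaf (nat_lit 0x40305000201080706) (nat_lit 1283))
 (.leaf (nat_lit 0x40305010002060807) (nat_lit 1795))
)))) (.node (nat_lit 0x40305020001060708) (.node (nat_lit 0x40305010200060708) (.node (nat_lit 0x40305010002080706) (.leaf (nat_lit 0x40305010002070608) (nat_lit 2051))
 (.leaf (nat_lit 0x40305010002080706) (nat_lit 1539))
) (.node (nat_lit 0x40305010200070806) (.leaf (nat_lit 0x40305010200060708) (nat_lit 1539))
 (.node (nat_lit 0x40305010200080607) (.leaf (nat_lit 0x40305010200070806) (nat_lit 1283))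
 (.leaf (nat_lit 0x40305010200080607) (nat_lit 1539))
))) (.node (nat_lit 0x40305020100060807) (.node (nat_lit 0x40305020001070806) (.leaf (nat_lit 0x40305020001060708) (nat_lit 1795))
 (.node (nat_lit 0x40305020001080607) (.leaf (nat_lit 0x40305020001070806) (nat_lit 1539))
 (.leaf (nat_lit 0x40305020001080607) (nat_lit 1795))
)) (.node (nat_lit 0x40305020100070608) (.leaf (nat_lit 0x40305020100060807) (nat_lit 1283))
 (.node (nat_lit 0x40305020100080706) (.leaf (nat_lit 0x40305020100070608) (nat_lit 1539))
 (.leaf (nat_lit 0x40305020100080706) (nat_lit 1027))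
)))))))) (.node (nat_lit 0x60807040503000102) (.node (nat_lit 0x50403000201070608) (.node (nat_lit 0x50304000102080706) (.node (nat_lit 0x40503010200070608) (.node (nat_lit 0x40503000201080607) (.node (nat_lit 0x40503000102080706) (.node (nat_lit 0x40503000102070608) (.leaf (nat_lit 0x40503000102060807) (nat_lit 1284))
 (.leaf (nat_lit 0x40503000102070608) (nat_lit 1540))
) (.node (nat_lit 0x40503000201060708) (.leaf (nat_lit 0x40503000102080706) (nat_lit 1028))
 (.node (nat_lit 0x40503000201070806) (.leaf (nat_lit 0x40503000201060708) (nat_lit 1283))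
 (.leaf (nat_lit 0x40503000201070806) (nat_lit 1027))
))) (.node (nat_lit 0x40503010002070806) (.node (nat_lit 0x40503010002060708) (.leaf (nat_lit 0x40503000201080607) (nat_lit 1283))
 (.leaf (nat_lit 0x40503010002060708) (nat_lit 1539))
) (.node (nat_lit 0x40503010002080607) (.leaf (nat_lit 0x40503010002070806) (nat_lit 1283))
 (.node (nat_lit 0x40503010200060807) (.leaf (nat_lit 0x40503010002080607) (nat_lit 1539))
 (.leaf (nat_lit 0x40503010200060807) (nat_lit 1028))
)))) (.node (nat_lit 0x40503020100060708) (.node (nat_lit 0x40503020001060807) (.node (nat_lit 0x40503010200080706) (.leaf (nat_lit 0x40503010200070608) (nat_lit 1284))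
 (.leaf (nat_lit 0x40503010200080706) (nat_lit 772))
) (.node (nat_lit 0x40503020001070608) (.leaf (nat_lit 0x40503020001060807) (nat_lit 1280))
 (.node (nat_lit 0x40503020001080706) (.leaf (nat_lit 0x40503020001070608) (nat_lit 1536))
 (.leaf (nat_lit 0x40503020001080706) (nat_lit 1024))
))) (.node (nat_lit 0x40503020100080607) (.node (nat_lit 0x40503020100070806) (.leaf (nat_lit 0x40503020100060708) (nat_lit 1027))
 (.leaf (nat_lit 0x40503020100070806) (nat_lit 771))
) (.node (nat_lit 0x50304000102060807) (.leaf (nat_lit 0x40503020100080607) (nat_lit 1027))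
 (.node (nat_lit 0x50304000102070608) (.leaf (nat_lit 0x50304000102060807) (nat_lit 1537))
 (.leaf (nat_lit 0x50304000102070608) (nat_lit 1793))
))))) (.node (nat_lit 0x50304020001060807) (.node (nat_lit 0x50304010002070806) (.node (nat_lit 0x50304000201070806) (.node (nat_lit 0x50304000201060708) (.leaf (nat_lit 0x50304000102080706) (nat_lit 1281))
 (.leaf (nat_lit 0x50304000201060708) (nat_lit 1539))
) (.node (nat_lit 0x50304000201080607) (.leaf (nat_lit 0x50304000201070806) (nat_lit 1283))
 (.node (nat_lit 0x50304010002060708) (.leaf (nat_lit 0x50304000201080607) (nat_lit 1539))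
 (.leaf (nat_lit 0x50304010002060708) (nat_lit 1795))
))) (.node (nat_lit 0x50304010200060807) (.node (nat_lit 0x50304010002080607) (.leaf (nat_lit 0x50304010002070806) (nat_lit 1539))
 (.leaf (nat_lit 0x50304010002080607) (nat_lit 1795))
) (.node (nat_lit 0x50304010200070608) (.leaf (nat_lit 0x50304010200060807) (nat_lit 1281))
 (.node (nat_lit 0x50304010200080706) (.leaf (nat_lit 0x50304010200070608) (nat_lit 1537))
 (.leaf (nat_lit 0x50304010200080706) (nat_lit 1025))
)))) (.node (nat_lit 0x50304020100080607) (.node (nat_lit 0x50304020001080706) (.node (nat_lit 0x50304020001070608) (.leaf (nat_lit 0x50304020001060807) (nat_lit 1537))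
 (.leaf (nat_lit 0x50304020001070608) (nat_lit 1793))
) (.node (nat_lit 0x50304020100060708) (.leaf (nat_lit 0x50304020001080706) (nat_lit 1281))
 (.node (nat_lit 0x50304020100070806) (.leaf (nat_lit 0x50304020100060708) (nat_lit 1283))
 (.leaf (nat_lit 0x50304020100070806) (nat_lit 1027))
))) (.node (nat_lit 0x50403000102070806) (.node (nat_lit 0x50403000102060708) (.leaf (nat_lit 0x50304020100080607) (nat_lit 1283))
 (.leaf (nat_lit 0x50403000102060708) (nat_lit 1283))
) (.node (nat_lit 0x50403000102080607) (.leaf (nat_lit 0x50403000102070806) (nat_lit 1027))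
 (.node (nat_lit 0x50403000201060807) (.leaf (nat_lit 0x50403000102080607) (nat_lit 1283))
 (.leaf (nat_lit 0x50403000201060807) (nat_lit 1027))
)))))) (.node (nat_lit 0x60708040305000102) (.node (nat_lit 0x50403020001080607) (.node (nat_lit 0x50403010200060708) (.node (nat_lit 0x50403010002060807) (.node (nat_lit 0x50403000201080706) (.leaf (nat_lit 0x50403000201070608) (nat_lit 1283))
 (.leaf (nat_lit 0x50403000201080706) (nat_lit 771))
) (.node (nat_lit 0x50403010002070608) (.leaf (nat_lit 0x50403010002060807) (nat_lit 1283))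
 (.node (nat_lit 0x50403010002080706) (.leaf (nat_lit 0x50403010002070608) (nat_lit 1539))
 (.leaf (nat_lit 0x50403010002080706) (nat_lit 1027))
))) (.node (nat_lit 0x50403010200080607) (.node (nat_lit 0x50403010200070806) (.leaf (nat_lit 0x50403010200060708) (nat_lit 1027))
 (.leaf (nat_lit 0x50403010200070806) (nat_lit 771))
) (.node (nat_lit 0x50403020001060708) (.leaf (nat_lit 0x50403010200080607) (nat_lit 1027))
 (.node (nat_lit 0x50403020001070806) (.leaf (nat_lit 0x50403020001060708) (nat_lit 1283))
 (.leaf (nat_lit 0x50403020001070806) (nat_lit 1027))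
)))) (.node (nat_lit 0x60708030405010002) (.node (nat_lit 0x50403020100070608) (.node (nat_lit 0x50403020100060807) (.leaf (nat_lit 0x50403020001080607) (nat_lit 1283))
 (.leaf (nat_lit 0x50403020100060807) (nat_lit 771))
) (.node (nat_lit 0x50403020100080706) (.leaf (nat_lit 0x50403020100070608) (nat_lit 1027))
 (.node (nat_lit 0x60708030405000201) (.leaf (nat_lit 0x50403020100080706) (nat_lit 515))
 (.leaf (nat_lit 0x60708030405000201) (nat_lit 1795))
))) (.node (nat_lit 0x60708030504000102) (.node (nat_lit 0x60708030405020100) (.leaf (nat_lit 0x60708030405010002) (nat_lit 2051))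
 (.leaf (nat_lit 0x60708030405020100) (nat_lit 1539))
) (.node (nat_lit 0x60708030504010200) (.leaf (nat_lit 0x60708030504000102) (nat_lit 1795))
 (.node (nat_lit 0x60708030504020001) (.leaf (nat_lit 0x60708030504010200) (nat_lit 1539))
 (.leaf (nat_lit 0x60708030504020001) (nat_lit 1795))
))))) (.node (nat_lit 0x60708050403010200) (.node (nat_lit 0x60708040503020100) (.node (nat_lit 0x60708040305020001) (.node (nat_lit 0x60708040305010200) (.leaf (nat_lit 0x60708040305000102) (nat_lit 2051))
 (.leaf (nat_lit 0x60708040305010200) (nat_lit 1795))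
) (.node (nat_lit 0x60708040503000201) (.leaf (nat_lit 0x60708040305020001) (nat_lit 2051))
 (.node (nat_lit 0x60708040503010002) (.leaf (nat_lit 0x60708040503000201) (nat_lit 1539))
 (.leaf (nat_lit 0x60708040503010002) (nat_lit 1795))
))) (.node (nat_lit 0x60708050304010002) (.node (nat_lit 0x60708050304000201) (.leaf (nat_lit 0x60708040503020100) (nat_lit 1283))
 (.leaf (nat_lit 0x60708050304000201) (nat_lit 1795))
) (.node (nat_lit 0x60708050304020100) (.leaf (nat_lit 0x60708050304010002) (nat_lit 2051))
 (.node (nat_lit 0x60708050403000102) (.leaf (nat_lit 0x60708050304020100) (nat_lit 1539))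
 (.leaf (nat_lit 0x60708050403000102) (nat_lit 1539))
)))) (.node (nat_lit 0x60807030504000201) (.node (nat_lit 0x60807030405000102) (.node (nat_lit 0x60708050403020001) (.leaf (nat_lit 0x60708050403010200) (nat_lit 1283))
 (.leaf (nat_lit 0x60708050403020001) (nat_lit 1539))
) (.node (nat_lit 0x60807030405010200) (.leaf (nat_lit 0x60807030405000102) (nat_lit 1028))
 (.node (nat_lit 0x60807030405020001) (.leaf (nat_lit 0x60807030405010200) (nat_lit 772))
 (.leaf (nat_lit 0x60807030405020001) (nat_lit 1024))
))) (.node (nat_lit 0x60807040305000201) (.node (nat_lit 0x60807030504010002) (.leaf (nat_lit 0x60807030504000201) (nat_lit 770))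
 (.node (nat_lit 0x60807030504020100) (.leaf (nat_lit 0x60807030504010002) (nat_lit 1026))
 (.leaf (nat_lit 0x60807030504020100) (nat_lit 514))
)) (.node (nat_lit 0x60807040305010002) (.leaf (nat_lit 0x60807040305000201) (nat_lit 1026))
 (.node (nat_lit 0x60807040305020100) (.leaf (nat_lit 0x60807040305010002) (nat_lit 1282))
 (.leaf (nat_lit 0x60807040305020100) (nat_lit 770))
))))))) (.node (nat_lit 0x70806050304010002) (.node (nat_lit 0x70608040503020001) (.node (nat_lit 0x70608030405010200) (.node (nat_lit 0x60807050304020001) (.node (nat_lit 0x60807040503020001) (.node (nat_lit 0x60807040503010200) (.leaf (nat_lit 0x60807040503000102) (nat_lit 772))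
 (.leaf (nat_lit 0x60807040503010200) (nat_lit 516))
) (.node (nat_lit 0x60807050304000102) (.leaf (nat_lit 0x60807040503020001) (nat_lit 768))
 (.node (nat_lit 0x60807050304010200) (.leaf (nat_lit 0x60807050304000102) (nat_lit 1025))
 (.leaf (nat_lit 0x60807050304010200) (nat_lit 769))
))) (.node (nat_lit 0x60807050403010002) (.node (nat_lit 0x60807050403000201) (.leaf (nat_lit 0x60807050304020001) (nat_lit 1025))
 (.leaf (nat_lit 0x60807050403000201) (nat_lit 514))
) (.node (nat_lit 0x60807050403020100) (.leaf (nat_lit 0x60807050403010002) (nat_lit 770))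
 (.node (nat_lit 0x70608030405000102) (.leaf (nat_lit 0x60807050403020100) (nat_lit 258))
 (.leaf (nat_lit 0x70608030405000102) (nat_lit 1284))
)))) (.node (nat_lit 0x70608040305000201) (.node (nat_lit 0x70608030504000201) (.node (nat_lit 0x70608030405020001) (.leaf (nat_lit 0x70608030405010200) (nat_lit 1028))
 (.leaf (nat_lit 0x70608030405020001) (nat_lit 1280))
) (.node (nat_lit 0x70608030504010002) (.leaf (nat_lit 0x70608030504000201) (nat_lit 1026))
 (.node (nat_lit 0x70608030504020100) (.leaf (nat_lit 0x70608030504010002) (nat_lit 1282))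
 (.leaf (nat_lit 0x70608030504020100) (nat_lit 770))
))) (.node (nat_lit 0x70608040305020100) (.node (nat_lit 0x70608040305010002) (.leaf (nat_lit 0x70608040305000201) (nat_lit 1282))
 (.leaf (nat_lit 0x70608040305010002) (nat_lit 1538))
) (.node (nat_lit 0x70608040503000102) (.leaf (nat_lit 0x70608040305020100) (nat_lit 1026))
 (.node (nat_lit 0x70608040503010200) (.leaf (nat_lit 0x70608040503000102) (nat_lit 1028))
 (.leaf (nat_lit 0x70608040503010200) (nat_lit 772))
))))) (.node (nat_lit 0x70806030504000102) (.node (nat_lit 0x70608050403010002) (.node (nat_lit 0x70608050304010200) (.node (nat_lit 0x70608050304000102) (.leaf (nat_lit 0x70608040503020001) (nat_lit 1024))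
 (.leaf (nat_lit 0x70608050304000102) (nat_lit 1281))
) (.node (nat_lit 0x70608050304020001) (.leaf (nat_lit 0x70608050304010200) (nat_lit 1025))
 (.node (nat_lit 0x70608050403000201) (.leaf (nat_lit 0x70608050304020001) (nat_lit 1281))
 (.leaf (nat_lit 0x70608050403000201) (nat_lit 770))
))) (.node (nat_lit 0x70806030405000201) (.node (nat_lit 0x70608050403020100) (.leaf (nat_lit 0x70608050403010002) (nat_lit 1026))
 (.leaf (nat_lit 0x70608050403020100) (nat_lit 514))
) (.node (nat_lit 0x70806030405010002) (.leaf (nat_lit 0x70806030405000201) (nat_lit 1539))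
 (.node (nat_lit 0x70806030405020100) (.leaf (nat_lit 0x70806030405010002) (nat_lit 1795))
 (.leaf (nat_lit 0x70806030405020100) (nat_lit 1283))
)))) (.node (nat_lit 0x70806040305020001) (.node (nat_lit 0x70806030504020001) (.node (nat_lit 0x70806030504010200) (.leaf (nat_lit 0x70806030504000102) (nat_lit 1539))
 (.leaf (nat_lit 0x70806030504010200) (nat_lit 1283))
) (.node (nat_lit 0x70806040305000102) (.leaf (nat_lit 0x70806030504020001) (nat_lit 1539))
 (.node (nat_lit 0x70806040305010200) (.leaf (nat_lit 0x70806040305000102) (nat_lit 1795))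
 (.leaf (nat_lit 0x70806040305010200) (nat_lit 1539))
))) (.node (nat_lit 0x70806040503010002) (.node (nat_lit 0x70806040503000201) (.leaf (nat_lit 0x70806040305020001) (nat_lit 1795))
 (.leaf (nat_lit 0x70806040503000201) (nat_lit 1283))
) (.node (nat_lit 0x70806040503020100) (.leaf (nat_lit 0x70806040503010002) (nat_lit 1539))
 (.node (nat_lit 0x70806050304000201) (.leaf (nat_lit 0x70806040503020100) (nat_lit 1027))
 (.leaf (nat_lit 0x70806050304000201) (nat_lit 1539))
)))))) (.node (nat_lit 0x80607050403000102) (.node (nat_lit 0x80607030504020001) (.node (nat_lit 0x80607030405000201) (.node (nat_lit 0x70806050403000102) (.node (nat_lit 0x70806050304020100) (.leaf (nat_lit 0x70806050304010002) (nat_lit 1795))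
 (.leaf (nat_lit 0x70806050304020100) (nat_lit 1283))
) (.node (nat_lit 0x70806050403010200) (.leaf (nat_lit 0x70806050403000102) (nat_lit 1283))
 (.node (nat_lit 0x70806050403020001) (.leaf (nat_lit 0x70806050403010200) (nat_lit 1027))
 (.leaf (nat_lit 0x70806050403020001) (nat_lit 1283))
))) (.node (nat_lit 0x80607030405020100) (.node (nat_lit 0x80607030405010002) (.leaf (nat_lit 0x80607030405000201) (nat_lit 1795))
 (.leaf (nat_lit 0x80607030405010002) (nat_lit 2051))
) (.node (nat_lit 0x80607030504000102) (.leaf (nat_lit 0x80607030405020100) (nat_lit 1539))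
 (.node (nat_lit 0x80607030504010200) (.leaf (nat_lit 0x80607030504000102) (nat_lit 1795))
 (.leaf (nat_lit 0x80607030504010200) (nat_lit 1539))
)))) (.node (nat_lit 0x80607040503010002) (.node (nat_lit 0x80607040305010200) (.node (nat_lit 0x80607040305000102) (.leaf (nat_lit 0x80607030504020001) (nat_lit 1795))
 (.leaf (nat_lit 0x80607040305000102) (nat_lit 2051))
) (.node (nat_lit 0x80607040305020001) (.leaf (nat_lit 0x80607040305010200) (nat_lit 1795))
 (.node (nat_lit 0x80607040503000201) (.leaf (nat_lit 0x80607040305020001) (nat_lit 2051))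
 (.leaf (nat_lit 0x80607040503000201) (nat_lit 1539))
))) (.node (nat_lit 0x80607050304000201) (.node (nat_lit 0x80607040503020100) (.leaf (nat_lit 0x80607040503010002) (nat_lit 1795))
 (.leaf (nat_lit 0x80607040503020100) (nat_lit 1283))
) (.node (nat_lit 0x80607050304010002) (.leaf (nat_lit 0x80607050304000201) (nat_lit 1795))
 (.node (nat_lit 0x80607050304020100) (.leaf (nat_lit 0x80607050304010002) (nat_lit 2051))
 (.leaf (nat_lit 0x80607050304020100) (nat_lit 1539))
))))) (.node (nat_lit 0x80706040305010002) (.node (nat_lit 0x80706030405020001) (.node (nat_lit 0x80607050403020001) (.node (nat_lit 0x80607050403010200) (.leaf (nat_lit 0x80607050403000102) (nat_lit 1539))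
 (.leaf (nat_lit 0x80607050403010200) (nat_lit 1283))
) (.node (nat_lit 0x80706030405000102) (.leaf (nat_lit 0x80607050403020001) (nat_lit 1539))
 (.node (nat_lit 0x80706030405010200) (.leaf (nat_lit 0x80706030405000102) (nat_lit 772))
 (.leaf (nat_lit 0x80706030405010200) (nat_lit 516))
))) (.node (nat_lit 0x80706030504010002) (.node (nat_lit 0x80706030504000201) (.leaf (nat_lit 0x80706030405020001) (nat_lit 768))
 (.leaf (nat_lit 0x80706030504000201) (nat_lit 513))
) (.node (nat_lit 0x80706030504020100) (.leaf (nat_lit 0x80706030504010002) (nat_lit 769))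
 (.node (nat_lit 0x80706040305000201) (.leaf (nat_lit 0x80706030504020100) (nat_lit 257))
 (.leaf (nat_lit 0x80706040305000201) (nat_lit 769))
)))) (.node (nat_lit 0x80706050304000102) (.node (nat_lit 0x80706040503000102) (.node (nat_lit 0x80706040305020100) (.leaf (nat_lit 0x80706040305010002) (nat_lit 1025))
 (.leaf (nat_lit 0x80706040305020100) (nat_lit 513))
) (.node (nat_lit 0x80706040503010200) (.leaf (nat_lit 0x80706040503000102) (nat_lit 516))
 (.node (nat_lit 0x80706040503020001) (.leaf (nat_lit 0x80706040503010200) (nat_lit 260))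
 (.leaf (nat_lit 0x80706040503020001) (nat_lit 512))
))) (.node (nat_lit 0x80706050403000201) (.node (nat_lit 0x80706050304010200) (.leaf (nat_lit 0x80706050304000102) (nat_lit 769))
 (.node (nat_lit 0x80706050304020001) (.leaf (nat_lit 0x80706050304010200) (nat_lit 513))
 (.leaf (nat_lit 0x80706050304020001) (nat_lit 769))
)) (.node (nat_lit 0x80706050403010002) (.leaf (nat_lit 0x80706050403000201) (nat_lit 256))
 (.node (nat_lit 0x80706050403020100) (.leaf (nat_lit 0x80706050403010002) (nat_lit 512))
 (.leaf (nat_lit 0x80706050403020100) (nat_lit 0))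
)))))))))

theorem a4M_ok : genOK A9 [(nat_lit 0x80706050403000201), (nat_lit 0x80706030504020100), (nat_lit 0x60807050403020100), (nat_lit 0x20100080706050403), (nat_lit 0x80706040503010200)] a4M_t (nat_lit 324) = true := by decide +kernel

noncomputable def a4V_t : ST :=
(.node (nat_lit 0x70806030405000201) (.node (nat_lit 0x60807040503000102) (.node (nat_lit 0x60708050304010002) (.node (nat_lit 0x60708040305000102) (.node (nat_lit 0x60708030504000102) (.node (nat_lit 0x60708030405010002) (.leaf (nat_lit 0x60708030405000201) (nat_lit 1282))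
 (.node (nat_lit 0x60708030405020100) (.leaf (nat_lit 0x60708030405010002) (nat_lit 1282))
 (.leaf (nat_lit 0x60708030405020100) (nat_lit 1026))
)) (.node (nat_lit 0x60708030504010200) (.leaf (nat_lit 0x60708030504000102) (nat_lit 1026))
 (.node (nat_lit 0x60708030504020001) (.leaf (nat_lit 0x60708030504010200) (nat_lit 1026))
 (.leaf (nat_lit 0x60708030504020001) (nat_lit 770))
))) (.node (nat_lit 0x60708040503000201) (.node (nat_lit 0x60708040305010200) (.leaf (nat_lit 0x60708040305000102) (nat_lit 1282))
 (.node (nat_lit 0x60708040305020001) (.leaf (nat_lit 0x60708040305010200) (nat_lit 1282))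
 (.leaf (nat_lit 0x60708040305020001) (nat_lit 1026))
)) (.node (nat_lit 0x60708040503020100) (.node (nat_lit 0x60708040503010002) (.leaf (nat_lit 0x60708040503000201) (nat_lit 1282))
 (.leaf (nat_lit 0x60708040503010002) (nat_lit 1282))
) (.node (nat_lit 0x60708050304000201) (.leaf (nat_lit 0x60708040503020100) (nat_lit 1026))
 (.leaf (nat_lit 0x60708050304000201) (nat_lit 1026))
)))) (.node (nat_lit 0x60807030405020001) (.node (nat_lit 0x60708050403010200) (.node (nat_lit 0x60708050304020100) (.leaf (nat_lit 0x60708050304010002) (nat_lit 1026))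
 (.node (nat_lit 0x60708050403000102) (.leaf (nat_lit 0x60708050304020100) (nat_lit 770))
 (.leaf (nat_lit 0x60708050403000102) (nat_lit 770))
)) (.node (nat_lit 0x60807030405000102) (.node (nat_lit 0x60708050403020001) (.leaf (nat_lit 0x60708050403010200) (nat_lit 770))
 (.leaf (nat_lit 0x60708050403020001) (nat_lit 514))
) (.node (nat_lit 0x60807030405010200) (.leaf (nat_lit 0x60807030405000102) (nat_lit 1025))
 (.leaf (nat_lit 0x60807030405010200) (nat_lit 1025))
))) (.node (nat_lit 0x60807030504020100) (.node (nat_lit 0x60807030504000201) (.leaf (nat_lit 0x60807030405020001) (nat_lit 769))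
 (.node (nat_lit 0x60807030504010002) (.leaf (nat_lit 0x60807030504000201) (nat_lit 770))
 (.leaf (nat_lit 0x60807030504010002) (nat_lit 1026))
)) (.node (nat_lit 0x60807040305010002) (.node (nat_lit 0x60807040305000201) (.leaf (nat_lit 0x60807030504020100) (nat_lit 514))
 (.leaf (nat_lit 0x60807040305000201) (nat_lit 1026))
) (.node (nat_lit 0x60807040305020100) (.leaf (nat_lit 0x60807040305010002) (nat_lit 1282))
 (.leaf (nat_lit 0x60807040305020100) (nat_lit 770))
))))) (.node (nat_lit 0x70608030504010002) (.node (nat_lit 0x60807050403000201) (.node (nat_lit 0x60807050304000102) (.node (nat_lit 0x60807040503010200) (.leaf (nat_lit 0x60807040503000102) (nat_lit 1024))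
 (.node (nat_lit 0x60807040503020001) (.leaf (nat_lit 0x60807040503010200) (nat_lit 1027))
 (.leaf (nat_lit 0x60807040503020001) (nat_lit 771))
)) (.node (nat_lit 0x60807050304010200) (.leaf (nat_lit 0x60807050304000102) (nat_lit 768))
 (.node (nat_lit 0x60807050304020001) (.leaf (nat_lit 0x60807050304010200) (nat_lit 771))
 (.leaf (nat_lit 0x60807050304020001) (nat_lit 515))
))) (.node (nat_lit 0x70608030405000102) (.node (nat_lit 0x60807050403010002) (.leaf (nat_lit 0x60807050403000201) (nat_lit 514))
 (.node (nat_lit 0x60807050403020100) (.leaf (nat_lit 0x60807050403010002) (nat_lit 770))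
 (.leaf (nat_lit 0x60807050403020100) (nat_lit 258))
)) (.node (nat_lit 0x70608030405020001) (.node (nat_lit 0x70608030405010200) (.leaf (nat_lit 0x70608030405000102) (nat_lit 1281))
 (.leaf (nat_lit 0x70608030405010200) (nat_lit 1281))
) (.node (nat_lit 0x70608030504000201) (.leaf (nat_lit 0x70608030405020001) (nat_lit 1025))
 (.leaf (nat_lit 0x70608030504000201) (nat_lit 1026))
)))) (.node (nat_lit 0x70608040503020001) (.node (nat_lit 0x70608040305010002) (.node (nat_lit 0x70608030504020100) (.leaf (nat_lit 0x70608030504010002) (nat_lit 1282))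
 (.node (nat_lit 0x70608040305000201) (.leaf (nat_lit 0x70608030504020100) (nat_lit 770))
 (.leaf (nat_lit 0x70608040305000201) (nat_lit 1282))
)) (.node (nat_lit 0x70608040503000102) (.node (nat_lit 0x70608040305020100) (.leaf (nat_lit 0x70608040305010002) (nat_lit 1538))
 (.leaf (nat_lit 0x70608040305020100) (nat_lit 1026))
) (.node (nat_lit 0x70608040503010200) (.leaf (nat_lit 0x70608040503000102) (nat_lit 1280))
 (.leaf (nat_lit 0x70608040503010200) (nat_lit 1283))
))) (.node (nat_lit 0x70608050304020001) (.node (nat_lit 0x70608050304000102) (.leaf (nat_lit 0x70608040503020001) (nat_lit 1027))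
 (.node (nat_lit 0x70608050304010200) (.leaf (nat_lit 0x70608050304000102) (nat_lit 1024))
 (.leaf (nat_lit 0x70608050304010200) (nat_lit 1027))
)) (.node (nat_lit 0x70608050403010002) (.node (nat_lit 0x70608050403000201) (.leaf (nat_lit 0x70608050304020001) (nat_lit 771))
 (.leaf (nat_lit 0x70608050403000201) (nat_lit 770))
) (.node (nat_lit 0x70608050403020100) (.leaf (nat_lit 0x70608050403010002) (nat_lit 1026))
 (.leaf (nat_lit 0x70608050403020100) (nat_lit 514))
)))))) (.node (nat_lit 0x80607040503000201) (.node (nat_lit 0x70806050304010002) (.node (nat_lit 0x70806040305000102) (.node (nat_lit 0x70806030504000102) (.node (nat_lit 0x70806030405010002) (.leaf (nat_lit 0x70806030405000201) (nat_lit 1284))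
 (.node (nat_lit 0x70806030405020100) (.leaf (nat_lit 0x70806030405010002) (nat_lit 1284))
 (.leaf (nat_lit 0x70806030405020100) (nat_lit 1028))
)) (.node (nat_lit 0x70806030504010200) (.leaf (nat_lit 0x70806030504000102) (nat_lit 1024))
 (.node (nat_lit 0x70806030504020001) (.leaf (nat_lit 0x70806030504010200) (nat_lit 1028))
 (.leaf (nat_lit 0x70806030504020001) (nat_lit 772))
))) (.node (nat_lit 0x70806040503000201) (.node (nat_lit 0x70806040305010200) (.leaf (nat_lit 0x70806040305000102) (nat_lit 1280))
 (.node (nat_lit 0x70806040305020001) (.leaf (nat_lit 0x70806040305010200) (nat_lit 1284))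
 (.leaf (nat_lit 0x70806040305020001) (nat_lit 1028))
)) (.node (nat_lit 0x70806040503020100) (.node (nat_lit 0x70806040503010002) (.leaf (nat_lit 0x70806040503000201) (nat_lit 1284))
 (.leaf (nat_lit 0x70806040503010002) (nat_lit 1284))
) (.node (nat_lit 0x70806050304000201) (.leaf (nat_lit 0x70806040503020100) (nat_lit 1028))
 (.leaf (nat_lit 0x70806050304000201) (nat_lit 1028))
)))) (.node (nat_lit 0x80607030405020100) (.node (nat_lit 0x70806050403010200) (.node (nat_lit 0x70806050304020100) (.leaf (nat_lit 0x70806050304010002) (nat_lit 1028))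
 (.node (nat_lit 0x70806050403000102) (.leaf (nat_lit 0x70806050304020100) (nat_lit 772))
 (.leaf (nat_lit 0x70806050403000102) (nat_lit 768))
)) (.node (nat_lit 0x80607030405000201) (.node (nat_lit 0x70806050403020001) (.leaf (nat_lit 0x70806050403010200) (nat_lit 772))
 (.leaf (nat_lit 0x70806050403020001) (nat_lit 516))
) (.node (nat_lit 0x80607030405010002) (.leaf (nat_lit 0x80607030405000201) (nat_lit 1028))
 (.leaf (nat_lit 0x80607030405010002) (nat_lit 1028))
))) (.node (nat_lit 0x80607030504020001) (.node (nat_lit 0x80607030504000102) (.leaf (nat_lit 0x80607030405020100) (nat_lit 772))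
 (.node (nat_lit 0x80607030504010200) (.leaf (nat_lit 0x80607030504000102) (nat_lit 768))
 (.leaf (nat_lit 0x80607030504010200) (nat_lit 772))
)) (.node (nat_lit 0x80607040305010200) (.node (nat_lit 0x80607040305000102) (.leaf (nat_lit 0x80607030504020001) (nat_lit 516))
 (.leaf (nat_lit 0x80607040305000102) (nat_lit 1024))
) (.node (nat_lit 0x80607040305020001) (.leaf (nat_lit 0x80607040305010200) (nat_lit 1028))
 (.leaf (nat_lit 0x80607040305020001) (nat_lit 772))
))))) (.node (nat_lit 0x80706030504010002) (.node (nat_lit 0x80607050403000102) (.node (nat_lit 0x80607050304000201) (.node (nat_lit 0x80607040503010002) (.leaf (nat_lit 0x80607040503000201) (nat_lit 1028))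
 (.node (nat_lit 0x80607040503020100) (.leaf (nat_lit 0x80607040503010002) (nat_lit 1028))
 (.leaf (nat_lit 0x80607040503020100) (nat_lit 772))
)) (.node (nat_lit 0x80607050304010002) (.leaf (nat_lit 0x80607050304000201) (nat_lit 772))
 (.node (nat_lit 0x80607050304020100) (.leaf (nat_lit 0x80607050304010002) (nat_lit 772))
 (.leaf (nat_lit 0x80607050304020100) (nat_lit 516))
))) (.node (nat_lit 0x80706030405000102) (.node (nat_lit 0x80607050403010200) (.leaf (nat_lit 0x80607050403000102) (nat_lit 512))
 (.node (nat_lit 0x80607050403020001) (.leaf (nat_lit 0x80607050403010200) (nat_lit 516))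
 (.leaf (nat_lit 0x80607050403020001) (nat_lit 260))
)) (.node (nat_lit 0x80706030405020001) (.node (nat_lit 0x80706030405010200) (.leaf (nat_lit 0x80706030405000102) (nat_lit 769))
 (.leaf (nat_lit 0x80706030405010200) (nat_lit 769))
) (.node (nat_lit 0x80706030504000201) (.leaf (nat_lit 0x80706030405020001) (nat_lit 513))
 (.leaf (nat_lit 0x80706030504000201) (nat_lit 513))
)))) (.node (nat_lit 0x80706040503020001) (.node (nat_lit 0x80706040305010002) (.node (nat_lit 0x80706030504020100) (.leaf (nat_lit 0x80706030504010002) (nat_lit 769))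
 (.node (nat_lit 0x80706040305000201) (.leaf (nat_lit 0x80706030504020100) (nat_lit 257))
 (.leaf (nat_lit 0x80706040305000201) (nat_lit 769))
)) (.node (nat_lit 0x80706040503000102) (.node (nat_lit 0x80706040305020100) (.leaf (nat_lit 0x80706040305010002) (nat_lit 1025))
 (.leaf (nat_lit 0x80706040305020100) (nat_lit 513))
) (.node (nat_lit 0x80706040503010200) (.leaf (nat_lit 0x80706040503000102) (nat_lit 768))
 (.leaf (nat_lit 0x80706040503010200) (nat_lit 771))
))) (.node (nat_lit 0x80706050304020001) (.node (nat_lit 0x80706050304000102) (.leaf (nat_lit 0x80706040503020001) (nat_lit 515))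
 (.node (nat_lit 0x80706050304010200) (.leaf (nat_lit 0x80706050304000102) (nat_lit 512))
 (.leaf (nat_lit 0x80706050304010200) (nat_lit 515))
)) (.node (nat_lit 0x80706050403010002) (.node (nat_lit 0x80706050403000201) (.leaf (nat_lit 0x80706050304020001) (nat_lit 259))
 (.leaf (nat_lit 0x80706050403000201) (nat_lit 256))
) (.node (nat_lit 0x80706050403020100) (.leaf (nat_lit 0x80706050403010002) (nat_lit 512))
 (.leaf (nat_lit 0x80706050403020100) (nat_lit 0))
)))))))

theorem a4V_ok : genOK A9 [(nat_lit 0x80706050403000201), (nat_lit 0x80706030504020100), (nat_lit 0x60807050403020100), (nat_lit 0x80706050304020001), (nat_lit 0x80607050403020001)] a4V_t (nat_lit 108) = true := by decide +kernel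

end Cfsg.Agent.T16
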