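import Mathlib
import Cfsg.Agent.Rec.Orb

/-! Generated by tools/rec: the alternating group of degree eight, listed subgroups and classes -/

set_option autoImplicit false
set_option maxRecDepth 100000
set_option linter.unusedVariables false
set_option exponentiation.threshold 100000

namespace Cfsg.Agent.T16.A8

open Cfsg.Agent.Spor Cfsg.Agent.Rec

universe u

/-- Packed permutations of 8 points. -/
noncomputable def P8 : Ar := permAr (nat_lit 8) (nat_lit 0x706050403020100)

theorem P8_ok : oneOK (nat_lit 8) (nat_lit 0x706050403020100) = true := by decide +kernel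

noncomputable def cN : List ℕ := [(nat_lit 0x706050403000201), (nat_lit 0x706050304020001), (nat_lit 0x706040503020001), (nat_lit 0x705060403020001), (nat_lit 0x607050403020001)]

noncomputable def cE : List ℕ := [(nat_lit 0x706050403000201), (nat_lit 0x706050304020001), (nat_lit 0x706040503020001), (nat_lit 0x705060403020001), (nat_lit 0x607050403020001), (nat_lit 0x507060403020100), (nat_lit 0x705060304020100), (nat_lit 0x607040503020100), (nat_lit 0x504070603020100), (nat_lit 0x607030405020100), (nat_lit 0x306050407020001), (nat_lit 0x307060504020100)]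

noncomputable def cA : List ℕ := [(nat_lit 0x706050403000201), (nat_lit 0x706050402030001), (nat_lit 0x706050304020001), (nat_lit 0x706040503020001), (nat_lit 0x705060403020001), (nat_lit 0x607050403020001)]

noncomputable def cF : List ℕ := [(nat_lit 0x706050403000201), (nat_lit 0x706050304020001), (nat_lit 0x706040503020001), (nat_lit 0x705060403020001), (nat_lit 0x607050403020001), (nat_lit 0x507060403020100), (nat_lit 0x705060304020100), (nat_lit 0x607040503020100), (nat_lit 0x504070603020100), (nat_lit 0x607030405020100), (nat_lit 0x306050407020001), (nat_lit 0x307060504020100), (nat_lit 0x706050402030001), (nat_lit 0x201000304070605), (nat_lit 0x507060403000201), (nat_lit 0x701000403020605), (nat_lit 0x405060702030001), (nat_lit 0x601050007040203), (nat_lit 0x201050403070600), (nat_lit 0x607040500010203), (nat_lit 0x706050400010203)]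

theorem cN_ok : allL cN (permOK 8) = true := by decide +kernel

noncomputable def N1_t : ST :=
(.node (nat_lit 0x506030407000201) (.node (nat_lit 0x405030607000201) (.node (nat_lit 0x306050704000201) (.node (nat_lit 0x305040706010002) (.node (nat_lit 0x304060705020100) (.node (nat_lit 0x304050706020001) (.node (nat_lit 0x304050607020100) (.node (nat_lit 0x304050607010002) (.leaf (nat_lit 0x304050607000201) (nat_lit 2817))
 (.leaf (nat_lit 0x304050607010002) (nat_lit 2817))
) (.node (nat_lit 0x304050706000102) (.leaf (nat_lit 0x304050607020100) (nat_lit 2561))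
 (.node (nat_lit 0x304050706010200) (.leaf (nat_lit 0x304050706000102) (nat_lit 2561))
 (.leaf (nat_lit 0x304050706010200) (nat_lit 2561))
))) (.node (nat_lit 0x304060507020001) (.node (nat_lit 0x304060507000102) (.leaf (nat_lit 0x304050706020001) (nat_lit 2305))
 (.node (nat_lit 0x304060507010200) (.leaf (nat_lit 0x304060507000102) (nat_lit 2561))
 (.leaf (nat_lit 0x304060507010200) (nat_lit 2561))
)) (.node (nat_lit 0x304060705000201) (.leaf (nat_lit 0x304060507020001) (nat_lit 2305))
 (.node (nat_lit 0x304060705010002) (.leaf (nat_lit 0x304060705000201) (nat_lit 2305))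
 (.leaf (nat_lit 0x304060705010002) (nat_lit 2305))
)))) (.node (nat_lit 0x304070605010200) (.node (nat_lit 0x304070506010002) (.node (nat_lit 0x304070506000201) (.leaf (nat_lit 0x304060705020100) (nat_lit 2049))
 (.leaf (nat_lit 0x304070506000201) (nat_lit 2305))
) (.node (nat_lit 0x304070506020100) (.leaf (nat_lit 0x304070506010002) (nat_lit 2305))
 (.node (nat_lit 0x304070605000102) (.leaf (nat_lit 0x304070506020100) (nat_lit 2049))
 (.leaf (nat_lit 0x304070605000102) (nat_lit 2049))
))) (.node (nat_lit 0x305040607010200) (.node (nat_lit 0x304070605020001) (.leaf (nat_lit 0x304070605010200) (nat_lit 2049))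
 (.node (nat_lit 0x305040607000102) (.leaf (nat_lit 0x304070605020001) (nat_lit 1793))
 (.leaf (nat_lit 0x305040607000102) (nat_lit 2561))
)) (.node (nat_lit 0x305040607020001) (.leaf (nat_lit 0x305040607010200) (nat_lit 2561))
 (.node (nat_lit 0x305040706000201) (.leaf (nat_lit 0x305040607020001) (nat_lit 2305))
 (.leaf (nat_lit 0x305040706000201) (nat_lit 2305))
))))) (.node (nat_lit 0x305070604000201) (.node (nat_lit 0x305060704000102) (.node (nat_lit 0x305060407000201) (.node (nat_lit 0x305040706020100) (.leaf (nat_lit 0x305040706010002) (nat_lit 2305))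
 (.leaf (nat_lit 0x305040706020100) (nat_lit 2049))
) (.node (nat_lit 0x305060407010002) (.leaf (nat_lit 0x305060407000201) (nat_lit 2305))
 (.node (nat_lit 0x305060407020100) (.leaf (nat_lit 0x305060407010002) (nat_lit 2305))
 (.leaf (nat_lit 0x305060407020100) (nat_lit 2049))
))) (.node (nat_lit 0x305070406000102) (.node (nat_lit 0x305060704010200) (.leaf (nat_lit 0x305060704000102) (nat_lit 2049))
 (.node (nat_lit 0x305060704020001) (.leaf (nat_lit 0x305060704010200) (nat_lit 2049))
 (.leaf (nat_lit 0x305060704020001) (nat_lit 1793))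
)) (.node (nat_lit 0x305070406010200) (.leaf (nat_lit 0x305070406000102) (nat_lit 2049))
 (.node (nat_lit 0x305070406020001) (.leaf (nat_lit 0x305070406010200) (nat_lit 2049))
 (.leaf (nat_lit 0x305070406020001) (nat_lit 1793))
)))) (.node (nat_lit 0x306040705000102) (.node (nat_lit 0x306040507000201) (.node (nat_lit 0x305070604010002) (.leaf (nat_lit 0x305070604000201) (nat_lit 1793))
 (.node (nat_lit 0x305070604020100) (.leaf (nat_lit 0x305070604010002) (nat_lit 1793))
 (.leaf (nat_lit 0x305070604020100) (nat_lit 1537))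
)) (.node (nat_lit 0x306040507010002) (.leaf (nat_lit 0x306040507000201) (nat_lit 2305))
 (.node (nat_lit 0x306040507020100) (.leaf (nat_lit 0x306040507010002) (nat_lit 2305))
 (.leaf (nat_lit 0x306040507020100) (nat_lit 2049))
))) (.node (nat_lit 0x306050407000102) (.node (nat_lit 0x306040705010200) (.leaf (nat_lit 0x306040705000102) (nat_lit 2049))
 (.node (nat_lit 0x306040705020001) (.leaf (nat_lit 0x306040705010200) (nat_lit 2049))
 (.leaf (nat_lit 0x306040705020001) (nat_lit 1793))
)) (.node (nat_lit 0x306050407010200) (.leaf (nat_lit 0x306050407000102) (nat_lit 2049))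
 (.node (nat_lit 0x306050407020001) (.leaf (nat_lit 0x306050407010200) (nat_lit 2049))
 (.leaf (nat_lit 0x306050407020001) (nat_lit 1793))
)))))) (.node (nat_lit 0x307060405010200) (.node (nat_lit 0x307040506020001) (.node (nat_lit 0x306070405020100) (.node (nat_lit 0x306050704020100) (.node (nat_lit 0x306050704010002) (.leaf (nat_lit 0x306050704000201) (nat_lit 1793))
 (.leaf (nat_lit 0x306050704010002) (nat_lit 1793))
) (.node (nat_lit 0x306070405000201) (.leaf (nat_lit 0x306050704020100) (nat_lit 1537))
 (.node (nat_lit 0x306070405010002) (.leaf (nat_lit 0x306070405000201) (nat_lit 1793))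
 (.leaf (nat_lit 0x306070405010002) (nat_lit 1793))
))) (.node (nat_lit 0x306070504020001) (.node (nat_lit 0x306070504000102) (.leaf (nat_lit 0x306070405020100) (nat_lit 1537))
 (.node (nat_lit 0x306070504010200) (.leaf (nat_lit 0x306070504000102) (nat_lit 1537))
 (.leaf (nat_lit 0x306070504010200) (nat_lit 1537))
)) (.node (nat_lit 0x307040506000102) (.leaf (nat_lit 0x306070504020001) (nat_lit 1281))
 (.node (nat_lit 0x307040506010200) (.leaf (nat_lit 0x307040506000102) (nat_lit 2049))
 (.leaf (nat_lit 0x307040506010200) (nat_lit 2049))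
)))) (.node (nat_lit 0x307050406010002) (.node (nat_lit 0x307040605010002) (.node (nat_lit 0x307040605000201) (.leaf (nat_lit 0x307040506020001) (nat_lit 1793))
 (.leaf (nat_lit 0x307040605000201) (nat_lit 1793))
) (.node (nat_lit 0x307040605020100) (.leaf (nat_lit 0x307040605010002) (nat_lit 1793))
 (.node (nat_lit 0x307050406000201) (.leaf (nat_lit 0x307040605020100) (nat_lit 1537))
 (.leaf (nat_lit 0x307050406000201) (nat_lit 1793))
))) (.node (nat_lit 0x307050604010200) (.node (nat_lit 0x307050406020100) (.leaf (nat_lit 0x307050406010002) (nat_lit 1793))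
 (.node (nat_lit 0x307050604000102) (.leaf (nat_lit 0x307050406020100) (nat_lit 1537))
 (.leaf (nat_lit 0x307050604000102) (nat_lit 1537))
)) (.node (nat_lit 0x307050604020001) (.leaf (nat_lit 0x307050604010200) (nat_lit 1537))
 (.node (nat_lit 0x307060405000102) (.leaf (nat_lit 0x307050604020001) (nat_lit 1281))
 (.leaf (nat_lit 0x307060405000102) (nat_lit 1537))
))))) (.node (nat_lit 0x403060507000201) (.node (nat_lit 0x403050607000102) (.node (nat_lit 0x307060504000201) (.node (nat_lit 0x307060405020001) (.leaf (nat_lit 0x307060405010200) (nat_lit 1537))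
 (.leaf (nat_lit 0x307060405020001) (nat_lit 1281))
) (.node (nat_lit 0x307060504010002) (.leaf (nat_lit 0x307060504000201) (nat_lit 1281))
 (.node (nat_lit 0x307060504020100) (.leaf (nat_lit 0x307060504010002) (nat_lit 1281))
 (.leaf (nat_lit 0x307060504020100) (nat_lit 1025))
))) (.node (nat_lit 0x403050706000201) (.node (nat_lit 0x403050607010200) (.leaf (nat_lit 0x403050607000102) (nat_lit 2562))
 (.node (nat_lit 0x403050607020001) (.leaf (nat_lit 0x403050607010200) (nat_lit 2562))
 (.leaf (nat_lit 0x403050607020001) (nat_lit 2306))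
)) (.node (nat_lit 0x403050706010002) (.leaf (nat_lit 0x403050706000201) (nat_lit 2306))
 (.node (nat_lit 0x403050706020100) (.leaf (nat_lit 0x403050706010002) (nat_lit 2306))
 (.leaf (nat_lit 0x403050706020100) (nat_lit 2050))
)))) (.node (nat_lit 0x403070506000102) (.node (nat_lit 0x403060705000102) (.node (nat_lit 0x403060507010002) (.leaf (nat_lit 0x403060507000201) (nat_lit 2306))
 (.node (nat_lit 0x403060507020100) (.leaf (nat_lit 0x403060507010002) (nat_lit 2306))
 (.leaf (nat_lit 0x403060507020100) (nat_lit 2050))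
)) (.node (nat_lit 0x403060705010200) (.leaf (nat_lit 0x403060705000102) (nat_lit 2050))
 (.node (nat_lit 0x403060705020001) (.leaf (nat_lit 0x403060705010200) (nat_lit 2050))
 (.leaf (nat_lit 0x403060705020001) (nat_lit 1794))
))) (.node (nat_lit 0x403070605000201) (.node (nat_lit 0x403070506010200) (.leaf (nat_lit 0x403070506000102) (nat_lit 2050))
 (.node (nat_lit 0x403070506020001) (.leaf (nat_lit 0x403070506010200) (nat_lit 2050))
 (.leaf (nat_lit 0x403070506020001) (nat_lit 1794))
)) (.node (nat_lit 0x403070605010002) (.leaf (nat_lit 0x403070605000201) (nat_lit 1794))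
 (.node (nat_lit 0x403070605020100) (.leaf (nat_lit 0x403070605010002) (nat_lit 1794))
 (.leaf (nat_lit 0x403070605020100) (nat_lit 1538))
))))))) (.node (nat_lit 0x407050603000201) (.node (nat_lit 0x406030705010002) (.node (nat_lit 0x405060703020100) (.node (nat_lit 0x405030706020001) (.node (nat_lit 0x405030607020100) (.node (nat_lit 0x405030607010002) (.leaf (nat_lit 0x405030607000201) (nat_lit 2306))
 (.leaf (nat_lit 0x405030607010002) (nat_lit 2306))
) (.node (nat_lit 0x405030706000102) (.leaf (nat_lit 0x405030607020100) (nat_lit 2050))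
 (.node (nat_lit 0x405030706010200) (.leaf (nat_lit 0x405030706000102) (nat_lit 2050))
 (.leaf (nat_lit 0x405030706010200) (nat_lit 2050))
))) (.node (nat_lit 0x405060307020001) (.node (nat_lit 0x405060307000102) (.leaf (nat_lit 0x405030706020001) (nat_lit 1794))
 (.node (nat_lit 0x405060307010200) (.leaf (nat_lit 0x405060307000102) (nat_lit 2050))
 (.leaf (nat_lit 0x405060307010200) (nat_lit 2050))
)) (.node (nat_lit 0x405060703000201) (.leaf (nat_lit 0x405060307020001) (nat_lit 1794))
 (.node (nat_lit 0x405060703010002) (.leaf (nat_lit 0x405060703000201) (nat_lit 1794))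
 (.leaf (nat_lit 0x405060703010002) (nat_lit 1794))
)))) (.node (nat_lit 0x405070603010200) (.node (nat_lit 0x405070306010002) (.node (nat_lit 0x405070306000201) (.leaf (nat_lit 0x405060703020100) (nat_lit 1538))
 (.leaf (nat_lit 0x405070306000201) (nat_lit 1794))
) (.node (nat_lit 0x405070306020100) (.leaf (nat_lit 0x405070306010002) (nat_lit 1794))
 (.node (nat_lit 0x405070603000102) (.leaf (nat_lit 0x405070306020100) (nat_lit 1538))
 (.leaf (nat_lit 0x405070603000102) (nat_lit 1538))
))) (.node (nat_lit 0x406030507010200) (.node (nat_lit 0x405070603020001) (.leaf (nat_lit 0x405070603010200) (nat_lit 1538))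
 (.node (nat_lit 0x406030507000102) (.leaf (nat_lit 0x405070603020001) (nat_lit 1282))
 (.leaf (nat_lit 0x406030507000102) (nat_lit 2050))
)) (.node (nat_lit 0x406030507020001) (.leaf (nat_lit 0x406030507010200) (nat_lit 2050))
 (.node (nat_lit 0x406030705000201) (.leaf (nat_lit 0x406030507020001) (nat_lit 1794))
 (.leaf (nat_lit 0x406030705000201) (nat_lit 1794))
))))) (.node (nat_lit 0x406070503000201) (.node (nat_lit 0x406050703000102) (.node (nat_lit 0x406050307000201) (.node (nat_lit 0x406030705020100) (.leaf (nat_lit 0x406030705010002) (nat_lit 1794))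
 (.leaf (nat_lit 0x406030705020100) (nat_lit 1538))
) (.node (nat_lit 0x406050307010002) (.leaf (nat_lit 0x406050307000201) (nat_lit 1794))
 (.node (nat_lit 0x406050307020100) (.leaf (nat_lit 0x406050307010002) (nat_lit 1794))
 (.leaf (nat_lit 0x406050307020100) (nat_lit 1538))
))) (.node (nat_lit 0x406070305000102) (.node (nat_lit 0x406050703010200) (.leaf (nat_lit 0x406050703000102) (nat_lit 1538))
 (.node (nat_lit 0x406050703020001) (.leaf (nat_lit 0x406050703010200) (nat_lit 1538))
 (.leaf (nat_lit 0x406050703020001) (nat_lit 1282))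
)) (.node (nat_lit 0x406070305010200) (.leaf (nat_lit 0x406070305000102) (nat_lit 1538))
 (.node (nat_lit 0x406070305020001) (.leaf (nat_lit 0x406070305010200) (nat_lit 1538))
 (.leaf (nat_lit 0x406070305020001) (nat_lit 1282))
)))) (.node (nat_lit 0x407030605000102) (.node (nat_lit 0x407030506000201) (.node (nat_lit 0x406070503010002) (.leaf (nat_lit 0x406070503000201) (nat_lit 1282))
 (.node (nat_lit 0x406070503020100) (.leaf (nat_lit 0x406070503010002) (nat_lit 1282))
 (.leaf (nat_lit 0x406070503020100) (nat_lit 1026))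
)) (.node (nat_lit 0x407030506010002) (.leaf (nat_lit 0x407030506000201) (nat_lit 1794))
 (.node (nat_lit 0x407030506020100) (.leaf (nat_lit 0x407030506010002) (nat_lit 1794))
 (.leaf (nat_lit 0x407030506020100) (nat_lit 1538))
))) (.node (nat_lit 0x407050306000102) (.node (nat_lit 0x407030605010200) (.leaf (nat_lit 0x407030605000102) (nat_lit 1538))
 (.node (nat_lit 0x407030605020001) (.leaf (nat_lit 0x407030605010200) (nat_lit 1538))
 (.leaf (nat_lit 0x407030605020001) (nat_lit 1282))
)) (.node (nat_lit 0x407050306010200) (.leaf (nat_lit 0x407050306000102) (nat_lit 1538))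
 (.node (nat_lit 0x407050306020001) (.leaf (nat_lit 0x407050306010200) (nat_lit 1538))
 (.leaf (nat_lit 0x407050306020001) (nat_lit 1282))
)))))) (.node (nat_lit 0x503070406010002) (.node (nat_lit 0x503040607020100) (.node (nat_lit 0x407060305020100) (.node (nat_lit 0x407050603020100) (.node (nat_lit 0x407050603010002) (.leaf (nat_lit 0x407050603000201) (nat_lit 1282))
 (.leaf (nat_lit 0x407050603010002) (nat_lit 1282))
) (.node (nat_lit 0x407060305000201) (.leaf (nat_lit 0x407050603020100) (nat_lit 1026))
 (.node (nat_lit 0x407060305010002) (.leaf (nat_lit 0x407060305000201) (nat_lit 1282))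
 (.leaf (nat_lit 0x407060305010002) (nat_lit 1282))
))) (.node (nat_lit 0x407060503020001) (.node (nat_lit 0x407060503000102) (.leaf (nat_lit 0x407060305020100) (nat_lit 1026))
 (.node (nat_lit 0x407060503010200) (.leaf (nat_lit 0x407060503000102) (nat_lit 1026))
 (.leaf (nat_lit 0x407060503010200) (nat_lit 1026))
)) (.node (nat_lit 0x503040607000201) (.leaf (nat_lit 0x407060503020001) (nat_lit 770))
 (.node (nat_lit 0x503040607010002) (.leaf (nat_lit 0x503040607000201) (nat_lit 2307))
 (.leaf (nat_lit 0x503040607010002) (nat_lit 2307))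
)))) (.node (nat_lit 0x503060407010200) (.node (nat_lit 0x503040706010200) (.node (nat_lit 0x503040706000102) (.leaf (nat_lit 0x503040607020100) (nat_lit 2051))
 (.leaf (nat_lit 0x503040706000102) (nat_lit 2051))
) (.node (nat_lit 0x503040706020001) (.leaf (nat_lit 0x503040706010200) (nat_lit 2051))
 (.node (nat_lit 0x503060407000102) (.leaf (nat_lit 0x503040706020001) (nat_lit 1795))
 (.leaf (nat_lit 0x503060407000102) (nat_lit 2051))
))) (.node (nat_lit 0x503060704010002) (.node (nat_lit 0x503060407020001) (.leaf (nat_lit 0x503060407010200) (nat_lit 2051))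
 (.node (nat_lit 0x503060704000201) (.leaf (nat_lit 0x503060407020001) (nat_lit 1795))
 (.leaf (nat_lit 0x503060704000201) (nat_lit 1795))
)) (.node (nat_lit 0x503060704020100) (.leaf (nat_lit 0x503060704010002) (nat_lit 1795))
 (.node (nat_lit 0x503070406000201) (.leaf (nat_lit 0x503060704020100) (nat_lit 1539))
 (.leaf (nat_lit 0x503070406000201) (nat_lit 1795))
))))) (.node (nat_lit 0x504060307000201) (.node (nat_lit 0x504030607000102) (.node (nat_lit 0x503070604000102) (.node (nat_lit 0x503070406020100) (.leaf (nat_lit 0x503070406010002) (nat_lit 1795))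
 (.leaf (nat_lit 0x503070406020100) (nat_lit 1539))
) (.node (nat_lit 0x503070604010200) (.leaf (nat_lit 0x503070604000102) (nat_lit 1539))
 (.node (nat_lit 0x503070604020001) (.leaf (nat_lit 0x503070604010200) (nat_lit 1539))
 (.leaf (nat_lit 0x503070604020001) (nat_lit 1283))
))) (.node (nat_lit 0x504030706000201) (.node (nat_lit 0x504030607010200) (.leaf (nat_lit 0x504030607000102) (nat_lit 2051))
 (.node (nat_lit 0x504030607020001) (.leaf (nat_lit 0x504030607010200) (nat_lit 2051))
 (.leaf (nat_lit 0x504030607020001) (nat_lit 1795))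
)) (.node (nat_lit 0x504030706010002) (.leaf (nat_lit 0x504030706000201) (nat_lit 1795))
 (.node (nat_lit 0x504030706020100) (.leaf (nat_lit 0x504030706010002) (nat_lit 1795))
 (.leaf (nat_lit 0x504030706020100) (nat_lit 1539))
)))) (.node (nat_lit 0x504070306000102) (.node (nat_lit 0x504060703000102) (.node (nat_lit 0x504060307010002) (.leaf (nat_lit 0x504060307000201) (nat_lit 1795))
 (.node (nat_lit 0x504060307020100) (.leaf (nat_lit 0x504060307010002) (nat_lit 1795))
 (.leaf (nat_lit 0x504060307020100) (nat_lit 1539))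
)) (.node (nat_lit 0x504060703010200) (.leaf (nat_lit 0x504060703000102) (nat_lit 1539))
 (.node (nat_lit 0x504060703020001) (.leaf (nat_lit 0x504060703010200) (nat_lit 1539))
 (.leaf (nat_lit 0x504060703020001) (nat_lit 1283))
))) (.node (nat_lit 0x504070603000201) (.node (nat_lit 0x504070306010200) (.leaf (nat_lit 0x504070306000102) (nat_lit 1539))
 (.node (nat_lit 0x504070306020001) (.leaf (nat_lit 0x504070306010200) (nat_lit 1539))
 (.leaf (nat_lit 0x504070306020001) (nat_lit 1283))
)) (.node (nat_lit 0x504070603010002) (.leaf (nat_lit 0x504070603000201) (nat_lit 1283))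
 (.node (nat_lit 0x504070603020100) (.leaf (nat_lit 0x504070603010002) (nat_lit 1283))
 (.leaf (nat_lit 0x504070603020100) (nat_lit 1027))
)))))))) (.node (nat_lit 0x607030405000201) (.node (nat_lit 0x603050704000102) (.node (nat_lit 0x507030604010002) (.node (nat_lit 0x506040703020100) (.node (nat_lit 0x506030704020001) (.node (nat_lit 0x506030407020100) (.node (nat_lit 0x506030407010002) (.leaf (nat_lit 0x506030407000201) (nat_lit 1795))
 (.leaf (nat_lit 0x506030407010002) (nat_lit 1795))
) (.node (nat_lit 0x506030704000102) (.leaf (nat_lit 0x506030407020100) (nat_lit 1539))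
 (.node (nat_lit 0x506030704010200) (.leaf (nat_lit 0x506030704000102) (nat_lit 1539))
 (.leaf (nat_lit 0x506030704010200) (nat_lit 1539))
))) (.node (nat_lit 0x506040307020001) (.node (nat_lit 0x506040307000102) (.leaf (nat_lit 0x506030704020001) (nat_lit 1283))
 (.node (nat_lit 0x506040307010200) (.leaf (nat_lit 0x506040307000102) (nat_lit 1539))
 (.leaf (nat_lit 0x506040307010200) (nat_lit 1539))
)) (.node (nat_lit 0x506040703000201) (.leaf (nat_lit 0x506040307020001) (nat_lit 1283))
 (.node (nat_lit 0x506040703010002) (.leaf (nat_lit 0x506040703000201) (nat_lit 1283))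
 (.leaf (nat_lit 0x506040703010002) (nat_lit 1283))
)))) (.node (nat_lit 0x506070403010200) (.node (nat_lit 0x506070304010002) (.node (nat_lit 0x506070304000201) (.leaf (nat_lit 0x506040703020100) (nat_lit 1027))
 (.leaf (nat_lit 0x506070304000201) (nat_lit 1283))
) (.node (nat_lit 0x506070304020100) (.leaf (nat_lit 0x506070304010002) (nat_lit 1283))
 (.node (nat_lit 0x506070403000102) (.leaf (nat_lit 0x506070304020100) (nat_lit 1027))
 (.leaf (nat_lit 0x506070403000102) (nat_lit 1027))
))) (.node (nat_lit 0x507030406010200) (.node (nat_lit 0x506070403020001) (.leaf (nat_lit 0x506070403010200) (nat_lit 1027))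
 (.node (nat_lit 0x507030406000102) (.leaf (nat_lit 0x506070403020001) (nat_lit 771))
 (.leaf (nat_lit 0x507030406000102) (nat_lit 1539))
)) (.node (nat_lit 0x507030406020001) (.leaf (nat_lit 0x507030406010200) (nat_lit 1539))
 (.node (nat_lit 0x507030604000201) (.leaf (nat_lit 0x507030406020001) (nat_lit 1283))
 (.leaf (nat_lit 0x507030604000201) (nat_lit 1283))
))))) (.node (nat_lit 0x507060403000201) (.node (nat_lit 0x507040603000102) (.node (nat_lit 0x507040306000201) (.node (nat_lit 0x507030604020100) (.leaf (nat_lit 0x507030604010002) (nat_lit 1283))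
 (.leaf (nat_lit 0x507030604020100) (nat_lit 1027))
) (.node (nat_lit 0x507040306010002) (.leaf (nat_lit 0x507040306000201) (nat_lit 1283))
 (.node (nat_lit 0x507040306020100) (.leaf (nat_lit 0x507040306010002) (nat_lit 1283))
 (.leaf (nat_lit 0x507040306020100) (nat_lit 1027))
))) (.node (nat_lit 0x507060304000102) (.node (nat_lit 0x507040603010200) (.leaf (nat_lit 0x507040603000102) (nat_lit 1027))
 (.node (nat_lit 0x507040603020001) (.leaf (nat_lit 0x507040603010200) (nat_lit 1027))
 (.leaf (nat_lit 0x507040603020001) (nat_lit 771))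
)) (.node (nat_lit 0x507060304010200) (.leaf (nat_lit 0x507060304000102) (nat_lit 1027))
 (.node (nat_lit 0x507060304020001) (.leaf (nat_lit 0x507060304010200) (nat_lit 1027))
 (.leaf (nat_lit 0x507060304020001) (nat_lit 771))
)))) (.node (nat_lit 0x603040705000201) (.node (nat_lit 0x603040507000102) (.node (nat_lit 0x507060403010002) (.leaf (nat_lit 0x507060403000201) (nat_lit 771))
 (.node (nat_lit 0x507060403020100) (.leaf (nat_lit 0x507060403010002) (nat_lit 771))
 (.leaf (nat_lit 0x507060403020100) (nat_lit 515))
)) (.node (nat_lit 0x603040507010200) (.leaf (nat_lit 0x603040507000102) (nat_lit 2052))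
 (.node (nat_lit 0x603040507020001) (.leaf (nat_lit 0x603040507010200) (nat_lit 2052))
 (.leaf (nat_lit 0x603040507020001) (nat_lit 1796))
))) (.node (nat_lit 0x603050407000201) (.node (nat_lit 0x603040705010002) (.leaf (nat_lit 0x603040705000201) (nat_lit 1796))
 (.node (nat_lit 0x603040705020100) (.leaf (nat_lit 0x603040705010002) (nat_lit 1796))
 (.leaf (nat_lit 0x603040705020100) (nat_lit 1540))
)) (.node (nat_lit 0x603050407010002) (.leaf (nat_lit 0x603050407000201) (nat_lit 1796))
 (.node (nat_lit 0x603050407020100) (.leaf (nat_lit 0x603050407010002) (nat_lit 1796))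
 (.leaf (nat_lit 0x603050407020100) (nat_lit 1540))
)))))) (.node (nat_lit 0x604070305010002) (.node (nat_lit 0x604030507020100) (.node (nat_lit 0x603070405020001) (.node (nat_lit 0x603050704020001) (.node (nat_lit 0x603050704010200) (.leaf (nat_lit 0x603050704000102) (nat_lit 1540))
 (.leaf (nat_lit 0x603050704010200) (nat_lit 1540))
) (.node (nat_lit 0x603070405000102) (.leaf (nat_lit 0x603050704020001) (nat_lit 1284))
 (.node (nat_lit 0x603070405010200) (.leaf (nat_lit 0x603070405000102) (nat_lit 1540))
 (.leaf (nat_lit 0x603070405010200) (nat_lit 1540))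
))) (.node (nat_lit 0x603070504020100) (.node (nat_lit 0x603070504000201) (.leaf (nat_lit 0x603070405020001) (nat_lit 1284))
 (.node (nat_lit 0x603070504010002) (.leaf (nat_lit 0x603070504000201) (nat_lit 1284))
 (.leaf (nat_lit 0x603070504010002) (nat_lit 1284))
)) (.node (nat_lit 0x604030507000201) (.leaf (nat_lit 0x603070504020100) (nat_lit 1028))
 (.node (nat_lit 0x604030507010002) (.leaf (nat_lit 0x604030507000201) (nat_lit 1796))
 (.leaf (nat_lit 0x604030507010002) (nat_lit 1796))
)))) (.node (nat_lit 0x604050307010200) (.node (nat_lit 0x604030705010200) (.node (nat_lit 0x604030705000102) (.leaf (nat_lit 0x604030507020100) (nat_lit 1540))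
 (.leaf (nat_lit 0x604030705000102) (nat_lit 1540))
) (.node (nat_lit 0x604030705020001) (.leaf (nat_lit 0x604030705010200) (nat_lit 1540))
 (.node (nat_lit 0x604050307000102) (.leaf (nat_lit 0x604030705020001) (nat_lit 1284))
 (.leaf (nat_lit 0x604050307000102) (nat_lit 1540))
))) (.node (nat_lit 0x604050703010002) (.node (nat_lit 0x604050307020001) (.leaf (nat_lit 0x604050307010200) (nat_lit 1540))
 (.node (nat_lit 0x604050703000201) (.leaf (nat_lit 0x604050307020001) (nat_lit 1284))
 (.leaf (nat_lit 0x604050703000201) (nat_lit 1284))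
)) (.node (nat_lit 0x604050703020100) (.leaf (nat_lit 0x604050703010002) (nat_lit 1284))
 (.node (nat_lit 0x604070305000201) (.leaf (nat_lit 0x604050703020100) (nat_lit 1028))
 (.leaf (nat_lit 0x604070305000201) (nat_lit 1284))
))))) (.node (nat_lit 0x605040307000201) (.node (nat_lit 0x605030407000102) (.node (nat_lit 0x604070503000102) (.node (nat_lit 0x604070305020100) (.leaf (nat_lit 0x604070305010002) (nat_lit 1284))
 (.leaf (nat_lit 0x604070305020100) (nat_lit 1028))
) (.node (nat_lit 0x604070503010200) (.leaf (nat_lit 0x604070503000102) (nat_lit 1028))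
 (.node (nat_lit 0x604070503020001) (.leaf (nat_lit 0x604070503010200) (nat_lit 1028))
 (.leaf (nat_lit 0x604070503020001) (nat_lit 772))
))) (.node (nat_lit 0x605030704000201) (.node (nat_lit 0x605030407010200) (.leaf (nat_lit 0x605030407000102) (nat_lit 1540))
 (.node (nat_lit 0x605030407020001) (.leaf (nat_lit 0x605030407010200) (nat_lit 1540))
 (.leaf (nat_lit 0x605030407020001) (nat_lit 1284))
)) (.node (nat_lit 0x605030704010002) (.leaf (nat_lit 0x605030704000201) (nat_lit 1284))
 (.node (nat_lit 0x605030704020100) (.leaf (nat_lit 0x605030704010002) (nat_lit 1284))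
 (.leaf (nat_lit 0x605030704020100) (nat_lit 1028))
)))) (.node (nat_lit 0x605070304000102) (.node (nat_lit 0x605040703000102) (.node (nat_lit 0x605040307010002) (.leaf (nat_lit 0x605040307000201) (nat_lit 1284))
 (.node (nat_lit 0x605040307020100) (.leaf (nat_lit 0x605040307010002) (nat_lit 1284))
 (.leaf (nat_lit 0x605040307020100) (nat_lit 1028))
)) (.node (nat_lit 0x605040703010200) (.leaf (nat_lit 0x605040703000102) (nat_lit 1028))
 (.node (nat_lit 0x605040703020001) (.leaf (nat_lit 0x605040703010200) (nat_lit 1028))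
 (.leaf (nat_lit 0x605040703020001) (nat_lit 772))
))) (.node (nat_lit 0x605070403000201) (.node (nat_lit 0x605070304010200) (.leaf (nat_lit 0x605070304000102) (nat_lit 1028))
 (.node (nat_lit 0x605070304020001) (.leaf (nat_lit 0x605070304010200) (nat_lit 1028))
 (.leaf (nat_lit 0x605070304020001) (nat_lit 772))
)) (.node (nat_lit 0x605070403010002) (.leaf (nat_lit 0x605070403000201) (nat_lit 772))
 (.node (nat_lit 0x605070403020100) (.leaf (nat_lit 0x605070403010002) (nat_lit 772))
 (.leaf (nat_lit 0x605070403020100) (nat_lit 516))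
))))))) (.node (nat_lit 0x704050603000102) (.node (nat_lit 0x703040605010200) (.node (nat_lit 0x607040503020100) (.node (nat_lit 0x607030504020001) (.node (nat_lit 0x607030405020100) (.node (nat_lit 0x607030405010002) (.leaf (nat_lit 0x607030405000201) (nat_lit 1284))
 (.leaf (nat_lit 0x607030405010002) (nat_lit 1284))
) (.node (nat_lit 0x607030504000102) (.leaf (nat_lit 0x607030405020100) (nat_lit 1028))
 (.node (nat_lit 0x607030504010200) (.leaf (nat_lit 0x607030504000102) (nat_lit 1028))
 (.leaf (nat_lit 0x607030504010200) (nat_lit 1028))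
))) (.node (nat_lit 0x607040305020001) (.node (nat_lit 0x607040305000102) (.leaf (nat_lit 0x607030504020001) (nat_lit 772))
 (.node (nat_lit 0x607040305010200) (.leaf (nat_lit 0x607040305000102) (nat_lit 1028))
 (.leaf (nat_lit 0x607040305010200) (nat_lit 1028))
)) (.node (nat_lit 0x607040503000201) (.leaf (nat_lit 0x607040305020001) (nat_lit 772))
 (.node (nat_lit 0x607040503010002) (.leaf (nat_lit 0x607040503000201) (nat_lit 772))
 (.leaf (nat_lit 0x607040503010002) (nat_lit 772))
)))) (.node (nat_lit 0x607050403010200) (.node (nat_lit 0x607050304010002) (.node (nat_lit 0x607050304000201) (.leaf (nat_lit 0x607040503020100) (nat_lit 516))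
 (.leaf (nat_lit 0x607050304000201) (nat_lit 772))
) (.node (nat_lit 0x607050304020100) (.leaf (nat_lit 0x607050304010002) (nat_lit 772))
 (.node (nat_lit 0x607050403000102) (.leaf (nat_lit 0x607050304020100) (nat_lit 516))
 (.leaf (nat_lit 0x607050403000102) (nat_lit 512))
))) (.node (nat_lit 0x703040506010002) (.node (nat_lit 0x607050403020001) (.leaf (nat_lit 0x607050403010200) (nat_lit 516))
 (.node (nat_lit 0x703040506000201) (.leaf (nat_lit 0x607050403020001) (nat_lit 260))
 (.leaf (nat_lit 0x703040506000201) (nat_lit 1793))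
)) (.node (nat_lit 0x703040506020100) (.leaf (nat_lit 0x703040506010002) (nat_lit 1793))
 (.node (nat_lit 0x703040605000102) (.leaf (nat_lit 0x703040506020100) (nat_lit 1537))
 (.leaf (nat_lit 0x703040605000102) (nat_lit 1537))
))))) (.node (nat_lit 0x703060504000102) (.node (nat_lit 0x703050604000201) (.node (nat_lit 0x703050406000102) (.node (nat_lit 0x703040605020001) (.leaf (nat_lit 0x703040605010200) (nat_lit 1537))
 (.leaf (nat_lit 0x703040605020001) (nat_lit 1281))
) (.node (nat_lit 0x703050406010200) (.leaf (nat_lit 0x703050406000102) (nat_lit 1537))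
 (.node (nat_lit 0x703050406020001) (.leaf (nat_lit 0x703050406010200) (nat_lit 1537))
 (.leaf (nat_lit 0x703050406020001) (nat_lit 1281))
))) (.node (nat_lit 0x703060405000201) (.node (nat_lit 0x703050604010002) (.leaf (nat_lit 0x703050604000201) (nat_lit 1281))
 (.node (nat_lit 0x703050604020100) (.leaf (nat_lit 0x703050604010002) (nat_lit 1281))
 (.leaf (nat_lit 0x703050604020100) (nat_lit 1025))
)) (.node (nat_lit 0x703060405010002) (.leaf (nat_lit 0x703060405000201) (nat_lit 1281))
 (.node (nat_lit 0x703060405020100) (.leaf (nat_lit 0x703060405010002) (nat_lit 1281))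
 (.leaf (nat_lit 0x703060405020100) (nat_lit 1025))
)))) (.node (nat_lit 0x704030605000201) (.node (nat_lit 0x704030506000102) (.node (nat_lit 0x703060504010200) (.leaf (nat_lit 0x703060504000102) (nat_lit 1025))
 (.node (nat_lit 0x703060504020001) (.leaf (nat_lit 0x703060504010200) (nat_lit 1025))
 (.leaf (nat_lit 0x703060504020001) (nat_lit 769))
)) (.node (nat_lit 0x704030506010200) (.leaf (nat_lit 0x704030506000102) (nat_lit 1538))
 (.node (nat_lit 0x704030506020001) (.leaf (nat_lit 0x704030506010200) (nat_lit 1538))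
 (.leaf (nat_lit 0x704030506020001) (nat_lit 1282))
))) (.node (nat_lit 0x704050306000201) (.node (nat_lit 0x704030605010002) (.leaf (nat_lit 0x704030605000201) (nat_lit 1282))
 (.node (nat_lit 0x704030605020100) (.leaf (nat_lit 0x704030605010002) (nat_lit 1282))
 (.leaf (nat_lit 0x704030605020100) (nat_lit 1026))
)) (.node (nat_lit 0x704050306010002) (.leaf (nat_lit 0x704050306000201) (nat_lit 1282))
 (.node (nat_lit 0x704050306020100) (.leaf (nat_lit 0x704050306010002) (nat_lit 1282))
 (.leaf (nat_lit 0x704050306020100) (nat_lit 1026))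
)))))) (.node (nat_lit 0x705060304010002) (.node (nat_lit 0x705030406020100) (.node (nat_lit 0x704060305020001) (.node (nat_lit 0x704050603020001) (.node (nat_lit 0x704050603010200) (.leaf (nat_lit 0x704050603000102) (nat_lit 1026))
 (.leaf (nat_lit 0x704050603010200) (nat_lit 1026))
) (.node (nat_lit 0x704060305000102) (.leaf (nat_lit 0x704050603020001) (nat_lit 770))
 (.node (nat_lit 0x704060305010200) (.leaf (nat_lit 0x704060305000102) (nat_lit 1026))
 (.leaf (nat_lit 0x704060305010200) (nat_lit 1026))
))) (.node (nat_lit 0x704060503020100) (.node (nat_lit 0x704060503000201) (.leaf (nat_lit 0x704060305020001) (nat_lit 770))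
 (.node (nat_lit 0x704060503010002) (.leaf (nat_lit 0x704060503000201) (nat_lit 770))
 (.leaf (nat_lit 0x704060503010002) (nat_lit 770))
)) (.node (nat_lit 0x705030406000201) (.leaf (nat_lit 0x704060503020100) (nat_lit 514))
 (.node (nat_lit 0x705030406010002) (.leaf (nat_lit 0x705030406000201) (nat_lit 1283))
 (.leaf (nat_lit 0x705030406010002) (nat_lit 1283))
)))) (.node (nat_lit 0x705040306010200) (.node (nat_lit 0x705030604010200) (.node (nat_lit 0x705030604000102) (.leaf (nat_lit 0x705030406020100) (nat_lit 1027))
 (.leaf (nat_lit 0x705030604000102) (nat_lit 1027))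
) (.node (nat_lit 0x705030604020001) (.leaf (nat_lit 0x705030604010200) (nat_lit 1027))
 (.node (nat_lit 0x705040306000102) (.leaf (nat_lit 0x705030604020001) (nat_lit 771))
 (.leaf (nat_lit 0x705040306000102) (nat_lit 1027))
))) (.node (nat_lit 0x705040603010002) (.node (nat_lit 0x705040306020001) (.leaf (nat_lit 0x705040306010200) (nat_lit 1027))
 (.node (nat_lit 0x705040603000201) (.leaf (nat_lit 0x705040306020001) (nat_lit 771))
 (.leaf (nat_lit 0x705040603000201) (nat_lit 771))
)) (.node (nat_lit 0x705040603020100) (.leaf (nat_lit 0x705040603010002) (nat_lit 771))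
 (.node (nat_lit 0x705060304000201) (.leaf (nat_lit 0x705040603020100) (nat_lit 515))
 (.leaf (nat_lit 0x705060304000201) (nat_lit 771))
))))) (.node (nat_lit 0x706040305000201) (.node (nat_lit 0x706030405000102) (.node (nat_lit 0x705060403000102) (.node (nat_lit 0x705060304020100) (.leaf (nat_lit 0x705060304010002) (nat_lit 771))
 (.leaf (nat_lit 0x705060304020100) (nat_lit 515))
) (.node (nat_lit 0x705060403010200) (.leaf (nat_lit 0x705060403000102) (nat_lit 512))
 (.node (nat_lit 0x705060403020001) (.leaf (nat_lit 0x705060403010200) (nat_lit 515))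
 (.leaf (nat_lit 0x705060403020001) (nat_lit 259))
))) (.node (nat_lit 0x706030504000201) (.node (nat_lit 0x706030405010200) (.leaf (nat_lit 0x706030405000102) (nat_lit 1025))
 (.node (nat_lit 0x706030405020001) (.leaf (nat_lit 0x706030405010200) (nat_lit 1025))
 (.leaf (nat_lit 0x706030405020001) (nat_lit 769))
)) (.node (nat_lit 0x706030504010002) (.leaf (nat_lit 0x706030504000201) (nat_lit 769))
 (.node (nat_lit 0x706030504020100) (.leaf (nat_lit 0x706030504010002) (nat_lit 769))
 (.leaf (nat_lit 0x706030504020100) (nat_lit 513))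
)))) (.node (nat_lit 0x706050304000102) (.node (nat_lit 0x706040503000102) (.node (nat_lit 0x706040305010002) (.leaf (nat_lit 0x706040305000201) (nat_lit 770))
 (.node (nat_lit 0x706040305020100) (.leaf (nat_lit 0x706040305010002) (nat_lit 770))
 (.leaf (nat_lit 0x706040305020100) (nat_lit 514))
)) (.node (nat_lit 0x706040503010200) (.leaf (nat_lit 0x706040503000102) (nat_lit 512))
 (.node (nat_lit 0x706040503020001) (.leaf (nat_lit 0x706040503010200) (nat_lit 514))
 (.leaf (nat_lit 0x706040503020001) (nat_lit 258))
))) (.node (nat_lit 0x706050403000201) (.node (nat_lit 0x706050304010200) (.leaf (nat_lit 0x706050304000102) (nat_lit 512))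
 (.node (nat_lit 0x706050304020001) (.leaf (nat_lit 0x706050304010200) (nat_lit 513))
 (.leaf (nat_lit 0x706050304020001) (nat_lit 257))
)) (.node (nat_lit 0x706050403010002) (.leaf (nat_lit 0x706050403000201) (nat_lit 256))
 (.node (nat_lit 0x706050403020100) (.leaf (nat_lit 0x706050403010002) (nat_lit 512))
 (.leaf (nat_lit 0x706050403020100) (nat_lit 0))
)))))))))

theorem N1_ok : genOK P8 [(nat_lit 0x706050403000201), (nat_lit 0x706050304020001), (nat_lit 0x706040503020001), (nat_lit 0x705060403020001), (nat_lit 0x607050403020001)] N1_t (nat_lit 360) = true := by decide +kernel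

noncomputable def D_t : ST :=
(.node (nat_lit 0x605070403010002) (.node (nat_lit 0x507060403020100) (.node (nat_lit 0x507060403010002) (.leaf (nat_lit 0x507060403000201) (nat_lit 513))
 (.leaf (nat_lit 0x507060403010002) (nat_lit 769))
) (.node (nat_lit 0x605070403000201) (.leaf (nat_lit 0x507060403020100) (nat_lit 257))
 (.leaf (nat_lit 0x605070403000201) (nat_lit 769))
)) (.node (nat_lit 0x706050403000201) (.node (nat_lit 0x605070403020100) (.leaf (nat_lit 0x605070403010002) (nat_lit 1025))
 (.leaf (nat_lit 0x605070403020100) (nat_lit 513))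
) (.node (nat_lit 0x706050403010002) (.leaf (nat_lit 0x706050403000201) (nat_lit 256))
 (.node (nat_lit 0x706050403020100) (.leaf (nat_lit 0x706050403010002) (nat_lit 512))
 (.leaf (nat_lit 0x706050403020100) (nat_lit 0))
))))

theorem D_ok : genOK P8 [(nat_lit 0x706050403000201), (nat_lit 0x507060403020100)] D_t (nat_lit 9) = true := by decide +kernel

noncomputable def V_t : ST :=
(.node (nat_lit 0x607040503020100) (.node (nat_lit 0x504070603020100) (.leaf (nat_lit 0x405060703020100) (nat_lit 513))
 (.leaf (nat_lit 0x504070603020100) (nat_lit 257))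
) (.node (nat_lit 0x706050403020100) (.leaf (nat_lit 0x607040503020100) (nat_lit 256))
 (.leaf (nat_lit 0x706050403020100) (nat_lit 0))
))

theorem V_ok : genOK P8 [(nat_lit 0x607040503020100), (nat_lit 0x504070603020100)] V_t (nat_lit 4) = true := by decide +kernel

noncomputable def CV0_t : ST :=
(.node (nat_lit 0x607040503000201) (.node (nat_lit 0x504070603000201) (.node (nat_lit 0x405060703010002) (.leaf (nat_lit 0x405060703000201) (nat_lit 770))
 (.node (nat_lit 0x405060703020100) (.leaf (nat_lit 0x405060703010002) (nat_lit 1026))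
 (.leaf (nat_lit 0x405060703020100) (nat_lit 514))
)) (.node (nat_lit 0x504070603010002) (.leaf (nat_lit 0x504070603000201) (nat_lit 514))
 (.node (nat_lit 0x504070603020100) (.leaf (nat_lit 0x504070603010002) (nat_lit 770))
 (.leaf (nat_lit 0x504070603020100) (nat_lit 258))
))) (.node (nat_lit 0x706050403000201) (.node (nat_lit 0x607040503010002) (.leaf (nat_lit 0x607040503000201) (nat_lit 513))
 (.node (nat_lit 0x607040503020100) (.leaf (nat_lit 0x607040503010002) (nat_lit 769))
 (.leaf (nat_lit 0x607040503020100) (nat_lit 257))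
)) (.node (nat_lit 0x706050403010002) (.leaf (nat_lit 0x706050403000201) (nat_lit 256))
 (.node (nat_lit 0x706050403020100) (.leaf (nat_lit 0x706050403010002) (nat_lit 512))
 (.leaf (nat_lit 0x706050403020100) (nat_lit 0))
))))

theorem CV0_ok : genOK P8 [(nat_lit 0x706050403000201), (nat_lit 0x607040503020100), (nat_lit 0x504070603020100)] CV0_t (nat_lit 12) = true := by decide +kernel

noncomputable def A_t : ST :=
(.node (nat_lit 0x604050703020100) (.node (nat_lit 0x504070603020100) (.node (nat_lit 0x406070503020100) (.leaf (nat_lit 0x405060703020100) (nat_lit 1024))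
 (.node (nat_lit 0x407050603020100) (.leaf (nat_lit 0x406070503020100) (nat_lit 513))
 (.leaf (nat_lit 0x407050603020100) (nat_lit 768))
)) (.node (nat_lit 0x506040703020100) (.leaf (nat_lit 0x504070603020100) (nat_lit 1024))
 (.node (nat_lit 0x507060403020100) (.leaf (nat_lit 0x506040703020100) (nat_lit 768))
 (.leaf (nat_lit 0x507060403020100) (nat_lit 256))
))) (.node (nat_lit 0x704060503020100) (.node (nat_lit 0x605070403020100) (.leaf (nat_lit 0x604050703020100) (nat_lit 769))
 (.node (nat_lit 0x607040503020100) (.leaf (nat_lit 0x605070403020100) (nat_lit 512))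
 (.leaf (nat_lit 0x607040503020100) (nat_lit 257))
)) (.node (nat_lit 0x705040603020100) (.leaf (nat_lit 0x704060503020100) (nat_lit 769))
 (.node (nat_lit 0x706050403020100) (.leaf (nat_lit 0x705040603020100) (nat_lit 512))
 (.leaf (nat_lit 0x706050403020100) (nat_lit 0))
))))

theorem A_ok : genOK P8 [(nat_lit 0x507060403020100), (nat_lit 0x607040503020100)] A_t (nat_lit 12) = true := by decide +kernel

noncomputable def As_t : ST :=
(.node (nat_lit 0x603050407020100) (.node (nat_lit 0x503070406020100) (.node (nat_lit 0x306070405020100) (.leaf (nat_lit 0x305060407020100) (nat_lit 1024))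
 (.node (nat_lit 0x307050406020100) (.leaf (nat_lit 0x306070405020100) (nat_lit 513))
 (.leaf (nat_lit 0x307050406020100) (nat_lit 768))
)) (.node (nat_lit 0x506030407020100) (.leaf (nat_lit 0x503070406020100) (nat_lit 1024))
 (.node (nat_lit 0x507060403020100) (.leaf (nat_lit 0x506030407020100) (nat_lit 768))
 (.leaf (nat_lit 0x507060403020100) (nat_lit 256))
))) (.node (nat_lit 0x703060405020100) (.node (nat_lit 0x605070403020100) (.leaf (nat_lit 0x603050407020100) (nat_lit 769))
 (.node (nat_lit 0x607030405020100) (.leaf (nat_lit 0x605070403020100) (nat_lit 512))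
 (.leaf (nat_lit 0x607030405020100) (nat_lit 257))
)) (.node (nat_lit 0x705030406020100) (.leaf (nat_lit 0x703060405020100) (nat_lit 769))
 (.node (nat_lit 0x706050403020100) (.leaf (nat_lit 0x705030406020100) (nat_lit 512))
 (.leaf (nat_lit 0x706050403020100) (nat_lit 0))
))))

theorem As_ok : genOK P8 [(nat_lit 0x507060403020100), (nat_lit 0x607030405020100)] As_t (nat_lit 12) = true := by decide +kernel

noncomputable def Z2_t : ST :=
(.node (nat_lit 0x605070403020100) (.leaf (nat_lit 0x507060403020100) (nat_lit 256))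
 (.node (nat_lit 0x706050403020100) (.leaf (nat_lit 0x605070403020100) (nat_lit 512))
 (.leaf (nat_lit 0x706050403020100) (nat_lit 0))
))

theorem Z2_ok : genOK P8 [(nat_lit 0x507060403020100)] Z2_t (nat_lit 3) = true := by decide +kernel

noncomputable def T0_t : ST :=
(.node (nat_lit 0x604070503020001) (.node (nat_lit 0x504070603020100) (.node (nat_lit 0x406050703020001) (.leaf (nat_lit 0x405060703020100) (nat_lit 513))
 (.leaf (nat_lit 0x406050703020001) (nat_lit 770))
) (.node (nat_lit 0x507040603020001) (.leaf (nat_lit 0x504070603020100) (nat_lit 257))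
 (.leaf (nat_lit 0x507040603020001) (nat_lit 514))
)) (.node (nat_lit 0x705060403020001) (.node (nat_lit 0x607040503020100) (.leaf (nat_lit 0x604070503020001) (nat_lit 514))
 (.leaf (nat_lit 0x607040503020100) (nat_lit 256))
) (.node (nat_lit 0x706050403020100) (.leaf (nat_lit 0x705060403020001) (nat_lit 258))
 (.leaf (nat_lit 0x706050403020100) (nat_lit 0))
)))

theorem T0_ok : genOK P8 [(nat_lit 0x607040503020100), (nat_lit 0x504070603020100), (nat_lit 0x705060403020001)] T0_t (nat_lit 8) = true := by decide +kernel

noncomputable def U_t : ST :=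
(.node (nat_lit 0x706050304020001) (.node (nat_lit 0x705060403020001) (.leaf (nat_lit 0x705060304020100) (nat_lit 257))
 (.leaf (nat_lit 0x705060403020001) (nat_lit 513))
) (.node (nat_lit 0x706050403020100) (.leaf (nat_lit 0x706050304020001) (nat_lit 256))
 (.leaf (nat_lit 0x706050403020100) (nat_lit 0))
))

theorem U_ok : genOK P8 [(nat_lit 0x706050304020001), (nat_lit 0x705060304020100)] U_t (nat_lit 4) = true := by decide +kernel

noncomputable def K_t : ST :=
(.node (nat_lit 0x607050304000201) (.node (nat_lit 0x507060403010002) (.node (nat_lit 0x506070304020100) (.node (nat_lit 0x506070304010002) (.leaf (nat_lit 0x506070304000201) (nat_lit 769))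
 (.leaf (nat_lit 0x506070304010002) (nat_lit 1025))
) (.node (nat_lit 0x507060403000201) (.leaf (nat_lit 0x506070304020100) (nat_lit 513))
 (.leaf (nat_lit 0x507060403000201) (nat_lit 513))
)) (.node (nat_lit 0x605070403000201) (.node (nat_lit 0x507060403020100) (.leaf (nat_lit 0x507060403010002) (nat_lit 769))
 (.leaf (nat_lit 0x507060403020100) (nat_lit 257))
) (.node (nat_lit 0x605070403010002) (.leaf (nat_lit 0x605070403000201) (nat_lit 769))
 (.node (nat_lit 0x605070403020100) (.leaf (nat_lit 0x605070403010002) (nat_lit 1025))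
 (.leaf (nat_lit 0x605070403020100) (nat_lit 513))
)))) (.node (nat_lit 0x705060304010002) (.node (nat_lit 0x607050304020100) (.node (nat_lit 0x607050304010002) (.leaf (nat_lit 0x607050304000201) (nat_lit 770))
 (.leaf (nat_lit 0x607050304010002) (nat_lit 1026))
) (.node (nat_lit 0x705060304000201) (.leaf (nat_lit 0x607050304020100) (nat_lit 514))
 (.leaf (nat_lit 0x705060304000201) (nat_lit 514))
)) (.node (nat_lit 0x706050403000201) (.node (nat_lit 0x705060304020100) (.leaf (nat_lit 0x705060304010002) (nat_lit 770))
 (.leaf (nat_lit 0x705060304020100) (nat_lit 258))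
) (.node (nat_lit 0x706050403010002) (.leaf (nat_lit 0x706050403000201) (nat_lit 256))
 (.node (nat_lit 0x706050403020100) (.leaf (nat_lit 0x706050403010002) (nat_lit 512))
 (.leaf (nat_lit 0x706050403020100) (nat_lit 0))
)))))

theorem K_ok : genOK P8 [(nat_lit 0x706050403000201), (nat_lit 0x507060403020100), (nat_lit 0x705060304020100)] K_t (nat_lit 18) = true := by decide +kernel

noncomputable def Cy_t : ST :=
(.node (nat_lit 0x507060403000201) (.node (nat_lit 0x100020304060507) (.node (nat_lit 0x2010304070605) (.node (nat_lit 0x2010304060507) (.leaf (nat_lit 0x2010304050706) (nat_lit 770))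
 (.leaf (nat_lit 0x2010304060507) (nat_lit 1026))
) (.node (nat_lit 0x100020304050706) (.leaf (nat_lit 0x2010304070605) (nat_lit 514))
 (.leaf (nat_lit 0x100020304050706) (nat_lit 1026))
)) (.node (nat_lit 0x201000304050706) (.node (nat_lit 0x100020304070605) (.leaf (nat_lit 0x100020304060507) (nat_lit 1282))
 (.leaf (nat_lit 0x100020304070605) (nat_lit 770))
) (.node (nat_lit 0x201000304060507) (.leaf (nat_lit 0x201000304050706) (nat_lit 514))
 (.node (nat_lit 0x201000304070605) (.leaf (nat_lit 0x201000304060507) (nat_lit 770))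
 (.leaf (nat_lit 0x201000304070605) (nat_lit 258))
)))) (.node (nat_lit 0x605070403010002) (.node (nat_lit 0x507060403020100) (.node (nat_lit 0x507060403010002) (.leaf (nat_lit 0x507060403000201) (nat_lit 513))
 (.leaf (nat_lit 0x507060403010002) (nat_lit 769))
) (.node (nat_lit 0x605070403000201) (.leaf (nat_lit 0x507060403020100) (nat_lit 257))
 (.leaf (nat_lit 0x605070403000201) (nat_lit 769))
)) (.node (nat_lit 0x706050403000201) (.node (nat_lit 0x605070403020100) (.leaf (nat_lit 0x605070403010002) (nat_lit 1025))
 (.leaf (nat_lit 0x605070403020100) (nat_lit 513))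
) (.node (nat_lit 0x706050403010002) (.leaf (nat_lit 0x706050403000201) (nat_lit 256))
 (.node (nat_lit 0x706050403020100) (.leaf (nat_lit 0x706050403010002) (nat_lit 512))
 (.leaf (nat_lit 0x706050403020100) (nat_lit 0))
)))))

theorem Cy_ok : genOK P8 [(nat_lit 0x706050403000201), (nat_lit 0x507060403020100), (nat_lit 0x201000304070605)] Cy_t (nat_lit 18) = true := by decide +kernel

noncomputable def CV_t : ST :=
(.node (nat_lit 0x607040500010203) (.node (nat_lit 0x504070600010203) (.node (nat_lit 0x405060702000103) (.node (nat_lit 0x405060701000302) (.node (nat_lit 0x405060700020301) (.leaf (nat_lit 0x405060700010203) (nat_lit 1539))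
 (.node (nat_lit 0x405060700030102) (.leaf (nat_lit 0x405060700020301) (nat_lit 1283))
 (.leaf (nat_lit 0x405060700030102) (nat_lit 1027))
)) (.node (nat_lit 0x405060701020003) (.leaf (nat_lit 0x405060701000302) (nat_lit 1539))
 (.node (nat_lit 0x405060701030200) (.leaf (nat_lit 0x405060701020003) (nat_lit 1282))
 (.leaf (nat_lit 0x405060701030200) (nat_lit 1283))
))) (.node (nat_lit 0x405060703000201) (.node (nat_lit 0x405060702010300) (.leaf (nat_lit 0x405060702000103) (nat_lit 1282))
 (.node (nat_lit 0x405060702030001) (.leaf (nat_lit 0x405060702010300) (nat_lit 1026))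
 (.leaf (nat_lit 0x405060702030001) (nat_lit 770))
)) (.node (nat_lit 0x405060703010002) (.leaf (nat_lit 0x405060703000201) (nat_lit 771))
 (.node (nat_lit 0x405060703020100) (.leaf (nat_lit 0x405060703010002) (nat_lit 1027))
 (.leaf (nat_lit 0x405060703020100) (nat_lit 513))
)))) (.node (nat_lit 0x504070602000103) (.node (nat_lit 0x504070601000302) (.node (nat_lit 0x504070600020301) (.leaf (nat_lit 0x504070600010203) (nat_lit 1283))
 (.node (nat_lit 0x504070600030102) (.leaf (nat_lit 0x504070600020301) (nat_lit 1027))
 (.leaf (nat_lit 0x504070600030102) (nat_lit 771))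
)) (.node (nat_lit 0x504070601020003) (.leaf (nat_lit 0x504070601000302) (nat_lit 1283))
 (.node (nat_lit 0x504070601030200) (.leaf (nat_lit 0x504070601020003) (nat_lit 1026))
 (.leaf (nat_lit 0x504070601030200) (nat_lit 1027))
))) (.node (nat_lit 0x504070603000201) (.node (nat_lit 0x504070602010300) (.leaf (nat_lit 0x504070602000103) (nat_lit 1026))
 (.node (nat_lit 0x504070602030001) (.leaf (nat_lit 0x504070602010300) (nat_lit 770))
 (.leaf (nat_lit 0x504070602030001) (nat_lit 514))
)) (.node (nat_lit 0x504070603010002) (.leaf (nat_lit 0x504070603000201) (nat_lit 515))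
 (.node (nat_lit 0x504070603020100) (.leaf (nat_lit 0x504070603010002) (nat_lit 771))
 (.leaf (nat_lit 0x504070603020100) (nat_lit 257))
))))) (.node (nat_lit 0x706050400010203) (.node (nat_lit 0x607040502000103) (.node (nat_lit 0x607040501000302) (.node (nat_lit 0x607040500020301) (.leaf (nat_lit 0x607040500010203) (nat_lit 1283))
 (.node (nat_lit 0x607040500030102) (.leaf (nat_lit 0x607040500020301) (nat_lit 1027))
 (.leaf (nat_lit 0x607040500030102) (nat_lit 771))
)) (.node (nat_lit 0x607040501020003) (.leaf (nat_lit 0x607040501000302) (nat_lit 1283))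
 (.node (nat_lit 0x607040501030200) (.leaf (nat_lit 0x607040501020003) (nat_lit 1026))
 (.leaf (nat_lit 0x607040501030200) (nat_lit 1027))
))) (.node (nat_lit 0x607040503000201) (.node (nat_lit 0x607040502010300) (.leaf (nat_lit 0x607040502000103) (nat_lit 1026))
 (.node (nat_lit 0x607040502030001) (.leaf (nat_lit 0x607040502010300) (nat_lit 770))
 (.leaf (nat_lit 0x607040502030001) (nat_lit 514))
)) (.node (nat_lit 0x607040503010002) (.leaf (nat_lit 0x607040503000201) (nat_lit 515))
 (.node (nat_lit 0x607040503020100) (.leaf (nat_lit 0x607040503010002) (nat_lit 771))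
 (.leaf (nat_lit 0x607040503020100) (nat_lit 256))
)))) (.node (nat_lit 0x706050402000103) (.node (nat_lit 0x706050401000302) (.node (nat_lit 0x706050400020301) (.leaf (nat_lit 0x706050400010203) (nat_lit 1027))
 (.node (nat_lit 0x706050400030102) (.leaf (nat_lit 0x706050400020301) (nat_lit 771))
 (.leaf (nat_lit 0x706050400030102) (nat_lit 515))
)) (.node (nat_lit 0x706050401020003) (.leaf (nat_lit 0x706050401000302) (nat_lit 1027))
 (.node (nat_lit 0x706050401030200) (.leaf (nat_lit 0x706050401020003) (nat_lit 770))
 (.leaf (nat_lit 0x706050401030200) (nat_lit 771))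
))) (.node (nat_lit 0x706050403000201) (.node (nat_lit 0x706050402010300) (.leaf (nat_lit 0x706050402000103) (nat_lit 770))
 (.node (nat_lit 0x706050402030001) (.leaf (nat_lit 0x706050402010300) (nat_lit 514))
 (.leaf (nat_lit 0x706050402030001) (nat_lit 258))
)) (.node (nat_lit 0x706050403010002) (.leaf (nat_lit 0x706050403000201) (nat_lit 259))
 (.node (nat_lit 0x706050403020100) (.leaf (nat_lit 0x706050403010002) (nat_lit 515))
 (.leaf (nat_lit 0x706050403020100) (nat_lit 0))
))))))

theorem CV_ok : genOK P8 [(nat_lit 0x607040503020100), (nat_lit 0x504070603020100), (nat_lit 0x706050402030001), (nat_lit 0x706050403000201)] CV_t (nat_lit 48) = true := by decide +kernel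

noncomputable def M_t : ST :=
(.node (nat_lit 0x607040500010203) (.node (nat_lit 0x504060700010302) (.node (nat_lit 0x405070600010302) (.node (nat_lit 0x405060702000103) (.node (nat_lit 0x405060701000302) (.node (nat_lit 0x405060700020301) (.leaf (nat_lit 0x405060700010203) (nat_lit 1539))
 (.node (nat_lit 0x405060700030102) (.leaf (nat_lit 0x405060700020301) (nat_lit 1283))
 (.leaf (nat_lit 0x405060700030102) (nat_lit 1027))
)) (.node (nat_lit 0x405060701020003) (.leaf (nat_lit 0x405060701000302) (nat_lit 1539))
 (.node (nat_lit 0x405060701030200) (.leaf (nat_lit 0x405060701020003) (nat_lit 1282))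
 (.leaf (nat_lit 0x405060701030200) (nat_lit 1283))
))) (.node (nat_lit 0x405060703000201) (.node (nat_lit 0x405060702010300) (.leaf (nat_lit 0x405060702000103) (nat_lit 1282))
 (.node (nat_lit 0x405060702030001) (.leaf (nat_lit 0x405060702010300) (nat_lit 1026))
 (.leaf (nat_lit 0x405060702030001) (nat_lit 770))
)) (.node (nat_lit 0x405060703010002) (.leaf (nat_lit 0x405060703000201) (nat_lit 771))
 (.node (nat_lit 0x405060703020100) (.leaf (nat_lit 0x405060703010002) (nat_lit 1027))
 (.leaf (nat_lit 0x405060703020100) (nat_lit 513))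
)))) (.node (nat_lit 0x405070602000301) (.node (nat_lit 0x405070601000203) (.node (nat_lit 0x405070600020103) (.leaf (nat_lit 0x405070600010302) (nat_lit 1283))
 (.node (nat_lit 0x405070600030201) (.leaf (nat_lit 0x405070600020103) (nat_lit 1284))
 (.leaf (nat_lit 0x405070600030201) (nat_lit 1027))
)) (.node (nat_lit 0x405070601020300) (.leaf (nat_lit 0x405070601000203) (nat_lit 1539))
 (.node (nat_lit 0x405070601030002) (.leaf (nat_lit 0x405070601020300) (nat_lit 1282))
 (.leaf (nat_lit 0x405070601030002) (nat_lit 1028))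
))) (.node (nat_lit 0x405070603000102) (.node (nat_lit 0x405070602010003) (.leaf (nat_lit 0x405070602000301) (nat_lit 1028))
 (.node (nat_lit 0x405070602030100) (.leaf (nat_lit 0x405070602010003) (nat_lit 1026))
 (.leaf (nat_lit 0x405070602030100) (nat_lit 772))
)) (.node (nat_lit 0x405070603010200) (.leaf (nat_lit 0x405070603000102) (nat_lit 771))
 (.node (nat_lit 0x405070603020001) (.leaf (nat_lit 0x405070603010200) (nat_lit 772))
 (.leaf (nat_lit 0x405070603020001) (nat_lit 516))
))))) (.node (nat_lit 0x504070600010203) (.node (nat_lit 0x504060702000301) (.node (nat_lit 0x504060701000203) (.node (nat_lit 0x504060700020103) (.leaf (nat_lit 0x504060700010302) (nat_lit 1283))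
 (.node (nat_lit 0x504060700030201) (.leaf (nat_lit 0x504060700020103) (nat_lit 1281))
 (.leaf (nat_lit 0x504060700030201) (nat_lit 1027))
)) (.node (nat_lit 0x504060701020300) (.leaf (nat_lit 0x504060701000203) (nat_lit 1539))
 (.node (nat_lit 0x504060701030002) (.leaf (nat_lit 0x504060701020300) (nat_lit 1282))
 (.leaf (nat_lit 0x504060701030002) (nat_lit 1025))
))) (.node (nat_lit 0x504060703000102) (.node (nat_lit 0x504060702010003) (.leaf (nat_lit 0x504060702000301) (nat_lit 1025))
 (.node (nat_lit 0x504060702030100) (.leaf (nat_lit 0x504060702010003) (nat_lit 1026))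
 (.leaf (nat_lit 0x504060702030100) (nat_lit 769))
)) (.node (nat_lit 0x504060703010200) (.leaf (nat_lit 0x504060703000102) (nat_lit 771))
 (.node (nat_lit 0x504060703020001) (.leaf (nat_lit 0x504060703010200) (nat_lit 769))
 (.leaf (nat_lit 0x504060703020001) (nat_lit 513))
)))) (.node (nat_lit 0x504070602000103) (.node (nat_lit 0x504070601000302) (.node (nat_lit 0x504070600020301) (.leaf (nat_lit 0x504070600010203) (nat_lit 1283))
 (.node (nat_lit 0x504070600030102) (.leaf (nat_lit 0x504070600020301) (nat_lit 1027))
 (.leaf (nat_lit 0x504070600030102) (nat_lit 771))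
)) (.node (nat_lit 0x504070601020003) (.leaf (nat_lit 0x504070601000302) (nat_lit 1283))
 (.node (nat_lit 0x504070601030200) (.leaf (nat_lit 0x504070601020003) (nat_lit 1026))
 (.leaf (nat_lit 0x504070601030200) (nat_lit 1027))
))) (.node (nat_lit 0x504070603000201) (.node (nat_lit 0x504070602010300) (.leaf (nat_lit 0x504070602000103) (nat_lit 1026))
 (.node (nat_lit 0x504070602030001) (.leaf (nat_lit 0x504070602010300) (nat_lit 770))
 (.leaf (nat_lit 0x504070602030001) (nat_lit 514))
)) (.node (nat_lit 0x504070603010002) (.leaf (nat_lit 0x504070603000201) (nat_lit 515))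
 (.node (nat_lit 0x504070603020100) (.leaf (nat_lit 0x504070603010002) (nat_lit 771))
 (.leaf (nat_lit 0x504070603020100) (nat_lit 257))
)))))) (.node (nat_lit 0x706040500010302) (.node (nat_lit 0x607050400010302) (.node (nat_lit 0x607040502000103) (.node (nat_lit 0x607040501000302) (.node (nat_lit 0x607040500020301) (.leaf (nat_lit 0x607040500010203) (nat_lit 1283))
 (.node (nat_lit 0x607040500030102) (.leaf (nat_lit 0x607040500020301) (nat_lit 1027))
 (.leaf (nat_lit 0x607040500030102) (nat_lit 771))
)) (.node (nat_lit 0x607040501020003) (.leaf (nat_lit 0x607040501000302) (nat_lit 1283))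
 (.node (nat_lit 0x607040501030200) (.leaf (nat_lit 0x607040501020003) (nat_lit 1026))
 (.leaf (nat_lit 0x607040501030200) (nat_lit 1027))
))) (.node (nat_lit 0x607040503000201) (.node (nat_lit 0x607040502010300) (.leaf (nat_lit 0x607040502000103) (nat_lit 1026))
 (.node (nat_lit 0x607040502030001) (.leaf (nat_lit 0x607040502010300) (nat_lit 770))
 (.leaf (nat_lit 0x607040502030001) (nat_lit 514))
)) (.node (nat_lit 0x607040503010002) (.leaf (nat_lit 0x607040503000201) (nat_lit 515))
 (.node (nat_lit 0x607040503020100) (.leaf (nat_lit 0x607040503010002) (nat_lit 771))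
 (.leaf (nat_lit 0x607040503020100) (nat_lit 256))
)))) (.node (nat_lit 0x607050402000301) (.node (nat_lit 0x607050401000203) (.node (nat_lit 0x607050400020103) (.leaf (nat_lit 0x607050400010302) (nat_lit 1283))
 (.node (nat_lit 0x607050400030201) (.leaf (nat_lit 0x607050400020103) (nat_lit 1284))
 (.leaf (nat_lit 0x607050400030201) (nat_lit 1027))
)) (.node (nat_lit 0x607050401020300) (.leaf (nat_lit 0x607050401000203) (nat_lit 1539))
 (.node (nat_lit 0x607050401030002) (.leaf (nat_lit 0x607050401020300) (nat_lit 1282))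
 (.leaf (nat_lit 0x607050401030002) (nat_lit 1028))
))) (.node (nat_lit 0x607050403000102) (.node (nat_lit 0x607050402010003) (.leaf (nat_lit 0x607050402000301) (nat_lit 1028))
 (.node (nat_lit 0x607050402030100) (.leaf (nat_lit 0x607050402010003) (nat_lit 1026))
 (.leaf (nat_lit 0x607050402030100) (nat_lit 772))
)) (.node (nat_lit 0x607050403010200) (.leaf (nat_lit 0x607050403000102) (nat_lit 771))
 (.node (nat_lit 0x607050403020001) (.leaf (nat_lit 0x607050403010200) (nat_lit 772))
 (.leaf (nat_lit 0x607050403020001) (nat_lit 516))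
))))) (.node (nat_lit 0x706050400010203) (.node (nat_lit 0x706040502000301) (.node (nat_lit 0x706040501000203) (.node (nat_lit 0x706040500020103) (.leaf (nat_lit 0x706040500010302) (nat_lit 1027))
 (.node (nat_lit 0x706040500030201) (.leaf (nat_lit 0x706040500020103) (nat_lit 1028))
 (.leaf (nat_lit 0x706040500030201) (nat_lit 771))
)) (.node (nat_lit 0x706040501020300) (.leaf (nat_lit 0x706040501000203) (nat_lit 1283))
 (.node (nat_lit 0x706040501030002) (.leaf (nat_lit 0x706040501020300) (nat_lit 1026))
 (.leaf (nat_lit 0x706040501030002) (nat_lit 772))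
))) (.node (nat_lit 0x706040503000102) (.node (nat_lit 0x706040502010003) (.leaf (nat_lit 0x706040502000301) (nat_lit 772))
 (.node (nat_lit 0x706040502030100) (.leaf (nat_lit 0x706040502010003) (nat_lit 770))
 (.leaf (nat_lit 0x706040502030100) (nat_lit 516))
)) (.node (nat_lit 0x706040503010200) (.leaf (nat_lit 0x706040503000102) (nat_lit 515))
 (.node (nat_lit 0x706040503020001) (.leaf (nat_lit 0x706040503010200) (nat_lit 516))
 (.leaf (nat_lit 0x706040503020001) (nat_lit 260))
)))) (.node (nat_lit 0x706050402000103) (.node (nat_lit 0x706050401000302) (.node (nat_lit 0x706050400020301) (.leaf (nat_lit 0x706050400010203) (nat_lit 1027))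
 (.node (nat_lit 0x706050400030102) (.leaf (nat_lit 0x706050400020301) (nat_lit 771))
 (.leaf (nat_lit 0x706050400030102) (nat_lit 515))
)) (.node (nat_lit 0x706050401020003) (.leaf (nat_lit 0x706050401000302) (nat_lit 1027))
 (.node (nat_lit 0x706050401030200) (.leaf (nat_lit 0x706050401020003) (nat_lit 770))
 (.leaf (nat_lit 0x706050401030200) (nat_lit 771))
))) (.node (nat_lit 0x706050403000201) (.node (nat_lit 0x706050402010300) (.leaf (nat_lit 0x706050402000103) (nat_lit 770))
 (.node (nat_lit 0x706050402030001) (.leaf (nat_lit 0x706050402010300) (nat_lit 514))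
 (.leaf (nat_lit 0x706050402030001) (nat_lit 258))
)) (.node (nat_lit 0x706050403010002) (.leaf (nat_lit 0x706050403000201) (nat_lit 259))
 (.node (nat_lit 0x706050403020100) (.leaf (nat_lit 0x706050403010002) (nat_lit 515))
 (.leaf (nat_lit 0x706050403020100) (nat_lit 0))
)))))))

theorem M_ok : genOK P8 [(nat_lit 0x607040503020100), (nat_lit 0x504070603020100), (nat_lit 0x706050402030001), (nat_lit 0x706050403000201), (nat_lit 0x706040503020001)] M_t (nat_lit 96) = true := by decide +kernel

noncomputable def R_t : ST :=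
(.node (nat_lit 0x607040500010203) (.node (nat_lit 0x504060700010302) (.node (nat_lit 0x405070600010302) (.node (nat_lit 0x405060702030001) (.node (nat_lit 0x405060701000302) (.leaf (nat_lit 0x405060700010203) (nat_lit 771))
 (.leaf (nat_lit 0x405060701000302) (nat_lit 1027))
) (.node (nat_lit 0x405060703020100) (.leaf (nat_lit 0x405060702030001) (nat_lit 770))
 (.leaf (nat_lit 0x405060703020100) (nat_lit 513))
)) (.node (nat_lit 0x405070602030100) (.node (nat_lit 0x405070601000203) (.leaf (nat_lit 0x405070600010302) (nat_lit 771))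
 (.leaf (nat_lit 0x405070601000203) (nat_lit 772))
) (.node (nat_lit 0x405070603020001) (.leaf (nat_lit 0x405070602030100) (nat_lit 772))
 (.leaf (nat_lit 0x405070603020001) (nat_lit 516))
))) (.node (nat_lit 0x504070600010203) (.node (nat_lit 0x504060702030100) (.node (nat_lit 0x504060701000203) (.leaf (nat_lit 0x504060700010302) (nat_lit 771))
 (.leaf (nat_lit 0x504060701000203) (nat_lit 769))
) (.node (nat_lit 0x504060703020001) (.leaf (nat_lit 0x504060702030100) (nat_lit 769))
 (.leaf (nat_lit 0x504060703020001) (nat_lit 513))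
)) (.node (nat_lit 0x504070602030001) (.node (nat_lit 0x504070601000302) (.leaf (nat_lit 0x504070600010203) (nat_lit 515))
 (.leaf (nat_lit 0x504070601000302) (nat_lit 771))
) (.node (nat_lit 0x504070603020100) (.leaf (nat_lit 0x504070602030001) (nat_lit 514))
 (.leaf (nat_lit 0x504070603020100) (nat_lit 257))
)))) (.node (nat_lit 0x706040500010302) (.node (nat_lit 0x607050400010302) (.node (nat_lit 0x607040502030001) (.node (nat_lit 0x607040501000302) (.leaf (nat_lit 0x607040500010203) (nat_lit 515))
 (.leaf (nat_lit 0x607040501000302) (nat_lit 771))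
) (.node (nat_lit 0x607040503020100) (.leaf (nat_lit 0x607040502030001) (nat_lit 514))
 (.leaf (nat_lit 0x607040503020100) (nat_lit 256))
)) (.node (nat_lit 0x607050402030100) (.node (nat_lit 0x607050401000203) (.leaf (nat_lit 0x607050400010302) (nat_lit 771))
 (.leaf (nat_lit 0x607050401000203) (nat_lit 772))
) (.node (nat_lit 0x607050403020001) (.leaf (nat_lit 0x607050402030100) (nat_lit 772))
 (.leaf (nat_lit 0x607050403020001) (nat_lit 516))
))) (.node (nat_lit 0x706050400010203) (.node (nat_lit 0x706040502030100) (.node (nat_lit 0x706040501000203) (.leaf (nat_lit 0x706040500010302) (nat_lit 515))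
 (.leaf (nat_lit 0x706040501000203) (nat_lit 516))
) (.node (nat_lit 0x706040503020001) (.leaf (nat_lit 0x706040502030100) (nat_lit 516))
 (.leaf (nat_lit 0x706040503020001) (nat_lit 260))
)) (.node (nat_lit 0x706050402030001) (.node (nat_lit 0x706050401000302) (.leaf (nat_lit 0x706050400010203) (nat_lit 259))
 (.leaf (nat_lit 0x706050401000302) (nat_lit 515))
) (.node (nat_lit 0x706050403020100) (.leaf (nat_lit 0x706050402030001) (nat_lit 258))
 (.leaf (nat_lit 0x706050403020100) (nat_lit 0))
)))))

theorem R_ok : genOK P8 [(nat_lit 0x607040503020100), (nat_lit 0x504070603020100), (nat_lit 0x706050402030001), (nat_lit 0x706050400010203), (nat_lit 0x706040503020001)] R_t (nat_lit 32) = true := by decide +kernel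

noncomputable def H_t : ST :=
(.node (nat_lit 0x400010702030506) (.node (nat_lit 0x200010304070506) (.node (nat_lit 0x100020304060507) (.node (nat_lit 0x4010702050306) (.node (nat_lit 0x2040601050703) (.node (nat_lit 0x1070403050602) (.node (nat_lit 0x1030207050604) (.leaf (nat_lit 0x1020304050607) (nat_lit 2307))
 (.node (nat_lit 0x1040702050603) (.leaf (nat_lit 0x1030207050604) (nat_lit 1794))
 (.leaf (nat_lit 0x1040702050603) (nat_lit 1027))
)) (.node (nat_lit 0x2010304050706) (.leaf (nat_lit 0x1070403050602) (nat_lit 770))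
 (.node (nat_lit 0x2030106050704) (.leaf (nat_lit 0x2010304050706) (nat_lit 2051))
 (.leaf (nat_lit 0x2030106050704) (nat_lit 1794))
))) (.node (nat_lit 0x3020106050407) (.node (nat_lit 0x2060403050701) (.leaf (nat_lit 0x2040601050703) (nat_lit 1537))
 (.node (nat_lit 0x3010207050406) (.leaf (nat_lit 0x2060403050701) (nat_lit 770))
 (.leaf (nat_lit 0x3010207050406) (nat_lit 2050))
)) (.node (nat_lit 0x3060702050401) (.leaf (nat_lit 0x3020106050407) (nat_lit 1538))
 (.node (nat_lit 0x3070601050402) (.leaf (nat_lit 0x3060702050401) (nat_lit 1283))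
 (.leaf (nat_lit 0x3070601050402) (nat_lit 1539))
)))) (.node (nat_lit 0x6040207050103) (.node (nat_lit 0x4070106050302) (.node (nat_lit 0x4020601050307) (.leaf (nat_lit 0x4010702050306) (nat_lit 1027))
 (.node (nat_lit 0x4060207050301) (.leaf (nat_lit 0x4020601050307) (nat_lit 1280))
 (.leaf (nat_lit 0x4060207050301) (nat_lit 1792))
)) (.node (nat_lit 0x6020403050107) (.leaf (nat_lit 0x4070106050302) (nat_lit 1282))
 (.node (nat_lit 0x6030702050104) (.leaf (nat_lit 0x6020403050107) (nat_lit 1025))
 (.leaf (nat_lit 0x6030702050104) (nat_lit 1027))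
))) (.node (nat_lit 0x7030601050204) (.node (nat_lit 0x6070304050102) (.leaf (nat_lit 0x6040207050103) (nat_lit 1538))
 (.node (nat_lit 0x7010403050206) (.leaf (nat_lit 0x6070304050102) (nat_lit 2051))
 (.leaf (nat_lit 0x7010403050206) (nat_lit 514))
)) (.node (nat_lit 0x7040106050203) (.leaf (nat_lit 0x7030601050204) (nat_lit 1539))
 (.node (nat_lit 0x7060304050201) (.leaf (nat_lit 0x7040106050203) (nat_lit 1538))
 (.leaf (nat_lit 0x7060304050201) (nat_lit 1795))
))))) (.node (nat_lit 0x104000702060305) (.node (nat_lit 0x102040500060703) (.node (nat_lit 0x100070403060502) (.node (nat_lit 0x100030207060504) (.leaf (nat_lit 0x100020304060507) (nat_lit 2051))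
 (.node (nat_lit 0x100040702060503) (.leaf (nat_lit 0x100030207060504) (nat_lit 2048))
 (.leaf (nat_lit 0x100040702060503) (nat_lit 1027))
)) (.node (nat_lit 0x102000304060705) (.leaf (nat_lit 0x100070403060502) (nat_lit 770))
 (.node (nat_lit 0x102030005060704) (.leaf (nat_lit 0x102000304060705) (nat_lit 2307))
 (.leaf (nat_lit 0x102030005060704) (nat_lit 1538))
))) (.node (nat_lit 0x103020005060407) (.node (nat_lit 0x102050403060700) (.leaf (nat_lit 0x102040500060703) (nat_lit 1280))
 (.node (nat_lit 0x103000207060405) (.leaf (nat_lit 0x102050403060700) (nat_lit 1024))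
 (.leaf (nat_lit 0x103000207060405) (nat_lit 1792))
)) (.node (nat_lit 0x103050702060400) (.leaf (nat_lit 0x103020005060407) (nat_lit 1538))
 (.node (nat_lit 0x103070500060402) (.leaf (nat_lit 0x103050702060400) (nat_lit 1027))
 (.leaf (nat_lit 0x103070500060402) (nat_lit 1536))
)))) (.node (nat_lit 0x105040207060003) (.node (nat_lit 0x104070005060302) (.node (nat_lit 0x104020500060307) (.leaf (nat_lit 0x104000702060305) (nat_lit 771))
 (.node (nat_lit 0x104050207060300) (.leaf (nat_lit 0x104020500060307) (nat_lit 1280))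
 (.leaf (nat_lit 0x104050207060300) (nat_lit 1536))
)) (.node (nat_lit 0x105020403060007) (.leaf (nat_lit 0x104070005060302) (nat_lit 1282))
 (.node (nat_lit 0x105030702060004) (.leaf (nat_lit 0x105020403060007) (nat_lit 768))
 (.leaf (nat_lit 0x105030702060004) (nat_lit 1283))
))) (.node (nat_lit 0x107030500060204) (.node (nat_lit 0x105070304060002) (.leaf (nat_lit 0x105040207060003) (nat_lit 1792))
 (.node (nat_lit 0x107000403060205) (.leaf (nat_lit 0x105070304060002) (nat_lit 1795))
 (.leaf (nat_lit 0x107000403060205) (nat_lit 770))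
)) (.node (nat_lit 0x107040005060203) (.leaf (nat_lit 0x107030500060204) (nat_lit 1280))
 (.node (nat_lit 0x107050304060200) (.leaf (nat_lit 0x107040005060203) (nat_lit 1282))
 (.leaf (nat_lit 0x107050304060200) (nat_lit 2051))
)))))) (.node (nat_lit 0x300010207040506) (.node (nat_lit 0x204000601070305) (.node (nat_lit 0x201040500070603) (.node (nat_lit 0x200060403070501) (.node (nat_lit 0x200030106070504) (.leaf (nat_lit 0x200010304070506) (nat_lit 2563))
 (.node (nat_lit 0x200040601070503) (.leaf (nat_lit 0x200030106070504) (nat_lit 1794))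
 (.leaf (nat_lit 0x200040601070503) (nat_lit 1536))
)) (.node (nat_lit 0x201000304070605) (.leaf (nat_lit 0x200060403070501) (nat_lit 1281))
 (.node (nat_lit 0x201030005070604) (.leaf (nat_lit 0x201000304070605) (nat_lit 2307))
 (.leaf (nat_lit 0x201030005070604) (nat_lit 1794))
))) (.node (nat_lit 0x203010005070406) (.node (nat_lit 0x201050403070600) (.leaf (nat_lit 0x201040500070603) (nat_lit 1280))
 (.node (nat_lit 0x203000106070405) (.leaf (nat_lit 0x201050403070600) (nat_lit 1024))
 (.leaf (nat_lit 0x203000106070405) (nat_lit 1792))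
)) (.node (nat_lit 0x203050601070400) (.leaf (nat_lit 0x203010005070406) (nat_lit 1538))
 (.node (nat_lit 0x203060500070401) (.leaf (nat_lit 0x203050601070400) (nat_lit 1537))
 (.leaf (nat_lit 0x203060500070401) (nat_lit 1280))
)))) (.node (nat_lit 0x205040106070003) (.node (nat_lit 0x204060005070301) (.node (nat_lit 0x204010500070306) (.leaf (nat_lit 0x204000601070305) (nat_lit 1281))
 (.node (nat_lit 0x204050106070300) (.leaf (nat_lit 0x204010500070306) (nat_lit 1024))
 (.leaf (nat_lit 0x204050106070300) (nat_lit 1536))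
)) (.node (nat_lit 0x205010403070006) (.leaf (nat_lit 0x204060005070301) (nat_lit 1282))
 (.node (nat_lit 0x205030601070004) (.leaf (nat_lit 0x205010403070006) (nat_lit 1024))
 (.leaf (nat_lit 0x205030601070004) (nat_lit 1536))
))) (.node (nat_lit 0x206030500070104) (.node (nat_lit 0x205060304070001) (.leaf (nat_lit 0x205040106070003) (nat_lit 1536))
 (.node (nat_lit 0x206000403070105) (.leaf (nat_lit 0x205060304070001) (nat_lit 2304))
 (.leaf (nat_lit 0x206000403070105) (nat_lit 1024))
)) (.node (nat_lit 0x206040005070103) (.leaf (nat_lit 0x206030500070104) (nat_lit 1536))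
 (.node (nat_lit 0x206050304070100) (.leaf (nat_lit 0x206040005070103) (nat_lit 1538))
 (.leaf (nat_lit 0x206050304070100) (nat_lit 2051))
))))) (.node (nat_lit 0x305010702040006) (.node (nat_lit 0x301050702040600) (.node (nat_lit 0x300070601040502) (.node (nat_lit 0x300020106040507) (.leaf (nat_lit 0x300010207040506) (nat_lit 2050))
 (.node (nat_lit 0x300060702040501) (.leaf (nat_lit 0x300020106040507) (nat_lit 2050))
 (.leaf (nat_lit 0x300060702040501) (nat_lit 1283))
)) (.node (nat_lit 0x301000207040605) (.leaf (nat_lit 0x300070601040502) (nat_lit 1539))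
 (.node (nat_lit 0x301020005040607) (.leaf (nat_lit 0x301000207040605) (nat_lit 2304))
 (.leaf (nat_lit 0x301020005040607) (nat_lit 1794))
))) (.node (nat_lit 0x302010005040706) (.node (nat_lit 0x301070500040602) (.leaf (nat_lit 0x301050702040600) (nat_lit 1539))
 (.node (nat_lit 0x302000106040705) (.leaf (nat_lit 0x301070500040602) (nat_lit 1536))
 (.leaf (nat_lit 0x302000106040705) (nat_lit 1795))
)) (.node (nat_lit 0x302050601040700) (.leaf (nat_lit 0x302010005040706) (nat_lit 2050))
 (.node (nat_lit 0x302060500040701) (.leaf (nat_lit 0x302050601040700) (nat_lit 1539))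
 (.leaf (nat_lit 0x302060500040701) (nat_lit 1792))
)))) (.node (nat_lit 0x306050207040100) (.node (nat_lit 0x305070106040002) (.node (nat_lit 0x305020601040007) (.leaf (nat_lit 0x305010702040006) (nat_lit 1283))
 (.node (nat_lit 0x305060207040001) (.leaf (nat_lit 0x305020601040007) (nat_lit 1792))
 (.leaf (nat_lit 0x305060207040001) (nat_lit 1792))
)) (.node (nat_lit 0x306000702040105) (.leaf (nat_lit 0x305070106040002) (nat_lit 1795))
 (.node (nat_lit 0x306020500040107) (.leaf (nat_lit 0x306000702040105) (nat_lit 1283))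
 (.leaf (nat_lit 0x306020500040107) (nat_lit 1536))
))) (.node (nat_lit 0x307010500040206) (.node (nat_lit 0x306070005040102) (.leaf (nat_lit 0x306050207040100) (nat_lit 2049))
 (.node (nat_lit 0x307000601040205) (.leaf (nat_lit 0x306070005040102) (nat_lit 1794))
 (.leaf (nat_lit 0x307000601040205) (nat_lit 1283))
)) (.node (nat_lit 0x307050106040200) (.leaf (nat_lit 0x307010500040206) (nat_lit 1536))
 (.node (nat_lit 0x307060005040201) (.leaf (nat_lit 0x307050106040200) (nat_lit 1539))
 (.leaf (nat_lit 0x307060005040201) (nat_lit 1794))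
))))))) (.node (nat_lit 0x600020403010507) (.node (nat_lit 0x501020403000607) (.node (nat_lit 0x405010207030006) (.node (nat_lit 0x401050207030600) (.node (nat_lit 0x400070106030502) (.node (nat_lit 0x400020601030507) (.leaf (nat_lit 0x400010702030506) (nat_lit 515))
 (.node (nat_lit 0x400060207030501) (.leaf (nat_lit 0x400020601030507) (nat_lit 1025))
 (.leaf (nat_lit 0x400060207030501) (nat_lit 1280))
)) (.node (nat_lit 0x401000702030605) (.leaf (nat_lit 0x400070106030502) (nat_lit 1026))
 (.node (nat_lit 0x401020500030607) (.leaf (nat_lit 0x401000702030605) (nat_lit 771))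
 (.leaf (nat_lit 0x401020500030607) (nat_lit 768))
))) (.node (nat_lit 0x402010500030706) (.node (nat_lit 0x401070005030602) (.leaf (nat_lit 0x401050207030600) (nat_lit 1280))
 (.node (nat_lit 0x402000601030705) (.leaf (nat_lit 0x401070005030602) (nat_lit 770))
 (.leaf (nat_lit 0x402000601030705) (nat_lit 1024))
)) (.node (nat_lit 0x402050106030700) (.leaf (nat_lit 0x402010500030706) (nat_lit 1024))
 (.node (nat_lit 0x402060005030701) (.leaf (nat_lit 0x402050106030700) (nat_lit 1024))
 (.leaf (nat_lit 0x402060005030701) (nat_lit 1282))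
)))) (.node (nat_lit 0x406050702030100) (.node (nat_lit 0x405070601030002) (.node (nat_lit 0x405020106030007) (.leaf (nat_lit 0x405010207030006) (nat_lit 1280))
 (.node (nat_lit 0x405060702030001) (.leaf (nat_lit 0x405020106030007) (nat_lit 1280))
 (.leaf (nat_lit 0x405060702030001) (nat_lit 259))
)) (.node (nat_lit 0x406000207030105) (.leaf (nat_lit 0x405070601030002) (nat_lit 769))
 (.node (nat_lit 0x406020005030107) (.leaf (nat_lit 0x406000207030105) (nat_lit 1536))
 (.leaf (nat_lit 0x406020005030107) (nat_lit 1026))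
))) (.node (nat_lit 0x407010005030206) (.node (nat_lit 0x406070500030102) (.leaf (nat_lit 0x406050702030100) (nat_lit 515))
 (.node (nat_lit 0x407000106030205) (.leaf (nat_lit 0x406070500030102) (nat_lit 512))
 (.leaf (nat_lit 0x407000106030205) (nat_lit 1026))
)) (.node (nat_lit 0x407050601030200) (.leaf (nat_lit 0x407010005030206) (nat_lit 1026))
 (.node (nat_lit 0x407060500030201) (.leaf (nat_lit 0x407050601030200) (nat_lit 768))
 (.leaf (nat_lit 0x407060500030201) (nat_lit 768))
))))) (.node (nat_lit 0x504010207000306) (.node (nat_lit 0x502040106000703) (.node (nat_lit 0x501070304000602) (.node (nat_lit 0x501030702000604) (.leaf (nat_lit 0x501020403000607) (nat_lit 768))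
 (.node (nat_lit 0x501040207000603) (.leaf (nat_lit 0x501030702000604) (nat_lit 1027))
 (.leaf (nat_lit 0x501040207000603) (nat_lit 1280))
)) (.node (nat_lit 0x502010403000706) (.leaf (nat_lit 0x501070304000602) (nat_lit 1792))
 (.node (nat_lit 0x502030601000704) (.leaf (nat_lit 0x502010403000706) (nat_lit 512))
 (.leaf (nat_lit 0x502030601000704) (nat_lit 1536))
))) (.node (nat_lit 0x503020601000407) (.node (nat_lit 0x502060304000701) (.leaf (nat_lit 0x502040106000703) (nat_lit 1536))
 (.node (nat_lit 0x503010702000406) (.leaf (nat_lit 0x502060304000701) (nat_lit 1792))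
 (.leaf (nat_lit 0x503010702000406) (nat_lit 1027))
)) (.node (nat_lit 0x503060207000401) (.leaf (nat_lit 0x503020601000407) (nat_lit 1280))
 (.node (nat_lit 0x503070106000402) (.leaf (nat_lit 0x503060207000401) (nat_lit 1792))
 (.leaf (nat_lit 0x503070106000402) (nat_lit 1536))
)))) (.node (nat_lit 0x506040702000103) (.node (nat_lit 0x504070601000302) (.node (nat_lit 0x504020106000307) (.leaf (nat_lit 0x504010207000306) (nat_lit 1536))
 (.node (nat_lit 0x504060702000301) (.leaf (nat_lit 0x504020106000307) (nat_lit 1280))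
 (.leaf (nat_lit 0x504060702000301) (nat_lit 771))
)) (.node (nat_lit 0x506020304000107) (.leaf (nat_lit 0x504070601000302) (nat_lit 1024))
 (.node (nat_lit 0x506030207000104) (.leaf (nat_lit 0x506020304000107) (nat_lit 2048))
 (.leaf (nat_lit 0x506030207000104) (nat_lit 1536))
))) (.node (nat_lit 0x507030106000204) (.node (nat_lit 0x506070403000102) (.leaf (nat_lit 0x506040702000103) (nat_lit 771))
 (.node (nat_lit 0x507010304000206) (.leaf (nat_lit 0x506070403000102) (nat_lit 512))
 (.leaf (nat_lit 0x507010304000206) (nat_lit 1795))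
)) (.node (nat_lit 0x507040601000203) (.leaf (nat_lit 0x507030106000204) (nat_lit 1795))
 (.node (nat_lit 0x507060403000201) (.leaf (nat_lit 0x507040601000203) (nat_lit 1281))
 (.leaf (nat_lit 0x507060403000201) (nat_lit 256))
)))))) (.node (nat_lit 0x700010403020506) (.node (nat_lit 0x604000207010305) (.node (nat_lit 0x602040005010703) (.node (nat_lit 0x600070304010502) (.node (nat_lit 0x600030702010504) (.leaf (nat_lit 0x600020403010507) (nat_lit 768))
 (.node (nat_lit 0x600040207010503) (.leaf (nat_lit 0x600030702010504) (nat_lit 1027))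
 (.leaf (nat_lit 0x600040207010503) (nat_lit 1537))
)) (.node (nat_lit 0x602000403010705) (.leaf (nat_lit 0x600070304010502) (nat_lit 1539))
 (.node (nat_lit 0x602030500010704) (.leaf (nat_lit 0x602000403010705) (nat_lit 769))
 (.leaf (nat_lit 0x602030500010704) (nat_lit 1280))
))) (.node (nat_lit 0x603020500010407) (.node (nat_lit 0x602050304010700) (.leaf (nat_lit 0x602040005010703) (nat_lit 1538))
 (.node (nat_lit 0x603000702010405) (.leaf (nat_lit 0x602050304010700) (nat_lit 2051))
 (.leaf (nat_lit 0x603000702010405) (nat_lit 771))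
)) (.node (nat_lit 0x603050207010400) (.leaf (nat_lit 0x603020500010407) (nat_lit 1280))
 (.node (nat_lit 0x603070005010402) (.leaf (nat_lit 0x603050207010400) (nat_lit 1792))
 (.leaf (nat_lit 0x603070005010402) (nat_lit 1794))
)))) (.node (nat_lit 0x605040702010003) (.node (nat_lit 0x604070500010302) (.node (nat_lit 0x604020005010307) (.leaf (nat_lit 0x604000207010305) (nat_lit 1536))
 (.node (nat_lit 0x604050702010300) (.leaf (nat_lit 0x604020005010307) (nat_lit 1538))
 (.leaf (nat_lit 0x604050702010300) (nat_lit 515))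
)) (.node (nat_lit 0x605020304010007) (.leaf (nat_lit 0x604070500010302) (nat_lit 1024))
 (.node (nat_lit 0x605030207010004) (.leaf (nat_lit 0x605020304010007) (nat_lit 1795))
 (.leaf (nat_lit 0x605030207010004) (nat_lit 1793))
))) (.node (nat_lit 0x607030005010204) (.node (nat_lit 0x605070403010002) (.leaf (nat_lit 0x605040702010003) (nat_lit 771))
 (.node (nat_lit 0x607000304010205) (.leaf (nat_lit 0x605070403010002) (nat_lit 512))
 (.leaf (nat_lit 0x607000304010205) (nat_lit 1795))
)) (.node (nat_lit 0x607040500010203) (.leaf (nat_lit 0x607030005010204) (nat_lit 1538))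
 (.node (nat_lit 0x607050403010200) (.leaf (nat_lit 0x607040500010203) (nat_lit 1024))
 (.leaf (nat_lit 0x607050403010200) (nat_lit 513))
))))) (.node (nat_lit 0x704000106020305) (.node (nat_lit 0x701040005020603) (.node (nat_lit 0x700060304020501) (.node (nat_lit 0x700030601020504) (.leaf (nat_lit 0x700010403020506) (nat_lit 514))
 (.node (nat_lit 0x700040106020503) (.leaf (nat_lit 0x700030601020504) (nat_lit 1027))
 (.leaf (nat_lit 0x700040106020503) (nat_lit 1027))
)) (.node (nat_lit 0x701000403020605) (.leaf (nat_lit 0x700060304020501) (nat_lit 1539))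
 (.node (nat_lit 0x701030500020604) (.leaf (nat_lit 0x701000403020605) (nat_lit 258))
 (.leaf (nat_lit 0x701030500020604) (nat_lit 1280))
))) (.node (nat_lit 0x703010500020406) (.node (nat_lit 0x701050304020600) (.leaf (nat_lit 0x701040005020603) (nat_lit 1282))
 (.node (nat_lit 0x703000601020405) (.leaf (nat_lit 0x701050304020600) (nat_lit 1539))
 (.leaf (nat_lit 0x703000601020405) (nat_lit 1283))
)) (.node (nat_lit 0x703050106020400) (.leaf (nat_lit 0x703010500020406) (nat_lit 1024))
 (.node (nat_lit 0x703060005020401) (.leaf (nat_lit 0x703050106020400) (nat_lit 1539))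
 (.leaf (nat_lit 0x703060005020401) (nat_lit 1282))
)))) (.node (nat_lit 0x705040601020003) (.node (nat_lit 0x704060500020301) (.node (nat_lit 0x704010005020306) (.leaf (nat_lit 0x704000106020305) (nat_lit 1282))
 (.node (nat_lit 0x704050601020300) (.leaf (nat_lit 0x704010005020306) (nat_lit 1026))
 (.leaf (nat_lit 0x704050601020300) (nat_lit 1025))
)) (.node (nat_lit 0x705010304020006) (.leaf (nat_lit 0x704060500020301) (nat_lit 768))
 (.node (nat_lit 0x705030106020004) (.leaf (nat_lit 0x705010304020006) (nat_lit 1795))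
 (.leaf (nat_lit 0x705030106020004) (nat_lit 1283))
))) (.node (nat_lit 0x706030005020104) (.node (nat_lit 0x705060403020001) (.leaf (nat_lit 0x705040601020003) (nat_lit 771))
 (.node (nat_lit 0x706000304020105) (.leaf (nat_lit 0x705060403020001) (nat_lit 257))
 (.leaf (nat_lit 0x706000304020105) (nat_lit 1539))
)) (.node (nat_lit 0x706040500020103) (.leaf (nat_lit 0x706030005020104) (nat_lit 1538))
 (.node (nat_lit 0x706050403020100) (.leaf (nat_lit 0x706040500020103) (nat_lit 1024))
 (.leaf (nat_lit 0x706050403020100) (nat_lit 0))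
))))))))

theorem H_ok : genOK P8 [(nat_lit 0x507060403000201), (nat_lit 0x705060403020001), (nat_lit 0x701000403020605), (nat_lit 0x405060702030001)] H_t (nat_lit 192) = true := by decide +kernel

noncomputable def Q_t : ST :=
(.node (nat_lit 0x400010702030506) (.node (nat_lit 0x201000304070605) (.node (nat_lit 0x102030005060704) (.node (nat_lit 0x4020601050307) (.node (nat_lit 0x3070601050402) (.leaf (nat_lit 0x3020106050407) (nat_lit 1024))
 (.leaf (nat_lit 0x3070601050402) (nat_lit 771))
) (.node (nat_lit 0x4070106050302) (.leaf (nat_lit 0x4020601050307) (nat_lit 1027))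
 (.leaf (nat_lit 0x4070106050302) (nat_lit 768))
)) (.node (nat_lit 0x107030500060204) (.node (nat_lit 0x102040500060703) (.leaf (nat_lit 0x102030005060704) (nat_lit 768))
 (.leaf (nat_lit 0x102040500060703) (nat_lit 515))
) (.node (nat_lit 0x107040005060203) (.leaf (nat_lit 0x107030500060204) (nat_lit 771))
 (.leaf (nat_lit 0x107040005060203) (nat_lit 512))
))) (.node (nat_lit 0x300010207040506) (.node (nat_lit 0x206000403070105) (.node (nat_lit 0x201050403070600) (.leaf (nat_lit 0x201000304070605) (nat_lit 1027))
 (.leaf (nat_lit 0x201050403070600) (nat_lit 257))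
) (.node (nat_lit 0x206050304070100) (.leaf (nat_lit 0x206000403070105) (nat_lit 513))
 (.leaf (nat_lit 0x206050304070100) (nat_lit 771))
)) (.node (nat_lit 0x305010702040006) (.node (nat_lit 0x300060702040501) (.leaf (nat_lit 0x300010207040506) (nat_lit 769))
 (.leaf (nat_lit 0x300060702040501) (nat_lit 514))
) (.node (nat_lit 0x305060207040001) (.leaf (nat_lit 0x305010702040006) (nat_lit 770))
 (.leaf (nat_lit 0x305060207040001) (nat_lit 1025))
)))) (.node (nat_lit 0x602030500010704) (.node (nat_lit 0x503020601000407) (.node (nat_lit 0x405010207030006) (.node (nat_lit 0x400060207030501) (.leaf (nat_lit 0x400010702030506) (nat_lit 514))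
 (.leaf (nat_lit 0x400060207030501) (nat_lit 769))
) (.node (nat_lit 0x405060702030001) (.leaf (nat_lit 0x405010207030006) (nat_lit 513))
 (.leaf (nat_lit 0x405060702030001) (nat_lit 258))
)) (.node (nat_lit 0x504020106000307) (.node (nat_lit 0x503070106000402) (.leaf (nat_lit 0x503020601000407) (nat_lit 771))
 (.leaf (nat_lit 0x503070106000402) (nat_lit 1027))
) (.node (nat_lit 0x504070601000302) (.leaf (nat_lit 0x504020106000307) (nat_lit 771))
 (.leaf (nat_lit 0x504070601000302) (nat_lit 515))
))) (.node (nat_lit 0x701000403020605) (.node (nat_lit 0x607030005010204) (.node (nat_lit 0x602040005010703) (.leaf (nat_lit 0x602030500010704) (nat_lit 515))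
 (.leaf (nat_lit 0x602040005010703) (nat_lit 768))
) (.node (nat_lit 0x607040500010203) (.leaf (nat_lit 0x607030005010204) (nat_lit 1024))
 (.leaf (nat_lit 0x607040500010203) (nat_lit 259))
)) (.node (nat_lit 0x706000304020105) (.node (nat_lit 0x701050304020600) (.leaf (nat_lit 0x701000403020605) (nat_lit 256))
 (.leaf (nat_lit 0x701050304020600) (nat_lit 1026))
) (.node (nat_lit 0x706050403020100) (.leaf (nat_lit 0x706000304020105) (nat_lit 770))
 (.leaf (nat_lit 0x706050403020100) (nat_lit 0))
)))))

theorem Q_ok : genOK P8 [(nat_lit 0x701000403020605), (nat_lit 0x201050403070600), (nat_lit 0x405060702030001), (nat_lit 0x607040500010203)] Q_t (nat_lit 32) = true := by decide +kernel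

noncomputable def S_t : ST :=
(.node (nat_lit 0x400010702030506) (.node (nat_lit 0x200010304070506) (.node (nat_lit 0x102030005060704) (.node (nat_lit 0x4020601050307) (.node (nat_lit 0x3020106050407) (.node (nat_lit 0x2040601050703) (.leaf (nat_lit 0x2030106050704) (nat_lit 1028))
 (.leaf (nat_lit 0x2040601050703) (nat_lit 772))
) (.node (nat_lit 0x3070601050402) (.leaf (nat_lit 0x3020106050407) (nat_lit 1024))
 (.leaf (nat_lit 0x3070601050402) (nat_lit 771))
)) (.node (nat_lit 0x7030601050204) (.node (nat_lit 0x4070106050302) (.leaf (nat_lit 0x4020601050307) (nat_lit 1027))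
 (.leaf (nat_lit 0x4070106050302) (nat_lit 768))
) (.node (nat_lit 0x7040106050203) (.leaf (nat_lit 0x7030601050204) (nat_lit 1028))
 (.leaf (nat_lit 0x7040106050203) (nat_lit 772))
))) (.node (nat_lit 0x104020500060307) (.node (nat_lit 0x103020005060407) (.node (nat_lit 0x102040500060703) (.leaf (nat_lit 0x102030005060704) (nat_lit 768))
 (.leaf (nat_lit 0x102040500060703) (nat_lit 515))
) (.node (nat_lit 0x103070500060402) (.leaf (nat_lit 0x103020005060407) (nat_lit 1024))
 (.leaf (nat_lit 0x103070500060402) (nat_lit 771))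
)) (.node (nat_lit 0x107030500060204) (.node (nat_lit 0x104070005060302) (.leaf (nat_lit 0x104020500060307) (nat_lit 771))
 (.leaf (nat_lit 0x104070005060302) (nat_lit 768))
) (.node (nat_lit 0x107040005060203) (.leaf (nat_lit 0x107030500060204) (nat_lit 771))
 (.leaf (nat_lit 0x107040005060203) (nat_lit 512))
)))) (.node (nat_lit 0x300010207040506) (.node (nat_lit 0x205010403070006) (.node (nat_lit 0x201000304070605) (.node (nat_lit 0x200060403070501) (.leaf (nat_lit 0x200010304070506) (nat_lit 1284))
 (.leaf (nat_lit 0x200060403070501) (nat_lit 516))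
) (.node (nat_lit 0x201050403070600) (.leaf (nat_lit 0x201000304070605) (nat_lit 1027))
 (.leaf (nat_lit 0x201050403070600) (nat_lit 257))
)) (.node (nat_lit 0x206000403070105) (.node (nat_lit 0x205060304070001) (.leaf (nat_lit 0x205010403070006) (nat_lit 513))
 (.leaf (nat_lit 0x205060304070001) (nat_lit 1028))
) (.node (nat_lit 0x206050304070100) (.leaf (nat_lit 0x206000403070105) (nat_lit 513))
 (.leaf (nat_lit 0x206050304070100) (nat_lit 771))
))) (.node (nat_lit 0x305010702040006) (.node (nat_lit 0x301000207040605) (.node (nat_lit 0x300060702040501) (.leaf (nat_lit 0x300010207040506) (nat_lit 769))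
 (.leaf (nat_lit 0x300060702040501) (nat_lit 514))
) (.node (nat_lit 0x301050702040600) (.leaf (nat_lit 0x301000207040605) (nat_lit 1028))
 (.leaf (nat_lit 0x301050702040600) (nat_lit 772))
)) (.node (nat_lit 0x306000702040105) (.node (nat_lit 0x305060207040001) (.leaf (nat_lit 0x305010702040006) (nat_lit 770))
 (.leaf (nat_lit 0x305060207040001) (nat_lit 1025))
) (.node (nat_lit 0x306050207040100) (.leaf (nat_lit 0x306000702040105) (nat_lit 770))
 (.leaf (nat_lit 0x306050207040100) (nat_lit 1025))
))))) (.node (nat_lit 0x602030500010704) (.node (nat_lit 0x502030601000704) (.node (nat_lit 0x405010207030006) (.node (nat_lit 0x401000702030605) (.node (nat_lit 0x400060207030501) (.leaf (nat_lit 0x400010702030506) (nat_lit 514))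
 (.leaf (nat_lit 0x400060207030501) (nat_lit 769))
) (.node (nat_lit 0x401050207030600) (.leaf (nat_lit 0x401000702030605) (nat_lit 772))
 (.leaf (nat_lit 0x401050207030600) (nat_lit 769))
)) (.node (nat_lit 0x406000207030105) (.node (nat_lit 0x405060702030001) (.leaf (nat_lit 0x405010207030006) (nat_lit 513))
 (.leaf (nat_lit 0x405060702030001) (nat_lit 258))
) (.node (nat_lit 0x406050702030100) (.leaf (nat_lit 0x406000207030105) (nat_lit 772))
 (.leaf (nat_lit 0x406050702030100) (nat_lit 516))
))) (.node (nat_lit 0x504020106000307) (.node (nat_lit 0x503020601000407) (.node (nat_lit 0x502040106000703) (.leaf (nat_lit 0x502030601000704) (nat_lit 772))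
 (.leaf (nat_lit 0x502040106000703) (nat_lit 769))
) (.node (nat_lit 0x503070106000402) (.leaf (nat_lit 0x503020601000407) (nat_lit 771))
 (.leaf (nat_lit 0x503070106000402) (nat_lit 1027))
)) (.node (nat_lit 0x507030106000204) (.node (nat_lit 0x504070601000302) (.leaf (nat_lit 0x504020106000307) (nat_lit 771))
 (.leaf (nat_lit 0x504070601000302) (nat_lit 515))
) (.node (nat_lit 0x507040601000203) (.leaf (nat_lit 0x507030106000204) (nat_lit 1025))
 (.leaf (nat_lit 0x507040601000203) (nat_lit 516))
)))) (.node (nat_lit 0x700010403020506) (.node (nat_lit 0x604020005010307) (.node (nat_lit 0x603020500010407) (.node (nat_lit 0x602040005010703) (.leaf (nat_lit 0x602030500010704) (nat_lit 515))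
 (.leaf (nat_lit 0x602040005010703) (nat_lit 768))
) (.node (nat_lit 0x603070005010402) (.leaf (nat_lit 0x603020500010407) (nat_lit 771))
 (.leaf (nat_lit 0x603070005010402) (nat_lit 1024))
)) (.node (nat_lit 0x607030005010204) (.node (nat_lit 0x604070500010302) (.leaf (nat_lit 0x604020005010307) (nat_lit 1028))
 (.leaf (nat_lit 0x604070500010302) (nat_lit 515))
) (.node (nat_lit 0x607040500010203) (.leaf (nat_lit 0x607030005010204) (nat_lit 1024))
 (.leaf (nat_lit 0x607040500010203) (nat_lit 259))
))) (.node (nat_lit 0x705010304020006) (.node (nat_lit 0x701000403020605) (.node (nat_lit 0x700060304020501) (.leaf (nat_lit 0x700010403020506) (nat_lit 516))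
 (.leaf (nat_lit 0x700060304020501) (nat_lit 1026))
) (.node (nat_lit 0x701050304020600) (.leaf (nat_lit 0x701000403020605) (nat_lit 256))
 (.leaf (nat_lit 0x701050304020600) (nat_lit 1026))
)) (.node (nat_lit 0x706000304020105) (.node (nat_lit 0x705060403020001) (.leaf (nat_lit 0x705010304020006) (nat_lit 1028))
 (.leaf (nat_lit 0x705060403020001) (nat_lit 260))
) (.node (nat_lit 0x706050403020100) (.leaf (nat_lit 0x706000304020105) (nat_lit 770))
 (.leaf (nat_lit 0x706050403020100) (nat_lit 0))
))))))

theorem S_ok : genOK P8 [(nat_lit 0x701000403020605), (nat_lit 0x201050403070600), (nat_lit 0x405060702030001), (nat_lit 0x607040500010203), (nat_lit 0x705060403020001)] S_t (nat_lit 64) = true := by decide +kernel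

noncomputable def clD_t : ST :=
(.node (nat_lit 0x700010403020506) (.node (nat_lit 0x306020407050100) (.node (nat_lit 0x106050304020700) (.node (nat_lit 0x6050402030107) (.node (nat_lit 0x6020403050107) (.node (nat_lit 0x4050603020107) (.node (nat_lit 0x2050403060107) (.leaf (nat_lit 0x1050403020607) (nat_lit 2048))
 (.node (nat_lit 0x3050406020107) (.leaf (nat_lit 0x2050403060107) (nat_lit 2048))
 (.leaf (nat_lit 0x3050406020107) (nat_lit 1797))
)) (.node (nat_lit 0x5060403020107) (.leaf (nat_lit 0x4050603020107) (nat_lit 1541))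
 (.node (nat_lit 0x6010403020507) (.leaf (nat_lit 0x5060403020107) (nat_lit 1285))
 (.leaf (nat_lit 0x6010403020507) (nat_lit 2304))
))) (.node (nat_lit 0x6050103020407) (.node (nat_lit 0x6030405020107) (.leaf (nat_lit 0x6020403050107) (nat_lit 2304))
 (.node (nat_lit 0x6040503020107) (.leaf (nat_lit 0x6030405020107) (nat_lit 2048))
 (.leaf (nat_lit 0x6040503020107) (nat_lit 1796))
)) (.node (nat_lit 0x6050304020107) (.node (nat_lit 0x6050203040107) (.leaf (nat_lit 0x6050103020407) (nat_lit 2560))
 (.leaf (nat_lit 0x6050203040107) (nat_lit 2560))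
) (.node (nat_lit 0x6050401020307) (.leaf (nat_lit 0x6050304020107) (nat_lit 2307))
 (.leaf (nat_lit 0x6050401020307) (nat_lit 2816))
)))) (.node (nat_lit 0x105060403020700) (.node (nat_lit 0x102050403060700) (.node (nat_lit 0x6050403010207) (.leaf (nat_lit 0x6050402030107) (nat_lit 2816))
 (.node (nat_lit 0x100050403020706) (.leaf (nat_lit 0x6050403010207) (nat_lit 3072))
 (.leaf (nat_lit 0x100050403020706) (nat_lit 2305))
)) (.node (nat_lit 0x103050406020700) (.leaf (nat_lit 0x102050403060700) (nat_lit 2053))
 (.node (nat_lit 0x104050603020700) (.leaf (nat_lit 0x103050406020700) (nat_lit 1797))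
 (.leaf (nat_lit 0x104050603020700) (nat_lit 1541))
))) (.node (nat_lit 0x106030405020700) (.node (nat_lit 0x106000403020705) (.leaf (nat_lit 0x105060403020700) (nat_lit 1285))
 (.node (nat_lit 0x106020403050700) (.leaf (nat_lit 0x106000403020705) (nat_lit 2308))
 (.leaf (nat_lit 0x106020403050700) (nat_lit 2305))
)) (.node (nat_lit 0x106050003020704) (.node (nat_lit 0x106040503020700) (.leaf (nat_lit 0x106030405020700) (nat_lit 2052))
 (.leaf (nat_lit 0x106040503020700) (nat_lit 1796))
) (.node (nat_lit 0x106050203040700) (.leaf (nat_lit 0x106050003020704) (nat_lit 2563))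
 (.leaf (nat_lit 0x106050203040700) (nat_lit 2563))
))))) (.node (nat_lit 0x206050003070104) (.node (nat_lit 0x203050406070100) (.node (nat_lit 0x106050403000702) (.node (nat_lit 0x106050400020703) (.leaf (nat_lit 0x106050304020700) (nat_lit 2307))
 (.node (nat_lit 0x106050402030700) (.leaf (nat_lit 0x106050400020703) (nat_lit 2818))
 (.leaf (nat_lit 0x106050402030700) (nat_lit 2818))
)) (.node (nat_lit 0x200050403070106) (.leaf (nat_lit 0x106050403000702) (nat_lit 3073))
 (.node (nat_lit 0x201050403070600) (.leaf (nat_lit 0x200050403070106) (nat_lit 1793))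
 (.leaf (nat_lit 0x201050403070600) (nat_lit 1793))
))) (.node (nat_lit 0x206000403070105) (.node (nat_lit 0x204050603070100) (.leaf (nat_lit 0x203050406070100) (nat_lit 1537))
 (.node (nat_lit 0x205060403070100) (.leaf (nat_lit 0x204050603070100) (nat_lit 1285))
 (.leaf (nat_lit 0x205060403070100) (nat_lit 1029))
)) (.node (nat_lit 0x206030405070100) (.node (nat_lit 0x206010403070500) (.leaf (nat_lit 0x206000403070105) (nat_lit 2049))
 (.leaf (nat_lit 0x206010403070500) (nat_lit 2049))
) (.node (nat_lit 0x206040503070100) (.leaf (nat_lit 0x206030405070100) (nat_lit 1793))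
 (.leaf (nat_lit 0x206040503070100) (nat_lit 1540))
)))) (.node (nat_lit 0x300050407020106) (.node (nat_lit 0x206050400070103) (.node (nat_lit 0x206050103070400) (.leaf (nat_lit 0x206050003070104) (nat_lit 2305))
 (.node (nat_lit 0x206050304070100) (.leaf (nat_lit 0x206050103070400) (nat_lit 2305))
 (.leaf (nat_lit 0x206050304070100) (nat_lit 2049))
)) (.node (nat_lit 0x206050401070300) (.leaf (nat_lit 0x206050400070103) (nat_lit 2561))
 (.node (nat_lit 0x206050403070001) (.leaf (nat_lit 0x206050401070300) (nat_lit 2561))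
 (.leaf (nat_lit 0x206050403070001) (nat_lit 2817))
))) (.node (nat_lit 0x304050607020100) (.node (nat_lit 0x301050407020600) (.leaf (nat_lit 0x300050407020106) (nat_lit 1538))
 (.node (nat_lit 0x302050407060100) (.leaf (nat_lit 0x301050407020600) (nat_lit 1538))
 (.leaf (nat_lit 0x302050407060100) (nat_lit 1282))
)) (.node (nat_lit 0x306000407020105) (.node (nat_lit 0x305060407020100) (.leaf (nat_lit 0x304050607020100) (nat_lit 1026))
 (.leaf (nat_lit 0x305060407020100) (nat_lit 773))
) (.node (nat_lit 0x306010407020500) (.leaf (nat_lit 0x306000407020105) (nat_lit 1794))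
 (.leaf (nat_lit 0x306010407020500) (nat_lit 1794))
)))))) (.node (nat_lit 0x503070406020100) (.node (nat_lit 0x406000703020105) (.node (nat_lit 0x306050407010200) (.node (nat_lit 0x306050107020400) (.node (nat_lit 0x306040507020100) (.leaf (nat_lit 0x306020407050100) (nat_lit 1538))
 (.node (nat_lit 0x306050007020104) (.leaf (nat_lit 0x306040507020100) (nat_lit 1282))
 (.leaf (nat_lit 0x306050007020104) (nat_lit 2050))
)) (.node (nat_lit 0x306050207040100) (.leaf (nat_lit 0x306050107020400) (nat_lit 2050))
 (.node (nat_lit 0x306050407000102) (.leaf (nat_lit 0x306050207040100) (nat_lit 1794))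
 (.leaf (nat_lit 0x306050407000102) (nat_lit 2306))
))) (.node (nat_lit 0x401050703020600) (.node (nat_lit 0x306050407020001) (.leaf (nat_lit 0x306050407010200) (nat_lit 2306))
 (.node (nat_lit 0x400050703020106) (.leaf (nat_lit 0x306050407020001) (nat_lit 2562))
 (.leaf (nat_lit 0x400050703020106) (nat_lit 1283))
)) (.node (nat_lit 0x403050706020100) (.node (nat_lit 0x402050703060100) (.leaf (nat_lit 0x401050703020600) (nat_lit 1283))
 (.leaf (nat_lit 0x402050703060100) (nat_lit 1027))
) (.node (nat_lit 0x405060703020100) (.leaf (nat_lit 0x403050706020100) (nat_lit 771))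
 (.leaf (nat_lit 0x405060703020100) (nat_lit 515))
)))) (.node (nat_lit 0x406050702030100) (.node (nat_lit 0x406030705020100) (.node (nat_lit 0x406010703020500) (.leaf (nat_lit 0x406000703020105) (nat_lit 1539))
 (.node (nat_lit 0x406020703050100) (.leaf (nat_lit 0x406010703020500) (nat_lit 1539))
 (.leaf (nat_lit 0x406020703050100) (nat_lit 1283))
)) (.node (nat_lit 0x406050700020103) (.leaf (nat_lit 0x406030705020100) (nat_lit 1027))
 (.node (nat_lit 0x406050701020300) (.leaf (nat_lit 0x406050700020103) (nat_lit 1795))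
 (.leaf (nat_lit 0x406050701020300) (nat_lit 1795))
))) (.node (nat_lit 0x406050703020001) (.node (nat_lit 0x406050703000102) (.leaf (nat_lit 0x406050702030100) (nat_lit 1539))
 (.node (nat_lit 0x406050703010200) (.leaf (nat_lit 0x406050703000102) (nat_lit 2051))
 (.leaf (nat_lit 0x406050703010200) (nat_lit 2051))
)) (.node (nat_lit 0x501070403020600) (.node (nat_lit 0x500070403020106) (.leaf (nat_lit 0x406050703020001) (nat_lit 2307))
 (.leaf (nat_lit 0x500070403020106) (nat_lit 1024))
) (.node (nat_lit 0x502070403060100) (.leaf (nat_lit 0x501070403020600) (nat_lit 1028))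
 (.leaf (nat_lit 0x502070403060100) (nat_lit 772))
))))) (.node (nat_lit 0x607010403020500) (.node (nat_lit 0x506070400020103) (.node (nat_lit 0x506070103020400) (.node (nat_lit 0x504070603020100) (.leaf (nat_lit 0x503070406020100) (nat_lit 516))
 (.node (nat_lit 0x506070003020104) (.leaf (nat_lit 0x504070603020100) (nat_lit 260))
 (.leaf (nat_lit 0x506070003020104) (nat_lit 1284))
)) (.node (nat_lit 0x506070203040100) (.leaf (nat_lit 0x506070103020400) (nat_lit 1284))
 (.node (nat_lit 0x506070304020100) (.leaf (nat_lit 0x506070203040100) (nat_lit 1028))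
 (.leaf (nat_lit 0x506070304020100) (nat_lit 772))
))) (.node (nat_lit 0x506070403000102) (.node (nat_lit 0x506070401020300) (.leaf (nat_lit 0x506070400020103) (nat_lit 1540))
 (.node (nat_lit 0x506070402030100) (.leaf (nat_lit 0x506070401020300) (nat_lit 1540))
 (.leaf (nat_lit 0x506070402030100) (nat_lit 1284))
)) (.node (nat_lit 0x506070403020001) (.node (nat_lit 0x506070403010200) (.leaf (nat_lit 0x506070403000102) (nat_lit 1796))
 (.leaf (nat_lit 0x506070403010200) (nat_lit 1796))
) (.node (nat_lit 0x607000403020105) (.leaf (nat_lit 0x506070403020001) (nat_lit 2048))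
 (.leaf (nat_lit 0x607000403020105) (nat_lit 768))
)))) (.node (nat_lit 0x607050304020100) (.node (nat_lit 0x607040503020100) (.node (nat_lit 0x607020403050100) (.leaf (nat_lit 0x607010403020500) (nat_lit 1024))
 (.node (nat_lit 0x607030405020100) (.leaf (nat_lit 0x607020403050100) (nat_lit 513))
 (.leaf (nat_lit 0x607030405020100) (nat_lit 258))
)) (.node (nat_lit 0x607050103020400) (.node (nat_lit 0x607050003020104) (.leaf (nat_lit 0x607040503020100) (nat_lit 0))
 (.leaf (nat_lit 0x607050003020104) (nat_lit 1024))
) (.node (nat_lit 0x607050203040100) (.leaf (nat_lit 0x607050103020400) (nat_lit 1027))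
 (.leaf (nat_lit 0x607050203040100) (nat_lit 771))
))) (.node (nat_lit 0x607050402030100) (.node (nat_lit 0x607050400020103) (.leaf (nat_lit 0x607050304020100) (nat_lit 515))
 (.node (nat_lit 0x607050401020300) (.leaf (nat_lit 0x607050400020103) (nat_lit 1282))
 (.leaf (nat_lit 0x607050401020300) (nat_lit 1282))
)) (.node (nat_lit 0x607050403010200) (.node (nat_lit 0x607050403000102) (.leaf (nat_lit 0x607050402030100) (nat_lit 1026))
 (.leaf (nat_lit 0x607050403000102) (nat_lit 1537))
) (.node (nat_lit 0x607050403020001) (.leaf (nat_lit 0x607050403010200) (nat_lit 1537))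
 (.leaf (nat_lit 0x607050403020001) (nat_lit 1792))
))))))) (.node (nat_lit 0x705060203040100) (.node (nat_lit 0x702050304060100) (.node (nat_lit 0x701040503020600) (.node (nat_lit 0x700050304020106) (.node (nat_lit 0x700040503020106) (.node (nat_lit 0x700020403050106) (.leaf (nat_lit 0x700010403020506) (nat_lit 2560))
 (.node (nat_lit 0x700030405020106) (.leaf (nat_lit 0x700020403050106) (nat_lit 2560))
 (.leaf (nat_lit 0x700030405020106) (nat_lit 2308))
)) (.node (nat_lit 0x700050103020406) (.leaf (nat_lit 0x700040503020106) (nat_lit 2052))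
 (.node (nat_lit 0x700050203040106) (.leaf (nat_lit 0x700050103020406) (nat_lit 2816))
 (.leaf (nat_lit 0x700050203040106) (nat_lit 2816))
))) (.node (nat_lit 0x700050403010206) (.node (nat_lit 0x700050401020306) (.leaf (nat_lit 0x700050304020106) (nat_lit 2563))
 (.node (nat_lit 0x700050402030106) (.leaf (nat_lit 0x700050401020306) (nat_lit 3072))
 (.leaf (nat_lit 0x700050402030106) (nat_lit 3072))
)) (.node (nat_lit 0x701020403050600) (.node (nat_lit 0x701000403020605) (.leaf (nat_lit 0x700050403010206) (nat_lit 3328))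
 (.leaf (nat_lit 0x701000403020605) (nat_lit 2565))
) (.node (nat_lit 0x701030405020600) (.leaf (nat_lit 0x701020403050600) (nat_lit 2565))
 (.leaf (nat_lit 0x701030405020600) (nat_lit 2308))
)))) (.node (nat_lit 0x701050403000602) (.node (nat_lit 0x701050304020600) (.node (nat_lit 0x701050003020604) (.leaf (nat_lit 0x701040503020600) (nat_lit 2052))
 (.node (nat_lit 0x701050203040600) (.leaf (nat_lit 0x701050003020604) (nat_lit 2821))
 (.leaf (nat_lit 0x701050203040600) (nat_lit 2821))
)) (.node (nat_lit 0x701050400020603) (.leaf (nat_lit 0x701050304020600) (nat_lit 2563))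
 (.node (nat_lit 0x701050402030600) (.leaf (nat_lit 0x701050400020603) (nat_lit 3077))
 (.leaf (nat_lit 0x701050402030600) (nat_lit 3077))
))) (.node (nat_lit 0x702030405060100) (.node (nat_lit 0x702000403060105) (.leaf (nat_lit 0x701050403000602) (nat_lit 3333))
 (.node (nat_lit 0x702010403060500) (.leaf (nat_lit 0x702000403060105) (nat_lit 2309))
 (.leaf (nat_lit 0x702010403060500) (nat_lit 2309))
)) (.node (nat_lit 0x702050003060104) (.node (nat_lit 0x702040503060100) (.leaf (nat_lit 0x702030405060100) (nat_lit 2053))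
 (.leaf (nat_lit 0x702040503060100) (nat_lit 1796))
) (.node (nat_lit 0x702050103060400) (.leaf (nat_lit 0x702050003060104) (nat_lit 2565))
 (.leaf (nat_lit 0x702050103060400) (nat_lit 2565))
))))) (.node (nat_lit 0x703050406020001) (.node (nat_lit 0x703020406050100) (.node (nat_lit 0x702050403060001) (.node (nat_lit 0x702050400060103) (.leaf (nat_lit 0x702050304060100) (nat_lit 2309))
 (.node (nat_lit 0x702050401060300) (.leaf (nat_lit 0x702050400060103) (nat_lit 2821))
 (.leaf (nat_lit 0x702050401060300) (nat_lit 2821))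
)) (.node (nat_lit 0x703000406020105) (.leaf (nat_lit 0x702050403060001) (nat_lit 3077))
 (.node (nat_lit 0x703010406020500) (.leaf (nat_lit 0x703000406020105) (nat_lit 2053))
 (.leaf (nat_lit 0x703010406020500) (nat_lit 2053))
))) (.node (nat_lit 0x703050106020400) (.node (nat_lit 0x703040506020100) (.leaf (nat_lit 0x703020406050100) (nat_lit 1797))
 (.node (nat_lit 0x703050006020104) (.leaf (nat_lit 0x703040506020100) (nat_lit 1541))
 (.leaf (nat_lit 0x703050006020104) (nat_lit 2309))
)) (.node (nat_lit 0x703050406000102) (.node (nat_lit 0x703050206040100) (.leaf (nat_lit 0x703050106020400) (nat_lit 2309))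
 (.leaf (nat_lit 0x703050206040100) (nat_lit 2053))
) (.node (nat_lit 0x703050406010200) (.leaf (nat_lit 0x703050406000102) (nat_lit 2565))
 (.leaf (nat_lit 0x703050406010200) (nat_lit 2565))
)))) (.node (nat_lit 0x704050601020300) (.node (nat_lit 0x704020603050100) (.node (nat_lit 0x704000603020105) (.leaf (nat_lit 0x703050406020001) (nat_lit 2821))
 (.node (nat_lit 0x704010603020500) (.leaf (nat_lit 0x704000603020105) (nat_lit 1797))
 (.leaf (nat_lit 0x704010603020500) (nat_lit 1797))
)) (.node (nat_lit 0x704030605020100) (.leaf (nat_lit 0x704020603050100) (nat_lit 1541))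
 (.node (nat_lit 0x704050600020103) (.leaf (nat_lit 0x704030605020100) (nat_lit 1285))
 (.leaf (nat_lit 0x704050600020103) (nat_lit 2053))
))) (.node (nat_lit 0x704050603010200) (.node (nat_lit 0x704050602030100) (.leaf (nat_lit 0x704050601020300) (nat_lit 2053))
 (.node (nat_lit 0x704050603000102) (.leaf (nat_lit 0x704050602030100) (nat_lit 1797))
 (.leaf (nat_lit 0x704050603000102) (nat_lit 2309))
)) (.node (nat_lit 0x705060003020104) (.node (nat_lit 0x704050603020001) (.leaf (nat_lit 0x704050603010200) (nat_lit 2309))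
 (.leaf (nat_lit 0x704050603020001) (nat_lit 2565))
) (.node (nat_lit 0x705060103020400) (.leaf (nat_lit 0x705060003020104) (nat_lit 1541))
 (.leaf (nat_lit 0x705060103020400) (nat_lit 1541))
)))))) (.node (nat_lit 0x706030005020104) (.node (nat_lit 0x706000403010205) (.node (nat_lit 0x705060403010200) (.node (nat_lit 0x705060401020300) (.node (nat_lit 0x705060304020100) (.leaf (nat_lit 0x705060203040100) (nat_lit 1285))
 (.node (nat_lit 0x705060400020103) (.leaf (nat_lit 0x705060304020100) (nat_lit 1029))
 (.leaf (nat_lit 0x705060400020103) (nat_lit 1797))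
)) (.node (nat_lit 0x705060402030100) (.leaf (nat_lit 0x705060401020300) (nat_lit 1797))
 (.node (nat_lit 0x705060403000102) (.leaf (nat_lit 0x705060402030100) (nat_lit 1541))
 (.leaf (nat_lit 0x705060403000102) (nat_lit 2053))
))) (.node (nat_lit 0x706000203040105) (.node (nat_lit 0x705060403020001) (.leaf (nat_lit 0x705060403010200) (nat_lit 2053))
 (.node (nat_lit 0x706000103020405) (.leaf (nat_lit 0x705060403020001) (nat_lit 2309))
 (.leaf (nat_lit 0x706000103020405) (nat_lit 3076))
)) (.node (nat_lit 0x706000401020305) (.node (nat_lit 0x706000304020105) (.leaf (nat_lit 0x706000203040105) (nat_lit 3076))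
 (.leaf (nat_lit 0x706000304020105) (nat_lit 2819))
) (.node (nat_lit 0x706000402030105) (.leaf (nat_lit 0x706000401020305) (nat_lit 3332))
 (.leaf (nat_lit 0x706000402030105) (nat_lit 3332))
)))) (.node (nat_lit 0x706010403000502) (.node (nat_lit 0x706010304020500) (.node (nat_lit 0x706010003020504) (.leaf (nat_lit 0x706000403010205) (nat_lit 3588))
 (.node (nat_lit 0x706010203040500) (.leaf (nat_lit 0x706010003020504) (nat_lit 3076))
 (.leaf (nat_lit 0x706010203040500) (nat_lit 3076))
)) (.node (nat_lit 0x706010400020503) (.leaf (nat_lit 0x706010304020500) (nat_lit 2819))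
 (.node (nat_lit 0x706010402030500) (.leaf (nat_lit 0x706010400020503) (nat_lit 3332))
 (.leaf (nat_lit 0x706010402030500) (nat_lit 3332))
))) (.node (nat_lit 0x706020304050100) (.node (nat_lit 0x706020003050104) (.leaf (nat_lit 0x706010403000502) (nat_lit 3588))
 (.node (nat_lit 0x706020103050400) (.leaf (nat_lit 0x706020003050104) (nat_lit 2820))
 (.leaf (nat_lit 0x706020103050400) (nat_lit 2820))
)) (.node (nat_lit 0x706020401050300) (.node (nat_lit 0x706020400050103) (.leaf (nat_lit 0x706020304050100) (nat_lit 2564))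
 (.leaf (nat_lit 0x706020400050103) (nat_lit 3076))
) (.node (nat_lit 0x706020403050001) (.leaf (nat_lit 0x706020401050300) (nat_lit 3076))
 (.leaf (nat_lit 0x706020403050001) (nat_lit 3332))
))))) (.node (nat_lit 0x706050002030104) (.node (nat_lit 0x706040500020103) (.node (nat_lit 0x706030405000102) (.node (nat_lit 0x706030105020400) (.leaf (nat_lit 0x706030005020104) (nat_lit 2564))
 (.node (nat_lit 0x706030205040100) (.leaf (nat_lit 0x706030105020400) (nat_lit 2564))
 (.leaf (nat_lit 0x706030205040100) (nat_lit 2308))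
)) (.node (nat_lit 0x706030405010200) (.leaf (nat_lit 0x706030405000102) (nat_lit 2820))
 (.node (nat_lit 0x706030405020001) (.leaf (nat_lit 0x706030405010200) (nat_lit 2820))
 (.leaf (nat_lit 0x706030405020001) (nat_lit 3076))
))) (.node (nat_lit 0x706040503000102) (.node (nat_lit 0x706040501020300) (.leaf (nat_lit 0x706040500020103) (nat_lit 2308))
 (.node (nat_lit 0x706040502030100) (.leaf (nat_lit 0x706040501020300) (nat_lit 2308))
 (.leaf (nat_lit 0x706040502030100) (nat_lit 2052))
)) (.node (nat_lit 0x706040503020001) (.node (nat_lit 0x706040503010200) (.leaf (nat_lit 0x706040503000102) (nat_lit 2564))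
 (.leaf (nat_lit 0x706040503010200) (nat_lit 2564))
) (.node (nat_lit 0x706050001020304) (.leaf (nat_lit 0x706040503020001) (nat_lit 2820))
 (.leaf (nat_lit 0x706050001020304) (nat_lit 3587))
)))) (.node (nat_lit 0x706050203040001) (.node (nat_lit 0x706050102030400) (.node (nat_lit 0x706050003010204) (.leaf (nat_lit 0x706050002030104) (nat_lit 3587))
 (.node (nat_lit 0x706050100020403) (.leaf (nat_lit 0x706050003010204) (nat_lit 3843))
 (.leaf (nat_lit 0x706050100020403) (nat_lit 3587))
)) (.node (nat_lit 0x706050200040103) (.node (nat_lit 0x706050103000402) (.leaf (nat_lit 0x706050102030400) (nat_lit 3587))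
 (.leaf (nat_lit 0x706050103000402) (nat_lit 3843))
) (.node (nat_lit 0x706050201040300) (.leaf (nat_lit 0x706050200040103) (nat_lit 3331))
 (.leaf (nat_lit 0x706050201040300) (nat_lit 3331))
))) (.node (nat_lit 0x706050304020001) (.node (nat_lit 0x706050304000102) (.leaf (nat_lit 0x706050203040001) (nat_lit 3587))
 (.node (nat_lit 0x706050304010200) (.leaf (nat_lit 0x706050304000102) (nat_lit 3075))
 (.leaf (nat_lit 0x706050304010200) (nat_lit 3075))
)) (.node (nat_lit 0x706050401000302) (.node (nat_lit 0x706050400010203) (.leaf (nat_lit 0x706050304020001) (nat_lit 3331))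
 (.leaf (nat_lit 0x706050400010203) (nat_lit 4098))
) (.node (nat_lit 0x706050402030001) (.leaf (nat_lit 0x706050401000302) (nat_lit 4098))
 (.leaf (nat_lit 0x706050402030001) (nat_lit 3842))
))))))))

theorem clD_ok : orbOK P8 [(nat_lit 0x706050403000201), (nat_lit 0x706050402030001), (nat_lit 0x706050304020001), (nat_lit 0x706040503020001), (nat_lit 0x705060403020001), (nat_lit 0x607050403020001)] (nat_lit 0x607040503020100) clD_t (nat_lit 210) = true := by decide +kernel

noncomputable def clS_t : ST :=
(.node (nat_lit 0x302010007060504) (.node (nat_lit 0x104030605000702) (.node (nat_lit 0x5060201040307) (.node (nat_lit 0x3010206040507) (.node (nat_lit 0x2010304060507) (.node (nat_lit 0x1030205040607) (.leaf (nat_lit 0x1020304050607) (nat_lit 512))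
 (.node (nat_lit 0x1040502030607) (.leaf (nat_lit 0x1030205040607) (nat_lit 512))
 (.leaf (nat_lit 0x1040502030607) (nat_lit 1026))
)) (.node (nat_lit 0x2030105060407) (.leaf (nat_lit 0x2010304060507) (nat_lit 256))
 (.node (nat_lit 0x2040501060307) (.leaf (nat_lit 0x2030105060407) (nat_lit 771))
 (.leaf (nat_lit 0x2040501060307) (nat_lit 770))
))) (.node (nat_lit 0x4010602030507) (.node (nat_lit 0x3020106050407) (.leaf (nat_lit 0x3010206040507) (nat_lit 769))
 (.node (nat_lit 0x3040506010207) (.leaf (nat_lit 0x3020106050407) (nat_lit 771))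
 (.leaf (nat_lit 0x3040506010207) (nat_lit 1281))
)) (.node (nat_lit 0x4030605010207) (.node (nat_lit 0x4020601050307) (.leaf (nat_lit 0x4010602030507) (nat_lit 770))
 (.leaf (nat_lit 0x4020601050307) (nat_lit 1282))
) (.node (nat_lit 0x5060102030407) (.leaf (nat_lit 0x4030605010207) (nat_lit 1281))
 (.leaf (nat_lit 0x5060102030407) (nat_lit 1283))
)))) (.node (nat_lit 0x102030005060704) (.node (nat_lit 0x100030205040706) (.node (nat_lit 0x5060304010207) (.leaf (nat_lit 0x5060201040307) (nat_lit 1283))
 (.node (nat_lit 0x100020304050706) (.leaf (nat_lit 0x5060304010207) (nat_lit 1795))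
 (.leaf (nat_lit 0x100020304050706) (nat_lit 512))
)) (.node (nat_lit 0x100040502030706) (.leaf (nat_lit 0x100030205040706) (nat_lit 769))
 (.node (nat_lit 0x102000304060705) (.leaf (nat_lit 0x100040502030706) (nat_lit 770))
 (.leaf (nat_lit 0x102000304060705) (nat_lit 514))
))) (.node (nat_lit 0x103020006050704) (.node (nat_lit 0x102040500060703) (.leaf (nat_lit 0x102030005060704) (nat_lit 515))
 (.node (nat_lit 0x103000206040705) (.leaf (nat_lit 0x102040500060703) (nat_lit 1026))
 (.leaf (nat_lit 0x103000206040705) (nat_lit 513))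
)) (.node (nat_lit 0x104000602030705) (.node (nat_lit 0x103040506000702) (.leaf (nat_lit 0x103020006050704) (nat_lit 1024))
 (.leaf (nat_lit 0x103040506000702) (nat_lit 1025))
) (.node (nat_lit 0x104020600050703) (.leaf (nat_lit 0x104000602030705) (nat_lit 1025))
 (.leaf (nat_lit 0x104020600050703) (nat_lit 1024))
))))) (.node (nat_lit 0x204000601070305) (.node (nat_lit 0x200040501070306) (.node (nat_lit 0x105060304000702) (.node (nat_lit 0x105060002030704) (.leaf (nat_lit 0x104030605000702) (nat_lit 1536))
 (.node (nat_lit 0x105060200040703) (.leaf (nat_lit 0x105060002030704) (nat_lit 1027))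
 (.leaf (nat_lit 0x105060200040703) (nat_lit 1540))
)) (.node (nat_lit 0x200010304070506) (.leaf (nat_lit 0x105060304000702) (nat_lit 1539))
 (.node (nat_lit 0x200030105070406) (.leaf (nat_lit 0x200010304070506) (nat_lit 258))
 (.leaf (nat_lit 0x200030105070406) (nat_lit 259))
))) (.node (nat_lit 0x201040500070603) (.node (nat_lit 0x201000304070605) (.leaf (nat_lit 0x200040501070306) (nat_lit 770))
 (.node (nat_lit 0x201030005070604) (.leaf (nat_lit 0x201000304070605) (nat_lit 0))
 (.leaf (nat_lit 0x201030005070604) (nat_lit 515))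
)) (.node (nat_lit 0x203010006070504) (.node (nat_lit 0x203000106070405) (.leaf (nat_lit 0x201040500070603) (nat_lit 514))
 (.leaf (nat_lit 0x203000106070405) (nat_lit 772))
) (.node (nat_lit 0x203040506070001) (.leaf (nat_lit 0x203010006070504) (nat_lit 516))
 (.leaf (nat_lit 0x203040506070001) (nat_lit 1280))
)))) (.node (nat_lit 0x300010207040506) (.node (nat_lit 0x205060001070304) (.node (nat_lit 0x204010600070503) (.leaf (nat_lit 0x204000601070305) (nat_lit 772))
 (.node (nat_lit 0x204030605070001) (.leaf (nat_lit 0x204010600070503) (nat_lit 1028))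
 (.leaf (nat_lit 0x204030605070001) (nat_lit 1538))
)) (.node (nat_lit 0x205060100070403) (.leaf (nat_lit 0x205060001070304) (nat_lit 1283))
 (.node (nat_lit 0x205060304070001) (.leaf (nat_lit 0x205060100070403) (nat_lit 1027))
 (.leaf (nat_lit 0x205060304070001) (nat_lit 1792))
))) (.node (nat_lit 0x301000207040605) (.node (nat_lit 0x300020107050406) (.leaf (nat_lit 0x300010207040506) (nat_lit 257))
 (.node (nat_lit 0x300040507010206) (.leaf (nat_lit 0x300020107050406) (nat_lit 771))
 (.leaf (nat_lit 0x300040507010206) (nat_lit 769))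
)) (.node (nat_lit 0x301040507000602) (.node (nat_lit 0x301020007050604) (.leaf (nat_lit 0x301000207040605) (nat_lit 513))
 (.leaf (nat_lit 0x301020007050604) (nat_lit 512))
) (.node (nat_lit 0x302000107060405) (.leaf (nat_lit 0x301040507000602) (nat_lit 1025))
 (.leaf (nat_lit 0x302000107060405) (nat_lit 768))
)))))) (.node (nat_lit 0x501070002030604) (.node (nat_lit 0x401030705000602) (.node (nat_lit 0x305060107000402) (.node (nat_lit 0x304010607000502) (.node (nat_lit 0x302040507060001) (.leaf (nat_lit 0x302010007060504) (nat_lit 768))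
 (.node (nat_lit 0x304000607010205) (.leaf (nat_lit 0x302040507060001) (nat_lit 1280))
 (.leaf (nat_lit 0x304000607010205) (nat_lit 1284))
)) (.node (nat_lit 0x304020607050001) (.leaf (nat_lit 0x304010607000502) (nat_lit 1028))
 (.node (nat_lit 0x305060007010204) (.leaf (nat_lit 0x304020607050001) (nat_lit 1280))
 (.leaf (nat_lit 0x305060007010204) (nat_lit 1283))
))) (.node (nat_lit 0x400020701050306) (.node (nat_lit 0x305060207040001) (.leaf (nat_lit 0x305060107000402) (nat_lit 1539))
 (.node (nat_lit 0x400010702030506) (.leaf (nat_lit 0x305060207040001) (nat_lit 1539))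
 (.leaf (nat_lit 0x400010702030506) (nat_lit 769))
)) (.node (nat_lit 0x401000702030605) (.node (nat_lit 0x400030705010206) (.leaf (nat_lit 0x400020701050306) (nat_lit 770))
 (.leaf (nat_lit 0x400030705010206) (nat_lit 1281))
) (.node (nat_lit 0x401020700050603) (.leaf (nat_lit 0x401000702030605) (nat_lit 514))
 (.leaf (nat_lit 0x401020700050603) (nat_lit 1024))
)))) (.node (nat_lit 0x403020706050001) (.node (nat_lit 0x402030705060001) (.node (nat_lit 0x402000701060305) (.leaf (nat_lit 0x401030705000602) (nat_lit 1025))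
 (.node (nat_lit 0x402010700060503) (.leaf (nat_lit 0x402000701060305) (nat_lit 1026))
 (.leaf (nat_lit 0x402010700060503) (nat_lit 768))
)) (.node (nat_lit 0x403000706010205) (.leaf (nat_lit 0x402030705060001) (nat_lit 1280))
 (.node (nat_lit 0x403010706000502) (.leaf (nat_lit 0x403000706010205) (nat_lit 1025))
 (.leaf (nat_lit 0x403010706000502) (nat_lit 1280))
))) (.node (nat_lit 0x405060702030001) (.node (nat_lit 0x405060700010203) (.leaf (nat_lit 0x403020706050001) (nat_lit 1537))
 (.node (nat_lit 0x405060701000302) (.leaf (nat_lit 0x405060700010203) (nat_lit 1794))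
 (.leaf (nat_lit 0x405060701000302) (nat_lit 1538))
)) (.node (nat_lit 0x500070201040306) (.node (nat_lit 0x500070102030406) (.leaf (nat_lit 0x405060702030001) (nat_lit 1794))
 (.leaf (nat_lit 0x500070102030406) (nat_lit 771))
) (.node (nat_lit 0x500070304010206) (.leaf (nat_lit 0x500070201040306) (nat_lit 1283))
 (.leaf (nat_lit 0x500070304010206) (nat_lit 1283))
))))) (.node (nat_lit 0x607000201040305) (.node (nat_lit 0x503070006010204) (.node (nat_lit 0x502070001060304) (.node (nat_lit 0x501070200040603) (.leaf (nat_lit 0x501070002030604) (nat_lit 1027))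
 (.node (nat_lit 0x501070304000602) (.leaf (nat_lit 0x501070200040603) (nat_lit 1027))
 (.leaf (nat_lit 0x501070304000602) (nat_lit 1536))
)) (.node (nat_lit 0x502070100060403) (.leaf (nat_lit 0x502070001060304) (nat_lit 1027))
 (.node (nat_lit 0x502070304060001) (.leaf (nat_lit 0x502070100060403) (nat_lit 1280))
 (.leaf (nat_lit 0x502070304060001) (nat_lit 1539))
))) (.node (nat_lit 0x504070600010203) (.node (nat_lit 0x503070106000402) (.leaf (nat_lit 0x503070006010204) (nat_lit 1539))
 (.node (nat_lit 0x503070206040001) (.leaf (nat_lit 0x503070106000402) (nat_lit 1283))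
 (.leaf (nat_lit 0x503070206040001) (nat_lit 1536))
)) (.node (nat_lit 0x504070602030001) (.node (nat_lit 0x504070601000302) (.leaf (nat_lit 0x504070600010203) (nat_lit 1538))
 (.leaf (nat_lit 0x504070601000302) (nat_lit 1794))
) (.node (nat_lit 0x607000102030405) (.leaf (nat_lit 0x504070602030001) (nat_lit 1794))
 (.leaf (nat_lit 0x607000102030405) (nat_lit 1284))
)))) (.node (nat_lit 0x607020304050001) (.node (nat_lit 0x607010200040503) (.node (nat_lit 0x607000304010205) (.leaf (nat_lit 0x607000201040305) (nat_lit 1284))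
 (.node (nat_lit 0x607010002030504) (.leaf (nat_lit 0x607000304010205) (nat_lit 1796))
 (.leaf (nat_lit 0x607010002030504) (nat_lit 1028))
)) (.node (nat_lit 0x607020001050304) (.node (nat_lit 0x607010304000502) (.leaf (nat_lit 0x607010200040503) (nat_lit 1541))
 (.leaf (nat_lit 0x607010304000502) (nat_lit 1540))
) (.node (nat_lit 0x607020100050403) (.leaf (nat_lit 0x607020001050304) (nat_lit 1541))
 (.leaf (nat_lit 0x607020100050403) (nat_lit 1284))
))) (.node (nat_lit 0x607030205040001) (.node (nat_lit 0x607030005010204) (.leaf (nat_lit 0x607020304050001) (nat_lit 1796))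
 (.node (nat_lit 0x607030105000402) (.leaf (nat_lit 0x607030005010204) (nat_lit 1540))
 (.leaf (nat_lit 0x607030105000402) (nat_lit 1796))
)) (.node (nat_lit 0x607040501000302) (.node (nat_lit 0x607040500010203) (.leaf (nat_lit 0x607030205040001) (nat_lit 1796))
 (.leaf (nat_lit 0x607040500010203) (nat_lit 2052))
) (.node (nat_lit 0x607040502030001) (.leaf (nat_lit 0x607040501000302) (nat_lit 1796))
 (.leaf (nat_lit 0x607040502030001) (nat_lit 2052))
)))))))

theorem clS_ok : orbOK P8 [(nat_lit 0x706050403000201), (nat_lit 0x706050402030001), (nat_lit 0x706050304020001), (nat_lit 0x706040503020001), (nat_lit 0x705060403020001), (nat_lit 0x607050403020001)] (nat_lit 0x201000304070605) clS_t (nat_lit 105) = true := by decide +kernel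

end Cfsg.Agent.T16.A8
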