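import Mathlib
import Cfsg.Agent.T16.A8Data
import Cfsg.Agent.T16.Kit

/-!
Recognition of the alternating group of degree eight from its 3-local subgroups: letters for the normaliser
`(S₃ × S₅)⁺` of a subgroup of order three, and facts decided inside it.
-/

set_option autoImplicit false
set_option synthInstance.maxSize 100000
set_option synthInstance.maxHeartbeats 1000000
set_option linter.unusedSectionVars false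

namespace Cfsg.Agent.T16.A8

open Cfsg.Agent.Spor Cfsg.Agent.Rec Cfsg.Agent.Inv.Fz Subgroup

universe u

variable {G : Type u} [Group G]

theorem cjm (g a b : G) : g * (a * b) * g⁻¹ = g * a * g⁻¹ * (g * b * g⁻¹) := by group

theorem cjc {g h a b : G} (e : h * a * h⁻¹ = b) : g * h * a * (g * h)⁻¹ = g * b * g⁻¹ := by rw [← e]; group

theorem cjs {g a b : G} (e : g * a * g⁻¹ = b) : g⁻¹ * b * g⁻¹⁻¹ = a := by rw [← e]; group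

theorem cjcomm {g a b : G} (h : a * b = b * a) : g * a * g⁻¹ * (g * b * g⁻¹) = g * b * g⁻¹ * (g * a * g⁻¹) := by
  rw [← cjm, ← cjm, h]

theorem pm_le_normalizer [Finite G] (c : G) : pm c ≤ normalizer (zpowers c : Set G) := fun g hg =>
  mem_normalizer_of_conj_mem (by
    rintro _ ⟨n, rfl⟩
    rw [← conj_zpow]
    rcases mem_pm.1 hg with h | h <;> rw [h]
    · exact zpow_mem (mem_zpowers c) n
    · exact zpow_mem (inv_mem (mem_zpowers c)) n)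

/-- Five letters with the codes of generators of `(S₃ × S₅)⁺`. -/
structure St0 (G : Type u) [Group G] where
  (a0 a2 a3 a4 a5 : G)
  C : Cod P8 G
  rep0 : C.RepL cN [a0, a2, a3, a4, a5]

namespace St0

variable (s : St0 G)

/-- The 3-cycle `(567)`. -/
def c2 : G := s.a4 * s.a5
/-- The involution `(34)(56)`. -/
def d2 : G := s.a2 * s.a4
/-- The involution `(45)(67)`. -/
def x : G := s.a3 * s.a5
/-- The involution `(46)(57)`. -/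
def v : G := s.a4 * (s.a3 * s.a5) * s.a4
/-- The involution `(35)(67)`. -/
def xs : G := s.a2 * (s.a3 * s.a5) * s.a2
/-- The involution `(01)(37)`. -/
def k : G := s.a2 * s.a3 * s.a4 * s.a5 * s.a4 * s.a3 * s.a2
/-- A 5-cycle. -/
def f : G := s.a2 * s.a3 * s.a4 * s.a5

/-- The letters. -/
abbrev e : List G := [s.a0, s.a2, s.a3, s.a4, s.a5, s.c2, s.d2, s.x, s.v, s.xs, s.k, s.f]

theorem rep : s.C.RepL cE s.e :=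
  (s.rep0.nth 0).cons <| (s.rep0.nth 1).cons <| (s.rep0.nth 2).cons <| (s.rep0.nth 3).cons <| (s.rep0.nth 4).cons <|
    (s.rep0.term (s.a4 * s.a5) (by decide +kernel)).cons <| (s.rep0.term (s.a2 * s.a4) (by decide +kernel)).cons <|
    (s.rep0.term (s.a3 * s.a5) (by decide +kernel)).cons <|
    (s.rep0.term (s.a4 * (s.a3 * s.a5) * s.a4) (by decide +kernel)).cons <|
    (s.rep0.term (s.a2 * (s.a3 * s.a5) * s.a2) (by decide +kernel)).cons <|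
    (s.rep0.term (s.a2 * s.a3 * s.a4 * s.a5 * s.a4 * s.a3 * s.a2) (by decide +kernel)).cons <|
    (s.rep0.term (s.a2 * s.a3 * s.a4 * s.a5) (by decide +kernel)).cons Cod.repL_nil

/-- The group `(S₃ × S₅)⁺`. -/
def N1 : Subgroup G := clos [s.a0, s.a2, s.a3, s.a4, s.a5]
/-- The Sylow 3-subgroup. -/
def D : Subgroup G := clos [s.a0, s.c2]
/-- The four-group on `4567`. -/
def V : Subgroup G := clos [s.x, s.v]
/-- Its centraliser in `N1`. -/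
def CV0 : Subgroup G := clos [s.a0, s.x, s.v]
/-- The group `A₄` on `4567`. -/
def A : Subgroup G := clos [s.c2, s.x]
/-- The group `A₄` on `3567`. -/
def As : Subgroup G := clos [s.c2, s.xs]
/-- The group generated by `c2`. -/
def Z2 : Subgroup G := clos [s.c2]
/-- A Sylow 2-subgroup of `N1`. -/
def T0 : Subgroup G := clos [s.x, s.v, s.a4]
/-- The four-group generated by `d1` and `d2`. -/
def U : Subgroup G := clos [s.a2, s.d2]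

theorem gN : s.C.Lists N1_t.dom s.N1 ∧ Nat.card s.N1 = 360 := s.rep0.gen N1_ok
theorem gD : s.C.Lists D_t.dom s.D ∧ Nat.card s.D = 9 := (s.rep.pick [0, 5]).gen D_ok
theorem gV : s.C.Lists V_t.dom s.V ∧ Nat.card s.V = 4 := (s.rep.pick [7, 8]).gen V_ok
theorem gCV0 : s.C.Lists CV0_t.dom s.CV0 ∧ Nat.card s.CV0 = 12 := (s.rep.pick [0, 7, 8]).gen CV0_ok
theorem gA : s.C.Lists A_t.dom s.A ∧ Nat.card s.A = 12 := (s.rep.pick [5, 7]).gen A_ok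
theorem gAs : s.C.Lists As_t.dom s.As ∧ Nat.card s.As = 12 := (s.rep.pick [5, 9]).gen As_ok
theorem gZ2 : s.C.Lists Z2_t.dom s.Z2 ∧ Nat.card s.Z2 = 3 := (s.rep.pick [5]).gen Z2_ok
theorem gT0 : s.C.Lists T0_t.dom s.T0 ∧ Nat.card s.T0 = 8 := (s.rep.pick [7, 8, 3]).gen T0_ok
theorem gU : s.C.Lists U_t.dom s.U ∧ Nat.card s.U = 4 := (s.rep.pick [1, 6]).gen U_ok

theorem hL : s.C.ListsL [N1_t.dom, D_t.dom, V_t.dom, CV0_t.dom, A_t.dom, As_t.dom, Z2_t.dom, T0_t.dom, U_t.dom]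
    [s.N1, s.D, s.V, s.CV0, s.A, s.As, s.Z2, s.T0, s.U] :=
  s.gN.1.cons <| s.gD.1.cons <| s.gV.1.cons <| s.gCV0.1.cons <| s.gA.1.cons <| s.gAs.1.cons <| s.gZ2.1.cons <|
    s.gT0.1.cons <| s.gU.1.cons Cod.listsL_nil

theorem ord : orderOf s.a0 = 3 ∧ orderOf s.c2 = 3 ∧ orderOf (s.a0 * s.c2) = 3 ∧ s.a0 ^ 3 = 1 ∧ s.c2 ^ 3 = 1 :=
  s.hL.decide s.rep (by decide +kernel)
theorem sq : s.a2 * s.a2 = 1 ∧ s.a3 * s.a3 = 1 ∧ s.a4 * s.a4 = 1 ∧ s.a5 * s.a5 = 1 ∧ s.d2 * s.d2 = 1 ∧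
    s.x * s.x = 1 ∧ s.v * s.v = 1 ∧ s.k * s.k = 1 := s.hL.decide s.rep (by decide +kernel)
theorem mem : s.a0 ∈ s.N1 ∧ s.c2 ∈ s.N1 ∧ s.x ∈ s.N1 ∧ s.k ∈ s.N1 ∧ s.a0 ∈ s.D ∧ s.c2 ∈ s.D ∧ s.x ∈ s.V ∧ s.v ∈ s.V ∧
    s.x ∈ s.T0 ∧ s.v ∈ s.T0 ∧ s.d2 ∈ s.N1 := s.hL.decide s.rep (by decide +kernel)
theorem le : s.D ≤ s.N1 ∧ s.T0 ≤ s.N1 ∧ s.V ≤ s.CV0 := s.hL.decide s.rep (by decide +kernel)
theorem ne : s.x ≠ 1 ∧ s.v ≠ 1 ∧ s.x ≠ s.v ∧ s.f ^ 18 ≠ 1 ∧ s.d2 ≠ 1 := s.hL.decide s.rep (by decide +kernel)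
theorem comm : s.c2 * s.a0 = s.a0 * s.c2 ∧ s.f * s.a0 = s.a0 * s.f ∧ s.a0 * s.d2 = s.d2 * s.a0 ∧
    s.a0 * s.x = s.x * s.a0 ∧ s.a0 * s.v = s.v * s.a0 ∧ s.x * s.v = s.v * s.x ∧
    s.d2 * s.c2 * s.d2⁻¹ = s.c2⁻¹ ∧ s.d2 * s.c2 = s.c2⁻¹ * s.d2 ∧ s.a2 * s.d2 = s.a4 :=
  s.hL.decide s.rep (by decide +kernel)

theorem n1 : ∀ z ∈ s.N1, z ^ 3 = 1 → Commute (s.a2 * z * s.a2⁻¹) z → Commute (s.a3 * z * s.a3⁻¹) z →
    Commute (s.a4 * z * s.a4⁻¹) z → Commute (s.a5 * z * s.a5⁻¹) z → z = 1 ∨ z = s.a0 ∨ z = s.a0⁻¹ :=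
  s.hL.decide s.rep (by decide +kernel)
theorem n2 : ∀ y ∈ s.N1, y * s.a0 = s.a0 * y → y ^ 3 = 1 → y = 1 ∨ y = s.a0 ∨ y = s.a0⁻¹ ∨
    ∃ n ∈ s.N1, Let (n * y * n⁻¹) fun u => n * s.a0 = s.a0 * n ∧ (u = s.c2 ∨ u = s.a0 * s.c2 ∨ u = s.a0⁻¹ * s.c2) :=
  s.hL.decide s.rep (by decide +kernel)
theorem n3 : ∀ a ∈ s.D, a = 1 ∨ a = s.a0 ∨ a = s.a0⁻¹ ∨ a = s.c2 ∨ a = s.c2⁻¹ ∨
    ∃ m ∈ s.U, m * (s.a0 * s.c2) * m⁻¹ = a := s.hL.decide s.rep (by decide +kernel)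
theorem n4 : ∀ a ∈ s.D, ∀ b ∈ s.D, a * b = b * a := s.hL.decide s.rep (by decide +kernel)
theorem n5 : ∀ g ∈ s.N1, g * (s.a0 * s.c2) = s.a0 * s.c2 * g → g ∈ s.D := s.hL.decide s.rep (by decide +kernel)
theorem n6 : ∀ t ∈ s.N1, t * t = 1 → t * s.c2 = s.c2 * t → t * s.a0 * t⁻¹ = s.a0⁻¹ →
    t = s.a2 ∨ s.a0 * t * s.a0⁻¹ = s.a2 ∨ s.a0⁻¹ * t * s.a0⁻¹⁻¹ = s.a2 := s.hL.decide s.rep (by decide +kernel)
theorem n7 : ∀ t ∈ s.N1, t * t = 1 → t = 1 ∨ ∃ m ∈ s.N1, Let (m * t * m⁻¹) fun u => u = s.a2 ∨ u = s.d2 :=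
  s.hL.decide s.rep (by decide +kernel)
theorem n8 : ∀ g ∈ s.N1, g * s.x = s.x * g → g * s.v = s.v * g → g ∈ s.CV0 := s.hL.decide s.rep (by decide +kernel)
theorem n9 : ∀ g ∈ s.N1, g * s.a0 = s.a0 * g → g ∈ s.A ∨ g ∈ s.As ∨ ∃ a ∈ s.Z2, Let (g * a * g) fun p =>
    ∃ b ∈ s.Z2, Let (p * b * g) fun q => ∃ c ∈ s.Z2, Let (q * c * g) fun r => ∃ d ∈ s.Z2, Let (r * d * g) fun u =>
      u ∉ s.Z2 ∧ Let (u * s.c2 * u⁻¹) fun t => t = s.c2 ∨ t = s.c2⁻¹ := s.hL.decide s.rep (by decide +kernel)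
theorem n10 : ∀ g ∈ s.CV0, (g * s.c2 = s.c2 * g ∨ g * s.c2 * g⁻¹ = s.c2⁻¹ → g = 1 ∨ g = s.a0 ∨ g = s.a0⁻¹) ∧
    (orderOf g = 3 → g = s.a0 ∨ g = s.a0⁻¹) ∧ (g ∈ s.V ∨ orderOf (g * g) = 3) := s.hL.decide s.rep (by decide +kernel)
theorem n11 : ∀ a ∈ s.T0, a * a = 1 → a ≠ 1 → ∀ b ∈ s.T0, b * b = 1 → b ≠ 1 → a * b = b * a → a ≠ b →
    (a ∈ s.V ∧ b ∈ s.V) ∨ (s.k * a * s.k⁻¹ ∈ s.U ∧ s.k * b * s.k⁻¹ ∈ s.U ∧
      ∀ u ∈ s.U, Let (s.k⁻¹ * u * s.k) fun t => t = 1 ∨ t = a ∨ t = b ∨ t = a * b) :=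
  s.hL.decide s.rep (by decide +kernel)
theorem n12 : (∀ a ∈ s.V, ∀ b ∈ s.V, a * b = b * a) ∧ (∀ a ∈ s.V, s.c2 * a * s.c2⁻¹ ∈ s.V ∧ s.a0 * a = a * s.a0) :=
  s.hL.decide s.rep (by decide +kernel)
theorem n13 : (∀ g ∈ s.A, g = 1 ∨ orderOf g = 3 ∨ g = s.x * s.v ∨ s.c2 * g * s.c2⁻¹ = s.x * s.v ∨
      s.c2⁻¹ * g * s.c2⁻¹⁻¹ = s.x * s.v) ∧
    (∀ g ∈ s.As, g = 1 ∨ orderOf g = 3 ∨ g = s.k * s.a4 ∨ s.c2 * g * s.c2⁻¹ = s.k * s.a4 ∨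
      s.c2⁻¹ * g * s.c2⁻¹⁻¹ = s.k * s.a4) ∧
    (∀ g ∈ s.A, orderOf g = 3 ∨ g = 1 ∨ g = s.x * s.v ∨ g = s.c2 * (s.x * s.v) * s.c2⁻¹ ∨
      g = s.x * s.v * (s.c2 * (s.x * s.v) * s.c2⁻¹)) ∧
    (∀ g ∈ s.As, orderOf g = 3 ∨ g = 1 ∨ g = s.k * s.a4 ∨ g = s.c2 * (s.k * s.a4) * s.c2⁻¹ ∨
      g = s.k * s.a4 * (s.c2 * (s.k * s.a4) * s.c2⁻¹)) := s.hL.decide s.rep (by decide +kernel)

end St0

end Cfsg.Agent.T16.A8
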