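import Mathlib
import Cfsg.Agent.T16.A8Base
import Cfsg.Agent.Rec.Sim

/-!
Recognition of the alternating group of degree eight: the configuration given by the hypotheses.
-/

set_option autoImplicit false
set_option synthInstance.maxSize 100000
set_option synthInstance.maxHeartbeats 1000000
set_option linter.unusedSectionVars false

namespace Cfsg.Agent.T16.A8

open Cfsg.Agent.Spor Cfsg.Agent.Rec Cfsg.Agent.Inv.Fz Subgroup Equiv

universe u

variable {G : Type u} [Group G]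

/-- `S₃ × S₅` inside `S₈`. -/
def emb : Perm (Fin 3) × Perm (Fin 5) →* Perm (Fin 8) :=
  (finSumFinEquiv (m := 3) (n := 5)).permCongrHom.toMonoidHom.comp (Perm.sumCongrHom (Fin 3) (Fin 5))

theorem emb_inj : Function.Injective emb :=
  (finSumFinEquiv (m := 3) (n := 5)).permCongrHom.injective.comp Perm.sumCongrHom_injective

/-- The even part of `S₃ × S₅`. -/
abbrev Kr : Subgroup (Perm (Fin 3) × Perm (Fin 5)) :=
  (((Perm.sign).comp (MonoidHom.fst (Perm (Fin 3)) (Perm (Fin 5)))) *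
    ((Perm.sign).comp (MonoidHom.snd (Perm (Fin 3)) (Perm (Fin 5))))).ker

/-- Generators. -/
def gens : List (Perm (Fin 3) × Perm (Fin 5)) :=
  [(swap 0 1 * swap 1 2, 1), (swap 0 1, swap 0 1), (swap 0 1, swap 1 2), (swap 0 1, swap 2 3), (swap 0 1, swap 3 4)]

theorem rep_gens : (permCod P8_ok).RepL cN (gens.map emb) :=
  (rep_pcode P8_ok _ (by decide +kernel)).cons <| (rep_pcode P8_ok _ (by decide +kernel)).cons <|
    (rep_pcode P8_ok _ (by decide +kernel)).cons <| (rep_pcode P8_ok _ (by decide +kernel)).cons <|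
    (rep_pcode P8_ok _ (by decide +kernel)).cons Cod.repL_nil

theorem card_Kr : Nat.card Kr ≤ 360 := by
  have h1 := Kr.card_mul_index
  have h2 : Nat.card (Perm (Fin 3) × Perm (Fin 5)) = 720 := by
    rw [Nat.card_prod, Nat.card_perm, Nat.card_perm]; simp [Nat.factorial]
  have h3 : Kr.index ≠ 1 := fun h => by
    have : ((swap 0 1, 1) : Perm (Fin 3) × Perm (Fin 5)) ∈ Kr := by rw [index_eq_one.1 h]; trivial
    revert this
    decide +kernel
  have h4 : Kr.index ≠ 0 := index_ne_zero_of_finite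
  rw [h2] at h1
  have h5 : 2 ≤ Kr.index := by omega
  nlinarith

theorem clos_gens : clos (gens.map emb) = Kr.map emb := by
  have h1 : clos gens ≤ Kr := clos_le.2 (by decide +kernel)
  refine eq_of_le_of_card_ge (map_clos emb gens ▸ map_mono h1) ?_
  rw [(rep_gens.gen N1_ok).2, card_map_of_injective emb_inj]
  exact card_Kr

theorem exists_St0 {H : Subgroup G} (e : H ≃* Kr) : ∃ s : St0 G, s.N1 = H := by
  obtain ⟨C, l, h1, h2⟩ := rep_gens.transport
    (((MulEquiv.subgroupCongr clos_gens).trans (Kr.equivMapOfInjective emb emb_inj).symm).trans e.symm)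
  have h3 := h1.unique (h1.pick [0, 1, 2, 3, 4])
  rw [h3] at h1 h2
  exact ⟨⟨_, _, _, _, _, C, h1⟩, h2⟩

variable [Finite G]

theorem norm18 {D : Subgroup G} {a : G} (hD : Nat.card D = 9) (ha : Nat.card (centralizer ({a} : Set G)) = 18)
    (h : D ≤ centralizer {a}) : centralizer {a} ≤ normalizer (D : Set G) := by
  have h1 := card_mul_relIndex h
  rw [hD, ha] at h1
  have h2 : (D.subgroupOf (centralizer {a})).index = 2 := by
    have : D.relIndex (centralizer {a}) = 2 := by omega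
    exact this
  exact (normal_subgroupOf_iff_le_normalizer h).1 (normal_of_index_eq_two h2)

theorem pow_card_cen {a g : G} {n : ℕ} (ha : Nat.card (centralizer ({a} : Set G)) = n) (h : g * a = a * g) :
    g ^ n = 1 := by
  have := pow_card_eq_one' (G := centralizer ({a} : Set G)) (x := ⟨g, mem_cen.2 h⟩)
  rw [ha] at this
  exact congrArg Subtype.val this

namespace St0

variable (s : St0 G)

/-- `a0` is not conjugate to an element with a centraliser of order eighteen. -/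
theorem not_conj18 {a : G} (ha : Nat.card (centralizer ({a} : Set G)) = 18) (g : G) : g * s.a0 * g⁻¹ ≠ a := by
  rintro rfl
  have := pow_card_cen ha (cjcomm (g := g) s.comm.2.1)
  rw [conj_pow, conj_eq_one] at this
  exact s.ne.2.2.2.1 this

theorem D_le_cen {a : G} (ha : a ∈ s.D) : s.D ≤ centralizer {a} := fun b hb => mem_cen.2 (s.n4 b hb a ha)

theorem U_norm : ∀ m ∈ s.U, ∀ a ∈ s.D, m * a * m⁻¹ ∈ s.D := s.hL.decide s.rep (by decide +kernel)

theorem not_c2 (hN : ∀ g ∈ pm s.a0, g ∈ s.N1) (h72 : Nat.card (normalizer (s.D : Set G)) = 72) :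
    Nat.card (centralizer ({s.c2} : Set G)) ≠ 18 := fun h18 => by
  have h1 : ∃ g ∈ normalizer (s.D : Set G), g ∉ s.N1 := by
    by_contra h
    push Not at h
    have h2 := s.hL.count_le s.rep s.gN.1 (fun g => g * s.c2 * g⁻¹ ∈ s.D) 36 (by decide +kernel)
    have h3 := (card_le_ncard (F := normalizer (s.D : Set G)) (T := {g | g ∈ s.N1 ∧ g * s.c2 * g⁻¹ ∈ s.D})
      fun g hg => ⟨h g hg, conj_mem_of_mem_norm hg s.mem.2.2.2.2.2.1⟩).trans h2
    omega
  obtain ⟨g, hg, hg1⟩ := h1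
  have hU : ∀ m ∈ s.U, m ∈ normalizer (s.D : Set G) := fun m hm => mem_normalizer_of_conj_mem (s.U_norm m hm)
  have h2 : ∃ g ∈ normalizer (s.D : Set G), g * s.a0 * g⁻¹ = s.a0 * s.c2 := by
    rcases s.n3 _ (conj_mem_of_mem_norm hg s.mem.2.2.2.2.1) with h | h | h | h | h | ⟨m, hm, h⟩
    · exact absurd (conj_eq_one.1 h) (fun e => by simpa [e] using s.ord.1)
    · exact absurd (hN g (.inl h)) hg1
    · exact absurd (hN g (.inr h)) hg1
    · exact absurd h (s.not_conj18 h18 _)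
    · exact absurd ((cjc h).trans (cjs s.comm.2.2.2.2.2.2.1)) (s.not_conj18 h18 _)
    · exact ⟨m⁻¹ * g, mul_mem (inv_mem (hU m hm)) hg, (cjc rfl).trans (cjs h)⟩
  obtain ⟨g, hg, h2⟩ := h2
  have gK : s.C.Lists K_t.dom (clos [s.a0, s.c2, s.d2]) ∧ Nat.card (clos [s.a0, s.c2, s.d2]) = 18 :=
    (s.rep.pick [0, 5, 6]).gen K_ok
  have h3 : {x | x ∈ clos [s.a0, s.c2] ∧ x ∉ s.Z2}.ncard = 6 :=
    s.hL.count s.rep (s.rep.pick [0, 5]) D_ok (fun x => x ∉ s.Z2) (by decide +kernel)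
  have hz : (1 : G) ∈ s.Z2 ∧ s.c2 ∈ s.Z2 ∧ s.c2⁻¹ ∈ s.Z2 ∧ s.a2 ∈ s.U ∧ s.d2 ∈ s.U ∧ s.a2 * s.a0 * s.a2⁻¹ = s.a0⁻¹ :=
    s.hL.decide s.rep (by decide +kernel)
  have h4 := mul_card_le_of_conj (K := clos [s.a0, s.c2, s.d2]) (L := normalizer (s.D : Set G)) (z := s.a0)
    (S := {x | x ∈ clos [s.a0, s.c2] ∧ x ∉ s.Z2})
    (clos_le.2 (by
      simp only [List.forall_mem_cons]
      exact ⟨le_normalizer s.mem.2.2.2.2.1, le_normalizer s.mem.2.2.2.2.2.1, hU _ hz.2.2.2.2.1, by simp⟩))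
    (fun k hk => (commute_clos (g := s.a0) (by
      simp only [List.forall_mem_cons]
      exact ⟨trivial, s.comm.1.symm, s.comm.2.2.1, by simp⟩) k hk).symm)
    (by
      rintro a ⟨ha, ha1⟩
      rcases s.n3 a ha with rfl | rfl | rfl | rfl | rfl | ⟨m, hm, rfl⟩
      · exact absurd hz.1 ha1
      · exact ⟨1, one_mem _, by group⟩
      · exact ⟨_, hU _ hz.2.2.2.1, hz.2.2.2.2.2⟩
      · exact absurd hz.2.1 ha1
      · exact absurd hz.2.2.1 ha1
      · exact ⟨m * g, mul_mem (hU m hm) hg, cjc h2⟩)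
  rw [h3, gK.2, h72] at h4
  omega

end St0

/-- The configuration: `N1` is the normaliser of `⟨a0⟩`, and `σ` swaps `a0` with `c2` and `a2` with `d2`. -/
structure St (G : Type u) [Group G] extends St0 G where
  σ : G
  hN : ∀ g ∈ pm a0, g ∈ toSt0.N1
  s2 : σ * σ = 1
  sc : σ * a0 * σ⁻¹ = toSt0.c2
  sd : σ * toSt0.d2 * σ⁻¹ = a2
  hy : Nat.card (centralizer ({a0 * toSt0.c2} : Set G)) = 18

theorem cj_inv2 {σ a b : G} (s2 : σ * σ = 1) (h : σ * a * σ⁻¹ = b) : σ * b * σ⁻¹ = a := by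
  rw [← h, ← mul_assoc, ← mul_assoc, s2, one_mul, mul_assoc, ← mul_inv_rev, s2, inv_one, mul_one]

theorem St0.exists_St (s : St0 G) (hN : ∀ g ∈ pm s.a0, g ∈ s.N1)
    (hy : Nat.card (centralizer ({s.a0 * s.c2} : Set G)) = 18) : Nonempty (St G) := by
  have : Fact (Nat.Prime 2) := ⟨Nat.prime_two⟩
  obtain ⟨⟨σ, hσ⟩, ho⟩ := exists_prime_orderOf_dvd_card' (G := centralizer ({s.a0 * s.c2} : Set G)) 2 (by rw [hy]; decide)
  rw [orderOf_eq_prime_iff] at ho
  have s2 : σ * σ = 1 := by simpa [pow_two] using congrArg Subtype.val ho.1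
  have s1 : σ ≠ 1 := fun h => ho.2 (Subtype.ext h)
  have hyD : s.a0 * s.c2 ∈ s.D := mul_mem s.mem.2.2.2.2.1 s.mem.2.2.2.2.2.1
  have h1 := norm18 s.gD.2 hy (s.D_le_cen hyD) hσ
  have h2 : σ ∉ s.N1 := fun h => by
    have h3 : ∀ a ∈ s.D, a * a = 1 → a = 1 := s.hL.decide s.rep (by decide +kernel)
    exact s1 (h3 _ (s.n5 σ h (mem_cen.1 hσ)) s2)
  have sc : σ * s.a0 * σ⁻¹ = s.c2 := by
    rcases s.n3 _ (conj_mem_of_mem_norm h1 s.mem.2.2.2.2.1) with h | h | h | h | h | ⟨m, hm, h⟩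
    · exact absurd (conj_eq_one.1 h) (fun e => by simpa [e] using s.ord.1)
    · exact absurd (hN σ (.inl h)) h2
    · exact absurd (hN σ (.inr h)) h2
    · exact h
    · have h3 := mem_cen'.1 hσ
      have h4 : σ * s.c2 * σ⁻¹ = s.a0⁻¹ := by
        have := cj_inv2 s2 h
        rw [← this]; group
      rw [cjm, h, h4] at h3
      have h5 : s.c2⁻¹ * s.a0⁻¹ ≠ s.a0 * s.c2 := s.hL.decide s.rep (by decide +kernel)
      exact absurd h3 h5
    · exact absurd ((cjc rfl).trans (cjs h)) (s.not_conj18 hy _)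
  have sc' := cj_inv2 s2 sc
  have t1 : σ * s.d2 * σ⁻¹ * s.a0 * (σ * s.d2 * σ⁻¹)⁻¹ = s.a0⁻¹ := by
    rw [← sc']
    calc _ = σ * (s.d2 * s.c2 * s.d2⁻¹) * σ⁻¹ := by group
      _ = _ := by rw [s.comm.2.2.2.2.2.2.1]; group
  have t2 : σ * s.d2 * σ⁻¹ * s.c2 = s.c2 * (σ * s.d2 * σ⁻¹) := by
    rw [← sc]; exact cjcomm s.comm.2.2.1.symm
  have key : ∀ k : G, k * s.a0 = s.a0 * k → k * s.c2 = s.c2 * k → k * s.d2 = s.d2 * k →
      k * (σ * s.d2 * σ⁻¹) * k⁻¹ = s.a2 → Nonempty (St G) := fun k k1 k2 k3 k4 =>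
    ⟨⟨s, k * σ * k⁻¹, hN, conj_sq s2,
      by rw [cjc (cjs (mul_inv_eq_iff_eq_mul.2 k1)), cjc sc, mul_inv_eq_iff_eq_mul.2 k2],
      by rw [cjc (cjs (mul_inv_eq_iff_eq_mul.2 k3)), cjc rfl, k4], hy⟩⟩
  rcases s.n6 _ (hN _ (.inr t1)) (conj_sq s.sq.2.2.2.2.1) t2 t1 with h | h | h
  · exact key 1 (by simp) (by simp) (by simp) (by simpa using h)
  · exact key s.a0 rfl s.comm.1.symm s.comm.2.2.1 h
  · exact key s.a0⁻¹ (by group) (Commute.inv_left s.comm.1.symm).eq (Commute.inv_left s.comm.2.2.1).eq h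

theorem exists_pre {y z : G} (z3 : z ^ 3 = 1) (z1 : z ≠ 1) (y3 : y ^ 3 = 1) (hyz : y * z = z * y)
    (hne : y ∉ zpowers z) (hy : Nat.card (centralizer ({y} : Set G)) = 18)
    (eL : normalizer (zpowers z : Set G) ≃* Kr) : Nonempty (St G) ∨ ∃ s : St0 G, (∀ g ∈ pm s.a0, g ∈ s.N1) ∧
      (z = s.a0 ∨ z = s.a0⁻¹) ∧ normalizer (zpowers z : Set G) = s.N1 ∧ ∃ n ∈ s.N1, n * s.a0 = s.a0 * n ∧
        n * y * n⁻¹ = s.c2 ∧ Nat.card (centralizer ({s.c2} : Set G)) = 18 := by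
  obtain ⟨s, hs⟩ := exists_St0 eL
  have hc : ∀ g ∈ s.N1, Commute (g * z * g⁻¹) z := fun g hg => by
    obtain ⟨n, hn⟩ := conj_mem_of_mem_norm (hs ▸ hg : g ∈ normalizer (zpowers z : Set G)) (mem_zpowers z)
    rw [← hn]
    exact (Commute.refl z).zpow_left n
  have hz : z = s.a0 ∨ z = s.a0⁻¹ :=
    (s.n1 z (hs ▸ le_normalizer (mem_zpowers z)) z3 (hc _ (mem_clos (by simp)))
      (hc _ (mem_clos (by simp))) (hc _ (mem_clos (by simp))) (hc _ (mem_clos (by simp)))).resolve_left z1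
  have hz' : zpowers z = zpowers s.a0 := by rcases hz with rfl | rfl <;> simp
  have hN : ∀ g ∈ pm s.a0, g ∈ s.N1 := fun g hg => by rw [hs, hz']; exact pm_le_normalizer _ hg
  have hy0 : y * s.a0 = s.a0 * y := by
    rcases hz with rfl | h
    · exact hyz
    · rw [← inv_inv s.a0, ← h]; exact (Commute.inv_right hyz).eq
  rw [hz'] at hne
  rcases s.n2 y (hN y (mem_pm_of_comm hy0)) hy0 y3 with h | h | h | ⟨n, hn1, hn, h⟩
  · exact absurd (h ▸ one_mem _) hne
  · exact absurd (h ▸ mem_zpowers _) hne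
  · exact absurd (h ▸ inv_mem (mem_zpowers _)) hne
  have h18 : Nat.card (centralizer ({n * y * n⁻¹} : Set G)) = 18 := by
    rw [← cj_centralizer_singleton, card_cj, hy]
  rcases h with h | h | h
  · exact .inr ⟨s, hN, hz, hs.symm, n, hn1, hn, h, h ▸ h18⟩
  · exact .inl (s.exists_St hN (h ▸ h18))
  · have h1 : s.a2 * (s.a0⁻¹ * s.c2) * s.a2⁻¹ = s.a0 * s.c2 := s.hL.decide s.rep (by decide +kernel)
    exact .inl (s.exists_St hN (by rw [← h1, ← cj_centralizer_singleton, card_cj, ← h, h18]))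

theorem exists_St {D : Subgroup G} {y z : G} (hgen : closure {y, z} = D) (hcomm : IsMulCommutative D)
    (hcard : Nat.card D = 9) (hexp : ∀ a ∈ D, a ^ 3 = 1) (h72 : Nat.card (normalizer (D : Set G)) = 72)
    (hy : Nat.card (centralizer ({y} : Set G)) = 18) (eL : normalizer (zpowers z : Set G) ≃* Kr) :
    Nonempty (St G) := by
  have hyD : y ∈ D := hgen ▸ subset_closure (by simp)
  have hzD : z ∈ D := hgen ▸ subset_closure (by simp)
  have hyz : y * z = z * y := congrArg Subtype.val (hcomm.is_comm.comm ⟨y, hyD⟩ ⟨z, hzD⟩)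
  have small : ∀ c : G, c ^ 3 = 1 → y ∈ zpowers c → z ∈ zpowers c → False := fun c h1 h2 h3 => by
    have h4 : D ≤ zpowers c := hgen ▸ (closure_le _).2 (by simp [Set.insert_subset_iff, h2, h3])
    have h5 := card_le_of_le h4
    rw [Nat.card_zpowers, hcard] at h5
    have := Nat.le_of_dvd (by norm_num) (orderOf_dvd_of_pow_eq_one h1)
    omega
  refine (exists_pre (hexp z hzD) (fun h => small y (hexp y hyD) (mem_zpowers y) (h ▸ one_mem _)) (hexp y hyD) hyz
    (fun h => small z (hexp z hzD) h (mem_zpowers z)) hy eL).resolve_right ?_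
  rintro ⟨s, hN, hz, -, n, -, hn, h, h18⟩
  have a0D := s.mem.2.2.2.2.1
  have hD : cj n D = s.D := by
    refine eq_of_le_of_card_ge ?_ (by rw [card_cj, hcard, s.gD.2])
    rw [← hgen, cj_closure, closure_le]
    rintro _ ⟨a, rfl | rfl, rfl⟩
    · simp only [h, SetLike.mem_coe]
      exact s.mem.2.2.2.2.2.1
    · have h1 : n * s.a0 * n⁻¹ = s.a0 := mul_inv_eq_iff_eq_mul.2 hn
      rcases hz with h | h <;> simp only [h, SetLike.mem_coe]
      · rw [h1]; exact a0D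
      · rw [← conj_inv, h1]; exact inv_mem a0D
  exact s.not_c2 hN (by rw [← hD, ← cj_normalizer, card_cj, h72]) h18

theorem exists_St' {z c t : G} (z3 : orderOf z = 3) (hzc : z * c = c * z) (hne : c ∉ zpowers z) (t2 : t * t = 1)
    (ht : t * z * t⁻¹ = c) (hy : Nat.card (centralizer ({z * c} : Set G)) = 18)
    (eL : normalizer (zpowers z : Set G) ≃* Kr) : Nonempty (St G) := by
  have h3 : z ^ 3 = 1 := z3 ▸ pow_orderOf_eq_one z
  refine (exists_pre h3 (fun h => by simp [h] at z3)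
    (by rw [Commute.mul_pow hzc, h3, ← ht, conj_pow, h3]; group) (by rw [mul_assoc, ← hzc])
    (fun h => hne ((mul_mem_cancel_left (mem_zpowers z)).1 h)) hy eL).resolve_right ?_
  rintro ⟨s, -, -, hs, n, hn, -, h, h18⟩
  have h1 : {g | g ∈ clos [s.a0, s.a2, s.a3, s.a4, s.a5] ∧ g * s.c2 = s.c2 * g}.ncard = 18 :=
    s.hL.count s.rep s.rep0 N1_ok (fun g => g * s.c2 = s.c2 * g) (by decide +kernel)
  have h2 := Set.eq_of_subset_of_ncard_le (s := {g | g ∈ clos [s.a0, s.a2, s.a3, s.a4, s.a5] ∧ g * s.c2 = s.c2 * g})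
    (t := (centralizer ({s.c2} : Set G) : Set G)) (fun g hg => mem_cen.2 hg.2) (by rw [h1, ← h18]; rfl)
  have h4 : n * t * n⁻¹ ∈ (centralizer ({s.c2} : Set G) : Set G) := mem_cen.2 (h ▸ cjcomm
    (mul_inv_eq_iff_eq_mul.1 (by rw [cjm, ht, cj_inv2 t2 ht, hzc])))
  rw [← h2] at h4
  have h5 : t ∈ normalizer (zpowers z : Set G) := by
    rw [hs, ← cjs (rfl : n * t * n⁻¹ = _)]
    exact mul_mem (mul_mem (inv_mem hn) h4.1) (inv_mem (inv_mem hn))
  exact hne (ht ▸ conj_mem_of_mem_norm h5 (mem_zpowers z))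

end Cfsg.Agent.T16.A8
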