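import Mathlib
import Cfsg.Agent.T16.A8St
import Cfsg.Agent.T16.Kit3
import Cfsg.Agent.Perm.CompLen

/-!
Recognition of the alternating group of degree eight: the centraliser of a four-group.
-/

set_option autoImplicit false
set_option synthInstance.maxSize 100000
set_option synthInstance.maxHeartbeats 1000000
set_option linter.unusedSectionVars false

namespace Cfsg.Agent.T16.A8

open Cfsg.Agent.Spor Cfsg.Agent.Rec Cfsg.Agent.Inv.Fz Subgroup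

universe u

variable {G : Type u} [Group G] [Finite G]

theorem no3 {N : Subgroup G} (h : (Nat.card N).Coprime 3) {n : G} (hn : n ∈ N) : orderOf n ≠ 3 := fun e => by
  have := Nat.Coprime.coprime_dvd_left (N.orderOf_dvd_natCard hn) h
  rw [e] at this
  exact absurd this (by decide)

namespace St

variable (s : St G)

theorem sc' : s.σ * s.c2 * s.σ⁻¹ = s.a0 := cj_inv2 s.s2 s.sc
theorem sd' : s.σ * s.a2 * s.σ⁻¹ = s.d2 := cj_inv2 s.s2 s.sd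
theorem cj2 (g : G) : s.σ * (s.σ * g * s.σ⁻¹) * s.σ⁻¹ = g := cj_inv2 s.s2 rfl

theorem memN {g : G} (h : g * s.a0 = s.a0 * g) : g ∈ s.N1 := s.hN g (mem_pm_of_comm h)

theorem σy : s.σ * (s.a0 * s.c2) = s.a0 * s.c2 * s.σ :=
  mul_inv_eq_iff_eq_mul.1 (by rw [cjm, s.sc, s.sc', s.comm.1])

theorem a0_ne : s.a0 * s.σ ≠ s.σ * s.a0 := fun h => by
  have h1 : s.a0 ≠ s.c2 := s.hL.decide s.rep (by decide +kernel)
  exact h1 (by rw [← s.sc, ← h]; group)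

theorem σ1 : s.σ ≠ 1 := fun h => s.a0_ne (by simp [h])

theorem syl_y : IsSylIn 3 (zpowers (s.a0 * s.c2)) (centralizer {s.σ}) := by
  refine syl3_zpowers (mem_cen.2 s.σy.symm) s.ord.2.2.1 fun h => ?_
  have h1 := card_mul_relIndex (inf_le_right : centralizer {s.σ} ⊓ centralizer {s.a0 * s.c2} ≤ _)
  rw [s.hy] at h1
  have h2 : s.a0⁻¹ ∈ centralizer ({s.a0 * s.c2} : Set G) :=
    s.D_le_cen (mul_mem s.mem.2.2.2.2.1 s.mem.2.2.2.2.2.1) (inv_mem s.mem.2.2.2.2.1)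
  have h3 : s.a0⁻¹ * s.a0⁻¹ = s.a0 := s.hL.decide s.rep (by decide +kernel)
  obtain ⟨m, hm⟩ := h
  rw [hm] at h1
  have h4 : m * (centralizer {s.σ} ⊓ centralizer {s.a0 * s.c2} : Subgroup G).relIndex
      (centralizer {s.a0 * s.c2}) = 2 := by linarith
  have h5 : s.a0⁻¹ * s.a0⁻¹ ∈ (centralizer {s.σ} ⊓ centralizer {s.a0 * s.c2} : Subgroup G) := by
    rcases (Nat.dvd_prime Nat.prime_two).1 (Dvd.intro_left m h4) with h5 | h5
    · exact relIndex_eq_one.1 h5 (mul_mem h2 h2)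
    · exact mul_self_mem_of_index_two (H := Subgroup.subgroupOf _ _) h5 ⟨_, h2⟩
  rw [h3] at h5
  exact s.a0_ne (mem_cen.1 h5.1)

theorem not_conj_d2 (g : G) : g * s.σ * g⁻¹ ≠ s.d2 := fun h => by
  rcases (conj_of_syl3 s.syl_y s.ord.2.2.1 (isConj_iff.2 ⟨g, h⟩) s.ord.1 s.comm.2.2.1).1 with h | h <;>
    obtain ⟨k, hk⟩ := isConj_iff.1 h
  · exact s.not_conj18 s.hy _ (cjs hk)
  · have h1 : s.a4 * (s.a0 * s.c2)⁻¹ * s.a4⁻¹ = s.a0 * s.c2 := s.hL.decide s.rep (by decide +kernel)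
    exact s.not_conj18 s.hy _ ((cjc (cjs hk)).trans h1)

/-- No conjugate of `σ` lies in `N1`. -/
theorem σ_not (g : G) : g * s.σ * g⁻¹ ∉ s.N1 := fun h => by
  rcases s.n7 _ h (conj_sq s.s2) with h | ⟨m, -, h | h⟩
  · exact s.σ1 (conj_eq_one.1 h)
  · exact s.not_conj_d2 _ ((cjc ((cjc rfl).trans h)).trans s.sd')
  · exact s.not_conj_d2 _ ((cjc rfl).trans h)

/-- The centraliser of the four-group. -/
def L : Subgroup G := centralizer (s.V : Set G)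

theorem mem_L {g : G} : g ∈ s.L ↔ g * s.x = s.x * g ∧ g * s.v = s.v * g :=
  ⟨fun h => ⟨(h _ s.mem.2.2.2.2.2.2.1).symm, (h _ s.mem.2.2.2.2.2.2.2.1).symm⟩, fun h a ha =>
    (commute_clos (by simpa using h) a ha).symm⟩

theorem a0L : s.a0 ∈ s.L := s.mem_L.2 ⟨s.comm.2.2.2.1, s.comm.2.2.2.2.1⟩

theorem memCV0 {g : G} (hg : g ∈ s.L) (h : g ∈ pm s.a0) : g ∈ s.CV0 :=
  s.n8 g (s.hN g h) (s.mem_L.1 hg).1 (s.mem_L.1 hg).2

theorem X_le : cj s.σ (s.L ⊓ centralizer {s.c2}) ≤ s.A ∨ cj s.σ (s.L ⊓ centralizer {s.c2}) ≤ s.As := by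
  set X := cj s.σ (s.L ⊓ centralizer {s.c2}) with hX
  have hc : s.c2 ∈ X := s.sc ▸ conj_mem_cj.2 ⟨s.a0L, mem_cen.2 s.comm.1.symm⟩
  have hZ : s.Z2 ≤ X := clos_le.2 (by simpa using hc)
  have h1 : ∀ g ∈ X, s.σ * g * s.σ⁻¹ ∈ s.L ⊓ centralizer {s.c2} := fun g hg => by
    rwa [← s.cj2 g, conj_mem_cj] at hg
  have h2 : ∀ u ∈ X, u * s.c2 * u⁻¹ = s.c2 ∨ u * s.c2 * u⁻¹ = s.c2⁻¹ → u ∈ s.Z2 := fun u hu h => by
    have h3 : s.σ * u * s.σ⁻¹ ∈ pm s.a0 := by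
      rw [mem_pm, ← s.sc', conj_inv, ← cjm, ← cjm, conj_inv]
      rcases h with h | h <;> simp [h]
    have hz : (1 : G) ∈ s.Z2 ∧ s.c2 ∈ s.Z2 ∧ s.c2⁻¹ ∈ s.Z2 := s.hL.decide s.rep (by decide +kernel)
    rw [← s.cj2 u]
    rcases (s.n10 _ (s.memCV0 (h1 u hu).1 h3)).1 (.inl (mem_cen.1 (h1 u hu).2)) with h | h | h <;> rw [h]
    · simp
    · exact s.sc ▸ hz.2.1
    · rw [← conj_inv, s.sc]; exact hz.2.2
  refine SubgroupClass.subset_union.1 fun g hg => ?_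
  have h3 : g * s.a0 = s.a0 * g := by
    rw [← s.cj2 g, ← s.sc']; exact cjcomm (mem_cen.1 (h1 g hg).2)
  rcases s.n9 g (s.memN h3) h3 with h | h | ⟨a, ha, b, hb, c, hc, d, hd, h4, h5⟩
  · exact .inl h
  · exact .inr h
  · exact absurd (h2 _ (mul_mem (mul_mem (mul_mem (mul_mem (mul_mem (mul_mem (mul_mem (mul_mem hg (hZ ha)) hg)
      (hZ hb)) hg) (hZ hc)) hg) (hZ hd)) hg) h5) h4

theorem card_X : Nat.card (s.L ⊓ centralizer {s.c2} : Subgroup G) ≤ 12 := by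
  rw [← card_cj s.σ]
  rcases s.X_le with h | h
  · exact s.gA.2 ▸ card_le_of_le h
  · exact s.gAs.2 ▸ card_le_of_le h

theorem c2_norm : s.c2 ∈ normalizer (s.L : Set G) :=
  normalizer_le_normalizer_centralizer _ (mem_normalizer_of_conj_mem fun a ha => (s.n12.2 a ha).1)

theorem card_mixed {m : G} : Nat.card (centralizer ({m * (s.a0 * s.c2) * m⁻¹} : Set G)) = 18 := by
  rw [← cj_centralizer_singleton, card_cj, s.hy]

theorem ft1 {N : Subgroup G} (hN : Core3 N s.L) : FT1 s.V s.L N s.a0 := by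
  have hV : Sec s.V s.L := ⟨fun a ha b hb => s.n12.1 b hb a ha, centralizer_le_normalizer _, by rw [s.gV.2]; decide⟩
  refine (ft hV hN s.a0L s.ord.1 fun g hg h => ?_).resolve_right fun h => ?_
  · refine (clos_le.2 ?_ : s.CV0 ≤ _) (s.memCV0 hg (mem_pm_of_comm h))
    simp only [List.forall_mem_cons]
    exact ⟨mem_sup_left (mem_zpowers _), mem_sup_right s.mem.2.2.2.2.2.2.1, mem_sup_right s.mem.2.2.2.2.2.2.2.1,
      by simp⟩
  obtain ⟨k, -, hk⟩ := ft_cover hN s.a0L s.ord.1 h s.c2_norm s.ord.2.2.2.2 s.comm.1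
  refine hk (Perm.CompLen.isSolvable_of_card_lt_sixty ?_)
  have hne : ∀ a ∈ zpowers s.a0, s.c2 * s.a0 ^ k ≠ a := fun a ha e => by
    have h1 : s.c2 ∈ zpowers s.a0 := by
      rw [eq_mul_inv_of_mul_eq e]; exact mul_mem ha (inv_mem (pow_mem (mem_zpowers _) k))
    have h2 : s.c2 * s.x ≠ s.x * s.c2 := s.hL.decide s.rep (by decide +kernel)
    exact h2 (s.mem_L.1 (zpowers_le.2 s.a0L h1)).1
  have := s.card_X
  rcases s.n3 _ (mul_mem s.mem.2.2.2.2.2.1 (pow_mem s.mem.2.2.2.2.1 k)) with h | h | h | h | h | ⟨m, -, h⟩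
  · exact absurd h (hne _ (one_mem _))
  · exact absurd h (hne _ (mem_zpowers _))
  · exact absurd h (hne _ (inv_mem (mem_zpowers _)))
  · rw [h]; omega
  · have e : centralizer ({s.c2⁻¹} : Set G) = centralizer {s.c2} := by
      ext g; rw [mem_cen, mem_cen]; exact Commute.inv_right_iff
    rw [h, e]; omega
  · have h1 := card_le_of_le (inf_le_right : s.L ⊓ centralizer {s.c2 * s.a0 ^ k} ≤ _)
    rw [← h, s.card_mixed] at h1
    rw [← h]; omega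

theorem sig {N H : Subgroup G} (hN : Core3 N s.L) (hV : s.V ≤ H) (h : N ⊓ centralizer {s.c2} ≤ H) : N ≤ H := by
  have hD : s.D ≤ normalizer (N : Set G) := clos_le.2 (by
    simp only [List.forall_mem_cons]
    exact ⟨hN.norm s.a0L, hN.char s.c2_norm, by simp⟩)
  have h3 : ∀ a ∈ s.D, a ^ 3 = 1 ∧ (a = 1 ∨ orderOf a = 3) := s.hL.decide s.rep (by decide +kernel)
  have h0 : ∀ n ∈ N, n * s.a0 = s.a0 * n → n ∈ H := fun n hn e =>
    hV ((s.n10 n (s.memCV0 (hN.le hn) (mem_pm_of_comm e))).2.2.resolve_right (no3 hN.cop (mul_mem hn hn)))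
  refine GT.CopAct.le_of_centralizer_elt_le (A := s.D) ⟨⟨fun a b => Subtype.ext (s.n4 _ a.2 _ b.2)⟩⟩ (fun hc => ?_) hD
    (by rw [s.gD.2]; exact (Nat.Coprime.pow_right 2 hN.cop).symm) fun a ha a1 n hn => ?_
  · obtain ⟨g, hg⟩ := isCyclic_iff_exists_orderOf_eq_natCard.1 hc
    have h4 := Nat.le_of_dvd (by norm_num) (orderOf_dvd_of_pow_eq_one (x := g) (Subtype.ext (h3 _ g.2).1))
    rw [hg, s.gD.2] at h4
    omega
  have e := mem_cen.1 hn.2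
  rcases s.n3 a ha with rfl | rfl | rfl | rfl | rfl | ⟨m, -, rfl⟩
  · exact absurd rfl a1
  · exact h0 n hn.1 e
  · exact h0 n hn.1 (Commute.inv_right_iff.1 e)
  · exact h hn
  · exact h ⟨hn.1, mem_cen.2 (Commute.inv_right_iff.1 e)⟩
  · have h4 := norm18 s.gD.2 s.card_mixed (s.D_le_cen ha) hn.2
    have a0D := s.mem.2.2.2.2.1
    have h5 : n * s.a0 * n⁻¹ * s.a0⁻¹ ∈ N := by
      have := N.mul_mem hn.1 (conj_mem_of_mem_norm (hD a0D) (N.inv_mem hn.1))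
      simpa only [mul_assoc] using this
    have h6 := (h3 _ (mul_mem (conj_mem_of_mem_norm h4 a0D) (inv_mem a0D))).2.resolve_right (no3 hN.cop h5)
    exact h0 n hn.1 (mul_inv_eq_iff_eq_mul.1 (mul_inv_eq_one.1 h6))

theorem step1 : (∀ g ∈ s.L, g ∈ s.CV0) ∨ ∃ w, (w = s.x * s.v ∨ w = s.k * s.a4) ∧ s.σ * w * s.σ⁻¹ ∈ s.L ∧
    ∀ g ∈ s.L, g ∈ clos [s.x, s.v, s.σ * w * s.σ⁻¹, s.a0] := by
  obtain ⟨N, hN⟩ := exists_core3 s.L
  have cov : ∀ H : Subgroup G, N ≤ H → s.CV0 ≤ H → ∀ g ∈ s.L, g ∈ H := fun H h1 h2 g hg => by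
    obtain ⟨n, hn, h, hh, h3, rfl⟩ := (s.ft1 hN).cover g hg
    exact mul_mem (h1 hn) (h2 (s.memCV0 hh h3))
  by_cases hb : N ⊓ centralizer {s.c2} = ⊥
  · exact .inl (cov _ (s.sig hN s.le.2.2 (hb ▸ bot_le)) le_rfl)
  obtain ⟨⟨n, hn⟩, n1⟩ := ne_bot_iff_exists_ne_one.1 hb
  have n1' : n ≠ 1 := fun h => n1 (Subtype.ext h)
  have key : ∀ (W : Subgroup G) (w : G), cj s.σ (s.L ⊓ centralizer {s.c2}) ≤ W →
      (∀ g ∈ W, g = 1 ∨ orderOf g = 3 ∨ g = w ∨ s.c2 * g * s.c2⁻¹ = w ∨ s.c2⁻¹ * g * s.c2⁻¹⁻¹ = w) →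
      (∀ g ∈ W, orderOf g = 3 ∨ g = 1 ∨ g = w ∨ g = s.c2 * w * s.c2⁻¹ ∨ g = w * (s.c2 * w * s.c2⁻¹)) →
      s.σ * w * s.σ⁻¹ ∈ s.L ∧ ∀ g ∈ s.L, g ∈ clos [s.x, s.v, s.σ * w * s.σ⁻¹, s.a0] := fun W w hW p1 p2 => by
    have h1 : ∀ n ∈ N ⊓ centralizer {s.c2}, s.σ * n * s.σ⁻¹ ∈ W ∧ orderOf (s.σ * n * s.σ⁻¹) ≠ 3 := fun n hn =>
      ⟨hW (conj_mem_cj.2 ⟨hN.le hn.1, hn.2⟩), by
        rw [← MulAut.conj_apply, MulEquiv.orderOf_eq]; exact no3 hN.cop hn.1⟩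
    have nL := hN.le hn.1
    refine ⟨?_, cov _ (s.sig hN (clos_le.2 fun a ha => mem_clos (by simp at ha ⊢; tauto)) fun n hn => ?_)
      (clos_le.2 fun a ha => mem_clos (by simp at ha ⊢; tauto))⟩
    · rcases p1 _ (h1 n hn).1 with h | h | h | h | h
      · exact absurd (conj_eq_one.1 h) n1'
      · exact absurd h (h1 n hn).2
      · rw [← h, s.cj2]; exact nL
      · rw [← h, cjm, cjm, s.cj2, ← conj_inv, s.sc']; exact mul_mem (mul_mem s.a0L nL) (inv_mem s.a0L)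
      · rw [← h, cjm, cjm, s.cj2, inv_inv s.c2, ← conj_inv, s.sc']; exact mul_mem (mul_mem (inv_mem s.a0L) nL) s.a0L
    · have m1 : s.σ * w * s.σ⁻¹ ∈ clos [s.x, s.v, s.σ * w * s.σ⁻¹, s.a0] := mem_clos (by simp)
      have m2 : s.a0 ∈ clos [s.x, s.v, s.σ * w * s.σ⁻¹, s.a0] := mem_clos (by simp)
      have m3 : s.σ * (s.c2 * w * s.c2⁻¹) * s.σ⁻¹ ∈ clos [s.x, s.v, s.σ * w * s.σ⁻¹, s.a0] := by
        rw [cjm, cjm, ← conj_inv, s.sc']; exact mul_mem (mul_mem m2 m1) (inv_mem m2)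
      rw [← s.cj2 n]
      rcases p2 _ (h1 n hn).1 with h | h | h | h | h
      · exact absurd h (h1 n hn).2
      · rw [h]; simp
      · rw [h]; exact m1
      · rw [h]; exact m3
      · rw [h, cjm]; exact mul_mem m1 m3
  rcases s.X_le with h | h
  · exact .inr ⟨_, .inl rfl, key _ _ h s.n13.1 s.n13.2.2.1⟩
  · exact .inr ⟨_, .inr rfl, key _ _ h s.n13.2.1 s.n13.2.2.2⟩

theorem step2 : ¬ ∀ g ∈ s.L, g ∈ s.CV0 := fun hL => by
  have h1 : ∀ g ∈ normalizer (s.V : Set G), g ∈ s.N1 := fun g hg =>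
    s.hN g ((s.n10 _ (hL _ (conj_mem_of_mem_norm (normalizer_le_normalizer_centralizer _ hg) s.a0L))).2.1 (by
      rw [← MulAut.conj_apply, MulEquiv.orderOf_eq]; exact s.ord.1))
  have hU : ∀ u ∈ s.U, s.σ * u * s.σ⁻¹ ∈ s.U := conj_clos_mem (by
    simp only [List.forall_mem_cons, s.sd, s.sd']
    exact ⟨mem_clos (by simp), mem_clos (by simp), by simp⟩)
  have hS : IsSylIn 2 s.T0 s.N1 := isSylIn_of_card s.le.2.1 (k := 3) (m := 45) s.gT0.2 s.gN.2 (by decide)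
  have hS' : IsSylIn 2 s.T0 ⊤ := isSylIn_of_normalizer hS le_top fun g _ hg => by
    obtain ⟨-, -, -, -, -, x2, v2, -⟩ := s.sq
    rcases s.n11 _ (conj_mem_of_mem_norm hg s.mem.2.2.2.2.2.2.2.2.1) (conj_sq x2) (fun h => s.ne.1 (conj_eq_one.1 h))
      _ (conj_mem_of_mem_norm hg s.mem.2.2.2.2.2.2.2.2.2.1) (conj_sq v2) (fun h => s.ne.2.1 (conj_eq_one.1 h))
      (cjcomm s.comm.2.2.2.2.2.1) (fun h => s.ne.2.2.1 (by simpa using h)) with h | ⟨h2, h3, h4⟩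
    · exact h1 g (mem_normalizer_of_conj_mem (conj_clos_mem (by simpa using h)))
    · refine absurd (h1 _ (mem_normalizer_of_conj_mem (conj_clos_mem ?_))) (s.σ_not (s.k * g)⁻¹)
      have key : ∀ a : G, s.k * (g * a * g⁻¹) * s.k⁻¹ ∈ s.U →
          (s.k * g)⁻¹ * s.σ * (s.k * g)⁻¹⁻¹ * a * ((s.k * g)⁻¹ * s.σ * (s.k * g)⁻¹⁻¹)⁻¹ ∈ s.V := fun a ha => by
        have e : (s.k * g)⁻¹ * s.σ * (s.k * g)⁻¹⁻¹ * a * ((s.k * g)⁻¹ * s.σ * (s.k * g)⁻¹⁻¹)⁻¹ =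
            g⁻¹ * (s.k⁻¹ * (s.σ * (s.k * (g * a * g⁻¹) * s.k⁻¹) * s.σ⁻¹) * s.k) * g⁻¹⁻¹ := by group
        rw [e]
        have xV := s.mem.2.2.2.2.2.2.1
        have vV := s.mem.2.2.2.2.2.2.2.1
        rcases h4 _ (hU _ ha) with h | h | h | h <;> rw [h]
        · simp
        · rw [cjs rfl]; exact xV
        · rw [cjs rfl]; exact vV
        · rw [← cjm g, cjs rfl]; exact mul_mem xV vV
      simp only [List.forall_mem_cons]
      exact ⟨key _ h2, key _ h3, by simp⟩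
  obtain ⟨g, -, hg⟩ := exists_conj_mem_syl hS' (mem_top s.σ) (k := 1) (by rw [pow_one, pow_two, s.s2])
  exact s.σ_not g (s.le.2.1 hg)

end St

end Cfsg.Agent.T16.A8
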