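import Mathlib
import Cfsg.Agent.T16.A8One
import Cfsg.Agent.Sym.Present

/-!
Recognition of the alternating group of degree eight: the subgroup `A₈` and facts decided inside it.
-/

set_option autoImplicit false
set_option synthInstance.maxSize 100000
set_option synthInstance.maxHeartbeats 1000000
set_option linter.unusedSectionVars false

namespace Cfsg.Agent.T16.A8

open Cfsg.Agent.Spor Cfsg.Agent.Rec Cfsg.Agent.Inv.Fz Subgroup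

universe u

variable {G : Type u} [Group G] [Finite G]

theorem rep_word {C : Cod P8 G} {c : List ℕ} {e : List G} (h : C.RepL c e) (w : List ℕ) {a : ℕ}
    (ha : Nat.beq (evC P8 c w) a = true) : C.Rep a (evalW (nth 1 e) w) :=
  (nbeq_iff _ _).1 ha ▸ h.word w

theorem word_mem (e : List G) (w : List ℕ) : evalW (nth 1 e) w ∈ clos e := evalW_mem fun x _ => nth_mem_clos e x

/-- The configuration with the subgroup `A₈`. -/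
structure St2 (G : Type u) [Group G] extends St G where
  a1 : G
  repA : C.RepL cA [a0, a1, a2, a3, a4, a5]
  repσ : C.Rep (nth 0 cF 13) σ
  σm : σ ∈ clos [a0, a1, a2, a3, a4, a5]
  hV : ∀ g : G, g * toSt0.x = toSt0.x * g → g * toSt0.v = toSt0.v * g → g ∈ clos [toSt0.x, toSt0.v, a1, a0]
  iso : Nonempty (clos [a0, a1, a2, a3, a4, a5] ≃* alternatingGroup (Fin 8))

namespace St

variable (s : St G)

theorem moore {w : G} (hw : w = s.x * s.v ∨ w = s.k * s.a4) (hL : s.σ * w * s.σ⁻¹ ∈ s.L) :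
    ∃ φ : alternatingGroup (Fin (5 + 3)) →* G, ∀ i,
      φ (Sym.mooreGen 5 i) = ![s.a0, s.σ * w * s.σ⁻¹, s.a2, s.a3, s.a4, s.a5] i := by
  have h1 : w ^ 2 = 1 ∧ (s.c2 * w) ^ 3 = 1 ∧ (w * s.d2) ^ 3 = 1 ∧ (w * s.a4) ^ 2 = 1 ∧
      (w * (s.a0 * s.a4 * s.a0⁻¹)) ^ 2 = 1 ∧ w * (s.a0 * s.a4 * s.a0⁻¹) = s.a0 * s.a4 * s.a0⁻¹ * w := by
    rcases hw with rfl | rfl <;> exact s.hL.decide s.rep (by decide +kernel)
  have h2 : s.d2 * s.a2 = s.a4 ∧ s.c2 * s.a4 * s.c2⁻¹ = s.a5 ∧ s.x * s.a5 = s.a3 ∧ s.a2 ^ 2 = 1 ∧ s.a3 ^ 2 = 1 ∧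
      s.a4 ^ 2 = 1 ∧ s.a5 ^ 2 = 1 ∧ (s.a2 * s.a3) ^ 3 = 1 ∧ (s.a3 * s.a4) ^ 3 = 1 ∧ (s.a4 * s.a5) ^ 3 = 1 ∧
      (s.a0 * s.a2) ^ 2 = 1 ∧ (s.a0 * s.a3) ^ 2 = 1 ∧ (s.a0 * s.a4) ^ 2 = 1 ∧ (s.a0 * s.a5) ^ 2 = 1 ∧
      (s.a2 * s.a4) ^ 2 = 1 ∧ (s.a2 * s.a5) ^ 2 = 1 ∧ (s.a3 * s.a5) ^ 2 = 1 := s.hL.decide s.rep (by decide +kernel)
  obtain ⟨w2, r01, r12, r14, r15, c15⟩ := h1
  obtain ⟨e1, e2, e3, q2, q3, q4, q5, r23, r34, r45, r02, r03, r04, r05, r24, r25, r35⟩ := h2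
  have e4 : s.σ * s.a4 * s.σ⁻¹ = s.a4 := by
    nth_rewrite 1 [← e1]
    rw [cjm, s.sd, s.sd', s.comm.2.2.2.2.2.2.2.2]
  have e5 : s.σ * (s.a0 * s.a4 * s.a0⁻¹) * s.σ⁻¹ = s.a5 := by rw [cjm, cjm, ← conj_inv, s.sc, e4, e2]
  have hp : ∀ {a : G} {n : ℕ}, a ^ n = 1 → (s.σ * a * s.σ⁻¹) ^ n = 1 := fun h => by rw [conj_pow, h]; group
  have t1 := hp w2
  have t01 := hp r01
  have t12 := hp r12
  have t14 := hp r14
  have t15 := hp r15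
  have c5 := cjcomm (g := s.σ) c15
  rw [cjm, s.sc'] at t01
  rw [cjm, s.sd] at t12
  rw [cjm, e4] at t14
  rw [cjm, e5] at t15
  rw [e5] at c5
  have t13 : (s.σ * w * s.σ⁻¹ * s.a3) ^ 2 = 1 := by
    have : Commute (s.σ * w * s.σ⁻¹) s.a3 := e3 ▸ Commute.mul_right (s.mem_L.1 hL).1 c5
    rw [this.mul_pow, t1, q3, one_mul]
  have h0 := s.ord.2.2.2.1
  generalize s.σ * w * s.σ⁻¹ = a1 at *
  refine Sym.exists_hom_of_moore 5 _ h0 (fun i hi => ?_) (fun i j h => ?_) fun i j h => ?_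
  · fin_cases i <;> first | exact absurd rfl hi | assumption
  · fin_cases i <;> fin_cases j <;> first | exact absurd h (by decide) | assumption
  · fin_cases i <;> fin_cases j <;> first | exact absurd h (by decide) | assumption

include s in
theorem exists_St2 : Nonempty (St2 G) := by
  obtain ⟨w, hw, hL, hV⟩ := s.step1.resolve_left s.step2
  obtain ⟨φ, hφ⟩ := s.moore hw hL
  generalize s.σ * w * s.σ⁻¹ = a1 at *
  have : IsSimpleGroup (alternatingGroup (Fin (5 + 3))) := alternatingGroup.isSimpleGroup (by simp)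
  have hi : Function.Injective φ := (MonoidHom.ker_eq_bot_iff φ).1 <|
    (IsSimpleGroup.eq_bot_or_eq_top_of_normal φ.ker inferInstance).resolve_right fun h => by
      have h1 : φ (Sym.mooreGen 5 0) = 1 := MonoidHom.mem_ker.1 (h ▸ mem_top _)
      rw [hφ] at h1
      have h2 := s.ord.1
      rw [show s.a0 = 1 from h1, orderOf_one] at h2
      omega
  let C : Cod P8 G := (permCod P8_ok).map _ φ hi
  have hr : ∀ (i : Fin (5 + 1)) {a : ℕ}, pcode (n := 8) (Sym.mooreGen 5 i).1 = a →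
      C.Rep a (![s.a0, a1, s.a2, s.a3, s.a4, s.a5] i) := fun i a ha =>
    hφ i ▸ (rep_pcode P8_ok _ ha).map φ hi (Sym.mooreGen 5 i).2
  have repA : C.RepL cA [s.a0, a1, s.a2, s.a3, s.a4, s.a5] :=
    (hr 0 (by decide +kernel)).cons <| (hr 1 (by decide +kernel)).cons <| (hr 2 (by decide +kernel)).cons <|
      (hr 3 (by decide +kernel)).cons <| (hr 4 (by decide +kernel)).cons <| (hr 5 (by decide +kernel)).cons
        Cod.repL_nil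
  have hrange : φ.range = clos [s.a0, a1, s.a2, s.a3, s.a4, s.a5] := by
    rw [MonoidHom.range_eq_map, ← Sym.closure_mooreGen, MonoidHom.map_closure, ← Set.range_comp, clos]
    congr 1
    ext g
    simp only [Set.mem_range, Function.comp, hφ, Set.mem_ofPred_eq]
    exact (List.mem_ofFn' _ g).symm.trans (by simp [List.ofFn_succ])
  obtain ⟨t, ht, htm⟩ : ∃ t, C.Rep (nth 0 cF 13) t ∧ t ∈ clos [s.a0, a1, s.a2, s.a3, s.a4, s.a5] :=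
    ⟨_, rep_word repA [1, 2, 3, 4, 5, 0, 1, 2, 3, 4, 0, 1, 2, 0, 3, 1, 0, 2, 1] (by decide +kernel), word_mem _ _⟩
  let s0 : St0 G := ⟨s.a0, s.a2, s.a3, s.a4, s.a5, C, repA.pick [0, 2, 3, 4, 5]⟩
  have r : C.RepL [nth 0 cF 0, nth 0 cF 5, nth 0 cF 13, nth 0 cF 6, nth 0 cF 1] [s.a0, s.c2, t, s.d2, s.a2] :=
    (s0.rep.nth 0).cons <| (s0.rep.nth 5).cons <| ht.cons <| (s0.rep.nth 6).cons <| (s0.rep.nth 1).cons Cod.repL_nil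
  have g : C.Lists Cy_t.dom (clos [s.a0, s.c2, t]) ∧ Nat.card (clos [s.a0, s.c2, t]) = 18 := (r.take 3).gen Cy_ok
  have f1 : ∀ a ∈ clos [s.a0, s.c2, t], a * (s.a0 * s.c2) = s.a0 * s.c2 * a ∧
      (a * a = 1 → a * s.a0 * a⁻¹ = s.c2 → a * s.d2 * a⁻¹ = s.a2 → a = t) :=
    (g.1.cons Cod.listsL_nil).decide r (by decide +kernel)
  have e1 : clos [s.a0, s.c2, t] = centralizer {s.a0 * s.c2} :=
    eq_of_le_of_card_ge (fun a ha => mem_cen.2 (f1 a ha).1) (by rw [g.2, s.hy])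
  have e2 : s.σ = t := (f1 _ (e1 ▸ mem_cen.2 s.σy)).2 s.s2 s.sc s.sd
  exact ⟨⟨⟨s0, s.σ, s.hN, s.s2, s.sc, s.sd, s.hy⟩, a1, repA, e2 ▸ ht, e2 ▸ htm,
    fun g h1 h2 => hV g (s.mem_L.2 ⟨h1, h2⟩), ⟨(MulEquiv.subgroupCongr hrange.symm).trans (MonoidHom.ofInjective hi).symm⟩⟩⟩

end St

namespace St2

variable (s : St2 G)

/-- The generators of `A₈`. -/
abbrev eA : List G := [s.a0, s.a1, s.a2, s.a3, s.a4, s.a5]
/-- The product of two 3-cycles. -/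
def y : G := s.a0 * s.c2
/-- The involution `(05)(16)`. -/
noncomputable def q : G := evalW (nth 1 s.eA) [3, 0, 1, 2, 3, 4, 0, 1, 2, 3, 0, 2, 1, 0]
/-- The involution `(01)(56)(23)(47)`. -/
noncomputable def b : G := evalW (nth 1 s.eA) [3, 4, 5, 3, 4, 3, 1]
/-- An element conjugating `x` to `q`. -/
noncomputable def κ : G := evalW (nth 1 s.eA) [5, 0, 1, 2, 3, 4, 0, 3, 1, 2]
/-- A conjugate of `q`. -/
noncomputable def qy : G := s.y * s.q * s.y⁻¹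
/-- A conjugate of `b`. -/
noncomputable def by' : G := s.y * s.b * s.y⁻¹
/-- A conjugate of `a1`. -/
def u1 : G := s.a0 * s.a1 * s.a0⁻¹

/-- The letters. -/
noncomputable abbrev eF : List G :=
  [s.a0, s.a2, s.a3, s.a4, s.a5, s.c2, s.d2, s.x, s.v, s.xs, s.k, s.f, s.a1, s.σ, s.y, s.q, s.b, s.κ, s.qy, s.by', s.u1]

theorem rep1 : s.C.RepL (cF.take 18)
    [s.a0, s.a2, s.a3, s.a4, s.a5, s.c2, s.d2, s.x, s.v, s.xs, s.k, s.f, s.a1, s.σ, s.y, s.q, s.b, s.κ] :=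
  s.rep.append (c' := (cF.take 18).drop 12) <| (s.repA.nth 1).cons <| s.repσ.cons <|
    (s.rep.term (s.a0 * s.c2) (by decide +kernel)).cons <| (rep_word s.repA _ (by decide +kernel)).cons <|
    (rep_word s.repA _ (by decide +kernel)).cons <| (rep_word s.repA _ (by decide +kernel)).cons Cod.repL_nil

theorem repF : s.C.RepL cF s.eF :=
  s.rep1.append (c' := cF.drop 18) <| (s.rep1.term (s.y * s.q * s.y⁻¹) (by decide +kernel)).cons <|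
    (s.rep1.term (s.y * s.b * s.y⁻¹) (by decide +kernel)).cons <|
    (s.rep1.term (s.a0 * s.a1 * s.a0⁻¹) (by decide +kernel)).cons Cod.repL_nil

/-- The centraliser of `V`. -/
def CV : Subgroup G := clos [s.x, s.v, s.a1, s.a0]
/-- The centraliser of `x`. -/
def M : Subgroup G := clos [s.x, s.v, s.a1, s.a0, s.a3]
/-- A Sylow subgroup of `M`. -/
def R : Subgroup G := clos [s.x, s.v, s.a1, s.u1, s.a3]
/-- The centraliser of `σ`. -/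
noncomputable def H : Subgroup G := clos [s.y, s.a4, s.q, s.b]
/-- The extraspecial subgroup. -/
noncomputable def Q : Subgroup G := clos [s.q, s.qy, s.b, s.by']
/-- A Sylow subgroup. -/
noncomputable def S : Subgroup G := clos [s.q, s.qy, s.b, s.by', s.a4]
/-- The class of `x`. -/
def clD : Set G := cls s.eA s.x
/-- The class of `σ`. -/
def clS : Set G := cls s.eA s.σ

theorem gCV : s.C.Lists CV_t.dom s.CV ∧ Nat.card s.CV = 48 := (s.repF.pick [7, 8, 12, 0]).gen CV_ok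
theorem gM : s.C.Lists M_t.dom s.M ∧ Nat.card s.M = 96 := (s.repF.pick [7, 8, 12, 0, 2]).gen M_ok
theorem gR : s.C.Lists R_t.dom s.R ∧ Nat.card s.R = 32 := (s.repF.pick [7, 8, 12, 20, 2]).gen R_ok
theorem gH : s.C.Lists H_t.dom s.H ∧ Nat.card s.H = 192 := (s.repF.pick [14, 3, 15, 16]).gen H_ok
theorem gQ : s.C.Lists Q_t.dom s.Q ∧ Nat.card s.Q = 32 := (s.repF.pick [15, 18, 16, 19]).gen Q_ok
theorem gS : s.C.Lists S_t.dom s.S ∧ Nat.card s.S = 64 := (s.repF.pick [15, 18, 16, 19, 3]).gen S_ok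
theorem gclD : s.C.Lists clD_t.dom s.clD := (s.repA.orb (s.repF.nth 7) clD_ok).1
theorem gclS : s.C.Lists clS_t.dom s.clS := (s.repA.orb (s.repF.nth 13) clS_ok).1

theorem hF : s.C.ListsL [CV_t.dom, M_t.dom, R_t.dom, H_t.dom, Q_t.dom, S_t.dom, clD_t.dom, clS_t.dom, N1_t.dom]
    [s.CV, s.M, s.R, s.H, s.Q, s.S, s.clD, s.clS, s.N1] :=
  s.gCV.1.cons <| s.gM.1.cons <| s.gR.1.cons <| s.gH.1.cons <| s.gQ.1.cons <| s.gS.1.cons <| s.gclD.cons <|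
    s.gclS.cons <| s.gN.1.cons Cod.listsL_nil

theorem m0 : s.CV ≤ s.M ∧ s.R ≤ s.M ∧ s.x ∈ s.R ∧ s.v ∈ s.R ∧ s.a3 ∈ s.M ∧ s.a3 * s.v * s.a3⁻¹ = s.x * s.v ∧
    s.a0 ∈ s.M ∧ s.a1 ∈ s.M ∧ s.u1 ∈ s.M ∧ s.v ∈ s.clD ∧ s.x * s.v ∈ s.clD ∧ ∀ m ∈ s.M, m * s.x = s.x * m :=
  s.hF.decide s.repF (by decide +kernel)
theorem m1 : ∀ u ∈ s.R, u * u = 1 → u ≠ 1 → u ≠ s.x → u ∈ s.clS ∨ s.x * u ∈ s.clS ∨ u = s.v ∨ u = s.x * s.v ∨
    ∃ t ∈ s.M, t ∈ s.clD ∧ t * u = u * t ∧ s.x * t ∈ s.clD ∧ t ≠ u ∧ t ≠ s.x * u :=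
  s.hF.decide s.repF (by decide +kernel)
theorem m2 : ∀ t ∈ s.CV, t * t = 1 → t = 1 ∨ t = s.x ∨ t = s.v ∨ t = s.x * s.v ∨ t ∈ s.clS ∨ s.x * t ∈ s.clS :=
  s.hF.decide s.repF (by decide +kernel)
theorem m3 : ∀ g ∈ s.N1, g * s.a0 = s.a0 * g → g * s.x = s.x * g → g ∈ s.CV ∧ g ^ 6 = 1 :=
  s.hF.decide s.repF (by decide +kernel)
theorem m4 : (s.a0 * s.a1 * s.a0⁻¹ * s.a1⁻¹) ^ 2 = 1 ∧ s.a0 * s.a1 ≠ s.a1 * s.a0 ∧ s.a1 * s.a1 = 1 ∧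
    s.a1 * (s.a0 * s.a1 * s.a0⁻¹) * (s.a0⁻¹ * s.a1 * s.a0) = 1 ∧
    s.σ * s.a1 * s.σ⁻¹ = s.x * s.v ∧ s.σ * s.u1 * s.σ⁻¹ = s.x ∧
    ∀ g ∈ s.CV, g * (s.σ * s.x * s.σ⁻¹) = s.σ * s.x * s.σ⁻¹ * g → g ^ 2 = 1 := s.hF.decide s.repF (by decide +kernel)
theorem h0 : s.Q ≤ s.H ∧ s.S ≤ s.H ∧ s.σ ∈ s.Q ∧ s.q ∈ s.Q ∧ s.y ∈ s.H ∧ s.a4 ∈ s.H ∧ s.κ * s.x * s.κ⁻¹ = s.q ∧
    s.a4 * s.y * s.a4⁻¹ = s.y⁻¹ ∧ orderOf s.y = 3 ∧ ∀ h ∈ s.H, h * s.σ = s.σ * h :=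
  s.hF.decide s.repF (by decide +kernel)
theorem h1 : ∀ a ∈ s.Q, a * a = 1 → a = 1 ∨ a ∈ s.clS ∨ ∃ h ∈ s.H, h * s.q * h⁻¹ = a :=
  s.hF.decide s.repF (by decide +kernel)
theorem h2 : ∀ m ∈ s.M, m * (s.κ⁻¹ * s.σ * s.κ⁻¹⁻¹) = s.κ⁻¹ * s.σ * s.κ⁻¹⁻¹ * m → s.κ * m * s.κ⁻¹ ∈ s.H :=
  s.hF.decide s.repF (by decide +kernel)
theorem h3 : ∀ a ∈ s.Q, a ^ 4 = 1 ∧ s.y * a * s.y⁻¹ ∈ s.Q ∧ s.a4 * a * s.a4⁻¹ ∈ s.Q ∧
    ∃ c ∈ s.Q, Let (s.y * c * s.y⁻¹ * c⁻¹) fun t => a = t ∨ a = t * s.σ := s.hF.decide s.repF (by decide +kernel)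
theorem h4 : ∀ g ∈ s.H, g ∈ s.Q ∨ orderOf (g ^ 4) = 3 ∨ orderOf ((s.y * g * s.y⁻¹ * g⁻¹) ^ 4) = 3 :=
  s.hF.decide s.repF (by decide +kernel)
theorem h5 : ∀ a ∈ s.S, a * a = 1 → a = 1 ∨ a ∈ s.clD ∨ a ∈ s.clS := s.hF.decide s.repF (by decide +kernel)

theorem h6 {g : G} (h : g * s.y = s.y * g) (h' : g * s.σ = s.σ * g) : g ∈ zpowers s.y ⊔ zpowers s.σ := by
  have g1 : s.C.Lists Cy_t.dom (clos [s.a0, s.c2, s.σ]) ∧ Nat.card (clos [s.a0, s.c2, s.σ]) = 18 :=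
    (s.repF.pick [0, 5, 13]).gen Cy_ok
  have f1 : ∀ a ∈ clos [s.a0, s.c2, s.σ], a * s.y = s.y * a ∧ (a * s.σ = s.σ * a → a = 1 ∨ a = s.y ∨ a = s.y⁻¹ ∨
      a = s.σ ∨ a = s.y * s.σ ∨ a = s.y⁻¹ * s.σ) := (g1.1.cons Cod.listsL_nil).decide s.repF (by decide +kernel)
  have e1 : clos [s.a0, s.c2, s.σ] = centralizer {s.y} :=
    eq_of_le_of_card_ge (fun a ha => mem_cen.2 (f1 a ha).1) (by rw [g1.2]; exact s.hy.le)
  have m1 : s.y ∈ zpowers s.y ⊔ zpowers s.σ := mem_sup_left (mem_zpowers _)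
  have m2 : s.σ ∈ zpowers s.y ⊔ zpowers s.σ := mem_sup_right (mem_zpowers _)
  rcases (f1 g (e1 ▸ mem_cen.2 h)).2 h' with rfl | rfl | rfl | rfl | rfl | rfl
  exacts [one_mem _, m1, inv_mem m1, m2, mul_mem m1 m2, mul_mem (inv_mem m1) m2]

end St2

end Cfsg.Agent.T16.A8
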