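import Mathlib
import Cfsg.Agent.T16.A8Two
import Cfsg.Agent.Spor.ESBasic
import Cfsg.Agent.Cl.LinearBasic

/-!
Recognition of the alternating group of degree eight: the centralisers of involutions.
-/

set_option autoImplicit false
set_option synthInstance.maxSize 100000
set_option synthInstance.maxHeartbeats 1000000
set_option linter.unusedSectionVars false

namespace Cfsg.Agent.T16

open Cfsg.Agent.Spor Cfsg.Agent.Rec Cfsg.Agent.Inv.Fz Subgroup

universe u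

variable {G : Type u} [Group G] [Finite G]

namespace A8

theorem a5_two : ∀ a : alternatingGroup (Fin 5), a * a * a = 1 → a ≠ 1 → ∀ b : alternatingGroup (Fin 5),
    b * a * b⁻¹ = a⁻¹ → ∀ q : alternatingGroup (Fin 5), q ^ 4 = 1 → (q * (a * q * a⁻¹)) ^ 4 = 1 →
      (q * (b * q * b⁻¹)) ^ 4 = 1 → q = 1 := by decide +kernel

theorem card_L27 : Nat.card (Matrix.ProjectiveSpecialLinearGroup (Fin 2) (ZMod 7)) = 168 := by
  have : Fact (Nat.Prime 7) := ⟨by norm_num⟩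
  have h : Nat.gcd 2 (Nat.card (ZMod 7) - 1) * Nat.card (Matrix.ProjectiveSpecialLinearGroup (Fin 2) (ZMod 7)) =
      Nat.card (ZMod 7) * (Nat.card (ZMod 7) ^ 2 - 1) := Cl.card_psl_two_mul (F := ZMod 7)
  rw [Nat.card_zmod, show Nat.gcd 2 (7 - 1) = 2 from rfl] at h
  omega

namespace St2

variable (s : St2 G)

theorem notS {t : G} (h : IsConj s.x t) : t ∉ s.clS := fun h' => by
  obtain ⟨g, hg⟩ := isConj_iff.1 ((isConj_of_mem_cls h').trans h.symm)
  exact s.σ_not g (hg ▸ s.mem.2.2.1)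

theorem isD {t : G} (h : t ∈ s.clD) (g : G) : IsConj s.x (g * t * g⁻¹) :=
  (isConj_of_mem_cls h).trans (isConj_iff.2 ⟨g, rfl⟩)

theorem memM {g : G} (h : g * s.x = s.x * g) (h' : g * s.v * g⁻¹ = s.v ∨ g * s.v * g⁻¹ = s.x * s.v) : g ∈ s.M := by
  obtain ⟨h1, -, -, -, h2, h3, -, -, -, -, -, h4⟩ := s.m0
  rcases h' with h' | h'
  · exact h1 (s.hV g h (mul_inv_eq_iff_eq_mul.1 h'))
  · exact (mul_mem_cancel_left (inv_mem h2)).1 (h1 (s.hV _ (Commute.mul_left (Commute.inv_left (h4 _ h2)) h)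
      (mul_inv_eq_iff_eq_mul.1 ((cjc h').trans (cjs h3)))))

theorem isol {g : G} (h : g * s.x = s.x * g) (h' : g * s.v * g⁻¹ ∈ s.R) :
    g * s.v * g⁻¹ = s.v ∨ g * s.v * g⁻¹ = s.x * s.v := by
  obtain ⟨-, -, -, -, -, -, -, -, -, vD, xvD, h4⟩ := s.m0
  have hx : g * s.x * g⁻¹ = s.x := mul_inv_eq_iff_eq_mul.2 h
  have hx' := cjs hx
  have hxv : s.x * (g * s.v * g⁻¹) = g * (s.x * s.v) * g⁻¹ := by rw [cjm, hx]
  rcases s.m1 _ h' (conj_sq s.sq.2.2.2.2.2.2.1) (fun e => s.ne.2.1 (conj_eq_one.1 e))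
    (fun e => s.ne.2.2.1 (hx'.symm.trans (cjs e))) with e | e | e | e | ⟨t, tM, tD, t1, t2, t3, t4⟩
  · exact absurd e (s.notS (s.isD vD g))
  · exact absurd (hxv ▸ e) (s.notS (s.isD xvD g))
  · exact .inl e
  · exact .inr e
  have t5 : t * t = 1 := by
    obtain ⟨k, -, rfl⟩ := tD
    exact conj_sq s.sq.2.2.2.2.2.1
  have x1 : ¬ IsConj s.x 1 := fun e => s.ne.1 (isConj_one_left.1 e)
  have e0 : s.x * (g⁻¹ * t * g⁻¹⁻¹) = g⁻¹ * (s.x * t) * g⁻¹⁻¹ := by rw [cjm, hx']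
  rcases s.m2 _ (s.hV (g⁻¹ * t * g⁻¹⁻¹) (hx' ▸ cjcomm (h4 t tM)) (cjs (rfl : g * s.v * g⁻¹ = _) ▸ cjcomm t1))
    (conj_sq t5) with e | e | e | e | e | e
  · exact absurd (e ▸ s.isD tD g⁻¹) x1
  · have := s.isD t2 g⁻¹
    rw [← e0, e, s.sq.2.2.2.2.2.1] at this
    exact absurd this x1
  · exact absurd (by rw [← e]; group) t3
  · exact absurd (by rw [hxv, ← e]; group) t4
  · exact absurd e (s.notS (s.isD tD _))
  · exact absurd (e0 ▸ e) (s.notS (s.isD t2 _))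

theorem odd_bot {O : Subgroup G} (h1 : O ≤ centralizer {s.x}) (h2 : centralizer {s.x} ≤ normalizer (O : Set G))
    (hO : Odd (Nat.card O)) : O = ⊥ := by
  obtain ⟨-, -, -, -, -, -, a0M, a1M, -, -, -, h4⟩ := s.m0
  obtain ⟨p1, p2, p3, p4, p5, p6, p7⟩ := s.m4
  have a0L := mem_cen.2 (h4 _ a0M)
  have a1L := mem_cen.2 (h4 _ a1M)
  have syl : IsSylIn 3 (zpowers s.a0) (centralizer {s.x}) := syl3_zpowers a0L s.ord.1 fun h => by
    have h5 : (centralizer {s.x} ⊓ centralizer {s.a0} : Subgroup G) ≤ s.CV := fun g hg =>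
      (s.m3 g (s.memN (mem_cen.1 hg.2)) (mem_cen.1 hg.2) (mem_cen.1 hg.1)).1
    exact absurd (s.gCV.2 ▸ h.trans (card_dvd_of_le h5)) (by decide)
  have cop := coprime_three_of_four hO h1 h2 syl s.ord.1 a1L (k := 1) p1 p2
  have hf : ∀ k ∈ O, k * s.a0 = s.a0 * k → k = 1 := fun k hk e =>
    orderOf_eq_one_iff.1 (Nat.eq_one_of_dvd_coprimes (Nat.Coprime.mul_right (Odd.coprime_two_right hO) cop)
      (O.orderOf_dvd_natCard hk) (orderOf_dvd_of_pow_eq_one (s.m3 k (s.memN e) e (mem_cen.1 (h1 hk))).2))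
  have h5 := fpf_four hO s.ord.2.2.2.1 p3 p4 (h2 a0L) (h2 a1L) hf
  refine (eq_bot_iff_forall _).2 fun k hk => ?_
  have h6 : k * s.u1 = s.u1 * k := by
    have := cjcomm (g := s.a0) (h5 _ (conj_mem_of_mem_norm (h2 (inv_mem a0L)) hk))
    rwa [← cjc rfl, mul_inv_cancel, one_mul, inv_one, mul_one] at this
  have h7 : s.σ * k * s.σ⁻¹ * s.x = s.x * (s.σ * k * s.σ⁻¹) := p6 ▸ cjcomm h6
  have h8 : s.σ * k * s.σ⁻¹ * (s.x * s.v) = s.x * s.v * (s.σ * k * s.σ⁻¹) := p5 ▸ cjcomm (h5 k hk)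
  have h9 := p7 _ (s.hV _ h7 (by simpa using (Commute.mul_right (Commute.inv_right h7) h8).eq))
    (cjcomm (mem_cen.1 (h1 hk)))
  rw [conj_pow, conj_eq_one] at h9
  exact eq_one_of_odd_of_sq hO hk (k := 1) h9

theorem cen_x : centralizer {s.x} ≤ s.M := fun g hg => by
  obtain ⟨-, RM, xR, vR, -, -, -, -, -, -, -, h4⟩ := s.m0
  have hS : IsSylIn 2 s.R s.M := isSylIn_of_card RM (k := 5) (m := 3) s.gR.2 s.gM.2 (by decide)
  have hS' : IsSylIn 2 s.R (centralizer {s.x}) := isSylIn_of_normalizer hS (fun a ha => mem_cen.2 (h4 a (RM ha)))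
    fun g hg hn => s.memM (mem_cen.1 hg) (s.isol (mem_cen.1 hg) (conj_mem_of_mem_norm hn vR))
  have x2 := s.sq.2.2.2.2.2.1
  have h := zstar_mod hS' (Z := zpowers s.x) (zpowers_le.2 xR)
    (fun g hg z hz => by rcases (mem_zpowers_iff_of_sq x2).1 hz with rfl | rfl <;> simp [mem_cen.1 hg]) vR
    (fun g hg h => by rcases s.isol (mem_cen.1 hg) h with e | e <;> simp [e]) (fun O => s.odd_bot) g hg
  exact s.memM (mem_cen.1 hg) (((mem_zpowers_iff_of_sq x2).1 h).imp mul_inv_eq_one.1 mul_inv_eq_iff_eq_mul.1)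

theorem memH {g : G} (h : g * s.σ = s.σ * g) (hn : g ∈ normalizer (s.Q : Set G)) : g ∈ s.H := by
  obtain ⟨-, -, -, qQ, -, -, hκ, -, -, h4⟩ := s.h0
  have hq : IsConj s.x (g * s.q * g⁻¹) := isConj_iff.2 ⟨g * s.κ, cjc hκ⟩
  rcases s.h1 _ (conj_mem_of_mem_norm hn qQ) (conj_sq (hκ ▸ conj_sq s.sq.2.2.2.2.2.1)) with e | e | ⟨k, hk, e⟩
  · exact absurd (isConj_one_left.1 (e ▸ hq)) s.ne.1
  · exact absurd e (s.notS hq)
  have h1 : k⁻¹ * g * s.q = s.q * (k⁻¹ * g) := mul_inv_eq_iff_eq_mul.1 ((cjc rfl).trans (cjs e))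
  have h2 := s.h2 _ (s.cen_x (mem_cen.2 (cjs hκ ▸ cjcomm (g := s.κ⁻¹) h1)))
    (cjcomm (Commute.mul_left (Commute.inv_left (h4 k hk)) h))
  rw [← cjc rfl, mul_inv_cancel, one_mul, inv_one, mul_one] at h2
  exact (mul_mem_cancel_left (inv_mem hk)).1 h2

theorem cen_σ : centralizer {s.σ} ≤ s.H := by
  obtain ⟨QH, -, σQ, -, yH, wH, -, wy, y3, h4⟩ := s.h0
  have HL : s.H ≤ centralizer {s.σ} := fun a ha => mem_cen.2 (h4 a ha)
  obtain ⟨N, hN⟩ := exists_core3 (centralizer ({s.σ} : Set G))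
  have o2 : orderOf s.σ = 2 := orderOf_eq_prime (by rw [pow_two, s.s2]) s.σ1
  have hV : Sec (zpowers s.σ) (centralizer {s.σ}) := ⟨zpowers_le.2 (mem_cen.2 rfl),
    fun g hg => pm_le_normalizer _ (mem_pm_of_comm (mem_cen.1 hg)), by rw [Nat.card_zpowers, o2]; decide⟩
  have σN : s.σ ∈ N := hN.max _ hV (mem_zpowers _)
  have k1 : ∀ g ∈ N, g ∈ normalizer (s.Q : Set G) → g ∈ s.Q := fun g hg hn => by
    have h5 : s.y * g * s.y⁻¹ * g⁻¹ ∈ N := mul_mem (conj_mem_of_mem_norm (hN.norm (HL yH)) hg) (inv_mem hg)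
    rcases s.h4 g (s.memH (mem_cen.1 (hN.le hg)) hn) with h | h | h
    · exact h
    · exact absurd h (no3 hN.cop (pow_mem hg 4))
    · exact absurd h (no3 hN.cop (pow_mem h5 4))
  have k2 : s.Q = N → centralizer {s.σ} ≤ s.H := fun e g hg => s.memH (mem_cen.1 hg) (e ▸ hN.norm hg)
  rcases ft hV hN (HL yH) y3 (fun g hg h => s.h6 h (mem_cen.1 hg)) with h | ⟨-, h1, f, -, hf⟩ | ⟨-, f, hf1, hf⟩
  · have QN : s.Q ≤ N := fun a ha => by
      obtain ⟨-, -, -, c, hc, e⟩ := s.h3 a ha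
      have h5 : s.y * c * s.y⁻¹ * c⁻¹ ∈ N := h.comm_mem c (HL (QH hc)) 2 (by
        rw [show 2 ^ 2 = 4 from rfl, (s.h3 _ (mul_mem (s.h3 c hc).2.1 (inv_mem hc))).1]; exact one_mem _)
      rcases e with rfl | rfl
      exacts [h5, mul_mem h5 σN]
    refine k2 (QN.eq_or_lt.resolve_right fun hlt => ?_)
    obtain ⟨g, hg, h1, h2⟩ := h.nc _ (zpowers_le.2 σQ) hlt
    exact h1 (k1 g hg h2)
  · have hk : ∀ a : centralizer ({s.σ} : Set G), f a = 1 ↔ a.1 ∈ N := fun a => by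
      rw [← MonoidHom.mem_ker, hf, mem_subgroupOf]
    have QN : s.Q ≤ N := fun a ha => by
      have p4 : ∀ b : centralizer ({s.σ} : Set G), b.1 ∈ s.Q → f b ^ 4 = 1 := fun b hb => by
        rw [← map_pow, show b ^ 4 = 1 from Subtype.ext (s.h3 _ hb).1, map_one]
      refine (hk ⟨a, HL (QH ha)⟩).1 (a5_two (f ⟨_, HL yH⟩) ?_ (fun e => no3 hN.cop ((hk _).1 e) y3) (f ⟨_, HL wH⟩) ?_ _
        (p4 _ ha) ?_ ?_)
      · rw [← map_mul, ← map_mul, ← map_one f]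
        exact congrArg f (Subtype.ext ((pow_three' s.y).symm.trans (y3 ▸ pow_orderOf_eq_one s.y)))
      · rw [← map_inv, ← map_inv, ← map_mul, ← map_mul]
        exact congrArg f (Subtype.ext wy)
      · rw [← map_inv, ← map_mul, ← map_mul, ← map_mul]
        exact p4 _ (mul_mem ha (s.h3 a ha).2.1)
      · rw [← map_inv, ← map_mul, ← map_mul, ← map_mul]
        exact p4 _ (mul_mem ha (s.h3 a ha).2.2.1)
    refine k2 (le_antisymm QN fun g hg => k1 g hg (mem_normalizer_of_conj_mem fun a ha => ?_))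
    simpa using mul_mem (zpowers_le.2 σQ (h1 g hg a (QN ha))) ha
  · have h5 := card_eq_card_quotient_mul_card_subgroup f.ker
    rw [Nat.card_congr (QuotientGroup.quotientKerEquivOfSurjective f hf1).toEquiv, card_L27, hf,
      Nat.card_congr (subgroupOfEquivOfLe hV.le).toEquiv, Nat.card_zpowers, o2] at h5
    have h6 := card_dvd_of_le (QH.trans HL)
    rw [s.gQ.2, h5] at h6
    exact absurd h6 (by decide)

include s in
theorem main : Nonempty (G ≃* alternatingGroup (Fin 8)) := by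
  obtain ⟨e⟩ := s.iso
  have m : ∀ i, nth 1 s.eA i ∈ clos s.eA := nth_mem_clos _
  have xG : s.x ∈ clos s.eA := mul_mem (m 3) (m 5)
  have hM : s.M ≤ clos s.eA := clos_le.2 (by
    simp only [List.forall_mem_cons]
    exact ⟨xG, mul_mem (mul_mem (m 4) xG) (m 4), m 1, m 0, m 3, by simp⟩)
  have hH : s.H ≤ clos s.eA := clos_le.2 (by
    simp only [List.forall_mem_cons]
    exact ⟨mul_mem (m 0) (mul_mem (m 4) (m 5)), m 4, word_mem _ _, word_mem _ _, by simp⟩)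
  have hc : Nat.card (clos s.eA) = 2 ^ 6 * 315 := by
    have := two_mul_nat_card_alternatingGroup (α := Fin 8)
    rw [Nat.card_perm, Nat.card_eq_fintype_card (α := Fin 8), Fintype.card_fin] at this
    rw [Nat.card_congr e.toEquiv]
    simp only [Nat.factorial] at this
    omega
  have h := eq_top_of_two_classes (isSylIn_of_card (s.h0.2.1.trans hH) s.gS.2 hc (by decide)) s.sq.2.2.2.2.2.1 s.ne.1
    s.s2 (fun g hg => s.notS (isConj_iff.2 ⟨g, hg⟩) (self_mem_cls _ _)) (s.cen_x.trans hM) (s.cen_σ.trans hH)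
    fun a ha a2 a1 => by
      rcases s.h5 a ha a2 with h | ⟨g, hg, h⟩ | ⟨g, hg, h⟩
      · exact absurd h a1
      · exact ⟨g⁻¹, inv_mem hg, .inl (cjs h)⟩
      · exact ⟨g⁻¹, inv_mem hg, .inr (cjs h)⟩
  exact ⟨(topEquiv.symm.trans (MulEquiv.subgroupCongr h.symm)).trans e⟩

end St2

end A8

/-- Recognition of `A₈` from two commuting conjugate elements of order three. -/
theorem a8_of {z c t : G} (z3 : orderOf z = 3) (hzc : z * c = c * z) (hne : c ∉ zpowers z) (t2 : t * t = 1)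
    (ht : t * z * t⁻¹ = c) (eL : normalizer (zpowers z : Set G) ≃* A8.Kr)
    (hy : Nat.card (centralizer ({z * c} : Set G)) = 18) : Nonempty (G ≃* alternatingGroup (Fin 8)) := by
  obtain ⟨s⟩ := A8.exists_St' z3 hzc hne t2 ht hy eL
  obtain ⟨s⟩ := s.exists_St2
  exact s.main

end Cfsg.Agent.T16
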