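import Mathlib
import Cfsg.Agent.Rec.UQ

/-!
The 3-local configuration of the McLaughlin group: `N(Z) ~ 3^(1+4).SL₂(5)`, `N(J) ~ 3^4.A₆`.
-/

set_option autoImplicit false

namespace Cfsg.Agent.T16

open Cfsg.Agent.Rec Cfsg.Agent.Inv.Fz Subgroup

universe u

variable {G : Type u} [Group G]

/-- The subgroup generated by the 3-elements of `H`. -/
def o3 (H : Subgroup G) : Subgroup G := closure {g | g ∈ H ∧ ∃ k : ℕ, orderOf g = 3 ^ k}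

/-- The standing hypothesis. -/
structure Mc (G : Type u) [Group G] where
  S : Subgroup G
  J : Subgroup G
  Q : Subgroup G
  z : G
  syl : IsSylIn 3 S ⊤
  z3 : orderOf z = 3
  zS : S ⊓ centralizer (S : Set G) = zpowers z
  JS : J ≤ S
  Jc : ∀ a ∈ J, ∀ b ∈ J, a * b = b * a
  J3 : ∀ a ∈ J, a ^ 3 = 1
  cJ : Nat.card J = 81
  eM : ∃ f : o3 (normalizer (J : Set G)) →* alternatingGroup (Fin 6), Function.Surjective f ∧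
    ∀ x, f x = 1 ↔ (x : G) ∈ J
  QS : Q ≤ S
  Qn : normalizer (zpowers z : Set G) ≤ normalizer (Q : Set G)
  Qmax : ∀ P : Subgroup G, IsPGroup 3 P → P ≤ normalizer (zpowers z : Set G) →
    normalizer (zpowers z : Set G) ≤ normalizer (P : Set G) → P ≤ Q
  Q3 : ∀ a ∈ Q, a ^ 3 = 1
  cQ : Nat.card Q = 243
  zQ : Q ⊓ centralizer (Q : Set G) = zpowers z
  Qc : ∀ a ∈ Q, ∀ b ∈ Q, a * b * a⁻¹ * b⁻¹ ∈ zpowers z
  cenQ : centralizer (Q : Set G) ≤ Q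
  eL : ∃ f : o3 (normalizer (zpowers z : Set G)) →* Matrix.SpecialLinearGroup (Fin 2) (ZMod 5),
    Function.Surjective f ∧ ∀ x, f x = 1 ↔ (x : G) ∈ Q

namespace Mc

variable (m : Mc G)

/-- `Z = Z(S) = Z(Q)`. -/
abbrev Z : Subgroup G := zpowers m.z
/-- `W = J ∩ Q`, of order 27. -/
abbrev W : Subgroup G := m.J ⊓ m.Q
/-- `L = N(Z)`. -/
abbrev L : Subgroup G := normalizer (zpowers m.z : Set G)
/-- `M = N(J)`. -/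
abbrev M : Subgroup G := normalizer (m.J : Set G)
/-- `B = N(S)`. -/
abbrev B : Subgroup G := normalizer (m.S : Set G)
/-- `L₀ = O^{3'}(L)`. -/
abbrev L0 : Subgroup G := o3 (normalizer (zpowers m.z : Set G))
/-- `M₀ = O^{3'}(M)`. -/
abbrev M0 : Subgroup G := o3 (normalizer (m.J : Set G))

/-- `(0 1 2)` -/
def p1 : Equiv.Perm (Fin 6) := Equiv.swap 0 1 * Equiv.swap 1 2
/-- `(3 4 5)` -/
def p2 : Equiv.Perm (Fin 6) := Equiv.swap 3 4 * Equiv.swap 4 5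
/-- `(0 3)(1 4 2 5)` -/
def b0 : Equiv.Perm (Fin 6) := Equiv.swap 0 3 * (Equiv.swap 1 4 * Equiv.swap 4 2 * Equiv.swap 2 5)
/-- `(0 3)(1 2)` -/
def n0 : Equiv.Perm (Fin 6) := Equiv.swap 0 3 * Equiv.swap 1 2
/-- `(1 0 4)(2 3 5)` -/
def v0 : Equiv.Perm (Fin 6) := Equiv.swap 1 0 * Equiv.swap 0 4 * (Equiv.swap 2 3 * Equiv.swap 3 5)

/-- Letters. `⟨a, b⟩ ≅ Q₈` with `a ∈ L₀`, `b ∈ M₀`, `a² = b² = t`; `N(S) = S ⟨a, b, w⟩`, where `w = 1` or `w`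
inverts `J`; `⟨b, n⟩ ≅ D₈` is a Sylow 2-subgroup of `M₀`; `v` permutes `t, n, t n`. -/
structure Let where
  a : G
  b : G
  t : G
  n : G
  v : G
  w : G
  f : m.M0 →* Equiv.Perm (Fin 6)
  f_range : f.range = alternatingGroup (Fin 6)
  f_ker : ∀ x, f x = 1 ↔ (x : G) ∈ m.J
  f_S : ∀ x : m.M0, (x : G) ∈ m.S ↔ f x ∈ clos [p1, p2]
  aL : a ∈ m.L0
  bM : b ∈ m.M0
  nM : n ∈ m.M0
  vM : v ∈ m.M0
  f_b : f ⟨b, bM⟩ = b0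
  f_n : f ⟨n, nM⟩ = n0
  f_v : f ⟨v, vM⟩ = v0
  aB : a ∈ m.B
  bB : b ∈ m.B
  wB : w ∈ m.B
  aa : a * a = t
  bb : b * b = t
  tt : t * t = 1
  ab : a * b * a⁻¹ = b⁻¹
  nn : n * n = 1
  nb : n * b * n⁻¹ = b⁻¹
  vt : v * t * v⁻¹ = n
  vn : v * n * v⁻¹ = t * n
  ww : w * w = 1
  wa : w * a = a * w
  wb : w * b = b * w
  wn : w * n = n * w
  wJ : w = 1 ∨ ∀ j ∈ m.J, w * j * w⁻¹ = j⁻¹
  wM : ∀ x ∈ m.M0, w * x * w⁻¹ * x⁻¹ ∈ m.J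
  B_eq : ∀ g ∈ m.B, ∃ s ∈ m.S, ∃ τ ∈ clos [a, b, w], g = s * τ
  tQ : ∀ q ∈ m.Q, t * q * t⁻¹ * q ∈ m.Z
  tL : ∀ x ∈ m.L0, t * x * t⁻¹ * x⁻¹ ∈ m.Q
  az : a * m.z * a⁻¹ = m.z
  bz : b * m.z * b⁻¹ = m.z⁻¹
  nz : n * m.z * n⁻¹ ∉ m.Z
  az' : a * (n * m.z * n⁻¹) * a⁻¹ = (n * m.z * n⁻¹)⁻¹
  z'Q : n * m.z * n⁻¹ ∉ m.Q
  cen_t : m.S ⊓ centralizer {t} = clos [m.z, n * m.z * n⁻¹]

end Mc

end Cfsg.Agent.T16
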