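import Mathlib
import Cfsg.Agent.T16.McLDef
import Cfsg.Agent.GT.PGroupExtraspecial
import Cfsg.Agent.GT.CoprimeProd
import Cfsg.Agent.GT.Conj
import Cfsg.Agent.Perm.LinReg
import Cfsg.Agent.Loc.MssBase

/-! Small facts on `SL₂(5)`, on extraspecial groups of order `3⁵` and on `O^{3'}`. -/

set_option autoImplicit false
set_option maxRecDepth 100000

namespace Cfsg.Agent.T16

open Subgroup Cfsg.Agent.GT Cfsg.Agent.Loc.Mss
open scoped commutatorElement

/-- `SL₂(5)`. -/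
abbrev SL25 := Matrix.SpecialLinearGroup (Fin 2) (ZMod 5)

theorem sl25_five : ∃ e : SL25, e ^ 5 = 1 ∧ e ≠ 1 := by decide +kernel

theorem sl25_two : ∀ u : SL25, u * u * u = 1 → u ≠ 1 → ∀ v : SL25, v * v * v = 1 → v ≠ 1 → v ≠ u →
    v ≠ u * u → u * v * (u * v) = -1 ∨ u * (v * v) * (u * (v * v)) = -1 ∨ (u * v) ^ 5 = -1 := by
  decide +kernel

theorem sl25_cent : ∀ u : SL25, u * u * u = 1 → u ≠ 1 → ∀ k : SL25, k * u = u * k →
    k = 1 ∨ k = u ∨ k = u * u ∨ k = -1 ∨ k = -u ∨ k = -(u * u) := by decide +kernel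

theorem sl25_neg : (-1 : SL25) ≠ 1 := by decide +kernel

universe u

variable {G : Type u} [Group G] [Finite G]

omit [Finite G] in
theorem o3_le' (H : Subgroup G) : o3 H ≤ H := (closure_le _).2 fun _ h => h.1

omit [Finite G] in
theorem norm_o3 (H : Subgroup G) : 𝐍[H] ≤ 𝐍[o3 H] := norm_of_forall_cj_le fun g hg => by
  rw [o3, MonoidHom.map_closure]
  refine closure_mono ?_
  rintro _ ⟨x, ⟨h1, k, h2⟩, rfl⟩
  exact ⟨conj_mem_of_norm hg h1, k, by rw [← h2]; exact (MulAut.conj g).orderOf_eq x⟩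

omit [Finite G] in
theorem le_o3 {P H : Subgroup G} (hP : IsPGroup 3 P) (h : P ≤ H) : P ≤ o3 H := fun x hx => by
  have : Fact (Nat.Prime 3) := ⟨Nat.prime_three⟩
  obtain ⟨k, hk⟩ := IsPGroup.iff_orderOf.1 hP ⟨x, hx⟩
  exact subset_closure ⟨h hx, k, by rw [← hk, orderOf_mk]⟩

theorem card_of_ker {A : Type*} [Group A] {H K : Subgroup G} (hK : K ≤ H) {f : H →* A}
    (hf : Function.Surjective f) (hk : ∀ x, f x = 1 ↔ (x : G) ∈ K) :
    Nat.card H = Nat.card K * Nat.card A := by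
  have h1 : f.ker = K.subgroupOf H := Subgroup.ext hk
  rw [← f.ker.card_mul_index, index_ker, MonoidHom.range_eq_top.2 hf, card_top, h1,
    Nat.card_congr (subgroupOfEquivOfLe hK).toEquiv]

theorem card_ab_le {Q A : Subgroup G} {z : G} (h : PG.ESZ 3 Q z) (hQ : Nat.card Q = 243) (hA : A ≤ Q)
    (hc : A ≤ 𝐂[A]) : Nat.card A ≤ 27 := by
  have : Fact (Nat.Prime 3) := ⟨Nat.prime_three⟩
  by_contra h1
  obtain ⟨x, hx, hxz⟩ : ∃ x ∈ A, x ∉ zpowers z := by
    by_contra h2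
    push Not at h2
    have := card_le_of_le (show A ≤ zpowers z from h2)
    rw [h.card_zpowers] at this
    omega
  obtain ⟨y, hy, hxy⟩ := h.exists_commutator_eq (hA hx) hxz
  have h2 := Inv.Fz.card_mul_relIndex (inf_le_right : centralizer {x} ⊓ Q ≤ Q)
  rw [inf_relIndex_right, h.relIndex_centralizer (hA hx) hxz, hQ] at h2
  have h3 : A ≤ centralizer {x} ⊓ Q :=
    le_inf (fun a ha => mem_centralizer_singleton_iff.2 (hc hx a ha)) hA
  have h4 := card_dvd_of_le h3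
  rw [show Nat.card (centralizer {x} ⊓ Q : Subgroup G) = 3 ^ 4 by omega] at h4
  obtain ⟨k, hk, e⟩ := (Nat.dvd_prime_pow Nat.prime_three).1 h4
  have h5 : A = centralizer {x} ⊓ Q := eq_of_le_of_card_ge h3 (by
    interval_cases k <;> omega)
  have h6 : Q ⊓ centralizer {x} ⊓ centralizer {y} ≤ A := by
    rw [h5, inf_comm Q]; exact inf_le_left
  have h7 := (h.split (hA hx) hy hxy).center_eq
  rw [inf_eq_left.2 (h6.trans (hc.trans (cent_anti h6)))] at h7
  have h8 := h.card_split (hA hx) hy hxy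
  rw [h7, h.card_zpowers, hQ] at h8
  omega

/-- An element of order five centralises a small 3-group. -/
theorem cent_of_five {A : Subgroup G} {e z : G} (he : e ^ 5 = 1) (hn : e ∈ 𝐍[A]) (hA : Nat.card A ∣ 81)
    (hz : z ∈ A) (h1 : z ≠ 1) (hez : e ∈ 𝐂[zpowers z]) : e ∈ 𝐂[A] := by
  have : Fact (Nat.Prime 5) := ⟨Nat.prime_five⟩
  have h2 := card_modEq_card_inf_centralizer (p := 5) (Q := zpowers e) (L := A)
    (IsPGroup.of_card_dvd_pow (n := 1) (by
      rw [Nat.card_zpowers, pow_one]; exact orderOf_dvd_of_pow_eq_one he))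
    (zpowers_le.2 hn)
  have h3 : A ⊓ 𝐂[zpowers e] ≠ ⊥ := fun e0 => h1 (mem_bot.1 (e0 ▸ (⟨hz,
    cent_comm (zpowers_le.2 hez) (mem_zpowers z)⟩ : z ∈ A ⊓ 𝐂[zpowers e])))
  have h4 := card_dvd_of_le (inf_le_left : A ⊓ 𝐂[zpowers e] ≤ A)
  obtain ⟨k, hk, e1⟩ := (Nat.dvd_prime_pow Nat.prime_three).1 (show Nat.card A ∣ 3 ^ 4 from hA)
  rw [e1] at h4
  obtain ⟨j, hj, e2⟩ := (Nat.dvd_prime_pow Nat.prime_three).1 h4
  have h5 : j ≠ 0 := fun e0 => h3 (card_eq_one.1 (by rw [e2, e0, pow_zero]))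
  have h6 : A ⊓ 𝐂[zpowers e] = A := eq_of_le_of_card_ge inf_le_left (by
    rw [e1, e2] at h2 ⊢
    interval_cases k <;> interval_cases j <;> simp_all [Nat.ModEq])
  exact cent_comm (h6.ge.trans inf_le_right) (mem_zpowers e)

end Cfsg.Agent.T16
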