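import Mathlib
import Cfsg.Agent.T16.McLDef
import Cfsg.Agent.GT.PGroupExtraspecial
import Cfsg.Agent.T16.McLA0
import Cfsg.Agent.T16.Kit3B
import Cfsg.Agent.Rec.J23.A6

/-! Basic facts on the McLaughlin configuration. -/

set_option autoImplicit false

namespace Cfsg.Agent.T16.Mc

open Cfsg.Agent.Rec Cfsg.Agent.Inv.Fz Subgroup

universe u

variable {G : Type u} [Group G] [Finite G] (m : Mc G)

theorem esz : GT.PG.ESZ 3 m.Q m.z :=
  ⟨m.z3, m.Qc, fun x hx => by rw [m.Q3 x hx]; exact one_mem _, m.zQ⟩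

theorem z_mem_Q : m.z ∈ m.Q := m.esz.z_mem

theorem zS_mem : m.z ∈ m.S ⊓ centralizer (m.S : Set G) := m.zS ▸ mem_zpowers m.z

theorem mem_L_of {g : G} (h : g * m.z = m.z * g) : g ∈ m.L :=
  cj_eq_iff.1 (by rw [cj_zpowers, h, mul_inv_cancel_right])

theorem S_le_L : m.S ≤ m.L := fun s hs => m.mem_L_of (m.zS_mem.2 s hs)

theorem S_le_L0 : m.S ≤ m.L0 := le_o3 m.syl.isPGroup m.S_le_L

theorem card_L0 : Nat.card m.L0 = 29160 := by
  obtain ⟨f, hf, hk⟩ := m.eL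
  rw [card_of_ker (m.QS.trans m.S_le_L0) hf hk, m.cQ, Perm.card_sl_two_five]

theorem card_S : Nat.card m.S = 729 := by
  have : Fact (Nat.Prime 3) := ⟨Nat.prime_three⟩
  obtain ⟨k, hk⟩ := IsPGroup.iff_card.1 m.syl.isPGroup
  have h1 := (m.syl.mono m.S_le_L0 le_top).not_dvd_relIndex
  have h2 := card_mul_relIndex m.S_le_L0
  rw [m.card_L0, hk] at h2
  have h3 : k < 10 := (Nat.pow_lt_pow_iff_right (a := 3) (by norm_num)).1
    (lt_of_le_of_lt (Nat.le_of_dvd (by norm_num) ⟨_, h2.symm⟩) (by norm_num))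
  rw [hk]
  interval_cases k <;> omega

theorem z_cube : m.z ^ 3 = 1 := m.esz.z_pow

theorem cj_Z {g x : G} (hg : g ∈ m.L) (hx : x ∈ m.Z) : g * x * g⁻¹ ∈ m.Z := conj_mem_of_mem_norm hg hx

theorem cj_Q {g x : G} (hg : g ∈ m.L) (hx : x ∈ m.Q) : g * x * g⁻¹ ∈ m.Q :=
  conj_mem_of_mem_norm (m.Qn hg) hx

theorem Q_le_L : m.Q ≤ m.L := m.QS.trans m.S_le_L

theorem L0_le : m.L0 ≤ centralizer {m.z} := (closure_le _).2 fun g ⟨hg, k, hk⟩ => by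
  rcases mem_zpowers_three m.z_cube (m.cj_Z hg (mem_zpowers _)) with h | h | h
  · exact absurd (conj_eq_one.1 h) m.esz.z_ne_one
  · exact mem_cen'.2 h
  · have h2 : g ^ 2 ∈ centralizer {m.z} := mem_cen'.2 (by
      rw [show g ^ 2 * m.z * (g ^ 2)⁻¹ = g * (g * m.z * g⁻¹) * g⁻¹ by rw [pow_two]; group, h, ← conj_inv, h,
        inv_inv])
    refine zpowers_le.2 h2 (mem_zpowers_pow_iff.2 ?_)
    rw [hk]
    exact Nat.Coprime.pow_right k (by norm_num)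

/-- `N(Z) / Q` acts faithfully on `Q / Z`. -/
theorem mem_Q {g : G} (h : ∀ q ∈ m.Q, g * q * g⁻¹ * q⁻¹ ∈ m.Z) : g ∈ m.Q := by
  have : Fact (Nat.Prime 3) := ⟨Nat.prime_three⟩
  have h1 : m.Q ≠ zpowers m.z := fun e => by
    have := m.cQ
    rw [e, m.esz.card_zpowers] at this
    omega
  exact (sup_le le_rfl m.cenQ) (m.esz.mem_sup_centralizer (m.esz.commute_z_of_commutator_mem h1 h) h)

/-- The stabiliser of the coset `q Z`. -/
def Kq (q : G) : Subgroup G where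
  carrier := {g | g ∈ m.L ∧ g * q * g⁻¹ * q⁻¹ ∈ m.Z}
  one_mem' := ⟨one_mem _, by simp⟩
  mul_mem' := fun {g h} hg hh => ⟨mul_mem hg.1 hh.1, by
    have := mul_mem (m.cj_Z hg.1 hh.2) hg.2
    convert this using 1; group⟩
  inv_mem' := fun {g} hg => ⟨inv_mem hg.1, by
    have := m.cj_Z (inv_mem hg.1) (inv_mem hg.2)
    convert this using 1; group⟩

/-- The fixed points of `s` on `Q / Z`. -/
def Fe (s : G) : Subgroup G where
  carrier := {q | q ∈ m.Q ∧ s * q * s⁻¹ * q⁻¹ ∈ m.Z}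
  one_mem' := ⟨one_mem _, by simp⟩
  mul_mem' := fun {q r} hq hr => ⟨mul_mem hq.1 hr.1, by
    have := mul_mem hq.2 (m.cj_Z (m.Q_le_L hq.1) hr.2)
    convert this using 1; group⟩
  inv_mem' := fun {q} hq => ⟨inv_mem hq.1, by
    have := m.cj_Z (m.Q_le_L (inv_mem hq.1)) (inv_mem hq.2)
    convert this using 1; group⟩

theorem Fe_le (s : G) : m.Fe s ≤ m.Q := fun _ h => h.1

theorem Q_le_Kq {q : G} (hq : q ∈ m.Q) : m.Q ≤ m.Kq q := fun x hx => ⟨m.Q_le_L hx, m.Qc x hx q hq⟩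

theorem Z_le_Fe {s : G} (hs : s ∈ m.L) : m.Z ≤ m.Fe s := fun x hx =>
  ⟨m.esz.zpowers_le hx, mul_mem (m.cj_Z hs hx) (inv_mem hx)⟩

theorem cj_Fe {g s q : G} (hg : g ∈ m.L) (hq : q ∈ m.Fe s) : g * q * g⁻¹ ∈ m.Fe (g * s * g⁻¹) :=
  ⟨m.cj_Q hg hq.1, by have := m.cj_Z hg hq.2; convert this using 1; group⟩

theorem Fe_neg {f : m.L0 →* SL25} (hf : Function.Surjective f) (hk : ∀ x, f x = 1 ↔ (x : G) ∈ m.Q)
    {x : m.L0} (hx : f x = -1) : m.Fe x ≤ m.Z := by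
  have : Fact (Nat.Prime 5) := ⟨Nat.prime_five⟩
  have hxL := o3_le' _ x.2
  by_contra h0
  obtain ⟨e0, e5, e1⟩ := sl25_five
  obtain ⟨e, rfl⟩ := hf e0
  have h5 : (e : G) ^ 5 ∈ m.Q := (hk (e ^ 5)).1 (by rw [map_pow, e5])
  have h15 : ((e ^ 3 : m.L0) : G) ^ 5 = 1 := by
    rw [coe_pow, ← pow_mul, mul_comm, pow_mul, m.Q3 _ h5]
  have hne : f (e ^ 3) ≠ 1 := fun h => e1 (by
    have := pow_gcd_eq_one.2 ⟨map_pow f e 3 ▸ h, e5⟩
    simpa using this)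
  generalize e ^ 3 = d at h15 hne
  have hd := o3_le' _ d.2
  have hn : (d : G) ∈ normalizer (m.Fe x : Set G) := mem_normalizer_of_conj_mem fun q hq => by
    have h1 : ((x⁻¹ * (d⁻¹ * x * d) : m.L0) : G) ∈ m.Q := (hk _).1 (by simp [hx])
    have h2 : ((d⁻¹ * x * d : m.L0) : G) ∈ m.Kq q := by
      have := mul_mem (show (x : G) ∈ m.Kq q from ⟨hxL, hq.2⟩) (m.Q_le_Kq hq.1 h1)
      convert this using 1; push_cast; group
    have := m.cj_Fe hd (show q ∈ m.Fe _ from ⟨hq.1, h2.2⟩)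
    convert this using 2; push_cast; group
  have h1 : m.Fe x ≠ m.Q := fun e => sl25_neg (hx ▸ (hk x).2 (m.mem_Q fun q hq => (e.ge hq).2))
  have h2 := card_dvd_of_le (m.Fe_le x)
  have h3 := card_lt_of_lt (lt_of_le_of_ne (m.Fe_le x) h1)
  have h4 := card_lt_of_lt (lt_of_le_not_ge (m.Z_le_Fe hxL) h0)
  rw [m.cQ] at h2 h3
  rw [m.esz.card_zpowers] at h4
  obtain ⟨k, hk5, e2⟩ := (Nat.dvd_prime_pow Nat.prime_three).1 (show _ ∣ 3 ^ 5 from h2)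
  have h6 := cent_of_five h15 hn (by rw [e2] at h3 ⊢; interval_cases k <;> simp_all)
    (m.Z_le_Fe hxL (mem_zpowers _)) m.esz.z_ne_one
    (fun y ⟨n, hn⟩ => hn ▸ (Commute.zpow_left (mem_cen.1 (m.L0_le d.2)).symm n).eq)
  have h7 := GT.card_modEq_card_inf_centralizer (p := 5) (Q := zpowers (d : G)) (L := m.Q)
    (IsPGroup.of_card_dvd_pow (n := 1) (by
      rw [Nat.card_zpowers, pow_one]; exact orderOf_dvd_of_pow_eq_one h15)) (zpowers_le.2 (m.Qn hd))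
  have h8 := card_le_of_le (show m.Fe x ≤ m.Q ⊓ centralizer (zpowers (d : G) : Set G) from
    le_inf (m.Fe_le x) (le_centralizer_iff.1 (zpowers_le.2 h6)))
  have h9 := card_dvd_of_le (inf_le_left : m.Q ⊓ centralizer (zpowers (d : G) : Set G) ≤ m.Q)
  rw [m.cQ] at h7 h9
  obtain ⟨j, hj, e3⟩ := (Nat.dvd_prime_pow Nat.prime_three).1 (show _ ∣ 3 ^ 5 from h9)
  have h10 : m.Q ⊓ centralizer (zpowers (d : G) : Set G) = m.Q := eq_of_le_of_card_ge inf_le_left (by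
    rw [e3] at h7 h8 ⊢
    rw [m.cQ]
    interval_cases j <;> simp_all [Nat.ModEq] <;> omega)
  exact hne ((hk d).2 (m.cenQ (le_centralizer_iff.1 (h10.ge.trans inf_le_right) (mem_zpowers _))))

/-- A preimage of `-1` inverts `Q / Z`. -/
theorem inv_of_neg {f : m.L0 →* Matrix.SpecialLinearGroup (Fin 2) (ZMod 5)} (hf : Function.Surjective f)
    (hk : ∀ x, f x = 1 ↔ (x : G) ∈ m.Q) {x : m.L0} (hx : f x = -1) :
    ∀ q ∈ m.Q, (x : G) * q * (x : G)⁻¹ * q ∈ m.Z := fun q hq => by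
  have hxL := o3_le' _ x.2
  have h1 : ((x * x : m.L0) : G) ∈ m.Q := (hk _).1 (by simp [hx])
  have h2 := m.cj_Q hxL hq
  refine m.Fe_neg hf hk hx ⟨mul_mem h2 hq, ?_⟩
  have := mul_mem (m.Qc _ h1 q hq) (m.Qc q hq _ h2)
  convert this using 1; push_cast; group

theorem sup_Q {s : G} (hs : s ∈ m.S) (hsQ : s ∉ m.Q) : m.Q ⊔ zpowers s = m.S := by
  have h1 : m.Q ⊔ zpowers s ≤ m.S := sup_le m.QS (zpowers_le.2 hs)
  have h2 := card_dvd_of_le h1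
  have h3 := card_lt_of_lt (lt_of_le_not_ge (le_sup_left : m.Q ≤ m.Q ⊔ zpowers s)
    fun h => hsQ (h (mem_sup_right (mem_zpowers s))))
  rw [m.card_S] at h2
  rw [m.cQ] at h3
  obtain ⟨k, hk, e⟩ := (Nat.dvd_prime_pow Nat.prime_three).1 (show _ ∣ 3 ^ 6 from h2)
  refine eq_of_le_of_card_ge h1 ?_
  rw [e] at h3 ⊢
  rw [m.card_S]
  interval_cases k <;> omega

theorem mem_B_of {g s : G} (hg : g ∈ m.L) (hs : s ∈ m.S) (hsQ : s ∉ m.Q) (h : g * s * g⁻¹ ∈ m.S) :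
    g ∈ m.B := cj_eq_iff.1 (cj_eq_of_le (by
  conv_lhs => rw [← m.sup_Q hs hsQ, cj_sup, cj_zpowers, cj_eq_iff.2 (m.Qn hg)]
  exact sup_le m.QS (zpowers_le.2 h)))

theorem Fe_ti {g s : G} (hg : g ∈ m.L) (hs : s ∈ m.S) (hsQ : s ∉ m.Q) (h : g * s * g⁻¹ ∉ m.S) :
    m.Fe s ⊓ m.Fe (g * s * g⁻¹) ≤ m.Z := fun x hx => by
  obtain ⟨f, hf, hk⟩ := m.eL
  have hs0 := m.S_le_L0 hs
  have hs1 : g * s * g⁻¹ ∈ m.L0 := conj_mem_of_mem_norm (norm_o3 _ (le_normalizer hg)) hs0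
  have h729 : s ^ 729 = 1 := by
    have := pow_card_eq_one' (x := (⟨s, hs⟩ : m.S))
    rw [m.card_S] at this
    exact congrArg Subtype.val this
  have c3 : ∀ y : m.L0, (y : G) ^ 729 = 1 → f y * f y * f y = 1 := fun y hy => by
    have h1 : f y ^ 729 = 1 := by rw [← map_pow, show y ^ 729 = 1 from Subtype.ext hy, map_one]
    have h2 : f y ^ 120 = 1 := Perm.card_sl_two_five ▸ pow_card_eq_one'
    have := pow_gcd_eq_one.2 ⟨h1, h2⟩
    rwa [show Nat.gcd 729 120 = 3 by norm_num, pow_three'] at this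
  set u : m.L0 := ⟨s, hs0⟩
  set v : m.L0 := ⟨g * s * g⁻¹, hs1⟩
  have hu : (u : G) ∈ m.Kq x := ⟨m.S_le_L hs, hx.1.2⟩
  have hv : (v : G) ∈ m.Kq x := ⟨o3_le' _ hs1, hx.2.2⟩
  have key : ∀ k : m.L0, (k : G) ∈ m.Kq x → f k = -1 → x ∈ m.Z := fun k h1 h2 =>
    m.Fe_neg hf hk h2 ⟨hx.1.1, h1.2⟩
  have ne : ∀ y : m.L0, (y : G) ∈ m.S → f v ≠ f y := fun y hy e => h (by
    have h1 : ((v * y⁻¹ : m.L0) : G) ∈ m.Q := (hk _).1 (by rw [map_mul, map_inv, e, mul_inv_cancel])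
    simpa using mul_mem (m.QS h1) hy)
  rcases sl25_two (f u) (c3 u h729) (fun e => hsQ ((hk u).1 e)) (f v) (c3 v (by
      change (g * s * g⁻¹) ^ 729 = 1
      rw [conj_pow, h729]; group)) (map_one f ▸ ne 1 (one_mem _)) (ne u hs)
      (map_mul f u u ▸ ne (u * u) (mul_mem hs hs)) with e | e | e
  · exact key (u * v * (u * v)) (mul_mem (mul_mem hu hv) (mul_mem hu hv)) (by simpa only [map_mul] using e)
  · exact key (u * (v * v) * (u * (v * v)))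
      (mul_mem (mul_mem hu (mul_mem hv hv)) (mul_mem hu (mul_mem hv hv))) (by simpa only [map_mul] using e)
  · exact key ((u * v) ^ 5) (pow_mem (mul_mem hu hv) 5) (by simpa only [map_mul, map_pow] using e)

theorem card_Fe {s : G} (hs : s ∈ m.S) (hsQ : s ∉ m.Q) : Nat.card (m.Fe s) ≤ 27 := by
  obtain ⟨g, hg, h⟩ : ∃ g ∈ m.L, g * s * g⁻¹ ∉ m.S := by
    by_contra h
    push Not at h
    exact hsQ (m.Qmax m.S m.syl.isPGroup m.S_le_L (fun g hg => m.mem_B_of hg hs hsQ (h g hg)) hs)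
  have h1 : cj g (m.Fe s) ≤ m.Fe (g * s * g⁻¹) := cj_le_iff.2 fun q hq => m.cj_Fe hg hq
  have h2 := GT.CopAct.card_mul_card_le_of_le (m.Fe_le s) (h1.trans (m.Fe_le _))
  have h3 := card_le_of_le ((inf_le_inf_left _ h1).trans (m.Fe_ti hg hs hsQ h))
  rw [m.esz.card_zpowers] at h3
  rw [card_cj, m.cQ] at h2
  nlinarith

theorem S_le_Kq {s q : G} (hs : s ∈ m.S) (hsQ : s ∉ m.Q) (hq : q ∈ m.Fe s) : m.S ≤ m.Kq q :=
  m.sup_Q hs hsQ ▸ sup_le (m.Q_le_Kq hq.1) (zpowers_le.2 ⟨m.S_le_L hs, hq.2⟩)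

theorem ab_inf {E : Subgroup G} (hE : E ≤ m.S) (hc : E ≤ centralizer (E : Set G)) (h : Nat.card E = 81) :
    ¬ E ≤ m.Q ∧ Nat.card (E ⊓ m.Q : Subgroup G) = 27 ∧ ∀ s ∈ m.S, s ∉ m.Q → E ⊓ m.Q = m.Fe s := by
  have h1 : ¬ E ≤ m.Q := fun e => by have := card_ab_le m.esz m.cQ e hc; omega
  have h2 := GT.CopAct.card_mul_card_le_of_le hE m.QS
  rw [h, m.cQ, m.card_S] at h2
  obtain ⟨e, he, heQ⟩ := SetLike.not_le_iff_exists.1 h1
  have h3 : ∀ s ∈ m.S, E ⊓ m.Q ≤ m.Fe s := fun s hs q hq =>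
    ⟨hq.2, (m.S_le_Kq (hE he) heQ ⟨hq.2, by rw [hc hq.1 e he]; simp⟩ hs).2⟩
  have h4 := (card_le_of_le (h3 e (hE he))).trans (m.card_Fe (hE he) heQ)
  exact ⟨h1, by omega, fun s hs hsQ => eq_of_le_of_card_ge (h3 s hs) (by
    have := m.card_Fe hs hsQ; omega)⟩

theorem J_le_cent : m.J ≤ centralizer (m.J : Set G) := fun a ha b hb => m.Jc b hb a ha

theorem card_W : Nat.card m.W = 27 := (m.ab_inf m.JS m.J_le_cent m.cJ).2.1

theorem W_eq {s : G} (hs : s ∈ m.S) (hsQ : s ∉ m.Q) : m.W = m.Fe s :=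
  (m.ab_inf m.JS m.J_le_cent m.cJ).2.2 s hs hsQ

/-- `C_{Q/Z}(s) = W / Z`. -/
theorem mem_W {s q : G} (hs : s ∈ m.S) (hsQ : s ∉ m.Q) (hq : q ∈ m.Q) (h : s * q * s⁻¹ * q⁻¹ ∈ m.Z) :
    q ∈ m.W := (m.W_eq hs hsQ).ge ⟨hq, h⟩

theorem exists_J : ∃ j ∈ m.J, j ∉ m.Q :=
  SetLike.not_le_iff_exists.1 (m.ab_inf m.JS m.J_le_cent m.cJ).1

theorem z_mem_J : m.z ∈ m.J := by
  obtain ⟨j, hj, h⟩ := m.exists_J
  exact ((m.W_eq (m.JS hj) h).ge (m.Z_le_Fe (m.S_le_L (m.JS hj)) (mem_zpowers _))).1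

theorem sup_QJ : m.Q ⊔ m.J = m.S := by
  obtain ⟨j, hj, h⟩ := m.exists_J
  exact le_antisymm (sup_le m.QS m.JS) (m.sup_Q (m.JS hj) h ▸ sup_le_sup_left (zpowers_le.2 hj) _)

theorem cent_QW {x : G} (hx : x ∈ m.Q) (h : x ∈ centralizer (m.W : Set G)) : x ∈ m.W := by
  have h1 : m.W ≤ centralizer (m.W : Set G) :=
    inf_le_left.trans (m.J_le_cent.trans (centralizer_le (inf_le_left : m.W ≤ m.J)))
  have h2 := card_ab_le m.esz m.cQ (A := m.W ⊔ zpowers x) (sup_le inf_le_right (zpowers_le.2 hx))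
    (Loc.Mss.le_cent_sup (sup_le h1 (zpowers_le.2 h))
      (sup_le (le_centralizer_iff.1 (zpowers_le.2 h)) (le_centralizer _)))
  exact (eq_of_le_of_card_ge (le_sup_left : m.W ≤ m.W ⊔ zpowers x) (m.card_W ▸ h2)).ge
    (mem_sup_right (mem_zpowers x))

theorem ab_eq {E : Subgroup G} (hE : E ≤ m.S) (hc : E ≤ centralizer (E : Set G)) (h : Nat.card E = 81) :
    E = m.S ⊓ centralizer (m.W : Set G) := by
  obtain ⟨j, hj, hjQ⟩ := m.exists_J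
  have h1 := (m.ab_inf hE hc h).2.2 j (m.JS hj) hjQ
  rw [← m.W_eq (m.JS hj) hjQ] at h1
  refine eq_of_le_of_card_ge (le_inf hE (hc.trans (centralizer_le (h1.ge.trans inf_le_left)))) ?_
  obtain ⟨C, hC⟩ : ∃ C, C = m.S ⊓ centralizer (m.W : Set G) := ⟨_, rfl⟩
  rw [← hC]
  have h2 := card_mul_relIndex (inf_le_right : m.Q ⊓ C ≤ C)
  have h3 := card_le_of_le (show m.Q ⊓ C ≤ m.W from fun x hx => m.cent_QW hx.1 (hC.le hx.2).2)
  have h4 := card_mul_relIndex m.QS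
  rw [m.cQ, m.card_S] at h4
  have h5 := relIndex_le_of_le_right (H := m.Q) (hC.le.trans inf_le_left : C ≤ m.S) (by omega)
  rw [inf_relIndex_right] at h2
  rw [m.card_W] at h3
  rw [h, ← h2]
  exact (Nat.mul_le_mul h3 (show _ ≤ 3 by omega))

theorem wc {g : G} (h : cj g m.J ≤ m.S) : cj g m.J = m.J :=
  (m.ab_eq h (cj_centralizer g m.J ▸ cj_mono m.J_le_cent) (by rw [card_cj, m.cJ])).trans
    (m.ab_eq m.JS m.J_le_cent m.cJ).symm

theorem B_le_M : m.B ≤ m.M := fun _ hg =>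
  cj_eq_iff.1 (m.wc ((cj_mono m.JS).trans (cj_eq_iff.2 hg).le))

theorem S_le_M0 : m.S ≤ m.M0 := le_o3 m.syl.isPGroup (le_normalizer.trans m.B_le_M)

theorem cent_W : centralizer (m.W : Set G) = m.J := by
  have : Fact (Nat.Prime 3) := ⟨Nat.prime_three⟩
  have hzW : m.z ∈ m.W := ⟨m.z_mem_J, m.z_mem_Q⟩
  have h1 : IsPGroup 3 (centralizer (m.W : Set G)) := Loc.Mss.pg_iff.2 fun g hg => by
    have hgL : g ∈ m.L := m.mem_L_of (hg _ hzW).symm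
    refine ⟨2, ?_⟩
    rw [pow_two, pow_mul]
    refine m.Q3 _ (m.cenQ fun q hq => ?_)
    have h2 : q⁻¹ * (g * q * g⁻¹) ∈ m.W := m.cent_QW (mul_mem (inv_mem hq) (m.cj_Q hgL hq)) fun w hw => by
      have h3 : q * w * q⁻¹ ∈ m.W := by
        have := mul_mem (show q * w * q⁻¹ * w⁻¹ ∈ m.W from zpowers_le.2 hzW (m.Qc q hq w hw.2)) hw
        simpa using this
      have h4 := hg _ h3
      have h5 := hg _ hw
      calc w * (q⁻¹ * (g * q * g⁻¹)) = q⁻¹ * (q * w * q⁻¹ * g) * q * g⁻¹ := by group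
        _ = q⁻¹ * (g * q * g⁻¹) * (g * w) * g⁻¹ := by rw [h4]; group
        _ = _ := by rw [← h5]; group
    have h3 := hg _ h2
    have h4 := m.Q3 _ h2.2
    generalize hc : q⁻¹ * (g * q * g⁻¹) = c at h3 h4
    have h5 : (q⁻¹ * g * q) ^ 3 = g ^ 3 := by
      rw [show q⁻¹ * g * q = c * g by rw [← hc]; group, Commute.mul_pow h3, h4, one_mul]
    calc q * g ^ 3 = q * (q⁻¹ * g * q) ^ 3 := by rw [h5]
      _ = g ^ 3 * q := by simp only [pow_three']; group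
  have h2 : m.S ≤ normalizer (centralizer (m.W : Set G) : Set G) :=
    Loc.Mss.norm_cent (Loc.Mss.norm_inf (le_normalizer.trans m.B_le_M) (m.S_le_L.trans m.Qn))
  have h3 := m.syl.eq_of_le (Loc.Mss.pg_sup m.syl.isPGroup h1 h2) le_top le_sup_left
  exact (inf_eq_right.2 (le_sup_right.trans h3.le)).symm.trans (m.ab_eq m.JS m.J_le_cent m.cJ).symm

theorem cent_J : centralizer (m.J : Set G) = m.J :=
  le_antisymm ((centralizer_le (inf_le_left : m.W ≤ m.J)).trans m.cent_W.le) m.J_le_cent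

theorem comm_QJ : ∀ q ∈ m.Q, ∀ j ∈ m.J, q * j * q⁻¹ * j⁻¹ ∈ m.W := fun q hq j hj =>
  mem_inf.2 ⟨mul_mem (conj_mem_of_mem_norm (m.B_le_M (le_normalizer (m.QS hq))) hj) (inv_mem hj), by
    have := mul_mem hq (m.cj_Q (m.S_le_L (m.JS hj)) (inv_mem hq))
    simpa only [mul_assoc] using this⟩

theorem fuse {x g : G} (hx : x ∈ m.J) (hg : g * x * g⁻¹ ∈ m.J) :
    ∃ h ∈ m.M, h * x * h⁻¹ = g * x * g⁻¹ := by
  have : Fact (Nat.Prime 3) := ⟨Nat.prime_three⟩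
  obtain ⟨h, -, h1, h2⟩ := exists_norm_conj m.syl m.JS (fun g _ h => m.wc h) (mem_top g)
    (fun e he => m.Jc e he x hx) fun e he => m.Jc e he _ hg
  exact ⟨h, h1, h2⟩

theorem B_eq : m.B = m.M ⊓ m.L := by
  refine le_antisymm (le_inf m.B_le_M ?_) ?_
  · have := Loc.Mss.norm_inf (le_refl m.B) (Loc.Mss.norm_cent (le_refl m.B))
    rwa [m.zS] at this
  · have := Loc.Mss.norm_sup (X := m.M ⊓ m.L) (inf_le_right.trans m.Qn) inf_le_left
    rwa [m.sup_QJ] at this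

/-- An element of `N(Z)` that maps some element of `J ∖ Z` into `J` normalises `S`. -/
theorem mem_B {y g : G} (hy : y ∈ m.J) (hyz : y ∉ m.Z) (hg : g ∈ m.L) (h : g * y * g⁻¹ ∈ m.J) :
    g ∈ m.B := by
  by_cases hyQ : y ∈ m.Q
  · obtain ⟨j, hj, hjQ⟩ := m.exists_J
    refine m.mem_B_of hg (m.JS hj) hjQ (by_contra fun h1 => hyz ?_)
    have h2 := m.W_eq (m.JS hj) hjQ
    have := m.cj_Z (inv_mem hg) (m.Fe_ti hg (m.JS hj) hjQ h1
      ⟨h2.le ⟨h, m.cj_Q hg hyQ⟩, m.cj_Fe hg (h2.le ⟨hy, hyQ⟩)⟩)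
    convert this using 1; group
  · exact m.mem_B_of hg (m.JS hy) hyQ (m.JS h)

theorem exists_M {g : G} (hg : g ∈ m.M) : ∃ x ∈ m.M0, ∃ c ∈ m.B, g = x * c := by
  have : Fact (Nat.Prime 3) := ⟨Nat.prime_three⟩
  obtain ⟨k, hk, h⟩ := (m.syl.mono m.S_le_M0 le_top).frattini (norm_o3 _ (le_normalizer hg))
  exact ⟨k⁻¹, inv_mem hk, _, h, by group⟩

theorem exists_L {g : G} (hg : g ∈ m.L) : ∃ x ∈ m.L0, ∃ c ∈ m.B, g = x * c := by
  have : Fact (Nat.Prime 3) := ⟨Nat.prime_three⟩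
  obtain ⟨k, hk, h⟩ := (m.syl.mono m.S_le_L0 le_top).frattini (norm_o3 _ (le_normalizer hg))
  exact ⟨k⁻¹, inv_mem hk, _, h, by group⟩

theorem not_M0_le : ¬ m.M0 ≤ m.L := fun h => by
  have : Fact (Nat.Prime 3) := ⟨Nat.prime_three⟩
  have h1 : m.M0 ≤ m.S := (closure_le _).2 fun x ⟨hx, k, hk⟩ => by
    have h2 : x ∈ m.B := m.B_eq.ge ⟨hx, h (subset_closure ⟨hx, k, hk⟩)⟩
    exact (m.syl.eq_of_le (Loc.Mss.pg_sup (IsPGroup.of_card (by rw [Nat.card_zpowers, hk]))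
      m.syl.isPGroup (zpowers_le.2 h2)) le_top le_sup_right).le (mem_sup_left (mem_zpowers x))
  obtain ⟨f, hf, hk⟩ := m.eM
  have h2 := card_le_of_le h1
  rw [card_of_ker (m.JS.trans m.S_le_M0) hf hk, m.cJ, J23.card_A6, m.card_S] at h2
  omega

end Cfsg.Agent.T16.Mc
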