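import Mathlib
import Cfsg.Agent.T16.A9Data
import Cfsg.Agent.T16.A9Sig

/-!
Recognition of the alternating group of degree nine: letters for the normaliser `3³ : S₄` and the centralisers of the
elements of `3³`.
-/

set_option autoImplicit false
set_option synthInstance.maxSize 100000
set_option synthInstance.maxHeartbeats 1000000
set_option linter.unusedSectionVars false

namespace Cfsg.Agent.T16.A9

open Cfsg.Agent.Spor Cfsg.Agent.Rec Cfsg.Agent.Inv.Fz Subgroup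
open scoped commutatorElement

universe u

variable {G : Type u} [Group G]

theorem cjm (g a b : G) : g * (a * b) * g⁻¹ = g * a * g⁻¹ * (g * b * g⁻¹) := by group

theorem cjc {g h a b : G} (e : h * a * h⁻¹ = b) : g * h * a * (g * h)⁻¹ = g * b * g⁻¹ := by rw [← e]; group

theorem cjs {g a b : G} (e : g * a * g⁻¹ = b) : g⁻¹ * b * g⁻¹⁻¹ = a := by rw [← e]; group

theorem cjcomm {g a b : G} (h : a * b = b * a) : g * a * g⁻¹ * (g * b * g⁻¹) = g * b * g⁻¹ * (g * a * g⁻¹) := by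
  rw [← cjm, ← cjm, h]

theorem cjp {g a : G} {n : ℕ} (h : a ^ n = 1) : (g * a * g⁻¹) ^ n = 1 := by rw [conj_pow, h]; group

theorem cent_cj {M : Subgroup G} {x y m : G} (hm : m ∈ M) (e : m * x * m⁻¹ = y) (h : centralizer {y} ≤ M) :
    centralizer {x} ≤ M := fun g hg => by
  have := h (mem_cen.2 (e ▸ cjcomm (g := m) (mem_cen.1 hg)))
  rwa [mul_mem_cancel_right (inv_mem hm), mul_mem_cancel_left hm] at this

theorem comm_inv {g x : G} (h : g * x⁻¹ = x⁻¹ * g) : g * x = x * g := by simpa using (Commute.inv_right h).eq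

/-- Four letters with the codes of generators of `3³ : S₄`. -/
structure H0 (G : Type u) [Group G] where
  (c1 v t4 om : G)
  C : Cod P9 G
  rep0 : C.RepL cH0 [c1, v, t4, om]

namespace H0

variable (s : H0 G)

/-- `(456)`. -/
def c2 : G := s.v * s.c1 * s.v⁻¹
/-- `(789)`. -/
def c3 : G := s.v * s.c2 * s.v⁻¹
/-- `(12)(56)`. -/
def t5 : G := s.t4 * s.c2
/-- `(12)(78)`. -/
def t7 : G := s.v⁻¹ * s.t4 * s.v
/-- `(12)(89)`. -/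
def t8 : G := s.t7 * s.c3
/-- `(12)(47)(58)(69)`. -/
def w : G := s.v * s.om * s.v⁻¹
/-- `(4859)(67)`. -/
def f : G := s.om * s.c1 * s.t8 * s.v
/-- `(123)(456)(789)`. -/
def a : G := s.c1 * s.c2 * s.c3
/-- `(456)(789)`. -/
def b : G := s.c2 * s.c3
/-- `(456)(798)`. -/
def u : G := s.c2 * s.c3⁻¹

/-- The letters. -/
abbrev e : List G := [s.c1, s.v, s.t4, s.om, s.c2, s.c3, s.t5, s.t7, s.t8, s.w, s.f, s.a, s.b, s.u]

theorem rep1 : s.C.RepL (cH.take 6) [s.c1, s.v, s.t4, s.om, s.c2, s.c3] :=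
  s.rep0.append (c' := (cH.take 6).drop 4) <| (s.rep0.term (s.v * s.c1 * s.v⁻¹) (by decide +kernel)).cons <|
    (s.rep0.term (s.v * (s.v * s.c1 * s.v⁻¹) * s.v⁻¹) (by decide +kernel)).cons Cod.repL_nil

theorem rep : s.C.RepL cH s.e :=
  s.rep1.append (c' := cH.drop 6) <| (s.rep1.term (s.t4 * s.c2) (by decide +kernel)).cons <|
    (s.rep1.term (s.v⁻¹ * s.t4 * s.v) (by decide +kernel)).cons <|
    (s.rep1.term (s.v⁻¹ * s.t4 * s.v * s.c3) (by decide +kernel)).cons <|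
    (s.rep1.term (s.v * s.om * s.v⁻¹) (by decide +kernel)).cons <|
    (s.rep1.term (s.om * s.c1 * (s.v⁻¹ * s.t4 * s.v * s.c3) * s.v) (by decide +kernel)).cons <|
    (s.rep1.term (s.c1 * s.c2 * s.c3) (by decide +kernel)).cons <|
    (s.rep1.term (s.c2 * s.c3) (by decide +kernel)).cons <|
    (s.rep1.term (s.c2 * s.c3⁻¹) (by decide +kernel)).cons Cod.repL_nil

/-- The group of order 648. -/
def H : Subgroup G := clos [s.c1, s.v, s.t4, s.om]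
/-- The group `3³`. -/
def J : Subgroup G := clos [s.c1, s.c2, s.c3]
/-- The Sylow 3-subgroup. -/
def S : Subgroup G := clos [s.c1, s.c2, s.c3, s.v]
/-- The centraliser of `b`. -/
def Cb : Subgroup G := clos [s.c1, s.c2, s.c3, s.w]
/-- The centraliser of `c1` in `H`. -/
def Cc : Subgroup G := clos [s.c1, s.c2, s.c3, s.f]
/-- The group `3² : 4`. -/
def F : Subgroup G := clos [s.c2, s.c3, s.f]
/-- The group generated by `c2, c3`. -/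
def B : Subgroup G := clos [s.c2, s.c3]
/-- The group inverted by `w`. -/
def B1 : Subgroup G := clos [s.c1, s.u]
/-- The complement `S₄`. -/
def W : Subgroup G := clos [s.v, s.t4, s.om]
/-- The group generated by `c1, b`. -/
def A1 : Subgroup G := clos [s.c1, s.b]
/-- The group generated by `c1, c2`. -/
def A2 : Subgroup G := clos [s.c1, s.c2]

theorem gH : s.C.Lists H_t.dom s.H ∧ Nat.card s.H = 648 := s.rep0.gen H_ok
theorem gJ : s.C.Lists J_t.dom s.J ∧ Nat.card s.J = 27 := (s.rep.pick [0, 4, 5]).gen J_ok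
theorem gS : s.C.Lists S_t.dom s.S ∧ Nat.card s.S = 81 := (s.rep.pick [0, 4, 5, 1]).gen S_ok
theorem gCb : s.C.Lists Cb_t.dom s.Cb ∧ Nat.card s.Cb = 54 := (s.rep.pick [0, 4, 5, 9]).gen Cb_ok
theorem gCc : s.C.Lists Cc_t.dom s.Cc ∧ Nat.card s.Cc = 108 := (s.rep.pick [0, 4, 5, 10]).gen Cc_ok
theorem gF : s.C.Lists F_t.dom s.F ∧ Nat.card s.F = 36 := (s.rep.pick [4, 5, 10]).gen F_ok
theorem gB : s.C.Lists B_t.dom s.B ∧ Nat.card s.B = 9 := (s.rep.pick [4, 5]).gen B_ok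
theorem gB1 : s.C.Lists B1_t.dom s.B1 ∧ Nat.card s.B1 = 9 := (s.rep.pick [0, 13]).gen B1_ok
theorem gW : s.C.Lists W_t.dom s.W ∧ Nat.card s.W = 24 := (s.rep.pick [1, 2, 3]).gen W_ok
theorem gA1 : s.C.Lists A1_t.dom s.A1 ∧ Nat.card s.A1 = 9 := (s.rep.pick [0, 12]).gen A1_ok
theorem gA2 : s.C.Lists A2_t.dom s.A2 ∧ Nat.card s.A2 = 9 := (s.rep.pick [0, 4]).gen A2_ok

theorem hL : s.C.ListsL [H_t.dom, J_t.dom, S_t.dom, Cb_t.dom, Cc_t.dom, F_t.dom, B_t.dom, B1_t.dom, W_t.dom, A1_t.dom,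
    A2_t.dom] [s.H, s.J, s.S, s.Cb, s.Cc, s.F, s.B, s.B1, s.W, s.A1, s.A2] :=
  s.gH.1.cons <| s.gJ.1.cons <| s.gS.1.cons <| s.gCb.1.cons <| s.gCc.1.cons <| s.gF.1.cons <| s.gB.1.cons <|
    s.gB1.1.cons <| s.gW.1.cons <| s.gA1.1.cons <| s.gA2.1.cons Cod.listsL_nil

theorem ord : orderOf s.c1 = 3 ∧ orderOf s.c2 = 3 ∧ orderOf s.a = 3 ∧ orderOf s.b = 3 ∧ orderOf s.w = 2 ∧
    s.f ^ 4 = 1 := s.hL.decide s.rep (by decide +kernel)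
theorem le : s.J ≤ s.S ∧ s.S ≤ s.H ∧ s.J ≤ s.Cb ∧ s.Cb ≤ s.H ∧ s.J ≤ s.Cc ∧ s.Cc ≤ s.H ∧ s.W ≤ s.H ∧ s.B ≤ s.F ∧
    s.A1 ≤ s.J ∧ s.A2 ≤ s.J ∧ s.B ≤ s.J ∧ s.B1 ≤ s.J := s.hL.decide s.rep (by decide +kernel)
theorem mem : s.c1 ∈ s.J ∧ s.c2 ∈ s.J ∧ s.c3 ∈ s.J ∧ s.a ∈ s.J ∧ s.b ∈ s.J ∧ s.w ∈ s.Cb ∧ s.f ∈ s.Cc ∧ s.f ∈ s.F ∧
    s.t4 ∈ s.H ∧ s.v ∈ s.H ∧ s.c1 ∉ s.B := s.hL.decide s.rep (by decide +kernel)
theorem J3 : ∀ x ∈ s.J, x ^ 3 = 1 := s.hL.decide s.rep (by decide +kernel)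
theorem Jc : ∀ x ∈ s.J, ∀ y ∈ s.J, x * y = y * x := s.hL.decide s.rep (by decide +kernel)
theorem memJ : ∀ x ∈ s.H, (x ^ 9) ^ 9 = 1 → ((x * (s.t4 * x⁻¹ * s.t4⁻¹)) ^ 9) ^ 9 = 1 → x ∈ s.J :=
  s.hL.decide s.rep (by decide +kernel)
theorem cls3 : ∀ x ∈ s.J, x ≠ 1 → ∃ h ∈ s.W, Let (h * x * h⁻¹) fun y => y = s.a ∨ y = s.b ∨ y = s.c1 :=
  s.hL.decide s.rep (by decide +kernel)
theorem cenH : ∀ g ∈ s.H, (g * s.a = s.a * g ↔ g ∈ s.S) ∧ (g * s.b = s.b * g ↔ g ∈ s.Cb) ∧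
    (g * s.c1 = s.c1 * g ↔ g ∈ s.Cc) := s.hL.decide s.rep (by decide +kernel)
theorem clsS : ∀ x ∈ s.S, x ^ 3 = 1 → x ∈ s.J ∨ ∃ h ∈ s.S, Let (h * x * h⁻¹) fun y => y = s.v ∨ y = s.v⁻¹ :=
  s.hL.decide s.rep (by decide +kernel)
theorem clsA1 : ∀ x ∈ s.A1, x = 1 ∨ x = s.c1 ∨ x = s.c1⁻¹ ∨ ∃ h ∈ s.W, Let (h * x * h⁻¹) fun y => y = s.a ∨ y = s.b :=
  s.hL.decide s.rep (by decide +kernel)
theorem clsA2 : ∀ x ∈ s.A2, x = 1 ∨ x = s.c1 ∨ x = s.c1⁻¹ ∨ x = s.c2 ∨ x = s.c2⁻¹ ∨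
    ∃ h ∈ s.W, Let (h * x * h⁻¹) fun y => y = s.a ∨ y = s.b := s.hL.decide s.rep (by decide +kernel)

variable [Finite G]

theorem abel : ∀ D ≤ s.S, (∀ x ∈ D, ∀ y ∈ D, x * y = y * x) → D ≤ s.J ∨ Nat.card D < Nat.card s.J := fun D hD hc => by
  refine or_iff_not_imp_left.2 fun h => ?_
  obtain ⟨y, hy, h1⟩ := SetLike.not_le_iff_exists.1 h
  have h2 := s.hL.all_count s.rep s.gS.1 s.gS.1 (fun y => y ∉ s.J) (fun y x => x * y = y * x) 9 (by decide +kernel) y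
    (hD hy) h1
  have h3 := (card_le_ncard (F := D) (T := {x | x ∈ s.S ∧ x * y = y * x}) fun x hx => ⟨hD hx, hc x hx y hy⟩).trans h2
  rw [s.gJ.2]
  omega

theorem normS : normalizer (s.S : Set G) ≤ normalizer (s.J : Set G) := fun g hg => by
  refine cj_eq_iff.1 (cj_eq_of_le ((s.abel (cj g s.J) (cj_le_iff.2 fun x hx => conj_mem_of_mem_norm hg (s.le.1 hx))
    ?_).resolve_right (by rw [card_cj]; exact lt_irrefl _)))
  rintro _ ⟨x, hx, rfl⟩ _ ⟨y, hy, rfl⟩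
  exact cjcomm (s.Jc x hx y hy)

end H0

/-- The configuration given by the hypotheses. -/
structure Hs (G : Type u) [Group G] [Finite G] extends H0 G where
  norm : normalizer (toH0.J : Set G) = toH0.H
  core : ∀ x ∈ toH0.H, orderOf x = 3 → NoCore (centralizer ({x} : Set G))

namespace Hs

variable [Finite G] (s : Hs G)

theorem memH {g : G} (h : g ∈ normalizer (s.J : Set G)) : g ∈ s.H := s.norm ▸ h

theorem cjJ {g x : G} (h : g ∈ s.H) (hx : x ∈ s.J) : g * x * g⁻¹ ∈ s.J := conj_mem_of_mem_norm (s.norm ▸ h) hx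

theorem JH : s.J ≤ s.H := s.le.1.trans s.le.2.1

theorem cen_a : centralizer {s.a} ≤ s.S := by
  have h1 : s.S ≤ centralizer {s.a} := fun g hg => mem_cen.2 ((s.cenH g (s.le.2.1 hg)).1.2 hg)
  have h2 : ∀ g ∈ centralizer ({s.a} : Set G), g ∈ normalizer (s.J : Set G) → g ∈ s.S := fun g hg h =>
    (s.cenH g (s.memH h)).1.1 (mem_cen.1 hg)
  exact gt_le (isSylIn_of_normalizer (isSylIn_of_card le_rfl (k := 4) (m := 1) s.gS.2 s.gS.2 (by decide)) h1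
    fun g hg h => h2 g hg (s.normS h)) s.le.1 s.Jc s.abel h2 (s.core _ (s.JH s.mem.2.2.2.1) s.ord.2.2.1)

theorem inf_b : centralizer {s.b} ⊓ normalizer (s.J : Set G) = s.Cb := le_antisymm
  (fun g hg => (s.cenH g (s.memH hg.2)).2.1.1 (mem_cen.1 hg.1))
  fun g hg => ⟨mem_cen.2 ((s.cenH g (s.le.2.2.2.1 hg)).2.1.2 hg), s.norm ▸ s.le.2.2.2.1 hg⟩

theorem inf_c : centralizer {s.c1} ⊓ normalizer (s.J : Set G) = s.Cc := le_antisymm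
  (fun g hg => (s.cenH g (s.memH hg.2)).2.2.1 (mem_cen.1 hg.1))
  fun g hg => ⟨mem_cen.2 ((s.cenH g (s.le.2.2.2.2.2.1 hg)).2.2.2 hg), s.norm ▸ s.le.2.2.2.2.2.1 hg⟩

theorem cen_b : centralizer {s.b} ≤ s.Cb := by
  have h1 : IsSylIn 3 s.J (centralizer {s.b}) := isSylIn_of_normalizer
    (isSylIn_of_card s.le.2.2.1 (k := 3) (m := 2) s.gJ.2 s.gCb.2 (by decide))
    (fun g hg => mem_cen.2 (s.Jc g hg _ s.mem.2.2.2.2.1)) fun g hg h => s.inf_b.le ⟨hg, h⟩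
  have f1 : (∀ j ∈ s.J, ∀ g ∈ s.Cb, ⁅j, g⁆ ∈ s.B1) ∧ s.c1 = ⁅s.c1⁻¹, s.w⁆ ∧ s.u = ⁅s.c2, s.w⁆ ∧
      (∀ j ∈ s.J, ∃ y ∈ s.B1, j = y * 1 ∨ j = y * s.b ∨ j = y * s.b⁻¹) ∧ (∀ y ∈ s.B1, s.w * y * s.w⁻¹ = y⁻¹) ∧
      ∀ g ∈ s.Cb, ((∀ y ∈ s.B1, y * g = g * y) ∧ ¬ ∀ y ∈ s.B1, y * (g * s.w) = g * s.w * y) ∨
        ((∀ y ∈ s.B1, y * (g * s.w) = g * s.w * y) ∧ ¬ ∀ y ∈ s.B1, y * g = g * y) :=
    s.hL.decide s.rep (by decide +kernel)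
  obtain ⟨f1, f2, f3, f4, f5, f6⟩ := f1
  have wC := s.mem.2.2.2.2.2.1
  obtain ⟨K, k1, -, k3, k4, -, k6, k7, k8⟩ := res_core (B := s.B1) h1 s.Jc
    (s.core _ (s.JH s.mem.2.2.2.2.1) s.ord.2.2.2.1)
    (by
      rw [s.inf_b]
      refine le_antisymm (commutator_le.2 f1) (clos_le.2 ?_)
      simp only [List.forall_mem_cons]
      exact ⟨f2 ▸ commutator_mem_commutator (inv_mem s.mem.1) wC, f3 ▸ commutator_mem_commutator s.mem.2.1 wC, by simp⟩)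
    (fun j hj => by
      obtain ⟨y, hy, h | h | h⟩ := f4 j hj
      exacts [⟨y, hy, _, one_mem _, h⟩, ⟨y, hy, _, mem_zpowers _, h⟩, ⟨y, hy, _, inv_mem (mem_zpowers _), h⟩])
    s.mem.2.2.2.2.1
  have wK : s.w ∈ K := k6 _ (s.inf_b.ge wC).1 (by rw [s.ord.2.2.2.2.1]; decide)
  have h2 := nine_z2 k3 k4 s.gB1.2 (fun y hy => s.J3 y (s.le.2.2.2.2.2.2.2.2.2.2.2 hy))
    (relIndex_eq_two_iff.2 ⟨s.w, ⟨wK, mem_normalizer_of_conj_mem fun y hy => f5 y hy ▸ inv_mem hy⟩, fun g hg => by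
      rcases f6 g (s.inf_b.le ⟨k1 hg.1, k8 g hg.1 hg.2⟩) with h | h
      exacts [.inr h, .inl h]⟩) wK f5
  rw [sup_bot_eq] at h2
  intro g hg
  obtain ⟨k, hk, j, hj, rfl⟩ := k7 g hg
  exact mul_mem (s.inf_b.le ⟨k1 hk, k8 k hk (h2 hk)⟩) (s.le.2.2.1 hj)

theorem cen_ab {x h : G} (hh : h ∈ s.W) (e : h * x * h⁻¹ = s.a ∨ h * x * h⁻¹ = s.b) : centralizer {x} ≤ s.H :=
  e.elim (fun e => cent_cj (s.le.2.2.2.2.2.2.1 hh) e (s.cen_a.trans s.le.2.1))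
    fun e => cent_cj (s.le.2.2.2.2.2.2.1 hh) e (s.cen_b.trans s.le.2.2.2.1)

/-- The centraliser of `c1`. -/
theorem cen_c : centralizer {s.c1} ≤ s.H ∨ ∃ K : Subgroup G, K ≤ centralizer {s.c1} ∧ pm s.c1 ≤ normalizer (K : Set G) ∧
    s.F ≤ K ∧ (∀ g ∈ centralizer ({s.c1} : Set G), ∃ k ∈ K, ∃ j ∈ s.J, g = k * j) ∧
    Nonempty (K ≃* alternatingGroup (Fin 6)) := by
  have h1 : IsSylIn 3 s.J (centralizer {s.c1}) := isSylIn_of_normalizer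
    (isSylIn_of_card s.le.2.2.2.2.1 (k := 3) (m := 4) s.gJ.2 s.gCc.2 (by decide))
    (fun g hg => mem_cen.2 (s.Jc g hg _ s.mem.1)) fun g hg h => s.inf_c.le ⟨hg, h⟩
  have f1 : (∀ j ∈ s.J, ∀ g ∈ s.Cc, ⁅j, g⁆ ∈ s.B) ∧ s.c2 = ⁅s.c2⁻¹, s.f * s.f⁆ ∧ s.c3 = ⁅s.c3⁻¹, s.f * s.f⁆ ∧
      (∀ j ∈ s.J, ∃ y ∈ s.B, j = y * 1 ∨ j = y * s.c1 ∨ j = y * s.c1⁻¹) ∧
      (∀ y ∈ s.B, s.f * s.f * y * (s.f * s.f)⁻¹ = y⁻¹) ∧ (∀ g ∈ s.F, ∀ y ∈ s.B, g * y * g⁻¹ ∈ s.B) ∧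
      (∀ g ∈ s.Cc, g ∈ s.F ∨ g * s.c1 ∈ s.F ∨ g * s.c1⁻¹ ∈ s.F) ∧
      (∀ y ∈ s.B, y ≠ 1 → (∃ h ∈ s.W, Let (h * (s.c1 * y) * h⁻¹) fun z => z = s.a ∨ z = s.b) ∧
        ∀ g ∈ s.Cc, g * y = y * g → g ∈ s.J) ∧ s.c2 ∈ s.B ∧ s.c2 ≠ 1 :=
    s.hL.decide s.rep (by decide +kernel)
  obtain ⟨f1, f2, f3, f4, f5, f6, f7, f8, f9, f10⟩ := f1
  have fC := s.mem.2.2.2.2.2.2.1
  obtain ⟨K, k1, k2, k3, k4, k5, k6, k7, k8⟩ := res_core (B := s.B) h1 s.Jc (s.core _ (s.JH s.mem.1) s.ord.1)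
    (by
      rw [s.inf_c]
      refine le_antisymm (commutator_le.2 f1) (clos_le.2 ?_)
      simp only [List.forall_mem_cons]
      exact ⟨f2 ▸ commutator_mem_commutator (inv_mem s.mem.2.1) (mul_mem fC fC),
        f3 ▸ commutator_mem_commutator (inv_mem s.mem.2.2.1) (mul_mem fC fC), by simp⟩)
    (fun j hj => by
      obtain ⟨y, hy, h | h | h⟩ := f4 j hj
      exacts [⟨y, hy, _, one_mem _, h⟩, ⟨y, hy, _, mem_zpowers _, h⟩, ⟨y, hy, _, inv_mem (mem_zpowers _), h⟩])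
    s.mem.1
  have fK : s.f ∈ K := k6 _ (s.inf_c.ge fC).1
    (Nat.Coprime.of_dvd_left (orderOf_dvd_of_pow_eq_one s.ord.2.2.2.2.2) (by decide))
  have FK : s.F ≤ K := clos_le.2 (by
    simp only [List.forall_mem_cons]
    exact ⟨k4.le (mem_clos (by simp)), k4.le (mem_clos (by simp)), fK, by simp⟩)
  have hl : ∀ y ∈ s.B, y ≠ 1 → ∀ g ∈ K, g * y = y * g → g ∈ s.B := fun y hy h g hg e => by
    obtain ⟨⟨x, hx, h2⟩, h3⟩ := f8 y hy h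
    have h4 := mem_cen.1 (k1 hg)
    have h5 : g ∈ s.H := s.cen_ab hx h2 (mem_cen.2 (Commute.mul_right h4 e))
    exact k5.le ⟨hg, h3 g ((s.cenH g h5).2.2.1 h4) e⟩
  have hF : K ⊓ normalizer (s.B : Set G) = s.F := le_antisymm (fun g hg => by
      have c1K : s.c1 ∉ K := fun h => s.mem.2.2.2.2.2.2.2.2.2.2 (k5.le ⟨h, s.mem.1⟩)
      rcases f7 g (s.inf_c.le ⟨k1 hg.1, k8 g hg.1 hg.2⟩) with h | h | h
      · exact h
      · exact absurd ((K.mul_mem_cancel_left hg.1).1 (FK h)) c1K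
      · exact absurd (K.inv_mem_iff.1 ((K.mul_mem_cancel_left hg.1).1 (FK h))) c1K)
    fun g hg => ⟨FK hg, mem_normalizer_of_conj_mem (f6 g hg)⟩
  have B3 : ∀ y ∈ s.B, y ^ 3 = 1 := fun y hy => s.J3 y (s.le.2.2.2.2.2.2.2.2.2.2.1 hy)
  have h4 : (centralizer (s.B : Set G)).relIndex s.F = 4 := by
    have h5 : centralizer (s.B : Set G) ⊓ s.F = s.B := le_antisymm
      (fun g hg => hl _ f9 f10 g (FK hg.2) (mem_centralizer_iff.1 hg.1 _ f9).symm)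
      fun g hg => ⟨mem_centralizer_iff.2 fun y hy => mul_comm_of_nine s.gB.2 hy hg, s.le.2.2.2.2.2.2.2.1 hg⟩
    have h6 := card_mul_relIndex s.le.2.2.2.2.2.2.2.1
    rw [s.gB.2, s.gF.2] at h6
    rw [← inf_relIndex_right, h5]
    omega
  rcases nine_z4 ⟨k3.toSec, k4, s.gB.2, B3, fun g hg h => mem_sup_left (hl _ f9 f10 g hg (h _ f9))⟩ k3
    (fun y hy h g hg e => mem_sup_left (hl y hy h g hg e)) (hF ▸ h4) (hF.ge s.mem.2.2.2.2.2.2.2.1) f5 with h | ⟨φ, h1, h2⟩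
  · rw [sup_bot_eq] at h
    refine .inl fun g hg => ?_
    obtain ⟨k, hk, j, hj, rfl⟩ := k7 g hg
    exact mul_mem (s.memH (k8 k hk (h hk))) (s.JH hj)
  · exact .inr ⟨K, k1, k2, FK, k7, ⟨MulEquiv.ofBijective φ ⟨(MonoidHom.ker_eq_bot_iff φ).1 (by rw [h2, bot_subgroupOf]), h1⟩⟩⟩

end Hs

end Cfsg.Agent.T16.A9
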