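import Mathlib
import Cfsg.Agent.T16.A9H
import Cfsg.Agent.Ch.SpcH6W
import Cfsg.Agent.Rec.SylTools
import Cfsg.Agent.Rec.Sim

/-!
Recognition of the alternating group of degree nine: from the hypotheses to the letters.
-/

set_option autoImplicit false
set_option synthInstance.maxSize 100000
set_option synthInstance.maxHeartbeats 1000000
set_option linter.unusedSectionVars false

namespace Cfsg.Agent.T16.A9

open Cfsg.Agent.Spor Cfsg.Agent.Rec Cfsg.Agent.Inv.Fz Subgroup Equiv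

universe u

/-- The model. -/
noncomputable def s0 : H0 (Perm (Fin 9)) where
  c1 := swap 0 1 * swap 1 2
  v := swap 0 3 * swap 3 6 * (swap 1 4 * swap 4 7) * (swap 2 5 * swap 5 8)
  t4 := swap 0 1 * swap 3 4
  om := swap 0 3 * swap 1 4 * swap 2 5 * swap 6 7
  C := permCod P9_ok
  rep0 := (rep_pcode P9_ok _ (by decide +kernel)).cons <| (rep_pcode P9_ok _ (by decide +kernel)).cons <|
    (rep_pcode P9_ok _ (by decide +kernel)).cons <| (rep_pcode P9_ok _ (by decide +kernel)).cons Cod.repL_nil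

theorem s0_c1 : s0.c1 = swap 0 1 * swap 1 2 := rfl
theorem s0_c2 : s0.c2 = swap 3 4 * swap 4 5 := by decide +kernel
theorem s0_c3 : s0.c3 = swap 6 7 * swap 7 8 := by decide +kernel

theorem s0_cen {g : Perm (Fin 9)} (h1 : g * s0.c1 = s0.c1 * g) (h2 : g * s0.c2 = s0.c2 * g)
    (h3 : g * s0.c3 = s0.c3 * g) : g ∈ s0.J := by
  have k0 : ∀ {d c : Perm (Fin 9)}, d * c = c * d → ∀ x, d (c x) = c (d x) := fun h x => DFunLike.congr_fun h x
  have k1 : ∀ {c : Perm (Fin 9)} {x : Fin 9}, g * c = c * g → c x ≠ x → c (g x) ≠ g x := fun h hx e =>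
    hx (g.injective ((k0 h _).trans e))
  have k2 : ∀ a b c : Fin 9, s0.c1 a ≠ a → s0.c2 b ≠ b → s0.c3 c ≠ c → ∃ i j k : Fin 3,
      (s0.c1 ^ i.1 * s0.c2 ^ j.1 * s0.c3 ^ k.1) 0 = a ∧ (s0.c1 ^ i.1 * s0.c2 ^ j.1 * s0.c3 ^ k.1) 3 = b ∧
        (s0.c1 ^ i.1 * s0.c2 ^ j.1 * s0.c3 ^ k.1) 6 = c := by
    rw [s0_c1, s0_c2, s0_c3]
    decide +kernel
  obtain ⟨i, j, k, e1, e2, e3⟩ := k2 _ _ _ (k1 (x := 0) h1 (by decide +kernel)) (k1 (x := 3) h2 (by decide +kernel))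
    (k1 (x := 6) h3 (by decide +kernel))
  have hm : s0.c1 ^ i.1 * s0.c2 ^ j.1 * s0.c3 ^ k.1 ∈ s0.J :=
    mul_mem (mul_mem (pow_mem s0.mem.1 _) (pow_mem s0.mem.2.1 _)) (pow_mem s0.mem.2.2.1 _)
  generalize s0.c1 ^ i.1 * s0.c2 ^ j.1 * s0.c3 ^ k.1 = h at *
  have k3 : ∀ {c : Perm (Fin 9)}, c ∈ s0.J → g * c = c * g → ∀ {x y}, h x = g x → c x = y → h y = g y :=
    fun hc e x y e' e'' => by rw [← e'', k0 (s0.Jc h hm _ hc), k0 e, e']
  have e4 : h 1 = g 1 := k3 s0.mem.1 h1 e1 (by decide +kernel)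
  have e5 : h 2 = g 2 := k3 s0.mem.1 h1 e4 (by decide +kernel)
  have e6 : h 4 = g 4 := k3 s0.mem.2.1 h2 e2 (by decide +kernel)
  have e7 : h 5 = g 5 := k3 s0.mem.2.1 h2 e6 (by decide +kernel)
  have e8 : h 7 = g 7 := k3 s0.mem.2.2.1 h3 e3 (by decide +kernel)
  have e9 : h 8 = g 8 := k3 s0.mem.2.2.1 h3 e8 (by decide +kernel)
  have : h = g := Equiv.ext fun x => by fin_cases x <;> assumption
  exact this ▸ hm

theorem H0.H_le {G : Type u} [Group G] [Finite G] (s : H0 G) : s.H ≤ normalizer (s.J : Set G) :=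
  Syl.mem_normalizer_clos (by
    simp only [List.forall_mem_cons, List.not_mem_nil, false_imp_iff, implies_true, and_true]
    exact (s.gJ.1.cons Cod.listsL_nil).decide (Ks := [clos [s.c1, s.c2, s.c3]]) s.rep (by decide +kernel))

theorem s0_H : s0.H = alternatingGroup (Fin 9) ⊓ normalizer (s0.J : Set (Perm (Fin 9))) := by
  have hA : s0.H ≤ alternatingGroup (Fin 9) := clos_le.2 (by
    simp only [List.forall_mem_cons, List.not_mem_nil, false_imp_iff, implies_true, and_true, Perm.mem_alternatingGroup]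
    decide +kernel)
  refine le_antisymm (le_inf hA s0.H_le) fun g hg => ?_
  have k1 : ∀ g ∈ normalizer (s0.J : Set (Perm (Fin 9))), ∀ c ∈ s0.J, c.support.card = 3 →
      ∃ h ∈ s0.W, h * (g * c * g⁻¹) * h⁻¹ = s0.c1 := fun g hg c hc h3 => by
    obtain ⟨h, hh, e⟩ := s0.cls3 _ (conj_mem_of_mem_norm hg hc) (fun e => by simp [conj_eq_one.1 e] at h3)
    have h4 : (h * (g * c * g⁻¹) * h⁻¹).support.card = 3 := by rw [Perm.card_support_conj, Perm.card_support_conj, h3]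
    refine ⟨h, hh, ?_⟩
    rcases e with e | e | e
    · rw [e] at h4; exact absurd h4 (by decide +kernel)
    · rw [e] at h4; exact absurd h4 (by decide +kernel)
    · exact e
  have f1 : (∀ x ∈ s0.J, (∃ h ∈ s0.W, h * x * h⁻¹ = s0.c1) → (∀ y ∈ s0.J, (∃ h ∈ s0.W, h * y * h⁻¹ = s0.c1) →
      y ≠ x → y ≠ x⁻¹ → ∃ h ∈ s0.W, h * s0.c1 * h⁻¹ = x ∧ h * s0.c2 * h⁻¹ = y) ∧
        (x = s0.c1 ∨ x = s0.c1⁻¹ ∨ x = s0.c2 ∨ x = s0.c2⁻¹ ∨ x = s0.c3 ∨ x = s0.c3⁻¹)) ∧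
      s0.c2 ≠ s0.c1 ∧ s0.c2 ≠ s0.c1⁻¹ ∧ s0.c3 ≠ s0.c1 ∧ s0.c3 ≠ s0.c1⁻¹ ∧ s0.c3 ≠ s0.c2 ∧ s0.c3 ≠ s0.c2⁻¹ :=
    s0.hL.decide s0.rep (by decide +kernel)
  obtain ⟨f1, n1, n2, n3, n4, n5, n6⟩ := f1
  have k2 : ∀ {g a b : Perm (Fin 9)}, a ≠ b → g * a * g⁻¹ ≠ g * b * g⁻¹ := fun h e => h (by simpa using e)
  obtain ⟨h, hh, e1, e2⟩ := (f1 _ (conj_mem_of_mem_norm hg.2 s0.mem.1) (k1 g hg.2 _ s0.mem.1 (by decide +kernel))).1 _
    (conj_mem_of_mem_norm hg.2 s0.mem.2.1) (k1 g hg.2 _ s0.mem.2.1 (by decide +kernel)) (k2 n1)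
    (by rw [conj_inv]; exact k2 n2)
  have hH := s0.le.2.2.2.2.2.2.1 hh
  refine (mul_mem_cancel_left (inv_mem hH)).1 ?_
  have hg' : h⁻¹ * g ∈ alternatingGroup (Fin 9) ⊓ normalizer (s0.J : Set (Perm (Fin 9))) :=
    mul_mem (inv_mem ⟨hA hH, s0.H_le hH⟩) hg
  replace e1 : h⁻¹ * g * s0.c1 * (h⁻¹ * g)⁻¹ = s0.c1 := (cjc rfl).trans (cjs e1)
  replace e2 : h⁻¹ * g * s0.c2 * (h⁻¹ * g)⁻¹ = s0.c2 := (cjc rfl).trans (cjs e2)
  generalize h⁻¹ * g = d at *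
  have JH := s0.le.1.trans s0.le.2.1
  rcases (f1 _ (conj_mem_of_mem_norm hg'.2 s0.mem.2.2.1) (k1 d hg'.2 _ s0.mem.2.2.1 (by decide +kernel))).2 with
    e | e | e | e | e | e
  · exact absurd (e.trans e1.symm) (k2 n3)
  · exact absurd (by rw [e, ← conj_inv, e1]) (k2 (g := d) n4)
  · exact absurd (e.trans e2.symm) (k2 n5)
  · exact absurd (by rw [e, ← conj_inv, e2]) (k2 (g := d) n6)
  · exact JH (s0_cen (mul_inv_eq_iff_eq_mul.1 e1) (mul_inv_eq_iff_eq_mul.1 e2) (mul_inv_eq_iff_eq_mul.1 e))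
  · have h5 := hA (JH (s0_cen (g := swap 7 8 * d)
      (mul_inv_eq_iff_eq_mul.1 ((cjc e1).trans (by decide +kernel)))
      (mul_inv_eq_iff_eq_mul.1 ((cjc e2).trans (by decide +kernel)))
      (mul_inv_eq_iff_eq_mul.1 ((cjc e).trans (by decide +kernel)))))
    rw [(alternatingGroup (Fin 9)).mul_mem_cancel_right hg'.1, Perm.mem_alternatingGroup] at h5
    exact absurd h5 (by decide +kernel)

variable {G : Type u} [Group G] [Finite G]

theorem exists_Hs {J : Subgroup G} (hexp : ∀ a ∈ J, a ^ 3 = 1) (hcard : Nat.card J = 27)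
    (e : normalizer (J : Set G) ≃* s0.H)
    (hcore : ∀ x ∈ normalizer (J : Set G), orderOf x = 3 → Cfsg.pPrimeCore 3 (centralizer ({x} : Set G)) = ⊥) :
    ∃ s : Hs G, s.H = normalizer (J : Set G) := by
  obtain ⟨C, l, h1, h2⟩ := s0.rep0.transport e.symm
  have h3 := h1.unique (h1.pick [0, 1, 2, 3])
  rw [h3] at h1 h2
  let s : H0 G := ⟨_, _, _, _, C, h1⟩
  have h4 : s.H = normalizer (J : Set G) := h2
  have h5 : ∀ a ∈ J, (a ^ 9) ^ 9 = 1 := fun a ha => by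
    rw [show 9 = 3 * 3 from rfl, pow_mul a, hexp a ha, one_pow, one_pow]
  have h6 : J = s.J := eq_of_le_of_card_ge (fun a ha => s.memJ a (h4 ▸ le_normalizer ha) (h5 a ha)
    (h5 _ (mul_mem ha (conj_mem_of_mem_norm (h4 ▸ s.mem.2.2.2.2.2.2.2.2.1) (inv_mem ha))))) (by rw [s.gJ.2, hcard])
  exact ⟨⟨s, h6 ▸ h4.symm, fun x hx h => noCore_of (hcore x (h4 ▸ hx) h)⟩, h4⟩

theorem Hs.top (s : Hs G) (e : s.H ≃* s0.H) (h : centralizer {s.c1} ≤ s.H) : s.H = ⊤ := by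
  refine Ch.Spc.alt9_top s.H ⟨e.trans (MulEquiv.subgroupCongr (congrArg Subgroup.closure (by ext; simp [s0])))⟩ _ rfl ?_
  rintro _ ⟨j, hj, rfl⟩ h1
  have hn : (Cfsg.pCore 3 s.H).Normal := by
    have : (Cfsg.pCore 3 s.H).Characteristic := GT.pCore_characteristic
    infer_instance
  have k : ∀ y ∈ Cfsg.pCore 3 s.H, ((y : G) ^ 9) ^ 9 = 1 := fun y hy => by
    obtain ⟨k, hk⟩ := GT.isPGroup_pCore 3 ⟨y, hy⟩
    have h2 : orderOf y ∣ 3 ^ k := orderOf_dvd_of_pow_eq_one (congrArg Subtype.val hk)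
    have h3 : orderOf y ∣ 8 * 81 := (orderOf_dvd_natCard y).trans (by rw [s.gH.2])
    rw [← pow_mul]
    exact congrArg Subtype.val (orderOf_dvd_iff_pow_eq_one.1 (Nat.Coprime.dvd_of_dvd_mul_left
      (Nat.Coprime.of_dvd_left h2 (Nat.Coprime.pow_left _ (by norm_num))) h3))
  obtain ⟨g, hg, e⟩ := s.cls3 j (s.memJ j j.2 (k j hj)
    (k _ (mul_mem hj (hn.conj_mem _ (inv_mem hj) ⟨s.t4, s.mem.2.2.2.2.2.2.2.2.1⟩)))) h1
  rcases e with e | e | e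
  exacts [s.cen_ab hg (.inl e), s.cen_ab hg (.inr e), cent_cj (s.le.2.2.2.2.2.2.1 hg) e h]

end Cfsg.Agent.T16.A9
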