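import Mathlib
import Cfsg.Agent.T16.A4Data
import Cfsg.Agent.Rec.J23.DataA6

/-! Generated by tools/rec: the groups 3^3:S4 and A4 -/

set_option autoImplicit false
set_option maxRecDepth 100000
set_option linter.unusedVariables false
set_option exponentiation.threshold 100000

namespace Cfsg.Agent.T16

open Cfsg.Agent.Spor Cfsg.Agent.Rec

universe u

noncomputable def yl : List ℕ := [(nat_lit 0x80706050403000201), (nat_lit 0x80706050403010002), (nat_lit 0x80706030504020100), (nat_lit 0x80706040305020100), (nat_lit 0x60807050403020100), (nat_lit 0x70608050403020100), (nat_lit 0x20100080706050403), (nat_lit 0x50403020100080706), (nat_lit 0x80706040503010200), (nat_lit 0x70806020100050403)]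

def yex : List (List ℕ) :=
  [[9, 9],
   [9, 0, 9, 3],
   [9, 4, 9, 4],
   [9, 8, 9, 8],
   [9, 6, 9, 7, 8, 7]]

def yrel : List (List ℕ) := a4rel ++ yex

noncomputable def yt_rels : LT :=
(.node (.node (.node (.node (.node (.leaf [])
 (.leaf [nat_lit 2,nat_lit 4,nat_lit 3,nat_lit 5])
) (.node (.leaf [nat_lit 7,nat_lit 6])
 (.leaf [nat_lit 9,nat_lit 0,nat_lit 9,nat_lit 3])
)) (.node (.node (.leaf [nat_lit 3,nat_lit 2])
 (.leaf [nat_lit 8,nat_lit 0,nat_lit 8,nat_lit 0])
) (.leaf [nat_lit 2,nat_lit 2,nat_lit 2])
)) (.node (.node (.node (.leaf [nat_lit 1,nat_lit 0])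
 (.leaf [nat_lit 6,nat_lit 0,nat_lit 7,nat_lit 3])
) (.node (.leaf [nat_lit 9,nat_lit 9])
 (.leaf [nat_lit 9,nat_lit 8,nat_lit 9,nat_lit 8])
)) (.node (.node (.leaf [nat_lit 5,nat_lit 4])
 (.leaf [nat_lit 8,nat_lit 4,nat_lit 8,nat_lit 5])
) (.leaf [nat_lit 0,nat_lit 2,nat_lit 1,nat_lit 3])
))) (.node (.node (.node (.node (.leaf [nat_lit 0,nat_lit 1])
 (.leaf [nat_lit 6,nat_lit 6,nat_lit 6])
) (.node (.leaf [nat_lit 8,nat_lit 8])
 (.leaf [nat_lit 9,nat_lit 4,nat_lit 9,nat_lit 4])
)) (.node (.node (.leaf [nat_lit 4,nat_lit 5])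
 (.leaf [nat_lit 8,nat_lit 2,nat_lit 8,nat_lit 2])
) (.leaf [nat_lit 4,nat_lit 4,nat_lit 4])
)) (.node (.node (.node (.leaf [nat_lit 2,nat_lit 3])
 (.leaf [nat_lit 6,nat_lit 2,nat_lit 7,nat_lit 5])
) (.node (.leaf [nat_lit 0,nat_lit 0,nat_lit 0])
 (.leaf [nat_lit 9,nat_lit 6,nat_lit 9,nat_lit 7,nat_lit 8,nat_lit 7])
)) (.node (.node (.leaf [nat_lit 6,nat_lit 7])
 (.leaf [nat_lit 8,nat_lit 6,nat_lit 8,nat_lit 7,nat_lit 7,nat_lit 8,nat_lit 6])
) (.leaf [nat_lit 0,nat_lit 4,nat_lit 1,nat_lit 5])
))))
noncomputable def yt_hws : LT :=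
(.leaf [])

noncomputable def yt_inv : ℕ → ℕ := getP (nat_lit 8) (nat_lit 255) (nat_lit 0x9080607040502030001)

noncomputable def yt_t : BT :=
(.node (.node (.node (.node (.leaf (nat_lit 0x41647000))
 (.leaf (nat_lit 0x842247040))
) (.leaf (nat_lit 0x441e47020))
) (.node (.node (.leaf (nat_lit 0x1c47010))
 (.leaf (nat_lit 0x3fe00ff8))
) (.leaf (nat_lit 0x642447030))
)) (.node (.node (.node (.leaf (nat_lit 0x1847008))
 (.leaf (nat_lit 0x1402049))
) (.leaf (nat_lit 0x2047028))
) (.node (.node (.leaf (nat_lit 0x241a47018))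
 (.leaf (nat_lit 0x21200000))
) (.leaf (nat_lit 0x2647038))
)))

noncomputable def yt_rules : LT :=
(.node (.node (.node (.leaf [nat_lit 24,nat_lit 2,nat_lit 1,nat_lit 0,nat_lit 9,nat_lit 2,nat_lit 9])
 (.leaf [nat_lit 26,nat_lit 2,nat_lit 1,nat_lit 8,nat_lit 9,nat_lit 8,nat_lit 9])
) (.leaf [nat_lit 25,nat_lit 2,nat_lit 1,nat_lit 4,nat_lit 9,nat_lit 5,nat_lit 9])
) (.node (.leaf [nat_lit 24,nat_lit 0,nat_lit 1,nat_lit 3,nat_lit 9,nat_lit 1,nat_lit 9])
 (.leaf [nat_lit 27,nat_lit 4,nat_lit 1,nat_lit 6,nat_lit 9,nat_lit 6,nat_lit 8,nat_lit 6,nat_lit 9])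
))

noncomputable def yt_subs : LT :=
(.leaf [nat_lit 0,nat_lit 0,nat_lit 0,nat_lit 10])


noncomputable def yt : TC :=
  ⟨fun x c => Nat.shiftRight (BT.get yt_t x) (Nat.mul (nat_lit 18) c),
  (nat_lit 3), (nat_lit 7), (nat_lit 4095), (nat_lit 12), (nat_lit 63), (nat_lit 4088), (nat_lit 2), (nat_lit 2), (nat_lit 10), (nat_lit 9), (nat_lit 10), (nat_lit 11), yt_inv, yt_rules, yt_subs⟩

theorem yt_c1 : yt.rules.all (ruleOK yt.m yt.inv yt_rels) = true := by decide +kernel
theorem yt_c2 : yt.subs.all (subOK yt.m yt.inv yt_hws) = true := by decide +kernel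
theorem yt_c3 : yt.base = true := by decide +kernel

theorem yt_s0 : yt.slots (nat_lit 0) (nat_lit 2) = true := by decide +kernel

theorem yt_c4 : yt.Upto yt.N := ((TC.upto_zero yt).step _ yt_s0)
theorem yt_c5 : yt.UptoE yt.N := (TC.uptoE_n yt)
theorem yt_bound {G : Type*} [Group G] {g : ℕ → G} {H : Subgroup G} (hinv : ∀ x < 10, g x * g (yt_inv x) = 1)
    (hrels : ∀ i, evalW g (yt_rels.get i) = 1) (hH : ∀ x < 9, g x ∈ H) (hhws : ∀ i, evalW g (yt_hws.get i) ∈ H) :
    H.relIndex (genLt g 10) ≠ 0 ∧ H.relIndex (genLt g 10) ≤ 2 :=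
  TC.relIndex_le (T := yt) hinv hrels hH hhws yt_c1 yt_c2 yt_c3 yt_c4 yt_c5

theorem yt_bd : Bound.{u} yrel 9 10 2 := fun _ _ _ _ hs hH =>
  yt_bound (hs.hinv (by decide +kernel)) (hs.tree (by decide +kernel)) hH (leaf_nil_mem' _ _ (by decide +kernel))

theorem ypres : Pres.{u} yrel 10 648 := a4pres.step yt_bd (by decide +kernel)

theorem yl_ok : allL yl (permOK 9) = true := by decide +kernel

theorem yrel_ok : allL yrel (fun w => Nat.beq (evC A9 yl w) A9.one) = true := by decide +kernel

noncomputable def yg_t : ST :=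
(.node (nat_lit 0x40503000102060807) (.node (nat_lit 0x20001060708030504) (.node (nat_lit 0x10002040503060807) (.node (nat_lit 0x201030504070806) (.node (nat_lit 0x102060708050403) (.node (nat_lit 0x102040503070806) (.node (nat_lit 0x102030504080706) (.node (nat_lit 0x102030405080607) (.node (nat_lit 0x102030405070806) (.leaf (nat_lit 0x102030405060708) (nat_lit 1545))
 (.leaf (nat_lit 0x102030405070806) (nat_lit 1289))
) (.node (nat_lit 0x102030504060807) (.leaf (nat_lit 0x102030405080607) (nat_lit 1545))
 (.node (nat_lit 0x102030504070608) (.leaf (nat_lit 0x102030504060807) (nat_lit 1286))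
 (.leaf (nat_lit 0x102030504070608) (nat_lit 1286))
))) (.node (nat_lit 0x102040305070608) (.node (nat_lit 0x102040305060807) (.leaf (nat_lit 0x102030504080706) (nat_lit 1030))
 (.leaf (nat_lit 0x102040305060807) (nat_lit 1286))
) (.node (nat_lit 0x102040305080706) (.leaf (nat_lit 0x102040305070608) (nat_lit 1286))
 (.node (nat_lit 0x102040503060708) (.leaf (nat_lit 0x102040305080706) (nat_lit 1030))
 (.leaf (nat_lit 0x102040503060708) (nat_lit 1289))
)))) (.node (nat_lit 0x102050403060807) (.node (nat_lit 0x102050304060708) (.node (nat_lit 0x102040503080607) (.leaf (nat_lit 0x102040503070806) (nat_lit 1033))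
 (.leaf (nat_lit 0x102040503080607) (nat_lit 1289))
) (.node (nat_lit 0x102050304070806) (.leaf (nat_lit 0x102050304060708) (nat_lit 1545))
 (.node (nat_lit 0x102050304080607) (.leaf (nat_lit 0x102050304070806) (nat_lit 1289))
 (.leaf (nat_lit 0x102050304080607) (nat_lit 1545))
))) (.node (nat_lit 0x102050403080706) (.node (nat_lit 0x102050403070608) (.leaf (nat_lit 0x102050403060807) (nat_lit 1030))
 (.leaf (nat_lit 0x102050403070608) (nat_lit 1030))
) (.node (nat_lit 0x102060708030504) (.leaf (nat_lit 0x102050403080706) (nat_lit 774))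
 (.node (nat_lit 0x102060708040305) (.leaf (nat_lit 0x102060708030504) (nat_lit 1543))
 (.leaf (nat_lit 0x102060708040305) (nat_lit 1543))
))))) (.node (nat_lit 0x102080607030504) (.node (nat_lit 0x102070608040503) (.node (nat_lit 0x102060807040503) (.node (nat_lit 0x102060807030405) (.leaf (nat_lit 0x102060708050403) (nat_lit 1287))
 (.leaf (nat_lit 0x102060807030405) (nat_lit 1288))
) (.node (nat_lit 0x102060807050304) (.leaf (nat_lit 0x102060807040503) (nat_lit 1032))
 (.node (nat_lit 0x102070608030405) (.leaf (nat_lit 0x102060807050304) (nat_lit 1288))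
 (.leaf (nat_lit 0x102070608030405) (nat_lit 1288))
))) (.node (nat_lit 0x102070806030504) (.node (nat_lit 0x102070608050304) (.leaf (nat_lit 0x102070608040503) (nat_lit 1032))
 (.leaf (nat_lit 0x102070608050304) (nat_lit 1288))
) (.node (nat_lit 0x102070806040305) (.leaf (nat_lit 0x102070806030504) (nat_lit 1287))
 (.node (nat_lit 0x102070806050403) (.leaf (nat_lit 0x102070806040305) (nat_lit 1287))
 (.leaf (nat_lit 0x102070806050403) (nat_lit 1031))
)))) (.node (nat_lit 0x102080706050304) (.node (nat_lit 0x102080607050403) (.node (nat_lit 0x102080607040305) (.leaf (nat_lit 0x102080607030504) (nat_lit 1543))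
 (.leaf (nat_lit 0x102080607040305) (nat_lit 1543))
) (.node (nat_lit 0x102080706030405) (.leaf (nat_lit 0x102080607050403) (nat_lit 1287))
 (.node (nat_lit 0x102080706040503) (.leaf (nat_lit 0x102080706030405) (nat_lit 1032))
 (.leaf (nat_lit 0x102080706040503) (nat_lit 776))
))) (.node (nat_lit 0x201030405070608) (.node (nat_lit 0x201030405060807) (.leaf (nat_lit 0x102080706050304) (nat_lit 1032))
 (.leaf (nat_lit 0x201030405060807) (nat_lit 1543))
) (.node (nat_lit 0x201030405080706) (.leaf (nat_lit 0x201030405070608) (nat_lit 1543))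
 (.node (nat_lit 0x201030504060708) (.leaf (nat_lit 0x201030405080706) (nat_lit 1287))
 (.leaf (nat_lit 0x201030504060708) (nat_lit 1289))
)))))) (.node (nat_lit 0x201070608030504) (.node (nat_lit 0x201050304080706) (.node (nat_lit 0x201040503060807) (.node (nat_lit 0x201040305060708) (.node (nat_lit 0x201030504080607) (.leaf (nat_lit 0x201030504070806) (nat_lit 1033))
 (.leaf (nat_lit 0x201030504080607) (nat_lit 1289))
) (.node (nat_lit 0x201040305070806) (.leaf (nat_lit 0x201040305060708) (nat_lit 1289))
 (.node (nat_lit 0x201040305080607) (.leaf (nat_lit 0x201040305070806) (nat_lit 1033))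
 (.leaf (nat_lit 0x201040305080607) (nat_lit 1289))
))) (.node (nat_lit 0x201040503080706) (.node (nat_lit 0x201040503070608) (.leaf (nat_lit 0x201040503060807) (nat_lit 1287))
 (.leaf (nat_lit 0x201040503070608) (nat_lit 1287))
) (.node (nat_lit 0x201050304060807) (.leaf (nat_lit 0x201040503080706) (nat_lit 1031))
 (.node (nat_lit 0x201050304070608) (.leaf (nat_lit 0x201050304060807) (nat_lit 1543))
 (.leaf (nat_lit 0x201050304070608) (nat_lit 1543))
)))) (.node (nat_lit 0x201060708040503) (.node (nat_lit 0x201050403070806) (.node (nat_lit 0x201050403060708) (.leaf (nat_lit 0x201050304080706) (nat_lit 1287))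
 (.leaf (nat_lit 0x201050403060708) (nat_lit 1033))
) (.node (nat_lit 0x201050403080607) (.leaf (nat_lit 0x201050403070806) (nat_lit 777))
 (.node (nat_lit 0x201060708030405) (.leaf (nat_lit 0x201050403080607) (nat_lit 1033))
 (.leaf (nat_lit 0x201060708030405) (nat_lit 1286))
))) (.node (nat_lit 0x201060807030504) (.node (nat_lit 0x201060708050304) (.leaf (nat_lit 0x201060708040503) (nat_lit 1030))
 (.leaf (nat_lit 0x201060708050304) (nat_lit 1286))
) (.node (nat_lit 0x201060807040305) (.leaf (nat_lit 0x201060807030504) (nat_lit 1030))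
 (.node (nat_lit 0x201060807050403) (.leaf (nat_lit 0x201060807040305) (nat_lit 1030))
 (.leaf (nat_lit 0x201060807050403) (nat_lit 774))
))))) (.node (nat_lit 0x201080706040305) (.node (nat_lit 0x201070806050304) (.node (nat_lit 0x201070608050403) (.node (nat_lit 0x201070608040305) (.leaf (nat_lit 0x201070608030504) (nat_lit 1030))
 (.leaf (nat_lit 0x201070608040305) (nat_lit 1030))
) (.node (nat_lit 0x201070806030405) (.leaf (nat_lit 0x201070608050403) (nat_lit 774))
 (.node (nat_lit 0x201070806040503) (.leaf (nat_lit 0x201070806030405) (nat_lit 1030))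
 (.leaf (nat_lit 0x201070806040503) (nat_lit 774))
))) (.node (nat_lit 0x201080607040503) (.node (nat_lit 0x201080607030405) (.leaf (nat_lit 0x201070806050304) (nat_lit 1030))
 (.leaf (nat_lit 0x201080607030405) (nat_lit 1286))
) (.node (nat_lit 0x201080607050304) (.leaf (nat_lit 0x201080607040503) (nat_lit 1030))
 (.node (nat_lit 0x201080706030504) (.leaf (nat_lit 0x201080607050304) (nat_lit 1286))
 (.leaf (nat_lit 0x201080706030504) (nat_lit 774))
)))) (.node (nat_lit 0x10002030504060708) (.node (nat_lit 0x10002030405060807) (.node (nat_lit 0x201080706050403) (.leaf (nat_lit 0x201080706040305) (nat_lit 774))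
 (.leaf (nat_lit 0x201080706050403) (nat_lit 518))
) (.node (nat_lit 0x10002030405070608) (.leaf (nat_lit 0x10002030405060807) (nat_lit 1543))
 (.node (nat_lit 0x10002030405080706) (.leaf (nat_lit 0x10002030405070608) (nat_lit 1543))
 (.leaf (nat_lit 0x10002030405080706) (nat_lit 1287))
))) (.node (nat_lit 0x10002040305060708) (.node (nat_lit 0x10002030504070806) (.leaf (nat_lit 0x10002030504060708) (nat_lit 1289))
 (.node (nat_lit 0x10002030504080607) (.leaf (nat_lit 0x10002030504070806) (nat_lit 1033))
 (.leaf (nat_lit 0x10002030504080607) (nat_lit 1289))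
)) (.node (nat_lit 0x10002040305070806) (.leaf (nat_lit 0x10002040305060708) (nat_lit 1289))
 (.node (nat_lit 0x10002040305080607) (.leaf (nat_lit 0x10002040305070806) (nat_lit 1033))
 (.leaf (nat_lit 0x10002040305080607) (nat_lit 1289))
))))))) (.node (nat_lit 0x10200050304070806) (.node (nat_lit 0x10002070806050304) (.node (nat_lit 0x10002060708040503) (.node (nat_lit 0x10002050304080706) (.node (nat_lit 0x10002040503080706) (.node (nat_lit 0x10002040503070608) (.leaf (nat_lit 0x10002040503060807) (nat_lit 1287))
 (.leaf (nat_lit 0x10002040503070608) (nat_lit 1287))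
) (.node (nat_lit 0x10002050304060807) (.leaf (nat_lit 0x10002040503080706) (nat_lit 1031))
 (.node (nat_lit 0x10002050304070608) (.leaf (nat_lit 0x10002050304060807) (nat_lit 1543))
 (.leaf (nat_lit 0x10002050304070608) (nat_lit 1543))
))) (.node (nat_lit 0x10002050403070806) (.node (nat_lit 0x10002050403060708) (.leaf (nat_lit 0x10002050304080706) (nat_lit 1287))
 (.leaf (nat_lit 0x10002050403060708) (nat_lit 1033))
) (.node (nat_lit 0x10002050403080607) (.leaf (nat_lit 0x10002050403070806) (nat_lit 777))
 (.node (nat_lit 0x10002060708030405) (.leaf (nat_lit 0x10002050403080607) (nat_lit 1033))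
 (.leaf (nat_lit 0x10002060708030405) (nat_lit 1286))
)))) (.node (nat_lit 0x10002070608030504) (.node (nat_lit 0x10002060807030504) (.node (nat_lit 0x10002060708050304) (.leaf (nat_lit 0x10002060708040503) (nat_lit 1030))
 (.leaf (nat_lit 0x10002060708050304) (nat_lit 1286))
) (.node (nat_lit 0x10002060807040305) (.leaf (nat_lit 0x10002060807030504) (nat_lit 1030))
 (.node (nat_lit 0x10002060807050403) (.leaf (nat_lit 0x10002060807040305) (nat_lit 1030))
 (.leaf (nat_lit 0x10002060807050403) (nat_lit 774))
))) (.node (nat_lit 0x10002070608050403) (.node (nat_lit 0x10002070608040305) (.leaf (nat_lit 0x10002070608030504) (nat_lit 1030))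
 (.leaf (nat_lit 0x10002070608040305) (nat_lit 1030))
) (.node (nat_lit 0x10002070806030405) (.leaf (nat_lit 0x10002070608050403) (nat_lit 774))
 (.node (nat_lit 0x10002070806040503) (.leaf (nat_lit 0x10002070806030405) (nat_lit 1030))
 (.leaf (nat_lit 0x10002070806040503) (nat_lit 774))
))))) (.node (nat_lit 0x10200030504060807) (.node (nat_lit 0x10002080706040305) (.node (nat_lit 0x10002080607040503) (.node (nat_lit 0x10002080607030405) (.leaf (nat_lit 0x10002070806050304) (nat_lit 1030))
 (.leaf (nat_lit 0x10002080607030405) (nat_lit 1286))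
) (.node (nat_lit 0x10002080607050304) (.leaf (nat_lit 0x10002080607040503) (nat_lit 1030))
 (.node (nat_lit 0x10002080706030504) (.leaf (nat_lit 0x10002080607050304) (nat_lit 1286))
 (.leaf (nat_lit 0x10002080706030504) (nat_lit 774))
))) (.node (nat_lit 0x10200030405060708) (.node (nat_lit 0x10002080706050403) (.leaf (nat_lit 0x10002080706040305) (nat_lit 774))
 (.leaf (nat_lit 0x10002080706050403) (nat_lit 518))
) (.node (nat_lit 0x10200030405070806) (.leaf (nat_lit 0x10200030405060708) (nat_lit 1289))
 (.node (nat_lit 0x10200030405080607) (.leaf (nat_lit 0x10200030405070806) (nat_lit 1033))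
 (.leaf (nat_lit 0x10200030405080607) (nat_lit 1289))
)))) (.node (nat_lit 0x10200040305080706) (.node (nat_lit 0x10200030504080706) (.node (nat_lit 0x10200030504070608) (.leaf (nat_lit 0x10200030504060807) (nat_lit 1030))
 (.leaf (nat_lit 0x10200030504070608) (nat_lit 1030))
) (.node (nat_lit 0x10200040305060807) (.leaf (nat_lit 0x10200030504080706) (nat_lit 774))
 (.node (nat_lit 0x10200040305070608) (.leaf (nat_lit 0x10200040305060807) (nat_lit 1030))
 (.leaf (nat_lit 0x10200040305070608) (nat_lit 1030))
))) (.node (nat_lit 0x10200040503070806) (.node (nat_lit 0x10200040503060708) (.leaf (nat_lit 0x10200040305080706) (nat_lit 774))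
 (.leaf (nat_lit 0x10200040503060708) (nat_lit 1033))
) (.node (nat_lit 0x10200040503080607) (.leaf (nat_lit 0x10200040503070806) (nat_lit 777))
 (.node (nat_lit 0x10200050304060708) (.leaf (nat_lit 0x10200040503080607) (nat_lit 1033))
 (.leaf (nat_lit 0x10200050304060708) (nat_lit 1289))
)))))) (.node (nat_lit 0x10200080706030405) (.node (nat_lit 0x10200060807050304) (.node (nat_lit 0x10200060708030504) (.node (nat_lit 0x10200050403060807) (.node (nat_lit 0x10200050304080607) (.leaf (nat_lit 0x10200050304070806) (nat_lit 1033))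
 (.leaf (nat_lit 0x10200050304080607) (nat_lit 1289))
) (.node (nat_lit 0x10200050403070608) (.leaf (nat_lit 0x10200050403060807) (nat_lit 774))
 (.node (nat_lit 0x10200050403080706) (.leaf (nat_lit 0x10200050403070608) (nat_lit 774))
 (.leaf (nat_lit 0x10200050403080706) (nat_lit 518))
))) (.node (nat_lit 0x10200060708050403) (.node (nat_lit 0x10200060708040305) (.leaf (nat_lit 0x10200060708030504) (nat_lit 1287))
 (.leaf (nat_lit 0x10200060708040305) (nat_lit 1287))
) (.node (nat_lit 0x10200060807030405) (.leaf (nat_lit 0x10200060708050403) (nat_lit 1031))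
 (.node (nat_lit 0x10200060807040503) (.leaf (nat_lit 0x10200060807030405) (nat_lit 1032))
 (.leaf (nat_lit 0x10200060807040503) (nat_lit 776))
)))) (.node (nat_lit 0x10200070806040305) (.node (nat_lit 0x10200070608040503) (.node (nat_lit 0x10200070608030405) (.leaf (nat_lit 0x10200060807050304) (nat_lit 1032))
 (.leaf (nat_lit 0x10200070608030405) (nat_lit 1032))
) (.node (nat_lit 0x10200070608050304) (.leaf (nat_lit 0x10200070608040503) (nat_lit 776))
 (.node (nat_lit 0x10200070806030504) (.leaf (nat_lit 0x10200070608050304) (nat_lit 1032))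
 (.leaf (nat_lit 0x10200070806030504) (nat_lit 1031))
))) (.node (nat_lit 0x10200080607030504) (.node (nat_lit 0x10200070806050403) (.leaf (nat_lit 0x10200070806040305) (nat_lit 1031))
 (.leaf (nat_lit 0x10200070806050403) (nat_lit 775))
) (.node (nat_lit 0x10200080607040305) (.leaf (nat_lit 0x10200080607030504) (nat_lit 1287))
 (.node (nat_lit 0x10200080607050403) (.leaf (nat_lit 0x10200080607040305) (nat_lit 1287))
 (.leaf (nat_lit 0x10200080607050403) (nat_lit 1031))
))))) (.node (nat_lit 0x20001040305070608) (.node (nat_lit 0x20001030405080607) (.node (nat_lit 0x10200080706050304) (.node (nat_lit 0x10200080706040503) (.leaf (nat_lit 0x10200080706030405) (nat_lit 776))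
 (.leaf (nat_lit 0x10200080706040503) (nat_lit 520))
) (.node (nat_lit 0x20001030405060708) (.leaf (nat_lit 0x10200080706050304) (nat_lit 776))
 (.node (nat_lit 0x20001030405070806) (.leaf (nat_lit 0x20001030405060708) (nat_lit 1545))
 (.leaf (nat_lit 0x20001030405070806) (nat_lit 1289))
))) (.node (nat_lit 0x20001030504070608) (.node (nat_lit 0x20001030504060807) (.leaf (nat_lit 0x20001030405080607) (nat_lit 1545))
 (.leaf (nat_lit 0x20001030504060807) (nat_lit 1286))
) (.node (nat_lit 0x20001030504080706) (.leaf (nat_lit 0x20001030504070608) (nat_lit 1286))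
 (.node (nat_lit 0x20001040305060807) (.leaf (nat_lit 0x20001030504080706) (nat_lit 1030))
 (.leaf (nat_lit 0x20001040305060807) (nat_lit 1286))
)))) (.node (nat_lit 0x20001050304060708) (.node (nat_lit 0x20001040503060708) (.node (nat_lit 0x20001040305080706) (.leaf (nat_lit 0x20001040305070608) (nat_lit 1286))
 (.leaf (nat_lit 0x20001040305080706) (nat_lit 1030))
) (.node (nat_lit 0x20001040503070806) (.leaf (nat_lit 0x20001040503060708) (nat_lit 1289))
 (.node (nat_lit 0x20001040503080607) (.leaf (nat_lit 0x20001040503070806) (nat_lit 1033))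
 (.leaf (nat_lit 0x20001040503080607) (nat_lit 1289))
))) (.node (nat_lit 0x20001050403060807) (.node (nat_lit 0x20001050304070806) (.leaf (nat_lit 0x20001050304060708) (nat_lit 1545))
 (.node (nat_lit 0x20001050304080607) (.leaf (nat_lit 0x20001050304070806) (nat_lit 1289))
 (.leaf (nat_lit 0x20001050304080607) (nat_lit 1545))
)) (.node (nat_lit 0x20001050403070608) (.leaf (nat_lit 0x20001050403060807) (nat_lit 1030))
 (.node (nat_lit 0x20001050403080706) (.leaf (nat_lit 0x20001050403070608) (nat_lit 1030))
 (.leaf (nat_lit 0x20001050403080706) (nat_lit 774))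
)))))))) (.node (nat_lit 0x30405070806000102) (.node (nat_lit 0x20100060807040305) (.node (nat_lit 0x20100030405080706) (.node (nat_lit 0x20001070806040305) (.node (nat_lit 0x20001060807050304) (.node (nat_lit 0x20001060708050403) (.node (nat_lit 0x20001060708040305) (.leaf (nat_lit 0x20001060708030504) (nat_lit 1543))
 (.leaf (nat_lit 0x20001060708040305) (nat_lit 1543))
) (.node (nat_lit 0x20001060807030405) (.leaf (nat_lit 0x20001060708050403) (nat_lit 1287))
 (.node (nat_lit 0x20001060807040503) (.leaf (nat_lit 0x20001060807030405) (nat_lit 1288))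
 (.leaf (nat_lit 0x20001060807040503) (nat_lit 1032))
))) (.node (nat_lit 0x20001070608040503) (.node (nat_lit 0x20001070608030405) (.leaf (nat_lit 0x20001060807050304) (nat_lit 1288))
 (.leaf (nat_lit 0x20001070608030405) (nat_lit 1288))
) (.node (nat_lit 0x20001070608050304) (.leaf (nat_lit 0x20001070608040503) (nat_lit 1032))
 (.node (nat_lit 0x20001070806030504) (.leaf (nat_lit 0x20001070608050304) (nat_lit 1288))
 (.leaf (nat_lit 0x20001070806030504) (nat_lit 1287))
)))) (.node (nat_lit 0x20001080706030405) (.node (nat_lit 0x20001080607030504) (.node (nat_lit 0x20001070806050403) (.leaf (nat_lit 0x20001070806040305) (nat_lit 1287))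
 (.leaf (nat_lit 0x20001070806050403) (nat_lit 1031))
) (.node (nat_lit 0x20001080607040305) (.leaf (nat_lit 0x20001080607030504) (nat_lit 1543))
 (.node (nat_lit 0x20001080607050403) (.leaf (nat_lit 0x20001080607040305) (nat_lit 1543))
 (.leaf (nat_lit 0x20001080607050403) (nat_lit 1287))
))) (.node (nat_lit 0x20001080706050304) (.node (nat_lit 0x20001080706040503) (.leaf (nat_lit 0x20001080706030405) (nat_lit 1032))
 (.leaf (nat_lit 0x20001080706040503) (nat_lit 776))
) (.node (nat_lit 0x20100030405060807) (.leaf (nat_lit 0x20001080706050304) (nat_lit 1032))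
 (.node (nat_lit 0x20100030405070608) (.leaf (nat_lit 0x20100030405060807) (nat_lit 1287))
 (.leaf (nat_lit 0x20100030405070608) (nat_lit 1287))
))))) (.node (nat_lit 0x20100050304060807) (.node (nat_lit 0x20100040305070806) (.node (nat_lit 0x20100030504070806) (.node (nat_lit 0x20100030504060708) (.leaf (nat_lit 0x20100030405080706) (nat_lit 1031))
 (.leaf (nat_lit 0x20100030504060708) (nat_lit 1033))
) (.node (nat_lit 0x20100030504080607) (.leaf (nat_lit 0x20100030504070806) (nat_lit 777))
 (.node (nat_lit 0x20100040305060708) (.leaf (nat_lit 0x20100030504080607) (nat_lit 1033))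
 (.leaf (nat_lit 0x20100040305060708) (nat_lit 1033))
))) (.node (nat_lit 0x20100040503060807) (.node (nat_lit 0x20100040305080607) (.leaf (nat_lit 0x20100040305070806) (nat_lit 777))
 (.leaf (nat_lit 0x20100040305080607) (nat_lit 1033))
) (.node (nat_lit 0x20100040503070608) (.leaf (nat_lit 0x20100040503060807) (nat_lit 1031))
 (.node (nat_lit 0x20100040503080706) (.leaf (nat_lit 0x20100040503070608) (nat_lit 1031))
 (.leaf (nat_lit 0x20100040503080706) (nat_lit 775))
)))) (.node (nat_lit 0x20100050403080607) (.node (nat_lit 0x20100050304080706) (.node (nat_lit 0x20100050304070608) (.leaf (nat_lit 0x20100050304060807) (nat_lit 1287))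
 (.leaf (nat_lit 0x20100050304070608) (nat_lit 1287))
) (.node (nat_lit 0x20100050403060708) (.leaf (nat_lit 0x20100050304080706) (nat_lit 1031))
 (.node (nat_lit 0x20100050403070806) (.leaf (nat_lit 0x20100050403060708) (nat_lit 777))
 (.leaf (nat_lit 0x20100050403070806) (nat_lit 521))
))) (.node (nat_lit 0x20100060708040503) (.node (nat_lit 0x20100060708030405) (.leaf (nat_lit 0x20100050403080607) (nat_lit 777))
 (.leaf (nat_lit 0x20100060708030405) (nat_lit 1030))
) (.node (nat_lit 0x20100060708050304) (.leaf (nat_lit 0x20100060708040503) (nat_lit 774))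
 (.node (nat_lit 0x20100060807030504) (.leaf (nat_lit 0x20100060708050304) (nat_lit 1030))
 (.leaf (nat_lit 0x20100060807030504) (nat_lit 774))
)))))) (.node (nat_lit 0x30405010002060708) (.node (nat_lit 0x20100080607050304) (.node (nat_lit 0x20100070806030405) (.node (nat_lit 0x20100070608030504) (.node (nat_lit 0x20100060807050403) (.leaf (nat_lit 0x20100060807040305) (nat_lit 774))
 (.leaf (nat_lit 0x20100060807050403) (nat_lit 518))
) (.node (nat_lit 0x20100070608040305) (.leaf (nat_lit 0x20100070608030504) (nat_lit 774))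
 (.node (nat_lit 0x20100070608050403) (.leaf (nat_lit 0x20100070608040305) (nat_lit 774))
 (.leaf (nat_lit 0x20100070608050403) (nat_lit 518))
))) (.node (nat_lit 0x20100070806050304) (.node (nat_lit 0x20100070806040503) (.leaf (nat_lit 0x20100070806030405) (nat_lit 774))
 (.leaf (nat_lit 0x20100070806040503) (nat_lit 518))
) (.node (nat_lit 0x20100080607030405) (.leaf (nat_lit 0x20100070806050304) (nat_lit 774))
 (.node (nat_lit 0x20100080607040503) (.leaf (nat_lit 0x20100080607030405) (nat_lit 1030))
 (.leaf (nat_lit 0x20100080607040503) (nat_lit 774))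
)))) (.node (nat_lit 0x30405000102070608) (.node (nat_lit 0x20100080706040305) (.node (nat_lit 0x20100080706030504) (.leaf (nat_lit 0x20100080607050304) (nat_lit 1030))
 (.leaf (nat_lit 0x20100080706030504) (nat_lit 518))
) (.node (nat_lit 0x20100080706050403) (.leaf (nat_lit 0x20100080706040305) (nat_lit 518))
 (.node (nat_lit 0x30405000102060807) (.leaf (nat_lit 0x20100080706050403) (nat_lit 262))
 (.leaf (nat_lit 0x30405000102060807) (nat_lit 1288))
))) (.node (nat_lit 0x30405000201060708) (.node (nat_lit 0x30405000102080706) (.leaf (nat_lit 0x30405000102070608) (nat_lit 1288))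
 (.leaf (nat_lit 0x30405000102080706) (nat_lit 1032))
) (.node (nat_lit 0x30405000201070806) (.leaf (nat_lit 0x30405000201060708) (nat_lit 1542))
 (.node (nat_lit 0x30405000201080607) (.leaf (nat_lit 0x30405000201070806) (nat_lit 1286))
 (.leaf (nat_lit 0x30405000201080607) (nat_lit 1542))
))))) (.node (nat_lit 0x30405020100070806) (.node (nat_lit 0x30405010200080706) (.node (nat_lit 0x30405010002080607) (.node (nat_lit 0x30405010002070806) (.leaf (nat_lit 0x30405010002060708) (nat_lit 1542))
 (.leaf (nat_lit 0x30405010002070806) (nat_lit 1286))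
) (.node (nat_lit 0x30405010200060807) (.leaf (nat_lit 0x30405010002080607) (nat_lit 1542))
 (.node (nat_lit 0x30405010200070608) (.leaf (nat_lit 0x30405010200060807) (nat_lit 1032))
 (.leaf (nat_lit 0x30405010200070608) (nat_lit 1032))
))) (.node (nat_lit 0x30405020001070608) (.node (nat_lit 0x30405020001060807) (.leaf (nat_lit 0x30405010200080706) (nat_lit 776))
 (.leaf (nat_lit 0x30405020001060807) (nat_lit 1288))
) (.node (nat_lit 0x30405020001080706) (.leaf (nat_lit 0x30405020001070608) (nat_lit 1288))
 (.node (nat_lit 0x30405020100060708) (.leaf (nat_lit 0x30405020001080706) (nat_lit 1032))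
 (.leaf (nat_lit 0x30405020100060708) (nat_lit 1286))
)))) (.node (nat_lit 0x30405060807000201) (.node (nat_lit 0x30405060708000102) (.node (nat_lit 0x30405020100080607) (.leaf (nat_lit 0x30405020100070806) (nat_lit 1030))
 (.leaf (nat_lit 0x30405020100080607) (nat_lit 1286))
) (.node (nat_lit 0x30405060708010200) (.leaf (nat_lit 0x30405060708000102) (nat_lit 1545))
 (.node (nat_lit 0x30405060708020001) (.leaf (nat_lit 0x30405060708010200) (nat_lit 1289))
 (.leaf (nat_lit 0x30405060708020001) (nat_lit 1545))
))) (.node (nat_lit 0x30405070608000201) (.node (nat_lit 0x30405060807010002) (.leaf (nat_lit 0x30405060807000201) (nat_lit 1287))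
 (.node (nat_lit 0x30405060807020100) (.leaf (nat_lit 0x30405060807010002) (nat_lit 1287))
 (.leaf (nat_lit 0x30405060807020100) (nat_lit 1031))
)) (.node (nat_lit 0x30405070608010002) (.leaf (nat_lit 0x30405070608000201) (nat_lit 1287))
 (.node (nat_lit 0x30405070608020100) (.leaf (nat_lit 0x30405070608010002) (nat_lit 1287))
 (.leaf (nat_lit 0x30405070608020100) (nat_lit 1031))
))))))) (.node (nat_lit 0x30504080607010002) (.node (nat_lit 0x30504010200080607) (.node (nat_lit 0x30504000102070806) (.node (nat_lit 0x30405080607020001) (.node (nat_lit 0x30405070806020001) (.node (nat_lit 0x30405070806010200) (.leaf (nat_lit 0x30405070806000102) (nat_lit 1289))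
 (.leaf (nat_lit 0x30405070806010200) (nat_lit 1033))
) (.node (nat_lit 0x30405080607000102) (.leaf (nat_lit 0x30405070806020001) (nat_lit 1289))
 (.node (nat_lit 0x30405080607010200) (.leaf (nat_lit 0x30405080607000102) (nat_lit 1545))
 (.leaf (nat_lit 0x30405080607010200) (nat_lit 1289))
))) (.node (nat_lit 0x30405080706010002) (.node (nat_lit 0x30405080706000201) (.leaf (nat_lit 0x30405080607020001) (nat_lit 1545))
 (.leaf (nat_lit 0x30405080706000201) (nat_lit 1031))
) (.node (nat_lit 0x30405080706020100) (.leaf (nat_lit 0x30405080706010002) (nat_lit 1031))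
 (.node (nat_lit 0x30504000102060708) (.leaf (nat_lit 0x30405080706020100) (nat_lit 775))
 (.leaf (nat_lit 0x30504000102060708) (nat_lit 1287))
)))) (.node (nat_lit 0x30504010002060807) (.node (nat_lit 0x30504000201060807) (.node (nat_lit 0x30504000102080607) (.leaf (nat_lit 0x30504000102070806) (nat_lit 1031))
 (.leaf (nat_lit 0x30504000102080607) (nat_lit 1287))
) (.node (nat_lit 0x30504000201070608) (.leaf (nat_lit 0x30504000201060807) (nat_lit 1031))
 (.node (nat_lit 0x30504000201080706) (.leaf (nat_lit 0x30504000201070608) (nat_lit 1031))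
 (.leaf (nat_lit 0x30504000201080706) (nat_lit 775))
))) (.node (nat_lit 0x30504010002080706) (.node (nat_lit 0x30504010002070608) (.leaf (nat_lit 0x30504010002060807) (nat_lit 1031))
 (.leaf (nat_lit 0x30504010002070608) (nat_lit 1031))
) (.node (nat_lit 0x30504010200060708) (.leaf (nat_lit 0x30504010002080706) (nat_lit 775))
 (.node (nat_lit 0x30504010200070806) (.leaf (nat_lit 0x30504010200060708) (nat_lit 1031))
 (.leaf (nat_lit 0x30504010200070806) (nat_lit 775))
))))) (.node (nat_lit 0x30504060807000102) (.node (nat_lit 0x30504020100070608) (.node (nat_lit 0x30504020001070806) (.node (nat_lit 0x30504020001060708) (.leaf (nat_lit 0x30504010200080607) (nat_lit 1031))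
 (.leaf (nat_lit 0x30504020001060708) (nat_lit 1287))
) (.node (nat_lit 0x30504020001080607) (.leaf (nat_lit 0x30504020001070806) (nat_lit 1031))
 (.node (nat_lit 0x30504020100060807) (.leaf (nat_lit 0x30504020001080607) (nat_lit 1287))
 (.leaf (nat_lit 0x30504020100060807) (nat_lit 775))
))) (.node (nat_lit 0x30504060708000201) (.node (nat_lit 0x30504020100080706) (.leaf (nat_lit 0x30504020100070608) (nat_lit 775))
 (.leaf (nat_lit 0x30504020100080706) (nat_lit 519))
) (.node (nat_lit 0x30504060708010002) (.leaf (nat_lit 0x30504060708000201) (nat_lit 1289))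
 (.node (nat_lit 0x30504060708020100) (.leaf (nat_lit 0x30504060708010002) (nat_lit 1289))
 (.leaf (nat_lit 0x30504060708020100) (nat_lit 1033))
)))) (.node (nat_lit 0x30504070608020001) (.node (nat_lit 0x30504060807020001) (.node (nat_lit 0x30504060807010200) (.leaf (nat_lit 0x30504060807000102) (nat_lit 1542))
 (.leaf (nat_lit 0x30504060807010200) (nat_lit 1286))
) (.node (nat_lit 0x30504070608000102) (.leaf (nat_lit 0x30504060807020001) (nat_lit 1542))
 (.node (nat_lit 0x30504070608010200) (.leaf (nat_lit 0x30504070608000102) (nat_lit 1542))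
 (.leaf (nat_lit 0x30504070608010200) (nat_lit 1286))
))) (.node (nat_lit 0x30504070806010002) (.node (nat_lit 0x30504070806000201) (.leaf (nat_lit 0x30504070608020001) (nat_lit 1542))
 (.leaf (nat_lit 0x30504070806000201) (nat_lit 1033))
) (.node (nat_lit 0x30504070806020100) (.leaf (nat_lit 0x30504070806010002) (nat_lit 1033))
 (.node (nat_lit 0x30504080607000201) (.leaf (nat_lit 0x30504070806020100) (nat_lit 777))
 (.leaf (nat_lit 0x30504080607000201) (nat_lit 1289))
)))))) (.node (nat_lit 0x40305020100060807) (.node (nat_lit 0x40305000201080706) (.node (nat_lit 0x40305000102060708) (.node (nat_lit 0x30504080706000102) (.node (nat_lit 0x30504080607020100) (.leaf (nat_lit 0x30504080607010002) (nat_lit 1289))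
 (.leaf (nat_lit 0x30504080607020100) (nat_lit 1033))
) (.node (nat_lit 0x30504080706010200) (.leaf (nat_lit 0x30504080706000102) (nat_lit 1286))
 (.node (nat_lit 0x30504080706020001) (.leaf (nat_lit 0x30504080706010200) (nat_lit 1030))
 (.leaf (nat_lit 0x30504080706020001) (nat_lit 1286))
))) (.node (nat_lit 0x40305000102080607) (.node (nat_lit 0x40305000102070806) (.leaf (nat_lit 0x40305000102060708) (nat_lit 1287))
 (.leaf (nat_lit 0x40305000102070806) (nat_lit 1031))
) (.node (nat_lit 0x40305000201060807) (.leaf (nat_lit 0x40305000102080607) (nat_lit 1287))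
 (.node (nat_lit 0x40305000201070608) (.leaf (nat_lit 0x40305000201060807) (nat_lit 1031))
 (.leaf (nat_lit 0x40305000201070608) (nat_lit 1031))
)))) (.node (nat_lit 0x40305010200070806) (.node (nat_lit 0x40305010002070608) (.node (nat_lit 0x40305010002060807) (.leaf (nat_lit 0x40305000201080706) (nat_lit 775))
 (.leaf (nat_lit 0x40305010002060807) (nat_lit 1031))
) (.node (nat_lit 0x40305010002080706) (.leaf (nat_lit 0x40305010002070608) (nat_lit 1031))
 (.node (nat_lit 0x40305010200060708) (.leaf (nat_lit 0x40305010002080706) (nat_lit 775))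
 (.leaf (nat_lit 0x40305010200060708) (nat_lit 1031))
))) (.node (nat_lit 0x40305020001060708) (.node (nat_lit 0x40305010200080607) (.leaf (nat_lit 0x40305010200070806) (nat_lit 775))
 (.leaf (nat_lit 0x40305010200080607) (nat_lit 1031))
) (.node (nat_lit 0x40305020001070806) (.leaf (nat_lit 0x40305020001060708) (nat_lit 1287))
 (.node (nat_lit 0x40305020001080607) (.leaf (nat_lit 0x40305020001070806) (nat_lit 1031))
 (.leaf (nat_lit 0x40305020001080607) (nat_lit 1287))
))))) (.node (nat_lit 0x40305070608010200) (.node (nat_lit 0x40305060708020100) (.node (nat_lit 0x40305020100080706) (.node (nat_lit 0x40305020100070608) (.leaf (nat_lit 0x40305020100060807) (nat_lit 775))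
 (.leaf (nat_lit 0x40305020100070608) (nat_lit 775))
) (.node (nat_lit 0x40305060708000201) (.leaf (nat_lit 0x40305020100080706) (nat_lit 519))
 (.node (nat_lit 0x40305060708010002) (.leaf (nat_lit 0x40305060708000201) (nat_lit 1289))
 (.leaf (nat_lit 0x40305060708010002) (nat_lit 1289))
))) (.node (nat_lit 0x40305060807010200) (.node (nat_lit 0x40305060807000102) (.leaf (nat_lit 0x40305060708020100) (nat_lit 1033))
 (.leaf (nat_lit 0x40305060807000102) (nat_lit 1542))
) (.node (nat_lit 0x40305060807020001) (.leaf (nat_lit 0x40305060807010200) (nat_lit 1286))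
 (.node (nat_lit 0x40305070608000102) (.leaf (nat_lit 0x40305060807020001) (nat_lit 1542))
 (.leaf (nat_lit 0x40305070608000102) (nat_lit 1542))
)))) (.node (nat_lit 0x40305080607000201) (.node (nat_lit 0x40305070806000201) (.node (nat_lit 0x40305070608020001) (.leaf (nat_lit 0x40305070608010200) (nat_lit 1286))
 (.leaf (nat_lit 0x40305070608020001) (nat_lit 1542))
) (.node (nat_lit 0x40305070806010002) (.leaf (nat_lit 0x40305070806000201) (nat_lit 1033))
 (.node (nat_lit 0x40305070806020100) (.leaf (nat_lit 0x40305070806010002) (nat_lit 1033))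
 (.leaf (nat_lit 0x40305070806020100) (nat_lit 777))
))) (.node (nat_lit 0x40305080706000102) (.node (nat_lit 0x40305080607010002) (.leaf (nat_lit 0x40305080607000201) (nat_lit 1289))
 (.node (nat_lit 0x40305080607020100) (.leaf (nat_lit 0x40305080607010002) (nat_lit 1289))
 (.leaf (nat_lit 0x40305080607020100) (nat_lit 1033))
)) (.node (nat_lit 0x40305080706010200) (.leaf (nat_lit 0x40305080706000102) (nat_lit 1286))
 (.node (nat_lit 0x40305080706020001) (.leaf (nat_lit 0x40305080706010200) (nat_lit 1030))
 (.leaf (nat_lit 0x40305080706020001) (nat_lit 1286))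
))))))))) (.node (nat_lit 0x60807030405000102) (.node (nat_lit 0x50403010200060708) (.node (nat_lit 0x50304000201070806) (.node (nat_lit 0x40503060708020001) (.node (nat_lit 0x40503010200070608) (.node (nat_lit 0x40503000201080607) (.node (nat_lit 0x40503000102080706) (.node (nat_lit 0x40503000102070608) (.leaf (nat_lit 0x40503000102060807) (nat_lit 1032))
 (.leaf (nat_lit 0x40503000102070608) (nat_lit 1032))
) (.node (nat_lit 0x40503000201060708) (.leaf (nat_lit 0x40503000102080706) (nat_lit 776))
 (.node (nat_lit 0x40503000201070806) (.leaf (nat_lit 0x40503000201060708) (nat_lit 1286))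
 (.leaf (nat_lit 0x40503000201070806) (nat_lit 1030))
))) (.node (nat_lit 0x40503010002070806) (.node (nat_lit 0x40503010002060708) (.leaf (nat_lit 0x40503000201080607) (nat_lit 1286))
 (.leaf (nat_lit 0x40503010002060708) (nat_lit 1286))
) (.node (nat_lit 0x40503010002080607) (.leaf (nat_lit 0x40503010002070806) (nat_lit 1030))
 (.node (nat_lit 0x40503010200060807) (.leaf (nat_lit 0x40503010002080607) (nat_lit 1286))
 (.leaf (nat_lit 0x40503010200060807) (nat_lit 776))
)))) (.node (nat_lit 0x40503020100060708) (.node (nat_lit 0x40503020001060807) (.node (nat_lit 0x40503010200080706) (.leaf (nat_lit 0x40503010200070608) (nat_lit 776))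
 (.leaf (nat_lit 0x40503010200080706) (nat_lit 520))
) (.node (nat_lit 0x40503020001070608) (.leaf (nat_lit 0x40503020001060807) (nat_lit 1032))
 (.node (nat_lit 0x40503020001080706) (.leaf (nat_lit 0x40503020001070608) (nat_lit 1032))
 (.leaf (nat_lit 0x40503020001080706) (nat_lit 776))
))) (.node (nat_lit 0x40503020100080607) (.node (nat_lit 0x40503020100070806) (.leaf (nat_lit 0x40503020100060708) (nat_lit 1030))
 (.leaf (nat_lit 0x40503020100070806) (nat_lit 774))
) (.node (nat_lit 0x40503060708000102) (.leaf (nat_lit 0x40503020100080607) (nat_lit 1030))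
 (.node (nat_lit 0x40503060708010200) (.leaf (nat_lit 0x40503060708000102) (nat_lit 1289))
 (.leaf (nat_lit 0x40503060708010200) (nat_lit 1033))
))))) (.node (nat_lit 0x40503080607000102) (.node (nat_lit 0x40503070608010002) (.node (nat_lit 0x40503060807010002) (.node (nat_lit 0x40503060807000201) (.leaf (nat_lit 0x40503060708020001) (nat_lit 1289))
 (.leaf (nat_lit 0x40503060807000201) (nat_lit 1031))
) (.node (nat_lit 0x40503060807020100) (.leaf (nat_lit 0x40503060807010002) (nat_lit 1031))
 (.node (nat_lit 0x40503070608000201) (.leaf (nat_lit 0x40503060807020100) (nat_lit 775))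
 (.leaf (nat_lit 0x40503070608000201) (nat_lit 1031))
))) (.node (nat_lit 0x40503070806000102) (.node (nat_lit 0x40503070608020100) (.leaf (nat_lit 0x40503070608010002) (nat_lit 1031))
 (.leaf (nat_lit 0x40503070608020100) (nat_lit 775))
) (.node (nat_lit 0x40503070806010200) (.leaf (nat_lit 0x40503070806000102) (nat_lit 1033))
 (.node (nat_lit 0x40503070806020001) (.leaf (nat_lit 0x40503070806010200) (nat_lit 777))
 (.leaf (nat_lit 0x40503070806020001) (nat_lit 1033))
)))) (.node (nat_lit 0x40503080706020100) (.node (nat_lit 0x40503080607020001) (.node (nat_lit 0x40503080607010200) (.leaf (nat_lit 0x40503080607000102) (nat_lit 1289))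
 (.leaf (nat_lit 0x40503080607010200) (nat_lit 1033))
) (.node (nat_lit 0x40503080706000201) (.leaf (nat_lit 0x40503080607020001) (nat_lit 1289))
 (.node (nat_lit 0x40503080706010002) (.leaf (nat_lit 0x40503080706000201) (nat_lit 775))
 (.leaf (nat_lit 0x40503080706010002) (nat_lit 775))
))) (.node (nat_lit 0x50304000102070608) (.node (nat_lit 0x50304000102060807) (.leaf (nat_lit 0x40503080706020100) (nat_lit 519))
 (.leaf (nat_lit 0x50304000102060807) (nat_lit 1288))
) (.node (nat_lit 0x50304000102080706) (.leaf (nat_lit 0x50304000102070608) (nat_lit 1288))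
 (.node (nat_lit 0x50304000201060708) (.leaf (nat_lit 0x50304000102080706) (nat_lit 1032))
 (.leaf (nat_lit 0x50304000201060708) (nat_lit 1542))
)))))) (.node (nat_lit 0x50304070608000201) (.node (nat_lit 0x50304020001080706) (.node (nat_lit 0x50304010200060807) (.node (nat_lit 0x50304010002060708) (.node (nat_lit 0x50304000201080607) (.leaf (nat_lit 0x50304000201070806) (nat_lit 1286))
 (.leaf (nat_lit 0x50304000201080607) (nat_lit 1542))
) (.node (nat_lit 0x50304010002070806) (.leaf (nat_lit 0x50304010002060708) (nat_lit 1542))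
 (.node (nat_lit 0x50304010002080607) (.leaf (nat_lit 0x50304010002070806) (nat_lit 1286))
 (.leaf (nat_lit 0x50304010002080607) (nat_lit 1542))
))) (.node (nat_lit 0x50304010200080706) (.node (nat_lit 0x50304010200070608) (.leaf (nat_lit 0x50304010200060807) (nat_lit 1032))
 (.leaf (nat_lit 0x50304010200070608) (nat_lit 1032))
) (.node (nat_lit 0x50304020001060807) (.leaf (nat_lit 0x50304010200080706) (nat_lit 776))
 (.node (nat_lit 0x50304020001070608) (.leaf (nat_lit 0x50304020001060807) (nat_lit 1288))
 (.leaf (nat_lit 0x50304020001070608) (nat_lit 1288))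
)))) (.node (nat_lit 0x50304060708010200) (.node (nat_lit 0x50304020100070806) (.node (nat_lit 0x50304020100060708) (.leaf (nat_lit 0x50304020001080706) (nat_lit 1032))
 (.leaf (nat_lit 0x50304020100060708) (nat_lit 1286))
) (.node (nat_lit 0x50304020100080607) (.leaf (nat_lit 0x50304020100070806) (nat_lit 1030))
 (.node (nat_lit 0x50304060708000102) (.leaf (nat_lit 0x50304020100080607) (nat_lit 1286))
 (.leaf (nat_lit 0x50304060708000102) (nat_lit 1545))
))) (.node (nat_lit 0x50304060807000201) (.node (nat_lit 0x50304060708020001) (.leaf (nat_lit 0x50304060708010200) (nat_lit 1289))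
 (.leaf (nat_lit 0x50304060708020001) (nat_lit 1545))
) (.node (nat_lit 0x50304060807010002) (.leaf (nat_lit 0x50304060807000201) (nat_lit 1287))
 (.node (nat_lit 0x50304060807020100) (.leaf (nat_lit 0x50304060807010002) (nat_lit 1287))
 (.leaf (nat_lit 0x50304060807020100) (nat_lit 1031))
))))) (.node (nat_lit 0x50304080706010002) (.node (nat_lit 0x50304070806020001) (.node (nat_lit 0x50304070608020100) (.node (nat_lit 0x50304070608010002) (.leaf (nat_lit 0x50304070608000201) (nat_lit 1287))
 (.leaf (nat_lit 0x50304070608010002) (nat_lit 1287))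
) (.node (nat_lit 0x50304070806000102) (.leaf (nat_lit 0x50304070608020100) (nat_lit 1031))
 (.node (nat_lit 0x50304070806010200) (.leaf (nat_lit 0x50304070806000102) (nat_lit 1289))
 (.leaf (nat_lit 0x50304070806010200) (nat_lit 1033))
))) (.node (nat_lit 0x50304080607010200) (.node (nat_lit 0x50304080607000102) (.leaf (nat_lit 0x50304070806020001) (nat_lit 1289))
 (.leaf (nat_lit 0x50304080607000102) (nat_lit 1545))
) (.node (nat_lit 0x50304080607020001) (.leaf (nat_lit 0x50304080607010200) (nat_lit 1289))
 (.node (nat_lit 0x50304080706000201) (.leaf (nat_lit 0x50304080607020001) (nat_lit 1545))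
 (.leaf (nat_lit 0x50304080706000201) (nat_lit 1031))
)))) (.node (nat_lit 0x50403000201060807) (.node (nat_lit 0x50403000102060708) (.node (nat_lit 0x50304080706020100) (.leaf (nat_lit 0x50304080706010002) (nat_lit 1031))
 (.leaf (nat_lit 0x50304080706020100) (nat_lit 775))
) (.node (nat_lit 0x50403000102070806) (.leaf (nat_lit 0x50403000102060708) (nat_lit 1031))
 (.node (nat_lit 0x50403000102080607) (.leaf (nat_lit 0x50403000102070806) (nat_lit 775))
 (.leaf (nat_lit 0x50403000102080607) (nat_lit 1031))
))) (.node (nat_lit 0x50403010002060807) (.node (nat_lit 0x50403000201070608) (.leaf (nat_lit 0x50403000201060807) (nat_lit 775))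
 (.node (nat_lit 0x50403000201080706) (.leaf (nat_lit 0x50403000201070608) (nat_lit 775))
 (.leaf (nat_lit 0x50403000201080706) (nat_lit 519))
)) (.node (nat_lit 0x50403010002070608) (.leaf (nat_lit 0x50403010002060807) (nat_lit 775))
 (.node (nat_lit 0x50403010002080706) (.leaf (nat_lit 0x50403010002070608) (nat_lit 775))
 (.leaf (nat_lit 0x50403010002080706) (nat_lit 519))
))))))) (.node (nat_lit 0x60708020001040503) (.node (nat_lit 0x50403070806020100) (.node (nat_lit 0x50403060708010002) (.node (nat_lit 0x50403020001080607) (.node (nat_lit 0x50403010200080607) (.node (nat_lit 0x50403010200070806) (.leaf (nat_lit 0x50403010200060708) (nat_lit 775))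
 (.leaf (nat_lit 0x50403010200070806) (nat_lit 519))
) (.node (nat_lit 0x50403020001060708) (.leaf (nat_lit 0x50403010200080607) (nat_lit 775))
 (.node (nat_lit 0x50403020001070806) (.leaf (nat_lit 0x50403020001060708) (nat_lit 1031))
 (.leaf (nat_lit 0x50403020001070806) (nat_lit 775))
))) (.node (nat_lit 0x50403020100070608) (.node (nat_lit 0x50403020100060807) (.leaf (nat_lit 0x50403020001080607) (nat_lit 1031))
 (.leaf (nat_lit 0x50403020100060807) (nat_lit 519))
) (.node (nat_lit 0x50403020100080706) (.leaf (nat_lit 0x50403020100070608) (nat_lit 519))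
 (.node (nat_lit 0x50403060708000201) (.leaf (nat_lit 0x50403020100080706) (nat_lit 263))
 (.leaf (nat_lit 0x50403060708000201) (nat_lit 1033))
)))) (.node (nat_lit 0x50403070608000102) (.node (nat_lit 0x50403060807000102) (.node (nat_lit 0x50403060708020100) (.leaf (nat_lit 0x50403060708010002) (nat_lit 1033))
 (.leaf (nat_lit 0x50403060708020100) (nat_lit 777))
) (.node (nat_lit 0x50403060807010200) (.leaf (nat_lit 0x50403060807000102) (nat_lit 1286))
 (.node (nat_lit 0x50403060807020001) (.leaf (nat_lit 0x50403060807010200) (nat_lit 1030))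
 (.leaf (nat_lit 0x50403060807020001) (nat_lit 1286))
))) (.node (nat_lit 0x50403070608020001) (.node (nat_lit 0x50403070608010200) (.leaf (nat_lit 0x50403070608000102) (nat_lit 1286))
 (.leaf (nat_lit 0x50403070608010200) (nat_lit 1030))
) (.node (nat_lit 0x50403070806000201) (.leaf (nat_lit 0x50403070608020001) (nat_lit 1286))
 (.node (nat_lit 0x50403070806010002) (.leaf (nat_lit 0x50403070806000201) (nat_lit 777))
 (.leaf (nat_lit 0x50403070806010002) (nat_lit 777))
))))) (.node (nat_lit 0x60708000201030504) (.node (nat_lit 0x50403080706010200) (.node (nat_lit 0x50403080607010002) (.node (nat_lit 0x50403080607000201) (.leaf (nat_lit 0x50403070806020100) (nat_lit 521))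
 (.leaf (nat_lit 0x50403080607000201) (nat_lit 1033))
) (.node (nat_lit 0x50403080607020100) (.leaf (nat_lit 0x50403080607010002) (nat_lit 1033))
 (.node (nat_lit 0x50403080706000102) (.leaf (nat_lit 0x50403080607020100) (nat_lit 777))
 (.leaf (nat_lit 0x50403080706000102) (nat_lit 1030))
))) (.node (nat_lit 0x60708000102030405) (.node (nat_lit 0x50403080706020001) (.leaf (nat_lit 0x50403080706010200) (nat_lit 774))
 (.leaf (nat_lit 0x50403080706020001) (nat_lit 1030))
) (.node (nat_lit 0x60708000102040503) (.leaf (nat_lit 0x60708000102030405) (nat_lit 1289))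
 (.node (nat_lit 0x60708000102050304) (.leaf (nat_lit 0x60708000102040503) (nat_lit 1033))
 (.leaf (nat_lit 0x60708000102050304) (nat_lit 1289))
)))) (.node (nat_lit 0x60708010002050403) (.node (nat_lit 0x60708000201050403) (.node (nat_lit 0x60708000201040305) (.leaf (nat_lit 0x60708000201030504) (nat_lit 1033))
 (.leaf (nat_lit 0x60708000201040305) (nat_lit 1033))
) (.node (nat_lit 0x60708010002030504) (.leaf (nat_lit 0x60708000201050403) (nat_lit 777))
 (.node (nat_lit 0x60708010002040305) (.leaf (nat_lit 0x60708010002030504) (nat_lit 1033))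
 (.leaf (nat_lit 0x60708010002040305) (nat_lit 1033))
))) (.node (nat_lit 0x60708010200040503) (.node (nat_lit 0x60708010200030405) (.leaf (nat_lit 0x60708010002050403) (nat_lit 777))
 (.leaf (nat_lit 0x60708010200030405) (nat_lit 1033))
) (.node (nat_lit 0x60708010200050304) (.leaf (nat_lit 0x60708010200040503) (nat_lit 777))
 (.node (nat_lit 0x60708020001030405) (.leaf (nat_lit 0x60708010200050304) (nat_lit 1033))
 (.leaf (nat_lit 0x60708020001030405) (nat_lit 1289))
)))))) (.node (nat_lit 0x60708050403000102) (.node (nat_lit 0x60708030504020001) (.node (nat_lit 0x60708030405000201) (.node (nat_lit 0x60708020100030504) (.node (nat_lit 0x60708020001050304) (.leaf (nat_lit 0x60708020001040503) (nat_lit 1033))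
 (.leaf (nat_lit 0x60708020001050304) (nat_lit 1289))
) (.node (nat_lit 0x60708020100040305) (.leaf (nat_lit 0x60708020100030504) (nat_lit 777))
 (.node (nat_lit 0x60708020100050403) (.leaf (nat_lit 0x60708020100040305) (nat_lit 777))
 (.leaf (nat_lit 0x60708020100050403) (nat_lit 521))
))) (.node (nat_lit 0x60708030405020100) (.node (nat_lit 0x60708030405010002) (.leaf (nat_lit 0x60708030405000201) (nat_lit 1542))
 (.leaf (nat_lit 0x60708030405010002) (nat_lit 1542))
) (.node (nat_lit 0x60708030504000102) (.leaf (nat_lit 0x60708030405020100) (nat_lit 1286))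
 (.node (nat_lit 0x60708030504010200) (.leaf (nat_lit 0x60708030504000102) (nat_lit 1543))
 (.leaf (nat_lit 0x60708030504010200) (nat_lit 1287))
)))) (.node (nat_lit 0x60708040503010002) (.node (nat_lit 0x60708040305010200) (.node (nat_lit 0x60708040305000102) (.leaf (nat_lit 0x60708030504020001) (nat_lit 1543))
 (.leaf (nat_lit 0x60708040305000102) (nat_lit 1543))
) (.node (nat_lit 0x60708040305020001) (.leaf (nat_lit 0x60708040305010200) (nat_lit 1287))
 (.node (nat_lit 0x60708040503000201) (.leaf (nat_lit 0x60708040305020001) (nat_lit 1543))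
 (.leaf (nat_lit 0x60708040503000201) (nat_lit 1286))
))) (.node (nat_lit 0x60708050304000201) (.node (nat_lit 0x60708040503020100) (.leaf (nat_lit 0x60708040503010002) (nat_lit 1286))
 (.leaf (nat_lit 0x60708040503020100) (nat_lit 1030))
) (.node (nat_lit 0x60708050304010002) (.leaf (nat_lit 0x60708050304000201) (nat_lit 1542))
 (.node (nat_lit 0x60708050304020100) (.leaf (nat_lit 0x60708050304010002) (nat_lit 1542))
 (.leaf (nat_lit 0x60708050304020100) (nat_lit 1286))
))))) (.node (nat_lit 0x60807010002040503) (.node (nat_lit 0x60807000102050403) (.node (nat_lit 0x60708050403020001) (.node (nat_lit 0x60708050403010200) (.leaf (nat_lit 0x60708050403000102) (nat_lit 1287))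
 (.leaf (nat_lit 0x60708050403010200) (nat_lit 1031))
) (.node (nat_lit 0x60807000102030504) (.leaf (nat_lit 0x60708050403020001) (nat_lit 1287))
 (.node (nat_lit 0x60807000102040305) (.leaf (nat_lit 0x60807000102030504) (nat_lit 1542))
 (.leaf (nat_lit 0x60807000102040305) (nat_lit 1542))
))) (.node (nat_lit 0x60807000201040503) (.node (nat_lit 0x60807000201030405) (.leaf (nat_lit 0x60807000102050403) (nat_lit 1286))
 (.leaf (nat_lit 0x60807000201030405) (nat_lit 1543))
) (.node (nat_lit 0x60807000201050304) (.leaf (nat_lit 0x60807000201040503) (nat_lit 1287))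
 (.node (nat_lit 0x60807010002030405) (.leaf (nat_lit 0x60807000201050304) (nat_lit 1543))
 (.leaf (nat_lit 0x60807010002030405) (nat_lit 1543))
)))) (.node (nat_lit 0x60807020001030504) (.node (nat_lit 0x60807010200030504) (.node (nat_lit 0x60807010002050304) (.leaf (nat_lit 0x60807010002040503) (nat_lit 1287))
 (.leaf (nat_lit 0x60807010002050304) (nat_lit 1543))
) (.node (nat_lit 0x60807010200040305) (.leaf (nat_lit 0x60807010200030504) (nat_lit 1286))
 (.node (nat_lit 0x60807010200050403) (.leaf (nat_lit 0x60807010200040305) (nat_lit 1286))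
 (.leaf (nat_lit 0x60807010200050403) (nat_lit 1030))
))) (.node (nat_lit 0x60807020100030405) (.node (nat_lit 0x60807020001040305) (.leaf (nat_lit 0x60807020001030504) (nat_lit 1542))
 (.node (nat_lit 0x60807020001050403) (.leaf (nat_lit 0x60807020001040305) (nat_lit 1542))
 (.leaf (nat_lit 0x60807020001050403) (nat_lit 1286))
)) (.node (nat_lit 0x60807020100040503) (.leaf (nat_lit 0x60807020100030405) (nat_lit 1287))
 (.node (nat_lit 0x60807020100050304) (.leaf (nat_lit 0x60807020100040503) (nat_lit 1031))
 (.leaf (nat_lit 0x60807020100050304) (nat_lit 1287))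
)))))))) (.node (nat_lit 0x70806040503000201) (.node (nat_lit 0x70608030504010002) (.node (nat_lit 0x70608000102050403) (.node (nat_lit 0x60807040503010200) (.node (nat_lit 0x60807030504020100) (.node (nat_lit 0x60807030405020001) (.node (nat_lit 0x60807030405010200) (.leaf (nat_lit 0x60807030405000102) (nat_lit 1032))
 (.leaf (nat_lit 0x60807030405010200) (nat_lit 776))
) (.node (nat_lit 0x60807030504000201) (.leaf (nat_lit 0x60807030405020001) (nat_lit 1032))
 (.node (nat_lit 0x60807030504010002) (.leaf (nat_lit 0x60807030504000201) (nat_lit 772))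
 (.leaf (nat_lit 0x60807030504010002) (nat_lit 772))
))) (.node (nat_lit 0x60807040305010002) (.node (nat_lit 0x60807040305000201) (.leaf (nat_lit 0x60807030504020100) (nat_lit 516))
 (.leaf (nat_lit 0x60807040305000201) (nat_lit 772))
) (.node (nat_lit 0x60807040305020100) (.leaf (nat_lit 0x60807040305010002) (nat_lit 772))
 (.node (nat_lit 0x60807040503000102) (.leaf (nat_lit 0x60807040305020100) (nat_lit 516))
 (.leaf (nat_lit 0x60807040503000102) (nat_lit 776))
)))) (.node (nat_lit 0x60807050403000201) (.node (nat_lit 0x60807050304000102) (.node (nat_lit 0x60807040503020001) (.leaf (nat_lit 0x60807040503010200) (nat_lit 520))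
 (.leaf (nat_lit 0x60807040503020001) (nat_lit 776))
) (.node (nat_lit 0x60807050304010200) (.leaf (nat_lit 0x60807050304000102) (nat_lit 1032))
 (.node (nat_lit 0x60807050304020001) (.leaf (nat_lit 0x60807050304010200) (nat_lit 776))
 (.leaf (nat_lit 0x60807050304020001) (nat_lit 1032))
))) (.node (nat_lit 0x60807050403020100) (.node (nat_lit 0x60807050403010002) (.leaf (nat_lit 0x60807050403000201) (nat_lit 516))
 (.leaf (nat_lit 0x60807050403010002) (nat_lit 516))
) (.node (nat_lit 0x70608000102030504) (.leaf (nat_lit 0x60807050403020100) (nat_lit 260))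
 (.node (nat_lit 0x70608000102040305) (.leaf (nat_lit 0x70608000102030504) (nat_lit 1542))
 (.leaf (nat_lit 0x70608000102040305) (nat_lit 1542))
))))) (.node (nat_lit 0x70608020001030504) (.node (nat_lit 0x70608010002040503) (.node (nat_lit 0x70608000201040503) (.node (nat_lit 0x70608000201030405) (.leaf (nat_lit 0x70608000102050403) (nat_lit 1286))
 (.leaf (nat_lit 0x70608000201030405) (nat_lit 1543))
) (.node (nat_lit 0x70608000201050304) (.leaf (nat_lit 0x70608000201040503) (nat_lit 1287))
 (.node (nat_lit 0x70608010002030405) (.leaf (nat_lit 0x70608000201050304) (nat_lit 1543))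
 (.leaf (nat_lit 0x70608010002030405) (nat_lit 1543))
))) (.node (nat_lit 0x70608010200030504) (.node (nat_lit 0x70608010002050304) (.leaf (nat_lit 0x70608010002040503) (nat_lit 1287))
 (.leaf (nat_lit 0x70608010002050304) (nat_lit 1543))
) (.node (nat_lit 0x70608010200040305) (.leaf (nat_lit 0x70608010200030504) (nat_lit 1286))
 (.node (nat_lit 0x70608010200050403) (.leaf (nat_lit 0x70608010200040305) (nat_lit 1286))
 (.leaf (nat_lit 0x70608010200050403) (nat_lit 1030))
)))) (.node (nat_lit 0x70608020100050304) (.node (nat_lit 0x70608020001050403) (.node (nat_lit 0x70608020001040305) (.leaf (nat_lit 0x70608020001030504) (nat_lit 1542))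
 (.leaf (nat_lit 0x70608020001040305) (nat_lit 1542))
) (.node (nat_lit 0x70608020100030405) (.leaf (nat_lit 0x70608020001050403) (nat_lit 1286))
 (.node (nat_lit 0x70608020100040503) (.leaf (nat_lit 0x70608020100030405) (nat_lit 1287))
 (.leaf (nat_lit 0x70608020100040503) (nat_lit 1031))
))) (.node (nat_lit 0x70608030405010200) (.node (nat_lit 0x70608030405000102) (.leaf (nat_lit 0x70608020100050304) (nat_lit 1287))
 (.leaf (nat_lit 0x70608030405000102) (nat_lit 1032))
) (.node (nat_lit 0x70608030405020001) (.leaf (nat_lit 0x70608030405010200) (nat_lit 776))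
 (.node (nat_lit 0x70608030504000201) (.leaf (nat_lit 0x70608030405020001) (nat_lit 1032))
 (.leaf (nat_lit 0x70608030504000201) (nat_lit 773))
)))))) (.node (nat_lit 0x70806010002030504) (.node (nat_lit 0x70608050304020001) (.node (nat_lit 0x70608040503000102) (.node (nat_lit 0x70608040305000201) (.node (nat_lit 0x70608030504020100) (.leaf (nat_lit 0x70608030504010002) (nat_lit 773))
 (.leaf (nat_lit 0x70608030504020100) (nat_lit 517))
) (.node (nat_lit 0x70608040305010002) (.leaf (nat_lit 0x70608040305000201) (nat_lit 773))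
 (.node (nat_lit 0x70608040305020100) (.leaf (nat_lit 0x70608040305010002) (nat_lit 773))
 (.leaf (nat_lit 0x70608040305020100) (nat_lit 517))
))) (.node (nat_lit 0x70608040503020001) (.node (nat_lit 0x70608040503010200) (.leaf (nat_lit 0x70608040503000102) (nat_lit 776))
 (.leaf (nat_lit 0x70608040503010200) (nat_lit 520))
) (.node (nat_lit 0x70608050304000102) (.leaf (nat_lit 0x70608040503020001) (nat_lit 776))
 (.node (nat_lit 0x70608050304010200) (.leaf (nat_lit 0x70608050304000102) (nat_lit 1032))
 (.leaf (nat_lit 0x70608050304010200) (nat_lit 776))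
)))) (.node (nat_lit 0x70806000102040503) (.node (nat_lit 0x70608050403010002) (.node (nat_lit 0x70608050403000201) (.leaf (nat_lit 0x70608050304020001) (nat_lit 1032))
 (.leaf (nat_lit 0x70608050403000201) (nat_lit 517))
) (.node (nat_lit 0x70608050403020100) (.leaf (nat_lit 0x70608050403010002) (nat_lit 517))
 (.node (nat_lit 0x70806000102030405) (.leaf (nat_lit 0x70608050403020100) (nat_lit 261))
 (.leaf (nat_lit 0x70806000102030405) (nat_lit 1033))
))) (.node (nat_lit 0x70806000201030504) (.node (nat_lit 0x70806000102050304) (.leaf (nat_lit 0x70806000102040503) (nat_lit 777))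
 (.leaf (nat_lit 0x70806000102050304) (nat_lit 1033))
) (.node (nat_lit 0x70806000201040305) (.leaf (nat_lit 0x70806000201030504) (nat_lit 777))
 (.node (nat_lit 0x70806000201050403) (.leaf (nat_lit 0x70806000201040305) (nat_lit 777))
 (.leaf (nat_lit 0x70806000201050403) (nat_lit 521))
))))) (.node (nat_lit 0x70806020100040305) (.node (nat_lit 0x70806010200050304) (.node (nat_lit 0x70806010002050403) (.node (nat_lit 0x70806010002040305) (.leaf (nat_lit 0x70806010002030504) (nat_lit 777))
 (.leaf (nat_lit 0x70806010002040305) (nat_lit 777))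
) (.node (nat_lit 0x70806010200030405) (.leaf (nat_lit 0x70806010002050403) (nat_lit 521))
 (.node (nat_lit 0x70806010200040503) (.leaf (nat_lit 0x70806010200030405) (nat_lit 777))
 (.leaf (nat_lit 0x70806010200040503) (nat_lit 521))
))) (.node (nat_lit 0x70806020001040503) (.node (nat_lit 0x70806020001030405) (.leaf (nat_lit 0x70806010200050304) (nat_lit 777))
 (.leaf (nat_lit 0x70806020001030405) (nat_lit 1033))
) (.node (nat_lit 0x70806020001050304) (.leaf (nat_lit 0x70806020001040503) (nat_lit 777))
 (.node (nat_lit 0x70806020100030504) (.leaf (nat_lit 0x70806020001050304) (nat_lit 1033))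
 (.leaf (nat_lit 0x70806020100030504) (nat_lit 521))
)))) (.node (nat_lit 0x70806030504000102) (.node (nat_lit 0x70806030405000201) (.node (nat_lit 0x70806020100050403) (.leaf (nat_lit 0x70806020100040305) (nat_lit 521))
 (.leaf (nat_lit 0x70806020100050403) (nat_lit 265))
) (.node (nat_lit 0x70806030405010002) (.leaf (nat_lit 0x70806030405000201) (nat_lit 1286))
 (.node (nat_lit 0x70806030405020100) (.leaf (nat_lit 0x70806030405010002) (nat_lit 1286))
 (.leaf (nat_lit 0x70806030405020100) (nat_lit 1030))
))) (.node (nat_lit 0x70806040305000102) (.node (nat_lit 0x70806030504010200) (.leaf (nat_lit 0x70806030504000102) (nat_lit 1287))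
 (.node (nat_lit 0x70806030504020001) (.leaf (nat_lit 0x70806030504010200) (nat_lit 1031))
 (.leaf (nat_lit 0x70806030504020001) (nat_lit 1287))
)) (.node (nat_lit 0x70806040305010200) (.leaf (nat_lit 0x70806040305000102) (nat_lit 1287))
 (.node (nat_lit 0x70806040305020001) (.leaf (nat_lit 0x70806040305010200) (nat_lit 1031))
 (.leaf (nat_lit 0x70806040305020001) (nat_lit 1287))
))))))) (.node (nat_lit 0x80607050304010002) (.node (nat_lit 0x80607010200050304) (.node (nat_lit 0x80607000102040503) (.node (nat_lit 0x70806050304020100) (.node (nat_lit 0x70806040503020100) (.node (nat_lit 0x70806040503010002) (.leaf (nat_lit 0x70806040503000201) (nat_lit 1030))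
 (.leaf (nat_lit 0x70806040503010002) (nat_lit 1030))
) (.node (nat_lit 0x70806050304000201) (.leaf (nat_lit 0x70806040503020100) (nat_lit 774))
 (.node (nat_lit 0x70806050304010002) (.leaf (nat_lit 0x70806050304000201) (nat_lit 1286))
 (.leaf (nat_lit 0x70806050304010002) (nat_lit 1286))
))) (.node (nat_lit 0x70806050403010200) (.node (nat_lit 0x70806050403000102) (.leaf (nat_lit 0x70806050304020100) (nat_lit 1030))
 (.leaf (nat_lit 0x70806050403000102) (nat_lit 1031))
) (.node (nat_lit 0x70806050403020001) (.leaf (nat_lit 0x70806050403010200) (nat_lit 775))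
 (.node (nat_lit 0x80607000102030405) (.leaf (nat_lit 0x70806050403020001) (nat_lit 1031))
 (.leaf (nat_lit 0x80607000102030405) (nat_lit 1289))
)))) (.node (nat_lit 0x80607010002030504) (.node (nat_lit 0x80607000201030504) (.node (nat_lit 0x80607000102050304) (.leaf (nat_lit 0x80607000102040503) (nat_lit 1033))
 (.leaf (nat_lit 0x80607000102050304) (nat_lit 1289))
) (.node (nat_lit 0x80607000201040305) (.leaf (nat_lit 0x80607000201030504) (nat_lit 1033))
 (.node (nat_lit 0x80607000201050403) (.leaf (nat_lit 0x80607000201040305) (nat_lit 1033))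
 (.leaf (nat_lit 0x80607000201050403) (nat_lit 777))
))) (.node (nat_lit 0x80607010002050403) (.node (nat_lit 0x80607010002040305) (.leaf (nat_lit 0x80607010002030504) (nat_lit 1033))
 (.leaf (nat_lit 0x80607010002040305) (nat_lit 1033))
) (.node (nat_lit 0x80607010200030405) (.leaf (nat_lit 0x80607010002050403) (nat_lit 777))
 (.node (nat_lit 0x80607010200040503) (.leaf (nat_lit 0x80607010200030405) (nat_lit 1033))
 (.leaf (nat_lit 0x80607010200040503) (nat_lit 777))
))))) (.node (nat_lit 0x80607030504000102) (.node (nat_lit 0x80607020100040305) (.node (nat_lit 0x80607020001040503) (.node (nat_lit 0x80607020001030405) (.leaf (nat_lit 0x80607010200050304) (nat_lit 1033))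
 (.leaf (nat_lit 0x80607020001030405) (nat_lit 1289))
) (.node (nat_lit 0x80607020001050304) (.leaf (nat_lit 0x80607020001040503) (nat_lit 1033))
 (.node (nat_lit 0x80607020100030504) (.leaf (nat_lit 0x80607020001050304) (nat_lit 1289))
 (.leaf (nat_lit 0x80607020100030504) (nat_lit 777))
))) (.node (nat_lit 0x80607030405000201) (.node (nat_lit 0x80607020100050403) (.leaf (nat_lit 0x80607020100040305) (nat_lit 777))
 (.leaf (nat_lit 0x80607020100050403) (nat_lit 521))
) (.node (nat_lit 0x80607030405010002) (.leaf (nat_lit 0x80607030405000201) (nat_lit 1542))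
 (.node (nat_lit 0x80607030405020100) (.leaf (nat_lit 0x80607030405010002) (nat_lit 1542))
 (.leaf (nat_lit 0x80607030405020100) (nat_lit 1286))
)))) (.node (nat_lit 0x80607040305020001) (.node (nat_lit 0x80607030504020001) (.node (nat_lit 0x80607030504010200) (.leaf (nat_lit 0x80607030504000102) (nat_lit 1543))
 (.leaf (nat_lit 0x80607030504010200) (nat_lit 1287))
) (.node (nat_lit 0x80607040305000102) (.leaf (nat_lit 0x80607030504020001) (nat_lit 1543))
 (.node (nat_lit 0x80607040305010200) (.leaf (nat_lit 0x80607040305000102) (nat_lit 1543))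
 (.leaf (nat_lit 0x80607040305010200) (nat_lit 1287))
))) (.node (nat_lit 0x80607040503010002) (.node (nat_lit 0x80607040503000201) (.leaf (nat_lit 0x80607040305020001) (nat_lit 1543))
 (.leaf (nat_lit 0x80607040503000201) (nat_lit 1286))
) (.node (nat_lit 0x80607040503020100) (.leaf (nat_lit 0x80607040503010002) (nat_lit 1286))
 (.node (nat_lit 0x80607050304000201) (.leaf (nat_lit 0x80607040503020100) (nat_lit 1030))
 (.leaf (nat_lit 0x80607050304000201) (nat_lit 1542))
)))))) (.node (nat_lit 0x80706020100030405) (.node (nat_lit 0x80706000201050304) (.node (nat_lit 0x80706000102030504) (.node (nat_lit 0x80607050403000102) (.node (nat_lit 0x80607050304020100) (.leaf (nat_lit 0x80607050304010002) (nat_lit 1542))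
 (.leaf (nat_lit 0x80607050304020100) (nat_lit 1286))
) (.node (nat_lit 0x80607050403010200) (.leaf (nat_lit 0x80607050403000102) (nat_lit 1287))
 (.node (nat_lit 0x80607050403020001) (.leaf (nat_lit 0x80607050403010200) (nat_lit 1031))
 (.leaf (nat_lit 0x80607050403020001) (nat_lit 1287))
))) (.node (nat_lit 0x80706000102050403) (.node (nat_lit 0x80706000102040305) (.leaf (nat_lit 0x80706000102030504) (nat_lit 1286))
 (.leaf (nat_lit 0x80706000102040305) (nat_lit 1286))
) (.node (nat_lit 0x80706000201030405) (.leaf (nat_lit 0x80706000102050403) (nat_lit 1030))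
 (.node (nat_lit 0x80706000201040503) (.leaf (nat_lit 0x80706000201030405) (nat_lit 1287))
 (.leaf (nat_lit 0x80706000201040503) (nat_lit 1031))
)))) (.node (nat_lit 0x80706010200040305) (.node (nat_lit 0x80706010002040503) (.node (nat_lit 0x80706010002030405) (.leaf (nat_lit 0x80706000201050304) (nat_lit 1287))
 (.leaf (nat_lit 0x80706010002030405) (nat_lit 1287))
) (.node (nat_lit 0x80706010002050304) (.leaf (nat_lit 0x80706010002040503) (nat_lit 1031))
 (.node (nat_lit 0x80706010200030504) (.leaf (nat_lit 0x80706010002050304) (nat_lit 1287))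
 (.leaf (nat_lit 0x80706010200030504) (nat_lit 1030))
))) (.node (nat_lit 0x80706020001030504) (.node (nat_lit 0x80706010200050403) (.leaf (nat_lit 0x80706010200040305) (nat_lit 1030))
 (.leaf (nat_lit 0x80706010200050403) (nat_lit 774))
) (.node (nat_lit 0x80706020001040305) (.leaf (nat_lit 0x80706020001030504) (nat_lit 1286))
 (.node (nat_lit 0x80706020001050403) (.leaf (nat_lit 0x80706020001040305) (nat_lit 1286))
 (.leaf (nat_lit 0x80706020001050403) (nat_lit 1030))
))))) (.node (nat_lit 0x80706040305010002) (.node (nat_lit 0x80706030405020001) (.node (nat_lit 0x80706020100050304) (.node (nat_lit 0x80706020100040503) (.leaf (nat_lit 0x80706020100030405) (nat_lit 1031))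
 (.leaf (nat_lit 0x80706020100040503) (nat_lit 775))
) (.node (nat_lit 0x80706030405000102) (.leaf (nat_lit 0x80706020100050304) (nat_lit 1031))
 (.node (nat_lit 0x80706030405010200) (.leaf (nat_lit 0x80706030405000102) (nat_lit 776))
 (.leaf (nat_lit 0x80706030405010200) (nat_lit 520))
))) (.node (nat_lit 0x80706030504010002) (.node (nat_lit 0x80706030504000201) (.leaf (nat_lit 0x80706030405020001) (nat_lit 776))
 (.leaf (nat_lit 0x80706030504000201) (nat_lit 514))
) (.node (nat_lit 0x80706030504020100) (.leaf (nat_lit 0x80706030504010002) (nat_lit 514))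
 (.node (nat_lit 0x80706040305000201) (.leaf (nat_lit 0x80706030504020100) (nat_lit 258))
 (.leaf (nat_lit 0x80706040305000201) (nat_lit 515))
)))) (.node (nat_lit 0x80706050304000102) (.node (nat_lit 0x80706040503000102) (.node (nat_lit 0x80706040305020100) (.leaf (nat_lit 0x80706040305010002) (nat_lit 515))
 (.leaf (nat_lit 0x80706040305020100) (nat_lit 259))
) (.node (nat_lit 0x80706040503010200) (.leaf (nat_lit 0x80706040503000102) (nat_lit 520))
 (.node (nat_lit 0x80706040503020001) (.leaf (nat_lit 0x80706040503010200) (nat_lit 264))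
 (.leaf (nat_lit 0x80706040503020001) (nat_lit 520))
))) (.node (nat_lit 0x80706050403000201) (.node (nat_lit 0x80706050304010200) (.leaf (nat_lit 0x80706050304000102) (nat_lit 776))
 (.node (nat_lit 0x80706050304020001) (.leaf (nat_lit 0x80706050304010200) (nat_lit 520))
 (.leaf (nat_lit 0x80706050304020001) (nat_lit 776))
)) (.node (nat_lit 0x80706050403010002) (.leaf (nat_lit 0x80706050403000201) (nat_lit 256))
 (.node (nat_lit 0x80706050403020100) (.leaf (nat_lit 0x80706050403010002) (nat_lit 257))
 (.leaf (nat_lit 0x80706050403020100) (nat_lit 0))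
))))))))))

theorem yg_ok : genOK A9 [(nat_lit 0x80706050403000201), (nat_lit 0x80706050403010002), (nat_lit 0x80706030504020100), (nat_lit 0x80706040305020100), (nat_lit 0x60807050403020100), (nat_lit 0x70608050403020100), (nat_lit 0x20100080706050403), (nat_lit 0x50403020100080706), (nat_lit 0x80706040503010200), (nat_lit 0x70806020100050403)] yg_t (nat_lit 648) = true := by decide +kernel

noncomputable def yW_t : ST :=
(.node (nat_lit 0x50403010200070806) (.node (nat_lit 0x20100080706050403) (.node (nat_lit 0x10200080706040503) (.leaf (nat_lit 0x10200070806050403) (nat_lit 769))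
 (.node (nat_lit 0x20100070806040503) (.leaf (nat_lit 0x10200080706040503) (nat_lit 513))
 (.leaf (nat_lit 0x20100070806040503) (nat_lit 512))
)) (.node (nat_lit 0x40503010200080706) (.leaf (nat_lit 0x20100080706050403) (nat_lit 256))
 (.node (nat_lit 0x40503020100070806) (.leaf (nat_lit 0x40503010200080706) (nat_lit 769))
 (.leaf (nat_lit 0x40503020100070806) (nat_lit 768))
))) (.node (nat_lit 0x70806050403010200) (.node (nat_lit 0x50403020100080706) (.leaf (nat_lit 0x50403010200070806) (nat_lit 768))
 (.node (nat_lit 0x70806040503020100) (.leaf (nat_lit 0x50403020100080706) (nat_lit 512))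
 (.leaf (nat_lit 0x70806040503020100) (nat_lit 1024))
)) (.node (nat_lit 0x80706040503010200) (.leaf (nat_lit 0x70806050403010200) (nat_lit 1024))
 (.node (nat_lit 0x80706050403020100) (.leaf (nat_lit 0x80706040503010200) (nat_lit 257))
 (.leaf (nat_lit 0x80706050403020100) (nat_lit 0))
))))

theorem yW_ok : genOK A9 [(nat_lit 0x20100080706050403), (nat_lit 0x80706040503010200)] yW_t (nat_lit 12) = true := by decide +kernel

noncomputable def y4_t : ST :=
(.node (nat_lit 0x30001040502) (.node (nat_lit 0x10205000304) (.node (nat_lit 0x302040501) (.leaf (nat_lit 0x301050402) (nat_lit 770))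
 (.node (nat_lit 0x10204030005) (.leaf (nat_lit 0x302040501) (nat_lit 770))
 (.leaf (nat_lit 0x10204030005) (nat_lit 512))
)) (.node (nat_lit 0x20104000305) (.leaf (nat_lit 0x10205000304) (nat_lit 514))
 (.node (nat_lit 0x20105030004) (.leaf (nat_lit 0x20104000305) (nat_lit 514))
 (.leaf (nat_lit 0x20105030004) (nat_lit 258))
))) (.node (nat_lit 0x40503010200) (.node (nat_lit 0x30002050401) (.leaf (nat_lit 0x30001040502) (nat_lit 770))
 (.node (nat_lit 0x40500020103) (.leaf (nat_lit 0x30002050401) (nat_lit 514))
 (.leaf (nat_lit 0x40500020103) (nat_lit 513))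
)) (.node (nat_lit 0x50400010203) (.leaf (nat_lit 0x40503010200) (nat_lit 256))
 (.node (nat_lit 0x50403020100) (.leaf (nat_lit 0x50400010203) (nat_lit 257))
 (.leaf (nat_lit 0x50403020100) (nat_lit 0))
))))

theorem y4_ok : genOK J23.P6 [(nat_lit 0x40503010200), (nat_lit 0x50400010203), (nat_lit 0x20105030004)] y4_t (nat_lit 12) = true := by decide +kernel

end Cfsg.Agent.T16
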