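import Mathlib
import Cfsg.Agent.T16.YData
import Cfsg.Agent.T16.A4Top
import Cfsg.Agent.T16.A9In

/-!
Groups in which the normaliser of `J = 3³` is `J : Alt(4)` or `J : Sym(4)` (rotations of the cube).
-/

set_option autoImplicit false
set_option synthInstance.maxSize 100000
set_option synthInstance.maxHeartbeats 1000000
set_option linter.unusedSectionVars false

namespace Cfsg.Agent.T16.Y

open Cfsg.Agent.Spor Cfsg.Agent.Rec Cfsg.Agent.Inv.Fz Subgroup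
open scoped commutatorElement

universe u

variable {G : Type u} [Group G]

/-- `J` normalises no non-trivial subgroup of order prime to three. -/
def Sig (J : Subgroup G) : Prop :=
  ∀ K : Subgroup G, (Nat.card K).Coprime 3 → J ≤ normalizer (K : Set G) → K = ⊥

theorem Sig.noCore [Finite G] {J L : Subgroup G} (h : Sig J) (hL : J ≤ L) : A9.NoCore L :=
  fun K hK => h K hK.cop (hL.trans hK.norm)

/-- Burnside and the signalizer hypothesis. -/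
theorem Sig.le [Finite G] {J L : Subgroup G} (hs : Sig J) (hc : ∀ x ∈ J, ∀ y ∈ J, x * y = y * x)
    (hL : IsSylIn 3 J L) (h : L ⊓ normalizer (J : Set G) ≤ J) : L ≤ J := by
  obtain ⟨O, -, h1, h2, h3⟩ := exists_complement hL fun g hg hn v hv => hc g (h ⟨hg, hn⟩) v hv
  rw [hs O h2 (hL.le.trans h1)] at h3
  refine (hL.eq_of_le (fun g => ?_) le_rfl hL.le).le
  obtain ⟨k, hk⟩ := exists_pow_coprime (p := 3) (g : G)
  exact ⟨k, Subtype.ext (h3 _ (pow_mem g.2 _) hk)⟩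

variable {c1 c2 c3 v e o : G}

theorem a4_main [Finite G] (h : A4Rel c1 c2 c3 v e)
    (hN : normalizer (clos [c1, c2, c3] : Set G) = clos [c1, c2, c3, v, e]) (hs : Sig (clos [c1, c2, c3]))
    (ha : centralizer {c1 * c2 * c3} ≤ normalizer (clos [c1, c2, c3] : Set G))
    (hc : centralizer {c3} ≤ normalizer (clos [c1, c2, c3] : Set G)) :
    normalizer (clos [c1, c2, c3] : Set G) = ⊤ := by
  obtain ⟨C, hr⟩ := A4.cod h.c1_3 h.c12 h.v3 h.vc1 h.vc2 h.card h.e2 h.ec1 h.ec2 h.ec3 h.ev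
  have gW : C.Lists yW_t.dom (clos [v, e]) := ((hr.pick [3, 4]).gen yW_ok).1
  have hL := (A4.gJ hr).1.cons ((A4.gM hr).1.cons (gW.cons Cod.listsL_nil))
  have f1 : (∀ x ∈ clos [c1, c2, c3], ∀ y ∈ clos [c1, c2, c3], x * y = y * x) ∧ c1 * c2 ∈ clos [c1, c2, c3] ∧
      (∀ g ∈ clos [c1, c2, c3, v, e], g * (c1 * c2) = c1 * c2 * g → g ∈ clos [c1, c2, c3]) ∧
      clos [v, e] ≤ clos [c1, c2, c3, v, e] ∧
      ∀ x ∈ clos [c1, c2, c3], x ≠ 1 → ∃ g ∈ clos [v, e], Let (g * x * g⁻¹) fun y =>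
        y = c1 * c2 * c3 ∨ y = (c1 * c2 * c3)⁻¹ ∨ y = c3 ∨ y = c1 * c2 := hL.decide hr (by decide +kernel)
  obtain ⟨f1, f2, f3, f4, f5⟩ := f1
  have k1 : centralizer {c1 * c2} ⊓ normalizer (clos [c1, c2, c3] : Set G) ≤ clos [c1, c2, c3] :=
    fun g hg => f3 g (hN ▸ hg.2) (mem_cen.1 hg.1)
  have hb : centralizer {c1 * c2} ≤ normalizer (clos [c1, c2, c3] : Set G) :=
    (hs.le f1 (isSylIn_of_normalizer (isSylIn_of_card le_rfl (k := 3) (m := 1) h.card h.card (by decide))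
      (fun g hg => mem_cen.2 (f1 g hg _ f2)) fun g hg hn => k1 ⟨hg, hn⟩) k1).trans le_normalizer
  refine a4_top h hN fun j hj h1 => ?_
  obtain ⟨g, hg, k | k | k | k⟩ := f5 j hj h1
  · exact A9.cent_cj (hN ▸ f4 hg) k ha
  · exact A9.cent_cj (hN ▸ f4 hg) k fun x hx => ha (mem_cen.2 (A9.comm_inv (mem_cen.1 hx)))
  · exact A9.cent_cj (hN ▸ f4 hg) k hc
  · exact A9.cent_cj (hN ▸ f4 hg) k hb

theorem cod_s4 (h : A4Rel c1 c2 c3 v e) (o2 : o * o = 1) (oc1 : o * c1 * o⁻¹ = c2) (oc3 : o * c3 * o⁻¹ = c3⁻¹)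
    (oe : o * e = e * o) (ov : o * v * o⁻¹ = v * e * v) :
    ∃ C : Cod A9 G, C.RepL yl [c1, c1⁻¹, c2, c2⁻¹, c3, c3⁻¹, v, v⁻¹, e, o] := by
  obtain ⟨C, hr⟩ := A4.cod h.c1_3 h.c12 h.v3 h.vc1 h.vc2 h.card h.e2 h.ec1 h.ec2 h.ec3 h.ev
  have ha : c1 * (c2 * c3) ≠ 1 := Cod.listsL_nil.decide hr (by decide +kernel)
  have h9 : C.RepL a4l [c1, c1⁻¹, c2, c2⁻¹, c3, c3⁻¹, v, v⁻¹, e] :=
    (hr.nth 0).cons <| (hr.term c1⁻¹ (by decide +kernel)).cons <| (hr.nth 1).cons <|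
      (hr.term c2⁻¹ (by decide +kernel)).cons <| (hr.nth 2).cons <| (hr.term c3⁻¹ (by decide +kernel)).cons <|
      (hr.nth 3).cons <| (hr.term v⁻¹ (by decide +kernel)).cons <| (hr.nth 4).cons Cod.repL_nil
  have hs : Sat yrel [c1, c1⁻¹, c2, c2⁻¹, c3, c3⁻¹, v, v⁻¹, e, o] := by
    refine sat_append.2 ⟨Sat.of_take (m := 9) (h9.sat a4rel_ok) (by decide +kernel), ?_⟩
    rw [inv_eq_of_mul_eq_one_left o2] at oc1 oc3 ov
    simp only [yex, sat_cons, sat_nil, evalW_cons, evalW_nil, nth_zero, nth_succ, mul_one, and_true, o2, true_and]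
    refine ⟨?_, ?_, ?_, ?_⟩
    · rw [← mul_assoc, ← mul_assoc, oc1]; group
    · rw [← mul_assoc, ← mul_assoc, oc3]; group
    · rw [oe, ← mul_assoc e e, h.e2, one_mul, o2]
    · rw [← mul_assoc, ← mul_assoc, ov]
      calc _ = v * (e * e) * v⁻¹ := by group
        _ = 1 := by rw [h.e2]; group
  obtain ⟨e₀, h₀⟩ : ∃ e₀, (permCod A9_ok).RepL lE e₀ := ⟨_, repL_permOf A9_ok lE_ok⟩
  obtain ⟨e₁, h₁⟩ : ∃ e₁, (permCod A9_ok).RepL yl e₁ := ⟨_, repL_permOf A9_ok yl_ok⟩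
  have hl₀ : e₀.length = 10 := h₀.length_eq.symm
  have hl₁ : e₁.length = 10 := h₁.length_eq.symm
  match e₀, hl₀, h₀, e₁, hl₁, h₁ with
  | [_, _, _, _, _, _, _, _, t, _], _, h₀, [d1, d1', d2, d2', d3, d3', w, w', x, y], _, h₁ =>
  have h5 : (permCod A9_ok).RepL cH [d1, d2, d3, w, t] :=
    (h₁.nth 0).cons <| (h₁.nth 2).cons <| (h₁.nth 4).cons <| (h₁.nth 6).cons <| (h₀.nth 8).cons Cod.repL_nil
  have gJ : (permCod A9_ok).Lists J_t.dom (clos [d1, d2, d3]) := ((h₁.pick [0, 2, 4]).gen J_ok).1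
  have hL := h₁.lists.cons ((h₁.gen yg_ok).1.cons (gJ.cons Cod.listsL_nil))
  exact ypres.cod_of_normal h₁ (h₁.sat yrel_ok) rfl (h₁.gen yg_ok).2 (W := [[0, 2, 4]])
    (fun K hK hn h1 => by
      simpa using a_mem_of_normal h5 (hK := hK) (hn := hn) (h1 := h1) (hL.decide h₁ (by decide +kernel))
        (mem_clos (by simp)) (hL.decide h₁ (by decide +kernel)) (hL.decide h₁ (by decide +kernel))) hs rfl
    (by simpa using ha)

open A9 in
theorem h0_top [Finite G] (s : A9.H0 G) (hN : normalizer (s.J : Set G) = s.H) (hs : Sig s.J)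
    (ha : centralizer {s.a} ≤ s.H) (hc : centralizer {s.c1} ≤ s.H) : s.H = ⊤ := by
  have inf_b : centralizer {s.b} ⊓ normalizer (s.J : Set G) = s.Cb := le_antisymm
    (fun g hg => (s.cenH g (hN ▸ hg.2)).2.1.1 (mem_cen.1 hg.1))
    fun g hg => ⟨mem_cen.2 ((s.cenH g (s.le.2.2.2.1 hg)).2.1.2 hg), hN ▸ s.le.2.2.2.1 hg⟩
  have hJb : s.J ≤ centralizer {s.b} := fun g hg => mem_cen.2 (s.Jc g hg _ s.mem.2.2.2.2.1)
  have hb : centralizer {s.b} ≤ s.Cb := by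
    have h1 : IsSylIn 3 s.J (centralizer {s.b}) := isSylIn_of_normalizer
      (isSylIn_of_card s.le.2.2.1 (k := 3) (m := 2) s.gJ.2 s.gCb.2 (by decide)) hJb fun g hg h => inf_b.le ⟨hg, h⟩
    have f1 : (∀ j ∈ s.J, ∀ g ∈ s.Cb, ⁅j, g⁆ ∈ s.B1) ∧ s.c1 = ⁅s.c1⁻¹, s.w⁆ ∧ s.u = ⁅s.c2, s.w⁆ ∧
        (∀ j ∈ s.J, ∃ y ∈ s.B1, j = y * 1 ∨ j = y * s.b ∨ j = y * s.b⁻¹) ∧ (∀ y ∈ s.B1, s.w * y * s.w⁻¹ = y⁻¹) ∧
        ∀ g ∈ s.Cb, ((∀ y ∈ s.B1, y * g = g * y) ∧ ¬ ∀ y ∈ s.B1, y * (g * s.w) = g * s.w * y) ∨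
          ((∀ y ∈ s.B1, y * (g * s.w) = g * s.w * y) ∧ ¬ ∀ y ∈ s.B1, y * g = g * y) :=
      s.hL.decide s.rep (by decide +kernel)
    obtain ⟨f1, f2, f3, f4, f5, f6⟩ := f1
    have wC := s.mem.2.2.2.2.2.1
    obtain ⟨K, k1, -, k3, k4, -, k6, k7, k8⟩ := res_core (B := s.B1) h1 s.Jc (hs.noCore hJb)
      (by
        rw [inf_b]
        refine le_antisymm (commutator_le.2 f1) (clos_le.2 ?_)
        simp only [List.forall_mem_cons]
        exact ⟨f2 ▸ commutator_mem_commutator (inv_mem s.mem.1) wC, f3 ▸ commutator_mem_commutator s.mem.2.1 wC,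
          by simp⟩)
      (fun j hj => by
        obtain ⟨y, hy, h | h | h⟩ := f4 j hj
        exacts [⟨y, hy, _, one_mem _, h⟩, ⟨y, hy, _, mem_zpowers _, h⟩, ⟨y, hy, _, inv_mem (mem_zpowers _), h⟩])
      s.mem.2.2.2.2.1
    have wK : s.w ∈ K := k6 _ (inf_b.ge wC).1 (by rw [s.ord.2.2.2.2.1]; decide)
    have h2 := nine_z2 k3 k4 s.gB1.2 (fun y hy => s.J3 y (s.le.2.2.2.2.2.2.2.2.2.2.2 hy))
      (relIndex_eq_two_iff.2 ⟨s.w, ⟨wK, mem_normalizer_of_conj_mem fun y hy => f5 y hy ▸ inv_mem hy⟩, fun g hg => by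
        rcases f6 g (inf_b.le ⟨k1 hg.1, k8 g hg.1 hg.2⟩) with h | h
        exacts [.inr h, .inl h]⟩) wK f5
    rw [sup_bot_eq] at h2
    intro g hg
    obtain ⟨k, hk, j, hj, rfl⟩ := k7 g hg
    exact mul_mem (inf_b.le ⟨k1 hk, k8 k hk (h2 hk)⟩) (s.le.2.2.1 hj)
  obtain ⟨e, -⟩ := s.rep0.equiv s0.rep0
  refine Ch.Spc.alt9_top s.H
    ⟨e.symm.trans (MulEquiv.subgroupCongr (congrArg Subgroup.closure (by ext; simp [s0])))⟩ _ rfl ?_
  rintro _ ⟨j, hj, rfl⟩ h1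
  have hn : (Cfsg.pCore 3 s.H).Normal := by
    have : (Cfsg.pCore 3 s.H).Characteristic := GT.pCore_characteristic
    infer_instance
  have k : ∀ y ∈ Cfsg.pCore 3 s.H, ((y : G) ^ 9) ^ 9 = 1 := fun y hy => by
    obtain ⟨k, hk⟩ := GT.isPGroup_pCore 3 ⟨y, hy⟩
    have h2 : orderOf y ∣ 3 ^ k := orderOf_dvd_of_pow_eq_one (congrArg Subtype.val hk)
    have h3 : orderOf y ∣ 8 * 81 := (orderOf_dvd_natCard y).trans (by rw [s.gH.2])
    rw [← pow_mul]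
    exact congrArg Subtype.val (orderOf_dvd_iff_pow_eq_one.1 (Nat.Coprime.dvd_of_dvd_mul_left
      (Nat.Coprime.of_dvd_left h2 (Nat.Coprime.pow_left _ (by norm_num))) h3))
  obtain ⟨g, hg, e⟩ := s.cls3 j (s.memJ j j.2 (k j hj)
    (k _ (mul_mem hj (hn.conj_mem _ (inv_mem hj) ⟨s.t4, s.mem.2.2.2.2.2.2.2.2.1⟩)))) h1
  rcases e with e | e | e
  exacts [cent_cj (s.le.2.2.2.2.2.2.1 hg) e ha, cent_cj (s.le.2.2.2.2.2.2.1 hg) e (hb.trans s.le.2.2.2.1),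
    cent_cj (s.le.2.2.2.2.2.2.1 hg) e hc]

theorem s4_main [Finite G] (h : A4Rel c1 c2 c3 v e) (o2 : o * o = 1) (oc1 : o * c1 * o⁻¹ = c2)
    (oc3 : o * c3 * o⁻¹ = c3⁻¹) (oe : o * e = e * o) (ov : o * v * o⁻¹ = v * e * v)
    (hN : normalizer (clos [c1, c2, c3] : Set G) = clos [c1, c2, c3, v, e, o]) (hs : Sig (clos [c1, c2, c3]))
    (ha : centralizer {c1 * c2 * c3} ≤ normalizer (clos [c1, c2, c3] : Set G))
    (hc : centralizer {c1} ≤ normalizer (clos [c1, c2, c3] : Set G)) :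
    normalizer (clos [c1, c2, c3] : Set G) = ⊤ := by
  obtain ⟨C, hr⟩ := cod_s4 h o2 oc1 oc3 oe ov
  have r0 : C.RepL A9.cH0 [c1, v, (c1 * c2 * c3)⁻¹ * e * (c1 * c2 * c3), (c1 * c2 * c3)⁻¹ * o * (c1 * c2 * c3)] :=
    (hr.nth 0).cons <| (hr.nth 6).cons <| (hr.term _ (by decide +kernel)).cons <|
      (hr.term _ (by decide +kernel)).cons Cod.repL_nil
  let s : A9.H0 G := ⟨_, _, _, _, C, r0⟩
  have e2 : s.c2 = c2 := h.vc1
  have e3 : s.c3 = c3 := by rw [A9.H0.c3, e2]; exact h.vc2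
  have eJ : s.J = clos [c1, c2, c3] := by rw [A9.H0.J, e2, e3]
  have ea : s.a = c1 * c2 * c3 := by rw [A9.H0.a, e2, e3]
  have eH : s.H = clos [c1, c2, c3, v, e, o] := by
    refine le_antisymm (clos_le.2 ?_) (clos_le.2 ?_)
    · have m : c1 * c2 * c3 ∈ clos [c1, c2, c3, v, e, o] :=
        mul_mem (mul_mem (mem_clos (by simp)) (mem_clos (by simp))) (mem_clos (by simp))
      simp only [List.forall_mem_cons]
      exact ⟨mem_clos (by simp [s]), mem_clos (by simp [s]), mul_mem (mul_mem (inv_mem m) (mem_clos (by simp))) m,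
        mul_mem (mul_mem (inv_mem m) (mem_clos (by simp))) m, by simp⟩
    · have hL : C.ListsL [A9.H_t.dom] [s.H] := s.gH.1.cons Cod.listsL_nil
      generalize s.H = K at hL
      have : c1 ∈ K ∧ c2 ∈ K ∧ c3 ∈ K ∧ v ∈ K ∧ e ∈ K ∧ o ∈ K := hL.decide hr (by decide +kernel)
      simpa using this
  rw [hN, ← eH]
  rw [hN, ← eH] at ha hc
  exact h0_top s (by rw [eJ, hN, eH]) (eJ ▸ hs) (ea ▸ ha) hc

end Cfsg.Agent.T16.Y
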