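import Mathlib
import Cfsg.Agent.T16.McLA
import Cfsg.Agent.T16.YTop
import Cfsg.Agent.Rec.J23.A6
import Cfsg.Agent.Inv.LenA

/-!
The McLaughlin configuration: coordinates on `J` and the stabiliser of a non-singular vector.
-/

set_option autoImplicit false
set_option synthInstance.maxSize 100000
set_option synthInstance.maxHeartbeats 1000000
set_option linter.unusedSectionVars false

namespace Cfsg.Agent.T16.Y

open Cfsg.Agent.Spor Cfsg.Agent.Rec Cfsg.Agent.Inv.Fz Subgroup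
open A9 (cjm cjc cjs cjcomm cjp)

universe u

variable {G : Type u} [Group G]

theorem cj2 {g : G} (h : g * g = 1) (x : G) : g * (g * x * g⁻¹) * g⁻¹ = x := by
  calc _ = g * g * x * (g * g)⁻¹ := by group
    _ = x := by rw [h]; group

theorem cjx {g h : G} (e : g * h = h * g) (x : G) : g * (h * x * h⁻¹) * g⁻¹ = h * (g * x * g⁻¹) * h⁻¹ := by
  calc _ = g * h * x * (g * h)⁻¹ := by group
    _ = _ := by rw [e]; group

theorem cji (g x : G) : g * x⁻¹ * g⁻¹ = (g * x * g⁻¹)⁻¹ := conj_inv.symm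

theorem fix_of {g x : G} (h : g * x = x * g) : g * x * g⁻¹ = x := by rw [h]; group

theorem of_fix {g x : G} (h : g * x * g⁻¹ = x) : g * x = x * g := mul_inv_eq_iff_eq_mul.1 h

theorem mem_of_sq {K : Subgroup G} {x : G} (h3 : x ^ 3 = 1) (h : x * x ∈ K) : x ∈ K := by
  have : x = (x * x) * (x * x) := by
    calc x = x * x ^ 3 := by rw [h3, mul_one]
      _ = _ := by simp only [pow_succ, pow_zero, one_mul, mul_assoc]
  rw [this]; exact mul_mem h h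

theorem o3_le (H : Subgroup G) : o3 H ≤ H := (closure_le _).2 fun _ h => h.1

theorem le_norm_o3 [Finite G] (H : Subgroup G) : H ≤ normalizer (o3 H : Set G) := fun g hg =>
  mem_normalizer_of_conj_mem fun x hx => by
    induction hx using closure_induction with
    | mem x hx =>
      obtain ⟨h1, k, hk⟩ := hx
      exact subset_closure ⟨mul_mem (mul_mem hg h1) (inv_mem hg), k, by
        rw [← hk]; exact (MulAut.conj g).orderOf_eq x⟩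
    | one => simp
    | mul x y _ _ hx hy => rw [cjm]; exact mul_mem hx hy
    | inv x _ hx => rw [cji]; exact inv_mem hx

theorem mem_sup_two [Finite G] {N : Subgroup G} {g x : G} (hg : g ∈ normalizer (N : Set G)) (h2 : g * g ∈ N)
    (hx : x ∈ zpowers g ⊔ N) : x ∈ N ∨ g⁻¹ * x ∈ N := by
  obtain ⟨_, ⟨k, rfl⟩, n, hn, rfl⟩ := (GT.PG.mem_sup_of_le_normalizer' (zpowers_le.2 hg)).1 hx
  have h3 : ∀ j : ℤ, g ^ (2 * j) ∈ N := fun j => by
    rw [zpow_mul]; exact zpow_mem (by rw [zpow_two]; exact h2) j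
  obtain ⟨j, rfl | rfl⟩ : ∃ j, k = 2 * j ∨ k = 1 + 2 * j := ⟨k / 2, by omega⟩
  · exact .inl (mul_mem (h3 j) hn)
  · refine .inr ?_
    rw [show g⁻¹ * (g ^ (1 + 2 * j) * n) = g ^ (2 * j) * n by rw [zpow_add, zpow_one]; group]
    exact mul_mem (h3 j) hn

theorem a6_facts : (∀ g ∈ alternatingGroup (Fin 6), g ∈ clos [Mc.b0 * Mc.b0, Mc.n0, Mc.v0] ∨
      ∃ h ∈ clos [Mc.b0 * Mc.b0, Mc.n0, Mc.v0], g * h = Mc.b0 ∨ orderOf (g * h) = 5 ∨
        orderOf (g * Mc.v0 * g⁻¹ * h) = 5 ∨ orderOf (g * (Mc.b0 * Mc.b0) * g⁻¹ * h) = 5) ∧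
    (∀ g ∈ alternatingGroup (Fin 6), g⁻¹ * (Mc.b0 * Mc.b0) * g ∈ clos [Mc.b0 * Mc.b0, Mc.n0, Mc.v0] →
      g⁻¹ * (Mc.n0 * Mc.b0) * g ∉ clos [Mc.b0 * Mc.b0, Mc.n0, Mc.v0]) ∧
    (∃ g ∈ alternatingGroup (Fin 6), g * Mc.v0 * g⁻¹ = Mc.p1 * Mc.p2) ∧ Mc.v0 ^ 3 = 1 := by
  have h : (permCod J23.P6_ok).RepL [nat_lit 0x10200050403, nat_lit 0x50400010203, nat_lit 0x20105030004,
      nat_lit 0x50403000201, nat_lit 0x30504020100] [Mc.b0, Mc.n0, Mc.v0, Mc.p1, Mc.p2] :=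
    (rep_pcode _ _ (by decide +kernel)).cons <| (rep_pcode _ _ (by decide +kernel)).cons <|
      (rep_pcode _ _ (by decide +kernel)).cons <| (rep_pcode _ _ (by decide +kernel)).cons <|
      (rep_pcode _ _ (by decide +kernel)).cons Cod.repL_nil
  have h4 : (permCod J23.P6_ok).Lists y4_t.dom (clos [Mc.b0 * Mc.b0, Mc.n0, Mc.v0]) :=
    (((h.term (Mc.b0 * Mc.b0) (by decide +kernel)).cons (h.pick [1, 2])).gen y4_ok).1
  exact (J23.lists_A6.cons (h4.cons Cod.listsL_nil)).decide h (by decide +kernel)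

variable [Finite G] {m : Mc G} (l : m.Let)

/-- The second singular vector. -/
def z' : G := l.n * m.z * l.n⁻¹
/-- The non-singular vector centralised by `t` and `n`. -/
def y : G := m.z * z' l
/-- The vector centralised by `t` and inverted by `n`. -/
def c3 : G := m.z * (z' l)⁻¹
/-- The vector centralised by `n`. -/
def c1 : G := l.v * c3 l * l.v⁻¹
/-- The vector centralised by `t n`. -/
def c2 : G := l.v * c1 l * l.v⁻¹

theorem tM0 : l.t ∈ m.M0 := l.bb ▸ mul_mem l.bM l.bM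
theorem tM : l.t ∈ m.M := o3_le _ (tM0 l)
theorem nM : l.n ∈ m.M := o3_le _ l.nM
theorem vM : l.v ∈ m.M := o3_le _ l.vM
theorem bM : l.b ∈ m.M := o3_le _ l.bM
theorem aM : l.a ∈ m.M := (m.B_eq.le l.aB).1
theorem wM : l.w ∈ m.M := (m.B_eq.le l.wB).1
theorem cjJ {g x : G} (hg : g ∈ m.M) (hx : x ∈ m.J) : g * x * g⁻¹ ∈ m.J := conj_mem_of_mem_norm hg hx
theorem z'J : z' l ∈ m.J := cjJ (nM l) m.z_mem_J
theorem yJ : y l ∈ m.J := mul_mem m.z_mem_J (z'J l)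
theorem c3J : c3 l ∈ m.J := mul_mem m.z_mem_J (inv_mem (z'J l))
theorem c1J : c1 l ∈ m.J := cjJ (vM l) (c3J l)
theorem c2J : c2 l ∈ m.J := cjJ (vM l) (c1J l)

theorem nt : l.n * l.t = l.t * l.n := by
  refine of_fix ?_
  rw [← l.bb, cjm, l.nb, ← mul_inv_rev, l.bb, inv_eq_of_mul_eq_one_left l.tt]

theorem tz : l.t * m.z * l.t⁻¹ = m.z :=
  fix_of (mem_cen.1 (l.cen_t.ge (mem_clos (by simp))).2).symm
theorem tz' : l.t * z' l * l.t⁻¹ = z' l :=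
  fix_of (mem_cen.1 (l.cen_t.ge (mem_clos (by simp [z']))).2).symm
theorem nz' : l.n * z' l * l.n⁻¹ = m.z := cj2 l.nn _
theorem zz' : m.z * z' l = z' l * m.z := m.Jc _ m.z_mem_J _ (z'J l)
theorem ty : l.t * y l * l.t⁻¹ = y l := by rw [y, cjm, tz, tz']
theorem tc3 : l.t * c3 l * l.t⁻¹ = c3 l := by rw [c3, cjm, cji, tz, tz']
theorem ny : l.n * y l * l.n⁻¹ = y l := by rw [y, cjm, nz', zz']; rfl
theorem nc3 : l.n * c3 l * l.n⁻¹ = (c3 l)⁻¹ := by rw [c3, cjm, cji, nz', mul_inv_rev, inv_inv]; rfl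
theorem bz' : l.b * z' l * l.b⁻¹ = (z' l)⁻¹ := by
  have h : l.b * l.n = l.n * l.b⁻¹ := by
    rw [← l.nb, ← mul_assoc, ← mul_assoc, l.nn, one_mul, inv_eq_of_mul_eq_one_left l.nn]
  have h2 : l.b⁻¹ * m.z * l.b⁻¹⁻¹ = m.z⁻¹ := by
    have := cjs l.bz
    rw [cji] at this
    exact inv_eq_iff_eq_inv.1 this
  rw [z', ← cji, ← h2, ← cjc rfl, h, cjc rfl]
theorem by_ : l.b * y l * l.b⁻¹ = (y l)⁻¹ := by rw [y, cjm, l.bz, bz', ← mul_inv_rev, zz']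
theorem bc3 : l.b * c3 l * l.b⁻¹ = (c3 l)⁻¹ := by
  rw [c3, cjm, cji, l.bz, bz', ← mul_inv_rev, m.Jc _ m.z_mem_J _ (inv_mem (z'J l))]
theorem ay : l.a * y l * l.a⁻¹ = c3 l := by rw [y, cjm, l.az]; exact congrArg _ l.az'
theorem ac3 : l.a * c3 l * l.a⁻¹ = y l := by
  rw [c3, cjm, cji, l.az, show l.a * z' l * l.a⁻¹ = _ from l.az', inv_inv]; rfl

theorem y_ne : y l ≠ 1 := fun h => l.nz (by
  rw [show l.n * m.z * l.n⁻¹ = m.z⁻¹ from eq_inv_of_mul_eq_one_right h]; exact inv_mem (mem_zpowers _))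
theorem c3_ne : c3 l ≠ 1 := fun h => l.nz (by
  rw [show l.n * m.z * l.n⁻¹ = m.z from (mul_inv_eq_one.1 h).symm]; exact mem_zpowers _)
theorem y_not : y l ∉ m.Z := fun h => l.nz ((mul_mem_cancel_left (mem_zpowers m.z)).1 h)

theorem cen_t {x : G} (hx : x ∈ m.J) (h : l.t * x * l.t⁻¹ = x) :
    x * (l.n * x * l.n⁻¹) ∈ zpowers (y l) ∧ x * (l.n * x * l.n⁻¹)⁻¹ ∈ zpowers (c3 l) := by
  have h1 : x ∈ clos [m.z, z' l] := l.cen_t.le ⟨m.JS hx, mem_cen.2 (of_fix h).symm⟩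
  have hD : clos [m.z, z' l] ≤ m.J := clos_le.2 (by simp [m.z_mem_J, z'J l])
  clear hx h
  induction h1 using closure_induction with
  | mem x hx =>
    simp only [List.mem_cons, List.not_mem_nil, or_false, Set.mem_ofPred_eq] at hx
    rcases hx with rfl | rfl
    · exact ⟨mem_zpowers _, mem_zpowers _⟩
    · rw [nz', ← zz']
      refine ⟨mem_zpowers _, inv_mem_iff.1 ?_⟩
      rw [mul_inv_rev, inv_inv]; exact mem_zpowers _
  | one => simp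
  | mul a b ha hb iha ihb =>
    have h1 := m.Jc _ (hD hb) _ (cjJ (nM l) (hD ha))
    have h2 := m.Jc _ (mul_mem (hD hb) (inv_mem (cjJ (nM l) (hD hb)))) _ (inv_mem (cjJ (nM l) (hD ha)))
    rw [cjm]
    refine ⟨?_, ?_⟩
    · rw [mul_assoc, ← mul_assoc b, h1, mul_assoc, ← mul_assoc a]; exact mul_mem iha.1 ihb.1
    · rw [mul_inv_rev, mul_assoc, ← mul_assoc b, h2, ← mul_assoc a]; exact mul_mem iha.2 ihb.2
  | inv a ha iha =>
    have h1 := m.Jc _ (hD ha) _ (cjJ (nM l) (hD ha))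
    have h2 := m.Jc _ (hD ha) _ (inv_mem (cjJ (nM l) (hD ha)))
    rw [cji]
    refine ⟨?_, ?_⟩
    · rw [← mul_inv_rev, ← h1]; exact inv_mem iha.1
    · rw [← mul_inv_rev, ← h2]; exact inv_mem iha.2

theorem mem_y {x : G} (hx : x ∈ m.J) (h : l.t * x * l.t⁻¹ = x) (h' : l.n * x * l.n⁻¹ = x) : x ∈ zpowers (y l) :=
  mem_of_sq (m.J3 x hx) (by simpa only [h'] using (cen_t l hx h).1)

theorem mem_c3 {x : G} (hx : x ∈ m.J) (h : l.t * x * l.t⁻¹ = x) (h' : l.n * x * l.n⁻¹ = x⁻¹) :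
    x ∈ zpowers (c3 l) :=
  mem_of_sq (m.J3 x hx) (by simpa only [h', inv_inv] using (cen_t l hx h).2)

theorem vtn : l.v * (l.t * l.n) * l.v⁻¹ = l.t := by
  rw [cjm, l.vt, l.vn, ← mul_assoc, nt, mul_assoc, l.nn, mul_one]

theorem v3J : l.v ^ 3 ∈ m.J :=
  (l.f_ker (⟨l.v, l.vM⟩ ^ 3)).1 (by rw [map_pow, l.f_v]; exact a6_facts.2.2.2)

theorem v3_eq (x : G) : l.v ^ 3 * x * (l.v ^ 3)⁻¹ = l.v * (l.v * (l.v * x * l.v⁻¹) * l.v⁻¹) * l.v⁻¹ := by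
  simp only [pow_succ, pow_zero, one_mul]; group

theorem v3y : l.v ^ 3 ∈ zpowers (y l) := by
  refine mem_y l (v3J l) (fix_of (of_fix ?_).symm) (fix_of (of_fix ?_).symm)
  · rw [v3_eq, l.vt, l.vn, vtn]
  · rw [v3_eq, l.vn, vtn, l.vt]

theorem vc2 : l.v * c2 l * l.v⁻¹ = c3 l := by
  rw [c2, c1, ← v3_eq]; exact fix_of (m.Jc _ (v3J l) _ (c3J l))

theorem vy : l.v * y l * l.v⁻¹ = y l := by
  have h1 : l.v * y l * l.v⁻¹ ∈ zpowers (y l) := by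
    refine mem_y l (cjJ (vM l) (yJ l)) ?_ ?_
    · rw [← vtn l]; refine fix_of (cjcomm (of_fix ?_)); rw [cjc (ny l), ty]
    · rw [← l.vt]; exact fix_of (cjcomm (of_fix (ty l)))
  have h2 := fix_of (m.Jc _ (v3J l) _ (yJ l))
  rcases mem_zpowers_three (m.J3 _ (yJ l)) h1 with h | h | h
  · exact absurd (conj_eq_one.1 h) (y_ne l)
  · exact h
  · rw [v3_eq, h, cji, h, inv_inv, h] at h2
    exact absurd (eq_one_of_eq_inv (m.J3 _ (yJ l)) h2.symm) (y_ne l)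

theorem cjv {g x r : G} (h : g * x * g⁻¹ = r) :
    l.v * g * l.v⁻¹ * (l.v * x * l.v⁻¹) * (l.v * g * l.v⁻¹)⁻¹ = l.v * r * l.v⁻¹ := by rw [← h]; group

theorem tnc3 : l.t * l.n * c3 l * (l.t * l.n)⁻¹ = (c3 l)⁻¹ := by rw [cjc (nc3 l), cji, tc3]
theorem nc1 : l.n * c1 l * l.n⁻¹ = c1 l := by
  have := cjv l (tc3 l); rwa [l.vt] at this
theorem tc1 : l.t * c1 l * l.t⁻¹ = (c1 l)⁻¹ := by
  have := cjv l (tnc3 l); rwa [vtn, cji] at this
theorem tc2 : l.t * c2 l * l.t⁻¹ = (c2 l)⁻¹ := by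
  have := cjv l ((cjc (nc1 l)).trans (tc1 l)); rwa [vtn, cji] at this
theorem nc2 : l.n * c2 l * l.n⁻¹ = (c2 l)⁻¹ := by
  have := cjv l (tc1 l); rwa [l.vt, cji] at this

theorem mem_c2 {x : G} (hx : x ∈ m.J) (h : l.t * x * l.t⁻¹ = x⁻¹) (h' : l.n * x * l.n⁻¹ = x⁻¹) :
    x ∈ zpowers (c2 l) := by
  have h1 : l.v * x * l.v⁻¹ ∈ zpowers (c3 l) := mem_c3 l (cjJ (vM l) hx)
    (by
      have := cjv l ((cjc (g := l.t) h').trans (show _ = x by rw [cji, h, inv_inv]))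
      rwa [vtn] at this)
    (by have := cjv l h; rwa [l.vt, cji] at this)
  rwa [← vc2, ← cj_zpowers, conj_mem_cj] at h1

theorem J_le {R : Subgroup G} (hy : y l ∈ R) (h1 : c1 l ∈ R) (h2 : c2 l ∈ R) (h3 : c3 l ∈ R) : m.J ≤ R := by
  have k : ∀ R : Subgroup G, y l ∈ R → c3 l ∈ R → ∀ x ∈ m.J, l.t * x * l.t⁻¹ = x → x ∈ R := fun R hy h3 x hx h => by
    have h4 := mul_mem (zpowers_le.2 hy (cen_t l hx h).1) (zpowers_le.2 h3 (cen_t l hx h).2)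
    rw [mul_assoc, ← mul_assoc _ x, ← m.Jc _ hx _ (cjJ (nM l) hx), mul_inv_cancel_right] at h4
    exact mem_of_sq (m.J3 x hx) h4
  have k1 : ∀ x ∈ m.J, l.n * x * l.n⁻¹ = x → x ∈ R := fun x hx h => by
    have := k (cj l.v⁻¹ R) (by rw [← cjs (vy l)]; exact conj_mem_cj.2 hy)
      (by rw [← cjs (show l.v * c3 l * l.v⁻¹ = c1 l from rfl)]; exact conj_mem_cj.2 h1) _ (cjJ (inv_mem (vM l)) hx)
      (by rw [← cjs l.vt]; exact fix_of (cjcomm (of_fix h)))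
    exact conj_mem_cj.1 this
  intro j hj
  obtain ⟨a, ha, i, hi, e1, e2, rfl⟩ := exists_fixed_mul_inverted (O := m.J) (by rw [m.cJ]; decide) l.tt (tM l) hj
  refine mul_mem (k R hy h3 a ha (fix_of e1.symm)) (mem_of_sq (m.J3 i hi) ?_)
  have hn := cjJ (nM l) hi
  have e3 : i * i = i * (l.n * i * l.n⁻¹) * (i * (l.n * i * l.n⁻¹)⁻¹) := by
    rw [mul_assoc, ← mul_assoc _ i, ← m.Jc _ hi _ hn, mul_inv_cancel_right]
  rw [e3]
  refine mul_mem (k1 _ (mul_mem hi hn) ?_) (zpowers_le.2 h2 (mem_c2 l (mul_mem hi (inv_mem hn)) ?_ ?_))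
  · rw [cjm, cj2 l.nn, m.Jc _ hi _ hn]
  · rw [cjm, cji, cjx (nt l).symm, e2, cji, ← mul_inv_rev, m.Jc _ hi _ (inv_mem hn)]
  · rw [cjm, cji, cj2 l.nn, mul_inv_rev, inv_inv]

/-- The stabiliser of `y` in `M₀ / J` is `A₄`. -/
theorem stab (x : m.M0) (h : (x : G) * y l = y l * x) : l.f x ∈ clos [Mc.b0 * Mc.b0, Mc.n0, Mc.v0] := by
  let K := ((centralizer {y l}).subgroupOf m.M0).map l.f
  have k0 : ∀ x : m.M0, (x : G) * y l = y l * x → l.f x ∈ K := fun x h => ⟨x, mem_cen.2 h, rfl⟩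
  have kt : Mc.b0 * Mc.b0 ∈ K := by
    rw [← l.f_b, ← map_mul]; exact k0 _ (by simpa only [coe_mul, l.bb] using of_fix (ty l))
  have kv : Mc.v0 ∈ K := l.f_v ▸ k0 _ (of_fix (vy l))
  have k1 : clos [Mc.b0 * Mc.b0, Mc.n0, Mc.v0] ≤ K := clos_le.2 (by
    simp only [List.forall_mem_cons]
    exact ⟨kt, l.f_n ▸ k0 _ (of_fix (ny l)), kv, by simp⟩)
  have k5 : ∀ g ∈ K, orderOf g ≠ 5 := by
    rintro _ ⟨g, hg, rfl⟩ ho
    have h1 : (g : G) ^ 5 ∈ m.J := (l.f_ker (g ^ 5)).1 (by rw [map_pow, ← ho, pow_orderOf_eq_one])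
    have h2 := Inv.Len.card_modEq (p := 5) (by norm_num) (o3_le _ g.2) (m.cent_J.ge h1)
    have h3 : Nat.card (m.J ⊓ centralizer {(g : G)} : Subgroup G) ∣ 3 ^ 4 := by
      rw [show 3 ^ 4 = 81 from rfl, ← m.cJ]; exact card_dvd_of_le inf_le_left
    obtain ⟨k, hk, e⟩ := (Nat.dvd_prime_pow Nat.prime_three).1 h3
    rw [m.cJ, e] at h2
    have h4 : k ≠ 0 := by
      rintro rfl
      exact y_ne l (mem_bot.1 ((card_eq_one.1 e).le ⟨yJ l, mem_cen.2 (mem_cen.1 hg).symm⟩))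
    obtain rfl : k = 4 := by interval_cases k <;> simp_all [Nat.ModEq]
    have h5 : m.J ⊓ centralizer {(g : G)} = m.J := eq_of_le_of_card_ge inf_le_left (by rw [e, m.cJ]; rfl)
    have h6 : (g : G) ∈ m.J := m.cent_J.le fun j hj => mem_cen.1 (h5.ge hj).2
    rw [(l.f_ker g).2 h6, orderOf_one] at ho
    omega
  have kx := k0 x h
  refine (a6_facts.1 _ (l.f_range ▸ ⟨x, rfl⟩)).resolve_right ?_
  rintro ⟨g, hg, e | e | e | e⟩
  · obtain ⟨r, hr, e'⟩ := e ▸ mul_mem kx (k1 hg)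
    have h1 : (r : G)⁻¹ * l.b ∈ m.J := (l.f_ker (r⁻¹ * ⟨l.b, l.bM⟩)).1 (by rw [map_mul, map_inv, e', l.f_b]; simp)
    have h2 : l.b ∈ centralizer {y l} :=
      (mul_mem_cancel_left (inv_mem (mem_subgroupOf.1 hr))).1 (mem_cen.2 (m.Jc _ h1 _ (yJ l)))
    exact y_ne l (eq_one_of_eq_inv (m.J3 _ (yJ l)) ((mem_cen'.1 h2).symm.trans (by_ l)))
  · exact k5 _ (mul_mem kx (k1 hg)) e
  · exact k5 _ (mul_mem (mul_mem (mul_mem kx kv) (inv_mem kx)) (k1 hg)) e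
  · exact k5 _ (mul_mem (mul_mem (mul_mem kx kt) (inv_mem kx)) (k1 hg)) e

theorem stab_le {R : Subgroup G} (hJ : m.J ≤ R) (ht : l.t ∈ R) (hn : l.n ∈ R) (hv : l.v ∈ R) {x : G}
    (hx : x ∈ m.M0) (h : x * y l = y l * x) : x ∈ R := by
  have k1 : clos [Mc.b0 * Mc.b0, Mc.n0, Mc.v0] ≤ (R.subgroupOf m.M0).map l.f := clos_le.2 (by
    simp only [List.forall_mem_cons]
    exact ⟨⟨⟨l.b, l.bM⟩ * ⟨l.b, l.bM⟩, by simpa only [SetLike.mem_coe, mem_subgroupOf, coe_mul, l.bb] using ht,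
      by rw [map_mul, l.f_b]⟩, ⟨⟨l.n, l.nM⟩, hn, l.f_n⟩, ⟨⟨l.v, l.vM⟩, hv, l.f_v⟩, by simp⟩)
  obtain ⟨r, hr, e⟩ := k1 (stab l ⟨x, hx⟩ h)
  exact (mul_mem_cancel_left (inv_mem hr)).1
    (hJ ((l.f_ker (r⁻¹ * ⟨x, hx⟩)).1 (by rw [map_mul, map_inv, e]; simp)))

theorem not_conj {x : G} (hx : x ∈ m.M0) (h : x * y l * x⁻¹ = c3 l ∨ x * y l * x⁻¹ = (c3 l)⁻¹) : False := by
  have k : ∀ g : m.M0, (g : G) * c3 l * (g : G)⁻¹ = c3 l →
      (l.f ⟨x, hx⟩)⁻¹ * l.f g * l.f ⟨x, hx⟩ ∈ clos [Mc.b0 * Mc.b0, Mc.n0, Mc.v0] := fun g hg => by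
    rw [← map_inv, ← map_mul, ← map_mul]
    refine stab l _ (of_fix ?_)
    have h1 : (g : G) * (x * y l * x⁻¹) * (g : G)⁻¹ = x * y l * x⁻¹ := by
      rcases h with h | h
      · rw [h, hg]
      · rw [h, cji, hg]
    calc _ = x⁻¹ * ((g : G) * (x * y l * x⁻¹) * (g : G)⁻¹) * x := by simp only [coe_mul, coe_inv]; group
      _ = _ := by rw [h1]; group
  refine a6_facts.2.1 (l.f ⟨x, hx⟩) (l.f_range.le ⟨_, rfl⟩) ?_ ?_
  · have := k (⟨l.b, l.bM⟩ * ⟨l.b, l.bM⟩) (by simpa only [coe_mul, l.bb] using tc3 l)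
    rwa [map_mul, l.f_b] at this
  · have := k (⟨l.n, l.nM⟩ * ⟨l.b, l.bM⟩) (by simp only [coe_mul]; rw [cjc (bc3 l), cji, nc3, inv_inv])
    rwa [map_mul, l.f_b, l.f_n] at this

/-- The stabiliser of `y` in `M`. -/
theorem cenM_le {R : Subgroup G} (hJ : m.J ≤ R) (ht : l.t ∈ R) (hn : l.n ∈ R) (hv : l.v ∈ R)
    (hw : l.w ≠ 1 → l.w * l.b ∈ R) {g : G} (hg : g ∈ m.M) (h : g * y l = y l * g) : g ∈ R := by
  have n0 : m.M ≤ normalizer (m.M0 : Set G) := le_norm_o3 _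
  have n1 : l.w ∈ normalizer ((zpowers l.a ⊔ m.M0 : Subgroup G) : Set G) :=
    normalizer_inf_normalizer_le_normalizer_sup _ _
      ⟨cj_eq_iff.1 (by rw [cj_zpowers, fix_of l.wa]), n0 (wM l)⟩
  have h1 : g ∈ zpowers l.w ⊔ (zpowers l.a ⊔ m.M0) := by
    obtain ⟨x, hx, c, hc, rfl⟩ := m.exists_M hg
    obtain ⟨s, hs, τ, hτ, rfl⟩ := l.B_eq c hc
    refine mul_mem (mem_sup_right (mem_sup_right hx)) (mul_mem (mem_sup_right (mem_sup_right (m.S_le_M0 hs)))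
      ((clos_le.2 ?_ : clos _ ≤ _) hτ))
    simp only [List.forall_mem_cons]
    exact ⟨mem_sup_right (mem_sup_left (mem_zpowers _)), mem_sup_right (mem_sup_right l.bM),
      mem_sup_left (mem_zpowers _), by simp⟩
  have a2 : l.a * l.a ∈ m.M0 := l.aa ▸ tM0 l
  have ka : ∀ g : G, l.a⁻¹ * g ∈ m.M0 → g * y l * g⁻¹ = y l ∨ g * y l * g⁻¹ = (y l)⁻¹ → False := fun g h1 h2 => by
    refine not_conj l h1 (h2.imp (fun h2 => ?_) fun h2 => ?_)
    · rw [cjc h2, cjs (ac3 l)]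
    · rw [cjc h2, cji, cjs (ac3 l)]
  rcases mem_sup_two n1 (l.ww ▸ one_mem _) h1 with h2 | h2
  · rcases mem_sup_two (n0 (aM l)) a2 h2 with h3 | h3
    · exact stab_le l hJ ht hn hv h3 h
    · exact (ka g h3 (.inl (fix_of h))).elim
  · rcases l.wJ with e | e
    · rw [e, inv_one, one_mul] at h2
      rcases mem_sup_two (n0 (aM l)) a2 h2 with h3 | h3
      · exact stab_le l hJ ht hn hv h3 h
      · exact (ka g h3 (.inl (fix_of h))).elim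
    · have e1 : l.w⁻¹ * g * y l * (l.w⁻¹ * g)⁻¹ = (y l)⁻¹ := by
        rw [cjc (fix_of h), inv_eq_of_mul_eq_one_left l.ww, ← e _ (yJ l), inv_eq_of_mul_eq_one_left l.ww]
      rcases mem_sup_two (n0 (aM l)) a2 h2 with h3 | h3
      · have h4 : l.w ≠ 1 := fun h4 => y_ne l (eq_one_of_eq_inv (m.J3 _ (yJ l)) (by simpa [h4] using e _ (yJ l)))
        refine (mul_mem_cancel_left (inv_mem (hw h4))).1 ?_
        rw [mul_inv_rev, mul_assoc]
        refine stab_le l hJ ht hn hv (mul_mem (inv_mem l.bM) h3) (of_fix ?_)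
        rw [cjc e1, cjs (by_ l)]
      · exact (ka _ h3 (.inr e1)).elim

end Cfsg.Agent.T16.Y
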