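import Mathlib
import Cfsg.Agent.T16.YA

/-! Borel subgroups of the two 3-local subgroups of the McLaughlin configuration. -/

set_option autoImplicit false
set_option linter.unusedSectionVars false

namespace Cfsg.Agent.T16.LB

open Cfsg.Agent.Rec Cfsg.Agent.Inv.Fz Subgroup Mc
open A9 (cjm cjc cjs cjcomm cjp)
open Y (cj2 cji fix_of of_fix mem_of_sq)

universe u

variable {G : Type u} [Group G]

section Im

variable {K : Subgroup G} {X : Type*} [Group X] {f : K →* X} {x y : G} {p q : X}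

/-- `x` lies in the domain of `f` and has the image `p`. -/
def Im (f : K →* X) (x : G) (p : X) : Prop := ∃ h : x ∈ K, f ⟨x, h⟩ = p

theorem Im.mem (h : Im f x p) : x ∈ K := h.1
theorem Im.mul (h : Im f x p) (h' : Im f y q) : Im f (x * y) (p * q) :=
  ⟨mul_mem h.1 h'.1, by rw [← h.2, ← h'.2, ← map_mul]; rfl⟩
theorem Im.inv (h : Im f x p) : Im f x⁻¹ p⁻¹ := ⟨inv_mem h.1, by rw [← h.2, ← map_inv]; rfl⟩
theorem Im.pow (h : Im f x p) (k : ℕ) : Im f (x ^ k) (p ^ k) := ⟨pow_mem h.1 k, by rw [← h.2, ← map_pow]; rfl⟩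
theorem Im.cj (h : Im f x p) (h' : Im f y q) : Im f (x * y * x⁻¹) (p * q * p⁻¹) := (h.mul h').mul h.inv
theorem Im.eq (h : Im f x p) (h' : Im f x q) : p = q := h.2.symm.trans h'.2
theorem Im.of_eq (h : Im f x p) (e : p = q) : Im f x q := e ▸ h
theorem im_of (f : K →* X) (h : x ∈ K) : Im f x (f ⟨x, h⟩) := ⟨h, rfl⟩

end Im

variable [Finite G]

instance : Fact (Nat.Prime 3) := ⟨Nat.prime_three⟩

theorem borel {S T K N : Subgroup G} (hS : IsSylIn 3 S ⊤) (hT : T ≤ normalizer (S : Set G))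
    (hST : ∀ x ∈ S, x ∈ T → x = 1) (hB : ∀ g ∈ normalizer (S : Set G), ∃ s ∈ S, ∃ τ ∈ T, g = s * τ)
    (hSK : S ≤ K) (hNS : N ≤ S) {X : Type*} [Group X] [Finite X] {H P : Subgroup X} (hP : IsPGroup 3 P) (hPH : P ≤ H)
    {b0 : X} (hb : b0 ∈ H) (h4 : b0 ^ 4 = 1) (hbP : ∀ p ∈ P, b0 * p * b0⁻¹ ∈ P)
    (hN : ∀ g ∈ H, (∀ p ∈ P, g * p * g⁻¹ ∈ P) → ∃ k : ℕ, g * (b0 ^ k)⁻¹ ∈ P)
    (hf : ∀ p ∈ P, ∃ c ∈ P, c * (p * b0) * c⁻¹ = b0) {f0 : K →* X} (hr : f0.range = H)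
    (hk : ∀ x, f0 x = 1 ↔ (x : G) ∈ N) :
    ∃ f : K →* X, f.range = H ∧ (∀ x, f x = 1 ↔ (x : G) ∈ N) ∧ (∀ x : K, (x : G) ∈ S ↔ f x ∈ P) ∧
      ∃ b ∈ T, Im f b b0 ∧ ∀ τ ∈ T, τ ∈ K → ∃ k : ℕ, τ = b ^ k := by
  have hPs : IsSylIn 3 P H := ⟨hPH, hP, fun R hR hRH hPR => by_contra fun hne => by
    obtain ⟨g, hg, hgP⟩ := SetLike.exists_of_lt (lt_inf_normalizer hR (lt_of_le_of_ne hPR (Ne.symm hne)))
    obtain ⟨k, hk⟩ := hN g (hRH hg.1) fun p hp => conj_mem_of_mem_norm hg.2 hp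
    have h1 : b0 ^ k ∈ R := inv_mem_iff.1 ((R.mul_mem_cancel_left hg.1).1 (hPR hk))
    obtain ⟨j, hj⟩ := hR ⟨_, h1⟩
    have h2 : b0 ^ k = 1 := orderOf_eq_one_iff.1 (Nat.eq_one_of_dvd_coprimes
      (Nat.Coprime.pow_left j (by norm_num : Nat.Coprime 3 4)) (orderOf_dvd_of_pow_eq_one (congrArg Subtype.val hj))
      (orderOf_dvd_of_pow_eq_one (by rw [← pow_mul, mul_comm, pow_mul, h4, one_pow])))
    rw [h2, inv_one, mul_one] at hk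
    exact hgP hk⟩
  have A : ∀ {f : K →* X} {c : X}, c ∈ H → f.range = H → (∀ x, f x = 1 ↔ (x : G) ∈ N) →
      ∃ f' : K →* X, f'.range = H ∧ (∀ x, f' x = 1 ↔ (x : G) ∈ N) ∧ ∀ x, f' x = c * f x * c⁻¹ := by
    intro f c hc hr hk
    refine ⟨(MulAut.conj c).toMonoidHom.comp f, ?_, fun x => conj_eq_one.trans (hk x), fun _ => rfl⟩
    rw [MonoidHom.range_comp, hr]; exact cj_eq_of_mem hc
  have B : ∀ {f : K →* X}, (∀ x, f x = 1 ↔ (x : G) ∈ N) → (∀ x : K, (x : G) ∈ S → f x ∈ P) →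
      ∀ x : K, (x : G) ∈ S ↔ f x ∈ P := by
    intro f hk h x
    refine ⟨h x, fun hx => ?_⟩
    have h1 : IsPGroup 3 ((P.comap f).map K.subtype) := by
      rintro ⟨_, y, hy, rfl⟩
      obtain ⟨i, hi⟩ := hP ⟨_, hy⟩
      obtain ⟨j, hj⟩ := hS.isPGroup ⟨_, hNS ((hk (y ^ 3 ^ i)).1 (by rw [map_pow]; exact congrArg Subtype.val hi))⟩
      have h2 := congrArg Subtype.val hj
      exact ⟨i + j, Subtype.ext (by rw [pow_add, pow_mul]; exact h2)⟩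
    exact (hS.eq_of_le h1 le_top fun s hs => ⟨⟨s, hSK hs⟩, h _ hs, rfl⟩).le ⟨x, hx, rfl⟩
  obtain ⟨c, hc, h1⟩ := hPs.exists_cj_le (hS.isPGroup.comap_subtype.map f0 : IsPGroup 3 ((S.subgroupOf K).map f0))
    (hr ▸ map_le_range _ _)
  obtain ⟨f1, r1, k1, e1⟩ := A hc hr hk
  have s1 := B k1 fun x hx => e1 x ▸ cj_le_iff.1 h1 _ ⟨x, hx, rfl⟩
  obtain ⟨x, hx⟩ : b0 ∈ f1.range := r1 ▸ hb
  obtain ⟨s, hs, b, hb, e⟩ := hB x (mem_normalizer_of_conj_mem fun s hs => (s1 (x * ⟨s, hSK hs⟩ * x⁻¹)).2 (by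
    rw [map_mul, map_mul, map_inv, hx]; exact hbP _ ((s1 _).1 hs)))
  have hbK : b ∈ K := (mul_mem_cancel_left (hSK hs)).1 (e ▸ x.2)
  obtain ⟨c', hc', h2⟩ := hf _ ((s1 ⟨s, hSK hs⟩⁻¹).1 (inv_mem hs))
  obtain ⟨f, r, k, e2⟩ := A (hPH hc') r1 k1
  have s2 := B k fun x hx => e2 x ▸ mul_mem (mul_mem hc' ((s1 x).1 hx)) (inv_mem hc')
  have h3 : Im f b b0 := ⟨hbK, by
    rw [e2, ← h2, ← hx, ← map_mul]
    exact congrArg (fun y => c' * f1 y * c'⁻¹) (Subtype.ext (by simp [e]))⟩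
  refine ⟨f, r, k, s2, b, hb, h3, fun τ hτ hK => ?_⟩
  obtain ⟨j, hj⟩ := hN (f ⟨τ, hK⟩) (r ▸ ⟨_, rfl⟩) fun p hp => by
    obtain ⟨y, rfl⟩ : p ∈ f.range := r ▸ hPH hp
    rw [← map_inv, ← map_mul, ← map_mul]
    exact (s2 _).1 (conj_mem_of_mem_norm (hT hτ) ((s2 y).2 hp))
  obtain ⟨h4, h5⟩ := (im_of f hK).mul (h3.pow j).inv
  exact ⟨j, mul_inv_eq_one.1 (hST _ ((s2 _).2 (h5 ▸ hj)) (mul_mem hτ (inv_mem (pow_mem hb j))))⟩

theorem exists_T {S : Subgroup G} (hS : IsSylIn 3 S ⊤) : ∃ T ≤ normalizer (S : Set G),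
    (∀ x ∈ S, x ∈ T → x = 1) ∧ ∀ g ∈ normalizer (S : Set G), ∃ s ∈ S, ∃ τ ∈ T, g = s * τ := by
  obtain ⟨k, hk⟩ := IsPGroup.iff_card.1 (hS.isPGroup.comap_subtype (K := normalizer (S : Set G)))
  obtain ⟨H, hH⟩ := exists_right_complement'_of_coprime (N := S.subgroupOf (normalizer (S : Set G))) (by
    rw [subgroupOf, hk]
    exact Nat.Coprime.pow_left k ((Nat.Prime.coprime_iff_not_dvd Nat.prime_three).2
      (hS.mono le_normalizer le_top).not_dvd_relIndex))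
  refine ⟨H.map (normalizer (S : Set G)).subtype, map_subtype_le _, ?_, fun g hg => ?_⟩
  · rintro _ hx ⟨x, hx', rfl⟩
    exact congrArg Subtype.val (disjoint_def.1 hH.disjoint hx hx')
  · obtain ⟨⟨s, τ⟩, e⟩ := hH.2 ⟨g, hg⟩
    exact ⟨s, s.2, τ, ⟨τ, τ.2, rfl⟩, (congrArg Subtype.val e).symm⟩

/-- Membership in `⟨(0 1 2), (3 4 5)⟩`. -/
def InP (x : Equiv.Perm (Fin 6)) : Prop := ∃ i j : Fin 3, x = p1 ^ (i : ℕ) * p2 ^ (j : ℕ)

instance : DecidablePred InP := fun x =>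
  inferInstanceAs (Decidable (∃ i j : Fin 3, x = p1 ^ (i : ℕ) * p2 ^ (j : ℕ)))

theorem InP.ind {R : Equiv.Perm (Fin 6) → Prop} (h : ∀ i j : Fin 3, R (p1 ^ (i : ℕ) * p2 ^ (j : ℕ)))
    {x : Equiv.Perm (Fin 6)} (hx : InP x) : R x := by obtain ⟨i, j, rfl⟩ := hx; exact h i j

theorem mem_P {x : Equiv.Perm (Fin 6)} : x ∈ clos [p1, p2] ↔ InP x := by
  refine ⟨fun h => ?_, InP.ind fun i j =>
    mul_mem (pow_mem (mem_clos (by simp)) _) (pow_mem (mem_clos (by simp)) _)⟩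
  induction h using closure_induction with
  | mem x hx =>
    simp only [List.mem_cons, List.not_mem_nil, or_false, Set.mem_ofPred_eq] at hx
    rcases hx with rfl | rfl <;> decide +kernel
  | one => decide +kernel
  | mul x y h1 h2 hx hy =>
    clear h1 h2
    obtain ⟨i, j, rfl⟩ := hx
    obtain ⟨k, l, rfl⟩ := hy
    revert i j k l; decide +kernel
  | inv x _ hx => exact hx.ind (R := fun x => InP x⁻¹) (by decide +kernel)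

theorem normP : ∀ g : Equiv.Perm (Fin 6), InP (g * p1 * g⁻¹) → InP (g * p2 * g⁻¹) → Equiv.Perm.sign g = 1 →
    ∃ k : Fin 4, InP (g * (b0 ^ (k : ℕ))⁻¹) := by decide +kernel

theorem inP1 : InP p1 := by decide +kernel
theorem inP2 : InP p2 := by decide +kernel

/-- An element of order 3 of `SL₂(5)`. -/
def u0 : SL25 := ⟨!![0, -1; 1, -1], by decide⟩

theorem normU : ∃ a : SL25, a * a = -1 ∧ a * u0 * a⁻¹ = u0⁻¹ ∧ a ^ 4 = 1 ∧ u0 ^ 3 = 1 ∧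
    u0 * (u0 * a) * u0⁻¹ = a ∧ u0⁻¹ * (u0⁻¹ * a) * u0⁻¹⁻¹ = a ∧
    ∀ g : SL25, (g * u0 * g⁻¹ = 1 ∨ g * u0 * g⁻¹ = u0 ∨ g * u0 * g⁻¹ = u0⁻¹) →
      ∃ k : Fin 4, ∃ i : Fin 3, g * (a ^ (k : ℕ))⁻¹ = u0 ^ (i : ℕ) := by decide +kernel

/-- A complement `T` of `S` in its normaliser and generators of `T ∩ L₀`, `T ∩ M₀`. -/
structure Pre (m : Mc G) where
  T : Subgroup G
  TB : T ≤ m.B
  ST : ∀ x ∈ m.S, x ∈ T → x = 1
  dec : ∀ g ∈ m.B, ∃ s ∈ m.S, ∃ τ ∈ T, g = s * τ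
  f : m.M0 →* Equiv.Perm (Fin 6)
  f_range : f.range = alternatingGroup (Fin 6)
  f_ker : ∀ x, f x = 1 ↔ (x : G) ∈ m.J
  f_S : ∀ x : m.M0, (x : G) ∈ m.S ↔ f x ∈ clos [p1, p2]
  b : G
  bT : b ∈ T
  fb : Im f b b0
  TM : ∀ τ ∈ T, τ ∈ m.M0 → ∃ k : ℕ, τ = b ^ k
  a : G
  aT : a ∈ T
  aL : a ∈ m.L0
  TL : ∀ τ ∈ T, τ ∈ m.L0 → ∃ k : ℕ, τ = a ^ k
  a4 : a ^ 4 = 1
  aS : ∀ s ∈ m.S, a * s * a⁻¹ * s ∈ m.Q
  tQ : ∀ q ∈ m.Q, a * a * q * (a * a)⁻¹ * q ∈ m.Z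
  tL : ∀ x ∈ m.L0, a * a * x * (a * a)⁻¹ * x⁻¹ ∈ m.Q

theorem exists_pre (m : Mc G) : Nonempty (Pre m) := by
  obtain ⟨T, hT, hST, hB⟩ := exists_T m.syl
  obtain ⟨f0, hf0, k0⟩ := m.eM
  obtain ⟨g0, hg0, l0⟩ := m.eL
  obtain ⟨f, fr, fk, fS, b, bT, fb, TM⟩ := borel m.syl hT hST hB m.S_le_M0 m.JS (H := alternatingGroup (Fin 6))
    (P := clos [p1, p2]) (b0 := b0)
    (fun x => ⟨1, Subtype.ext ((mem_P.1 x.2).ind (R := fun x => x ^ 3 ^ 1 = 1) (by decide +kernel))⟩)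
    (fun x hx => (mem_P.1 hx).ind (R := fun x => Equiv.Perm.sign x = 1) (by decide +kernel))
    (Equiv.Perm.mem_alternatingGroup.2 (by decide +kernel)) (by decide +kernel)
    (fun p hp => mem_P.2 ((mem_P.1 hp).ind (R := fun p => InP (b0 * p * b0⁻¹)) (by decide +kernel)))
    (fun g hg h => (normP g (mem_P.1 (h _ (mem_P.2 inP1))) (mem_P.1 (h _ (mem_P.2 inP2))) hg).elim
      fun k hk => ⟨k, mem_P.2 hk⟩)
    (fun p hp => by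
      obtain ⟨i, j, h⟩ := (mem_P.1 hp).ind (R := fun p => ∃ i j : Fin 3,
        p1 ^ (i : ℕ) * p2 ^ (j : ℕ) * (p * b0) * (p1 ^ (i : ℕ) * p2 ^ (j : ℕ))⁻¹ = b0) (by decide +kernel)
      exact ⟨_, mem_P.2 ⟨i, j, rfl⟩, h⟩)
    (f0 := (alternatingGroup (Fin 6)).subtype.comp f0)
    (by rw [MonoidHom.range_comp, MonoidHom.range_eq_top.2 hf0, ← MonoidHom.range_eq_map, range_subtype])
    (fun x => (OneMemClass.coe_eq_one (x := f0 x)).trans (k0 x))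
  obtain ⟨a0, h1, h2, h3, h4, h5, h6, h7⟩ := normU
  have hU : ∀ p ∈ zpowers u0, a0 * p * a0⁻¹ = p⁻¹ := by
    rintro _ ⟨k, rfl⟩
    rw [← conj_zpow, h2, inv_zpow]
  obtain ⟨g, gr, gk, gS, a, aT, ga, TL⟩ := borel m.syl hT hST hB m.S_le_L0 m.QS (H := ⊤) (P := zpowers u0) (b0 := a0)
    (IsPGroup.of_card (n := 1) (by rw [Nat.card_zpowers, orderOf_eq_prime h4 (by decide +kernel)]; rfl))
    le_top (mem_top _) h3 (fun p hp => hU p hp ▸ inv_mem hp)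
    (fun x _ h => by
      obtain ⟨k, i, e⟩ := h7 x (mem_zpowers_three h4 (h _ (mem_zpowers _)))
      exact ⟨k, e ▸ pow_mem (mem_zpowers _) _⟩)
    (fun p hp => by
      rcases mem_zpowers_three h4 hp with rfl | rfl | rfl
      · exact ⟨1, one_mem _, by group⟩
      · exact ⟨_, hp, h5⟩
      · exact ⟨_, hp, h6⟩) (MonoidHom.range_eq_top.2 hg0) l0
  have gQ : ∀ {x : G}, Im g x 1 → x ∈ m.Q := fun h => (gk ⟨_, h.1⟩).1 h.2
  have gt := (ga.mul ga).of_eq h1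
  exact ⟨{
    T := T, TB := hT, ST := hST, dec := hB, f := f, f_range := fr, f_ker := fk, f_S := fS, b := b, bT := bT
    fb := fb, TM := TM, a := a, aT := aT, aL := ga.mem, TL := TL
    a4 := hST _ (m.QS (gQ ((ga.pow 4).of_eq h3))) (pow_mem aT 4)
    aS := fun s hs => gQ (((ga.cj (im_of g (m.S_le_L0 hs))).mul (im_of g (m.S_le_L0 hs))).of_eq (by
      rw [hU _ ((gS _).1 hs), inv_mul_cancel]))
    tQ := m.inv_of_neg (MonoidHom.range_eq_top.1 gr) gk (x := ⟨_, gt.1⟩) gt.2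
    tL := fun x hx => gQ (((gt.cj (im_of g hx)).mul (im_of g hx).inv).of_eq (by simp)) }⟩

end Cfsg.Agent.T16.LB
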