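import Mathlib
import Cfsg.Agent.T16.McLB0

/-! The action of the complement `T` on `S / J`. -/

set_option autoImplicit false
set_option linter.unusedSectionVars false

namespace Cfsg.Agent.T16.LB

open Cfsg.Agent.Rec Cfsg.Agent.Inv.Fz Subgroup Mc
open A9 (cjm cjc cjs cjcomm cjp)
open Y (cj2 cji fix_of of_fix mem_of_sq)

universe u

variable {G : Type u} [Group G] [Finite G] {m : Mc G}

theorem cjJ {g x : G} (hg : g ∈ m.M) (hx : x ∈ m.J) : g * x * g⁻¹ ∈ m.J := conj_mem_of_mem_norm hg hx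
theorem cjS {g x : G} (hg : g ∈ m.B) (hx : x ∈ m.S) : g * x * g⁻¹ ∈ m.S := conj_mem_of_mem_norm hg hx
theorem B_le_L : m.B ≤ m.L := m.B_eq.le.trans inf_le_right
theorem S_le_M : m.S ≤ m.M := le_normalizer.trans m.B_le_M
theorem Z_le_J : m.Z ≤ m.J := zpowers_le.2 m.z_mem_J
theorem Z_le_Q : m.Z ≤ m.Q := zpowers_le.2 m.z_mem_Q
theorem cjM0 {g x : G} (hg : g ∈ m.M) (hx : x ∈ m.M0) : g * x * g⁻¹ ∈ m.M0 :=
  conj_mem_of_mem_norm (Y.le_norm_o3 _ hg) hx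
theorem cjL0 {g x : G} (hg : g ∈ m.L) (hx : x ∈ m.L0) : g * x * g⁻¹ ∈ m.L0 :=
  conj_mem_of_mem_norm (Y.le_norm_o3 _ hg) hx
theorem memJ_of {g : G} (h : ∀ j ∈ m.J, g * j * g⁻¹ = j) : g ∈ m.J :=
  m.cent_J.le fun j hj => (of_fix (h j hj)).symm

theorem z_cases {g : G} (hg : g ∈ m.L) : g * m.z * g⁻¹ = m.z ∨ g * m.z * g⁻¹ = m.z⁻¹ :=
  (mem_zpowers_three m.z_cube (m.cj_Z hg (mem_zpowers _))).resolve_left fun h => m.esz.z_ne_one (conj_eq_one.1 h)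

theorem z_sq {g : G} (hg : g ∈ m.L) : g * g * m.z * (g * g)⁻¹ = m.z := by
  rcases z_cases hg with h | h
  · rw [cjc h, h]
  · rw [cjc h, cji, h, inv_inv]

theorem mem_L_of_mem {g : G} (h : g * m.z * g⁻¹ ∈ m.Z) : g ∈ m.L :=
  cj_eq_iff.1 (cj_eq_of_le (by rw [cj_zpowers]; exact zpowers_le.2 h))

/-- The elements of `N(S)` that centralise `S / J`. -/
def C0 (m : Mc G) : Subgroup G where
  carrier := {τ | τ ∈ m.B ∧ ∀ s ∈ m.S, τ * s * τ⁻¹ * s⁻¹ ∈ m.J}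
  mul_mem' := fun {a b} ha hb => ⟨mul_mem ha.1 hb.1, fun s hs => by
    have := mul_mem (cjJ (m.B_le_M ha.1) (hb.2 s hs)) (ha.2 s hs)
    convert this using 1; group⟩
  one_mem' := ⟨one_mem _, fun s _ => by simp⟩
  inv_mem' := fun {a} ha => ⟨inv_mem ha.1, fun s hs => by
    have := cjJ (inv_mem (m.B_le_M ha.1)) (inv_mem (ha.2 s hs))
    convert this using 1; group⟩

theorem chain {τ : G} (hτ : τ ∈ C0 m) {e : ℤ} (hz : τ * m.z * τ⁻¹ * m.z ^ e = 1) :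
    (∀ c ∈ m.Z, τ * c * τ⁻¹ * c ^ e = 1) ∧ (∀ w ∈ m.W, τ * w * τ⁻¹ * w ^ e ∈ m.Z) ∧
      ∀ j ∈ m.J, τ * j * τ⁻¹ * j ^ e ∈ m.W := by
  have hM := m.B_le_M hτ.1
  let δ : G → G := fun j => τ * j * τ⁻¹ * j ^ e
  have hJ : ∀ j ∈ m.J, δ j ∈ m.J := fun j hj => mul_mem (cjJ hM hj) (zpow_mem hj e)
  have hmul : ∀ x ∈ m.J, ∀ y ∈ m.J, δ (x * y) = δ x * δ y := fun x hx y hy => by
    have h1 : Commute x y := m.Jc x hx y hy
    have h2 := m.Jc _ (cjJ hM hy) _ (zpow_mem hx e)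
    simp only [δ]
    rw [h1.mul_zpow, cjm, mul_assoc, ← mul_assoc (τ * y * τ⁻¹), h2]; group
  have hq : ∀ q ∈ m.Q, ∀ j ∈ m.J, q * δ j * q⁻¹ = δ (q * j * q⁻¹) := fun q hq j hj => by
    have h1 := m.Jc _ (hτ.2 q (m.QS hq)) _ (cjJ (S_le_M (m.QS hq)) (cjJ hM hj))
    simp only [δ]
    rw [cjm, conj_zpow]
    congr 1
    calc _ = τ * q * τ⁻¹ * q⁻¹ * (q * (τ * j * τ⁻¹) * q⁻¹) * (τ * q * τ⁻¹ * q⁻¹)⁻¹ := by rw [h1]; group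
      _ = _ := by group
  have h0 : ∀ c ∈ m.Z, δ c = 1 := by
    rintro _ ⟨k, rfl⟩
    simp only [δ]
    rw [← conj_zpow, eq_inv_of_mul_eq_one_left hz, ← zpow_mul, ← zpow_neg, ← zpow_mul, ← zpow_add]
    simp [mul_comm]
  have key : ∀ q ∈ m.Q, ∀ j ∈ m.J, q * δ j * q⁻¹ * (δ j)⁻¹ = δ (q * j * q⁻¹ * j⁻¹) := fun q h j hj => by
    rw [hq q h j hj, mul_inv_eq_iff_eq_mul, ← hmul _ (m.comm_QJ q h j hj).1 j hj, inv_mul_cancel_right]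
  have h1 : ∀ w ∈ m.W, δ w ∈ m.Z := fun w hw => by
    refine m.zQ.le ⟨m.Q.mul_mem (m.cj_Q (B_le_L hτ.1) hw.2) (m.Q.zpow_mem hw.2 e), fun q hq =>
      of_fix (mul_inv_eq_one.1 ?_)⟩
    rw [key q hq w hw.1]; exact h0 _ (m.Qc q hq w hw.2)
  refine ⟨h0, h1, fun j hj => ⟨hJ j hj, m.mem_Q fun q hq => inv_mem_iff.1 ?_⟩⟩
  have := h1 _ (m.comm_QJ q hq j hj)
  rw [← key q hq j hj] at this
  convert this using 1
  simp only [δ]; group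

namespace Pre

variable (d : Pre m)

theorem TJ {τ : G} (h : τ ∈ d.T) (hJ : τ ∈ m.J) : τ = 1 := d.ST τ (m.JS hJ) h
theorem TM' {τ : G} (h : τ ∈ d.T) : τ ∈ m.M := m.B_le_M (d.TB h)
theorem TL' {τ : G} (h : τ ∈ d.T) : τ ∈ m.L := B_le_L (d.TB h)

theorem T3 {τ : G} (h : τ ∈ d.T) (h3 : τ ^ 3 = 1) : τ = 1 := by
  have h1 : IsPGroup 3 (zpowers τ) := by
    obtain ⟨k, -, hk⟩ := (Nat.dvd_prime_pow Nat.prime_three (m := 1)).1 (orderOf_dvd_of_pow_eq_one h3)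
    exact IsPGroup.of_card (n := k) (by rw [Nat.card_zpowers, hk])
  exact d.ST τ ((m.syl.eq_of_le (m.syl.isPGroup.to_sup_of_normal_left' h1 (zpowers_le.2 (d.TB h))) le_top
    le_sup_left).le (mem_sup_right (mem_zpowers τ))) h

theorem eq_one {τ : G} (h : τ ∈ d.T) (h0 : τ ∈ C0 m) (hz : τ * m.z * τ⁻¹ = m.z) : τ = 1 := by
  obtain ⟨h1, h2, h3⟩ := chain h0 (e := -1) (by rw [hz]; simp)
  simp only [zpow_neg_one] at h1 h2 h3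
  refine d.T3 h (d.TJ (pow_mem h 3) (memJ_of fun j hj => ?_))
  obtain ⟨w, hw, e1⟩ : ∃ w ∈ m.W, τ * j * τ⁻¹ = w * j := ⟨_, h3 j hj, by group⟩
  obtain ⟨c, hc, e2⟩ : ∃ c ∈ m.Z, τ * w * τ⁻¹ = c * w := ⟨_, h2 w hw, by group⟩
  have e3 : τ * c * τ⁻¹ = c := mul_inv_eq_one.1 (h1 c hc)
  have e4 : Commute w c := m.Jc _ hw.1 _ (Z_le_J hc)
  calc τ ^ 3 * j * (τ ^ 3)⁻¹ = τ * (τ * (τ * j * τ⁻¹) * τ⁻¹) * τ⁻¹ := by
        simp only [pow_succ, pow_zero, one_mul]; group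
    _ = c ^ 3 * w ^ 3 * j := by
        simp only [e1, cjm τ w, cjm τ c, cjm τ (c * w), e2, e3, pow_succ, pow_zero, one_mul]
        simp only [mul_assoc, e4.left_comm]
    _ = j := by rw [m.J3 c (Z_le_J hc), m.J3 w hw.1]; group

theorem inv_J {τ : G} (h : τ ∈ d.T) (h0 : τ ∈ C0 m) (h1 : τ ≠ 1) : τ * τ = 1 ∧ ∀ j ∈ m.J, τ * j * τ⁻¹ = j⁻¹ := by
  have hz := (z_cases (d.TL' h)).resolve_left fun e => h1 (d.eq_one h h0 e)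
  have h2 := d.eq_one (mul_mem h h) (mul_mem h0 h0) (z_sq (d.TL' h))
  obtain ⟨h3, h4, h5⟩ := chain h0 (e := 1) (by rw [hz]; simp)
  simp only [zpow_one] at h3 h4 h5
  refine ⟨h2, fun j hj => eq_inv_of_mul_eq_one_left ?_⟩
  have h6 : τ * (τ * j * τ⁻¹ * j) * τ⁻¹ = τ * j * τ⁻¹ * j := by
    rw [cjm, cj2 h2, m.Jc _ hj _ (cjJ (d.TM' h) hj)]
  have h7 := m.J3 _ (h5 j hj).1
  have h8 := h3 _ (mem_of_sq h7 (by simpa only [h6] using h4 _ (h5 j hj)))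
  rw [h6] at h8
  exact eq_one_of_eq_inv h7 (eq_inv_of_mul_eq_one_left h8)

theorem exists_w : ∃ w ∈ d.T, w * w = 1 ∧ (w = 1 ∨ ∀ j ∈ m.J, w * j * w⁻¹ = j⁻¹) ∧
    ∀ τ ∈ d.T, τ ∈ C0 m → τ = 1 ∨ τ = w := by
  by_cases h : ∃ w ∈ d.T, w ∈ C0 m ∧ w ≠ 1
  · obtain ⟨w, h1, h2, h3⟩ := h
    obtain ⟨h4, h5⟩ := d.inv_J h1 h2 h3
    refine ⟨w, h1, h4, .inr h5, fun τ h6 h7 => or_iff_not_imp_left.2 fun h8 => ?_⟩
    have := d.TJ (mul_mem h6 h1) (memJ_of fun j hj => by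
      rw [cjc (h5 j hj), (d.inv_J h6 h7 h8).2 _ (inv_mem hj), inv_inv])
    rw [eq_inv_of_mul_eq_one_left this, inv_eq_of_mul_eq_one_left h4]
  · exact ⟨1, one_mem _, mul_one _, .inl rfl, fun τ h1 h2 => .inl (by_contra fun h3 => h ⟨τ, h1, h2, h3⟩)⟩

theorem memJ {x : G} (h : Im d.f x 1) : x ∈ m.J := (d.f_ker ⟨_, h.1⟩).1 h.2
theorem imJ {x : G} (h : x ∈ m.J) : Im d.f x 1 := ⟨m.S_le_M0 (m.JS h), (d.f_ker _).2 h⟩
theorem memS {x : G} {p : Equiv.Perm (Fin 6)} (h : Im d.f x p) (hp : InP p) : x ∈ m.S :=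
  (d.f_S ⟨_, h.1⟩).2 (h.2 ▸ mem_P.2 hp)
theorem inP {x : G} {p : Equiv.Perm (Fin 6)} (h : Im d.f x p) (hx : x ∈ m.S) : InP p :=
  mem_P.1 (h.2 ▸ (d.f_S ⟨_, h.1⟩).1 hx)
theorem imS {x : G} (h : x ∈ m.S) : ∃ i j : Fin 3, Im d.f x (p1 ^ (i : ℕ) * p2 ^ (j : ℕ)) := by
  obtain ⟨i, j, e⟩ := d.inP (im_of d.f (m.S_le_M0 h)) h
  exact ⟨i, j, (im_of d.f _).of_eq e⟩
theorem lift {p : Equiv.Perm (Fin 6)} (h : Equiv.Perm.sign p = 1) : ∃ x, Im d.f x p := by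
  obtain ⟨x, hx⟩ : p ∈ d.f.range := d.f_range ▸ h
  exact ⟨x, x.2, hx⟩

/-- The involution of `T ∩ L₀`. -/
def t : G := d.a * d.a

theorem tT : d.t ∈ d.T := mul_mem d.aT d.aT
theorem tt : d.t * d.t = 1 := by rw [← d.a4, t]; simp only [pow_succ, pow_zero, one_mul, mul_assoc]
theorem az : d.a * m.z * d.a⁻¹ = m.z := fix_of (mem_cen.1 (m.L0_le d.aL))
theorem tz : d.t * m.z * d.t⁻¹ = m.z := z_sq (d.TL' d.aT)

theorem tS {s : G} (hs : s ∈ m.S) : d.t * s * d.t⁻¹ * s ∈ m.J := by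
  obtain ⟨q, hq, j, hj, rfl⟩ := (mem_sup_iff_of_le_normalizer (m.QS.trans S_le_M)).1 (m.sup_QJ.ge hs)
  have := mul_mem (mul_mem (Z_le_J (d.tQ q hq)) (cjJ (inv_mem (S_le_M (m.QS hq))) (cjJ (d.TM' d.tT) hj))) hj
  convert this using 1
  rw [t]; group

theorem bb : d.b * d.b = d.t := by
  have h1 : d.b * d.b * d.t ∈ C0 m := ⟨d.TB (mul_mem (mul_mem d.bT d.bT) d.tT), fun s hs => by
    obtain ⟨i, j, h⟩ := d.imS hs
    have h2 := d.memJ ((((d.fb.mul d.fb).cj h.inv).mul h.inv).of_eq (by clear h; revert i j; decide +kernel))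
    have := mul_mem (cjJ (d.TM' (mul_mem d.bT d.bT)) (d.tS hs)) h2
    convert this using 1; group⟩
  have := d.eq_one (mul_mem (mul_mem d.bT d.bT) d.tT) h1 (by rw [cjc d.tz, z_sq (d.TL' d.bT)])
  rw [eq_inv_of_mul_eq_one_left this, inv_eq_of_mul_eq_one_left d.tt]

theorem ft : Im d.f d.t (b0 * b0) := d.bb ▸ d.fb.mul d.fb
theorem t_ne : d.t ≠ 1 := fun h => absurd (d.ft.eq (d.imJ (h ▸ one_mem _))) (by decide +kernel)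
theorem b4 : d.b ^ 4 = 1 := by rw [← d.tt, ← d.bb]; simp only [pow_succ, pow_zero, one_mul, mul_assoc]

theorem norm4 {x y : G} (h4 : x ^ 4 = 1) (h2 : y * y ≠ 1) (hy : ∃ k : ℕ, y = x ^ k) : y = x ∨ y = x⁻¹ := by
  obtain ⟨k, rfl⟩ := hy
  rw [pow_eq_pow_mod k h4] at h2 ⊢
  have : k % 4 < 4 := Nat.mod_lt _ (by norm_num)
  generalize k % 4 = r at *
  interval_cases r
  · simp at h2
  · simp
  · exact absurd ((pow_add x 2 2).symm.trans h4) h2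
  · exact .inr (eq_inv_of_mul_eq_one_left ((pow_succ x 3).symm.trans h4))

theorem cj_b {τ : G} (h : τ ∈ d.T) : τ * d.b * τ⁻¹ = d.b ∨ τ * d.b * τ⁻¹ = d.b⁻¹ :=
  norm4 d.b4 (by rw [← cjm, d.bb]; exact fun e => d.t_ne (conj_eq_one.1 e))
    (d.TM _ (mul_mem (mul_mem h d.bT) (inv_mem h)) (cjM0 (d.TM' h) d.fb.mem))

theorem cj_a {τ : G} (h : τ ∈ d.T) : τ * d.a * τ⁻¹ = d.a ∨ τ * d.a * τ⁻¹ = d.a⁻¹ :=
  norm4 d.a4 (by rw [← cjm]; exact fun e => d.t_ne (conj_eq_one.1 e))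
    (d.TL _ (mul_mem (mul_mem h d.aT) (inv_mem h)) (cjL0 (d.TL' h) d.aL))

theorem act {τ s1 s : G} {x : Equiv.Perm (Fin 6)} {i j : ℕ} (h1 : Im d.f s1 p1) (hτ : τ ∈ d.T)
    (hc : τ * d.b = d.b * τ) (hx : Im d.f (τ * s1 * τ⁻¹) x) (hs : Im d.f s (p1 ^ i * p2 ^ j)) :
    Im d.f (τ * s * τ⁻¹) (x ^ i * (b0 * x * b0⁻¹) ^ j) := by
  have h2 : Im d.f (d.b * s1 * d.b⁻¹) p2 := (d.fb.cj h1).of_eq (by decide +kernel)
  have h3 := d.imJ (cjJ (d.TM' hτ) (d.memJ ((hs.mul ((h1.pow i).mul (h2.pow j)).inv).of_eq (mul_inv_cancel _))))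
  have h4 := (h3.mul ((hx.pow i).mul ((d.fb.cj hx).pow j))).of_eq (one_mul _)
  rwa [← Y.cjx hc, conj_pow (a := τ), conj_pow (a := τ), ← cjm, ← cjm, inv_mul_cancel_right] at h4

theorem scalar {τ : G} (hτ : τ ∈ d.T) (hc : τ * d.b = d.b * τ) :
    (∃ k : ℕ, d.b ^ k * τ ∈ C0 m) ∨ d.b * (τ * τ) ∈ C0 m ∨ d.b⁻¹ * (τ * τ) ∈ C0 m := by
  obtain ⟨s1, h1⟩ := d.lift (p := p1) (by decide +kernel)
  have D : ∀ {σ : G}, σ ∈ d.T → Commute σ d.b → Im d.f (σ * s1 * σ⁻¹) p1 → σ ∈ C0 m := fun h2 h3 h4 =>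
    ⟨d.TB h2, fun s hs => by
      obtain ⟨i, j, h⟩ := d.imS hs
      exact d.memJ (((d.act h1 h2 h3 h4 h).mul h.inv).of_eq (by clear h; revert i j; decide +kernel))⟩
  have hc' : Commute τ d.b := hc
  obtain ⟨i, j, h2⟩ := d.imS (cjS (d.TB hτ) (d.memS h1 inP1))
  have h3 := d.act h1 hτ hc h2 h2
  have key : ∀ i j : Fin 3, ∀ x, x = p1 ^ (i : ℕ) * p2 ^ (j : ℕ) → x = 1 ∨
      (∃ k : Fin 4, b0 ^ (k : ℕ) * x * (b0 ^ (k : ℕ))⁻¹ = p1) ∨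
      b0 * (x ^ (i : ℕ) * (b0 * x * b0⁻¹) ^ (j : ℕ)) * b0⁻¹ = p1 ∨
      b0⁻¹ * (x ^ (i : ℕ) * (b0 * x * b0⁻¹) ^ (j : ℕ)) * b0⁻¹⁻¹ = p1 := by
    intro i j x hx; subst hx; revert i j; decide +kernel
  rcases key i j _ rfl with h | ⟨k, h⟩ | h | h
  · have := cjJ (inv_mem (d.TM' hτ)) (d.memJ (h2.of_eq h))
    rw [cjs rfl] at this
    exact absurd (h1.eq (d.imJ this)) (by decide +kernel)
  · exact .inl ⟨k, D (mul_mem (pow_mem d.bT _) hτ) (((Commute.refl _).pow_left _).mul_left hc')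
      (by rw [cjc rfl]; exact ((d.fb.pow k).cj h2).of_eq h)⟩
  · exact .inr (.inl (D (mul_mem d.bT (mul_mem hτ hτ)) ((Commute.refl _).mul_left (hc'.mul_left hc'))
      (by rw [cjc rfl, cjc rfl]; exact (d.fb.cj h3).of_eq h)))
  · exact .inr (.inr (D (mul_mem (inv_mem d.bT) (mul_mem hτ hτ))
      ((Commute.refl _).inv_left.mul_left (hc'.mul_left hc'))
      (by rw [cjc rfl, cjc rfl]; exact (d.fb.inv.cj h3).of_eq h)))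

end Pre

end Cfsg.Agent.T16.LB
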