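import Mathlib
import Cfsg.Agent.T16.McLA
import Cfsg.Agent.T16.McLB1

/-! Letters for the McLaughlin configuration. -/

set_option autoImplicit false
set_option linter.unusedSectionVars false

namespace Cfsg.Agent.T16.LB.Pre

open Cfsg.Agent.Rec Cfsg.Agent.Inv.Fz Subgroup Mc
open A9 (cjm cjc cjs cjcomm cjp)
open Y (cj2 cji fix_of of_fix mem_of_sq)

universe u

variable {G : Type u} [Group G] [Finite G] {m : Mc G} (d : Pre m)

theorem wM {w : G} (hw : w = 1 ∨ ∀ j ∈ m.J, w * j * w⁻¹ = j⁻¹) {x : G} (hx : x ∈ m.M) :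
    w * x * w⁻¹ * x⁻¹ ∈ m.J := by
  rcases hw with rfl | hw
  · simp
  · refine memJ_of fun j hj => ?_
    have h1 := cjJ (inv_mem hx) hj
    have h2 := cjs (hw _ (inv_mem h1))
    rw [inv_inv (x⁻¹ * j * x⁻¹⁻¹)] at h2
    rw [cjc rfl, cjc h2, cjc rfl, cji, ← cjc rfl, mul_inv_cancel, cji, hw _ (by simpa using hj)]
    simp

theorem w_comm {w τ : G} (hT : w ∈ d.T) (hw : w = 1 ∨ ∀ j ∈ m.J, w * j * w⁻¹ = j⁻¹) (h : τ ∈ d.T) :
    w * τ = τ * w :=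
  of_fix (mul_inv_eq_one.1 (d.TJ (mul_mem (mul_mem (mul_mem hT h) (inv_mem hT)) (inv_mem h)) (wM hw (d.TM' h))))

theorem exists_n {w : G} (hT : w ∈ d.T) (ww : w * w = 1) (hw : w = 1 ∨ ∀ j ∈ m.J, w * j * w⁻¹ = j⁻¹) :
    ∃ n, Im d.f n n0 ∧ n * n = 1 ∧ n * d.b * n⁻¹ = d.b⁻¹ ∧ w * n = n * w := by
  have : Fact (Nat.Prime 2) := ⟨Nat.prime_two⟩
  let F : Subgroup G := ((clos [b0, n0]).comap d.f).map m.M0.subtype
  have hF : ∀ {x p}, Im d.f x p → p ∈ clos [b0, n0] → x ∈ F := fun h hp =>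
    ⟨⟨_, h.1⟩, mem_comap.2 (h.2.symm ▸ hp), rfl⟩
  have hF' : ∀ x ∈ F, ∃ p ∈ clos [b0, n0], Im d.f x p := by
    rintro _ ⟨x, hx, rfl⟩; exact ⟨_, hx, im_of d.f x.2⟩
  have hJF : m.J ≤ F := fun x hx => hF (d.imJ hx) (one_mem _)
  have hFM : F ≤ m.M := (map_subtype_le _).trans (o3_le' _)
  have h4 : ∀ p ∈ clos [b0, n0], p ^ 4 = 1 := fun p hp => by
    have : ∃ i : Fin 4, ∃ j : Fin 2, p = b0 ^ (i : ℕ) * n0 ^ (j : ℕ) := by
      induction hp using closure_induction with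
      | mem x hx =>
        simp only [List.mem_cons, List.not_mem_nil, or_false, Set.mem_ofPred_eq] at hx
        rcases hx with rfl | rfl <;> decide +kernel
      | one => decide +kernel
      | mul x y h1 h2 hx hy =>
        clear h1 h2
        obtain ⟨i, j, rfl⟩ := hx
        obtain ⟨k, l, rfl⟩ := hy
        revert i j k l; decide +kernel
      | inv x h1 hx =>
        clear h1
        obtain ⟨i, j, rfl⟩ := hx
        revert i j; decide +kernel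
    clear hp
    obtain ⟨i, j, rfl⟩ := this
    revert i j; decide +kernel
  have hF4 : ∀ x ∈ F, x ^ 4 ∈ m.J := fun x hx => by
    obtain ⟨p, hp, h⟩ := hF' x hx
    exact d.memJ ((h.pow 4).of_eq (h4 p hp))
  have hwF : ∀ x ∈ F, w * x * w⁻¹ ∈ F := fun x hx => by
    simpa using mul_mem (hJF (wM hw (hFM hx))) hx
  have hH : ∀ g ∈ zpowers w ⊔ F, g ^ 2 ^ 3 ∈ m.J := fun g hg => by
    rw [show 2 ^ 3 = 2 * 4 from rfl, pow_mul]
    refine hF4 _ ?_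
    rcases Y.mem_sup_two (mem_normalizer_of_conj_mem hwF) (ww ▸ one_mem F) hg with h | h
    · exact pow_mem h 2
    · have := mul_mem (hwF _ h) h
      rw [inv_eq_of_mul_eq_one_left ww] at this
      convert this using 1
      calc g ^ 2 = w * w * g * (w * w) * g := by rw [ww, sq, one_mul, mul_one]
        _ = _ := by group
  obtain ⟨R, hR, h0⟩ := exists_isSylIn (p := 2) (Q := d.T ⊓ (zpowers w ⊔ F)) (fun x =>
    ⟨3, Subtype.ext (d.TJ (pow_mem x.2.1 _) (hH _ x.2.2))⟩) inf_le_right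
  have hRJ : ∀ x ∈ R, x ∈ m.J → x = 1 := fun x h1 h2 => by
    obtain ⟨k, hk⟩ := hR.isPGroup ⟨x, h1⟩
    exact orderOf_eq_one_iff.1 (Nat.eq_one_of_dvd_coprimes (Nat.Coprime.pow_left k (by norm_num : Nat.Coprime 2 3))
      (orderOf_dvd_of_pow_eq_one (congrArg Subtype.val hk)) (orderOf_dvd_of_pow_eq_one (m.J3 x h2)))
  obtain ⟨x, hx⟩ := d.lift (p := n0) (by decide +kernel)
  obtain ⟨n, hn, j, hj, e⟩ := hR.exists_mul_of_pow_mem (hJF.trans le_sup_right)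
    (sup_le (zpowers_le.2 (d.TM' hT)) hFM) (fun g hg => ⟨3, hH g hg⟩) (mem_sup_right (hF hx (mem_clos (by simp))))
  have h1 : Im d.f n n0 := by simpa [e] using hx.mul (d.imJ hj).inv
  have hb : d.b ∈ R := h0 ⟨d.bT, mem_sup_right (hF d.fb (mem_clos (by simp)))⟩
  have hwR : w ∈ R := h0 ⟨hT, mem_sup_left (mem_zpowers w)⟩
  exact ⟨n, h1, hRJ _ (mul_mem hn hn) (d.memJ ((h1.mul h1).of_eq (by decide +kernel))),
    eq_inv_of_mul_eq_one_left (hRJ _ (mul_mem (mul_mem (mul_mem hn hb) (inv_mem hn)) hb)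
      (d.memJ (((h1.cj d.fb).mul d.fb).of_eq (by decide +kernel)))),
    of_fix (mul_inv_eq_one.1 (hRJ _ (mul_mem (mul_mem (mul_mem hwR hn) (inv_mem hwR)) (inv_mem hn))
      (wM hw (o3_le' _ h1.mem))))⟩

theorem dih {x y : G} (hx : x * x = 1) (hy : y * y = 1) (h : (x * y) ^ 3 = 1) : x * y * x * (x * y)⁻¹ = y := by
  rw [mul_inv_rev, inv_eq_of_mul_eq_one_left hx, inv_eq_of_mul_eq_one_left hy]
  calc _ = (x * y) ^ 3 * y * (y * y)⁻¹ := by simp only [pow_succ, pow_zero, one_mul]; group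
    _ = y := by rw [h, hy]; group

theorem exists_v {x y : G} {p q r : Equiv.Perm (Fin 6)} (hx : x * x = 1) (hy : y * y = 1) (hc : x * y = y * x)
    (fx : Im d.f x p) (fy : Im d.f y q) (hr : Equiv.Perm.sign r = 1) (h1 : r * p * r⁻¹ * q = 1)
    (h2 : r * q * r⁻¹ * (p * q) = 1) : ∃ v, Im d.f v r ∧ v * x * v⁻¹ = y ∧ v * y * v⁻¹ = x * y := by
  obtain ⟨v, hv⟩ := d.lift hr
  have a1 := d.memJ (((hv.cj fx).mul fy).of_eq h1)
  have a2 := dih (by rw [← cjm, hx]; group) hy (m.J3 _ a1)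
  have a3 := ((d.imJ a1).mul hv).of_eq (one_mul r)
  rw [← cjc rfl] at a2
  generalize v * x * v⁻¹ * y * v = v1 at a2 a3
  have b1 := d.memJ (((a3.cj fy).mul (fx.mul fy)).of_eq h2)
  have b2 := dih (by rw [← cjm, hy]; group) (by rw [mul_assoc, ← mul_assoc y, ← hc, mul_assoc, hy, mul_one, hx])
    (m.J3 _ b1)
  have b3 : Commute (v1 * y * v1⁻¹) y := by
    have := cjcomm (g := v1) hc
    rw [a2] at this; exact this.symm
  refine ⟨_, ((d.imJ b1).mul a3).of_eq (one_mul r), ?_, by rw [cjc rfl, b2]⟩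
  rw [cjc a2]
  exact fix_of (b3.mul_left ((show Commute x y from hc).mul_left (Commute.refl y)))

theorem not_L {x : G} {p : Equiv.Perm (Fin 6)} (h : Im d.f x p) (hL : x ∈ m.L) :
    InP (p * p1 * p⁻¹) ∧ InP (p * p2 * p⁻¹) := by
  have hB : x ∈ m.B := m.B_eq.ge ⟨o3_le' _ h.mem, hL⟩
  obtain ⟨s, hs⟩ := d.lift (p := p1) (by decide +kernel)
  obtain ⟨s', hs'⟩ := d.lift (p := p2) (by decide +kernel)
  exact ⟨d.inP (h.cj hs) (cjS hB (d.memS hs inP1)), d.inP (h.cj hs') (cjS hB (d.memS hs' inP2))⟩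

section N

variable {n : G} (fn : Im d.f n n0) (nn : n * n = 1) (nb : n * d.b * n⁻¹ = d.b⁻¹)
include fn

theorem nz : n * m.z * n⁻¹ ∉ m.Z := fun h => absurd (d.not_L fn (mem_L_of_mem h)).1 (by decide +kernel)

theorem z'J : n * m.z * n⁻¹ ∈ m.J := cjJ (o3_le' _ fn.mem) m.z_mem_J

theorem fixZ {c : G} (hc : c ∈ m.Z) (h : n * c * n⁻¹ ∈ m.Z) : c = 1 := by
  rcases mem_zpowers_three m.z_cube hc with rfl | rfl | rfl
  · rfl
  · exact absurd h (d.nz fn)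
  · exact absurd (inv_mem_iff.1 (cji n m.z ▸ h)) (d.nz fn)

include nb

omit fn in
theorem tn : d.t * n = n * d.t := by
  refine (of_fix ?_).symm
  rw [← d.bb, cjm, nb, ← mul_inv_rev, d.bb, inv_eq_of_mul_eq_one_left d.tt]

omit fn in
theorem tz' : d.t * (n * m.z * n⁻¹) * d.t⁻¹ = n * m.z * n⁻¹ := by rw [Y.cjx (d.tn nb), d.tz]

omit fn nb in
theorem mem_Z {q : G} (hq : q ∈ m.Q) (h : d.t * q * d.t⁻¹ = q) : q ∈ m.Z :=
  mem_of_sq (m.Q3 q hq) (by have := d.tQ q hq; rwa [show d.a * d.a = d.t from rfl, h] at this)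

theorem z'Q : n * m.z * n⁻¹ ∉ m.Q := fun h => d.nz fn (d.mem_Z h (d.tz' nb))

theorem cen_cases {s : G} (hs : s ∈ m.S) (h : d.t * s * d.t⁻¹ = s) :
    ∃ k : ℤ, ∃ c ∈ m.Z, s = (n * m.z * n⁻¹) ^ k * c := by
  obtain ⟨_, ⟨k, rfl⟩, c, hc, rfl⟩ := (mem_sup_iff_of_le_normalizer (zpowers_le.2 (m.Qn (m.S_le_L
    (m.JS (d.z'J fn)))))).1 (((sup_comm _ _).trans (m.sup_Q (m.JS (d.z'J fn)) (d.z'Q fn nb))).ge hs)
  rw [cjm, ← conj_zpow, d.tz' nb] at h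
  exact ⟨k, c, d.mem_Z hc (mul_left_cancel h), rfl⟩

theorem cen_t : m.S ⊓ centralizer {d.t} = clos [m.z, n * m.z * n⁻¹] := by
  refine le_antisymm (fun s hs => ?_) (clos_le.2 ?_)
  · obtain ⟨k, c, hc, rfl⟩ := d.cen_cases fn nb hs.1 (fix_of (mem_cen.1 hs.2).symm)
    exact mul_mem (zpow_mem (mem_clos (by simp)) k) (zpowers_le.2 (mem_clos (by simp)) hc)
  · simp only [List.mem_cons, List.not_mem_nil, or_false, forall_eq_or_imp, forall_eq]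
    exact ⟨⟨m.JS m.z_mem_J, mem_cen.2 (of_fix d.tz).symm⟩, m.JS (d.z'J fn), mem_cen.2 (of_fix (d.tz' nb)).symm⟩

include nn

omit fn in
theorem b_z' {x : G} (h : d.b⁻¹ * m.z * d.b⁻¹⁻¹ = x) : d.b * (n * m.z * n⁻¹) * d.b⁻¹ = n * x * n⁻¹ := by
  have e : d.b * n = n * d.b⁻¹ := by
    rw [← nb, ← mul_assoc, ← mul_assoc, nn, one_mul, inv_eq_of_mul_eq_one_left nn]
  rw [← h, ← cjc rfl, e, cjc rfl]

theorem bz : d.b * m.z * d.b⁻¹ = m.z⁻¹ := by
  refine (z_cases (d.TL' d.bT)).resolve_left fun h => ?_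
  have h1 := d.b_z' nn nb (cjs h)
  have hc := m.Jc _ m.z_mem_J _ (d.z'J fn)
  have yJ := mul_mem m.z_mem_J (d.z'J fn)
  have ny : n * (m.z * (n * m.z * n⁻¹)) * n⁻¹ = m.z * (n * m.z * n⁻¹) := by rw [cjm, cj2 nn, hc]
  have by_ : d.b * (m.z * (n * m.z * n⁻¹)) * d.b⁻¹ = m.z * (n * m.z * n⁻¹) := by rw [cjm, h, h1]
  have ty : d.t * (m.z * (n * m.z * n⁻¹)) * d.t⁻¹ = m.z * (n * m.z * n⁻¹) := by rw [cjm, d.tz, d.tz' nb]
  have A : ∀ x ∈ m.J, d.t * x * d.t⁻¹ = x → d.b * x * d.b⁻¹ = x ∧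
      (n * x * n⁻¹ = x → x ∈ zpowers (m.z * (n * m.z * n⁻¹))) := fun x hx h2 => by
    obtain ⟨k, c, ⟨l, rfl⟩, rfl⟩ := d.cen_cases fn nb (m.JS hx) h2
    refine ⟨by rw [cjm, ← conj_zpow (a := d.b), ← conj_zpow (a := d.b), h, h1], fun h3 => ⟨k, ?_⟩⟩
    rw [cjm, ← conj_zpow (a := n), cj2 nn] at h3
    have h4 := d.fixZ fn (c := m.z ^ (l - k)) (zpow_mem (mem_zpowers _) _) (by
      have : n * m.z ^ (l - k) * n⁻¹ = m.z ^ (l - k) := by
        have h5 : Commute (n * m.z * n⁻¹) m.z := hc.symm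
        rw [zpow_sub, cjm, cji, eq_inv_mul_of_mul_eq h3, ← conj_zpow, (h5.zpow_zpow k l).eq]; group
      rw [this]; exact zpow_mem (mem_zpowers _) _)
    rw [zpow_sub, mul_inv_eq_one] at h4
    simp only [h4]
    rw [← hc.symm, (show Commute _ _ from hc.symm).mul_zpow]
  generalize hy : m.z * (n * m.z * n⁻¹) = y at yJ ny by_ ty A
  have N : ∀ {g : G}, g * y * g⁻¹ ∈ zpowers y → g ∈ normalizer (zpowers y : Set G) := fun h =>
    cj_eq_iff.1 (cj_eq_of_le (by rw [cj_zpowers]; exact zpowers_le.2 h))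
  have V : ∀ {v x : G}, v ∈ m.M0 → v * d.t * v⁻¹ = x → v * x * v⁻¹ = d.t * x → x * x = 1 → x * y * x⁻¹ = y →
      d.t * (v * y * v⁻¹) * d.t⁻¹ = v * y * v⁻¹ ∧ x * (v * y * v⁻¹) * x⁻¹ = v * y * v⁻¹ := fun hv e1 e2 e3 e4 => by
    have a1 := cjcomm (g := _) (of_fix ty) |>.trans (by rw [e1])
    have a2 := cjcomm (g := _) (of_fix e4) |>.trans (by rw [e2])
    rw [e1] at a1; rw [e2] at a2
    have a3 := (show Commute _ _ from a2).mul_left (show Commute _ _ from a1)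
    rw [mul_assoc d.t, e3, mul_one] at a3
    exact ⟨fix_of a3, fix_of a1⟩
  have nbnb : n * d.b * (n * d.b) = 1 := by
    rw [← mul_assoc, ← inv_mul_cancel d.b, ← nb, inv_eq_of_mul_eq_one_left nn]
  obtain ⟨v, fv, v1, v2⟩ := d.exists_v (r := v0) d.tt nn (d.tn nb) d.ft fn (by decide +kernel) (by decide +kernel)
    (by decide +kernel)
  obtain ⟨u, fu, u1, u2⟩ := d.exists_v (r := Equiv.swap 1 2 * Equiv.swap 2 5) d.tt nbnb
    ((show Commute _ _ from d.tn nb).mul_right (d.bb ▸ (Commute.refl d.b).mul_left (Commute.refl d.b))) d.ft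
    (fn.mul d.fb) (by decide +kernel) (by decide +kernel) (by decide +kernel)
  have hv := V fv.mem v1 v2 nn ny
  have hu := V fu.mem u1 u2 nbnb (by rw [cjc by_, ny])
  have Nv := N ((A _ (cjJ (o3_le' _ fv.mem) yJ) hv.1).2 hv.2)
  have a1 := A _ (cjJ (o3_le' _ fu.mem) yJ) hu.1
  have Nu := N (a1.2 (by rw [← cjc a1.1, hu.2]))
  have Nn := N (g := n) (by rw [ny]; exact mem_zpowers y)
  have Nb := N (g := d.b) (by rw [by_]; exact mem_zpowers y)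
  have f1 := (((fn.mul fv).mul fu.inv).mul fv.inv).of_eq (q := p1) (by decide +kernel)
  have f2 := (d.fb.cj f1).of_eq (q := p2) (by decide +kernel)
  have N1 := mul_mem (mul_mem (mul_mem Nn Nv) (inv_mem Nu)) (inv_mem Nv)
  have hS : m.S ≤ normalizer (zpowers y : Set G) := fun s hs => by
    obtain ⟨i, j, h2⟩ := d.imS hs
    have h3 := d.memJ ((h2.mul ((f1.pow i).mul (f2.pow j)).inv).of_eq (mul_inv_cancel _))
    have := mul_mem (N (by rw [fix_of (m.Jc _ h3 _ yJ)]; exact mem_zpowers y))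
      (mul_mem (pow_mem N1 i) (pow_mem (mul_mem (mul_mem Nb N1) (inv_mem Nb)) j))
    rwa [inv_mul_cancel_right] at this
  have hy1 : y ∉ m.Z := fun e => d.nz fn ((mul_mem_cancel_left (mem_zpowers m.z)).1 (hy ▸ e))
  exact hy1 (m.zS.le ⟨m.JS yJ, fun s hs => (GT.PG.le_centralizer_of_card_prime (by
    rw [Nat.card_zpowers, orderOf_eq_prime (m.J3 y yJ) fun e => hy1 (e ▸ one_mem _)]) m.syl.isPGroup hS hs y
      (mem_zpowers y)).symm⟩)

theorem bz' : d.b * (n * m.z * n⁻¹) * d.b⁻¹ = (n * m.z * n⁻¹)⁻¹ := by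
  have := cjs (d.bz fn nn nb)
  rw [cji] at this
  rw [d.b_z' nn nb (inv_eq_iff_eq_inv.1 this), cji]

theorem ab {w : G} (hT : w ∈ d.T) (ww : w * w = 1) (hw : w = 1 ∨ ∀ j ∈ m.J, w * j * w⁻¹ = j⁻¹)
    (h0 : ∀ τ ∈ d.T, τ ∈ C0 m → τ = 1 ∨ τ = w) : d.a * d.b * d.a⁻¹ = d.b⁻¹ := by
  refine (d.cj_b d.aT).resolve_left fun h => ?_
  have hc : Commute d.a d.b := of_fix h
  have sq : ∀ τ ∈ d.T, τ ∈ C0 m → τ * τ = 1 := fun τ h1 h2 => by
    rcases h0 τ h1 h2 with rfl | rfl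
    exacts [mul_one _, ww]
  have ht : Commute d.b d.t := d.bb ▸ (Commute.refl _).mul_right (Commute.refl _)
  rcases d.scalar d.aT hc with ⟨k, h1⟩ | h1 | h1
  · have h2 := mul_mem (pow_mem d.bT k) d.aT
    have h3 := sq _ h2 h1
    have h4 : d.b ^ k * d.b ^ k = d.t := by
      rw [mul_assoc, ← mul_assoc d.a, (hc.pow_right k).eq, mul_assoc, ← mul_assoc] at h3
      rw [eq_inv_of_mul_eq_one_left h3]; exact inv_eq_of_mul_eq_one_left d.tt
    have h5 : ∀ x : G, d.b * x * d.b⁻¹ = x⁻¹ → d.b ^ k * x * (d.b ^ k)⁻¹ = x⁻¹ := fun x hx => by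
      rcases norm4 d.b4 (h4 ▸ d.t_ne) ⟨k, rfl⟩ with e | e
      · rw [e, hx]
      · have := cjs hx
        rw [cji] at this
        rw [e, inv_eq_iff_eq_inv.1 this]
    have h6 : d.b ^ k * d.a * m.z * (d.b ^ k * d.a)⁻¹ = m.z⁻¹ := by rw [cjc d.az, h5 _ (d.bz fn nn nb)]
    have h7 := (d.inv_J h2 h1 fun e => m.esz.z_ne_one (eq_one_of_eq_inv m.z_cube (by simpa [e] using h6))).2 _
      (d.z'J fn)
    have h8 := m.cj_Q (d.TL' (pow_mem d.bT k)) (d.aS _ (m.JS (d.z'J fn)))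
    rw [cjm, ← cjc rfl, h7, h5 _ (d.bz' fn nn nb)] at h8
    exact d.z'Q fn nb (inv_mem_iff.1 (mem_of_sq (m.J3 _ (inv_mem (d.z'J fn))) h8))
  · have h3 := sq _ (mul_mem d.bT d.tT) h1
    rw [mul_assoc, ← mul_assoc d.t, ← ht.eq, mul_assoc, d.tt, mul_one, d.bb] at h3
    exact d.t_ne h3
  · have h3 := sq _ (mul_mem (inv_mem d.bT) d.tT) h1
    rw [mul_assoc, ← mul_assoc d.t, ← ht.inv_left.eq, mul_assoc, d.tt, mul_one, ← mul_inv_rev, d.bb] at h3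
    exact d.t_ne (inv_eq_one.1 h3)

theorem az' : d.a * (n * m.z * n⁻¹) * d.a⁻¹ = (n * m.z * n⁻¹)⁻¹ := by
  have ha : d.t * d.a = d.a * d.t := (mul_assoc _ _ _)
  have hc := m.Jc _ m.z_mem_J _ (d.z'J fn)
  have h1 := d.mem_Z (d.aS _ (m.JS (d.z'J fn))) (by rw [cjm, Y.cjx ha, d.tz' nb])
  have fa := im_of d.f (cjM0 (d.TM' d.aT) fn.mem)
  have e : d.a * (n * m.z * n⁻¹) * d.a⁻¹ = d.a * n * d.a⁻¹ * m.z * (d.a * n * d.a⁻¹)⁻¹ := by
    rw [cjc (cjs d.az)]; group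
  have F : ∀ {x : G} {p}, Im d.f x p → x * (d.a * (n * m.z * n⁻¹) * d.a⁻¹) * x⁻¹ = d.a * (n * m.z * n⁻¹) * d.a⁻¹ →
      _ := fun hx h => d.not_L ((fa.inv.mul hx).mul fa) (m.mem_L_of (of_fix (by
        rw [cjc rfl, ← e, cjc h, e]; group)))
  have key : ∀ g : Equiv.Perm (Fin 6), InP (g⁻¹ * (b0 * b0) * g * p1 * (g⁻¹ * (b0 * b0) * g)⁻¹) ∧
      InP (g⁻¹ * (b0 * b0) * g * p2 * (g⁻¹ * (b0 * b0) * g)⁻¹) →
      ¬ (InP (g⁻¹ * n0 * g * p1 * (g⁻¹ * n0 * g)⁻¹) ∧ InP (g⁻¹ * n0 * g * p2 * (g⁻¹ * n0 * g)⁻¹)) ∧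
      ¬ (InP (g⁻¹ * (n0 * b0) * g * p1 * (g⁻¹ * (n0 * b0) * g)⁻¹) ∧
        InP (g⁻¹ * (n0 * b0) * g * p2 * (g⁻¹ * (n0 * b0) * g)⁻¹)) := by decide +kernel
  have h2 := key _ (F d.ft (by rw [Y.cjx ha, d.tz' nb]))
  rcases mem_zpowers_three m.z_cube h1 with h | h | h
  · exact eq_inv_of_mul_eq_one_left h
  · refine absurd (F (fn.mul d.fb) ?_) h2.2
    rw [eq_mul_inv_of_mul_eq h, cjc rfl, cjm d.b, cji, d.bz fn nn nb, d.bz' fn nn nb, inv_inv, cjm n, cji, cj2 nn,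
      m.Jc _ m.z_mem_J _ (inv_mem (d.z'J fn))]
  · refine absurd (F fn ?_) h2.1
    rw [eq_mul_inv_of_mul_eq h, cjm n, cji, cji, cj2 nn, ← mul_inv_rev, ← mul_inv_rev, hc]

end N

theorem T_le {w : G} (hT : w ∈ d.T) (hw : w = 1 ∨ ∀ j ∈ m.J, w * j * w⁻¹ = j⁻¹)
    (h0 : ∀ τ ∈ d.T, τ ∈ C0 m → τ = 1 ∨ τ = w) (ab : d.a * d.b * d.a⁻¹ = d.b⁻¹) : d.T ≤ clos [d.a, d.b, w] := by
  have ha : d.a ∈ clos [d.a, d.b, w] := mem_clos (by simp)
  have hb : d.b ∈ clos [d.a, d.b, w] := mem_clos (by simp)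
  have hC : ∀ τ ∈ d.T, τ ∈ C0 m → τ ∈ clos [d.a, d.b, w] ∧ Commute d.a τ := fun τ h1 h2 => by
    rcases h0 τ h1 h2 with rfl | rfl
    exacts [⟨one_mem _, Commute.one_right _⟩, ⟨mem_clos (by simp), (d.w_comm hT hw d.aT).symm⟩]
  have nc : ¬ Commute d.a d.b := fun h => d.t_ne (by
    rw [fix_of h] at ab; rw [← d.bb]; exact mul_eq_one_iff_eq_inv.2 ab)
  have A : ∀ τ ∈ d.T, Commute τ d.b → Commute d.a (τ * τ) → τ ∈ clos [d.a, d.b, w] := fun τ h1 h2 h3 => by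
    rcases d.scalar h1 h2 with ⟨k, h⟩ | h | h
    · exact (mul_mem_cancel_left (pow_mem hb k)).1 (hC _ (mul_mem (pow_mem d.bT k) h1) h).1
    · exact absurd (by
        simpa only [mul_inv_cancel_right] using (hC _ (mul_mem d.bT (mul_mem h1 h1)) h).2.mul_right h3.inv_right) nc
    · refine absurd (Commute.inv_right_iff.1 ?_) nc
      simpa only [mul_inv_cancel_right] using
        (hC _ (mul_mem (inv_mem d.bT) (mul_mem h1 h1)) h).2.mul_right h3.inv_right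
  have B : ∀ τ ∈ d.T, Commute d.a (τ * τ) := fun τ h => by
    refine (of_fix ?_ : Commute _ _).symm
    rcases d.cj_a h with e | e
    · rw [cjc e, e]
    · rw [cjc e, cji, e, inv_inv]
  intro τ h
  rcases d.cj_b h with e | e
  · exact A τ h (of_fix e) (B τ h)
  · exact (mul_mem_cancel_left ha).1 (A _ (mul_mem d.aT h) (of_fix (by rw [cjc e, cji, ab, inv_inv]))
      (B _ (mul_mem d.aT h)))

end Cfsg.Agent.T16.LB.Pre

namespace Cfsg.Agent.T16.Mc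

open Cfsg.Agent.Rec Cfsg.Agent.Inv.Fz Subgroup

universe u

variable {G : Type u} [Group G] [Finite G] (m : Mc G)

theorem exists_let : Nonempty m.Let := by
  obtain ⟨d⟩ := LB.exists_pre m
  obtain ⟨w, hT, ww, hw, h0⟩ := d.exists_w
  obtain ⟨n, fn, nn, nb, wn⟩ := d.exists_n hT ww hw
  obtain ⟨v, fv, v1, v2⟩ := d.exists_v (r := v0) d.tt nn (d.tn nb) d.ft fn (by decide +kernel) (by decide +kernel)
    (by decide +kernel)
  have ab := d.ab fn nn nb hT ww hw h0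
  exact ⟨{
    a := d.a, b := d.b, t := d.t, n := n, v := v, w := w, f := d.f, f_range := d.f_range, f_ker := d.f_ker
    f_S := d.f_S, aL := d.aL, bM := d.fb.1, nM := fn.1, vM := fv.1, f_b := d.fb.2, f_n := fn.2, f_v := fv.2
    aB := d.TB d.aT, bB := d.TB d.bT, wB := d.TB hT, aa := rfl, bb := d.bb, tt := d.tt, ab := ab, nn := nn, nb := nb
    vt := v1, vn := v2, ww := ww, wa := d.w_comm hT hw d.aT, wb := d.w_comm hT hw d.bT, wn := wn, wJ := hw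
    wM := fun x hx => LB.Pre.wM hw (o3_le' _ hx)
    B_eq := fun g hg => by
      obtain ⟨s, hs, τ, hτ, e⟩ := d.dec g hg
      exact ⟨s, hs, τ, d.T_le hT hw h0 ab hτ, e⟩
    tQ := d.tQ, tL := d.tL, az := d.az, bz := d.bz fn nn nb, nz := d.nz fn, az' := d.az' fn nn nb
    z'Q := d.z'Q fn nb, cen_t := d.cen_t fn nb }⟩

end Cfsg.Agent.T16.Mc
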