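import Mathlib
import Cfsg.Agent.T16.McLA
import Cfsg.Agent.S3334
import Cfsg.Agent.GT.PPrimeCore

/-! Small facts on `S₈` and `A₆`, and the McLaughlin group from an involution centraliser. -/

set_option autoImplicit false
set_option synthInstance.maxSize 100000
set_option synthInstance.maxHeartbeats 1000000

namespace Cfsg.Agent.T16.McS

open Cfsg.Agent.Spor Cfsg.Agent.Rec Cfsg.Agent.Inv.Fz Subgroup Equiv

theorem s8_type {x : Perm (Fin 8)} (h : x * x = 1) (h1 : x ≠ 1) :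
    ∃ k, 1 ≤ k ∧ k ≤ 4 ∧ x.cycleType = Multiset.replicate k 2 ∧ Perm.sign x = (-1) ^ k := by
  have h2 := Perm.cycleType_of_pow_prime_eq_one (p := 2) (by rw [sq, h])
  have h3 := x.sum_cycleType_le
  refine ⟨_, ?_, ?_, h2, ?_⟩
  · exact Perm.card_cycleType_pos.2 h1
  · rw [h2] at h3; simp at h3; omega
  · rw [Perm.sign_of_cycleType]
    conv_lhs => rw [h2]
    simp [pow_add, pow_mul']

theorem s8_three {x y z : Perm (Fin 8)} (hx : x * x = 1) (hy : y * y = 1) (hz : z * z = 1) (x1 : x ≠ 1)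
    (y1 : y ≠ 1) (z1 : z ≠ 1) (h1 : Perm.sign x = Perm.sign y) (h2 : Perm.sign x = Perm.sign z) :
    IsConj x y ∨ IsConj x z ∨ IsConj y z := by
  obtain ⟨i, i1, i4, hi, ei⟩ := s8_type hx x1
  obtain ⟨j, j1, j4, hj, ej⟩ := s8_type hy y1
  obtain ⟨k, k1, k4, hk, ek⟩ := s8_type hz z1
  simp only [Perm.isConj_iff_cycleType_eq, hi, hj, hk]
  rw [ei, ej] at h1
  rw [ei, ek] at h2
  revert h1 h2
  interval_cases i <;> interval_cases j <;> interval_cases k <;> decide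

theorem s8_odd {x : Perm (Fin 8)} (h : x ^ 3 = 1) : ∃ c, Perm.sign c = -1 ∧ c * x = x * c := by
  have : Fact (Nat.Prime 3) := ⟨Nat.prime_three⟩
  have h1 := Perm.card_compl_support_modEq (p := 3) (n := 1) (σ := x) (by rw [pow_one, h])
  obtain ⟨i, hi, j, hj, hij⟩ := Finset.one_lt_card.1 (show 1 < x.supportᶜ.card by
    rw [Fintype.card_fin, Nat.ModEq] at h1; omega)
  rw [Finset.mem_compl, Perm.notMem_support] at hi hj
  exact ⟨swap i j, Perm.sign_swap hij, by rw [mul_swap_eq_swap_mul, hi, hj]⟩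

theorem s8_rot {x : Perm (Fin 8)} (h : x * x = 1) (hc : x * finRotate 8 = finRotate 8 * x) :
    Perm.sign x = 1 := by
  have h1 : ∀ n : ℕ, x ((finRotate 8 ^ n) 0) = (finRotate 8 ^ n) (x 0) := fun n =>
    congrArg (fun f : Perm (Fin 8) => f 0) (Commute.pow_right hc n).eq
  have h2 : ∀ i : Fin 8, (finRotate 8 ^ (i : ℕ)) 0 = i := by decide +kernel
  have h3 : x = finRotate 8 ^ (x 0 : ℕ) := Equiv.ext fun i => by
    rw [← h2 i, h1, ← Perm.mul_apply (finRotate 8 ^ (x 0 : ℕ)), ← pow_add, add_comm, pow_add,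
      Perm.mul_apply, h2 (x 0)]
  clear h1 hc
  generalize x 0 = k at h3
  subst h3
  revert k
  decide +kernel

theorem a6_facts : (∀ g ∈ alternatingGroup (Fin 6), g * (Mc.b0 * Mc.b0) = Mc.b0 * Mc.b0 * g →
      g = 1 ∨ g = Mc.b0 ∨ g = Mc.b0 * Mc.b0 ∨ g = Mc.b0⁻¹ ∨ g = Mc.n0 ∨ g = Mc.n0 * Mc.b0 ∨
        g = Mc.n0 * (Mc.b0 * Mc.b0) ∨ g = Mc.n0 * Mc.b0⁻¹) ∧
    (∀ g ∈ alternatingGroup (Fin 6), g * Mc.b0 = Mc.b0 * g → g * Mc.v0 = Mc.v0 * g → g = 1) ∧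
    (∀ g ∈ alternatingGroup (Fin 6), g * Mc.p1 = Mc.p1 * g → g = 1 ∨ g = Mc.p1 ∨ g = Mc.p1 * Mc.p1 ∨
      g = Mc.p2 ∨ g = Mc.p2 * Mc.p2 ∨ g = Mc.p1 * Mc.p2 ∨ g = Mc.p1 * Mc.p1 * Mc.p2 ∨
      g = Mc.p1 * Mc.p2 * Mc.p2 ∨ g = Mc.p1 * Mc.p1 * Mc.p2 * Mc.p2) ∧
    (∀ p ∈ alternatingGroup (Fin 6), p * Mc.p1 = Mc.p1 * p → p ≠ 1 → ∀ g ∈ alternatingGroup (Fin 6),
      g⁻¹ * p * g * Mc.p1 = Mc.p1 * (g⁻¹ * p * g) → g * Mc.p1 * g⁻¹ * Mc.p1 = Mc.p1 * (g * Mc.p1 * g⁻¹) ∧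
        g * Mc.p2 * g⁻¹ * Mc.p1 = Mc.p1 * (g * Mc.p2 * g⁻¹)) ∧ Mc.b0 * Mc.b0 ≠ 1 ∧
    Mc.p2 * Mc.p1 = Mc.p1 * Mc.p2 := by
  have h : (permCod J23.P6_ok).RepL [nat_lit 0x10200050403, nat_lit 0x50400010203, nat_lit 0x20105030004,
      nat_lit 0x50403000201, nat_lit 0x30504020100] [Mc.b0, Mc.n0, Mc.v0, Mc.p1, Mc.p2] :=
    (rep_pcode _ _ (by decide +kernel)).cons <| (rep_pcode _ _ (by decide +kernel)).cons <|
      (rep_pcode _ _ (by decide +kernel)).cons <| (rep_pcode _ _ (by decide +kernel)).cons <|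
      (rep_pcode _ _ (by decide +kernel)).cons Cod.repL_nil
  exact (J23.lists_A6.cons Cod.listsL_nil).decide h (by decide +kernel)

theorem mem_P {g : Perm (Fin 6)} (hg : g ∈ alternatingGroup (Fin 6)) :
    g ∈ clos [Mc.p1, Mc.p2] ↔ g * Mc.p1 = Mc.p1 * g := by
  refine ⟨fun h => mem_cen.1 ((clos_le.2 ?_ : _ ≤ centralizer {Mc.p1}) h), fun h => ?_⟩
  · simp only [List.forall_mem_cons]
    exact ⟨mem_cen.2 rfl, mem_cen.2 a6_facts.2.2.2.2.2, by simp⟩
  · have h1 : Mc.p1 ∈ clos [Mc.p1, Mc.p2] := mem_clos (by simp)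
    have h2 : Mc.p2 ∈ clos [Mc.p1, Mc.p2] := mem_clos (by simp)
    rcases a6_facts.2.2.1 g hg h with e | e | e | e | e | e | e | e | e <;> rw [e]
    · exact one_mem _
    exacts [h1, mul_mem h1 h1, h2, mul_mem h2 h2, mul_mem h1 h2, mul_mem (mul_mem h1 h1) h2,
      mul_mem (mul_mem h1 h2) h2, mul_mem (mul_mem (mul_mem h1 h1) h2) h2]

/-- Sylow 3-subgroups of `A₆` intersect trivially. -/
theorem a6_ti {p g : Perm (Fin 6)} (hg : g ∈ alternatingGroup (Fin 6)) (hp : p ∈ alternatingGroup (Fin 6))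
    (h : p ∈ clos [Mc.p1, Mc.p2]) (h1 : p ≠ 1) (h2 : g⁻¹ * p * g ∈ clos [Mc.p1, Mc.p2]) :
    cj g (clos [Mc.p1, Mc.p2]) ≤ clos [Mc.p1, Mc.p2] := by
  have h3 := a6_facts.2.2.2.1 p hp ((mem_P hp).1 h) h1 g hg
    ((mem_P (mul_mem (mul_mem (inv_mem hg) hp) hg)).1 h2)
  have k : ∀ x ∈ alternatingGroup (Fin 6), g * x * g⁻¹ ∈ alternatingGroup (Fin 6) := fun x hx =>
    mul_mem (mul_mem hg hx) (inv_mem hg)
  rw [cj, map_le_iff_le_comap, clos_le]
  simp only [List.forall_mem_cons]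
  exact ⟨(mem_P (k _ (Perm.mem_alternatingGroup.2 (by decide +kernel)))).2 h3.1,
    (mem_P (k _ (Perm.mem_alternatingGroup.2 (by decide +kernel)))).2 h3.2, by simp⟩

universe u

theorem equiv_of_ker {A B C : Type*} [Group A] [Group B] [Group C] {f : A →* B} {g : A →* C}
    (hf : Function.Surjective f) (hg : Function.Surjective g) (h : ∀ x, f x = 1 ↔ g x = 1) :
    Nonempty (B ≃* C) :=
  ⟨((QuotientGroup.quotientKerEquivOfSurjective f hf).symm.trans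
    (QuotientGroup.quotientMulEquivOfEq (show f.ker = g.ker from Subgroup.ext h))).trans
    (QuotientGroup.quotientKerEquivOfSurjective g hg)⟩

theorem mcl_of {X : Type u} [Group X] [Finite X] {t a v : X} (ha : a * a = t) (tt : t * t = 1) (t1 : t ≠ 1)
    (hv : v * t * v⁻¹ * t = t * (v * t * v⁻¹)) (hv1 : v * t * v⁻¹ ≠ t) (ρ : centralizer {t} →* Perm (Fin 8))
    (hr : ρ.range = alternatingGroup (Fin 8)) (hk : ∀ x, ρ x = 1 ↔ (x : X) ∈ zpowers t) :
    Nonempty (X ≃* Cfsg.Spor.McL) := by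
  have ho : orderOf t = 2 := orderOf_eq_prime (by rw [sq, tt]) t1
  have htC : t ∈ centralizer {t} := mem_cen.2 rfl
  have h1 : center (centralizer ({t} : Set X)) = ρ.ker := by
    refine le_antisymm (fun x hx => ?_) fun x hx => ?_
    · have h2 : (⟨ρ x, hr.le ⟨x, rfl⟩⟩ : alternatingGroup (Fin 8)) ∈ center _ := mem_center_iff.2 fun g => by
        obtain ⟨y, hy⟩ := hr.ge g.2
        exact Subtype.ext (by simp only [coe_mul, ← hy, ← map_mul, mem_center_iff.1 hx y])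
      rw [alternatingGroup.center_eq_bot (by simp)] at h2
      exact congrArg Subtype.val (mem_bot.1 h2)
    · obtain ⟨k, e⟩ := (hk x).1 hx
      exact mem_center_iff.2 fun g => Subtype.ext (by
        simp only [coe_mul, ← e]; exact (Commute.zpow_right (mem_cen.1 g.2) k).eq)
  have h2 : Nat.card (center (centralizer ({t} : Set X))) = 2 := by
    rw [h1, show ρ.ker = (zpowers t).subgroupOf _ from Subgroup.ext hk,
      Nat.card_congr (subgroupOfEquivOfLe (zpowers_le.2 htC)).toEquiv, Nat.card_zpowers, ho]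
  refine (S3334.result t ho ⟨h2, ⟨((QuotientGroup.quotientMulEquivOfEq h1).trans
    (QuotientGroup.quotientKerEquivRange ρ)).trans (MulEquiv.subgroupCongr hr)⟩, fun K hK => ?_⟩).resolve_left
    fun h => ?_
  · have h3 := mul_self_mem_of_index_two (hK.index_eq_card.trans h2)
      ⟨a, mem_cen.2 (by rw [← ha, mul_assoc])⟩
    have h4 : (⟨t, htC⟩ : centralizer ({t} : Set X)) ∈ center _ ⊓ K :=
      ⟨h1.ge ((hk _).2 (mem_zpowers t)), by subst ha; exact h3⟩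
    rw [hK.disjoint.eq_bot] at h4
    exact t1 (congrArg Subtype.val (mem_bot.1 h4))
  · have hn : (oddCore X).Normal := inferInstance
    obtain ⟨c, hc, o, ho, e⟩ := mem_sup_of_normal_right.1 (h.ge (mem_top v))
    have h3 : v * t * v⁻¹ * t⁻¹ ∈ oddCore X := by
      have := hn.conj_mem _ (mul_mem ho (hn.conj_mem _ (inv_mem ho) t)) c
      convert this using 1
      conv_lhs => rw [← e]; enter [2]; rw [← mem_cen'.1 hc]
      group
    have h4 := eq_one_of_odd_of_sq GT.odd_card_oddCore h3 (k := 1) (by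
      rw [pow_one, (Commute.inv_right hv).mul_pow, sq, conj_sq tt, inv_pow, sq, tt, inv_one, mul_one])
    exact hv1 (mul_inv_eq_one.1 h4)

end Cfsg.Agent.T16.McS
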