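import Mathlib
import Cfsg.Agent.T16.YA

/-! The centraliser of a non-singular vector of `J` normalises `J`. -/

set_option autoImplicit false
set_option synthInstance.maxSize 100000
set_option synthInstance.maxHeartbeats 1000000
set_option linter.unusedSectionVars false

namespace Cfsg.Agent.T16.Y

open Cfsg.Agent.Spor Cfsg.Agent.Rec Cfsg.Agent.Inv.Fz Subgroup
open A9 (cjm cjc cjs cjcomm cjp)

universe u

variable {G : Type u} [Group G] [Finite G]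

theorem sig_of {c1 c2 c3 v e : G} (h : A4Rel c1 c2 c3 v e)
    (hC : ∀ g ∈ normalizer (clos [c1, c2, c3] : Set G), g * c1 = c1 * g → g * c2 = c2 * g → g * c3 = c3 * g →
      g ∈ clos [c1, c2, c3])
    (hv : v ∈ normalizer (clos [c1, c2, c3] : Set G)) (he : e ∈ normalizer (clos [c1, c2, c3] : Set G))
    (ha : centralizer {c1 * c2 * c3} ≤ normalizer (clos [c1, c2, c3] : Set G))
    (hc : centralizer {c3} ≤ normalizer (clos [c1, c2, c3] : Set G)) : Sig (clos [c1, c2, c3]) := by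
  obtain ⟨C, hr⟩ := A4.cod h.c1_3 h.c12 h.v3 h.vc1 h.vc2 h.card h.e2 h.ec1 h.ec2 h.ec3 h.ev
  have gW : C.Lists yW_t.dom (clos [v, e]) := ((hr.pick [3, 4]).gen yW_ok).1
  have gA : C.Lists B_t.dom (clos [c1, c2]) ∧ Nat.card (clos [c1, c2]) = 9 := (hr.pick [0, 1]).gen B_ok
  have gB : C.Lists A9.B_t.dom (clos [c2, c3]) ∧ Nat.card (clos [c2, c3]) = 9 := (hr.pick [1, 2]).gen A9.B_ok
  have hL := (A4.gJ hr).1.cons (gW.cons (gA.1.cons (gB.1.cons Cod.listsL_nil)))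
  have f1 : (∀ x ∈ clos [c1, c2, c3], x ^ 3 = 1 ∧ ∀ y ∈ clos [c1, c2, c3], x * y = y * x) ∧
      clos [c1, c2] ≤ clos [c1, c2, c3] ∧ clos [c2, c3] ≤ clos [c1, c2, c3] ∧
      ∀ a ∈ clos [c1, c2], a ≠ 1 → ∀ b ∈ clos [c2, c3], b ≠ 1 → ∃ g ∈ clos [v, e],
        (Let (g * a * g⁻¹) fun y => y = c1 * c2 * c3 ∨ y = (c1 * c2 * c3)⁻¹ ∨ y = c3) ∨
        (Let (g * b * g⁻¹) fun y => y = c1 * c2 * c3 ∨ y = (c1 * c2 * c3)⁻¹ ∨ y = c3) ∨
        (Let (g * (a * b) * g⁻¹) fun y => y = c1 * c2 * c3 ∨ y = (c1 * c2 * c3)⁻¹ ∨ y = c3) ∨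
        (Let (g * (a * b⁻¹) * g⁻¹) fun y => y = c1 * c2 * c3 ∨ y = (c1 * c2 * c3)⁻¹ ∨ y = c3) :=
    hL.decide hr (by decide +kernel)
  obtain ⟨f1, f2, f3, f4⟩ := f1
  have hW : clos [v, e] ≤ normalizer (clos [c1, c2, c3] : Set G) := clos_le.2 (by simp [hv, he])
  have m1 : c1 ∈ clos [c1, c2, c3] := mem_clos (by simp)
  have m2 : c2 ∈ clos [c1, c2, c3] := mem_clos (by simp)
  have m3 : c3 ∈ clos [c1, c2, c3] := mem_clos (by simp)
  have hcard := h.card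
  generalize clos [c1, c2, c3] = J at *
  have k : ∀ g ∈ clos [v, e], ∀ x : G, (Let (g * x * g⁻¹) fun y => y = c1 * c2 * c3 ∨ y = (c1 * c2 * c3)⁻¹ ∨ y = c3) →
      centralizer {x} ≤ normalizer (J : Set G) := by
    rintro g hg x (k | k | k)
    · exact A9.cent_cj (hW hg) k ha
    · exact A9.cent_cj (hW hg) k fun x hx => ha (mem_cen.2 (A9.comm_inv (mem_cen.1 hx)))
    · exact A9.cent_cj (hW hg) k hc
  intro K hK hJ
  have h1 : K ≤ normalizer (J : Set G) := by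
    refine GT.CopAct.le_of_centralizer_elt_le (comm_of_nine gA.2)
      (A9.not_isCyclic_nine gA.2 fun a ha => (f1 a (f2 ha)).1) (f2.trans hJ)
      (by rw [gA.2]; exact (Nat.Coprime.pow_right 2 hK).symm) fun a ha ha1 => ?_
    refine GT.CopAct.le_of_centralizer_elt_le (comm_of_nine gB.2)
      (A9.not_isCyclic_nine gB.2 fun a ha => (f1 a (f3 ha)).1)
      (fun b hb => mem_normalizer_of_conj_mem fun x hx => ⟨conj_mem_of_mem_norm (hJ (f3 hb)) hx.1, mem_cen.2 (by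
        have := cjcomm (g := b) (mem_cen.1 hx.2)
        rwa [fix_of ((f1 b (f3 hb)).2 a (f2 ha))] at this)⟩)
      (by rw [gB.2]; exact ((Nat.Coprime.pow_right 2 hK).coprime_dvd_left (card_dvd_of_le inf_le_left)).symm)
      fun b hb hb1 x hx => ?_
    have e1 : Commute x a := mem_cen.1 hx.1.2
    have e2 : Commute x b := mem_cen.1 hx.2
    obtain ⟨g, hg, h2 | h2 | h2 | h2⟩ := f4 a ha ha1 b hb hb1
    exacts [k g hg _ h2 hx.1.2, k g hg _ h2 hx.2, k g hg _ h2 (mem_cen.2 (e1.mul_right e2)),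
      k g hg _ h2 (mem_cen.2 (e1.mul_right e2.inv_right))]
  have h2 : J ⊓ K = ⊥ := disjoint_iff.1 (disjoint_of_coprime_natCard (by
    rw [hcard]; exact (Nat.Coprime.pow_right 3 hK).symm))
  have h3 : ∀ x ∈ K, ∀ j ∈ J, x * j = j * x := fun x hx j hj => by
    have : x * j * x⁻¹ * j⁻¹ ∈ J ⊓ K := ⟨mul_mem (conj_mem_of_mem_norm (h1 hx) hj) (J.inv_mem hj), by
      rw [show x * j * x⁻¹ * j⁻¹ = x * (j * x⁻¹ * j⁻¹) by group]
      exact K.mul_mem hx (conj_mem_of_mem_norm (hJ hj) (K.inv_mem hx))⟩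
    rw [h2, mem_bot, mul_inv_eq_one] at this
    exact of_fix this
  exact (eq_bot_iff_forall _).2 fun x hx =>
    mem_bot.1 (h2.le ⟨hC x (h1 hx) (h3 x hx _ m1) (h3 x hx _ m2) (h3 x hx _ m3), hx⟩)

theorem a4_fin {c1 c2 c3 v e : G} (h : A4Rel c1 c2 c3 v e)
    (hN : normalizer (clos [c1, c2, c3] : Set G) = clos [c1, c2, c3, v, e])
    (ha : centralizer {c1 * c2 * c3} ≤ normalizer (clos [c1, c2, c3] : Set G))
    (hc : centralizer {c3} ≤ normalizer (clos [c1, c2, c3] : Set G)) :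
    normalizer (clos [c1, c2, c3] : Set G) = ⊤ := by
  obtain ⟨C, hr⟩ := A4.cod h.c1_3 h.c12 h.v3 h.vc1 h.vc2 h.card h.e2 h.ec1 h.ec2 h.ec3 h.ev
  refine a4_main h hN (sig_of h ?_ (hN ▸ mem_clos (by simp)) (hN ▸ mem_clos (by simp)) ha hc) ha hc
  rw [hN]
  exact ((A4.gJ hr).1.cons ((A4.gM hr).1.cons Cod.listsL_nil)).decide hr (by decide +kernel)

theorem s4_fin {c1 c2 c3 v e o : G} (h : A4Rel c1 c2 c3 v e) (o2 : o * o = 1) (oc1 : o * c1 * o⁻¹ = c2)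
    (oc3 : o * c3 * o⁻¹ = c3⁻¹) (oe : o * e = e * o) (ov : o * v * o⁻¹ = v * e * v)
    (hN : normalizer (clos [c1, c2, c3] : Set G) = clos [c1, c2, c3, v, e, o])
    (ha : centralizer {c1 * c2 * c3} ≤ normalizer (clos [c1, c2, c3] : Set G))
    (hc : centralizer {c3} ≤ normalizer (clos [c1, c2, c3] : Set G)) :
    normalizer (clos [c1, c2, c3] : Set G) = ⊤ := by
  obtain ⟨C, hr⟩ := cod_s4 h o2 oc1 oc3 oe ov
  have hv : v ∈ normalizer (clos [c1, c2, c3] : Set G) := hN ▸ mem_clos (by simp)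
  refine s4_main h o2 oc1 oc3 oe ov hN (sig_of h ?_ hv (hN ▸ mem_clos (by simp)) ha hc) ha
    (A9.cent_cj (mul_mem hv hv) ((cjc h.vc1).trans h.vc2) hc)
  have gJ : C.Lists J_t.dom (clos [c1, c2, c3]) := ((hr.pick [0, 2, 4]).gen J_ok).1
  have h1 : ∀ g ∈ clos [c1, c1⁻¹, c2, c2⁻¹, c3, c3⁻¹, v, v⁻¹, e, o], g * c1 = c1 * g → g * c2 = c2 * g →
      g * c3 = c3 * g → g ∈ clos [c1, c2, c3] :=
    (gJ.cons ((hr.gen yg_ok).1.cons Cod.listsL_nil)).decide hr (by decide +kernel)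
  refine fun g hg => h1 g ((clos_le.2 fun x hx => mem_clos ?_ : clos _ ≤ _) (hN ▸ hg))
  simp only [List.mem_cons] at hx ⊢
  tauto

variable {m : Mc G} (l : m.Let)

theorem wc2 {g : G} (h : cj g m.J ≤ m.M) : g ∈ m.M := by
  have hp : IsPGroup 3 m.J := IsPGroup.of_card (n := 4) m.cJ
  obtain ⟨k, -, hk⟩ := m.syl.exists_cj_le (IsPGroup.to_sup_of_normal_right' (isPGroup_cj hp g) hp h) le_top
  have h1 := cj_eq_iff.1 (m.wc ((cj_mono le_sup_right).trans hk))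
  have h2 := cj_eq_iff.1 (m.wc (g := k * g) (by rw [← cj_cj]; exact (cj_mono le_sup_left).trans hk))
  exact (mul_mem_cancel_left h1).1 h2

theorem plane {j g : G} (hj : j ∈ m.J) (h : ∀ g : G, g * y l = y l * g → g * j = j * g → g ∈ m.M)
    (hg : g * y l = y l * g) (h1 : g * j * g⁻¹ * j⁻¹ ∈ zpowers (y l)) : g ∈ m.M := by
  refine wc2 (cj_le_iff.2 fun x hx => ?_)
  have e1 : Commute (g * x * g⁻¹) (y l) := by
    have := cjcomm (g := g) (m.Jc x hx _ (yJ l))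
    rwa [fix_of hg] at this
  have e2 : Commute (g * x * g⁻¹) (g * j * g⁻¹) := cjcomm (m.Jc x hx j hj)
  obtain ⟨k, hk⟩ := h1
  have e3 := (e1.zpow_right k).inv_right.mul_right e2
  rw [show y l ^ k = _ from hk, show (g * j * g⁻¹ * j⁻¹)⁻¹ * (g * j * g⁻¹) = j by group] at e3
  exact h _ e1 e3

theorem mem_L {x g : G} (hx : x ∈ m.Z) (h1 : x ≠ 1) (h : g * x = x * g) : g ∈ m.L := by
  have h3 : m.z ^ 3 = 1 := m.J3 _ m.z_mem_J
  refine cj_eq_iff.1 ?_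
  rw [cj_zpowers]
  rcases mem_zpowers_three h3 hx with e | e | e
  · exact absurd e h1
  · rw [fix_of (e ▸ h)]
  · rw [fix_of (A9.comm_inv (e ▸ h))]

theorem plane_c3 (g : G) (h1 : g * y l = y l * g) (h2 : g * c3 l = c3 l * g) : g ∈ m.M := by
  have e : y l * c3 l = m.z * m.z := by
    rw [y, c3, zz', mul_assoc, ← mul_assoc m.z, ← m.Jc _ (inv_mem (z'J l)) _ (mul_mem m.z_mem_J m.z_mem_J)]; group
  have h3 : Commute g (m.z * m.z) := e ▸ Commute.mul_right h1 h2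
  have h4 : m.z * m.z ≠ 1 := fun h => by
    have := orderOf_dvd_of_pow_eq_one (show m.z ^ 2 = 1 by rw [sq, h])
    rw [m.z3] at this
    omega
  exact (m.B_eq.le (m.mem_B (yJ l) (y_not l) (mem_L (mul_mem (mem_zpowers _) (mem_zpowers _)) h4 h3)
    (by rw [fix_of h1]; exact yJ l))).1

theorem plane_s (hs : c1 l * c2 l * c3 l ∉ zpowers (y l)) (g : G) (h1 : g * y l = y l * g)
    (h2 : g * (c1 l * c2 l * c3 l) = c1 l * c2 l * c3 l * g) : g ∈ m.M := by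
  obtain ⟨p, hp, e⟩ := a6_facts.2.2.1
  obtain ⟨x, rfl⟩ := l.f_range.ge hp
  have hx : (x : G) ∈ m.M := o3_le _ x.2
  have h3 : (x : G) * l.v * (x : G)⁻¹ ∈ m.S := (l.f_S (x * ⟨l.v, l.vM⟩ * x⁻¹)).2 (by
    rw [map_mul, map_mul, map_inv, l.f_v, e]
    exact mul_mem (mem_clos (by simp)) (mem_clos (by simp)))
  rw [← m.sup_QJ, sup_comm] at h3
  obtain ⟨j, hj, q, hq, e1⟩ := (GT.PG.mem_sup_of_le_normalizer'
    (((m.JS.trans m.S_le_L0).trans (o3_le _)).trans m.Qn)).1 h3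
  have hqM : q ∈ m.M := o3_le _ (m.S_le_M0 (m.QS hq))
  have k1 : ∀ a ∈ m.J, (x : G) * (l.v * a * l.v⁻¹ * a⁻¹) * (x : G)⁻¹ =
      q * (x * a * (x : G)⁻¹) * q⁻¹ * ((x : G) * a * (x : G)⁻¹)⁻¹ := fun a ha => by
    rw [← fix_of (m.Jc j hj _ (cjJ hqM (cjJ hx ha))), ← cjc rfl, e1]; group
  have e2 : c1 l * c2 l * c3 l = l.v * (l.v * c3 l * l.v⁻¹ * (c3 l)⁻¹) * l.v⁻¹ * (l.v * c3 l * l.v⁻¹ * (c3 l)⁻¹)⁻¹ := by
    have a1 := m.J3 _ (c1J l)
    have a2 := m.Jc _ (c1J l) _ (c2J l)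
    have a3 := m.Jc _ (c3J l) _ (inv_mem (c1J l))
    change _ = l.v * (c1 l * (c3 l)⁻¹) * l.v⁻¹ * (c1 l * (c3 l)⁻¹)⁻¹
    rw [cjm, cji, mul_inv_rev (c1 l), inv_inv]
    change _ = c2 l * (c1 l)⁻¹ * (c3 l * (c1 l)⁻¹)
    have a4 : c1 l = (c1 l)⁻¹ * (c1 l)⁻¹ := by
      calc _ = (c1 l)⁻¹ * (c1 l)⁻¹ * c1 l ^ 3 := by group
        _ = _ := by rw [a1, mul_one]
    rw [a3, a2, mul_assoc (c2 l) (c1 l)⁻¹, ← mul_assoc (c1 l)⁻¹, ← a4, mul_assoc]
  have hd : l.v * c3 l * l.v⁻¹ * (c3 l)⁻¹ ∈ m.J := mul_mem (c1J l) (inv_mem (c3J l))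
  have h4 : (x : G) * (c1 l * c2 l * c3 l) * (x : G)⁻¹ ∈ m.Z := by
    rw [e2, k1 _ hd]
    refine m.Qc _ hq _ ?_
    rw [k1 _ (c3J l)]
    exact (m.comm_QJ _ hq _ (cjJ hx (c3J l))).2
  have h5 : (x : G) * (c1 l * c2 l * c3 l) * (x : G)⁻¹ ≠ 1 := fun h => hs (conj_eq_one.1 h ▸ one_mem _)
  have h6 : (x : G) * y l * (x : G)⁻¹ ∉ m.Z := fun h => hs (by
    have h7 : zpowers ((x : G) * y l * (x : G)⁻¹) = m.Z := eq_of_le_of_card_ge (zpowers_le.2 h) (by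
      rw [← cj_zpowers, card_cj, Nat.card_zpowers, Nat.card_zpowers, m.z3,
        orderOf_eq_prime (m.J3 _ (yJ l)) (y_ne l)])
    rwa [← h7, ← cj_zpowers, conj_mem_cj] at h4)
  have h7 : _ ∈ m.M := (m.B_eq.le (m.mem_B (cjJ hx (yJ l)) h6 (mem_L h4 h5 (cjcomm h2))
    (by rw [fix_of (cjcomm h1)]; exact cjJ hx (yJ l)))).1
  rwa [mul_mem_cancel_right (inv_mem hx), mul_mem_cancel_left hx] at h7

theorem exists_o (hw : ∀ j ∈ m.J, l.w * j * l.w⁻¹ = j⁻¹) : ∃ o ∈ m.M, o * y l = y l * o ∧ o * o = 1 ∧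
    o * c1 l * o⁻¹ = c2 l ∧ o * c3 l * o⁻¹ = (c3 l)⁻¹ ∧ o * l.t = l.t * o ∧
    (l.v * l.t * l.v)⁻¹ * (o * l.v * o⁻¹) ∈ zpowers (y l) ∧
    ∀ R : Subgroup G, o ∈ R → l.t ∈ R → l.n ∈ R → l.w * l.b ∈ R := by
  have uM : l.w * l.b ∈ m.M := mul_mem (wM l) (bM l)
  have bt : l.b * l.t * l.b⁻¹ = l.t := by rw [← l.bb]; group
  have wt : l.w * l.t * l.w⁻¹ = l.t := by rw [← l.bb, cjm, fix_of l.wb]
  have ti : l.t⁻¹ = l.t := inv_eq_of_mul_eq_one_left l.tt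
  have ni : l.n⁻¹ = l.n := inv_eq_of_mul_eq_one_left l.nn
  have bn : l.b * l.n * l.b⁻¹ = l.t * l.n := by
    rw [← l.nb, ← l.bb]
    calc _ = l.b * (l.n * l.n) * l.b * l.n⁻¹ := by group
      _ = _ := by rw [l.nn, ni, mul_one]
  have ut := (cjc (g := l.w) bt).trans wt
  have un : l.w * l.b * l.n * (l.w * l.b)⁻¹ = l.t * l.n := by rw [cjc bn, cjm, wt, fix_of l.wn]
  have uy : l.w * l.b * y l * (l.w * l.b)⁻¹ = y l := by rw [cjc (by_ l), cji, hw _ (yJ l), inv_inv]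
  have uc3 : l.w * l.b * c3 l * (l.w * l.b)⁻¹ = c3 l := by rw [cjc (bc3 l), cji, hw _ (c3J l), inv_inv]
  have uu : l.w * l.b * (l.w * l.b) = l.t := by
    rw [← l.bb, mul_assoc, ← mul_assoc l.b, ← l.wb, ← mul_assoc, ← mul_assoc, l.ww, one_mul]
  generalize l.w * l.b = u at *
  have tn := (nt l).symm
  have k : ∀ {g r x s : G}, u * g * u⁻¹ = r → g * x * g⁻¹ = s → r * (u * x * u⁻¹) * r⁻¹ = u * s * u⁻¹ :=
    fun h1 h2 => by rw [← h1, ← h2]; group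
  have h1 : u * c1 l * u⁻¹ ∈ zpowers (c2 l) := by
    have a1 : l.t * (u * c1 l * u⁻¹) * l.t⁻¹ = (u * c1 l * u⁻¹)⁻¹ := by rw [k ut (tc1 l), cji]
    refine mem_c2 l (cjJ uM (c1J l)) a1 ?_
    have a2 := k un (nc1 l)
    rw [cjc rfl] at a2
    rw [← cj2 l.tt (l.n * (u * c1 l * u⁻¹) * l.n⁻¹), a2, a1]
  have key : ∀ d : G, d ∈ m.M → d * y l * d⁻¹ = y l → u * d * u⁻¹ * l.t * d = 1 → u * d * c1 l * (u * d)⁻¹ = c2 l →
      d * c3 l * d⁻¹ = (c3 l)⁻¹ → d * l.t * d⁻¹ = l.t → d * l.n * d⁻¹ = l.n →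
      (∀ R : Subgroup G, l.t ∈ R → l.n ∈ R → d ∈ R) → ∃ o ∈ m.M, o * y l = y l * o ∧ o * o = 1 ∧
      o * c1 l * o⁻¹ = c2 l ∧ o * c3 l * o⁻¹ = (c3 l)⁻¹ ∧ o * l.t = l.t * o ∧
      (l.v * l.t * l.v)⁻¹ * (o * l.v * o⁻¹) ∈ zpowers (y l) ∧
      ∀ R : Subgroup G, o ∈ R → l.t ∈ R → l.n ∈ R → u ∈ R := fun d d1 d2 d3 oc1 d5 d6 d7 d8 => by
    have oy := (cjc (g := u) d2).trans uy
    have o2 : u * d * (u * d) = 1 := by rw [← d3, ← uu]; group
    have oc3 : u * d * c3 l * (u * d)⁻¹ = (c3 l)⁻¹ := by rw [cjc d5, cji, uc3]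
    have ot := (cjc (g := u) d6).trans ut
    have on := (cjc (g := u) d7).trans un
    refine ⟨u * d, mul_mem uM d1, of_fix oy, o2, oc1, oc3, of_fix ot, ?_, fun R h1 h2 h3 =>
      (mul_mem_cancel_right (d8 R h2 h3)).1 h1⟩
    generalize u * d = o at *
    have oc2 : o * c2 l * o⁻¹ = c1 l := by rw [← oc1, cj2 o2]
    have otn : o * (l.t * l.n) * o⁻¹ = l.n := by rw [← on, cj2 o2]
    have vc1 : l.v * c1 l * l.v⁻¹ = c2 l := rfl
    have vc3 : l.v * c3 l * l.v⁻¹ = c1 l := rfl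
    have k2 : ∀ x : G, o * (l.v * (o * x * o⁻¹) * l.v⁻¹) * o⁻¹ = l.v * (l.t * (l.v * x * l.v⁻¹) * l.t⁻¹) * l.v⁻¹ →
        (l.v * l.t * l.v)⁻¹ * (o * l.v * o⁻¹) * x = x * ((l.v * l.t * l.v)⁻¹ * (o * l.v * o⁻¹)) := fun x h => by
      refine of_fix ?_
      rw [inv_eq_of_mul_eq_one_left o2]
      calc _ = (l.v * l.t * l.v)⁻¹ * (o * (l.v * (o * x * o⁻¹) * l.v⁻¹) * o⁻¹) * (l.v * l.t * l.v) := by group
        _ = x := by rw [h]; group
    refine mem_y l (m.cent_J.le fun j hj => (mem_cen.1 (J_le l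
      (R := centralizer {(l.v * l.t * l.v)⁻¹ * (o * l.v * o⁻¹)}) (mem_cen.2 (k2 _ ?_).symm)
      (mem_cen.2 (k2 _ ?_).symm) (mem_cen.2 (k2 _ ?_).symm) (mem_cen.2 (k2 _ ?_).symm) hj)))
      (fix_of (k2 _ ?_).symm) (fix_of (k2 _ ?_).symm)
    · rw [oy, vy, oy, ty, vy]
    · rw [oc1, vc2, oc3, vc1, tc2, cji, vc2]
    · rw [oc2, vc1, oc2, vc2, tc3, vc3]
    · rw [oc3, cji, vc3, cji, oc1, tc1, cji, vc1]
    · rw [ot, l.vt, on, fix_of tn, l.vn]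
    · rw [on, vtn, ot, l.vn, cjm l.t, fix_of tn, fix_of (g := l.t) rfl, vtn]
  rcases mem_zpowers_three (m.J3 _ (c2J l)) h1 with h | h | h
  · exact absurd (conj_eq_one.1 (conj_eq_one.1 h)) (c3_ne l)
  · refine key l.n (nM l) (ny l) ?_ ((cjc (nc1 l)).trans h) (nc3 l) (fix_of (nt l)) (by group) fun R _ h => h
    rw [un, mul_assoc l.t, nt, ← mul_assoc, l.tt, one_mul, l.nn]
  · refine key (l.t * l.n) (mul_mem (tM l) (nM l)) ((cjc (ny l)).trans (ty l)) ?_ ?_ (tnc3 l)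
      ((cjc (fix_of (nt l))).trans (by group)) ((cjc (show l.n * l.n * l.n⁻¹ = l.n by group)).trans (fix_of tn))
      fun R h h' => mul_mem h h'
    · rw [cjm, ut, un, ← mul_assoc l.t, l.tt, one_mul, mul_assoc, ← mul_assoc l.t, l.tt, one_mul, l.nn]
    · rw [cjc ((cjc (nc1 l)).trans (tc1 l)), cji, h, inv_inv]

theorem quot_main {X : Type u} [Group X] [Finite X] (f : centralizer {y l} →* X) (hs : Function.Surjective f)
    (hk : ∀ x, f x = 1 ↔ (x : G) ∈ zpowers (y l)) : centralizer {y l} ≤ m.M := by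
  have hJ : m.J ≤ centralizer {y l} := fun j hj => mem_cen.2 (m.Jc j hj _ (yJ l))
  let C1 : centralizer {y l} := ⟨c1 l, hJ (c1J l)⟩
  let C2 : centralizer {y l} := ⟨c2 l, hJ (c2J l)⟩
  let C3 : centralizer {y l} := ⟨c3 l, hJ (c3J l)⟩
  let V : centralizer {y l} := ⟨l.v, mem_cen'.2 (vy l)⟩
  let T : centralizer {y l} := ⟨l.t, mem_cen'.2 (ty l)⟩
  have cf : ∀ {g a b : centralizer {y l}}, (g : G) * a * (g : G)⁻¹ = b → f g * f a * (f g)⁻¹ = f b := fun h => by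
    rw [← map_inv, ← map_mul, ← map_mul]; exact congrArg f (Subtype.ext h)
  have cf' : ∀ {g a b : centralizer {y l}}, (g : G) * a * (g : G)⁻¹ = (b : G)⁻¹ → f g * f a * (f g)⁻¹ = (f b)⁻¹ :=
    fun {g a b} h => (cf (b := b⁻¹) h).trans (map_inv f b)
  have P : ∀ K : Subgroup X, ∃ R : Subgroup G, ∀ x : centralizer {y l}, (x : G) ∈ R ↔ f x ∈ K := fun K =>
    ⟨(K.comap f).map (centralizer {y l}).subtype, fun x =>
      ⟨fun ⟨z, hz, e⟩ => (Subtype.ext e : z = x) ▸ hz, fun h => ⟨x, h, rfl⟩⟩⟩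
  have fy : f ⟨y l, hJ (yJ l)⟩ = 1 := (hk _).2 (mem_zpowers _)
  have PJ : ∀ {K : Subgroup X} {R : Subgroup G}, (∀ x : centralizer {y l}, (x : G) ∈ R ↔ f x ∈ K) → f C1 ∈ K →
      f C2 ∈ K → f C3 ∈ K → m.J ≤ R := fun h h1 h2 h3 =>
    J_le l ((h ⟨y l, hJ (yJ l)⟩).2 (fy ▸ one_mem _)) ((h C1).2 h1) ((h C2).2 h2) ((h C3).2 h3)
  have eJ : clos [f C1, f C2, f C3] = (m.J.subgroupOf _).map f := by
    refine le_antisymm (clos_le.2 ?_) ?_
    · simp only [List.forall_mem_cons]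
      exact ⟨⟨C1, c1J l, rfl⟩, ⟨C2, c2J l, rfl⟩, ⟨C3, c3J l, rfl⟩, by simp⟩
    · rintro _ ⟨x, hx, rfl⟩
      obtain ⟨R, hR⟩ := P (clos [f C1, f C2, f C3])
      exact (hR x).1 (PJ hR (mem_clos (by simp)) (mem_clos (by simp)) (mem_clos (by simp)) hx)
  have k1 : ∀ x, f x ∈ clos [f C1, f C2, f C3] ↔ (x : G) ∈ m.J := fun x => by
    rw [eJ]
    refine ⟨fun ⟨j, hj, e⟩ => ?_, fun h => ⟨x, h, rfl⟩⟩
    exact (mul_mem_cancel_left (inv_mem (mem_subgroupOf.1 hj))).1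
      (zpowers_le.2 (yJ l) ((hk (j⁻¹ * x)).1 (by rw [map_mul, map_inv, e, inv_mul_cancel])))
  have k2 : ∀ x, f x ∈ normalizer (clos [f C1, f C2, f C3] : Set X) ↔ (x : G) ∈ m.M := fun x => by
    refine ⟨fun h => mem_normalizer_of_conj_mem fun j hj => (k1 (x * ⟨j, hJ hj⟩ * x⁻¹)).1 ?_,
      fun h => mem_normalizer_of_conj_mem fun q hq => ?_⟩
    · rw [map_mul, map_mul, map_inv]
      exact conj_mem_of_mem_norm h ((k1 _).2 hj)
    · obtain ⟨j, rfl⟩ := hs q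
      rw [← map_inv, ← map_mul, ← map_mul]
      exact (k1 _).2 (cjJ h ((k1 j).1 hq))
  have k3 : ∀ j : centralizer {y l}, (j : G) ∈ m.J → (∀ g : G, g * y l = y l * g → g * j = j * g → g ∈ m.M) →
      centralizer {f j} ≤ normalizer (clos [f C1, f C2, f C3] : Set X) := fun j hj h q hq => by
    obtain ⟨g, rfl⟩ := hs q
    refine (k2 g).2 (plane l hj h (mem_cen.1 g.2) ((hk (g * j * g⁻¹ * j⁻¹)).1 ?_))
    rw [map_mul, map_mul, map_mul, map_inv, map_inv, mem_cen'.1 hq, mul_inv_cancel]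
  have hcard : Nat.card (clos [f C1, f C2, f C3]) = 27 := by
    have h1 : f.ker = (zpowers (y l)).subgroupOf _ := by ext x; exact hk x
    have h2 := card_mul_relIndex (zpowers_le.2 (yJ l))
    rw [Nat.card_zpowers, orderOf_eq_prime (m.J3 _ (yJ l)) (y_ne l), m.cJ] at h2
    rw [eJ, ← relIndex_ker, h1, relIndex_subgroupOf hJ]
    omega
  have hr : A4Rel (f C1) (f C2) (f C3) (f V) (f T) :=
    { c1_3 := by rw [← map_pow, ← map_one f]; exact congrArg f (Subtype.ext (m.J3 _ (c1J l)))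
      c12 := by rw [← map_mul, ← map_mul]; exact congrArg f (Subtype.ext (m.Jc _ (c1J l) _ (c2J l)))
      v3 := by rw [← map_pow]; exact (hk _).2 (v3y l)
      vc1 := cf rfl
      vc2 := cf (vc2 l)
      card := hcard
      e2 := by rw [← map_mul, ← map_one f]; exact congrArg f (Subtype.ext l.tt)
      ec1 := cf' (tc1 l)
      ec2 := cf' (tc2 l)
      ec3 := cf (tc3 l)
      ev := by
        simp only [← map_inv, ← map_mul]
        rw [← map_one f]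
        refine congrArg f (Subtype.ext ?_)
        change l.t * (l.v * l.t * l.v⁻¹) * (l.v⁻¹ * l.t * l.v) = 1
        rw [l.vt, show l.v⁻¹ * l.t * l.v = l.t * l.n by simpa using cjs (vtn l), mul_assoc, ← mul_assoc l.n, nt,
          mul_assoc, l.nn, mul_one, l.tt] }
  have ha : centralizer {f C1 * f C2 * f C3} ≤ normalizer (clos [f C1, f C2, f C3] : Set X) := by
    rw [← map_mul, ← map_mul]
    refine k3 _ (mul_mem (mul_mem (c1J l) (c2J l)) (c3J l)) (plane_s l fun h => ?_)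
    obtain ⟨C, hc⟩ := A4.cod hr.c1_3 hr.c12 hr.v3 hr.vc1 hr.vc2 hr.card hr.e2 hr.ec1 hr.ec2 hr.ec3 hr.ev
    have h1 : f C1 * f C2 * f C3 ≠ 1 := by
      generalize f C1 = a, f C2 = b, f C3 = c, f V = d, f T = e at hc
      exact Cod.listsL_nil.decide hc (by decide +kernel)
    exact h1 (by rw [← map_mul, ← map_mul]; exact (hk _).2 h)
  have hc := k3 C3 (c3J l) (plane_c3 l)
  have k4 : ∀ K : Subgroup X, f C1 ∈ K → f C2 ∈ K → f C3 ∈ K → f V ∈ K → f T ∈ K →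
      (∀ R : Subgroup G, (∀ x : centralizer {y l}, (x : G) ∈ R ↔ f x ∈ K) → l.t ∈ R → l.n ∈ R → l.w ≠ 1 →
        l.w * l.b ∈ R) → normalizer (clos [f C1, f C2, f C3] : Set X) ≤ K := fun K h1 h2 h3 h4 h5 h6 q hq => by
    obtain ⟨g, rfl⟩ := hs q
    obtain ⟨R, hR⟩ := P K
    have ht := (hR T).2 h5
    have hv := (hR V).2 h4
    have hn : l.n ∈ R := l.vt ▸ mul_mem (mul_mem hv ht) (inv_mem hv)
    exact (hR g).1 (cenM_le l (PJ hR h1 h2 h3) ht hn hv (h6 R hR ht hn) ((k2 g).1 hq) (mem_cen.1 g.2))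
  have n1 := (k2 C1).2 (le_normalizer (c1J l))
  have n2 := (k2 C2).2 (le_normalizer (c2J l))
  have n3 := (k2 C3).2 (le_normalizer (c3J l))
  have n4 := (k2 V).2 (vM l)
  have n5 := (k2 T).2 (tM l)
  suffices h : normalizer (clos [f C1, f C2, f C3] : Set X) = ⊤ from fun g hg => (k2 ⟨g, hg⟩).1 (h ▸ mem_top _)
  rcases l.wJ with hw | hw
  · refine a4_fin hr (le_antisymm (k4 _ (mem_clos (by simp)) (mem_clos (by simp)) (mem_clos (by simp))
      (mem_clos (by simp)) (mem_clos (by simp)) fun _ _ _ _ h => absurd hw h) (clos_le.2 ?_)) ha hc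
    simp only [List.forall_mem_cons]
    exact ⟨n1, n2, n3, n4, n5, by simp⟩
  · obtain ⟨o, o1, o2, o3, o4, o5, o6, o7, o8⟩ := exists_o l hw
    let O : centralizer {y l} := ⟨o, mem_cen.2 o2⟩
    refine s4_fin (o := f O) hr (by rw [← map_mul, ← map_one f]; exact congrArg f (Subtype.ext o3)) (cf o4) (cf' o5)
      (by rw [← map_mul, ← map_mul]; exact congrArg f (Subtype.ext o6)) ?_
      (le_antisymm (k4 _ (mem_clos (by simp)) (mem_clos (by simp)) (mem_clos (by simp))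
        (mem_clos (by simp)) (mem_clos (by simp)) fun R hR ht hn _ => o8 R ((hR O).2 (mem_clos (by simp))) ht hn)
        (clos_le.2 ?_)) ha hc
    · have := (hk ((V * T * V)⁻¹ * (O * V * O⁻¹))).2 o7
      simp only [map_mul, map_inv] at this
      exact (inv_mul_eq_one.1 this).symm
    · simp only [List.forall_mem_cons]
      exact ⟨n1, n2, n3, n4, n5, (k2 O).2 o1, by simp⟩

end Cfsg.Agent.T16.Y

namespace Cfsg.Agent.T16.Mc

open Cfsg.Agent.Rec Cfsg.Agent.Inv.Fz Subgroup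

universe u

variable {G : Type u} [Group G] [Finite G] {m : Mc G}

theorem Let.cent_y (l : m.Let) : centralizer {m.z * (l.n * m.z * l.n⁻¹)} ≤ m.M := by
  have hn : ((zpowers (Y.y l)).subgroupOf (centralizer {Y.y l})).Normal :=
    (normal_subgroupOf_iff_le_normalizer (zpowers_le.2 (mem_cen.2 rfl))).2 fun g hg =>
      cj_eq_iff.1 (by rw [cj_zpowers, mem_cen'.1 hg])
  exact Y.quot_main l (QuotientGroup.mk' ((zpowers (Y.y l)).subgroupOf (centralizer {Y.y l})))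
    (QuotientGroup.mk'_surjective _) fun x => QuotientGroup.eq_one_iff x

end Cfsg.Agent.T16.Mc
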