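import Mathlib
import Cfsg.Agent.T16.McLY
import Cfsg.Agent.T16.McLS
import Cfsg.Agent.T16.A8St
import Cfsg.Agent.GT.ZassenhausThm

/-! The McLaughlin configuration: the normaliser of `Z` in `C(t)`. -/

set_option autoImplicit false
set_option linter.unusedSectionVars false

namespace Cfsg.Agent.T16.McH

open Cfsg.Agent.Rec Cfsg.Agent.Inv.Fz Subgroup Y
open A9 (cjm cjc cjs cjcomm cjp)

universe u

variable {G : Type u} [Group G] [Finite G] {m : Mc G} (l : m.Let)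

/-- `C(t)` -/
abbrev Ct : Subgroup G := centralizer {l.t}
/-- `C_L(t)` -/
abbrev H : Subgroup G := Ct l ⊓ m.L
/-- `C_{L₀}(t)` -/
abbrev C0 : Subgroup G := Ct l ⊓ m.L0
/-- `C_S(t)` -/
abbrev D : Subgroup G := m.Z ⊔ zpowers (z' l)
/-- The complement of `S` in `N(S)`. -/
abbrev T : Subgroup G := clos [l.a, l.b, l.w]

theorem t_ne : l.t ≠ 1 := fun h => McS.a6_facts.2.2.2.2.1 (by
  rw [← l.f_b, ← map_mul, ← map_one l.f]
  exact congrArg _ (Subtype.ext (l.bb.trans h)))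

theorem t_ord : orderOf l.t = 2 := orderOf_eq_prime (by rw [sq, l.tt]) (t_ne l)

theorem t_not : l.t ∉ m.S := fun h => t_ne l (by
  have h1 := pow_card_eq_one' (x := (⟨l.t, h⟩ : m.S))
  rw [m.card_S] at h1
  simpa using pow_gcd_eq_one.2 ⟨congrArg Subtype.val h1, show l.t ^ 2 = 1 by rw [sq, l.tt]⟩)

theorem z_ne : m.z ≠ m.z⁻¹ := fun h => m.esz.z_ne_one (eq_one_of_eq_inv m.z_cube h)
theorem z'3 : z' l ^ 3 = 1 := m.J3 _ (z'J l)
theorem z'_not : z' l ∉ m.Z := l.nz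
theorem z'_ne : z' l ≠ (z' l)⁻¹ := fun h => z'_not l (eq_one_of_eq_inv (z'3 l) h ▸ one_mem _)
theorem az' : l.a * z' l * l.a⁻¹ = (z' l)⁻¹ := l.az'

theorem D_eq : D l = m.S ⊓ Ct l := by
  rw [l.cen_t]
  refine le_antisymm (sup_le (zpowers_le.2 (mem_clos (by simp))) (zpowers_le.2 (mem_clos (by simp [z']))))
    (clos_le.2 ?_)
  simp only [List.forall_mem_cons]
  exact ⟨mem_sup_left (mem_zpowers _), mem_sup_right (mem_zpowers _), by simp⟩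

theorem D_le_J : D l ≤ m.J := sup_le (zpowers_le.2 m.z_mem_J) (zpowers_le.2 (z'J l))

theorem z'N : z' l ∈ normalizer (m.Z : Set G) := m.S_le_L (m.JS (z'J l))

theorem card_D : Nat.card (D l) = 9 := by
  rw [GT.PG.card_sup_zpowers Nat.prime_three (z'N l) (z'_not l) (z'3 l ▸ one_mem _), m.esz.card_zpowers]

theorem aC : l.a ∈ Ct l := mem_cen.2 (by rw [← l.aa, mul_assoc])
theorem bC : l.b ∈ Ct l := mem_cen.2 (by rw [← l.bb, mul_assoc])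
theorem wC : l.w ∈ Ct l := mem_cen.2 (by rw [← l.aa, ← mul_assoc, l.wa, mul_assoc, l.wa, mul_assoc])
theorem nC : l.n ∈ Ct l := mem_cen.2 (nt l)
theorem tC : l.t ∈ Ct l := mem_cen.2 rfl
theorem tL0 : l.t ∈ m.L0 := l.aa ▸ mul_mem l.aL l.aL

theorem T_le {R : Subgroup G} (ha : l.a ∈ R) (hb : l.b ∈ R) (hw : l.w ∈ R) : T l ≤ R := clos_le.2 (by
  simp only [List.forall_mem_cons]
  exact ⟨ha, hb, hw, by simp⟩)

theorem T_le_H : T l ≤ H l := T_le l ⟨aC l, (m.B_eq.le l.aB).2⟩ ⟨bC l, (m.B_eq.le l.bB).2⟩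
  ⟨wC l, (m.B_eq.le l.wB).2⟩

theorem ba : l.b * l.a * l.b⁻¹ = l.a⁻¹ := by
  have h : l.b * l.a * l.b = l.a := by
    calc _ = l.b * (l.a * l.b * l.a⁻¹) * l.a := by group
      _ = _ := by rw [l.ab]; group
  calc _ = l.b * l.a * l.b * (l.b * l.b)⁻¹ := by group
    _ = _ := by rw [h, l.bb, ← l.aa]; group

theorem mem_T {τ : G} (h : τ ∈ T l) : ∃ α ∈ zpowers l.a,
    τ = α ∨ τ = l.b * α ∨ (l.w ≠ 1 ∧ (τ = l.w * α ∨ τ = l.w * l.b * α)) := by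
  have n1 : l.b ∈ normalizer (zpowers l.a : Set G) := cj_eq_iff.1 (by rw [cj_zpowers, ba, zpowers_inv])
  have n2 : l.w ∈ normalizer ((zpowers l.b ⊔ zpowers l.a : Subgroup G) : Set G) :=
    cj_eq_iff.1 (by rw [cj_sup, cj_zpowers, cj_zpowers, fix_of l.wa, fix_of l.wb])
  have k : ∀ x ∈ zpowers l.b ⊔ zpowers l.a, ∃ α ∈ zpowers l.a, x = α ∨ x = l.b * α := fun x hx => by
    rcases mem_sup_two n1 (by rw [l.bb, ← l.aa]; exact mul_mem (mem_zpowers _) (mem_zpowers _)) hx with e | e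
    · exact ⟨_, e, .inl rfl⟩
    · exact ⟨_, e, .inr (by group)⟩
  rcases mem_sup_two n2 (l.ww ▸ one_mem _) (T_le l (mem_sup_right (mem_sup_right (mem_zpowers _)))
    (mem_sup_right (mem_sup_left (mem_zpowers _))) (mem_sup_left (mem_zpowers _)) h) with e | e
  · obtain ⟨α, hα, e'⟩ := k _ e
    exact ⟨α, hα, e'.imp_right .inl⟩
  · obtain ⟨α, hα, e'⟩ := k _ e
    by_cases hw : l.w = 1
    · rw [hw, inv_one, one_mul] at e'
      exact ⟨α, hα, e'.imp_right .inl⟩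
    · exact ⟨α, hα, .inr (.inr ⟨hw, e'.imp (fun e => by rw [← e]; group) fun e => by
        rw [mul_assoc, ← e]; group⟩)⟩

theorem mem_a {α : G} (h : α ∈ zpowers l.a) : α ∈ zpowers l.t ∨ ∃ ε ∈ zpowers l.t, α = l.a * ε :=
  (mem_sup_two (N := zpowers l.t) (cj_eq_iff.1 (by rw [cj_zpowers, mem_cen'.1 (aC l)]))
    (l.aa ▸ mem_zpowers _) (mem_sup_left h)).imp_right fun e => ⟨_, e, by group⟩

omit [Finite G] in
theorem fix_zp {g α x : G} (h : α ∈ zpowers g) (e : g * x * g⁻¹ = x) : α * x * α⁻¹ = x :=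
  mem_cen'.1 (zpowers_le.2 (mem_cen'.2 e) h)

theorem wz (hw : l.w ≠ 1) : l.w * m.z * l.w⁻¹ = m.z⁻¹ := l.wJ.resolve_left hw _ m.z_mem_J
theorem wz' (hw : l.w ≠ 1) : l.w * z' l * l.w⁻¹ = (z' l)⁻¹ := l.wJ.resolve_left hw _ (z'J l)
theorem wbz (hw : l.w ≠ 1) : l.w * l.b * m.z * (l.w * l.b)⁻¹ = m.z := by rw [cjc l.bz, cji, wz l hw, inv_inv]
theorem wbz' (hw : l.w ≠ 1) : l.w * l.b * z' l * (l.w * l.b)⁻¹ = z' l := by
  rw [cjc (bz' l), cji, wz' l hw, inv_inv]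
theorem wb2 : l.w * l.b * (l.w * l.b) = l.t := by
  rw [← l.bb, mul_assoc, ← mul_assoc l.b, ← l.wb, ← mul_assoc, ← mul_assoc, l.ww, one_mul]

theorem not_L0 {g : G} (h : g * m.z * g⁻¹ = m.z⁻¹) : g ∉ m.L0 := fun e =>
  z_ne ((mem_cen'.1 (m.L0_le e)).symm.trans h)

theorem wb_not (hw : l.w ≠ 1) : l.w * l.b ∉ m.L0 := fun h => by
  obtain ⟨f, hf, hk⟩ := m.eL
  have h0 := m.S_le_L0 (m.JS (z'J l))
  have h1 : f ⟨_, h⟩ ^ 6 = 1 := by
    have h3 : f ⟨_, h0⟩ * f ⟨_, h0⟩ * f ⟨_, h0⟩ = 1 := by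
      rw [← pow_three', ← map_pow, ← map_one f]; exact congrArg _ (Subtype.ext (z'3 l))
    have := sl25_cent _ h3 (fun e => l.z'Q ((hk _).1 e)) (f ⟨_, h⟩) (by
      rw [← map_mul, ← map_mul]; exact congrArg _ (Subtype.ext (of_fix (wbz' l hw))))
    revert this h3
    generalize f ⟨_, h0⟩ = u
    generalize f ⟨_, h⟩ = k
    intro h3
    have h6 : u ^ 6 = 1 := by rw [show 6 = 3 * 2 from rfl, pow_mul, pow_three', h3, one_pow]
    have h7 : (u * u) ^ 6 = 1 := by rw [← sq, ← pow_mul, mul_comm, pow_mul, h6, one_pow]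
    have h8 : ∀ x : SL25, (-x) ^ 6 = x ^ 6 := (show Even 6 by decide).neg_pow
    rintro (e | e | e | e | e | e) <;> rw [e]
    exacts [one_pow _, h6, h7, (h8 _).trans (one_pow _), (h8 _).trans h6, (h8 _).trans h7]
  have h2 : (l.w * l.b) ^ 6 ∈ m.Q := (hk (⟨_, h⟩ ^ 6)).1 (by rw [map_pow, h1])
  rw [show 6 = 2 * 3 from rfl, pow_mul, sq, wb2, pow_three', l.tt, one_mul] at h2
  exact t_not l (m.QS h2)

theorem T_L0 {τ : G} (h : τ ∈ T l) (h0 : τ ∈ m.L0) : τ ∈ zpowers l.a := by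
  obtain ⟨α, hα, e⟩ := mem_T l h
  have h1 : α ∈ m.L0 := zpowers_le.2 l.aL hα
  rcases e with rfl | rfl | ⟨hw, rfl | rfl⟩
  · exact hα
  · exact absurd ((mul_mem_cancel_right h1).1 h0) (not_L0 l.bz)
  · exact absurd ((mul_mem_cancel_right h1).1 h0) (not_L0 (wz l hw))
  · exact absurd ((mul_mem_cancel_right h1).1 h0) (wb_not l hw)

theorem mem_BC {c : G} (hB : c ∈ m.B) (hc : c ∈ Ct l) : ∃ s ∈ D l, ∃ τ ∈ T l, c = s * τ := by
  obtain ⟨s, hs, τ, hτ, rfl⟩ := l.B_eq c hB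
  exact ⟨s, (D_eq l).ge ⟨hs, (mul_mem_cancel_right (mem_inf.1 (T_le_H l hτ)).1).1 hc⟩, τ, hτ, rfl⟩

theorem mem_B' {c : G} (hL : c ∈ m.L) (h : c * z' l * c⁻¹ ∈ m.J) : c ∈ m.B := m.mem_B (z'J l) (z'_not l) hL h

theorem fixD {s x : G} (hs : s ∈ D l) (hx : x ∈ m.J) : s * x * s⁻¹ = x := fix_of (m.Jc _ (D_le_J l hs) _ hx)

omit [Finite G] in
theorem fix_of_mul {s τ x y : G} (h : s * τ * x * (s * τ)⁻¹ = y) (hs : s * y * s⁻¹ = y) : τ * x * τ⁻¹ = y := by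
  rw [← cjs hs, ← h]; group

theorem a_fix {α : G} (hα : α ∈ zpowers l.a) (h : α * z' l * α⁻¹ = z' l) : α ∈ zpowers l.t :=
  (mem_a l hα).resolve_right fun ⟨ε, hε, e⟩ => z'_ne l (by rw [← az', ← cjc (fix_zp hε (tz' l)), ← e, h])

theorem F2 {c : G} (hc : c ∈ H l) (ha : c * l.a * c⁻¹ = l.a) (hz : c * z' l * c⁻¹ = z' l) :
    ∃ s ∈ m.Z, ∃ ε ∈ zpowers l.t, c = s * ε ∨ (l.w ≠ 1 ∧ c = s * (l.w * l.a) * ε) := by
  obtain ⟨s, hs, τ, hτ, rfl⟩ := mem_BC l (mem_B' l hc.2 (hz.symm ▸ z'J l)) hc.1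
  have h1 := fix_of_mul hz (fixD l hs (z'J l))
  have hS := (mem_inf.1 ((D_eq l).le hs)).1
  have k1 : τ * l.a * τ⁻¹ ≠ l.a⁻¹ := fun e => t_not l (by
    rw [cjc e] at ha
    have := mul_mem hS (conj_mem_of_mem_norm (inv_mem l.aB) (inv_mem hS))
    rw [← l.aa]
    convert this using 1
    calc l.a * l.a = s * l.a⁻¹ * s⁻¹ * l.a := by rw [ha]
      _ = _ := by group)
  have k2 : τ * l.a * τ⁻¹ = l.a → s ∈ m.Z := fun e => by
    rw [cjc e] at ha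
    obtain ⟨ζ, hζ, ζ', hζ', rfl⟩ := (Loc.Mss.mem_sup_norm (zpowers_le.2 (z'N l))).1 hs
    have h2 : l.a * ζ * l.a⁻¹ = ζ := fix_of (mem_cen.1 (zpowers_le.2 (mem_cen.2 (of_fix l.az).symm) hζ)).symm
    have h3 : l.a * ζ' * l.a⁻¹ = ζ' := by
      have := fix_of (of_fix ha).symm
      rwa [cjm, h2, mul_right_inj] at this
    rcases mem_zpowers_three (z'3 l) hζ' with rfl | rfl | rfl
    · simpa using hζ
    · exact absurd (h3.symm.trans (az' l)) (z'_ne l)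
    · rw [cji, inv_inj] at h3
      exact absurd (h3.symm.trans (az' l)) (z'_ne l)
  obtain ⟨α, hα, e⟩ := mem_T l hτ
  have h2 : α * l.a * α⁻¹ = l.a := fix_zp hα (by group)
  rcases e with rfl | rfl | ⟨hw, rfl | rfl⟩
  · exact ⟨s, k2 h2, τ, a_fix l hα h1, .inl rfl⟩
  · exact absurd (by rw [cjc h2, ba]) k1
  · rcases mem_a l hα with hε | ⟨ε, hε, rfl⟩
    · rw [cjc (fix_zp hε (tz' l)), wz' l hw] at h1
      exact absurd h1.symm (z'_ne l)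
    · exact ⟨s, k2 (by rw [cjc h2, fix_of l.wa]), ε, hε, .inr ⟨hw, by group⟩⟩
  · exact absurd (by rw [cjc h2, cjc (ba l), cji, fix_of l.wa]) k1

theorem F3 {c : G} (hc : c ∈ Ct l) (h : c * m.z * c⁻¹ = m.z) (hz : c * z' l * c⁻¹ = z' l) :
    ∃ s ∈ D l, ∃ ε ∈ zpowers l.t, c = s * ε ∨ (l.w ≠ 1 ∧ c = s * ε * (l.w * l.b)) := by
  obtain ⟨s, hs, τ, hτ, rfl⟩ := mem_BC l (mem_B' l (m.mem_L_of (of_fix h)) (hz.symm ▸ z'J l)) hc
  have h1 := fix_of_mul hz (fixD l hs (z'J l))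
  have h0 := fix_of_mul h (fixD l hs m.z_mem_J)
  obtain ⟨α, hα, e⟩ := mem_T l hτ
  have h2 : α * m.z * α⁻¹ = m.z := fix_zp hα l.az
  rcases e with rfl | rfl | ⟨hw, rfl | rfl⟩
  · exact ⟨s, hs, τ, a_fix l hα h1, .inl rfl⟩
  · rw [cjc h2, l.bz] at h0
    exact absurd h0.symm z_ne
  · rw [cjc h2, wz l hw] at h0
    exact absurd h0.symm z_ne
  · have h3 := a_fix l hα (fix_of_mul h1 (wbz' l hw))
    exact ⟨s, hs, α, h3, .inr ⟨hw, by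
      rw [mul_assoc s, of_fix (fix_zp h3 (fix_of (mem_cen.1 (mul_mem (wC l) (bC l))).symm))]⟩⟩

theorem Q_cen {x : G} (hx : x ∈ m.Q) (h : x ∈ Ct l) : x ∈ m.Z :=
  mem_of_sq (m.Q3 x hx) (by simpa only [fix_of (mem_cen.1 h).symm] using l.tQ x hx)

theorem L0_eq {x : G} (hx : x ∈ m.L0) : ∃ c ∈ m.Q, c * x ∈ C0 l := by
  have h1 : x * l.t * x⁻¹ * l.t⁻¹ ∈ m.Q := by simpa [mul_assoc] using inv_mem (l.tL x hx)
  refine ⟨_, h1, mem_cen'.2 ?_, mul_mem (m.S_le_L0 (m.QS h1)) hx⟩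
  have h2 := m.Q3 _ h1
  obtain ⟨c, hc⟩ : ∃ c, c = x * l.t * x⁻¹ * l.t⁻¹ := ⟨_, rfl⟩
  rw [← hc] at h2 ⊢
  have h3 : x * l.t * x⁻¹ = c * l.t := by rw [hc]; group
  have h4 : c * l.t * (c * l.t) = 1 := h3 ▸ conj_sq l.tt
  have h5 : l.t * c⁻¹ = c * l.t := by
    rw [← inv_inj, eq_comm, inv_eq_iff_mul_eq_one, mul_inv_rev, inv_inv, inv_eq_of_mul_eq_one_right l.tt, h4]
  rw [cjc h3, mul_assoc, mul_assoc, h5, ← mul_assoc, ← mul_assoc, ← pow_three', h2, one_mul]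

theorem H_eq {g : G} (hg : g ∈ H l) : ∃ x ∈ C0 l, ∃ τ ∈ T l, g = x * τ := by
  obtain ⟨x, hx, c, hc, rfl⟩ := m.exists_L hg.2
  obtain ⟨s, hs, τ, hτ, rfl⟩ := l.B_eq c hc
  exact ⟨x * s, ⟨(mul_mem_cancel_right (mem_inf.1 (T_le_H l hτ)).1).1
    (by simpa only [mul_assoc] using (mem_inf.1 hg).1),
    mul_mem hx (m.S_le_L0 hs)⟩, τ, hτ, by group⟩

theorem C0_le : C0 l ≤ H l := inf_le_inf_left _ (o3_le _)

theorem H_norm : H l ≤ normalizer (C0 l : Set G) :=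
  Loc.Mss.norm_inf (inf_le_left.trans le_normalizer) (inf_le_right.trans (le_norm_o3 _))

theorem D_le : D l ≤ C0 l := fun _ hx => ⟨((D_eq l).le hx).2, m.S_le_L0 ((D_eq l).le hx).1⟩

theorem exists_f : ∃ f : C0 l →* SL25, Function.Surjective f ∧ ∀ x, f x = 1 ↔ (x : G) ∈ m.Z := by
  obtain ⟨f, hf, hk⟩ := m.eL
  refine ⟨f.comp (inclusion inf_le_right), fun y => ?_, fun x => (hk _).trans
    ⟨fun h => Q_cen l h x.2.1, fun h => m.esz.zpowers_le h⟩⟩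
  obtain ⟨x, rfl⟩ := hf y
  obtain ⟨c, hc, h⟩ := L0_eq l x.2
  refine ⟨⟨_, h⟩, ?_⟩
  rw [← one_mul (f x), ← (hk ⟨c, m.S_le_L0 (m.QS hc)⟩).2 hc, ← map_mul]
  rfl

theorem card_C0 : Nat.card (C0 l) = 360 := by
  obtain ⟨f, hf, hk⟩ := exists_f l
  rw [card_of_ker (le_sup_left.trans (D_le l)) hf hk, m.esz.card_zpowers, Perm.card_sl_two_five]

theorem BC_pm {c : G} (hB : c ∈ m.B) (hc : c ∈ Ct l) : c ∈ pm m.z ⊓ pm (z' l) := by
  obtain ⟨s, hs, τ, hτ, rfl⟩ := mem_BC l hB hc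
  refine mul_mem ⟨.inl (fixD l hs m.z_mem_J), .inl (fixD l hs (z'J l))⟩
    (T_le l (R := pm m.z ⊓ pm (z' l)) ⟨.inl l.az, .inr (az' l)⟩ ⟨.inr l.bz, .inr (bz' l)⟩ ?_ hτ)
  by_cases hw : l.w = 1
  · rw [hw]; exact one_mem _
  · exact ⟨.inr (wz l hw), .inr (wz' l hw)⟩

/-- The subgroup `SL₂(5)` of `C(t)`. -/
structure KK (K : Subgroup G) : Prop where
  le : K ≤ C0 l
  norm : H l ≤ normalizer (K : Set G)
  a : l.a ∈ K
  z' : z' l ∈ K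
  z : m.z ∉ K
  mul : ∀ x ∈ C0 l, ∃ k ∈ K, ∃ s ∈ m.Z, x = k * s
  iso : Nonempty (SL25 ≃* K)

theorem exists_K : ∃ K, KK l K := by
  have : Fact (Nat.Prime 3) := ⟨Nat.prime_three⟩
  obtain ⟨K, h1, h2, h3, h4, h5⟩ := exists_res (isSylIn_of_card (p := 3) (D_le l) (k := 2) (m := 40) (card_D l)
    (card_C0 l) (by norm_num)) fun x hx y hy => m.Jc x (D_le_J l hx) y (D_le_J l hy)
  have ha : l.a ∈ K := h3 _ ⟨aC l, l.aL⟩ (Nat.Coprime.coprime_dvd_left (orderOf_dvd_of_pow_eq_one (n := 4) (by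
    rw [show 4 = 2 * 2 from rfl, pow_mul, sq l.a, l.aa, sq, l.tt])) (by norm_num))
  have hz'D : z' l ∈ D l := mem_sup_right (mem_zpowers _)
  have hz' : z' l ∈ K := mem_of_sq (z'3 l) (by
    have := mul_mem (conj_mem_of_mem_norm (h2 (le_normalizer (D_le l hz'D))) ha) (inv_mem ha)
    convert this using 1
    calc _ = z' l * (l.a * z' l * l.a⁻¹)⁻¹ := by rw [az', inv_inv]
      _ = _ := by group)
  have h6 : K ⊓ D l ≤ zpowers (z' l) := by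
    have n1 : D l ≤ normalizer (zpowers (z' l) : Set G) := fun s hs =>
      cj_eq_iff.1 (by rw [cj_zpowers, fixD l hs (z'J l)])
    rw [h5]
    refine Loc.Mss.sup_comm_le (le_sup_left.trans n1) le_normalizer ?_ (Loc.Mss.comm_le_left fun g hg => ?_)
    · rw [Loc.Mss.comm_eq_bot_iff.2 (zpowers_le.2 fun g (hg : g ∈ C0 l ⊓ _) => mem_cen.1 (m.L0_le hg.1.2))]
      exact bot_le
    · exact A8.pm_le_normalizer _ (BC_pm l (mem_B' l (o3_le _ hg.1.2)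
        (D_le_J l (conj_mem_of_mem_norm hg.2 hz'D))) hg.1.1).2
  have hz : m.z ∉ K := fun h => by
    rcases mem_zpowers_three (z'3 l) (h6 ⟨h, mem_sup_left (mem_zpowers _)⟩) with e | e | e
    · exact m.esz.z_ne_one e
    · exact z'_not l (e ▸ mem_zpowers _)
    · exact z'_not l (inv_mem_iff.1 (e ▸ mem_zpowers _))
  have h7 : ∀ x ∈ C0 l, ∃ k ∈ K, ∃ s ∈ m.Z, x = k * s := fun x hx => by
    obtain ⟨k, hk, d, hd, rfl⟩ := h4 x hx
    rw [D, sup_comm] at hd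
    obtain ⟨ζ', hζ', ζ, hζ, rfl⟩ := (Loc.Mss.mem_sup_norm' (zpowers_le.2 (z'N l))).1 hd
    exact ⟨k * ζ', mul_mem hk (zpowers_le.2 hz' hζ'), ζ, hζ, by group⟩
  obtain ⟨f, hf, hk⟩ := exists_f l
  refine ⟨K, h1, (H_norm l).trans h2, ha, hz', hz, h7,
    ⟨(MulEquiv.ofBijective (f.comp (inclusion h1)) ⟨(injective_iff_map_eq_one _).2 fun x hx => ?_, fun y => ?_⟩).symm⟩⟩
  · rcases mem_zpowers_three m.z_cube ((hk _).1 hx) with e | e | e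
    · exact Subtype.ext e
    · exact absurd (e ▸ x.2 : m.z ∈ K) hz
    · exact absurd (inv_mem_iff.1 (e ▸ x.2 : m.z⁻¹ ∈ K)) hz
  · obtain ⟨x, rfl⟩ := hf y
    obtain ⟨k, hk', s, hs, e⟩ := h7 x x.2
    refine ⟨⟨k, hk'⟩, ?_⟩
    rw [← mul_one (f.comp _ _), ← (hk ⟨s, D_le l (mem_sup_left hs)⟩).2 hs, MonoidHom.comp_apply, ← map_mul]
    exact congrArg _ (Subtype.ext e.symm)

end Cfsg.Agent.T16.McH
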