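import Mathlib
import Cfsg.Agent.T16.McLH

/-! The McLaughlin configuration: `C_L(t) / ⟨t⟩` inside `S₃ × S₅`, and the centraliser of `t` in `M`. -/

set_option autoImplicit false
set_option linter.unusedSectionVars false

namespace Cfsg.Agent.T16.McH

open Cfsg.Agent.Rec Cfsg.Agent.Inv.Fz Subgroup Y Equiv
open A9 (cjm cjc cjs cjcomm cjp)

universe u

variable {G : Type u} [Group G] [Finite G] {m : Mc G} (l : m.Let)

theorem Z_one {R : Subgroup G} (h : m.z ∉ R) {s : G} (hs : s ∈ m.Z) (hR : s ∈ R) : s = 1 := by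
  rcases mem_zpowers_three m.z_cube hs with e | e | e
  · exact e
  · exact absurd (e ▸ hR) h
  · exact absurd (inv_mem_iff.1 (e ▸ hR)) h

theorem hom_perf {A : Type*} [CommGroup A] (χ : SL25 →* A) (x : SL25) : χ x = 1 :=
  haveI := GT.Frob.sl2_five_isPerfect
  Abelianization.commutator_subset_ker χ Group.IsPerfect.mem_commutator

variable {l} in
theorem KK.hom {K R : Subgroup G} (h : KK l K) (hR : K ≤ R) {A : Type*} [CommGroup A] (χ : R →* A) {k : R}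
    (hk : (k : G) ∈ K) : χ k = 1 := by
  obtain ⟨e⟩ := h.iso
  have := hom_perf ((χ.comp (inclusion hR)).comp e.toMonoidHom) (e.symm ⟨k, hk⟩)
  simp only [MonoidHom.comp_apply, MulEquiv.coe_toMonoidHom, MulEquiv.apply_symm_apply] at this
  exact this

theorem bH : l.b ∈ H l := T_le_H l (mem_clos (by simp))
theorem wH : l.w ∈ H l := T_le_H l (mem_clos (by simp))
theorem zC0 : m.z ∈ C0 l := D_le l (mem_sup_left (mem_zpowers _))

theorem H_cases {g : G} (hg : g ∈ H l) : ∃ x ∈ C0 l,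
    g = x ∨ g = x * l.b ∨ (l.w ≠ 1 ∧ (g = x * l.w ∨ g = x * (l.w * l.b))) := by
  obtain ⟨x, hx, τ, hτ, rfl⟩ := H_eq l hg
  obtain ⟨α, hα, e⟩ := mem_T l hτ
  have h1 : α ∈ C0 l := zpowers_le.2 (show l.a ∈ C0 l from ⟨aC l, l.aL⟩) hα
  have k : ∀ g ∈ H l, x * (g * α * g⁻¹) ∈ C0 l := fun g hg => mul_mem hx (conj_mem_of_mem_norm (H_norm l hg) h1)
  rcases e with rfl | rfl | ⟨hw, rfl | rfl⟩
  · exact ⟨_, mul_mem hx h1, .inl rfl⟩
  · exact ⟨_, k _ (bH l), .inr (.inl (by group))⟩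
  · exact ⟨_, k _ (wH l), .inr (.inr ⟨hw, .inl (by group)⟩)⟩
  · exact ⟨_, k _ (mul_mem (wH l) (bH l)), .inr (.inr ⟨hw, .inr (by group)⟩)⟩

theorem card_H : (l.w = 1 → Nat.card (H l) = 720) ∧ (l.w ≠ 1 → Nat.card (H l) = 1440) := by
  have h1 : Nat.card (C0 l ⊔ zpowers l.b : Subgroup G) = 720 := by
    rw [GT.PG.card_sup_zpowers Nat.prime_two (H_norm l (bH l)) (fun h => not_L0 l.bz h.2)
      (by rw [sq, l.bb]; exact ⟨tC l, tL0 l⟩), card_C0]
  have h2 : C0 l ⊔ zpowers l.b ≤ H l := sup_le (C0_le l) (zpowers_le.2 (bH l))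
  have hb : l.b ∈ C0 l ⊔ zpowers l.b := mem_sup_right (mem_zpowers _)
  refine ⟨fun hw => ?_, fun hw => ?_⟩
  · rw [← h1, le_antisymm h2 fun g hg => ?_]
    obtain ⟨x, hx, rfl | rfl | ⟨h, -⟩⟩ := H_cases l hg
    exacts [mem_sup_left hx, mul_mem (mem_sup_left hx) hb, absurd hw h]
  · have h3 : H l = C0 l ⊔ zpowers l.b ⊔ zpowers l.w := by
      refine le_antisymm (fun g hg => ?_) (sup_le h2 (zpowers_le.2 (wH l)))
      have h4 : l.w ∈ C0 l ⊔ zpowers l.b ⊔ zpowers l.w := mem_sup_right (mem_zpowers _)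
      obtain ⟨x, hx, e⟩ := H_cases l hg
      have h5 : x ∈ C0 l ⊔ zpowers l.b ⊔ zpowers l.w := mem_sup_left (mem_sup_left hx)
      rcases e with rfl | rfl | ⟨-, rfl | rfl⟩
      exacts [h5, mul_mem h5 (mem_sup_left hb), mul_mem h5 h4, mul_mem h5 (mul_mem h4 (mem_sup_left hb))]
    rw [h3, GT.PG.card_sup_zpowers Nat.prime_two (cj_eq_iff.1 (by
      rw [cj_sup, cj_zpowers, fix_of l.wb, cj_eq_iff.2 (H_norm l (wH l))])) (fun h => ?_)
      (by rw [sq, l.ww]; exact one_mem _), h1]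
    rcases mem_sup_two (H_norm l (bH l)) (by rw [l.bb]; exact ⟨tC l, tL0 l⟩) (sup_comm (C0 l) _ ▸ h) with e | e
    · exact not_L0 (wz l hw) e.2
    · refine wb_not l hw ?_
      rw [l.wb, show l.b * l.w = l.b * l.b * (l.b⁻¹ * l.w) by group, l.bb]
      exact mul_mem (tL0 l) e.2

theorem s3_sign : ∀ p q : Perm (Fin 3), q ≠ 1 → q ^ 3 = 1 → p * q * p⁻¹ = q⁻¹ → Perm.sign p = -1 := by
  decide +kernel

theorem card_35 : Nat.card (Perm (Fin 3) × Perm (Fin 5)) = 720 := by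
  rw [Nat.card_prod, Nat.card_perm, Nat.card_perm]; simp [Nat.factorial]

theorem waz (hw : l.w ≠ 1) {s ε : G} (hs : s ∈ m.Z) (hε : ε ∈ zpowers l.t) :
    s * (l.w * l.a) * ε * m.z * (s * (l.w * l.a) * ε)⁻¹ = m.z⁻¹ := by
  rw [cjc (fix_zp hε (tz l)), cjc (show l.w * l.a * m.z * (l.w * l.a)⁻¹ = _ by rw [cjc l.az, wz l hw]), cji,
    fix_zp hs (by group)]

theorem exists_phi : ∃ φ : H l →* Perm (Fin 3) × Perm (Fin 5), (∀ x, φ x = 1 ↔ (x : G) ∈ zpowers l.t) ∧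
    (l.w = 1 → φ.range = A8.Kr) ∧ (l.w ≠ 1 → Function.Surjective φ) := by
  obtain ⟨K, hK⟩ := exists_K l
  have hKH : K ≤ H l := hK.le.trans (C0_le l)
  have htK : l.t ∈ K := l.aa ▸ mul_mem hK.a hK.a
  have hU : K ⊔ T l ≤ H l := sup_le hKH (T_le_H l)
  have hz : m.z ∉ K ⊔ T l := fun h => by
    obtain ⟨k, hk, τ, hτ, e⟩ := (Loc.Mss.mem_sup_norm ((T_le_H l).trans hK.norm)).1 h
    exact hK.z (e ▸ mul_mem hk (zpowers_le.2 hK.a (T_L0 l hτ
      ((mul_mem_cancel_left (mem_inf.1 (hK.le hk)).2).1 (e ▸ (zC0 l).2)))))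
  have hzH : m.z ∈ H l := C0_le l (zC0 l)
  have h3 : (K ⊔ T l).relIndex (H l) = 3 := by
    have h1 : K ⊔ T l ⊔ m.Z = H l := le_antisymm (sup_le hU (zpowers_le.2 hzH)) fun g hg => by
      obtain ⟨x, hx, τ, hτ, rfl⟩ := H_eq l hg
      obtain ⟨k, hk, s, hs, rfl⟩ := hK.mul x hx
      exact mul_mem (mul_mem (mem_sup_left (mem_sup_left hk)) (mem_sup_right hs))
        (mem_sup_left (mem_sup_right hτ))
    have h2 := GT.PG.card_sup_of_inf_eq_bot (hU.trans inf_le_right)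
      (eq_bot_iff.2 fun s hs => Z_one hz hs.2 hs.1)
    rw [h1, m.esz.card_zpowers, ← card_mul_relIndex hU] at h2
    exact Nat.eq_of_mul_eq_mul_left Nat.card_pos h2
  let φ1 : H l →* Perm (Fin 3) := (Finite.equivFinOfCardEq h3).permCongrHom.toMonoidHom.comp
    (MulAction.toPermHom (H l) (H l ⧸ (K ⊔ T l).subgroupOf (H l)))
  have k1 : ∀ x, φ1 x = 1 ↔ x ∈ ((K ⊔ T l).subgroupOf (H l)).normalCore := fun x => by
    rw [normalCore_eq_ker, MonoidHom.mem_ker]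
    exact (Finite.equivFinOfCardEq h3).permCongrHom.map_eq_one_iff
  clear_value φ1
  have hn : (K.subgroupOf (H l)).Normal := (normal_subgroupOf_iff_le_normalizer hKH).2 hK.norm
  have k2 : ∀ x : H l, (x : G) ∈ K → φ1 x = 1 := fun x hx =>
    (k1 x).2 ((normal_le_normalCore (N := K.subgroupOf (H l))).2 (comap_mono le_sup_left) hx)
  have k3 : ∀ x : H l, φ1 x = 1 → (x : G) ∈ K ⊔ T l := fun x hx =>
    mem_subgroupOf.1 (normalCore_le _ ((k1 x).1 hx))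
  obtain ⟨e⟩ := hK.iso
  have hr : ((inclusion hKH).comp e.toMonoidHom).range = K.subgroupOf (H l) := by
    rw [MonoidHom.range_comp, MonoidHom.range_eq_top.2 e.surjective, ← MonoidHom.range_eq_map, inclusion_range]
  obtain ⟨φ2, k4, k5⟩ := GT.Frob.exists_hom_perm_five (f := (inclusion hKH).comp e.toMonoidHom)
    ((inclusion_injective hKH).comp e.injective) (hn := hr ▸ hn)
  rw [hr] at k4 k5
  have k6 : ∀ x : H l, φ2 x = 1 → ∃ s ∈ m.Z, ∃ ε ∈ zpowers l.t,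
      (x : G) = s * ε ∨ (l.w ≠ 1 ∧ (x : G) = s * (l.w * l.a) * ε) := fun x hx => by
    have h1 : ∀ k ∈ K, (x : G) * k * (x : G)⁻¹ = k := fun k hk =>
      fix_of (congrArg Subtype.val (k4.le hx ⟨k, hKH hk⟩ hk)).symm
    exact F2 l x.2 (h1 _ hK.a) (h1 _ hK.z')
  have k7 : ∀ x, φ1.prod φ2 x = 1 ↔ (x : G) ∈ zpowers l.t := fun x => by
    rw [MonoidHom.prod_apply, Prod.mk_eq_one]
    refine ⟨fun ⟨h1, h2⟩ => ?_, fun h => ⟨k2 x (zpowers_le.2 htK h), k4.ge fun k hk => Subtype.ext ?_⟩⟩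
    · obtain ⟨s, hs, ε, hε, e | ⟨hw, e⟩⟩ := k6 x h2
      · have h4 := k3 x h1
        rw [e] at h4 ⊢
        rwa [Z_one hz hs ((mul_mem_cancel_right (mem_sup_left (zpowers_le.2 htK hε))).1 h4), one_mul]
      · have h4 := k3 (x * ⟨m.z, hzH⟩ * x⁻¹ * ⟨m.z, hzH⟩⁻¹) (by simp [h1])
        simp only [coe_mul, coe_inv, e, waz l hw hs hε] at h4
        exact absurd (inv_mem_iff.1 (mem_of_sq (by rw [inv_pow, m.z_cube, inv_one]) h4)) hz
    · exact (of_fix (fix_zp h (fix_of (mem_cen.1 (mem_inf.1 k.2).1).symm))).symm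
  have k8 := card_of_ker (zpowers_le.2 (hKH htK)) (φ1.prod φ2).rangeRestrict_surjective
    fun x => (Subtype.ext_iff.trans (k7 x))
  rw [Nat.card_zpowers, t_ord] at k8
  refine ⟨_, k7, fun hw => eq_of_le_of_card_ge ?_ ?_, fun hw => MonoidHom.range_eq_top.1
    (eq_top_of_card_eq _ (by rw [(card_H l).2 hw] at k8; rw [card_35]; omega))⟩
  · rintro _ ⟨x, rfl⟩
    let χ : H l →* ℤˣ := (Perm.sign.comp φ1) * (Perm.sign.comp φ2)
    change χ x = 1
    have c1 : ∀ y : H l, (y : G) ∈ C0 l → χ y = 1 := fun y hy => by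
      obtain ⟨k, hk, s, hs, e⟩ := hK.mul y hy
      have hsH : s ∈ H l := zpowers_le.2 hzH hs
      have h1 : χ ⟨s, hsH⟩ ^ 3 = 1 := by
        rw [← map_pow, ← map_one χ]; exact congrArg _ (Subtype.ext (m.esz.pow_eq_one_of_mem_zpowers hs))
      rw [show y = ⟨k, hKH hk⟩ * ⟨s, hsH⟩ from Subtype.ext e, map_mul, hK.hom hKH χ hk, one_mul]
      rwa [pow_succ, Int.units_sq, one_mul] at h1
    have c2 : Perm.sign (φ1 ⟨l.b, bH l⟩) = -1 := s3_sign _ (φ1 ⟨m.z, hzH⟩) (fun h => hz (k3 _ h))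
      (by rw [← map_pow, ← map_one φ1]; exact congrArg _ (Subtype.ext m.z_cube))
      (by rw [← map_inv, ← map_inv, ← map_mul, ← map_mul]; exact congrArg _ (Subtype.ext l.bz))
    have c3 : Perm.sign (φ2 ⟨l.b, bH l⟩) = -1 := (Int.units_eq_one_or _).resolve_left fun h => by
      obtain ⟨k, hk, e⟩ := k5.ge (Perm.mem_alternatingGroup.2 h)
      obtain ⟨s, hs, ε, hε, e' | ⟨h', -⟩⟩ := k6 (k⁻¹ * ⟨l.b, bH l⟩) (by rw [map_mul, map_inv, e, inv_mul_cancel])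
      · refine not_L0 l.bz ((mul_mem_cancel_left (inv_mem (mem_inf.1 (hK.le hk)).2)).1 ?_)
        have := mul_mem (zpowers_le.2 (mem_inf.1 (zC0 l)).2 hs) (zpowers_le.2 (tL0 l) hε)
        rwa [← e'] at this
      · exact h' hw
    obtain ⟨y, hy, e | e | ⟨h, -⟩⟩ := H_cases l x.2
    · exact c1 x (e ▸ hy)
    · rw [show x = ⟨y, C0_le l hy⟩ * ⟨l.b, bH l⟩ from Subtype.ext e, map_mul, c1 _ hy, one_mul]
      simp [χ, c2, c3]
    · exact absurd hw h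
  · rw [(card_H l).1 hw] at k8
    exact A8.card_Kr.trans (by omega)

/-- `C_{M₀}(t) = D ⟨b, n⟩`. -/
theorem M0_cen {x : G} (hx : x ∈ m.M0) (hc : x ∈ Ct l) : ∃ d ∈ D l, ∃ ε ∈ zpowers l.t,
    x = d * ε ∨ x = d * (l.b * ε) ∨ x = d * (l.n * ε) ∨ x = d * (l.n * (l.b * ε)) := by
  have h1 := McS.a6_facts.1 (l.f ⟨x, hx⟩) (l.f_range.le ⟨_, rfl⟩) (by
    rw [← l.f_b, ← map_mul, ← map_mul, ← map_mul]
    exact congrArg _ (Subtype.ext (by simpa only [coe_mul, l.bb] using mem_cen.1 hc)))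
  have k : ∀ y : m.M0, (y : G) ∈ Ct l → l.f ⟨x, hx⟩ = l.f y → ∃ d ∈ D l, x = d * y := fun y hy e =>
    ⟨x * (y : G)⁻¹, (D_eq l).ge <| mem_inf.2 ⟨m.JS ((l.f_ker (⟨x, hx⟩ * y⁻¹)).1 (by rw [map_mul, map_inv, e, mul_inv_cancel])),
      mul_mem hc (inv_mem hy)⟩, by group⟩
  have hb : l.b⁻¹ = l.b * l.t := by
    rw [inv_eq_iff_mul_eq_one, ← mul_assoc, l.bb, l.tt]
  have ht := mem_zpowers l.t
  have h0 := one_mem (zpowers l.t)
  rw [← l.f_b, ← l.f_n, ← map_one l.f] at h1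
  simp only [← map_mul, ← map_inv] at h1
  rcases h1 with e | e | e | e | e | e | e | e
  · obtain ⟨d, hd, e⟩ := k _ (one_mem _) e
    exact ⟨d, hd, 1, h0, .inl e⟩
  · obtain ⟨d, hd, e⟩ := k _ (bC l) e
    exact ⟨d, hd, 1, h0, .inr (.inl (by simpa using e))⟩
  · obtain ⟨d, hd, e⟩ := k _ (mul_mem (bC l) (bC l)) e
    exact ⟨d, hd, _, ht, .inl (by simpa only [coe_mul, l.bb] using e)⟩
  · obtain ⟨d, hd, e⟩ := k _ (inv_mem (bC l)) e
    exact ⟨d, hd, _, ht, .inr (.inl (by simpa only [coe_inv, hb] using e))⟩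
  · obtain ⟨d, hd, e⟩ := k _ (nC l) e
    exact ⟨d, hd, 1, h0, .inr (.inr (.inl (by simpa using e)))⟩
  · obtain ⟨d, hd, e⟩ := k _ (mul_mem (nC l) (bC l)) e
    exact ⟨d, hd, 1, h0, .inr (.inr (.inr (by simpa using e)))⟩
  · obtain ⟨d, hd, e⟩ := k _ (mul_mem (nC l) (mul_mem (bC l) (bC l))) e
    exact ⟨d, hd, _, ht, .inr (.inr (.inl (by simpa only [coe_mul, l.bb] using e)))⟩
  · obtain ⟨d, hd, e⟩ := k _ (mul_mem (nC l) (inv_mem (bC l))) e
    exact ⟨d, hd, _, ht, .inr (.inr (.inr (by simpa only [coe_mul, coe_inv, hb] using e)))⟩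

theorem tB {ε : G} (h : ε ∈ zpowers l.t) : ε ∈ m.B := zpowers_le.2 (l.aa ▸ mul_mem l.aB l.aB) h

theorem D_le_B : D l ≤ m.B := (D_le_J l).trans (m.JS.trans le_normalizer)

theorem nD {d : G} (hd : d ∈ D l) : l.n * d * l.n⁻¹ ∈ D l :=
  (D_eq l).ge <| mem_inf.2 ⟨m.JS (cjJ (nM l) (D_le_J l hd)),
    mul_mem (mul_mem (nC l) (mem_inf.1 ((D_eq l).le hd)).2) (inv_mem (nC l))⟩

theorem M_cen {g : G} (hg : g ∈ m.M) (hc : g ∈ Ct l) : g ∈ m.B ∨ l.n * g ∈ m.B := by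
  obtain ⟨x, hx, c, hc', rfl⟩ := m.exists_M hg
  obtain ⟨s, hs, τ, hτ, rfl⟩ := l.B_eq c hc'
  have hτB : τ ∈ m.B := T_le l l.aB l.bB l.wB hτ
  obtain ⟨d, hd, ε, hε, e⟩ := M0_cen l (mul_mem hx (m.S_le_M0 hs))
    ((mul_mem_cancel_right (mem_inf.1 (T_le_H l hτ)).1).1 (by simpa only [mul_assoc] using hc))
  have k : ∀ β ∈ m.B, l.n * (d * (l.n * β) * τ) ∈ m.B := fun β hβ => by
    have := mul_mem (mul_mem (D_le_B l (nD l hd)) hβ) hτB
    rw [inv_eq_of_mul_eq_one_right l.nn] at this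
    simpa only [mul_assoc] using this
  rw [← mul_assoc]
  rcases e with e | e | e | e <;> rw [e]
  · exact .inl (mul_mem (mul_mem (D_le_B l hd) (tB l hε)) hτB)
  · exact .inl (mul_mem (mul_mem (D_le_B l hd) (mul_mem l.bB (tB l hε))) hτB)
  · exact .inr (k _ (tB l hε))
  · exact .inr (k _ (mul_mem l.bB (tB l hε)))

/-- `C(t, z, z')` -/
abbrev E0 : Subgroup G := Ct l ⊓ (centralizer {m.z} ⊓ centralizer {z' l})

theorem card_E0 : (l.w = 1 → Nat.card (E0 l) = 18) ∧ (l.w ≠ 1 → Nat.card (E0 l) = 36) := by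
  have n1 : ∀ g ∈ m.B, g ∈ Ct l → g ∈ normalizer (D l : Set G) := fun g h1 h2 => by
    rw [D_eq]; exact cj_eq_iff.1 (by rw [cj_inf, cj_eq_iff.2 h1, cj_eq_of_mem h2])
  have h1 : Nat.card (D l ⊔ zpowers l.t : Subgroup G) = 18 := by
    rw [GT.PG.card_sup_zpowers Nat.prime_two (n1 _ (tB l (mem_zpowers _)) (tC l))
      (fun h => t_not l (m.JS (D_le_J l h))) (by rw [sq, l.tt]; exact one_mem _), card_D]
  have h2 : D l ⊔ zpowers l.t ≤ E0 l := sup_le (fun d hd => ⟨((D_eq l).le hd).2, mem_cen'.2 (fixD l hd m.z_mem_J),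
    mem_cen'.2 (fixD l hd (z'J l))⟩) (zpowers_le.2 ⟨tC l, mem_cen'.2 (tz l), mem_cen'.2 (tz' l)⟩)
  have h3 := fun g (hg : g ∈ E0 l) => F3 l hg.1 (mem_cen'.1 hg.2.1) (mem_cen'.1 hg.2.2)
  refine ⟨fun hw => ?_, fun hw => ?_⟩
  · rw [← h1, le_antisymm h2 fun g hg => ?_]
    obtain ⟨s, hs, ε, hε, rfl | ⟨h, -⟩⟩ := h3 g hg
    exacts [mul_mem (mem_sup_left hs) (mem_sup_right hε), absurd hw h]
  · have hC := mul_mem (wC l) (bC l)
    have h4 : E0 l = D l ⊔ zpowers l.t ⊔ zpowers (l.w * l.b) := by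
      refine le_antisymm (fun g hg => ?_) (sup_le h2 (zpowers_le.2
        ⟨hC, mem_cen'.2 (wbz l hw), mem_cen'.2 (wbz' l hw)⟩))
      obtain ⟨s, hs, ε, hε, rfl | ⟨-, rfl⟩⟩ := h3 g hg
      · exact mem_sup_left (mul_mem (mem_sup_left hs) (mem_sup_right hε))
      · exact mul_mem (mem_sup_left (mul_mem (mem_sup_left hs) (mem_sup_right hε)))
          (mem_sup_right (mem_zpowers _))
    rw [h4, GT.PG.card_sup_zpowers Nat.prime_two (cj_eq_iff.1 (by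
      rw [cj_sup, cj_zpowers, mem_cen'.1 hC, cj_eq_iff.2 (n1 _ (mul_mem l.wB l.bB) hC)]))
      (fun h => wb_not l hw (sup_le ((D_le l).trans inf_le_right) (zpowers_le.2 (tL0 l)) h))
      (by rw [sq, wb2]; exact mem_sup_right (mem_zpowers _)), h1]

theorem card_E : Nat.card (Ct l ⊓ centralizer {y l} : Subgroup G) = 2 * Nat.card (E0 l) := by
  have k : ∀ g ∈ m.B, g ∈ Ct l ⊓ centralizer {y l} → g ∈ E0 l := fun g hB hg => by
    have h1 := mem_cen'.1 hg.2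
    rw [y, cjm] at h1
    obtain ⟨e1 | e1, e2 | e2⟩ := BC_pm l hB hg.1
    · exact ⟨hg.1, mem_cen'.2 e1, mem_cen'.2 e2⟩
    all_goals rw [e1, e2] at h1
    · exact absurd (mul_left_cancel h1).symm (z'_ne l)
    · exact absurd (mul_right_cancel h1).symm z_ne
    · rw [← mul_inv_rev, ← zz'] at h1
      exact absurd (eq_one_of_eq_inv (m.J3 _ (yJ l)) h1.symm) (y_ne l)
  have hn : l.n ∈ Ct l ⊓ centralizer {y l} := ⟨nC l, mem_cen'.2 (ny l)⟩
  have h1 : Ct l ⊓ centralizer {y l} = E0 l ⊔ zpowers l.n := by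
    refine le_antisymm (fun g hg => ?_) (sup_le (fun g hg => ⟨hg.1, mem_cen'.2 (by
      rw [y, cjm, mem_cen'.1 hg.2.1, mem_cen'.1 hg.2.2])⟩) (zpowers_le.2 hn))
    rcases M_cen l (l.cent_y hg.2) hg.1 with h | h
    · exact mem_sup_left (k g h hg)
    · exact (mul_mem_cancel_left (mem_sup_right (mem_zpowers _))).1 (mem_sup_left (k _ h (mul_mem hn hg)))
  rw [h1, GT.PG.card_sup_zpowers Nat.prime_two (cj_eq_iff.1 ?_) (fun h => z'_not l ?_)
    (by rw [sq, l.nn]; exact one_mem _)]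
  · rw [cj_inf, cj_inf, cj_centralizer_singleton, cj_centralizer_singleton, cj_centralizer_singleton, nz',
      mem_cen'.1 (nC l), inf_comm _ (centralizer {m.z})]
    rfl
  · rw [z', mem_cen'.1 h.2.1]; exact mem_zpowers _

end Cfsg.Agent.T16.McH
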