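import Mathlib
import Cfsg.Agent.Rec.Orb

/-! Generated by tools/rec: the symmetric group of degree six and its classes of involutions -/

set_option autoImplicit false
set_option maxRecDepth 100000
set_option linter.unusedVariables false
set_option exponentiation.threshold 100000

namespace Cfsg.Agent.T16.S8

open Cfsg.Agent.Spor Cfsg.Agent.Rec

universe u

/-- Packed permutations of 6 points. -/
noncomputable def P6 : Ar := permAr (nat_lit 6) (nat_lit 0x50403020100)

theorem P6_ok : oneOK (nat_lit 6) (nat_lit 0x50403020100) = true := by decide +kernel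

noncomputable def c6 : List ℕ := [(nat_lit 0x50403020001), (nat_lit 0x50403010200), (nat_lit 0x50402030100), (nat_lit 0x50304020100), (nat_lit 0x40503020100), (nat_lit 0x50402030001), (nat_lit 0x40502030001)]

noncomputable def S6_t : ST :=
(.node (nat_lit 0x30001020405) (.node (nat_lit 0x10304000205) (.node (nat_lit 0x405010203) (.node (nat_lit 0x205030401) (.node (nat_lit 0x105040203) (.node (nat_lit 0x103050402) (.node (nat_lit 0x102050403) (.node (nat_lit 0x102040305) (.node (nat_lit 0x102030504) (.leaf (nat_lit 0x102030405) (nat_lit 3840))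
 (.leaf (nat_lit 0x102030504) (nat_lit 3584))
) (.node (nat_lit 0x102040503) (.leaf (nat_lit 0x102040305) (nat_lit 3584))
 (.node (nat_lit 0x102050304) (.leaf (nat_lit 0x102040503) (nat_lit 3328))
 (.leaf (nat_lit 0x102050304) (nat_lit 3328))
))) (.node (nat_lit 0x103040205) (.node (nat_lit 0x103020405) (.leaf (nat_lit 0x102050403) (nat_lit 3072))
 (.node (nat_lit 0x103020504) (.leaf (nat_lit 0x103020405) (nat_lit 3584))
 (.leaf (nat_lit 0x103020504) (nat_lit 3328))
)) (.node (nat_lit 0x103040502) (.leaf (nat_lit 0x103040205) (nat_lit 3328))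
 (.node (nat_lit 0x103050204) (.leaf (nat_lit 0x103040502) (nat_lit 3072))
 (.leaf (nat_lit 0x103050204) (nat_lit 3072))
)))) (.node (nat_lit 0x104050203) (.node (nat_lit 0x104020503) (.node (nat_lit 0x104020305) (.leaf (nat_lit 0x103050402) (nat_lit 2816))
 (.leaf (nat_lit 0x104020305) (nat_lit 3328))
) (.node (nat_lit 0x104030205) (.leaf (nat_lit 0x104020503) (nat_lit 3072))
 (.node (nat_lit 0x104030502) (.leaf (nat_lit 0x104030205) (nat_lit 3072))
 (.leaf (nat_lit 0x104030502) (nat_lit 2816))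
))) (.node (nat_lit 0x105020403) (.node (nat_lit 0x104050302) (.leaf (nat_lit 0x104050203) (nat_lit 2816))
 (.node (nat_lit 0x105020304) (.leaf (nat_lit 0x104050302) (nat_lit 2560))
 (.leaf (nat_lit 0x105020304) (nat_lit 3072))
)) (.node (nat_lit 0x105030204) (.leaf (nat_lit 0x105020403) (nat_lit 2816))
 (.node (nat_lit 0x105030402) (.leaf (nat_lit 0x105030204) (nat_lit 2816))
 (.leaf (nat_lit 0x105030402) (nat_lit 2560))
))))) (.node (nat_lit 0x203040501) (.node (nat_lit 0x201040503) (.node (nat_lit 0x201030405) (.node (nat_lit 0x105040302) (.leaf (nat_lit 0x105040203) (nat_lit 2560))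
 (.leaf (nat_lit 0x105040302) (nat_lit 2304))
) (.node (nat_lit 0x201030504) (.leaf (nat_lit 0x201030405) (nat_lit 3584))
 (.node (nat_lit 0x201040305) (.leaf (nat_lit 0x201030504) (nat_lit 3328))
 (.leaf (nat_lit 0x201040305) (nat_lit 3328))
))) (.node (nat_lit 0x203010405) (.node (nat_lit 0x201050304) (.leaf (nat_lit 0x201040503) (nat_lit 3072))
 (.node (nat_lit 0x201050403) (.leaf (nat_lit 0x201050304) (nat_lit 3072))
 (.leaf (nat_lit 0x201050403) (nat_lit 2816))
)) (.node (nat_lit 0x203010504) (.leaf (nat_lit 0x203010405) (nat_lit 3328))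
 (.node (nat_lit 0x203040105) (.leaf (nat_lit 0x203010504) (nat_lit 3072))
 (.leaf (nat_lit 0x203040105) (nat_lit 3072))
)))) (.node (nat_lit 0x204030501) (.node (nat_lit 0x204010305) (.node (nat_lit 0x203050104) (.leaf (nat_lit 0x203040501) (nat_lit 2816))
 (.node (nat_lit 0x203050401) (.leaf (nat_lit 0x203050104) (nat_lit 2816))
 (.leaf (nat_lit 0x203050401) (nat_lit 2560))
)) (.node (nat_lit 0x204010503) (.leaf (nat_lit 0x204010305) (nat_lit 3072))
 (.node (nat_lit 0x204030105) (.leaf (nat_lit 0x204010503) (nat_lit 2816))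
 (.leaf (nat_lit 0x204030105) (nat_lit 2816))
))) (.node (nat_lit 0x205010304) (.node (nat_lit 0x204050103) (.leaf (nat_lit 0x204030501) (nat_lit 2560))
 (.node (nat_lit 0x204050301) (.leaf (nat_lit 0x204050103) (nat_lit 2560))
 (.leaf (nat_lit 0x204050301) (nat_lit 2304))
)) (.node (nat_lit 0x205010403) (.leaf (nat_lit 0x205010304) (nat_lit 2816))
 (.node (nat_lit 0x205030104) (.leaf (nat_lit 0x205010403) (nat_lit 2560))
 (.leaf (nat_lit 0x205030104) (nat_lit 2560))
)))))) (.node (nat_lit 0x305010402) (.node (nat_lit 0x302040105) (.node (nat_lit 0x301040205) (.node (nat_lit 0x205040301) (.node (nat_lit 0x205040103) (.leaf (nat_lit 0x205030401) (nat_lit 2304))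
 (.leaf (nat_lit 0x205040103) (nat_lit 2304))
) (.node (nat_lit 0x301020405) (.leaf (nat_lit 0x205040301) (nat_lit 2048))
 (.node (nat_lit 0x301020504) (.leaf (nat_lit 0x301020405) (nat_lit 3328))
 (.leaf (nat_lit 0x301020504) (nat_lit 3072))
))) (.node (nat_lit 0x301050402) (.node (nat_lit 0x301040502) (.leaf (nat_lit 0x301040205) (nat_lit 3072))
 (.node (nat_lit 0x301050204) (.leaf (nat_lit 0x301040502) (nat_lit 2816))
 (.leaf (nat_lit 0x301050204) (nat_lit 2816))
)) (.node (nat_lit 0x302010405) (.leaf (nat_lit 0x301050402) (nat_lit 2560))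
 (.node (nat_lit 0x302010504) (.leaf (nat_lit 0x302010405) (nat_lit 3072))
 (.leaf (nat_lit 0x302010504) (nat_lit 2816))
)))) (.node (nat_lit 0x304010502) (.node (nat_lit 0x302050104) (.node (nat_lit 0x302040501) (.leaf (nat_lit 0x302040105) (nat_lit 2816))
 (.leaf (nat_lit 0x302040501) (nat_lit 2560))
) (.node (nat_lit 0x302050401) (.leaf (nat_lit 0x302050104) (nat_lit 2560))
 (.node (nat_lit 0x304010205) (.leaf (nat_lit 0x302050401) (nat_lit 2304))
 (.leaf (nat_lit 0x304010205) (nat_lit 2816))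
))) (.node (nat_lit 0x304050102) (.node (nat_lit 0x304020105) (.leaf (nat_lit 0x304010502) (nat_lit 2560))
 (.node (nat_lit 0x304020501) (.leaf (nat_lit 0x304020105) (nat_lit 2560))
 (.leaf (nat_lit 0x304020501) (nat_lit 2304))
)) (.node (nat_lit 0x304050201) (.leaf (nat_lit 0x304050102) (nat_lit 2304))
 (.node (nat_lit 0x305010204) (.leaf (nat_lit 0x304050201) (nat_lit 2048))
 (.leaf (nat_lit 0x305010204) (nat_lit 2560))
))))) (.node (nat_lit 0x402010305) (.node (nat_lit 0x401020305) (.node (nat_lit 0x305020401) (.node (nat_lit 0x305020104) (.leaf (nat_lit 0x305010402) (nat_lit 2304))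
 (.leaf (nat_lit 0x305020104) (nat_lit 2304))
) (.node (nat_lit 0x305040102) (.leaf (nat_lit 0x305020401) (nat_lit 2048))
 (.node (nat_lit 0x305040201) (.leaf (nat_lit 0x305040102) (nat_lit 2048))
 (.leaf (nat_lit 0x305040201) (nat_lit 1792))
))) (.node (nat_lit 0x401030502) (.node (nat_lit 0x401020503) (.leaf (nat_lit 0x401020305) (nat_lit 3072))
 (.node (nat_lit 0x401030205) (.leaf (nat_lit 0x401020503) (nat_lit 2816))
 (.leaf (nat_lit 0x401030205) (nat_lit 2816))
)) (.node (nat_lit 0x401050203) (.leaf (nat_lit 0x401030502) (nat_lit 2560))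
 (.node (nat_lit 0x401050302) (.leaf (nat_lit 0x401050203) (nat_lit 2560))
 (.leaf (nat_lit 0x401050302) (nat_lit 2304))
)))) (.node (nat_lit 0x403010205) (.node (nat_lit 0x402030501) (.node (nat_lit 0x402010503) (.leaf (nat_lit 0x402010305) (nat_lit 2816))
 (.node (nat_lit 0x402030105) (.leaf (nat_lit 0x402010503) (nat_lit 2560))
 (.leaf (nat_lit 0x402030105) (nat_lit 2560))
)) (.node (nat_lit 0x402050103) (.leaf (nat_lit 0x402030501) (nat_lit 2304))
 (.node (nat_lit 0x402050301) (.leaf (nat_lit 0x402050103) (nat_lit 2304))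
 (.leaf (nat_lit 0x402050301) (nat_lit 2048))
))) (.node (nat_lit 0x403020501) (.node (nat_lit 0x403010502) (.leaf (nat_lit 0x403010205) (nat_lit 2560))
 (.node (nat_lit 0x403020105) (.leaf (nat_lit 0x403010502) (nat_lit 2304))
 (.leaf (nat_lit 0x403020105) (nat_lit 2304))
)) (.node (nat_lit 0x403050102) (.leaf (nat_lit 0x403020501) (nat_lit 2048))
 (.node (nat_lit 0x403050201) (.leaf (nat_lit 0x403050102) (nat_lit 2048))
 (.leaf (nat_lit 0x403050201) (nat_lit 1792))
))))))) (.node (nat_lit 0x10004030502) (.node (nat_lit 0x503040102) (.node (nat_lit 0x501040302) (.node (nat_lit 0x405030201) (.node (nat_lit 0x405020103) (.node (nat_lit 0x405010302) (.leaf (nat_lit 0x405010203) (nat_lit 2304))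
 (.leaf (nat_lit 0x405010302) (nat_lit 2048))
) (.node (nat_lit 0x405020301) (.leaf (nat_lit 0x405020103) (nat_lit 2048))
 (.node (nat_lit 0x405030102) (.leaf (nat_lit 0x405020301) (nat_lit 1792))
 (.leaf (nat_lit 0x405030102) (nat_lit 1792))
))) (.node (nat_lit 0x501030204) (.node (nat_lit 0x501020304) (.leaf (nat_lit 0x405030201) (nat_lit 1536))
 (.node (nat_lit 0x501020403) (.leaf (nat_lit 0x501020304) (nat_lit 2816))
 (.leaf (nat_lit 0x501020403) (nat_lit 2560))
)) (.node (nat_lit 0x501030402) (.leaf (nat_lit 0x501030204) (nat_lit 2560))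
 (.node (nat_lit 0x501040203) (.leaf (nat_lit 0x501030402) (nat_lit 2304))
 (.leaf (nat_lit 0x501040203) (nat_lit 2304))
)))) (.node (nat_lit 0x502040103) (.node (nat_lit 0x502010403) (.node (nat_lit 0x502010304) (.leaf (nat_lit 0x501040302) (nat_lit 2048))
 (.leaf (nat_lit 0x502010304) (nat_lit 2560))
) (.node (nat_lit 0x502030104) (.leaf (nat_lit 0x502010403) (nat_lit 2304))
 (.node (nat_lit 0x502030401) (.leaf (nat_lit 0x502030104) (nat_lit 2304))
 (.leaf (nat_lit 0x502030401) (nat_lit 2048))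
))) (.node (nat_lit 0x503010402) (.node (nat_lit 0x502040301) (.leaf (nat_lit 0x502040103) (nat_lit 2048))
 (.node (nat_lit 0x503010204) (.leaf (nat_lit 0x502040301) (nat_lit 1792))
 (.leaf (nat_lit 0x503010204) (nat_lit 2304))
)) (.node (nat_lit 0x503020104) (.leaf (nat_lit 0x503010402) (nat_lit 2048))
 (.node (nat_lit 0x503020401) (.leaf (nat_lit 0x503020104) (nat_lit 2048))
 (.leaf (nat_lit 0x503020401) (nat_lit 1792))
))))) (.node (nat_lit 0x10002040503) (.node (nat_lit 0x504020301) (.node (nat_lit 0x504010203) (.node (nat_lit 0x503040201) (.leaf (nat_lit 0x503040102) (nat_lit 1792))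
 (.leaf (nat_lit 0x503040201) (nat_lit 1536))
) (.node (nat_lit 0x504010302) (.leaf (nat_lit 0x504010203) (nat_lit 2048))
 (.node (nat_lit 0x504020103) (.leaf (nat_lit 0x504010302) (nat_lit 1792))
 (.leaf (nat_lit 0x504020103) (nat_lit 1792))
))) (.node (nat_lit 0x10002030405) (.node (nat_lit 0x504030102) (.leaf (nat_lit 0x504020301) (nat_lit 1536))
 (.node (nat_lit 0x504030201) (.leaf (nat_lit 0x504030102) (nat_lit 1536))
 (.leaf (nat_lit 0x504030201) (nat_lit 1280))
)) (.node (nat_lit 0x10002030504) (.leaf (nat_lit 0x10002030405) (nat_lit 3585))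
 (.node (nat_lit 0x10002040305) (.leaf (nat_lit 0x10002030504) (nat_lit 3329))
 (.leaf (nat_lit 0x10002040305) (nat_lit 3329))
)))) (.node (nat_lit 0x10003040502) (.node (nat_lit 0x10003020405) (.node (nat_lit 0x10002050304) (.leaf (nat_lit 0x10002040503) (nat_lit 3073))
 (.node (nat_lit 0x10002050403) (.leaf (nat_lit 0x10002050304) (nat_lit 3073))
 (.leaf (nat_lit 0x10002050403) (nat_lit 2817))
)) (.node (nat_lit 0x10003020504) (.leaf (nat_lit 0x10003020405) (nat_lit 3329))
 (.node (nat_lit 0x10003040205) (.leaf (nat_lit 0x10003020504) (nat_lit 3073))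
 (.leaf (nat_lit 0x10003040205) (nat_lit 3073))
))) (.node (nat_lit 0x10004020305) (.node (nat_lit 0x10003050204) (.leaf (nat_lit 0x10003040502) (nat_lit 2817))
 (.node (nat_lit 0x10003050402) (.leaf (nat_lit 0x10003050204) (nat_lit 2817))
 (.leaf (nat_lit 0x10003050402) (nat_lit 2561))
)) (.node (nat_lit 0x10004020503) (.leaf (nat_lit 0x10004020305) (nat_lit 3073))
 (.node (nat_lit 0x10004030205) (.leaf (nat_lit 0x10004020503) (nat_lit 2817))
 (.leaf (nat_lit 0x10004030205) (nat_lit 2817))
)))))) (.node (nat_lit 0x10204000503) (.node (nat_lit 0x10200040305) (.node (nat_lit 0x10005030204) (.node (nat_lit 0x10004050302) (.node (nat_lit 0x10004050203) (.leaf (nat_lit 0x10004030502) (nat_lit 2561))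
 (.leaf (nat_lit 0x10004050203) (nat_lit 2561))
) (.node (nat_lit 0x10005020304) (.leaf (nat_lit 0x10004050302) (nat_lit 2305))
 (.node (nat_lit 0x10005020403) (.leaf (nat_lit 0x10005020304) (nat_lit 2817))
 (.leaf (nat_lit 0x10005020403) (nat_lit 2561))
))) (.node (nat_lit 0x10005040302) (.node (nat_lit 0x10005030402) (.leaf (nat_lit 0x10005030204) (nat_lit 2561))
 (.node (nat_lit 0x10005040203) (.leaf (nat_lit 0x10005030402) (nat_lit 2305))
 (.leaf (nat_lit 0x10005040203) (nat_lit 2305))
)) (.node (nat_lit 0x10200030405) (.leaf (nat_lit 0x10005040302) (nat_lit 2049))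
 (.node (nat_lit 0x10200030504) (.leaf (nat_lit 0x10200030405) (nat_lit 3329))
 (.leaf (nat_lit 0x10200030504) (nat_lit 3073))
)))) (.node (nat_lit 0x10203000504) (.node (nat_lit 0x10200050304) (.node (nat_lit 0x10200040503) (.leaf (nat_lit 0x10200040305) (nat_lit 3073))
 (.leaf (nat_lit 0x10200040503) (nat_lit 2817))
) (.node (nat_lit 0x10200050403) (.leaf (nat_lit 0x10200050304) (nat_lit 2817))
 (.node (nat_lit 0x10203000405) (.leaf (nat_lit 0x10200050403) (nat_lit 2561))
 (.leaf (nat_lit 0x10203000405) (nat_lit 3073))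
))) (.node (nat_lit 0x10203050004) (.node (nat_lit 0x10203040005) (.leaf (nat_lit 0x10203000504) (nat_lit 2817))
 (.node (nat_lit 0x10203040500) (.leaf (nat_lit 0x10203040005) (nat_lit 2817))
 (.leaf (nat_lit 0x10203040500) (nat_lit 2561))
)) (.node (nat_lit 0x10203050400) (.leaf (nat_lit 0x10203050004) (nat_lit 2561))
 (.node (nat_lit 0x10204000305) (.leaf (nat_lit 0x10203050400) (nat_lit 2305))
 (.leaf (nat_lit 0x10204000305) (nat_lit 2817))
))))) (.node (nat_lit 0x10300020405) (.node (nat_lit 0x10205000304) (.node (nat_lit 0x10204030500) (.node (nat_lit 0x10204030005) (.leaf (nat_lit 0x10204000503) (nat_lit 2561))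
 (.leaf (nat_lit 0x10204030005) (nat_lit 2561))
) (.node (nat_lit 0x10204050003) (.leaf (nat_lit 0x10204030500) (nat_lit 2305))
 (.node (nat_lit 0x10204050300) (.leaf (nat_lit 0x10204050003) (nat_lit 2305))
 (.leaf (nat_lit 0x10204050300) (nat_lit 2049))
))) (.node (nat_lit 0x10205030400) (.node (nat_lit 0x10205000403) (.leaf (nat_lit 0x10205000304) (nat_lit 2561))
 (.node (nat_lit 0x10205030004) (.leaf (nat_lit 0x10205000403) (nat_lit 2305))
 (.leaf (nat_lit 0x10205030004) (nat_lit 2305))
)) (.node (nat_lit 0x10205040003) (.leaf (nat_lit 0x10205030400) (nat_lit 2049))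
 (.node (nat_lit 0x10205040300) (.leaf (nat_lit 0x10205040003) (nat_lit 2049))
 (.leaf (nat_lit 0x10205040300) (nat_lit 1793))
)))) (.node (nat_lit 0x10302000405) (.node (nat_lit 0x10300040502) (.node (nat_lit 0x10300020504) (.leaf (nat_lit 0x10300020405) (nat_lit 3073))
 (.node (nat_lit 0x10300040205) (.leaf (nat_lit 0x10300020504) (nat_lit 2817))
 (.leaf (nat_lit 0x10300040205) (nat_lit 2817))
)) (.node (nat_lit 0x10300050204) (.leaf (nat_lit 0x10300040502) (nat_lit 2561))
 (.node (nat_lit 0x10300050402) (.leaf (nat_lit 0x10300050204) (nat_lit 2561))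
 (.leaf (nat_lit 0x10300050402) (nat_lit 2305))
))) (.node (nat_lit 0x10302040500) (.node (nat_lit 0x10302000504) (.leaf (nat_lit 0x10302000405) (nat_lit 2817))
 (.node (nat_lit 0x10302040005) (.leaf (nat_lit 0x10302000504) (nat_lit 2561))
 (.leaf (nat_lit 0x10302040005) (nat_lit 2561))
)) (.node (nat_lit 0x10302050004) (.leaf (nat_lit 0x10302040500) (nat_lit 2305))
 (.node (nat_lit 0x10302050400) (.leaf (nat_lit 0x10302050004) (nat_lit 2305))
 (.leaf (nat_lit 0x10302050400) (nat_lit 2049))
)))))))) (.node (nat_lit 0x20103000405) (.node (nat_lit 0x10502030400) (.node (nat_lit 0x10402050003) (.node (nat_lit 0x10305040200) (.node (nat_lit 0x10304050200) (.node (nat_lit 0x10304020005) (.node (nat_lit 0x10304000502) (.leaf (nat_lit 0x10304000205) (nat_lit 2561))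
 (.leaf (nat_lit 0x10304000502) (nat_lit 2305))
) (.node (nat_lit 0x10304020500) (.leaf (nat_lit 0x10304020005) (nat_lit 2305))
 (.node (nat_lit 0x10304050002) (.leaf (nat_lit 0x10304020500) (nat_lit 2049))
 (.leaf (nat_lit 0x10304050002) (nat_lit 2049))
))) (.node (nat_lit 0x10305020004) (.node (nat_lit 0x10305000204) (.leaf (nat_lit 0x10304050200) (nat_lit 1793))
 (.node (nat_lit 0x10305000402) (.leaf (nat_lit 0x10305000204) (nat_lit 2305))
 (.leaf (nat_lit 0x10305000402) (nat_lit 2049))
)) (.node (nat_lit 0x10305020400) (.leaf (nat_lit 0x10305020004) (nat_lit 2049))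
 (.node (nat_lit 0x10305040002) (.leaf (nat_lit 0x10305020400) (nat_lit 1793))
 (.leaf (nat_lit 0x10305040002) (nat_lit 1793))
)))) (.node (nat_lit 0x10400050203) (.node (nat_lit 0x10400020503) (.node (nat_lit 0x10400020305) (.leaf (nat_lit 0x10305040200) (nat_lit 1537))
 (.leaf (nat_lit 0x10400020305) (nat_lit 2817))
) (.node (nat_lit 0x10400030205) (.leaf (nat_lit 0x10400020503) (nat_lit 2561))
 (.node (nat_lit 0x10400030502) (.leaf (nat_lit 0x10400030205) (nat_lit 2561))
 (.leaf (nat_lit 0x10400030502) (nat_lit 2305))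
))) (.node (nat_lit 0x10402000503) (.node (nat_lit 0x10400050302) (.leaf (nat_lit 0x10400050203) (nat_lit 2305))
 (.node (nat_lit 0x10402000305) (.leaf (nat_lit 0x10400050302) (nat_lit 2049))
 (.leaf (nat_lit 0x10402000305) (nat_lit 2561))
)) (.node (nat_lit 0x10402030005) (.leaf (nat_lit 0x10402000503) (nat_lit 2305))
 (.node (nat_lit 0x10402030500) (.leaf (nat_lit 0x10402030005) (nat_lit 2305))
 (.leaf (nat_lit 0x10402030500) (nat_lit 2049))
))))) (.node (nat_lit 0x10405020300) (.node (nat_lit 0x10403020500) (.node (nat_lit 0x10403000205) (.node (nat_lit 0x10402050300) (.leaf (nat_lit 0x10402050003) (nat_lit 2049))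
 (.leaf (nat_lit 0x10402050300) (nat_lit 1793))
) (.node (nat_lit 0x10403000502) (.leaf (nat_lit 0x10403000205) (nat_lit 2305))
 (.node (nat_lit 0x10403020005) (.leaf (nat_lit 0x10403000502) (nat_lit 2049))
 (.leaf (nat_lit 0x10403020005) (nat_lit 2049))
))) (.node (nat_lit 0x10405000203) (.node (nat_lit 0x10403050002) (.leaf (nat_lit 0x10403020500) (nat_lit 1793))
 (.node (nat_lit 0x10403050200) (.leaf (nat_lit 0x10403050002) (nat_lit 1793))
 (.leaf (nat_lit 0x10403050200) (nat_lit 1537))
)) (.node (nat_lit 0x10405000302) (.leaf (nat_lit 0x10405000203) (nat_lit 2049))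
 (.node (nat_lit 0x10405020003) (.leaf (nat_lit 0x10405000302) (nat_lit 1793))
 (.leaf (nat_lit 0x10405020003) (nat_lit 1793))
)))) (.node (nat_lit 0x10500030402) (.node (nat_lit 0x10500020304) (.node (nat_lit 0x10405030002) (.leaf (nat_lit 0x10405020300) (nat_lit 1537))
 (.node (nat_lit 0x10405030200) (.leaf (nat_lit 0x10405030002) (nat_lit 1537))
 (.leaf (nat_lit 0x10405030200) (nat_lit 1281))
)) (.node (nat_lit 0x10500020403) (.leaf (nat_lit 0x10500020304) (nat_lit 2561))
 (.node (nat_lit 0x10500030204) (.leaf (nat_lit 0x10500020403) (nat_lit 2305))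
 (.leaf (nat_lit 0x10500030204) (nat_lit 2305))
))) (.node (nat_lit 0x10502000304) (.node (nat_lit 0x10500040203) (.leaf (nat_lit 0x10500030402) (nat_lit 2049))
 (.node (nat_lit 0x10500040302) (.leaf (nat_lit 0x10500040203) (nat_lit 2049))
 (.leaf (nat_lit 0x10500040302) (nat_lit 1793))
)) (.node (nat_lit 0x10502000403) (.leaf (nat_lit 0x10502000304) (nat_lit 2305))
 (.node (nat_lit 0x10502030004) (.leaf (nat_lit 0x10502000403) (nat_lit 2049))
 (.leaf (nat_lit 0x10502030004) (nat_lit 2049))
)))))) (.node (nat_lit 0x20003010504) (.node (nat_lit 0x10504020003) (.node (nat_lit 0x10503020004) (.node (nat_lit 0x10502040300) (.node (nat_lit 0x10502040003) (.leaf (nat_lit 0x10502030400) (nat_lit 1793))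
 (.leaf (nat_lit 0x10502040003) (nat_lit 1793))
) (.node (nat_lit 0x10503000204) (.leaf (nat_lit 0x10502040300) (nat_lit 1537))
 (.node (nat_lit 0x10503000402) (.leaf (nat_lit 0x10503000204) (nat_lit 2049))
 (.leaf (nat_lit 0x10503000402) (nat_lit 1793))
))) (.node (nat_lit 0x10503040200) (.node (nat_lit 0x10503020400) (.leaf (nat_lit 0x10503020004) (nat_lit 1793))
 (.node (nat_lit 0x10503040002) (.leaf (nat_lit 0x10503020400) (nat_lit 1537))
 (.leaf (nat_lit 0x10503040002) (nat_lit 1537))
)) (.node (nat_lit 0x10504000203) (.leaf (nat_lit 0x10503040200) (nat_lit 1281))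
 (.node (nat_lit 0x10504000302) (.leaf (nat_lit 0x10504000203) (nat_lit 1793))
 (.leaf (nat_lit 0x10504000302) (nat_lit 1537))
)))) (.node (nat_lit 0x20001030504) (.node (nat_lit 0x10504030002) (.node (nat_lit 0x10504020300) (.leaf (nat_lit 0x10504020003) (nat_lit 1537))
 (.leaf (nat_lit 0x10504020300) (nat_lit 1281))
) (.node (nat_lit 0x10504030200) (.leaf (nat_lit 0x10504030002) (nat_lit 1281))
 (.node (nat_lit 0x20001030405) (.leaf (nat_lit 0x10504030200) (nat_lit 1025))
 (.leaf (nat_lit 0x20001030405) (nat_lit 3330))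
))) (.node (nat_lit 0x20001050304) (.node (nat_lit 0x20001040305) (.leaf (nat_lit 0x20001030504) (nat_lit 3074))
 (.node (nat_lit 0x20001040503) (.leaf (nat_lit 0x20001040305) (nat_lit 3074))
 (.leaf (nat_lit 0x20001040503) (nat_lit 2818))
)) (.node (nat_lit 0x20001050403) (.leaf (nat_lit 0x20001050304) (nat_lit 2818))
 (.node (nat_lit 0x20003010405) (.leaf (nat_lit 0x20001050403) (nat_lit 2562))
 (.leaf (nat_lit 0x20003010405) (nat_lit 3074))
))))) (.node (nat_lit 0x20005010304) (.node (nat_lit 0x20004010305) (.node (nat_lit 0x20003040501) (.node (nat_lit 0x20003040105) (.leaf (nat_lit 0x20003010504) (nat_lit 2818))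
 (.leaf (nat_lit 0x20003040105) (nat_lit 2818))
) (.node (nat_lit 0x20003050104) (.leaf (nat_lit 0x20003040501) (nat_lit 2562))
 (.node (nat_lit 0x20003050401) (.leaf (nat_lit 0x20003050104) (nat_lit 2562))
 (.leaf (nat_lit 0x20003050401) (nat_lit 2306))
))) (.node (nat_lit 0x20004030501) (.node (nat_lit 0x20004010503) (.leaf (nat_lit 0x20004010305) (nat_lit 2818))
 (.node (nat_lit 0x20004030105) (.leaf (nat_lit 0x20004010503) (nat_lit 2562))
 (.leaf (nat_lit 0x20004030105) (nat_lit 2562))
)) (.node (nat_lit 0x20004050103) (.leaf (nat_lit 0x20004030501) (nat_lit 2306))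
 (.node (nat_lit 0x20004050301) (.leaf (nat_lit 0x20004050103) (nat_lit 2306))
 (.leaf (nat_lit 0x20004050301) (nat_lit 2050))
)))) (.node (nat_lit 0x20100030405) (.node (nat_lit 0x20005030401) (.node (nat_lit 0x20005010403) (.leaf (nat_lit 0x20005010304) (nat_lit 2562))
 (.node (nat_lit 0x20005030104) (.leaf (nat_lit 0x20005010403) (nat_lit 2306))
 (.leaf (nat_lit 0x20005030104) (nat_lit 2306))
)) (.node (nat_lit 0x20005040103) (.leaf (nat_lit 0x20005030401) (nat_lit 2050))
 (.node (nat_lit 0x20005040301) (.leaf (nat_lit 0x20005040103) (nat_lit 2050))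
 (.leaf (nat_lit 0x20005040301) (nat_lit 1794))
))) (.node (nat_lit 0x20100040503) (.node (nat_lit 0x20100030504) (.leaf (nat_lit 0x20100030405) (nat_lit 3074))
 (.node (nat_lit 0x20100040305) (.leaf (nat_lit 0x20100030504) (nat_lit 2818))
 (.leaf (nat_lit 0x20100040305) (nat_lit 2818))
)) (.node (nat_lit 0x20100050304) (.leaf (nat_lit 0x20100040503) (nat_lit 2562))
 (.node (nat_lit 0x20100050403) (.leaf (nat_lit 0x20100050304) (nat_lit 2562))
 (.leaf (nat_lit 0x20100050403) (nat_lit 2306))
))))))) (.node (nat_lit 0x20400030501) (.node (nat_lit 0x20300050104) (.node (nat_lit 0x20104050300) (.node (nat_lit 0x20103050400) (.node (nat_lit 0x20103040005) (.node (nat_lit 0x20103000504) (.leaf (nat_lit 0x20103000405) (nat_lit 2818))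
 (.leaf (nat_lit 0x20103000504) (nat_lit 2562))
) (.node (nat_lit 0x20103040500) (.leaf (nat_lit 0x20103040005) (nat_lit 2562))
 (.node (nat_lit 0x20103050004) (.leaf (nat_lit 0x20103040500) (nat_lit 2306))
 (.leaf (nat_lit 0x20103050004) (nat_lit 2306))
))) (.node (nat_lit 0x20104030005) (.node (nat_lit 0x20104000305) (.leaf (nat_lit 0x20103050400) (nat_lit 2050))
 (.node (nat_lit 0x20104000503) (.leaf (nat_lit 0x20104000305) (nat_lit 2562))
 (.leaf (nat_lit 0x20104000503) (nat_lit 2306))
)) (.node (nat_lit 0x20104030500) (.leaf (nat_lit 0x20104030005) (nat_lit 2306))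
 (.node (nat_lit 0x20104050003) (.leaf (nat_lit 0x20104030500) (nat_lit 2050))
 (.leaf (nat_lit 0x20104050003) (nat_lit 2050))
)))) (.node (nat_lit 0x20105040003) (.node (nat_lit 0x20105000403) (.node (nat_lit 0x20105000304) (.leaf (nat_lit 0x20104050300) (nat_lit 1794))
 (.leaf (nat_lit 0x20105000304) (nat_lit 2306))
) (.node (nat_lit 0x20105030004) (.leaf (nat_lit 0x20105000403) (nat_lit 2050))
 (.node (nat_lit 0x20105030400) (.leaf (nat_lit 0x20105030004) (nat_lit 2050))
 (.leaf (nat_lit 0x20105030400) (nat_lit 1794))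
))) (.node (nat_lit 0x20300010504) (.node (nat_lit 0x20105040300) (.leaf (nat_lit 0x20105040003) (nat_lit 1794))
 (.node (nat_lit 0x20300010405) (.leaf (nat_lit 0x20105040300) (nat_lit 1538))
 (.leaf (nat_lit 0x20300010405) (nat_lit 2818))
)) (.node (nat_lit 0x20300040105) (.leaf (nat_lit 0x20300010504) (nat_lit 2562))
 (.node (nat_lit 0x20300040501) (.leaf (nat_lit 0x20300040105) (nat_lit 2562))
 (.leaf (nat_lit 0x20300040501) (nat_lit 2306))
))))) (.node (nat_lit 0x20304010500) (.node (nat_lit 0x20301040500) (.node (nat_lit 0x20301000405) (.node (nat_lit 0x20300050401) (.leaf (nat_lit 0x20300050104) (nat_lit 2306))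
 (.leaf (nat_lit 0x20300050401) (nat_lit 2050))
) (.node (nat_lit 0x20301000504) (.leaf (nat_lit 0x20301000405) (nat_lit 2562))
 (.node (nat_lit 0x20301040005) (.leaf (nat_lit 0x20301000504) (nat_lit 2306))
 (.leaf (nat_lit 0x20301040005) (nat_lit 2306))
))) (.node (nat_lit 0x20304000105) (.node (nat_lit 0x20301050004) (.leaf (nat_lit 0x20301040500) (nat_lit 2050))
 (.node (nat_lit 0x20301050400) (.leaf (nat_lit 0x20301050004) (nat_lit 2050))
 (.leaf (nat_lit 0x20301050400) (nat_lit 1794))
)) (.node (nat_lit 0x20304000501) (.leaf (nat_lit 0x20304000105) (nat_lit 2306))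
 (.node (nat_lit 0x20304010005) (.leaf (nat_lit 0x20304000501) (nat_lit 2050))
 (.leaf (nat_lit 0x20304010005) (nat_lit 2050))
)))) (.node (nat_lit 0x20305010400) (.node (nat_lit 0x20305000104) (.node (nat_lit 0x20304050001) (.leaf (nat_lit 0x20304010500) (nat_lit 1794))
 (.node (nat_lit 0x20304050100) (.leaf (nat_lit 0x20304050001) (nat_lit 1794))
 (.leaf (nat_lit 0x20304050100) (nat_lit 1538))
)) (.node (nat_lit 0x20305000401) (.leaf (nat_lit 0x20305000104) (nat_lit 2050))
 (.node (nat_lit 0x20305010004) (.leaf (nat_lit 0x20305000401) (nat_lit 1794))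
 (.leaf (nat_lit 0x20305010004) (nat_lit 1794))
))) (.node (nat_lit 0x20400010305) (.node (nat_lit 0x20305040001) (.leaf (nat_lit 0x20305010400) (nat_lit 1538))
 (.node (nat_lit 0x20305040100) (.leaf (nat_lit 0x20305040001) (nat_lit 1538))
 (.leaf (nat_lit 0x20305040100) (nat_lit 1282))
)) (.node (nat_lit 0x20400010503) (.leaf (nat_lit 0x20400010305) (nat_lit 2562))
 (.node (nat_lit 0x20400030105) (.leaf (nat_lit 0x20400010503) (nat_lit 2306))
 (.leaf (nat_lit 0x20400030105) (nat_lit 2306))
)))))) (.node (nat_lit 0x20500010403) (.node (nat_lit 0x20403010005) (.node (nat_lit 0x20401030005) (.node (nat_lit 0x20400050301) (.node (nat_lit 0x20400050103) (.leaf (nat_lit 0x20400030501) (nat_lit 2050))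
 (.leaf (nat_lit 0x20400050103) (nat_lit 2050))
) (.node (nat_lit 0x20401000305) (.leaf (nat_lit 0x20400050301) (nat_lit 1794))
 (.node (nat_lit 0x20401000503) (.leaf (nat_lit 0x20401000305) (nat_lit 2306))
 (.leaf (nat_lit 0x20401000503) (nat_lit 2050))
))) (.node (nat_lit 0x20401050300) (.node (nat_lit 0x20401030500) (.leaf (nat_lit 0x20401030005) (nat_lit 2050))
 (.node (nat_lit 0x20401050003) (.leaf (nat_lit 0x20401030500) (nat_lit 1794))
 (.leaf (nat_lit 0x20401050003) (nat_lit 1794))
)) (.node (nat_lit 0x20403000105) (.leaf (nat_lit 0x20401050300) (nat_lit 1538))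
 (.node (nat_lit 0x20403000501) (.leaf (nat_lit 0x20403000105) (nat_lit 2050))
 (.leaf (nat_lit 0x20403000501) (nat_lit 1794))
)))) (.node (nat_lit 0x20405000301) (.node (nat_lit 0x20403050001) (.node (nat_lit 0x20403010500) (.leaf (nat_lit 0x20403010005) (nat_lit 1794))
 (.leaf (nat_lit 0x20403010500) (nat_lit 1538))
) (.node (nat_lit 0x20403050100) (.leaf (nat_lit 0x20403050001) (nat_lit 1538))
 (.node (nat_lit 0x20405000103) (.leaf (nat_lit 0x20403050100) (nat_lit 1282))
 (.leaf (nat_lit 0x20405000103) (nat_lit 1794))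
))) (.node (nat_lit 0x20405030001) (.node (nat_lit 0x20405010003) (.leaf (nat_lit 0x20405000301) (nat_lit 1538))
 (.node (nat_lit 0x20405010300) (.leaf (nat_lit 0x20405010003) (nat_lit 1538))
 (.leaf (nat_lit 0x20405010300) (nat_lit 1282))
)) (.node (nat_lit 0x20405030100) (.leaf (nat_lit 0x20405030001) (nat_lit 1282))
 (.node (nat_lit 0x20500010304) (.leaf (nat_lit 0x20405030100) (nat_lit 1026))
 (.leaf (nat_lit 0x20500010304) (nat_lit 2306))
))))) (.node (nat_lit 0x20503000104) (.node (nat_lit 0x20501000304) (.node (nat_lit 0x20500030401) (.node (nat_lit 0x20500030104) (.leaf (nat_lit 0x20500010403) (nat_lit 2050))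
 (.leaf (nat_lit 0x20500030104) (nat_lit 2050))
) (.node (nat_lit 0x20500040103) (.leaf (nat_lit 0x20500030401) (nat_lit 1794))
 (.node (nat_lit 0x20500040301) (.leaf (nat_lit 0x20500040103) (nat_lit 1794))
 (.leaf (nat_lit 0x20500040301) (nat_lit 1538))
))) (.node (nat_lit 0x20501030400) (.node (nat_lit 0x20501000403) (.leaf (nat_lit 0x20501000304) (nat_lit 2050))
 (.node (nat_lit 0x20501030004) (.leaf (nat_lit 0x20501000403) (nat_lit 1794))
 (.leaf (nat_lit 0x20501030004) (nat_lit 1794))
)) (.node (nat_lit 0x20501040003) (.leaf (nat_lit 0x20501030400) (nat_lit 1538))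
 (.node (nat_lit 0x20501040300) (.leaf (nat_lit 0x20501040003) (nat_lit 1538))
 (.leaf (nat_lit 0x20501040300) (nat_lit 1282))
)))) (.node (nat_lit 0x20504000103) (.node (nat_lit 0x20503010400) (.node (nat_lit 0x20503000401) (.leaf (nat_lit 0x20503000104) (nat_lit 1794))
 (.node (nat_lit 0x20503010004) (.leaf (nat_lit 0x20503000401) (nat_lit 1538))
 (.leaf (nat_lit 0x20503010004) (nat_lit 1538))
)) (.node (nat_lit 0x20503040001) (.leaf (nat_lit 0x20503010400) (nat_lit 1282))
 (.node (nat_lit 0x20503040100) (.leaf (nat_lit 0x20503040001) (nat_lit 1282))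
 (.leaf (nat_lit 0x20503040100) (nat_lit 1026))
))) (.node (nat_lit 0x20504010300) (.node (nat_lit 0x20504000301) (.leaf (nat_lit 0x20504000103) (nat_lit 1538))
 (.node (nat_lit 0x20504010003) (.leaf (nat_lit 0x20504000301) (nat_lit 1282))
 (.leaf (nat_lit 0x20504010003) (nat_lit 1282))
)) (.node (nat_lit 0x20504030001) (.leaf (nat_lit 0x20504010300) (nat_lit 1026))
 (.node (nat_lit 0x20504030100) (.leaf (nat_lit 0x20504030001) (nat_lit 1026))
 (.leaf (nat_lit 0x20504030100) (nat_lit 770))
))))))))) (.node (nat_lit 0x40203000105) (.node (nat_lit 0x30405000102) (.node (nat_lit 0x30105020400) (.node (nat_lit 0x30005040102) (.node (nat_lit 0x30002050401) (.node (nat_lit 0x30001050402) (.node (nat_lit 0x30001040205) (.node (nat_lit 0x30001020504) (.leaf (nat_lit 0x30001020405) (nat_lit 3075))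
 (.leaf (nat_lit 0x30001020504) (nat_lit 2819))
) (.node (nat_lit 0x30001040502) (.leaf (nat_lit 0x30001040205) (nat_lit 2819))
 (.node (nat_lit 0x30001050204) (.leaf (nat_lit 0x30001040502) (nat_lit 2563))
 (.leaf (nat_lit 0x30001050204) (nat_lit 2563))
))) (.node (nat_lit 0x30002040105) (.node (nat_lit 0x30002010405) (.leaf (nat_lit 0x30001050402) (nat_lit 2307))
 (.node (nat_lit 0x30002010504) (.leaf (nat_lit 0x30002010405) (nat_lit 2819))
 (.leaf (nat_lit 0x30002010504) (nat_lit 2563))
)) (.node (nat_lit 0x30002040501) (.leaf (nat_lit 0x30002040105) (nat_lit 2563))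
 (.node (nat_lit 0x30002050104) (.leaf (nat_lit 0x30002040501) (nat_lit 2307))
 (.leaf (nat_lit 0x30002050104) (nat_lit 2307))
)))) (.node (nat_lit 0x30004050102) (.node (nat_lit 0x30004010502) (.node (nat_lit 0x30004010205) (.leaf (nat_lit 0x30002050401) (nat_lit 2051))
 (.leaf (nat_lit 0x30004010205) (nat_lit 2563))
) (.node (nat_lit 0x30004020105) (.leaf (nat_lit 0x30004010502) (nat_lit 2307))
 (.node (nat_lit 0x30004020501) (.leaf (nat_lit 0x30004020105) (nat_lit 2307))
 (.leaf (nat_lit 0x30004020501) (nat_lit 2051))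
))) (.node (nat_lit 0x30005010402) (.node (nat_lit 0x30004050201) (.leaf (nat_lit 0x30004050102) (nat_lit 2051))
 (.node (nat_lit 0x30005010204) (.leaf (nat_lit 0x30004050201) (nat_lit 1795))
 (.leaf (nat_lit 0x30005010204) (nat_lit 2307))
)) (.node (nat_lit 0x30005020104) (.leaf (nat_lit 0x30005010402) (nat_lit 2051))
 (.node (nat_lit 0x30005020401) (.leaf (nat_lit 0x30005020104) (nat_lit 2051))
 (.leaf (nat_lit 0x30005020401) (nat_lit 1795))
))))) (.node (nat_lit 0x30102040500) (.node (nat_lit 0x30100040502) (.node (nat_lit 0x30100020405) (.node (nat_lit 0x30005040201) (.leaf (nat_lit 0x30005040102) (nat_lit 1795))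
 (.leaf (nat_lit 0x30005040201) (nat_lit 1539))
) (.node (nat_lit 0x30100020504) (.leaf (nat_lit 0x30100020405) (nat_lit 2819))
 (.node (nat_lit 0x30100040205) (.leaf (nat_lit 0x30100020504) (nat_lit 2563))
 (.leaf (nat_lit 0x30100040205) (nat_lit 2563))
))) (.node (nat_lit 0x30102000405) (.node (nat_lit 0x30100050204) (.leaf (nat_lit 0x30100040502) (nat_lit 2307))
 (.node (nat_lit 0x30100050402) (.leaf (nat_lit 0x30100050204) (nat_lit 2307))
 (.leaf (nat_lit 0x30100050402) (nat_lit 2051))
)) (.node (nat_lit 0x30102000504) (.leaf (nat_lit 0x30102000405) (nat_lit 2563))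
 (.node (nat_lit 0x30102040005) (.leaf (nat_lit 0x30102000504) (nat_lit 2307))
 (.leaf (nat_lit 0x30102040005) (nat_lit 2307))
)))) (.node (nat_lit 0x30104020500) (.node (nat_lit 0x30104000205) (.node (nat_lit 0x30102050004) (.leaf (nat_lit 0x30102040500) (nat_lit 2051))
 (.node (nat_lit 0x30102050400) (.leaf (nat_lit 0x30102050004) (nat_lit 2051))
 (.leaf (nat_lit 0x30102050400) (nat_lit 1795))
)) (.node (nat_lit 0x30104000502) (.leaf (nat_lit 0x30104000205) (nat_lit 2307))
 (.node (nat_lit 0x30104020005) (.leaf (nat_lit 0x30104000502) (nat_lit 2051))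
 (.leaf (nat_lit 0x30104020005) (nat_lit 2051))
))) (.node (nat_lit 0x30105000204) (.node (nat_lit 0x30104050002) (.leaf (nat_lit 0x30104020500) (nat_lit 1795))
 (.node (nat_lit 0x30104050200) (.leaf (nat_lit 0x30104050002) (nat_lit 1795))
 (.leaf (nat_lit 0x30104050200) (nat_lit 1539))
)) (.node (nat_lit 0x30105000402) (.leaf (nat_lit 0x30105000204) (nat_lit 2051))
 (.node (nat_lit 0x30105020004) (.leaf (nat_lit 0x30105000402) (nat_lit 1795))
 (.leaf (nat_lit 0x30105020004) (nat_lit 1795))
)))))) (.node (nat_lit 0x30205000401) (.node (nat_lit 0x30201040005) (.node (nat_lit 0x30200040105) (.node (nat_lit 0x30105040200) (.node (nat_lit 0x30105040002) (.leaf (nat_lit 0x30105020400) (nat_lit 1539))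
 (.leaf (nat_lit 0x30105040002) (nat_lit 1539))
) (.node (nat_lit 0x30200010405) (.leaf (nat_lit 0x30105040200) (nat_lit 1283))
 (.node (nat_lit 0x30200010504) (.leaf (nat_lit 0x30200010405) (nat_lit 2563))
 (.leaf (nat_lit 0x30200010504) (nat_lit 2307))
))) (.node (nat_lit 0x30200050401) (.node (nat_lit 0x30200040501) (.leaf (nat_lit 0x30200040105) (nat_lit 2307))
 (.node (nat_lit 0x30200050104) (.leaf (nat_lit 0x30200040501) (nat_lit 2051))
 (.leaf (nat_lit 0x30200050104) (nat_lit 2051))
)) (.node (nat_lit 0x30201000405) (.leaf (nat_lit 0x30200050401) (nat_lit 1795))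
 (.node (nat_lit 0x30201000504) (.leaf (nat_lit 0x30201000405) (nat_lit 2307))
 (.leaf (nat_lit 0x30201000504) (nat_lit 2051))
)))) (.node (nat_lit 0x30204000501) (.node (nat_lit 0x30201050004) (.node (nat_lit 0x30201040500) (.leaf (nat_lit 0x30201040005) (nat_lit 2051))
 (.leaf (nat_lit 0x30201040500) (nat_lit 1795))
) (.node (nat_lit 0x30201050400) (.leaf (nat_lit 0x30201050004) (nat_lit 1795))
 (.node (nat_lit 0x30204000105) (.leaf (nat_lit 0x30201050400) (nat_lit 1539))
 (.leaf (nat_lit 0x30204000105) (nat_lit 2051))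
))) (.node (nat_lit 0x30204050001) (.node (nat_lit 0x30204010005) (.leaf (nat_lit 0x30204000501) (nat_lit 1795))
 (.node (nat_lit 0x30204010500) (.leaf (nat_lit 0x30204010005) (nat_lit 1795))
 (.leaf (nat_lit 0x30204010500) (nat_lit 1539))
)) (.node (nat_lit 0x30204050100) (.leaf (nat_lit 0x30204050001) (nat_lit 1539))
 (.node (nat_lit 0x30205000104) (.leaf (nat_lit 0x30204050100) (nat_lit 1283))
 (.leaf (nat_lit 0x30205000104) (nat_lit 1795))
))))) (.node (nat_lit 0x30401000205) (.node (nat_lit 0x30400010205) (.node (nat_lit 0x30205010400) (.node (nat_lit 0x30205010004) (.leaf (nat_lit 0x30205000401) (nat_lit 1539))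
 (.leaf (nat_lit 0x30205010004) (nat_lit 1539))
) (.node (nat_lit 0x30205040001) (.leaf (nat_lit 0x30205010400) (nat_lit 1283))
 (.node (nat_lit 0x30205040100) (.leaf (nat_lit 0x30205040001) (nat_lit 1283))
 (.leaf (nat_lit 0x30205040100) (nat_lit 1027))
))) (.node (nat_lit 0x30400020501) (.node (nat_lit 0x30400010502) (.leaf (nat_lit 0x30400010205) (nat_lit 2307))
 (.node (nat_lit 0x30400020105) (.leaf (nat_lit 0x30400010502) (nat_lit 2051))
 (.leaf (nat_lit 0x30400020105) (nat_lit 2051))
)) (.node (nat_lit 0x30400050102) (.leaf (nat_lit 0x30400020501) (nat_lit 1795))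
 (.node (nat_lit 0x30400050201) (.leaf (nat_lit 0x30400050102) (nat_lit 1795))
 (.leaf (nat_lit 0x30400050201) (nat_lit 1539))
)))) (.node (nat_lit 0x30402000105) (.node (nat_lit 0x30401020500) (.node (nat_lit 0x30401000502) (.leaf (nat_lit 0x30401000205) (nat_lit 2051))
 (.node (nat_lit 0x30401020005) (.leaf (nat_lit 0x30401000502) (nat_lit 1795))
 (.leaf (nat_lit 0x30401020005) (nat_lit 1795))
)) (.node (nat_lit 0x30401050002) (.leaf (nat_lit 0x30401020500) (nat_lit 1539))
 (.node (nat_lit 0x30401050200) (.leaf (nat_lit 0x30401050002) (nat_lit 1539))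
 (.leaf (nat_lit 0x30401050200) (nat_lit 1283))
))) (.node (nat_lit 0x30402010500) (.node (nat_lit 0x30402000501) (.leaf (nat_lit 0x30402000105) (nat_lit 1795))
 (.node (nat_lit 0x30402010005) (.leaf (nat_lit 0x30402000501) (nat_lit 1539))
 (.leaf (nat_lit 0x30402010005) (nat_lit 1539))
)) (.node (nat_lit 0x30402050001) (.leaf (nat_lit 0x30402010500) (nat_lit 1283))
 (.node (nat_lit 0x30402050100) (.leaf (nat_lit 0x30402050001) (nat_lit 1283))
 (.leaf (nat_lit 0x30402050100) (nat_lit 1027))
))))))) (.node (nat_lit 0x40003020501) (.node (nat_lit 0x30502040001) (.node (nat_lit 0x30500040201) (.node (nat_lit 0x30405020100) (.node (nat_lit 0x30405010002) (.node (nat_lit 0x30405000201) (.leaf (nat_lit 0x30405000102) (nat_lit 1539))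
 (.leaf (nat_lit 0x30405000201) (nat_lit 1283))
) (.node (nat_lit 0x30405010200) (.leaf (nat_lit 0x30405010002) (nat_lit 1283))
 (.node (nat_lit 0x30405020001) (.leaf (nat_lit 0x30405010200) (nat_lit 1027))
 (.leaf (nat_lit 0x30405020001) (nat_lit 1027))
))) (.node (nat_lit 0x30500020104) (.node (nat_lit 0x30500010204) (.leaf (nat_lit 0x30405020100) (nat_lit 771))
 (.node (nat_lit 0x30500010402) (.leaf (nat_lit 0x30500010204) (nat_lit 2051))
 (.leaf (nat_lit 0x30500010402) (nat_lit 1795))
)) (.node (nat_lit 0x30500020401) (.leaf (nat_lit 0x30500020104) (nat_lit 1795))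
 (.node (nat_lit 0x30500040102) (.leaf (nat_lit 0x30500020401) (nat_lit 1539))
 (.leaf (nat_lit 0x30500040102) (nat_lit 1539))
)))) (.node (nat_lit 0x30501040002) (.node (nat_lit 0x30501000402) (.node (nat_lit 0x30501000204) (.leaf (nat_lit 0x30500040201) (nat_lit 1283))
 (.leaf (nat_lit 0x30501000204) (nat_lit 1795))
) (.node (nat_lit 0x30501020004) (.leaf (nat_lit 0x30501000402) (nat_lit 1539))
 (.node (nat_lit 0x30501020400) (.leaf (nat_lit 0x30501020004) (nat_lit 1539))
 (.leaf (nat_lit 0x30501020400) (nat_lit 1283))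
))) (.node (nat_lit 0x30502000401) (.node (nat_lit 0x30501040200) (.leaf (nat_lit 0x30501040002) (nat_lit 1283))
 (.node (nat_lit 0x30502000104) (.leaf (nat_lit 0x30501040200) (nat_lit 1027))
 (.leaf (nat_lit 0x30502000104) (nat_lit 1539))
)) (.node (nat_lit 0x30502010004) (.leaf (nat_lit 0x30502000401) (nat_lit 1283))
 (.node (nat_lit 0x30502010400) (.leaf (nat_lit 0x30502010004) (nat_lit 1283))
 (.leaf (nat_lit 0x30502010400) (nat_lit 1027))
))))) (.node (nat_lit 0x40001030502) (.node (nat_lit 0x30504010200) (.node (nat_lit 0x30504000102) (.node (nat_lit 0x30502040100) (.leaf (nat_lit 0x30502040001) (nat_lit 1027))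
 (.leaf (nat_lit 0x30502040100) (nat_lit 771))
) (.node (nat_lit 0x30504000201) (.leaf (nat_lit 0x30504000102) (nat_lit 1283))
 (.node (nat_lit 0x30504010002) (.leaf (nat_lit 0x30504000201) (nat_lit 1027))
 (.leaf (nat_lit 0x30504010002) (nat_lit 1027))
))) (.node (nat_lit 0x40001020305) (.node (nat_lit 0x30504020001) (.leaf (nat_lit 0x30504010200) (nat_lit 771))
 (.node (nat_lit 0x30504020100) (.leaf (nat_lit 0x30504020001) (nat_lit 771))
 (.leaf (nat_lit 0x30504020100) (nat_lit 515))
)) (.node (nat_lit 0x40001020503) (.leaf (nat_lit 0x40001020305) (nat_lit 2820))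
 (.node (nat_lit 0x40001030205) (.leaf (nat_lit 0x40001020503) (nat_lit 2564))
 (.leaf (nat_lit 0x40001030205) (nat_lit 2564))
)))) (.node (nat_lit 0x40002030501) (.node (nat_lit 0x40002010305) (.node (nat_lit 0x40001050203) (.leaf (nat_lit 0x40001030502) (nat_lit 2308))
 (.node (nat_lit 0x40001050302) (.leaf (nat_lit 0x40001050203) (nat_lit 2308))
 (.leaf (nat_lit 0x40001050302) (nat_lit 2052))
)) (.node (nat_lit 0x40002010503) (.leaf (nat_lit 0x40002010305) (nat_lit 2564))
 (.node (nat_lit 0x40002030105) (.leaf (nat_lit 0x40002010503) (nat_lit 2308))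
 (.leaf (nat_lit 0x40002030105) (nat_lit 2308))
))) (.node (nat_lit 0x40003010205) (.node (nat_lit 0x40002050103) (.leaf (nat_lit 0x40002030501) (nat_lit 2052))
 (.node (nat_lit 0x40002050301) (.leaf (nat_lit 0x40002050103) (nat_lit 2052))
 (.leaf (nat_lit 0x40002050301) (nat_lit 1796))
)) (.node (nat_lit 0x40003010502) (.leaf (nat_lit 0x40003010205) (nat_lit 2308))
 (.node (nat_lit 0x40003020105) (.leaf (nat_lit 0x40003010502) (nat_lit 2052))
 (.leaf (nat_lit 0x40003020105) (nat_lit 2052))
)))))) (.node (nat_lit 0x40103000502) (.node (nat_lit 0x40100030205) (.node (nat_lit 0x40005020103) (.node (nat_lit 0x40003050201) (.node (nat_lit 0x40003050102) (.leaf (nat_lit 0x40003020501) (nat_lit 1796))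
 (.leaf (nat_lit 0x40003050102) (nat_lit 1796))
) (.node (nat_lit 0x40005010203) (.leaf (nat_lit 0x40003050201) (nat_lit 1540))
 (.node (nat_lit 0x40005010302) (.leaf (nat_lit 0x40005010203) (nat_lit 2052))
 (.leaf (nat_lit 0x40005010302) (nat_lit 1796))
))) (.node (nat_lit 0x40005030201) (.node (nat_lit 0x40005020301) (.leaf (nat_lit 0x40005020103) (nat_lit 1796))
 (.node (nat_lit 0x40005030102) (.leaf (nat_lit 0x40005020301) (nat_lit 1540))
 (.leaf (nat_lit 0x40005030102) (nat_lit 1540))
)) (.node (nat_lit 0x40100020305) (.leaf (nat_lit 0x40005030201) (nat_lit 1284))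
 (.node (nat_lit 0x40100020503) (.leaf (nat_lit 0x40100020305) (nat_lit 2564))
 (.leaf (nat_lit 0x40100020503) (nat_lit 2308))
)))) (.node (nat_lit 0x40102000503) (.node (nat_lit 0x40100050203) (.node (nat_lit 0x40100030502) (.leaf (nat_lit 0x40100030205) (nat_lit 2308))
 (.leaf (nat_lit 0x40100030502) (nat_lit 2052))
) (.node (nat_lit 0x40100050302) (.leaf (nat_lit 0x40100050203) (nat_lit 2052))
 (.node (nat_lit 0x40102000305) (.leaf (nat_lit 0x40100050302) (nat_lit 1796))
 (.leaf (nat_lit 0x40102000305) (nat_lit 2308))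
))) (.node (nat_lit 0x40102050003) (.node (nat_lit 0x40102030005) (.leaf (nat_lit 0x40102000503) (nat_lit 2052))
 (.node (nat_lit 0x40102030500) (.leaf (nat_lit 0x40102030005) (nat_lit 2052))
 (.leaf (nat_lit 0x40102030500) (nat_lit 1796))
)) (.node (nat_lit 0x40102050300) (.leaf (nat_lit 0x40102050003) (nat_lit 1796))
 (.node (nat_lit 0x40103000205) (.leaf (nat_lit 0x40102050300) (nat_lit 1540))
 (.leaf (nat_lit 0x40103000205) (nat_lit 2052))
))))) (.node (nat_lit 0x40200010305) (.node (nat_lit 0x40105000203) (.node (nat_lit 0x40103020500) (.node (nat_lit 0x40103020005) (.leaf (nat_lit 0x40103000502) (nat_lit 1796))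
 (.leaf (nat_lit 0x40103020005) (nat_lit 1796))
) (.node (nat_lit 0x40103050002) (.leaf (nat_lit 0x40103020500) (nat_lit 1540))
 (.node (nat_lit 0x40103050200) (.leaf (nat_lit 0x40103050002) (nat_lit 1540))
 (.leaf (nat_lit 0x40103050200) (nat_lit 1284))
))) (.node (nat_lit 0x40105020300) (.node (nat_lit 0x40105000302) (.leaf (nat_lit 0x40105000203) (nat_lit 1796))
 (.node (nat_lit 0x40105020003) (.leaf (nat_lit 0x40105000302) (nat_lit 1540))
 (.leaf (nat_lit 0x40105020003) (nat_lit 1540))
)) (.node (nat_lit 0x40105030002) (.leaf (nat_lit 0x40105020300) (nat_lit 1284))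
 (.node (nat_lit 0x40105030200) (.leaf (nat_lit 0x40105030002) (nat_lit 1284))
 (.leaf (nat_lit 0x40105030200) (nat_lit 1028))
)))) (.node (nat_lit 0x40201000305) (.node (nat_lit 0x40200030501) (.node (nat_lit 0x40200010503) (.leaf (nat_lit 0x40200010305) (nat_lit 2308))
 (.node (nat_lit 0x40200030105) (.leaf (nat_lit 0x40200010503) (nat_lit 2052))
 (.leaf (nat_lit 0x40200030105) (nat_lit 2052))
)) (.node (nat_lit 0x40200050103) (.leaf (nat_lit 0x40200030501) (nat_lit 1796))
 (.node (nat_lit 0x40200050301) (.leaf (nat_lit 0x40200050103) (nat_lit 1796))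
 (.leaf (nat_lit 0x40200050301) (nat_lit 1540))
))) (.node (nat_lit 0x40201030500) (.node (nat_lit 0x40201000503) (.leaf (nat_lit 0x40201000305) (nat_lit 2052))
 (.node (nat_lit 0x40201030005) (.leaf (nat_lit 0x40201000503) (nat_lit 1796))
 (.leaf (nat_lit 0x40201030005) (nat_lit 1796))
)) (.node (nat_lit 0x40201050003) (.leaf (nat_lit 0x40201030500) (nat_lit 1540))
 (.node (nat_lit 0x40201050300) (.leaf (nat_lit 0x40201050003) (nat_lit 1540))
 (.leaf (nat_lit 0x40201050300) (nat_lit 1284))
)))))))) (.node (nat_lit 0x50102000304) (.node (nat_lit 0x40501020300) (.node (nat_lit 0x40301050002) (.node (nat_lit 0x40205030100) (.node (nat_lit 0x40203050100) (.node (nat_lit 0x40203010005) (.node (nat_lit 0x40203000501) (.leaf (nat_lit 0x40203000105) (nat_lit 1796))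
 (.leaf (nat_lit 0x40203000501) (nat_lit 1540))
) (.node (nat_lit 0x40203010500) (.leaf (nat_lit 0x40203010005) (nat_lit 1540))
 (.node (nat_lit 0x40203050001) (.leaf (nat_lit 0x40203010500) (nat_lit 1284))
 (.leaf (nat_lit 0x40203050001) (nat_lit 1284))
))) (.node (nat_lit 0x40205010003) (.node (nat_lit 0x40205000103) (.leaf (nat_lit 0x40203050100) (nat_lit 1028))
 (.node (nat_lit 0x40205000301) (.leaf (nat_lit 0x40205000103) (nat_lit 1540))
 (.leaf (nat_lit 0x40205000301) (nat_lit 1284))
)) (.node (nat_lit 0x40205010300) (.leaf (nat_lit 0x40205010003) (nat_lit 1284))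
 (.node (nat_lit 0x40205030001) (.leaf (nat_lit 0x40205010300) (nat_lit 1028))
 (.leaf (nat_lit 0x40205030001) (nat_lit 1028))
)))) (.node (nat_lit 0x40300050102) (.node (nat_lit 0x40300010502) (.node (nat_lit 0x40300010205) (.leaf (nat_lit 0x40205030100) (nat_lit 772))
 (.leaf (nat_lit 0x40300010205) (nat_lit 2052))
) (.node (nat_lit 0x40300020105) (.leaf (nat_lit 0x40300010502) (nat_lit 1796))
 (.node (nat_lit 0x40300020501) (.leaf (nat_lit 0x40300020105) (nat_lit 1796))
 (.leaf (nat_lit 0x40300020501) (nat_lit 1540))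
))) (.node (nat_lit 0x40301000502) (.node (nat_lit 0x40300050201) (.leaf (nat_lit 0x40300050102) (nat_lit 1540))
 (.node (nat_lit 0x40301000205) (.leaf (nat_lit 0x40300050201) (nat_lit 1284))
 (.leaf (nat_lit 0x40301000205) (nat_lit 1796))
)) (.node (nat_lit 0x40301020005) (.leaf (nat_lit 0x40301000502) (nat_lit 1540))
 (.node (nat_lit 0x40301020500) (.leaf (nat_lit 0x40301020005) (nat_lit 1540))
 (.leaf (nat_lit 0x40301020500) (nat_lit 1284))
))))) (.node (nat_lit 0x40305010200) (.node (nat_lit 0x40302010500) (.node (nat_lit 0x40302000105) (.node (nat_lit 0x40301050200) (.leaf (nat_lit 0x40301050002) (nat_lit 1284))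
 (.leaf (nat_lit 0x40301050200) (nat_lit 1028))
) (.node (nat_lit 0x40302000501) (.leaf (nat_lit 0x40302000105) (nat_lit 1540))
 (.node (nat_lit 0x40302010005) (.leaf (nat_lit 0x40302000501) (nat_lit 1284))
 (.leaf (nat_lit 0x40302010005) (nat_lit 1284))
))) (.node (nat_lit 0x40305000102) (.node (nat_lit 0x40302050001) (.leaf (nat_lit 0x40302010500) (nat_lit 1028))
 (.node (nat_lit 0x40302050100) (.leaf (nat_lit 0x40302050001) (nat_lit 1028))
 (.leaf (nat_lit 0x40302050100) (nat_lit 772))
)) (.node (nat_lit 0x40305000201) (.leaf (nat_lit 0x40305000102) (nat_lit 1284))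
 (.node (nat_lit 0x40305010002) (.leaf (nat_lit 0x40305000201) (nat_lit 1028))
 (.leaf (nat_lit 0x40305010002) (nat_lit 1028))
)))) (.node (nat_lit 0x40500020301) (.node (nat_lit 0x40500010203) (.node (nat_lit 0x40305020001) (.leaf (nat_lit 0x40305010200) (nat_lit 772))
 (.node (nat_lit 0x40305020100) (.leaf (nat_lit 0x40305020001) (nat_lit 772))
 (.leaf (nat_lit 0x40305020100) (nat_lit 516))
)) (.node (nat_lit 0x40500010302) (.leaf (nat_lit 0x40500010203) (nat_lit 1796))
 (.node (nat_lit 0x40500020103) (.leaf (nat_lit 0x40500010302) (nat_lit 1540))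
 (.leaf (nat_lit 0x40500020103) (nat_lit 1540))
))) (.node (nat_lit 0x40501000203) (.node (nat_lit 0x40500030102) (.leaf (nat_lit 0x40500020301) (nat_lit 1284))
 (.node (nat_lit 0x40500030201) (.leaf (nat_lit 0x40500030102) (nat_lit 1284))
 (.leaf (nat_lit 0x40500030201) (nat_lit 1028))
)) (.node (nat_lit 0x40501000302) (.leaf (nat_lit 0x40501000203) (nat_lit 1540))
 (.node (nat_lit 0x40501020003) (.leaf (nat_lit 0x40501000302) (nat_lit 1284))
 (.leaf (nat_lit 0x40501020003) (nat_lit 1284))
)))))) (.node (nat_lit 0x50002010403) (.node (nat_lit 0x40503010002) (.node (nat_lit 0x40502010003) (.node (nat_lit 0x40501030200) (.node (nat_lit 0x40501030002) (.leaf (nat_lit 0x40501020300) (nat_lit 1028))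
 (.leaf (nat_lit 0x40501030002) (nat_lit 1028))
) (.node (nat_lit 0x40502000103) (.leaf (nat_lit 0x40501030200) (nat_lit 772))
 (.node (nat_lit 0x40502000301) (.leaf (nat_lit 0x40502000103) (nat_lit 1284))
 (.leaf (nat_lit 0x40502000301) (nat_lit 1028))
))) (.node (nat_lit 0x40502030100) (.node (nat_lit 0x40502010300) (.leaf (nat_lit 0x40502010003) (nat_lit 1028))
 (.node (nat_lit 0x40502030001) (.leaf (nat_lit 0x40502010300) (nat_lit 772))
 (.leaf (nat_lit 0x40502030001) (nat_lit 772))
)) (.node (nat_lit 0x40503000102) (.leaf (nat_lit 0x40502030100) (nat_lit 516))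
 (.node (nat_lit 0x40503000201) (.leaf (nat_lit 0x40503000102) (nat_lit 1028))
 (.leaf (nat_lit 0x40503000201) (nat_lit 772))
)))) (.node (nat_lit 0x50001020403) (.node (nat_lit 0x40503020001) (.node (nat_lit 0x40503010200) (.leaf (nat_lit 0x40503010002) (nat_lit 772))
 (.leaf (nat_lit 0x40503010200) (nat_lit 516))
) (.node (nat_lit 0x40503020100) (.leaf (nat_lit 0x40503020001) (nat_lit 516))
 (.node (nat_lit 0x50001020304) (.leaf (nat_lit 0x40503020100) (nat_lit 260))
 (.leaf (nat_lit 0x50001020304) (nat_lit 2560))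
))) (.node (nat_lit 0x50001040203) (.node (nat_lit 0x50001030204) (.leaf (nat_lit 0x50001020403) (nat_lit 2304))
 (.node (nat_lit 0x50001030402) (.leaf (nat_lit 0x50001030204) (nat_lit 2304))
 (.leaf (nat_lit 0x50001030402) (nat_lit 2048))
)) (.node (nat_lit 0x50001040302) (.leaf (nat_lit 0x50001040203) (nat_lit 2048))
 (.node (nat_lit 0x50002010304) (.leaf (nat_lit 0x50001040302) (nat_lit 1792))
 (.leaf (nat_lit 0x50002010304) (nat_lit 2304))
))))) (.node (nat_lit 0x50004010203) (.node (nat_lit 0x50003010204) (.node (nat_lit 0x50002030401) (.node (nat_lit 0x50002030104) (.leaf (nat_lit 0x50002010403) (nat_lit 2048))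
 (.leaf (nat_lit 0x50002030104) (nat_lit 2048))
) (.node (nat_lit 0x50002040103) (.leaf (nat_lit 0x50002030401) (nat_lit 1792))
 (.node (nat_lit 0x50002040301) (.leaf (nat_lit 0x50002040103) (nat_lit 1792))
 (.leaf (nat_lit 0x50002040301) (nat_lit 1536))
))) (.node (nat_lit 0x50003020401) (.node (nat_lit 0x50003010402) (.leaf (nat_lit 0x50003010204) (nat_lit 2048))
 (.node (nat_lit 0x50003020104) (.leaf (nat_lit 0x50003010402) (nat_lit 1792))
 (.leaf (nat_lit 0x50003020104) (nat_lit 1792))
)) (.node (nat_lit 0x50003040102) (.leaf (nat_lit 0x50003020401) (nat_lit 1536))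
 (.node (nat_lit 0x50003040201) (.leaf (nat_lit 0x50003040102) (nat_lit 1536))
 (.leaf (nat_lit 0x50003040201) (nat_lit 1280))
)))) (.node (nat_lit 0x50100020304) (.node (nat_lit 0x50004020301) (.node (nat_lit 0x50004010302) (.leaf (nat_lit 0x50004010203) (nat_lit 1792))
 (.node (nat_lit 0x50004020103) (.leaf (nat_lit 0x50004010302) (nat_lit 1536))
 (.leaf (nat_lit 0x50004020103) (nat_lit 1536))
)) (.node (nat_lit 0x50004030102) (.leaf (nat_lit 0x50004020301) (nat_lit 1280))
 (.node (nat_lit 0x50004030201) (.leaf (nat_lit 0x50004030102) (nat_lit 1280))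
 (.leaf (nat_lit 0x50004030201) (nat_lit 1024))
))) (.node (nat_lit 0x50100030402) (.node (nat_lit 0x50100020403) (.leaf (nat_lit 0x50100020304) (nat_lit 2305))
 (.node (nat_lit 0x50100030204) (.leaf (nat_lit 0x50100020403) (nat_lit 2049))
 (.leaf (nat_lit 0x50100030204) (nat_lit 2049))
)) (.node (nat_lit 0x50100040203) (.leaf (nat_lit 0x50100030402) (nat_lit 1793))
 (.node (nat_lit 0x50100040302) (.leaf (nat_lit 0x50100040203) (nat_lit 1793))
 (.leaf (nat_lit 0x50100040302) (nat_lit 1537))
))))))) (.node (nat_lit 0x50300020401) (.node (nat_lit 0x50200040103) (.node (nat_lit 0x50103040200) (.node (nat_lit 0x50102040300) (.node (nat_lit 0x50102030004) (.node (nat_lit 0x50102000403) (.leaf (nat_lit 0x50102000304) (nat_lit 2049))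
 (.leaf (nat_lit 0x50102000403) (nat_lit 1793))
) (.node (nat_lit 0x50102030400) (.leaf (nat_lit 0x50102030004) (nat_lit 1793))
 (.node (nat_lit 0x50102040003) (.leaf (nat_lit 0x50102030400) (nat_lit 1537))
 (.leaf (nat_lit 0x50102040003) (nat_lit 1537))
))) (.node (nat_lit 0x50103020004) (.node (nat_lit 0x50103000204) (.leaf (nat_lit 0x50102040300) (nat_lit 1281))
 (.node (nat_lit 0x50103000402) (.leaf (nat_lit 0x50103000204) (nat_lit 1793))
 (.leaf (nat_lit 0x50103000402) (nat_lit 1537))
)) (.node (nat_lit 0x50103020400) (.leaf (nat_lit 0x50103020004) (nat_lit 1537))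
 (.node (nat_lit 0x50103040002) (.leaf (nat_lit 0x50103020400) (nat_lit 1281))
 (.leaf (nat_lit 0x50103040002) (nat_lit 1281))
)))) (.node (nat_lit 0x50104030002) (.node (nat_lit 0x50104000302) (.node (nat_lit 0x50104000203) (.leaf (nat_lit 0x50103040200) (nat_lit 1025))
 (.leaf (nat_lit 0x50104000203) (nat_lit 1537))
) (.node (nat_lit 0x50104020003) (.leaf (nat_lit 0x50104000302) (nat_lit 1281))
 (.node (nat_lit 0x50104020300) (.leaf (nat_lit 0x50104020003) (nat_lit 1281))
 (.leaf (nat_lit 0x50104020300) (nat_lit 1025))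
))) (.node (nat_lit 0x50200010403) (.node (nat_lit 0x50104030200) (.leaf (nat_lit 0x50104030002) (nat_lit 1025))
 (.node (nat_lit 0x50200010304) (.leaf (nat_lit 0x50104030200) (nat_lit 769))
 (.leaf (nat_lit 0x50200010304) (nat_lit 2050))
)) (.node (nat_lit 0x50200030104) (.leaf (nat_lit 0x50200010403) (nat_lit 1794))
 (.node (nat_lit 0x50200030401) (.leaf (nat_lit 0x50200030104) (nat_lit 1794))
 (.leaf (nat_lit 0x50200030401) (nat_lit 1538))
))))) (.node (nat_lit 0x50203010400) (.node (nat_lit 0x50201030400) (.node (nat_lit 0x50201000304) (.node (nat_lit 0x50200040301) (.leaf (nat_lit 0x50200040103) (nat_lit 1538))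
 (.leaf (nat_lit 0x50200040301) (nat_lit 1282))
) (.node (nat_lit 0x50201000403) (.leaf (nat_lit 0x50201000304) (nat_lit 1794))
 (.node (nat_lit 0x50201030004) (.leaf (nat_lit 0x50201000403) (nat_lit 1538))
 (.leaf (nat_lit 0x50201030004) (nat_lit 1538))
))) (.node (nat_lit 0x50203000104) (.node (nat_lit 0x50201040003) (.leaf (nat_lit 0x50201030400) (nat_lit 1282))
 (.node (nat_lit 0x50201040300) (.leaf (nat_lit 0x50201040003) (nat_lit 1282))
 (.leaf (nat_lit 0x50201040300) (nat_lit 1026))
)) (.node (nat_lit 0x50203000401) (.leaf (nat_lit 0x50203000104) (nat_lit 1538))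
 (.node (nat_lit 0x50203010004) (.leaf (nat_lit 0x50203000401) (nat_lit 1282))
 (.leaf (nat_lit 0x50203010004) (nat_lit 1282))
)))) (.node (nat_lit 0x50204010300) (.node (nat_lit 0x50204000103) (.node (nat_lit 0x50203040001) (.leaf (nat_lit 0x50203010400) (nat_lit 1026))
 (.node (nat_lit 0x50203040100) (.leaf (nat_lit 0x50203040001) (nat_lit 1026))
 (.leaf (nat_lit 0x50203040100) (nat_lit 770))
)) (.node (nat_lit 0x50204000301) (.leaf (nat_lit 0x50204000103) (nat_lit 1282))
 (.node (nat_lit 0x50204010003) (.leaf (nat_lit 0x50204000301) (nat_lit 1026))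
 (.leaf (nat_lit 0x50204010003) (nat_lit 1026))
))) (.node (nat_lit 0x50300010204) (.node (nat_lit 0x50204030001) (.leaf (nat_lit 0x50204010300) (nat_lit 770))
 (.node (nat_lit 0x50204030100) (.leaf (nat_lit 0x50204030001) (nat_lit 770))
 (.leaf (nat_lit 0x50204030100) (nat_lit 514))
)) (.node (nat_lit 0x50300010402) (.leaf (nat_lit 0x50300010204) (nat_lit 1795))
 (.node (nat_lit 0x50300020104) (.leaf (nat_lit 0x50300010402) (nat_lit 1539))
 (.leaf (nat_lit 0x50300020104) (nat_lit 1539))
)))))) (.node (nat_lit 0x50400010302) (.node (nat_lit 0x50302010004) (.node (nat_lit 0x50301020004) (.node (nat_lit 0x50300040201) (.node (nat_lit 0x50300040102) (.leaf (nat_lit 0x50300020401) (nat_lit 1283))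
 (.leaf (nat_lit 0x50300040102) (nat_lit 1283))
) (.node (nat_lit 0x50301000204) (.leaf (nat_lit 0x50300040201) (nat_lit 1027))
 (.node (nat_lit 0x50301000402) (.leaf (nat_lit 0x50301000204) (nat_lit 1539))
 (.leaf (nat_lit 0x50301000402) (nat_lit 1283))
))) (.node (nat_lit 0x50301040200) (.node (nat_lit 0x50301020400) (.leaf (nat_lit 0x50301020004) (nat_lit 1283))
 (.node (nat_lit 0x50301040002) (.leaf (nat_lit 0x50301020400) (nat_lit 1027))
 (.leaf (nat_lit 0x50301040002) (nat_lit 1027))
)) (.node (nat_lit 0x50302000104) (.leaf (nat_lit 0x50301040200) (nat_lit 771))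
 (.node (nat_lit 0x50302000401) (.leaf (nat_lit 0x50302000104) (nat_lit 1283))
 (.leaf (nat_lit 0x50302000401) (nat_lit 1027))
)))) (.node (nat_lit 0x50304000201) (.node (nat_lit 0x50302040001) (.node (nat_lit 0x50302010400) (.leaf (nat_lit 0x50302010004) (nat_lit 1027))
 (.leaf (nat_lit 0x50302010400) (nat_lit 771))
) (.node (nat_lit 0x50302040100) (.leaf (nat_lit 0x50302040001) (nat_lit 771))
 (.node (nat_lit 0x50304000102) (.leaf (nat_lit 0x50302040100) (nat_lit 515))
 (.leaf (nat_lit 0x50304000102) (nat_lit 1027))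
))) (.node (nat_lit 0x50304020001) (.node (nat_lit 0x50304010002) (.leaf (nat_lit 0x50304000201) (nat_lit 771))
 (.node (nat_lit 0x50304010200) (.leaf (nat_lit 0x50304010002) (nat_lit 771))
 (.leaf (nat_lit 0x50304010200) (nat_lit 515))
)) (.node (nat_lit 0x50304020100) (.leaf (nat_lit 0x50304020001) (nat_lit 515))
 (.node (nat_lit 0x50400010203) (.leaf (nat_lit 0x50304020100) (nat_lit 259))
 (.leaf (nat_lit 0x50400010203) (nat_lit 1536))
))))) (.node (nat_lit 0x50402000103) (.node (nat_lit 0x50401000203) (.node (nat_lit 0x50400020301) (.node (nat_lit 0x50400020103) (.leaf (nat_lit 0x50400010302) (nat_lit 1280))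
 (.leaf (nat_lit 0x50400020103) (nat_lit 1280))
) (.node (nat_lit 0x50400030102) (.leaf (nat_lit 0x50400020301) (nat_lit 1024))
 (.node (nat_lit 0x50400030201) (.leaf (nat_lit 0x50400030102) (nat_lit 1024))
 (.leaf (nat_lit 0x50400030201) (nat_lit 768))
))) (.node (nat_lit 0x50401020300) (.node (nat_lit 0x50401000302) (.leaf (nat_lit 0x50401000203) (nat_lit 1281))
 (.node (nat_lit 0x50401020003) (.leaf (nat_lit 0x50401000302) (nat_lit 1025))
 (.leaf (nat_lit 0x50401020003) (nat_lit 1025))
)) (.node (nat_lit 0x50401030002) (.leaf (nat_lit 0x50401020300) (nat_lit 769))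
 (.node (nat_lit 0x50401030200) (.leaf (nat_lit 0x50401030002) (nat_lit 769))
 (.leaf (nat_lit 0x50401030200) (nat_lit 513))
)))) (.node (nat_lit 0x50403000102) (.node (nat_lit 0x50402010300) (.node (nat_lit 0x50402000301) (.leaf (nat_lit 0x50402000103) (nat_lit 1026))
 (.node (nat_lit 0x50402010003) (.leaf (nat_lit 0x50402000301) (nat_lit 770))
 (.leaf (nat_lit 0x50402010003) (nat_lit 770))
)) (.node (nat_lit 0x50402030001) (.leaf (nat_lit 0x50402010300) (nat_lit 514))
 (.node (nat_lit 0x50402030100) (.leaf (nat_lit 0x50402030001) (nat_lit 514))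
 (.leaf (nat_lit 0x50402030100) (nat_lit 258))
))) (.node (nat_lit 0x50403010200) (.node (nat_lit 0x50403000201) (.leaf (nat_lit 0x50403000102) (nat_lit 768))
 (.node (nat_lit 0x50403010002) (.leaf (nat_lit 0x50403000201) (nat_lit 512))
 (.leaf (nat_lit 0x50403010002) (nat_lit 513))
)) (.node (nat_lit 0x50403020001) (.leaf (nat_lit 0x50403010200) (nat_lit 257))
 (.node (nat_lit 0x50403020100) (.leaf (nat_lit 0x50403020001) (nat_lit 256))
 (.leaf (nat_lit 0x50403020100) (nat_lit 0))
))))))))))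

theorem S6_ok : genOK P6 [(nat_lit 0x50403020001), (nat_lit 0x50403010200), (nat_lit 0x50402030100), (nat_lit 0x50304020100), (nat_lit 0x40503020100)] S6_t (nat_lit 720) = true := by decide +kernel

noncomputable def cl1_t : ST :=
(.node (nat_lit 0x50203040100) (.node (nat_lit 0x30405020100) (.node (nat_lit 0x10403020500) (.leaf (nat_lit 0x403020105) (nat_lit 1028))
 (.node (nat_lit 0x20403050100) (.leaf (nat_lit 0x10403020500) (nat_lit 1284))
 (.leaf (nat_lit 0x20403050100) (nat_lit 1540))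
)) (.node (nat_lit 0x50003020104) (.node (nat_lit 0x40503020100) (.leaf (nat_lit 0x30405020100) (nat_lit 1796))
 (.leaf (nat_lit 0x40503020100) (nat_lit 2051))
) (.node (nat_lit 0x50103020400) (.leaf (nat_lit 0x50003020104) (nat_lit 771))
 (.leaf (nat_lit 0x50103020400) (nat_lit 1027))
))) (.node (nat_lit 0x50402030100) (.node (nat_lit 0x50400020103) (.node (nat_lit 0x50304020100) (.leaf (nat_lit 0x50203040100) (nat_lit 1283))
 (.leaf (nat_lit 0x50304020100) (nat_lit 1538))
) (.node (nat_lit 0x50401020300) (.leaf (nat_lit 0x50400020103) (nat_lit 514))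
 (.leaf (nat_lit 0x50401020300) (nat_lit 770))
)) (.node (nat_lit 0x50403010200) (.node (nat_lit 0x50403000102) (.leaf (nat_lit 0x50402030100) (nat_lit 1025))
 (.leaf (nat_lit 0x50403000102) (nat_lit 257))
) (.node (nat_lit 0x50403020001) (.leaf (nat_lit 0x50403010200) (nat_lit 512))
 (.leaf (nat_lit 0x50403020001) (nat_lit 0))
))))

theorem cl1_ok : orbOK P6 [(nat_lit 0x50403020001), (nat_lit 0x50403010200), (nat_lit 0x50402030100), (nat_lit 0x50304020100), (nat_lit 0x40503020100)] (nat_lit 0x50403020001) cl1_t (nat_lit 15) = true := by decide +kernel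

noncomputable def cl2_t : ST :=
(.node (nat_lit 0x30405010200) (.node (nat_lit 0x10403000502) (.node (nat_lit 0x403010205) (.node (nat_lit 0x304020105) (.node (nat_lit 0x203040105) (.leaf (nat_lit 0x103020405) (nat_lit 1539))
 (.leaf (nat_lit 0x203040105) (nat_lit 1795))
) (.node (nat_lit 0x401020305) (.leaf (nat_lit 0x304020105) (nat_lit 2050))
 (.node (nat_lit 0x402030105) (.leaf (nat_lit 0x401020305) (nat_lit 1284))
 (.leaf (nat_lit 0x402030105) (nat_lit 1540))
))) (.node (nat_lit 0x10304020500) (.node (nat_lit 0x10003020504) (.leaf (nat_lit 0x403010205) (nat_lit 1028))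
 (.node (nat_lit 0x10203040500) (.leaf (nat_lit 0x10003020504) (nat_lit 1283))
 (.leaf (nat_lit 0x10203040500) (nat_lit 2051))
)) (.node (nat_lit 0x10400020503) (.leaf (nat_lit 0x10304020500) (nat_lit 2306))
 (.node (nat_lit 0x10402030500) (.leaf (nat_lit 0x10400020503) (nat_lit 1028))
 (.leaf (nat_lit 0x10402030500) (nat_lit 1796))
)))) (.node (nat_lit 0x20401050300) (.node (nat_lit 0x20103050400) (.node (nat_lit 0x20003050104) (.leaf (nat_lit 0x10403000502) (nat_lit 772))
 (.leaf (nat_lit 0x20003050104) (nat_lit 1539))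
) (.node (nat_lit 0x20304050100) (.leaf (nat_lit 0x20103050400) (nat_lit 1795))
 (.node (nat_lit 0x20400050103) (.leaf (nat_lit 0x20304050100) (nat_lit 2561))
 (.leaf (nat_lit 0x20400050103) (nat_lit 1284))
))) (.node (nat_lit 0x30105020400) (.node (nat_lit 0x20403050001) (.leaf (nat_lit 0x20401050300) (nat_lit 1540))
 (.node (nat_lit 0x30005020104) (.leaf (nat_lit 0x20403050001) (nat_lit 516))
 (.leaf (nat_lit 0x30005020104) (nat_lit 1794))
)) (.node (nat_lit 0x30205040100) (.leaf (nat_lit 0x30105020400) (nat_lit 2050))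
 (.node (nat_lit 0x30405000102) (.leaf (nat_lit 0x30205040100) (nat_lit 2305))
 (.leaf (nat_lit 0x30405000102) (nat_lit 1028))
))))) (.node (nat_lit 0x50100020403) (.node (nat_lit 0x40503000102) (.node (nat_lit 0x40500020103) (.node (nat_lit 0x30405020001) (.leaf (nat_lit 0x30405010200) (nat_lit 1284))
 (.leaf (nat_lit 0x30405020001) (nat_lit 772))
) (.node (nat_lit 0x40501020300) (.leaf (nat_lit 0x40500020103) (nat_lit 1538))
 (.node (nat_lit 0x40502030100) (.leaf (nat_lit 0x40501020300) (nat_lit 1794))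
 (.leaf (nat_lit 0x40502030100) (nat_lit 2049))
))) (.node (nat_lit 0x50001020304) (.node (nat_lit 0x40503010200) (.leaf (nat_lit 0x40503000102) (nat_lit 1283))
 (.node (nat_lit 0x40503020001) (.leaf (nat_lit 0x40503010200) (nat_lit 1539))
 (.leaf (nat_lit 0x40503020001) (nat_lit 1027))
)) (.node (nat_lit 0x50002030104) (.leaf (nat_lit 0x50001020304) (nat_lit 1026))
 (.node (nat_lit 0x50003010204) (.leaf (nat_lit 0x50002030104) (nat_lit 1281))
 (.leaf (nat_lit 0x50003010204) (nat_lit 771))
)))) (.node (nat_lit 0x50304000102) (.node (nat_lit 0x50200040103) (.node (nat_lit 0x50102030400) (.leaf (nat_lit 0x50100020403) (nat_lit 770))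
 (.node (nat_lit 0x50103000402) (.leaf (nat_lit 0x50102030400) (nat_lit 1536))
 (.leaf (nat_lit 0x50103000402) (nat_lit 515))
)) (.node (nat_lit 0x50201040300) (.leaf (nat_lit 0x50200040103) (nat_lit 1025))
 (.node (nat_lit 0x50203040001) (.leaf (nat_lit 0x50201040300) (nat_lit 1280))
 (.leaf (nat_lit 0x50203040001) (nat_lit 259))
))) (.node (nat_lit 0x50400010203) (.node (nat_lit 0x50304010200) (.leaf (nat_lit 0x50304000102) (nat_lit 769))
 (.node (nat_lit 0x50304020001) (.leaf (nat_lit 0x50304010200) (nat_lit 1024))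
 (.leaf (nat_lit 0x50304020001) (nat_lit 514))
)) (.node (nat_lit 0x50401000302) (.leaf (nat_lit 0x50400010203) (nat_lit 512))
 (.node (nat_lit 0x50402030001) (.leaf (nat_lit 0x50401000302) (nat_lit 257))
 (.leaf (nat_lit 0x50402030001) (nat_lit 0))
))))))

theorem cl2_ok : orbOK P6 [(nat_lit 0x50403020001), (nat_lit 0x50403010200), (nat_lit 0x50402030100), (nat_lit 0x50304020100), (nat_lit 0x40503020100)] (nat_lit 0x50402030001) cl2_t (nat_lit 45) = true := by decide +kernel

noncomputable def cl3_t : ST :=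
(.node (nat_lit 0x20100050403) (.node (nat_lit 0x10002030504) (.node (nat_lit 0x201040305) (.leaf (nat_lit 0x102030405) (nat_lit 1536))
 (.node (nat_lit 0x304010205) (.leaf (nat_lit 0x201040305) (nat_lit 1284))
 (.leaf (nat_lit 0x304010205) (nat_lit 1028))
)) (.node (nat_lit 0x10304000502) (.node (nat_lit 0x10200040503) (.leaf (nat_lit 0x10002030504) (nat_lit 1281))
 (.leaf (nat_lit 0x10200040503) (nat_lit 1025))
) (.node (nat_lit 0x20001050304) (.leaf (nat_lit 0x10304000502) (nat_lit 772))
 (.leaf (nat_lit 0x20001050304) (nat_lit 1026))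
))) (.node (nat_lit 0x30205040001) (.node (nat_lit 0x30005010204) (.node (nat_lit 0x20304050001) (.leaf (nat_lit 0x20100050403) (nat_lit 770))
 (.leaf (nat_lit 0x20304050001) (nat_lit 514))
) (.node (nat_lit 0x30105000402) (.leaf (nat_lit 0x30005010204) (nat_lit 771))
 (.leaf (nat_lit 0x30105000402) (nat_lit 515))
)) (.node (nat_lit 0x40501000302) (.node (nat_lit 0x40500010203) (.leaf (nat_lit 0x30205040001) (nat_lit 259))
 (.leaf (nat_lit 0x40500010203) (nat_lit 512))
) (.node (nat_lit 0x40502030001) (.leaf (nat_lit 0x40501000302) (nat_lit 257))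
 (.leaf (nat_lit 0x40502030001) (nat_lit 0))
))))

theorem cl3_ok : orbOK P6 [(nat_lit 0x50403020001), (nat_lit 0x50403010200), (nat_lit 0x50402030100), (nat_lit 0x50304020100), (nat_lit 0x40503020100)] (nat_lit 0x40502030001) cl3_t (nat_lit 15) = true := by decide +kernel

end Cfsg.Agent.T16.S8
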