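import Mathlib
import Cfsg.Agent.T16.S6Data
import Cfsg.Agent.T16.A8St
import Cfsg.Agent.Sym.Present
import Cfsg.Agent.Spor.ESBasic

/-!
Two facts on the symmetric group of degree six, and their use for the centraliser of an involution.
-/

set_option autoImplicit false
set_option synthInstance.maxSize 100000
set_option synthInstance.maxHeartbeats 1000000
set_option linter.unusedSectionVars false

namespace Cfsg.Agent.T16.S8

open Cfsg.Agent.Spor Cfsg.Agent.Rec Cfsg.Agent.Inv.Fz Subgroup Equiv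
open Cfsg.Agent.T16.A8 (cjm cjc cjs cjcomm cj_inv2)

universe u

/-- A transposition. -/
def r1 : Perm (Fin 6) := swap 0 1
/-- A double transposition. -/
def r2 : Perm (Fin 6) := swap 0 1 * swap 2 3
/-- A triple transposition. -/
def r3 : Perm (Fin 6) := swap 0 1 * swap 2 3 * swap 4 5
/-- Generators. -/
def g6 : List (Perm (Fin 6)) := [r1, swap 1 2, swap 2 3, swap 3 4, swap 4 5]

theorem rep6 : (permCod P6_ok).RepL c6 [r1, swap 1 2, swap 2 3, swap 3 4, swap 4 5, r2, r3] :=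
  (rep_pcode P6_ok _ (by decide +kernel)).cons <| (rep_pcode P6_ok _ (by decide +kernel)).cons <|
    (rep_pcode P6_ok _ (by decide +kernel)).cons <| (rep_pcode P6_ok _ (by decide +kernel)).cons <|
    (rep_pcode P6_ok _ (by decide +kernel)).cons <| (rep_pcode P6_ok _ (by decide +kernel)).cons <|
    (rep_pcode P6_ok _ (by decide +kernel)).cons Cod.repL_nil

theorem gS6 : (permCod P6_ok).Lists S6_t.dom (clos g6) ∧ Nat.card (clos g6) = 720 := (rep6.take 5).gen S6_ok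

theorem mem6 (x : Perm (Fin 6)) : x ∈ clos g6 := by
  have : clos g6 = ⊤ := eq_top_of_card_eq _ (by rw [gS6.2, Nat.card_perm]; simp [Nat.factorial])
  exact this ▸ mem_top x

theorem hL6 : (permCod P6_ok).ListsL [S6_t.dom, cl1_t.dom, cl2_t.dom, cl3_t.dom]
    [clos g6, cls g6 r1, cls g6 r2, cls g6 r3] :=
  gS6.1.cons <| ((rep6.take 5).orb (rep6.nth 0) cl1_ok).1.cons <| ((rep6.take 5).orb (rep6.nth 5) cl2_ok).1.cons <|
    ((rep6.take 5).orb (rep6.nth 6) cl3_ok).1.cons Cod.listsL_nil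

theorem s6_cls : ∀ x ∈ clos g6, x * x = 1 → x = 1 ∨ x ∈ cls g6 r1 ∨ x ∈ cls g6 r2 ∨ x ∈ cls g6 r3 :=
  hL6.decide rep6 (by decide +kernel)

theorem s6_ind {P : Perm (Fin 6) → Prop} (h1 : P r1) (h2 : P r2) (h3 : P r3)
    (h : ∀ (φ : MulAut (Perm (Fin 6))) x, P x → P (φ x)) {t : Perm (Fin 6)} (t2 : t * t = 1) (t1 : t ≠ 1) : P t := by
  rcases s6_cls t (mem6 t) t2 with e | ⟨g, -, rfl⟩ | ⟨g, -, rfl⟩ | ⟨g, -, rfl⟩
  exacts [absurd e t1, h (MulAut.conj g) _ h1, h (MulAut.conj g) _ h2, h (MulAut.conj g) _ h3]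

/-- The statement on chains of braiding involutions, inside a set. -/
abbrev Chain (K : Set (Perm (Fin 6))) (r : Perm (Fin 6)) : Prop :=
  ∀ x2 ∈ K, x2 * r * x2 = r * x2 * r → ∀ x1 ∈ K, x1 * r = r * x1 → x1 * x2 * x1 = x2 * x1 * x2 →
    ∀ x0 ∈ K, x0 * r = r * x0 → x0 * x2 = x2 * x0 → x0 * x1 * x0 = x1 * x0 * x1 →
      ∀ e ∈ K, e * x0 = x0 * e → e * x1 = x1 * e → e * r * e = r * e * r →
        e = r ∨ e * x2 = x2 * e ∨ r * e * r * x2 = x2 * (r * e * r)

theorem Chain.univ {r : Perm (Fin 6)} (h : Chain (cls g6 r) r) : Chain Set.univ r := by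
  have k : ∀ a b : Perm (Fin 6), a * b * a = b * a * b → b ∈ cls g6 r → a ∈ cls g6 r := fun a b e hb => by
    have := conj_mem_cls (mem6 (b * a)) hb
    rwa [← e, show a * b * a * (b * a)⁻¹ = a by group] at this
  intro x2 _ h1 x1 _ h2 h3 x0 _ h4 h5 h6 e _ h7 h8 h9
  have m2 := k _ _ h1 (self_mem_cls _ _)
  have m1 := k _ _ h3 m2
  exact h x2 m2 h1 x1 m1 h2 h3 x0 (k _ _ h6 m1) h4 h5 h6 e (k _ _ h9 (self_mem_cls _ _)) h7 h8 h9

theorem s6_chain {t : Perm (Fin 6)} (t2 : t * t = 1) (t1 : t ≠ 1) : Chain Set.univ t := by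
  refine s6_ind (Chain.univ (hL6.decide rep6 (by decide +kernel))) (Chain.univ (hL6.decide rep6 (by decide +kernel)))
    (Chain.univ (hL6.decide rep6 (by decide +kernel))) (fun φ r h x2 _ h1 x1 _ h2 h3 x0 _ h4 h5 h6 e _ h7 h8 h9 => ?_)
    t2 t1
  obtain ⟨x2, rfl⟩ := φ.surjective x2
  obtain ⟨x1, rfl⟩ := φ.surjective x1
  obtain ⟨x0, rfl⟩ := φ.surjective x0
  obtain ⟨e, rfl⟩ := φ.surjective e
  simp only [← map_mul, EmbeddingLike.apply_eq_iff_eq] at *
  exact h x2 trivial h1 x1 trivial h2 h3 x0 trivial h4 h5 h6 e trivial h7 h8 h9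

/-- The elements of the normal four-group modulo `t`. -/
abbrev P4 {Q : Type*} [Group Q] (t c a : Q) : Prop :=
  a * t = t * a ∧ ¬ (a = 1 ∨ a = t) ∧ (a * a = 1 ∨ a * a = t) ∧ ((a * c) ^ 3 = 1 ∨ (a * c) ^ 3 = t)

/-- The statement on the centraliser of an involution, inside a set. -/
abbrev Four (K : Set (Perm (Fin 6))) (t : Perm (Fin 6)) : Prop :=
  ∀ c ∈ K, c * t = t * c → orderOf c = 3 → ∃ a ∈ K, P4 t c a ∧
    (Let (c * a * c⁻¹ * a⁻¹) fun w => w * c * w⁻¹ ≠ c ∧ w * c * w⁻¹ ≠ c⁻¹) ∧ ∀ b ∈ K, P4 t c b →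
      (b * a⁻¹ = 1 ∨ b * a⁻¹ = t) ∨ (b * (c * a * c⁻¹)⁻¹ = 1 ∨ b * (c * a * c⁻¹)⁻¹ = t) ∨
        (b * (c⁻¹ * a * c)⁻¹ = 1 ∨ b * (c⁻¹ * a * c)⁻¹ = t)

theorem Four.univ {r : Perm (Fin 6)} (h : Four (clos g6) r) : Four Set.univ r := by
  rwa [show (clos g6 : Set (Perm (Fin 6))) = Set.univ from Set.eq_univ_of_forall mem6] at h

theorem s6_four {t : Perm (Fin 6)} (t2 : t * t = 1) (t1 : t ≠ 1) : Four Set.univ t := by
  refine s6_ind (Four.univ (hL6.decide rep6 (by decide +kernel))) (Four.univ (hL6.decide rep6 (by decide +kernel)))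
    (Four.univ (hL6.decide rep6 (by decide +kernel))) (fun φ r h c _ h1 h2 => ?_) t2 t1
  obtain ⟨c, rfl⟩ := φ.surjective c
  rw [MulEquiv.orderOf_eq] at h2
  obtain ⟨a, -, h3, h4, h5⟩ := h c trivial (φ.injective (by rw [map_mul, map_mul, h1])) h2
  refine ⟨φ a, trivial, ?_, ?_, fun b _ hb => ?_⟩
  · simpa only [P4, ← map_mul, ← map_pow, EmbeddingLike.apply_eq_iff_eq, map_eq_one_iff φ φ.injective] using h3
  · simpa only [Let, ne_eq, ← map_mul, ← map_inv, EmbeddingLike.apply_eq_iff_eq] using h4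
  · obtain ⟨b, rfl⟩ := φ.surjective b
    simp only [P4, ← map_mul, ← map_inv, ← map_pow, EmbeddingLike.apply_eq_iff_eq, map_eq_one_iff φ φ.injective] at hb ⊢
    exact h5 b trivial hb

variable {G : Type u} [Group G]

/-- A chain of involutions in a group mapping onto `S₆`. -/
theorem chain_of_s6 {L : Subgroup G} {z : G} (z2 : z * z = 1) (f : L →* Perm (Fin 6))
    (hf : f.ker = (zpowers z).subgroupOf L) {x0 x1 x2 r e : L} (r2 : r * r = 1) (hr : (r : G) ≠ 1 ∧ (r : G) ≠ z)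
    (h1 : x2 * r * x2 = r * x2 * r) (h2 : x1 * r = r * x1) (h3 : x1 * x2 * x1 = x2 * x1 * x2) (h4 : x0 * r = r * x0)
    (h5 : x0 * x2 = x2 * x0) (h6 : x0 * x1 * x0 = x1 * x0 * x1) (h7 : e * x0 = x0 * e) (h8 : e * x1 = x1 * e)
    (h9 : e * r * e = r * e * r) (he : (e : G) * r⁻¹ ≠ 1 ∧ (e : G) * r⁻¹ ≠ z) :
    ((x2 : G) * e * x2⁻¹ = e ∨ (x2 : G) * e * x2⁻¹ = z * e) ∨
      ((x2 : G) * (r * e * r) * x2⁻¹ = r * e * r ∨ (x2 : G) * (r * e * r) * x2⁻¹ = z * (r * e * r)) := by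
  have hk : ∀ a : L, f a = 1 → (a : G) = 1 ∨ (a : G) = z := fun a ha =>
    (mem_zpowers_iff_of_sq z2).1 (mem_subgroupOf.1 (hf ▸ MonoidHom.mem_ker.2 ha))
  have hc : ∀ a b : L, f a * f b = f b * f a → (b : G) * a * b⁻¹ = a ∨ (b : G) * a * b⁻¹ = z * a := fun a b h =>
    (hk (b * a * b⁻¹ * a⁻¹) (by simp only [map_mul, map_inv, ← h]; group)).imp mul_inv_eq_one.1
      mul_inv_eq_iff_eq_mul.1
  have m : ∀ {a b : L}, a = b → f a = f b := congrArg f
  rcases s6_chain (t := f r) (by rw [← map_mul, r2, map_one]) (fun h => (hk r h).elim hr.1 hr.2)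
    (f x2) trivial (by simpa using m h1) (f x1) trivial (by simpa using m h2) (by simpa using m h3)
    (f x0) trivial (by simpa using m h4) (by simpa using m h5) (by simpa using m h6)
    (f e) trivial (by simpa using m h7) (by simpa using m h8) (by simpa using m h9) with h | h | h
  · exact ((hk (e * r⁻¹) (by rw [map_mul, map_inv, h, mul_inv_cancel])).elim he.1 he.2).elim
  · exact .inl (hc e x2 h)
  · exact .inr (hc (r * e * r) x2 (by simpa using h))

/-- The centraliser of `τ` does not map onto `S₆` in the presence of an involution `v` as below. -/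
theorem four_of_s6 [Finite G] {τ d c v : G} (f : centralizer ({τ} : Set G) →* Perm (Fin 6)) (hs : Function.Surjective f)
    (hf : f.ker = (zpowers τ).subgroupOf _) (τ2 : τ * τ = 1) (d2 : d * d = 1) (v2 : v * v = 1) (dτ : d * τ = τ * d)
    (cτ : c * τ = τ * c) (cd : c * d = d * c) (c3 : c ^ 3 = 1) (hd : d ≠ 1 ∧ d ≠ τ) (hc : c ≠ 1 ∧ c ≠ τ)
    (hnc : ∀ g, g * d * g⁻¹ ≠ τ * d) (vc : v * c = c * v) (vd : v * d = d * v) (vτ : v * τ * v⁻¹ = τ * d)
    (hC : ∀ w, w * d = d * w → w * v = v * w → w ∈ pm c) : False := by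
  have hk : ∀ a : centralizer ({τ} : Set G), f a = 1 ↔ (a : G) = 1 ∨ (a : G) = τ := fun a => by
    rw [← MonoidHom.mem_ker, hf, mem_subgroupOf, mem_zpowers_iff_of_sq τ2]
  let D : centralizer ({τ} : Set G) := ⟨d, mem_cen.2 dτ⟩
  let C : centralizer ({τ} : Set G) := ⟨c, mem_cen.2 cτ⟩
  let F : Subgroup G := zpowers τ ⊔ zpowers d
  have τF : τ ∈ F := mem_sup_left (mem_zpowers _)
  have dF : d ∈ F := mem_sup_right (mem_zpowers _)
  have DD : D * D = 1 := Subtype.ext d2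
  have hF : ∀ a : centralizer ({τ} : Set G), (f a = 1 ∨ f a = f D) ↔ (a : G) ∈ F := fun a => by
    constructor
    · rintro (h | h)
      · rcases (hk a).1 h with e | e <;> rw [e]
        exacts [one_mem _, τF]
      · refine (mul_mem_cancel_right dF).1 ?_
        rcases (hk (a * D)).1 (by rw [map_mul, h, ← map_mul, DD, map_one]) with e | e
        exacts [(show (a : G) * d = 1 from e) ▸ one_mem _, (show (a : G) * d = τ from e).symm ▸ τF]
    · intro h
      obtain ⟨x, hx, y, hy, e⟩ := (mem_sup_iff_of_le_normalizer (zpowers_le.2 (A8.pm_le_normalizer d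
        (mem_pm_of_comm dτ.symm)))).1 h
      have hx' : f ⟨x, zpowers_le.2 (mem_cen.2 rfl) hx⟩ = 1 := (hk _).2 ((mem_zpowers_iff_of_sq τ2).1 hx)
      rcases (mem_zpowers_iff_of_sq d2).1 hy with rfl | rfl
      · exact .inl (by rw [← hx']; exact congrArg f (Subtype.ext (by simpa using e)))
      · exact .inr (by rw [← one_mul (f D), ← hx', ← map_mul]; exact congrArg f (Subtype.ext e))
  have cF : ∀ g : G, g * τ = τ * g → g * d = d * g → ∀ z ∈ F, z * g = g * z := fun g h1 h2 z hz =>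
    mem_cen.1 ((sup_le (zpowers_le.2 (mem_cen.2 h1.symm)) (zpowers_le.2 (mem_cen.2 h2.symm)) :
      F ≤ centralizer {g}) hz)
  have vd' : v * d * v⁻¹ = d := mul_inv_eq_iff_eq_mul.2 vd
  have vc' : v * c * v⁻¹ = c := mul_inv_eq_iff_eq_mul.2 vc
  have vF : ∀ z ∈ F, v * z * v⁻¹ ∈ F := fun z hz => cj_le_iff.1 (by
    rw [cj_sup, cj_zpowers, cj_zpowers, vτ, vd']
    exact sup_le (zpowers_le.2 (mul_mem τF dF)) le_sup_right) z hz
  obtain ⟨a, -, h3, h4, h5⟩ := s6_four (t := f D) (by rw [← map_mul, DD, map_one])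
    (fun h => ((hk D).1 h).elim hd.1 hd.2) (f C) trivial
    (by rw [← map_mul, ← map_mul]; exact congrArg f (Subtype.ext cd))
    (orderOf_eq_prime (by rw [← map_pow, ← map_one f]; exact congrArg f (Subtype.ext c3))
      fun h => ((hk C).1 h).elim hc.1 hc.2)
  obtain ⟨⟨y, hy⟩, rfl⟩ := hs a
  have yτ := mem_cen.1 hy
  have yd : y * d = d * y := by
    rcases (hk (⟨y, hy⟩ * D * ⟨y, hy⟩⁻¹ * D⁻¹)).1 (by simp only [map_mul, map_inv, h3.1]; group) with e | e
    · exact mul_inv_eq_iff_eq_mul.1 (mul_inv_eq_one.1 e)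
    · exact absurd (mul_inv_eq_iff_eq_mul.1 e) (hnc y)
  have y'd : v * y * v⁻¹ * d = d * (v * y * v⁻¹) := vd' ▸ cjcomm yd
  have y'τ : v * y * v⁻¹ * τ = τ * (v * y * v⁻¹) :=
    cj_inv2 v2 vτ ▸ cjcomm (Commute.mul_right yτ yd)
  have hw : c * y * c⁻¹ * y⁻¹ ∈ pm c := by
    have k : c * y * c⁻¹ * y⁻¹ ∈ F → c * y * c⁻¹ * y⁻¹ ∈ pm c := fun h => mem_pm_of_comm (cF c cτ cd _ h)
    have e0 := cj_inv2 v2 (rfl : v * y * v⁻¹ = _)
    have vc'' : v * c⁻¹ * v⁻¹ = c⁻¹ := by rw [← conj_inv, vc']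
    rcases h5 (f ⟨v * y * v⁻¹, mem_cen.2 y'τ⟩) trivial ⟨by rw [← map_mul, ← map_mul]; exact congrArg f (Subtype.ext y'd),
      fun h => h3.2.1 ((hF _).2 (by have := vF _ ((hF _).1 h); rwa [e0] at this)),
      by
        have := h3.2.2.1
        rw [← map_mul, hF] at this ⊢
        simpa [mul_assoc] using vF _ this,
      by
        have := h3.2.2.2
        rw [← map_mul, ← map_pow, hF] at this ⊢
        have h := vF _ this
        rwa [show ((⟨y, hy⟩ * C) ^ 3 : centralizer ({τ} : Set G)).1 = (y * c) ^ 3 from rfl, ← conj_pow, cjm, vc'] at h⟩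
      with h | h | h <;> simp only [← map_mul, ← map_inv, hF] at h
    · refine hC _ (Commute.mul_left (Commute.mul_left (Commute.mul_left cd yd) (Commute.inv_left cd))
        (Commute.inv_left yd)) (mul_inv_eq_iff_eq_mul.1 ?_).symm
      have e1 : v * y * v⁻¹ = v * y * v⁻¹ * y⁻¹ * y := by group
      have e2 := cF c cτ cd _ h
      have e3 := cF _ (Commute.mul_left (Commute.mul_left (Commute.mul_left cτ yτ) (Commute.inv_left cτ))
        (Commute.inv_left yτ)) (Commute.mul_left (Commute.mul_left (Commute.mul_left cd yd) (Commute.inv_left cd))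
        (Commute.inv_left yd)) _ h
      change v * y * v⁻¹ * y⁻¹ * _ = _ * (v * y * v⁻¹ * y⁻¹) at e2 e3
      rw [cjm, cjm, cjm, vc', vc'', ← conj_inv, e1]
      generalize v * y * v⁻¹ * y⁻¹ = z at e2 e3
      rw [← mul_assoc c, ← e2, show z * c * y * c⁻¹ * (z * y)⁻¹ = z * (c * y * c⁻¹ * y⁻¹) * z⁻¹ by group, e3]
      group
    · have e1 : v * y * v⁻¹ = v * y * v⁻¹ * (c * y * c⁻¹)⁻¹ * (c * y * c⁻¹) := by group
      change v * y * v⁻¹ * (c * y * c⁻¹)⁻¹ ∈ F at h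
      generalize v * y * v⁻¹ * (c * y * c⁻¹)⁻¹ = z at h e1
      have e2 := e0
      rw [e1, cjm, cjm v (c * y), cjm v c, vc', vc'', e1] at e2
      have h' := mul_mem (vF _ h) h
      have e3 := cF c cτ cd _ h
      have e4 := cF c cτ cd _ h'
      refine k (by
        have : c * y * c⁻¹ * y⁻¹ = v * z * v⁻¹ * z := by
          have c3' : c * c = c⁻¹ := by rw [eq_inv_iff_mul_eq_one, ← pow_three', c3]
          rw [← mul_assoc c z, ← e3, show v * z * v⁻¹ * (z * c * (c * y * c⁻¹) * c⁻¹) =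
            v * z * v⁻¹ * z * (c * c) * y * (c * c)⁻¹ by group, c3'] at e2
          generalize v * z * v⁻¹ * z = u at e2 e4
          nth_rewrite 1 [← e2]
          rw [show c * (u * c⁻¹ * y * c⁻¹⁻¹) = c * u * c⁻¹ * y * c by group, ← e4]
          group
        exact this ▸ h')
    · have e1 : v * y * v⁻¹ = v * y * v⁻¹ * (c⁻¹ * y * c)⁻¹ * (c⁻¹ * y * c) := by group
      change v * y * v⁻¹ * (c⁻¹ * y * c)⁻¹ ∈ F at h
      generalize v * y * v⁻¹ * (c⁻¹ * y * c)⁻¹ = z at h e1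
      have e2 := e0
      rw [e1, cjm, cjm v (c⁻¹ * y), cjm v c⁻¹, vc', vc'', e1] at e2
      have h' := mul_mem (vF _ h) h
      have e3 : z * c⁻¹ = c⁻¹ * z := (Commute.inv_right (cF c cτ cd _ h)).eq
      refine k (by
        have : c * y * c⁻¹ * y⁻¹ = (v * z * v⁻¹ * z)⁻¹ := by
          have c3' : (c * c)⁻¹ = c := by rw [inv_eq_iff_mul_eq_one, ← pow_three', c3]
          rw [← mul_assoc c⁻¹ z, ← e3, show v * z * v⁻¹ * (z * c⁻¹ * (c⁻¹ * y * c) * c) =
            v * z * v⁻¹ * z * (c * c)⁻¹ * y * (c * c)⁻¹⁻¹ by simp only [mul_inv_rev, inv_inv, mul_assoc], c3'] at e2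
          generalize v * z * v⁻¹ * z = u at e2
          nth_rewrite 2 [← e2]
          group
        exact this ▸ inv_mem h')
  have m : ∀ {a b : centralizer ({τ} : Set G)}, (a : G) = b → f a = f b := fun h => congrArg f (Subtype.ext h)
  rcases mem_pm.1 hw with e | e
  · exact h4.1 (by simpa using m (a := C * ⟨y, hy⟩ * C⁻¹ * ⟨y, hy⟩⁻¹ * C * (C * ⟨y, hy⟩ * C⁻¹ * ⟨y, hy⟩⁻¹)⁻¹) (b := C) e)
  · exact h4.2 (by
      simpa using m (a := C * ⟨y, hy⟩ * C⁻¹ * ⟨y, hy⟩⁻¹ * C * (C * ⟨y, hy⟩ * C⁻¹ * ⟨y, hy⟩⁻¹)⁻¹) (b := C⁻¹) e)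

end Cfsg.Agent.T16.S8
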