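import Mathlib
import Cfsg.Agent.T16.A8Data

/-! Generated by tools/rec: the symmetric group of degree eight, listed subgroups and classes -/

set_option autoImplicit false
set_option maxRecDepth 100000
set_option linter.unusedVariables false
set_option exponentiation.threshold 100000

namespace Cfsg.Agent.T16.S8

open Cfsg.Agent.Spor Cfsg.Agent.Rec

universe u

noncomputable def cN : List ℕ := [(nat_lit 0x706050403000201), (nat_lit 0x706050403020001), (nat_lit 0x706050304020100), (nat_lit 0x706040503020100), (nat_lit 0x705060403020100), (nat_lit 0x607050403020100)]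

noncomputable def cE : List ℕ := [(nat_lit 0x706050403000201), (nat_lit 0x706050403020001), (nat_lit 0x706050304020100), (nat_lit 0x706040503020100), (nat_lit 0x705060403020100), (nat_lit 0x607050403020100), (nat_lit 0x507060403020100), (nat_lit 0x705060304020100), (nat_lit 0x307060504020100), (nat_lit 0x607040503020100), (nat_lit 0x504070603020100), (nat_lit 0x706050403010200), (nat_lit 0x507060403000201), (nat_lit 0x706030504020100), (nat_lit 0x607050304020100), (nat_lit 0x704030605020100)]

noncomputable def cA : List ℕ := [(nat_lit 0x706050403010200), (nat_lit 0x706050403020001), (nat_lit 0x706050400020103), (nat_lit 0x706050304020100), (nat_lit 0x706040503020100), (nat_lit 0x705060403020100), (nat_lit 0x607050403020100)]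

noncomputable def cF : List ℕ := [(nat_lit 0x706050403000201), (nat_lit 0x706050403020001), (nat_lit 0x706050304020100), (nat_lit 0x706040503020100), (nat_lit 0x705060403020100), (nat_lit 0x607050403020100), (nat_lit 0x507060403020100), (nat_lit 0x705060304020100), (nat_lit 0x307060504020100), (nat_lit 0x607040503020100), (nat_lit 0x504070603020100), (nat_lit 0x706050403010200), (nat_lit 0x507060403000201), (nat_lit 0x706030504020100), (nat_lit 0x607050304020100), (nat_lit 0x704030605020100), (nat_lit 0x706050400020103), (nat_lit 0x201000304070605), (nat_lit 0x201000403070605), (nat_lit 0x706020403050100), (nat_lit 0x206050403070100), (nat_lit 0x706050100020403), (nat_lit 0x406050702030100), (nat_lit 0x106050403000702), (nat_lit 0x607020100050403)]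

noncomputable def N1_t : ST :=
(.node (nat_lit 0x506030407000102) (.node (nat_lit 0x405030607000102) (.node (nat_lit 0x306050704000102) (.node (nat_lit 0x305040706010200) (.node (nat_lit 0x304060705020001) (.node (nat_lit 0x304050706020100) (.node (nat_lit 0x304050607020100) (.node (nat_lit 0x304050607010002) (.node (nat_lit 0x304050607000201) (.leaf (nat_lit 0x304050607000102) (nat_lit 3074))
 (.leaf (nat_lit 0x304050607000201) (nat_lit 2818))
) (.node (nat_lit 0x304050607010200) (.leaf (nat_lit 0x304050607010002) (nat_lit 3074))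
 (.node (nat_lit 0x304050607020001) (.leaf (nat_lit 0x304050607010200) (nat_lit 3074))
 (.leaf (nat_lit 0x304050607020001) (nat_lit 2818))
))) (.node (nat_lit 0x304050706010002) (.node (nat_lit 0x304050706000102) (.leaf (nat_lit 0x304050607020100) (nat_lit 2562))
 (.node (nat_lit 0x304050706000201) (.leaf (nat_lit 0x304050706000102) (nat_lit 2818))
 (.leaf (nat_lit 0x304050706000201) (nat_lit 2562))
)) (.node (nat_lit 0x304050706010200) (.leaf (nat_lit 0x304050706010002) (nat_lit 2818))
 (.node (nat_lit 0x304050706020001) (.leaf (nat_lit 0x304050706010200) (nat_lit 2818))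
 (.leaf (nat_lit 0x304050706020001) (nat_lit 2562))
)))) (.node (nat_lit 0x304060507020001) (.node (nat_lit 0x304060507000201) (.node (nat_lit 0x304060507000102) (.leaf (nat_lit 0x304050706020100) (nat_lit 2306))
 (.leaf (nat_lit 0x304060507000102) (nat_lit 2818))
) (.node (nat_lit 0x304060507010002) (.leaf (nat_lit 0x304060507000201) (nat_lit 2562))
 (.node (nat_lit 0x304060507010200) (.leaf (nat_lit 0x304060507010002) (nat_lit 2818))
 (.leaf (nat_lit 0x304060507010200) (nat_lit 2818))
))) (.node (nat_lit 0x304060705000201) (.node (nat_lit 0x304060507020100) (.leaf (nat_lit 0x304060507020001) (nat_lit 2562))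
 (.node (nat_lit 0x304060705000102) (.leaf (nat_lit 0x304060507020100) (nat_lit 2306))
 (.leaf (nat_lit 0x304060705000102) (nat_lit 2562))
)) (.node (nat_lit 0x304060705010002) (.leaf (nat_lit 0x304060705000201) (nat_lit 2306))
 (.node (nat_lit 0x304060705010200) (.leaf (nat_lit 0x304060705010002) (nat_lit 2562))
 (.leaf (nat_lit 0x304060705010200) (nat_lit 2562))
))))) (.node (nat_lit 0x304070605010200) (.node (nat_lit 0x304070506010200) (.node (nat_lit 0x304070506000102) (.node (nat_lit 0x304060705020100) (.leaf (nat_lit 0x304060705020001) (nat_lit 2306))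
 (.leaf (nat_lit 0x304060705020100) (nat_lit 2050))
) (.node (nat_lit 0x304070506000201) (.leaf (nat_lit 0x304070506000102) (nat_lit 2562))
 (.node (nat_lit 0x304070506010002) (.leaf (nat_lit 0x304070506000201) (nat_lit 2306))
 (.leaf (nat_lit 0x304070506010002) (nat_lit 2562))
))) (.node (nat_lit 0x304070605000102) (.node (nat_lit 0x304070506020001) (.leaf (nat_lit 0x304070506010200) (nat_lit 2562))
 (.node (nat_lit 0x304070506020100) (.leaf (nat_lit 0x304070506020001) (nat_lit 2306))
 (.leaf (nat_lit 0x304070506020100) (nat_lit 2050))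
)) (.node (nat_lit 0x304070605000201) (.leaf (nat_lit 0x304070605000102) (nat_lit 2306))
 (.node (nat_lit 0x304070605010002) (.leaf (nat_lit 0x304070605000201) (nat_lit 2050))
 (.leaf (nat_lit 0x304070605010002) (nat_lit 2306))
)))) (.node (nat_lit 0x305040607010200) (.node (nat_lit 0x305040607000102) (.node (nat_lit 0x304070605020001) (.leaf (nat_lit 0x304070605010200) (nat_lit 2306))
 (.node (nat_lit 0x304070605020100) (.leaf (nat_lit 0x304070605020001) (nat_lit 2050))
 (.leaf (nat_lit 0x304070605020100) (nat_lit 1794))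
)) (.node (nat_lit 0x305040607000201) (.leaf (nat_lit 0x305040607000102) (nat_lit 2818))
 (.node (nat_lit 0x305040607010002) (.leaf (nat_lit 0x305040607000201) (nat_lit 2562))
 (.leaf (nat_lit 0x305040607010002) (nat_lit 2818))
))) (.node (nat_lit 0x305040706000102) (.node (nat_lit 0x305040607020001) (.leaf (nat_lit 0x305040607010200) (nat_lit 2818))
 (.node (nat_lit 0x305040607020100) (.leaf (nat_lit 0x305040607020001) (nat_lit 2562))
 (.leaf (nat_lit 0x305040607020100) (nat_lit 2306))
)) (.node (nat_lit 0x305040706000201) (.leaf (nat_lit 0x305040706000102) (nat_lit 2562))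
 (.node (nat_lit 0x305040706010002) (.leaf (nat_lit 0x305040706000201) (nat_lit 2306))
 (.leaf (nat_lit 0x305040706010002) (nat_lit 2562))
)))))) (.node (nat_lit 0x305070604000201) (.node (nat_lit 0x305060704010002) (.node (nat_lit 0x305060407010002) (.node (nat_lit 0x305040706020100) (.node (nat_lit 0x305040706020001) (.leaf (nat_lit 0x305040706010200) (nat_lit 2562))
 (.leaf (nat_lit 0x305040706020001) (nat_lit 2306))
) (.node (nat_lit 0x305060407000102) (.leaf (nat_lit 0x305040706020100) (nat_lit 2050))
 (.node (nat_lit 0x305060407000201) (.leaf (nat_lit 0x305060407000102) (nat_lit 2562))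
 (.leaf (nat_lit 0x305060407000201) (nat_lit 2306))
))) (.node (nat_lit 0x305060407020100) (.node (nat_lit 0x305060407010200) (.leaf (nat_lit 0x305060407010002) (nat_lit 2562))
 (.node (nat_lit 0x305060407020001) (.leaf (nat_lit 0x305060407010200) (nat_lit 2562))
 (.leaf (nat_lit 0x305060407020001) (nat_lit 2306))
)) (.node (nat_lit 0x305060704000102) (.leaf (nat_lit 0x305060407020100) (nat_lit 2050))
 (.node (nat_lit 0x305060704000201) (.leaf (nat_lit 0x305060704000102) (nat_lit 2306))
 (.leaf (nat_lit 0x305060704000201) (nat_lit 2050))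
)))) (.node (nat_lit 0x305070406000201) (.node (nat_lit 0x305060704020001) (.node (nat_lit 0x305060704010200) (.leaf (nat_lit 0x305060704010002) (nat_lit 2306))
 (.leaf (nat_lit 0x305060704010200) (nat_lit 2306))
) (.node (nat_lit 0x305060704020100) (.leaf (nat_lit 0x305060704020001) (nat_lit 2050))
 (.node (nat_lit 0x305070406000102) (.leaf (nat_lit 0x305060704020100) (nat_lit 1794))
 (.leaf (nat_lit 0x305070406000102) (nat_lit 2306))
))) (.node (nat_lit 0x305070406020001) (.node (nat_lit 0x305070406010002) (.leaf (nat_lit 0x305070406000201) (nat_lit 2050))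
 (.node (nat_lit 0x305070406010200) (.leaf (nat_lit 0x305070406010002) (nat_lit 2306))
 (.leaf (nat_lit 0x305070406010200) (nat_lit 2306))
)) (.node (nat_lit 0x305070406020100) (.leaf (nat_lit 0x305070406020001) (nat_lit 2050))
 (.node (nat_lit 0x305070604000102) (.leaf (nat_lit 0x305070406020100) (nat_lit 1794))
 (.leaf (nat_lit 0x305070604000102) (nat_lit 2050))
))))) (.node (nat_lit 0x306040705000102) (.node (nat_lit 0x306040507000102) (.node (nat_lit 0x305070604010200) (.node (nat_lit 0x305070604010002) (.leaf (nat_lit 0x305070604000201) (nat_lit 1794))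
 (.leaf (nat_lit 0x305070604010002) (nat_lit 2050))
) (.node (nat_lit 0x305070604020001) (.leaf (nat_lit 0x305070604010200) (nat_lit 2050))
 (.node (nat_lit 0x305070604020100) (.leaf (nat_lit 0x305070604020001) (nat_lit 1794))
 (.leaf (nat_lit 0x305070604020100) (nat_lit 1538))
))) (.node (nat_lit 0x306040507010200) (.node (nat_lit 0x306040507000201) (.leaf (nat_lit 0x306040507000102) (nat_lit 2562))
 (.node (nat_lit 0x306040507010002) (.leaf (nat_lit 0x306040507000201) (nat_lit 2306))
 (.leaf (nat_lit 0x306040507010002) (nat_lit 2562))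
)) (.node (nat_lit 0x306040507020001) (.leaf (nat_lit 0x306040507010200) (nat_lit 2562))
 (.node (nat_lit 0x306040507020100) (.leaf (nat_lit 0x306040507020001) (nat_lit 2306))
 (.leaf (nat_lit 0x306040507020100) (nat_lit 2050))
)))) (.node (nat_lit 0x306050407000102) (.node (nat_lit 0x306040705010200) (.node (nat_lit 0x306040705000201) (.leaf (nat_lit 0x306040705000102) (nat_lit 2306))
 (.node (nat_lit 0x306040705010002) (.leaf (nat_lit 0x306040705000201) (nat_lit 2050))
 (.leaf (nat_lit 0x306040705010002) (nat_lit 2306))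
)) (.node (nat_lit 0x306040705020001) (.leaf (nat_lit 0x306040705010200) (nat_lit 2306))
 (.node (nat_lit 0x306040705020100) (.leaf (nat_lit 0x306040705020001) (nat_lit 2050))
 (.leaf (nat_lit 0x306040705020100) (nat_lit 1794))
))) (.node (nat_lit 0x306050407010200) (.node (nat_lit 0x306050407000201) (.leaf (nat_lit 0x306050407000102) (nat_lit 2306))
 (.node (nat_lit 0x306050407010002) (.leaf (nat_lit 0x306050407000201) (nat_lit 2050))
 (.leaf (nat_lit 0x306050407010002) (nat_lit 2306))
)) (.node (nat_lit 0x306050407020001) (.leaf (nat_lit 0x306050407010200) (nat_lit 2306))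
 (.node (nat_lit 0x306050407020100) (.leaf (nat_lit 0x306050407020001) (nat_lit 2050))
 (.leaf (nat_lit 0x306050407020100) (nat_lit 1794))
))))))) (.node (nat_lit 0x307060405010200) (.node (nat_lit 0x307040506020001) (.node (nat_lit 0x306070405020100) (.node (nat_lit 0x306050704020100) (.node (nat_lit 0x306050704010002) (.node (nat_lit 0x306050704000201) (.leaf (nat_lit 0x306050704000102) (nat_lit 2050))
 (.leaf (nat_lit 0x306050704000201) (nat_lit 1794))
) (.node (nat_lit 0x306050704010200) (.leaf (nat_lit 0x306050704010002) (nat_lit 2050))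
 (.node (nat_lit 0x306050704020001) (.leaf (nat_lit 0x306050704010200) (nat_lit 2050))
 (.leaf (nat_lit 0x306050704020001) (nat_lit 1794))
))) (.node (nat_lit 0x306070405010002) (.node (nat_lit 0x306070405000102) (.leaf (nat_lit 0x306050704020100) (nat_lit 1538))
 (.node (nat_lit 0x306070405000201) (.leaf (nat_lit 0x306070405000102) (nat_lit 2050))
 (.leaf (nat_lit 0x306070405000201) (nat_lit 1794))
)) (.node (nat_lit 0x306070405010200) (.leaf (nat_lit 0x306070405010002) (nat_lit 2050))
 (.node (nat_lit 0x306070405020001) (.leaf (nat_lit 0x306070405010200) (nat_lit 2050))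
 (.leaf (nat_lit 0x306070405020001) (nat_lit 1794))
)))) (.node (nat_lit 0x306070504020001) (.node (nat_lit 0x306070504000201) (.node (nat_lit 0x306070504000102) (.leaf (nat_lit 0x306070405020100) (nat_lit 1538))
 (.leaf (nat_lit 0x306070504000102) (nat_lit 1794))
) (.node (nat_lit 0x306070504010002) (.leaf (nat_lit 0x306070504000201) (nat_lit 1538))
 (.node (nat_lit 0x306070504010200) (.leaf (nat_lit 0x306070504010002) (nat_lit 1794))
 (.leaf (nat_lit 0x306070504010200) (nat_lit 1794))
))) (.node (nat_lit 0x307040506000201) (.node (nat_lit 0x306070504020100) (.leaf (nat_lit 0x306070504020001) (nat_lit 1538))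
 (.node (nat_lit 0x307040506000102) (.leaf (nat_lit 0x306070504020100) (nat_lit 1282))
 (.leaf (nat_lit 0x307040506000102) (nat_lit 2306))
)) (.node (nat_lit 0x307040506010002) (.leaf (nat_lit 0x307040506000201) (nat_lit 2050))
 (.node (nat_lit 0x307040506010200) (.leaf (nat_lit 0x307040506010002) (nat_lit 2306))
 (.leaf (nat_lit 0x307040506010200) (nat_lit 2306))
))))) (.node (nat_lit 0x307050406010200) (.node (nat_lit 0x307040605010200) (.node (nat_lit 0x307040605000102) (.node (nat_lit 0x307040506020100) (.leaf (nat_lit 0x307040506020001) (nat_lit 2050))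
 (.leaf (nat_lit 0x307040506020100) (nat_lit 1794))
) (.node (nat_lit 0x307040605000201) (.leaf (nat_lit 0x307040605000102) (nat_lit 2050))
 (.node (nat_lit 0x307040605010002) (.leaf (nat_lit 0x307040605000201) (nat_lit 1794))
 (.leaf (nat_lit 0x307040605010002) (nat_lit 2050))
))) (.node (nat_lit 0x307050406000102) (.node (nat_lit 0x307040605020001) (.leaf (nat_lit 0x307040605010200) (nat_lit 2050))
 (.node (nat_lit 0x307040605020100) (.leaf (nat_lit 0x307040605020001) (nat_lit 1794))
 (.leaf (nat_lit 0x307040605020100) (nat_lit 1538))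
)) (.node (nat_lit 0x307050406000201) (.leaf (nat_lit 0x307050406000102) (nat_lit 2050))
 (.node (nat_lit 0x307050406010002) (.leaf (nat_lit 0x307050406000201) (nat_lit 1794))
 (.leaf (nat_lit 0x307050406010002) (nat_lit 2050))
)))) (.node (nat_lit 0x307050604010200) (.node (nat_lit 0x307050604000102) (.node (nat_lit 0x307050406020001) (.leaf (nat_lit 0x307050406010200) (nat_lit 2050))
 (.node (nat_lit 0x307050406020100) (.leaf (nat_lit 0x307050406020001) (nat_lit 1794))
 (.leaf (nat_lit 0x307050406020100) (nat_lit 1538))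
)) (.node (nat_lit 0x307050604000201) (.leaf (nat_lit 0x307050604000102) (nat_lit 1794))
 (.node (nat_lit 0x307050604010002) (.leaf (nat_lit 0x307050604000201) (nat_lit 1538))
 (.leaf (nat_lit 0x307050604010002) (nat_lit 1794))
))) (.node (nat_lit 0x307060405000102) (.node (nat_lit 0x307050604020001) (.leaf (nat_lit 0x307050604010200) (nat_lit 1794))
 (.node (nat_lit 0x307050604020100) (.leaf (nat_lit 0x307050604020001) (nat_lit 1538))
 (.leaf (nat_lit 0x307050604020100) (nat_lit 1282))
)) (.node (nat_lit 0x307060405000201) (.leaf (nat_lit 0x307060405000102) (nat_lit 1794))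
 (.node (nat_lit 0x307060405010002) (.leaf (nat_lit 0x307060405000201) (nat_lit 1538))
 (.leaf (nat_lit 0x307060405010002) (nat_lit 1794))
)))))) (.node (nat_lit 0x403060507000201) (.node (nat_lit 0x403050607010002) (.node (nat_lit 0x307060504010002) (.node (nat_lit 0x307060405020100) (.node (nat_lit 0x307060405020001) (.leaf (nat_lit 0x307060405010200) (nat_lit 1794))
 (.leaf (nat_lit 0x307060405020001) (nat_lit 1538))
) (.node (nat_lit 0x307060504000102) (.leaf (nat_lit 0x307060405020100) (nat_lit 1282))
 (.node (nat_lit 0x307060504000201) (.leaf (nat_lit 0x307060504000102) (nat_lit 1538))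
 (.leaf (nat_lit 0x307060504000201) (nat_lit 1282))
))) (.node (nat_lit 0x307060504020100) (.node (nat_lit 0x307060504010200) (.leaf (nat_lit 0x307060504010002) (nat_lit 1538))
 (.node (nat_lit 0x307060504020001) (.leaf (nat_lit 0x307060504010200) (nat_lit 1538))
 (.leaf (nat_lit 0x307060504020001) (nat_lit 1282))
)) (.node (nat_lit 0x403050607000102) (.leaf (nat_lit 0x307060504020100) (nat_lit 1026))
 (.node (nat_lit 0x403050607000201) (.leaf (nat_lit 0x403050607000102) (nat_lit 2819))
 (.leaf (nat_lit 0x403050607000201) (nat_lit 2563))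
)))) (.node (nat_lit 0x403050706000201) (.node (nat_lit 0x403050607020001) (.node (nat_lit 0x403050607010200) (.leaf (nat_lit 0x403050607010002) (nat_lit 2819))
 (.leaf (nat_lit 0x403050607010200) (nat_lit 2819))
) (.node (nat_lit 0x403050607020100) (.leaf (nat_lit 0x403050607020001) (nat_lit 2563))
 (.node (nat_lit 0x403050706000102) (.leaf (nat_lit 0x403050607020100) (nat_lit 2307))
 (.leaf (nat_lit 0x403050706000102) (nat_lit 2563))
))) (.node (nat_lit 0x403050706020001) (.node (nat_lit 0x403050706010002) (.leaf (nat_lit 0x403050706000201) (nat_lit 2307))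
 (.node (nat_lit 0x403050706010200) (.leaf (nat_lit 0x403050706010002) (nat_lit 2563))
 (.leaf (nat_lit 0x403050706010200) (nat_lit 2563))
)) (.node (nat_lit 0x403050706020100) (.leaf (nat_lit 0x403050706020001) (nat_lit 2307))
 (.node (nat_lit 0x403060507000102) (.leaf (nat_lit 0x403050706020100) (nat_lit 2051))
 (.leaf (nat_lit 0x403060507000102) (nat_lit 2563))
))))) (.node (nat_lit 0x403070506000102) (.node (nat_lit 0x403060705000102) (.node (nat_lit 0x403060507010200) (.node (nat_lit 0x403060507010002) (.leaf (nat_lit 0x403060507000201) (nat_lit 2307))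
 (.leaf (nat_lit 0x403060507010002) (nat_lit 2563))
) (.node (nat_lit 0x403060507020001) (.leaf (nat_lit 0x403060507010200) (nat_lit 2563))
 (.node (nat_lit 0x403060507020100) (.leaf (nat_lit 0x403060507020001) (nat_lit 2307))
 (.leaf (nat_lit 0x403060507020100) (nat_lit 2051))
))) (.node (nat_lit 0x403060705010200) (.node (nat_lit 0x403060705000201) (.leaf (nat_lit 0x403060705000102) (nat_lit 2307))
 (.node (nat_lit 0x403060705010002) (.leaf (nat_lit 0x403060705000201) (nat_lit 2051))
 (.leaf (nat_lit 0x403060705010002) (nat_lit 2307))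
)) (.node (nat_lit 0x403060705020001) (.leaf (nat_lit 0x403060705010200) (nat_lit 2307))
 (.node (nat_lit 0x403060705020100) (.leaf (nat_lit 0x403060705020001) (nat_lit 2051))
 (.leaf (nat_lit 0x403060705020100) (nat_lit 1795))
)))) (.node (nat_lit 0x403070605000102) (.node (nat_lit 0x403070506010200) (.node (nat_lit 0x403070506000201) (.leaf (nat_lit 0x403070506000102) (nat_lit 2307))
 (.node (nat_lit 0x403070506010002) (.leaf (nat_lit 0x403070506000201) (nat_lit 2051))
 (.leaf (nat_lit 0x403070506010002) (nat_lit 2307))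
)) (.node (nat_lit 0x403070506020001) (.leaf (nat_lit 0x403070506010200) (nat_lit 2307))
 (.node (nat_lit 0x403070506020100) (.leaf (nat_lit 0x403070506020001) (nat_lit 2051))
 (.leaf (nat_lit 0x403070506020100) (nat_lit 1795))
))) (.node (nat_lit 0x403070605010200) (.node (nat_lit 0x403070605000201) (.leaf (nat_lit 0x403070605000102) (nat_lit 2051))
 (.node (nat_lit 0x403070605010002) (.leaf (nat_lit 0x403070605000201) (nat_lit 1795))
 (.leaf (nat_lit 0x403070605010002) (nat_lit 2051))
)) (.node (nat_lit 0x403070605020001) (.leaf (nat_lit 0x403070605010200) (nat_lit 2051))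
 (.node (nat_lit 0x403070605020100) (.leaf (nat_lit 0x403070605020001) (nat_lit 1795))
 (.leaf (nat_lit 0x403070605020100) (nat_lit 1539))
)))))))) (.node (nat_lit 0x407050603000102) (.node (nat_lit 0x406030705010200) (.node (nat_lit 0x405060703020001) (.node (nat_lit 0x405030706020100) (.node (nat_lit 0x405030607020100) (.node (nat_lit 0x405030607010002) (.node (nat_lit 0x405030607000201) (.leaf (nat_lit 0x405030607000102) (nat_lit 2563))
 (.leaf (nat_lit 0x405030607000201) (nat_lit 2307))
) (.node (nat_lit 0x405030607010200) (.leaf (nat_lit 0x405030607010002) (nat_lit 2563))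
 (.node (nat_lit 0x405030607020001) (.leaf (nat_lit 0x405030607010200) (nat_lit 2563))
 (.leaf (nat_lit 0x405030607020001) (nat_lit 2307))
))) (.node (nat_lit 0x405030706010002) (.node (nat_lit 0x405030706000102) (.leaf (nat_lit 0x405030607020100) (nat_lit 2051))
 (.node (nat_lit 0x405030706000201) (.leaf (nat_lit 0x405030706000102) (nat_lit 2307))
 (.leaf (nat_lit 0x405030706000201) (nat_lit 2051))
)) (.node (nat_lit 0x405030706010200) (.leaf (nat_lit 0x405030706010002) (nat_lit 2307))
 (.node (nat_lit 0x405030706020001) (.leaf (nat_lit 0x405030706010200) (nat_lit 2307))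
 (.leaf (nat_lit 0x405030706020001) (nat_lit 2051))
)))) (.node (nat_lit 0x405060307020001) (.node (nat_lit 0x405060307000201) (.node (nat_lit 0x405060307000102) (.leaf (nat_lit 0x405030706020100) (nat_lit 1795))
 (.leaf (nat_lit 0x405060307000102) (nat_lit 2307))
) (.node (nat_lit 0x405060307010002) (.leaf (nat_lit 0x405060307000201) (nat_lit 2051))
 (.node (nat_lit 0x405060307010200) (.leaf (nat_lit 0x405060307010002) (nat_lit 2307))
 (.leaf (nat_lit 0x405060307010200) (nat_lit 2307))
))) (.node (nat_lit 0x405060703000201) (.node (nat_lit 0x405060307020100) (.leaf (nat_lit 0x405060307020001) (nat_lit 2051))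
 (.node (nat_lit 0x405060703000102) (.leaf (nat_lit 0x405060307020100) (nat_lit 1795))
 (.leaf (nat_lit 0x405060703000102) (nat_lit 2051))
)) (.node (nat_lit 0x405060703010002) (.leaf (nat_lit 0x405060703000201) (nat_lit 1795))
 (.node (nat_lit 0x405060703010200) (.leaf (nat_lit 0x405060703010002) (nat_lit 2051))
 (.leaf (nat_lit 0x405060703010200) (nat_lit 2051))
))))) (.node (nat_lit 0x405070603010200) (.node (nat_lit 0x405070306010200) (.node (nat_lit 0x405070306000102) (.node (nat_lit 0x405060703020100) (.leaf (nat_lit 0x405060703020001) (nat_lit 1795))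
 (.leaf (nat_lit 0x405060703020100) (nat_lit 1539))
) (.node (nat_lit 0x405070306000201) (.leaf (nat_lit 0x405070306000102) (nat_lit 2051))
 (.node (nat_lit 0x405070306010002) (.leaf (nat_lit 0x405070306000201) (nat_lit 1795))
 (.leaf (nat_lit 0x405070306010002) (nat_lit 2051))
))) (.node (nat_lit 0x405070603000102) (.node (nat_lit 0x405070306020001) (.leaf (nat_lit 0x405070306010200) (nat_lit 2051))
 (.node (nat_lit 0x405070306020100) (.leaf (nat_lit 0x405070306020001) (nat_lit 1795))
 (.leaf (nat_lit 0x405070306020100) (nat_lit 1539))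
)) (.node (nat_lit 0x405070603000201) (.leaf (nat_lit 0x405070603000102) (nat_lit 1795))
 (.node (nat_lit 0x405070603010002) (.leaf (nat_lit 0x405070603000201) (nat_lit 1539))
 (.leaf (nat_lit 0x405070603010002) (nat_lit 1795))
)))) (.node (nat_lit 0x406030507010200) (.node (nat_lit 0x406030507000102) (.node (nat_lit 0x405070603020001) (.leaf (nat_lit 0x405070603010200) (nat_lit 1795))
 (.node (nat_lit 0x405070603020100) (.leaf (nat_lit 0x405070603020001) (nat_lit 1539))
 (.leaf (nat_lit 0x405070603020100) (nat_lit 1283))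
)) (.node (nat_lit 0x406030507000201) (.leaf (nat_lit 0x406030507000102) (nat_lit 2307))
 (.node (nat_lit 0x406030507010002) (.leaf (nat_lit 0x406030507000201) (nat_lit 2051))
 (.leaf (nat_lit 0x406030507010002) (nat_lit 2307))
))) (.node (nat_lit 0x406030705000102) (.node (nat_lit 0x406030507020001) (.leaf (nat_lit 0x406030507010200) (nat_lit 2307))
 (.node (nat_lit 0x406030507020100) (.leaf (nat_lit 0x406030507020001) (nat_lit 2051))
 (.leaf (nat_lit 0x406030507020100) (nat_lit 1795))
)) (.node (nat_lit 0x406030705000201) (.leaf (nat_lit 0x406030705000102) (nat_lit 2051))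
 (.node (nat_lit 0x406030705010002) (.leaf (nat_lit 0x406030705000201) (nat_lit 1795))
 (.leaf (nat_lit 0x406030705010002) (nat_lit 2051))
)))))) (.node (nat_lit 0x406070503000201) (.node (nat_lit 0x406050703010002) (.node (nat_lit 0x406050307010002) (.node (nat_lit 0x406030705020100) (.node (nat_lit 0x406030705020001) (.leaf (nat_lit 0x406030705010200) (nat_lit 2051))
 (.leaf (nat_lit 0x406030705020001) (nat_lit 1795))
) (.node (nat_lit 0x406050307000102) (.leaf (nat_lit 0x406030705020100) (nat_lit 1539))
 (.node (nat_lit 0x406050307000201) (.leaf (nat_lit 0x406050307000102) (nat_lit 2051))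
 (.leaf (nat_lit 0x406050307000201) (nat_lit 1795))
))) (.node (nat_lit 0x406050307020100) (.node (nat_lit 0x406050307010200) (.leaf (nat_lit 0x406050307010002) (nat_lit 2051))
 (.node (nat_lit 0x406050307020001) (.leaf (nat_lit 0x406050307010200) (nat_lit 2051))
 (.leaf (nat_lit 0x406050307020001) (nat_lit 1795))
)) (.node (nat_lit 0x406050703000102) (.leaf (nat_lit 0x406050307020100) (nat_lit 1539))
 (.node (nat_lit 0x406050703000201) (.leaf (nat_lit 0x406050703000102) (nat_lit 1795))
 (.leaf (nat_lit 0x406050703000201) (nat_lit 1539))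
)))) (.node (nat_lit 0x406070305000201) (.node (nat_lit 0x406050703020001) (.node (nat_lit 0x406050703010200) (.leaf (nat_lit 0x406050703010002) (nat_lit 1795))
 (.leaf (nat_lit 0x406050703010200) (nat_lit 1795))
) (.node (nat_lit 0x406050703020100) (.leaf (nat_lit 0x406050703020001) (nat_lit 1539))
 (.node (nat_lit 0x406070305000102) (.leaf (nat_lit 0x406050703020100) (nat_lit 1283))
 (.leaf (nat_lit 0x406070305000102) (nat_lit 1795))
))) (.node (nat_lit 0x406070305020001) (.node (nat_lit 0x406070305010002) (.leaf (nat_lit 0x406070305000201) (nat_lit 1539))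
 (.node (nat_lit 0x406070305010200) (.leaf (nat_lit 0x406070305010002) (nat_lit 1795))
 (.leaf (nat_lit 0x406070305010200) (nat_lit 1795))
)) (.node (nat_lit 0x406070305020100) (.leaf (nat_lit 0x406070305020001) (nat_lit 1539))
 (.node (nat_lit 0x406070503000102) (.leaf (nat_lit 0x406070305020100) (nat_lit 1283))
 (.leaf (nat_lit 0x406070503000102) (nat_lit 1539))
))))) (.node (nat_lit 0x407030605000102) (.node (nat_lit 0x407030506000102) (.node (nat_lit 0x406070503010200) (.node (nat_lit 0x406070503010002) (.leaf (nat_lit 0x406070503000201) (nat_lit 1283))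
 (.leaf (nat_lit 0x406070503010002) (nat_lit 1539))
) (.node (nat_lit 0x406070503020001) (.leaf (nat_lit 0x406070503010200) (nat_lit 1539))
 (.node (nat_lit 0x406070503020100) (.leaf (nat_lit 0x406070503020001) (nat_lit 1283))
 (.leaf (nat_lit 0x406070503020100) (nat_lit 1027))
))) (.node (nat_lit 0x407030506010200) (.node (nat_lit 0x407030506000201) (.leaf (nat_lit 0x407030506000102) (nat_lit 2051))
 (.node (nat_lit 0x407030506010002) (.leaf (nat_lit 0x407030506000201) (nat_lit 1795))
 (.leaf (nat_lit 0x407030506010002) (nat_lit 2051))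
)) (.node (nat_lit 0x407030506020001) (.leaf (nat_lit 0x407030506010200) (nat_lit 2051))
 (.node (nat_lit 0x407030506020100) (.leaf (nat_lit 0x407030506020001) (nat_lit 1795))
 (.leaf (nat_lit 0x407030506020100) (nat_lit 1539))
)))) (.node (nat_lit 0x407050306000102) (.node (nat_lit 0x407030605010200) (.node (nat_lit 0x407030605000201) (.leaf (nat_lit 0x407030605000102) (nat_lit 1795))
 (.node (nat_lit 0x407030605010002) (.leaf (nat_lit 0x407030605000201) (nat_lit 1539))
 (.leaf (nat_lit 0x407030605010002) (nat_lit 1795))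
)) (.node (nat_lit 0x407030605020001) (.leaf (nat_lit 0x407030605010200) (nat_lit 1795))
 (.node (nat_lit 0x407030605020100) (.leaf (nat_lit 0x407030605020001) (nat_lit 1539))
 (.leaf (nat_lit 0x407030605020100) (nat_lit 1283))
))) (.node (nat_lit 0x407050306010200) (.node (nat_lit 0x407050306000201) (.leaf (nat_lit 0x407050306000102) (nat_lit 1795))
 (.node (nat_lit 0x407050306010002) (.leaf (nat_lit 0x407050306000201) (nat_lit 1539))
 (.leaf (nat_lit 0x407050306010002) (nat_lit 1795))
)) (.node (nat_lit 0x407050306020001) (.leaf (nat_lit 0x407050306010200) (nat_lit 1795))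
 (.node (nat_lit 0x407050306020100) (.leaf (nat_lit 0x407050306020001) (nat_lit 1539))
 (.leaf (nat_lit 0x407050306020100) (nat_lit 1283))
))))))) (.node (nat_lit 0x503070406010200) (.node (nat_lit 0x503040607020001) (.node (nat_lit 0x407060305020100) (.node (nat_lit 0x407050603020100) (.node (nat_lit 0x407050603010002) (.node (nat_lit 0x407050603000201) (.leaf (nat_lit 0x407050603000102) (nat_lit 1539))
 (.leaf (nat_lit 0x407050603000201) (nat_lit 1283))
) (.node (nat_lit 0x407050603010200) (.leaf (nat_lit 0x407050603010002) (nat_lit 1539))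
 (.node (nat_lit 0x407050603020001) (.leaf (nat_lit 0x407050603010200) (nat_lit 1539))
 (.leaf (nat_lit 0x407050603020001) (nat_lit 1283))
))) (.node (nat_lit 0x407060305010002) (.node (nat_lit 0x407060305000102) (.leaf (nat_lit 0x407050603020100) (nat_lit 1027))
 (.node (nat_lit 0x407060305000201) (.leaf (nat_lit 0x407060305000102) (nat_lit 1539))
 (.leaf (nat_lit 0x407060305000201) (nat_lit 1283))
)) (.node (nat_lit 0x407060305010200) (.leaf (nat_lit 0x407060305010002) (nat_lit 1539))
 (.node (nat_lit 0x407060305020001) (.leaf (nat_lit 0x407060305010200) (nat_lit 1539))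
 (.leaf (nat_lit 0x407060305020001) (nat_lit 1283))
)))) (.node (nat_lit 0x407060503020001) (.node (nat_lit 0x407060503000201) (.node (nat_lit 0x407060503000102) (.leaf (nat_lit 0x407060305020100) (nat_lit 1027))
 (.leaf (nat_lit 0x407060503000102) (nat_lit 1283))
) (.node (nat_lit 0x407060503010002) (.leaf (nat_lit 0x407060503000201) (nat_lit 1027))
 (.node (nat_lit 0x407060503010200) (.leaf (nat_lit 0x407060503010002) (nat_lit 1283))
 (.leaf (nat_lit 0x407060503010200) (nat_lit 1283))
))) (.node (nat_lit 0x503040607000201) (.node (nat_lit 0x407060503020100) (.leaf (nat_lit 0x407060503020001) (nat_lit 1027))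
 (.node (nat_lit 0x503040607000102) (.leaf (nat_lit 0x407060503020100) (nat_lit 771))
 (.leaf (nat_lit 0x503040607000102) (nat_lit 2564))
)) (.node (nat_lit 0x503040607010002) (.leaf (nat_lit 0x503040607000201) (nat_lit 2308))
 (.node (nat_lit 0x503040607010200) (.leaf (nat_lit 0x503040607010002) (nat_lit 2564))
 (.leaf (nat_lit 0x503040607010200) (nat_lit 2564))
))))) (.node (nat_lit 0x503060407010200) (.node (nat_lit 0x503040706010200) (.node (nat_lit 0x503040706000102) (.node (nat_lit 0x503040607020100) (.leaf (nat_lit 0x503040607020001) (nat_lit 2308))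
 (.leaf (nat_lit 0x503040607020100) (nat_lit 2052))
) (.node (nat_lit 0x503040706000201) (.leaf (nat_lit 0x503040706000102) (nat_lit 2308))
 (.node (nat_lit 0x503040706010002) (.leaf (nat_lit 0x503040706000201) (nat_lit 2052))
 (.leaf (nat_lit 0x503040706010002) (nat_lit 2308))
))) (.node (nat_lit 0x503060407000102) (.node (nat_lit 0x503040706020001) (.leaf (nat_lit 0x503040706010200) (nat_lit 2308))
 (.node (nat_lit 0x503040706020100) (.leaf (nat_lit 0x503040706020001) (nat_lit 2052))
 (.leaf (nat_lit 0x503040706020100) (nat_lit 1796))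
)) (.node (nat_lit 0x503060407000201) (.leaf (nat_lit 0x503060407000102) (nat_lit 2308))
 (.node (nat_lit 0x503060407010002) (.leaf (nat_lit 0x503060407000201) (nat_lit 2052))
 (.leaf (nat_lit 0x503060407010002) (nat_lit 2308))
)))) (.node (nat_lit 0x503060704010200) (.node (nat_lit 0x503060704000102) (.node (nat_lit 0x503060407020001) (.leaf (nat_lit 0x503060407010200) (nat_lit 2308))
 (.node (nat_lit 0x503060407020100) (.leaf (nat_lit 0x503060407020001) (nat_lit 2052))
 (.leaf (nat_lit 0x503060407020100) (nat_lit 1796))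
)) (.node (nat_lit 0x503060704000201) (.leaf (nat_lit 0x503060704000102) (nat_lit 2052))
 (.node (nat_lit 0x503060704010002) (.leaf (nat_lit 0x503060704000201) (nat_lit 1796))
 (.leaf (nat_lit 0x503060704010002) (nat_lit 2052))
))) (.node (nat_lit 0x503070406000102) (.node (nat_lit 0x503060704020001) (.leaf (nat_lit 0x503060704010200) (nat_lit 2052))
 (.node (nat_lit 0x503060704020100) (.leaf (nat_lit 0x503060704020001) (nat_lit 1796))
 (.leaf (nat_lit 0x503060704020100) (nat_lit 1540))
)) (.node (nat_lit 0x503070406000201) (.leaf (nat_lit 0x503070406000102) (nat_lit 2052))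
 (.node (nat_lit 0x503070406010002) (.leaf (nat_lit 0x503070406000201) (nat_lit 1796))
 (.leaf (nat_lit 0x503070406010002) (nat_lit 2052))
)))))) (.node (nat_lit 0x504060307000201) (.node (nat_lit 0x504030607010002) (.node (nat_lit 0x503070604010002) (.node (nat_lit 0x503070406020100) (.node (nat_lit 0x503070406020001) (.leaf (nat_lit 0x503070406010200) (nat_lit 2052))
 (.leaf (nat_lit 0x503070406020001) (nat_lit 1796))
) (.node (nat_lit 0x503070604000102) (.leaf (nat_lit 0x503070406020100) (nat_lit 1540))
 (.node (nat_lit 0x503070604000201) (.leaf (nat_lit 0x503070604000102) (nat_lit 1796))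
 (.leaf (nat_lit 0x503070604000201) (nat_lit 1540))
))) (.node (nat_lit 0x503070604020100) (.node (nat_lit 0x503070604010200) (.leaf (nat_lit 0x503070604010002) (nat_lit 1796))
 (.node (nat_lit 0x503070604020001) (.leaf (nat_lit 0x503070604010200) (nat_lit 1796))
 (.leaf (nat_lit 0x503070604020001) (nat_lit 1540))
)) (.node (nat_lit 0x504030607000102) (.leaf (nat_lit 0x503070604020100) (nat_lit 1284))
 (.node (nat_lit 0x504030607000201) (.leaf (nat_lit 0x504030607000102) (nat_lit 2308))
 (.leaf (nat_lit 0x504030607000201) (nat_lit 2052))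
)))) (.node (nat_lit 0x504030706000201) (.node (nat_lit 0x504030607020001) (.node (nat_lit 0x504030607010200) (.leaf (nat_lit 0x504030607010002) (nat_lit 2308))
 (.leaf (nat_lit 0x504030607010200) (nat_lit 2308))
) (.node (nat_lit 0x504030607020100) (.leaf (nat_lit 0x504030607020001) (nat_lit 2052))
 (.node (nat_lit 0x504030706000102) (.leaf (nat_lit 0x504030607020100) (nat_lit 1796))
 (.leaf (nat_lit 0x504030706000102) (nat_lit 2052))
))) (.node (nat_lit 0x504030706020001) (.node (nat_lit 0x504030706010002) (.leaf (nat_lit 0x504030706000201) (nat_lit 1796))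
 (.node (nat_lit 0x504030706010200) (.leaf (nat_lit 0x504030706010002) (nat_lit 2052))
 (.leaf (nat_lit 0x504030706010200) (nat_lit 2052))
)) (.node (nat_lit 0x504030706020100) (.leaf (nat_lit 0x504030706020001) (nat_lit 1796))
 (.node (nat_lit 0x504060307000102) (.leaf (nat_lit 0x504030706020100) (nat_lit 1540))
 (.leaf (nat_lit 0x504060307000102) (nat_lit 2052))
))))) (.node (nat_lit 0x504070306000102) (.node (nat_lit 0x504060703000102) (.node (nat_lit 0x504060307010200) (.node (nat_lit 0x504060307010002) (.leaf (nat_lit 0x504060307000201) (nat_lit 1796))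
 (.leaf (nat_lit 0x504060307010002) (nat_lit 2052))
) (.node (nat_lit 0x504060307020001) (.leaf (nat_lit 0x504060307010200) (nat_lit 2052))
 (.node (nat_lit 0x504060307020100) (.leaf (nat_lit 0x504060307020001) (nat_lit 1796))
 (.leaf (nat_lit 0x504060307020100) (nat_lit 1540))
))) (.node (nat_lit 0x504060703010200) (.node (nat_lit 0x504060703000201) (.leaf (nat_lit 0x504060703000102) (nat_lit 1796))
 (.node (nat_lit 0x504060703010002) (.leaf (nat_lit 0x504060703000201) (nat_lit 1540))
 (.leaf (nat_lit 0x504060703010002) (nat_lit 1796))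
)) (.node (nat_lit 0x504060703020001) (.leaf (nat_lit 0x504060703010200) (nat_lit 1796))
 (.node (nat_lit 0x504060703020100) (.leaf (nat_lit 0x504060703020001) (nat_lit 1540))
 (.leaf (nat_lit 0x504060703020100) (nat_lit 1284))
)))) (.node (nat_lit 0x504070603000102) (.node (nat_lit 0x504070306010200) (.node (nat_lit 0x504070306000201) (.leaf (nat_lit 0x504070306000102) (nat_lit 1796))
 (.node (nat_lit 0x504070306010002) (.leaf (nat_lit 0x504070306000201) (nat_lit 1540))
 (.leaf (nat_lit 0x504070306010002) (nat_lit 1796))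
)) (.node (nat_lit 0x504070306020001) (.leaf (nat_lit 0x504070306010200) (nat_lit 1796))
 (.node (nat_lit 0x504070306020100) (.leaf (nat_lit 0x504070306020001) (nat_lit 1540))
 (.leaf (nat_lit 0x504070306020100) (nat_lit 1284))
))) (.node (nat_lit 0x504070603010200) (.node (nat_lit 0x504070603000201) (.leaf (nat_lit 0x504070603000102) (nat_lit 1540))
 (.node (nat_lit 0x504070603010002) (.leaf (nat_lit 0x504070603000201) (nat_lit 1284))
 (.leaf (nat_lit 0x504070603010002) (nat_lit 1540))
)) (.node (nat_lit 0x504070603020001) (.leaf (nat_lit 0x504070603010200) (nat_lit 1540))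
 (.node (nat_lit 0x504070603020100) (.leaf (nat_lit 0x504070603020001) (nat_lit 1284))
 (.leaf (nat_lit 0x504070603020100) (nat_lit 1028))
))))))))) (.node (nat_lit 0x607030405000102) (.node (nat_lit 0x603050704000102) (.node (nat_lit 0x507030604010200) (.node (nat_lit 0x506040703020001) (.node (nat_lit 0x506030704020100) (.node (nat_lit 0x506030407020100) (.node (nat_lit 0x506030407010002) (.node (nat_lit 0x506030407000201) (.leaf (nat_lit 0x506030407000102) (nat_lit 2052))
 (.leaf (nat_lit 0x506030407000201) (nat_lit 1796))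
) (.node (nat_lit 0x506030407010200) (.leaf (nat_lit 0x506030407010002) (nat_lit 2052))
 (.node (nat_lit 0x506030407020001) (.leaf (nat_lit 0x506030407010200) (nat_lit 2052))
 (.leaf (nat_lit 0x506030407020001) (nat_lit 1796))
))) (.node (nat_lit 0x506030704010002) (.node (nat_lit 0x506030704000102) (.leaf (nat_lit 0x506030407020100) (nat_lit 1540))
 (.node (nat_lit 0x506030704000201) (.leaf (nat_lit 0x506030704000102) (nat_lit 1796))
 (.leaf (nat_lit 0x506030704000201) (nat_lit 1540))
)) (.node (nat_lit 0x506030704010200) (.leaf (nat_lit 0x506030704010002) (nat_lit 1796))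
 (.node (nat_lit 0x506030704020001) (.leaf (nat_lit 0x506030704010200) (nat_lit 1796))
 (.leaf (nat_lit 0x506030704020001) (nat_lit 1540))
)))) (.node (nat_lit 0x506040307020001) (.node (nat_lit 0x506040307000201) (.node (nat_lit 0x506040307000102) (.leaf (nat_lit 0x506030704020100) (nat_lit 1284))
 (.leaf (nat_lit 0x506040307000102) (nat_lit 1796))
) (.node (nat_lit 0x506040307010002) (.leaf (nat_lit 0x506040307000201) (nat_lit 1540))
 (.node (nat_lit 0x506040307010200) (.leaf (nat_lit 0x506040307010002) (nat_lit 1796))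
 (.leaf (nat_lit 0x506040307010200) (nat_lit 1796))
))) (.node (nat_lit 0x506040703000201) (.node (nat_lit 0x506040307020100) (.leaf (nat_lit 0x506040307020001) (nat_lit 1540))
 (.node (nat_lit 0x506040703000102) (.leaf (nat_lit 0x506040307020100) (nat_lit 1284))
 (.leaf (nat_lit 0x506040703000102) (nat_lit 1540))
)) (.node (nat_lit 0x506040703010002) (.leaf (nat_lit 0x506040703000201) (nat_lit 1284))
 (.node (nat_lit 0x506040703010200) (.leaf (nat_lit 0x506040703010002) (nat_lit 1540))
 (.leaf (nat_lit 0x506040703010200) (nat_lit 1540))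
))))) (.node (nat_lit 0x506070403010200) (.node (nat_lit 0x506070304010200) (.node (nat_lit 0x506070304000102) (.node (nat_lit 0x506040703020100) (.leaf (nat_lit 0x506040703020001) (nat_lit 1284))
 (.leaf (nat_lit 0x506040703020100) (nat_lit 1028))
) (.node (nat_lit 0x506070304000201) (.leaf (nat_lit 0x506070304000102) (nat_lit 1540))
 (.node (nat_lit 0x506070304010002) (.leaf (nat_lit 0x506070304000201) (nat_lit 1284))
 (.leaf (nat_lit 0x506070304010002) (nat_lit 1540))
))) (.node (nat_lit 0x506070403000102) (.node (nat_lit 0x506070304020001) (.leaf (nat_lit 0x506070304010200) (nat_lit 1540))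
 (.node (nat_lit 0x506070304020100) (.leaf (nat_lit 0x506070304020001) (nat_lit 1284))
 (.leaf (nat_lit 0x506070304020100) (nat_lit 1028))
)) (.node (nat_lit 0x506070403000201) (.leaf (nat_lit 0x506070403000102) (nat_lit 1284))
 (.node (nat_lit 0x506070403010002) (.leaf (nat_lit 0x506070403000201) (nat_lit 1028))
 (.leaf (nat_lit 0x506070403010002) (nat_lit 1284))
)))) (.node (nat_lit 0x507030406010200) (.node (nat_lit 0x507030406000102) (.node (nat_lit 0x506070403020001) (.leaf (nat_lit 0x506070403010200) (nat_lit 1284))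
 (.node (nat_lit 0x506070403020100) (.leaf (nat_lit 0x506070403020001) (nat_lit 1028))
 (.leaf (nat_lit 0x506070403020100) (nat_lit 772))
)) (.node (nat_lit 0x507030406000201) (.leaf (nat_lit 0x507030406000102) (nat_lit 1796))
 (.node (nat_lit 0x507030406010002) (.leaf (nat_lit 0x507030406000201) (nat_lit 1540))
 (.leaf (nat_lit 0x507030406010002) (nat_lit 1796))
))) (.node (nat_lit 0x507030604000102) (.node (nat_lit 0x507030406020001) (.leaf (nat_lit 0x507030406010200) (nat_lit 1796))
 (.node (nat_lit 0x507030406020100) (.leaf (nat_lit 0x507030406020001) (nat_lit 1540))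
 (.leaf (nat_lit 0x507030406020100) (nat_lit 1284))
)) (.node (nat_lit 0x507030604000201) (.leaf (nat_lit 0x507030604000102) (nat_lit 1540))
 (.node (nat_lit 0x507030604010002) (.leaf (nat_lit 0x507030604000201) (nat_lit 1284))
 (.leaf (nat_lit 0x507030604010002) (nat_lit 1540))
)))))) (.node (nat_lit 0x507060403000201) (.node (nat_lit 0x507040603010002) (.node (nat_lit 0x507040306010002) (.node (nat_lit 0x507030604020100) (.node (nat_lit 0x507030604020001) (.leaf (nat_lit 0x507030604010200) (nat_lit 1540))
 (.leaf (nat_lit 0x507030604020001) (nat_lit 1284))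
) (.node (nat_lit 0x507040306000102) (.leaf (nat_lit 0x507030604020100) (nat_lit 1028))
 (.node (nat_lit 0x507040306000201) (.leaf (nat_lit 0x507040306000102) (nat_lit 1540))
 (.leaf (nat_lit 0x507040306000201) (nat_lit 1284))
))) (.node (nat_lit 0x507040306020100) (.node (nat_lit 0x507040306010200) (.leaf (nat_lit 0x507040306010002) (nat_lit 1540))
 (.node (nat_lit 0x507040306020001) (.leaf (nat_lit 0x507040306010200) (nat_lit 1540))
 (.leaf (nat_lit 0x507040306020001) (nat_lit 1284))
)) (.node (nat_lit 0x507040603000102) (.leaf (nat_lit 0x507040306020100) (nat_lit 1028))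
 (.node (nat_lit 0x507040603000201) (.leaf (nat_lit 0x507040603000102) (nat_lit 1284))
 (.leaf (nat_lit 0x507040603000201) (nat_lit 1028))
)))) (.node (nat_lit 0x507060304000201) (.node (nat_lit 0x507040603020001) (.node (nat_lit 0x507040603010200) (.leaf (nat_lit 0x507040603010002) (nat_lit 1284))
 (.leaf (nat_lit 0x507040603010200) (nat_lit 1284))
) (.node (nat_lit 0x507040603020100) (.leaf (nat_lit 0x507040603020001) (nat_lit 1028))
 (.node (nat_lit 0x507060304000102) (.leaf (nat_lit 0x507040603020100) (nat_lit 772))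
 (.leaf (nat_lit 0x507060304000102) (nat_lit 1284))
))) (.node (nat_lit 0x507060304020001) (.node (nat_lit 0x507060304010002) (.leaf (nat_lit 0x507060304000201) (nat_lit 1028))
 (.node (nat_lit 0x507060304010200) (.leaf (nat_lit 0x507060304010002) (nat_lit 1284))
 (.leaf (nat_lit 0x507060304010200) (nat_lit 1284))
)) (.node (nat_lit 0x507060304020100) (.leaf (nat_lit 0x507060304020001) (nat_lit 1028))
 (.node (nat_lit 0x507060403000102) (.leaf (nat_lit 0x507060304020100) (nat_lit 772))
 (.leaf (nat_lit 0x507060403000102) (nat_lit 1028))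
))))) (.node (nat_lit 0x603040705000102) (.node (nat_lit 0x603040507000102) (.node (nat_lit 0x507060403010200) (.node (nat_lit 0x507060403010002) (.leaf (nat_lit 0x507060403000201) (nat_lit 772))
 (.leaf (nat_lit 0x507060403010002) (nat_lit 1028))
) (.node (nat_lit 0x507060403020001) (.leaf (nat_lit 0x507060403010200) (nat_lit 1028))
 (.node (nat_lit 0x507060403020100) (.leaf (nat_lit 0x507060403020001) (nat_lit 772))
 (.leaf (nat_lit 0x507060403020100) (nat_lit 516))
))) (.node (nat_lit 0x603040507010200) (.node (nat_lit 0x603040507000201) (.leaf (nat_lit 0x603040507000102) (nat_lit 2309))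
 (.node (nat_lit 0x603040507010002) (.leaf (nat_lit 0x603040507000201) (nat_lit 2053))
 (.leaf (nat_lit 0x603040507010002) (nat_lit 2309))
)) (.node (nat_lit 0x603040507020001) (.leaf (nat_lit 0x603040507010200) (nat_lit 2309))
 (.node (nat_lit 0x603040507020100) (.leaf (nat_lit 0x603040507020001) (nat_lit 2053))
 (.leaf (nat_lit 0x603040507020100) (nat_lit 1797))
)))) (.node (nat_lit 0x603050407000102) (.node (nat_lit 0x603040705010200) (.node (nat_lit 0x603040705000201) (.leaf (nat_lit 0x603040705000102) (nat_lit 2053))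
 (.node (nat_lit 0x603040705010002) (.leaf (nat_lit 0x603040705000201) (nat_lit 1797))
 (.leaf (nat_lit 0x603040705010002) (nat_lit 2053))
)) (.node (nat_lit 0x603040705020001) (.leaf (nat_lit 0x603040705010200) (nat_lit 2053))
 (.node (nat_lit 0x603040705020100) (.leaf (nat_lit 0x603040705020001) (nat_lit 1797))
 (.leaf (nat_lit 0x603040705020100) (nat_lit 1541))
))) (.node (nat_lit 0x603050407010200) (.node (nat_lit 0x603050407000201) (.leaf (nat_lit 0x603050407000102) (nat_lit 2053))
 (.node (nat_lit 0x603050407010002) (.leaf (nat_lit 0x603050407000201) (nat_lit 1797))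
 (.leaf (nat_lit 0x603050407010002) (nat_lit 2053))
)) (.node (nat_lit 0x603050407020001) (.leaf (nat_lit 0x603050407010200) (nat_lit 2053))
 (.node (nat_lit 0x603050407020100) (.leaf (nat_lit 0x603050407020001) (nat_lit 1797))
 (.leaf (nat_lit 0x603050407020100) (nat_lit 1541))
))))))) (.node (nat_lit 0x604070305010200) (.node (nat_lit 0x604030507020001) (.node (nat_lit 0x603070405020100) (.node (nat_lit 0x603050704020100) (.node (nat_lit 0x603050704010002) (.node (nat_lit 0x603050704000201) (.leaf (nat_lit 0x603050704000102) (nat_lit 1797))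
 (.leaf (nat_lit 0x603050704000201) (nat_lit 1541))
) (.node (nat_lit 0x603050704010200) (.leaf (nat_lit 0x603050704010002) (nat_lit 1797))
 (.node (nat_lit 0x603050704020001) (.leaf (nat_lit 0x603050704010200) (nat_lit 1797))
 (.leaf (nat_lit 0x603050704020001) (nat_lit 1541))
))) (.node (nat_lit 0x603070405010002) (.node (nat_lit 0x603070405000102) (.leaf (nat_lit 0x603050704020100) (nat_lit 1285))
 (.node (nat_lit 0x603070405000201) (.leaf (nat_lit 0x603070405000102) (nat_lit 1797))
 (.leaf (nat_lit 0x603070405000201) (nat_lit 1541))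
)) (.node (nat_lit 0x603070405010200) (.leaf (nat_lit 0x603070405010002) (nat_lit 1797))
 (.node (nat_lit 0x603070405020001) (.leaf (nat_lit 0x603070405010200) (nat_lit 1797))
 (.leaf (nat_lit 0x603070405020001) (nat_lit 1541))
)))) (.node (nat_lit 0x603070504020001) (.node (nat_lit 0x603070504000201) (.node (nat_lit 0x603070504000102) (.leaf (nat_lit 0x603070405020100) (nat_lit 1285))
 (.leaf (nat_lit 0x603070504000102) (nat_lit 1541))
) (.node (nat_lit 0x603070504010002) (.leaf (nat_lit 0x603070504000201) (nat_lit 1285))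
 (.node (nat_lit 0x603070504010200) (.leaf (nat_lit 0x603070504010002) (nat_lit 1541))
 (.leaf (nat_lit 0x603070504010200) (nat_lit 1541))
))) (.node (nat_lit 0x604030507000201) (.node (nat_lit 0x603070504020100) (.leaf (nat_lit 0x603070504020001) (nat_lit 1285))
 (.node (nat_lit 0x604030507000102) (.leaf (nat_lit 0x603070504020100) (nat_lit 1029))
 (.leaf (nat_lit 0x604030507000102) (nat_lit 2053))
)) (.node (nat_lit 0x604030507010002) (.leaf (nat_lit 0x604030507000201) (nat_lit 1797))
 (.node (nat_lit 0x604030507010200) (.leaf (nat_lit 0x604030507010002) (nat_lit 2053))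
 (.leaf (nat_lit 0x604030507010200) (nat_lit 2053))
))))) (.node (nat_lit 0x604050307010200) (.node (nat_lit 0x604030705010200) (.node (nat_lit 0x604030705000102) (.node (nat_lit 0x604030507020100) (.leaf (nat_lit 0x604030507020001) (nat_lit 1797))
 (.leaf (nat_lit 0x604030507020100) (nat_lit 1541))
) (.node (nat_lit 0x604030705000201) (.leaf (nat_lit 0x604030705000102) (nat_lit 1797))
 (.node (nat_lit 0x604030705010002) (.leaf (nat_lit 0x604030705000201) (nat_lit 1541))
 (.leaf (nat_lit 0x604030705010002) (nat_lit 1797))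
))) (.node (nat_lit 0x604050307000102) (.node (nat_lit 0x604030705020001) (.leaf (nat_lit 0x604030705010200) (nat_lit 1797))
 (.node (nat_lit 0x604030705020100) (.leaf (nat_lit 0x604030705020001) (nat_lit 1541))
 (.leaf (nat_lit 0x604030705020100) (nat_lit 1285))
)) (.node (nat_lit 0x604050307000201) (.leaf (nat_lit 0x604050307000102) (nat_lit 1797))
 (.node (nat_lit 0x604050307010002) (.leaf (nat_lit 0x604050307000201) (nat_lit 1541))
 (.leaf (nat_lit 0x604050307010002) (nat_lit 1797))
)))) (.node (nat_lit 0x604050703010200) (.node (nat_lit 0x604050703000102) (.node (nat_lit 0x604050307020001) (.leaf (nat_lit 0x604050307010200) (nat_lit 1797))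
 (.node (nat_lit 0x604050307020100) (.leaf (nat_lit 0x604050307020001) (nat_lit 1541))
 (.leaf (nat_lit 0x604050307020100) (nat_lit 1285))
)) (.node (nat_lit 0x604050703000201) (.leaf (nat_lit 0x604050703000102) (nat_lit 1541))
 (.node (nat_lit 0x604050703010002) (.leaf (nat_lit 0x604050703000201) (nat_lit 1285))
 (.leaf (nat_lit 0x604050703010002) (nat_lit 1541))
))) (.node (nat_lit 0x604070305000102) (.node (nat_lit 0x604050703020001) (.leaf (nat_lit 0x604050703010200) (nat_lit 1541))
 (.node (nat_lit 0x604050703020100) (.leaf (nat_lit 0x604050703020001) (nat_lit 1285))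
 (.leaf (nat_lit 0x604050703020100) (nat_lit 1029))
)) (.node (nat_lit 0x604070305000201) (.leaf (nat_lit 0x604070305000102) (nat_lit 1541))
 (.node (nat_lit 0x604070305010002) (.leaf (nat_lit 0x604070305000201) (nat_lit 1285))
 (.leaf (nat_lit 0x604070305010002) (nat_lit 1541))
)))))) (.node (nat_lit 0x605040307000201) (.node (nat_lit 0x605030407010002) (.node (nat_lit 0x604070503010002) (.node (nat_lit 0x604070305020100) (.node (nat_lit 0x604070305020001) (.leaf (nat_lit 0x604070305010200) (nat_lit 1541))
 (.leaf (nat_lit 0x604070305020001) (nat_lit 1285))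
) (.node (nat_lit 0x604070503000102) (.leaf (nat_lit 0x604070305020100) (nat_lit 1029))
 (.node (nat_lit 0x604070503000201) (.leaf (nat_lit 0x604070503000102) (nat_lit 1285))
 (.leaf (nat_lit 0x604070503000201) (nat_lit 1029))
))) (.node (nat_lit 0x604070503020100) (.node (nat_lit 0x604070503010200) (.leaf (nat_lit 0x604070503010002) (nat_lit 1285))
 (.node (nat_lit 0x604070503020001) (.leaf (nat_lit 0x604070503010200) (nat_lit 1285))
 (.leaf (nat_lit 0x604070503020001) (nat_lit 1029))
)) (.node (nat_lit 0x605030407000102) (.leaf (nat_lit 0x604070503020100) (nat_lit 773))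
 (.node (nat_lit 0x605030407000201) (.leaf (nat_lit 0x605030407000102) (nat_lit 1797))
 (.leaf (nat_lit 0x605030407000201) (nat_lit 1541))
)))) (.node (nat_lit 0x605030704000201) (.node (nat_lit 0x605030407020001) (.node (nat_lit 0x605030407010200) (.leaf (nat_lit 0x605030407010002) (nat_lit 1797))
 (.leaf (nat_lit 0x605030407010200) (nat_lit 1797))
) (.node (nat_lit 0x605030407020100) (.leaf (nat_lit 0x605030407020001) (nat_lit 1541))
 (.node (nat_lit 0x605030704000102) (.leaf (nat_lit 0x605030407020100) (nat_lit 1285))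
 (.leaf (nat_lit 0x605030704000102) (nat_lit 1541))
))) (.node (nat_lit 0x605030704020001) (.node (nat_lit 0x605030704010002) (.leaf (nat_lit 0x605030704000201) (nat_lit 1285))
 (.node (nat_lit 0x605030704010200) (.leaf (nat_lit 0x605030704010002) (nat_lit 1541))
 (.leaf (nat_lit 0x605030704010200) (nat_lit 1541))
)) (.node (nat_lit 0x605030704020100) (.leaf (nat_lit 0x605030704020001) (nat_lit 1285))
 (.node (nat_lit 0x605040307000102) (.leaf (nat_lit 0x605030704020100) (nat_lit 1029))
 (.leaf (nat_lit 0x605040307000102) (nat_lit 1541))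
))))) (.node (nat_lit 0x605070304000102) (.node (nat_lit 0x605040703000102) (.node (nat_lit 0x605040307010200) (.node (nat_lit 0x605040307010002) (.leaf (nat_lit 0x605040307000201) (nat_lit 1285))
 (.leaf (nat_lit 0x605040307010002) (nat_lit 1541))
) (.node (nat_lit 0x605040307020001) (.leaf (nat_lit 0x605040307010200) (nat_lit 1541))
 (.node (nat_lit 0x605040307020100) (.leaf (nat_lit 0x605040307020001) (nat_lit 1285))
 (.leaf (nat_lit 0x605040307020100) (nat_lit 1029))
))) (.node (nat_lit 0x605040703010200) (.node (nat_lit 0x605040703000201) (.leaf (nat_lit 0x605040703000102) (nat_lit 1285))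
 (.node (nat_lit 0x605040703010002) (.leaf (nat_lit 0x605040703000201) (nat_lit 1029))
 (.leaf (nat_lit 0x605040703010002) (nat_lit 1285))
)) (.node (nat_lit 0x605040703020001) (.leaf (nat_lit 0x605040703010200) (nat_lit 1285))
 (.node (nat_lit 0x605040703020100) (.leaf (nat_lit 0x605040703020001) (nat_lit 1029))
 (.leaf (nat_lit 0x605040703020100) (nat_lit 773))
)))) (.node (nat_lit 0x605070403000102) (.node (nat_lit 0x605070304010200) (.node (nat_lit 0x605070304000201) (.leaf (nat_lit 0x605070304000102) (nat_lit 1285))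
 (.node (nat_lit 0x605070304010002) (.leaf (nat_lit 0x605070304000201) (nat_lit 1029))
 (.leaf (nat_lit 0x605070304010002) (nat_lit 1285))
)) (.node (nat_lit 0x605070304020001) (.leaf (nat_lit 0x605070304010200) (nat_lit 1285))
 (.node (nat_lit 0x605070304020100) (.leaf (nat_lit 0x605070304020001) (nat_lit 1029))
 (.leaf (nat_lit 0x605070304020100) (nat_lit 773))
))) (.node (nat_lit 0x605070403010200) (.node (nat_lit 0x605070403000201) (.leaf (nat_lit 0x605070403000102) (nat_lit 1029))
 (.node (nat_lit 0x605070403010002) (.leaf (nat_lit 0x605070403000201) (nat_lit 773))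
 (.leaf (nat_lit 0x605070403010002) (nat_lit 1029))
)) (.node (nat_lit 0x605070403020001) (.leaf (nat_lit 0x605070403010200) (nat_lit 1029))
 (.node (nat_lit 0x605070403020100) (.leaf (nat_lit 0x605070403020001) (nat_lit 773))
 (.leaf (nat_lit 0x605070403020100) (nat_lit 517))
)))))))) (.node (nat_lit 0x704050603000102) (.node (nat_lit 0x703040605010200) (.node (nat_lit 0x607040503020001) (.node (nat_lit 0x607030504020100) (.node (nat_lit 0x607030405020100) (.node (nat_lit 0x607030405010002) (.node (nat_lit 0x607030405000201) (.leaf (nat_lit 0x607030405000102) (nat_lit 1541))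
 (.leaf (nat_lit 0x607030405000201) (nat_lit 1285))
) (.node (nat_lit 0x607030405010200) (.leaf (nat_lit 0x607030405010002) (nat_lit 1541))
 (.node (nat_lit 0x607030405020001) (.leaf (nat_lit 0x607030405010200) (nat_lit 1541))
 (.leaf (nat_lit 0x607030405020001) (nat_lit 1285))
))) (.node (nat_lit 0x607030504010002) (.node (nat_lit 0x607030504000102) (.leaf (nat_lit 0x607030405020100) (nat_lit 1029))
 (.node (nat_lit 0x607030504000201) (.leaf (nat_lit 0x607030504000102) (nat_lit 1285))
 (.leaf (nat_lit 0x607030504000201) (nat_lit 1029))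
)) (.node (nat_lit 0x607030504010200) (.leaf (nat_lit 0x607030504010002) (nat_lit 1285))
 (.node (nat_lit 0x607030504020001) (.leaf (nat_lit 0x607030504010200) (nat_lit 1285))
 (.leaf (nat_lit 0x607030504020001) (nat_lit 1029))
)))) (.node (nat_lit 0x607040305020001) (.node (nat_lit 0x607040305000201) (.node (nat_lit 0x607040305000102) (.leaf (nat_lit 0x607030504020100) (nat_lit 773))
 (.leaf (nat_lit 0x607040305000102) (nat_lit 1285))
) (.node (nat_lit 0x607040305010002) (.leaf (nat_lit 0x607040305000201) (nat_lit 1029))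
 (.node (nat_lit 0x607040305010200) (.leaf (nat_lit 0x607040305010002) (nat_lit 1285))
 (.leaf (nat_lit 0x607040305010200) (nat_lit 1285))
))) (.node (nat_lit 0x607040503000201) (.node (nat_lit 0x607040305020100) (.leaf (nat_lit 0x607040305020001) (nat_lit 1029))
 (.node (nat_lit 0x607040503000102) (.leaf (nat_lit 0x607040305020100) (nat_lit 773))
 (.leaf (nat_lit 0x607040503000102) (nat_lit 1029))
)) (.node (nat_lit 0x607040503010002) (.leaf (nat_lit 0x607040503000201) (nat_lit 773))
 (.node (nat_lit 0x607040503010200) (.leaf (nat_lit 0x607040503010002) (nat_lit 1029))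
 (.leaf (nat_lit 0x607040503010200) (nat_lit 1029))
))))) (.node (nat_lit 0x607050403010200) (.node (nat_lit 0x607050304010200) (.node (nat_lit 0x607050304000102) (.node (nat_lit 0x607040503020100) (.leaf (nat_lit 0x607040503020001) (nat_lit 773))
 (.leaf (nat_lit 0x607040503020100) (nat_lit 517))
) (.node (nat_lit 0x607050304000201) (.leaf (nat_lit 0x607050304000102) (nat_lit 1029))
 (.node (nat_lit 0x607050304010002) (.leaf (nat_lit 0x607050304000201) (nat_lit 773))
 (.leaf (nat_lit 0x607050304010002) (nat_lit 1029))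
))) (.node (nat_lit 0x607050403000102) (.node (nat_lit 0x607050304020001) (.leaf (nat_lit 0x607050304010200) (nat_lit 1029))
 (.node (nat_lit 0x607050304020100) (.leaf (nat_lit 0x607050304020001) (nat_lit 773))
 (.leaf (nat_lit 0x607050304020100) (nat_lit 517))
)) (.node (nat_lit 0x607050403000201) (.leaf (nat_lit 0x607050403000102) (nat_lit 773))
 (.node (nat_lit 0x607050403010002) (.leaf (nat_lit 0x607050403000201) (nat_lit 517))
 (.leaf (nat_lit 0x607050403010002) (nat_lit 773))
)))) (.node (nat_lit 0x703040506010200) (.node (nat_lit 0x703040506000102) (.node (nat_lit 0x607050403020001) (.leaf (nat_lit 0x607050403010200) (nat_lit 773))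
 (.node (nat_lit 0x607050403020100) (.leaf (nat_lit 0x607050403020001) (nat_lit 517))
 (.leaf (nat_lit 0x607050403020100) (nat_lit 261))
)) (.node (nat_lit 0x703040506000201) (.leaf (nat_lit 0x703040506000102) (nat_lit 2050))
 (.node (nat_lit 0x703040506010002) (.leaf (nat_lit 0x703040506000201) (nat_lit 1794))
 (.leaf (nat_lit 0x703040506010002) (nat_lit 2050))
))) (.node (nat_lit 0x703040605000102) (.node (nat_lit 0x703040506020001) (.leaf (nat_lit 0x703040506010200) (nat_lit 2050))
 (.node (nat_lit 0x703040506020100) (.leaf (nat_lit 0x703040506020001) (nat_lit 1794))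
 (.leaf (nat_lit 0x703040506020100) (nat_lit 1538))
)) (.node (nat_lit 0x703040605000201) (.leaf (nat_lit 0x703040605000102) (nat_lit 1794))
 (.node (nat_lit 0x703040605010002) (.leaf (nat_lit 0x703040605000201) (nat_lit 1538))
 (.leaf (nat_lit 0x703040605010002) (nat_lit 1794))
)))))) (.node (nat_lit 0x703060504000201) (.node (nat_lit 0x703050604010002) (.node (nat_lit 0x703050406010002) (.node (nat_lit 0x703040605020100) (.node (nat_lit 0x703040605020001) (.leaf (nat_lit 0x703040605010200) (nat_lit 1794))
 (.leaf (nat_lit 0x703040605020001) (nat_lit 1538))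
) (.node (nat_lit 0x703050406000102) (.leaf (nat_lit 0x703040605020100) (nat_lit 1282))
 (.node (nat_lit 0x703050406000201) (.leaf (nat_lit 0x703050406000102) (nat_lit 1794))
 (.leaf (nat_lit 0x703050406000201) (nat_lit 1538))
))) (.node (nat_lit 0x703050406020100) (.node (nat_lit 0x703050406010200) (.leaf (nat_lit 0x703050406010002) (nat_lit 1794))
 (.node (nat_lit 0x703050406020001) (.leaf (nat_lit 0x703050406010200) (nat_lit 1794))
 (.leaf (nat_lit 0x703050406020001) (nat_lit 1538))
)) (.node (nat_lit 0x703050604000102) (.leaf (nat_lit 0x703050406020100) (nat_lit 1282))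
 (.node (nat_lit 0x703050604000201) (.leaf (nat_lit 0x703050604000102) (nat_lit 1538))
 (.leaf (nat_lit 0x703050604000201) (nat_lit 1282))
)))) (.node (nat_lit 0x703060405000201) (.node (nat_lit 0x703050604020001) (.node (nat_lit 0x703050604010200) (.leaf (nat_lit 0x703050604010002) (nat_lit 1538))
 (.leaf (nat_lit 0x703050604010200) (nat_lit 1538))
) (.node (nat_lit 0x703050604020100) (.leaf (nat_lit 0x703050604020001) (nat_lit 1282))
 (.node (nat_lit 0x703060405000102) (.leaf (nat_lit 0x703050604020100) (nat_lit 1026))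
 (.leaf (nat_lit 0x703060405000102) (nat_lit 1538))
))) (.node (nat_lit 0x703060405020001) (.node (nat_lit 0x703060405010002) (.leaf (nat_lit 0x703060405000201) (nat_lit 1282))
 (.node (nat_lit 0x703060405010200) (.leaf (nat_lit 0x703060405010002) (nat_lit 1538))
 (.leaf (nat_lit 0x703060405010200) (nat_lit 1538))
)) (.node (nat_lit 0x703060405020100) (.leaf (nat_lit 0x703060405020001) (nat_lit 1282))
 (.node (nat_lit 0x703060504000102) (.leaf (nat_lit 0x703060405020100) (nat_lit 1026))
 (.leaf (nat_lit 0x703060504000102) (nat_lit 1282))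
))))) (.node (nat_lit 0x704030605000102) (.node (nat_lit 0x704030506000102) (.node (nat_lit 0x703060504010200) (.node (nat_lit 0x703060504010002) (.leaf (nat_lit 0x703060504000201) (nat_lit 1026))
 (.leaf (nat_lit 0x703060504010002) (nat_lit 1282))
) (.node (nat_lit 0x703060504020001) (.leaf (nat_lit 0x703060504010200) (nat_lit 1282))
 (.node (nat_lit 0x703060504020100) (.leaf (nat_lit 0x703060504020001) (nat_lit 1026))
 (.leaf (nat_lit 0x703060504020100) (nat_lit 770))
))) (.node (nat_lit 0x704030506010200) (.node (nat_lit 0x704030506000201) (.leaf (nat_lit 0x704030506000102) (nat_lit 1795))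
 (.node (nat_lit 0x704030506010002) (.leaf (nat_lit 0x704030506000201) (nat_lit 1539))
 (.leaf (nat_lit 0x704030506010002) (nat_lit 1795))
)) (.node (nat_lit 0x704030506020001) (.leaf (nat_lit 0x704030506010200) (nat_lit 1795))
 (.node (nat_lit 0x704030506020100) (.leaf (nat_lit 0x704030506020001) (nat_lit 1539))
 (.leaf (nat_lit 0x704030506020100) (nat_lit 1283))
)))) (.node (nat_lit 0x704050306000102) (.node (nat_lit 0x704030605010200) (.node (nat_lit 0x704030605000201) (.leaf (nat_lit 0x704030605000102) (nat_lit 1539))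
 (.node (nat_lit 0x704030605010002) (.leaf (nat_lit 0x704030605000201) (nat_lit 1283))
 (.leaf (nat_lit 0x704030605010002) (nat_lit 1539))
)) (.node (nat_lit 0x704030605020001) (.leaf (nat_lit 0x704030605010200) (nat_lit 1539))
 (.node (nat_lit 0x704030605020100) (.leaf (nat_lit 0x704030605020001) (nat_lit 1283))
 (.leaf (nat_lit 0x704030605020100) (nat_lit 1027))
))) (.node (nat_lit 0x704050306010200) (.node (nat_lit 0x704050306000201) (.leaf (nat_lit 0x704050306000102) (nat_lit 1539))
 (.node (nat_lit 0x704050306010002) (.leaf (nat_lit 0x704050306000201) (nat_lit 1283))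
 (.leaf (nat_lit 0x704050306010002) (nat_lit 1539))
)) (.node (nat_lit 0x704050306020001) (.leaf (nat_lit 0x704050306010200) (nat_lit 1539))
 (.node (nat_lit 0x704050306020100) (.leaf (nat_lit 0x704050306020001) (nat_lit 1283))
 (.leaf (nat_lit 0x704050306020100) (nat_lit 1027))
))))))) (.node (nat_lit 0x705060304010200) (.node (nat_lit 0x705030406020001) (.node (nat_lit 0x704060305020100) (.node (nat_lit 0x704050603020100) (.node (nat_lit 0x704050603010002) (.node (nat_lit 0x704050603000201) (.leaf (nat_lit 0x704050603000102) (nat_lit 1283))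
 (.leaf (nat_lit 0x704050603000201) (nat_lit 1027))
) (.node (nat_lit 0x704050603010200) (.leaf (nat_lit 0x704050603010002) (nat_lit 1283))
 (.node (nat_lit 0x704050603020001) (.leaf (nat_lit 0x704050603010200) (nat_lit 1283))
 (.leaf (nat_lit 0x704050603020001) (nat_lit 1027))
))) (.node (nat_lit 0x704060305010002) (.node (nat_lit 0x704060305000102) (.leaf (nat_lit 0x704050603020100) (nat_lit 771))
 (.node (nat_lit 0x704060305000201) (.leaf (nat_lit 0x704060305000102) (nat_lit 1283))
 (.leaf (nat_lit 0x704060305000201) (nat_lit 1027))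
)) (.node (nat_lit 0x704060305010200) (.leaf (nat_lit 0x704060305010002) (nat_lit 1283))
 (.node (nat_lit 0x704060305020001) (.leaf (nat_lit 0x704060305010200) (nat_lit 1283))
 (.leaf (nat_lit 0x704060305020001) (nat_lit 1027))
)))) (.node (nat_lit 0x704060503020001) (.node (nat_lit 0x704060503000201) (.node (nat_lit 0x704060503000102) (.leaf (nat_lit 0x704060305020100) (nat_lit 771))
 (.leaf (nat_lit 0x704060503000102) (nat_lit 1027))
) (.node (nat_lit 0x704060503010002) (.leaf (nat_lit 0x704060503000201) (nat_lit 771))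
 (.node (nat_lit 0x704060503010200) (.leaf (nat_lit 0x704060503010002) (nat_lit 1027))
 (.leaf (nat_lit 0x704060503010200) (nat_lit 1027))
))) (.node (nat_lit 0x705030406000201) (.node (nat_lit 0x704060503020100) (.leaf (nat_lit 0x704060503020001) (nat_lit 771))
 (.node (nat_lit 0x705030406000102) (.leaf (nat_lit 0x704060503020100) (nat_lit 515))
 (.leaf (nat_lit 0x705030406000102) (nat_lit 1540))
)) (.node (nat_lit 0x705030406010002) (.leaf (nat_lit 0x705030406000201) (nat_lit 1284))
 (.node (nat_lit 0x705030406010200) (.leaf (nat_lit 0x705030406010002) (nat_lit 1540))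
 (.leaf (nat_lit 0x705030406010200) (nat_lit 1540))
))))) (.node (nat_lit 0x705040306010200) (.node (nat_lit 0x705030604010200) (.node (nat_lit 0x705030604000102) (.node (nat_lit 0x705030406020100) (.leaf (nat_lit 0x705030406020001) (nat_lit 1284))
 (.leaf (nat_lit 0x705030406020100) (nat_lit 1028))
) (.node (nat_lit 0x705030604000201) (.leaf (nat_lit 0x705030604000102) (nat_lit 1284))
 (.node (nat_lit 0x705030604010002) (.leaf (nat_lit 0x705030604000201) (nat_lit 1028))
 (.leaf (nat_lit 0x705030604010002) (nat_lit 1284))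
))) (.node (nat_lit 0x705040306000102) (.node (nat_lit 0x705030604020001) (.leaf (nat_lit 0x705030604010200) (nat_lit 1284))
 (.node (nat_lit 0x705030604020100) (.leaf (nat_lit 0x705030604020001) (nat_lit 1028))
 (.leaf (nat_lit 0x705030604020100) (nat_lit 772))
)) (.node (nat_lit 0x705040306000201) (.leaf (nat_lit 0x705040306000102) (nat_lit 1284))
 (.node (nat_lit 0x705040306010002) (.leaf (nat_lit 0x705040306000201) (nat_lit 1028))
 (.leaf (nat_lit 0x705040306010002) (nat_lit 1284))
)))) (.node (nat_lit 0x705040603010200) (.node (nat_lit 0x705040603000102) (.node (nat_lit 0x705040306020001) (.leaf (nat_lit 0x705040306010200) (nat_lit 1284))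
 (.node (nat_lit 0x705040306020100) (.leaf (nat_lit 0x705040306020001) (nat_lit 1028))
 (.leaf (nat_lit 0x705040306020100) (nat_lit 772))
)) (.node (nat_lit 0x705040603000201) (.leaf (nat_lit 0x705040603000102) (nat_lit 1028))
 (.node (nat_lit 0x705040603010002) (.leaf (nat_lit 0x705040603000201) (nat_lit 772))
 (.leaf (nat_lit 0x705040603010002) (nat_lit 1028))
))) (.node (nat_lit 0x705060304000102) (.node (nat_lit 0x705040603020001) (.leaf (nat_lit 0x705040603010200) (nat_lit 1028))
 (.node (nat_lit 0x705040603020100) (.leaf (nat_lit 0x705040603020001) (nat_lit 772))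
 (.leaf (nat_lit 0x705040603020100) (nat_lit 516))
)) (.node (nat_lit 0x705060304000201) (.leaf (nat_lit 0x705060304000102) (nat_lit 1028))
 (.node (nat_lit 0x705060304010002) (.leaf (nat_lit 0x705060304000201) (nat_lit 772))
 (.leaf (nat_lit 0x705060304010002) (nat_lit 1028))
)))))) (.node (nat_lit 0x706040305000201) (.node (nat_lit 0x706030405010002) (.node (nat_lit 0x705060403010002) (.node (nat_lit 0x705060304020100) (.node (nat_lit 0x705060304020001) (.leaf (nat_lit 0x705060304010200) (nat_lit 1028))
 (.leaf (nat_lit 0x705060304020001) (nat_lit 772))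
) (.node (nat_lit 0x705060403000102) (.leaf (nat_lit 0x705060304020100) (nat_lit 516))
 (.node (nat_lit 0x705060403000201) (.leaf (nat_lit 0x705060403000102) (nat_lit 772))
 (.leaf (nat_lit 0x705060403000201) (nat_lit 516))
))) (.node (nat_lit 0x705060403020100) (.node (nat_lit 0x705060403010200) (.leaf (nat_lit 0x705060403010002) (nat_lit 772))
 (.node (nat_lit 0x705060403020001) (.leaf (nat_lit 0x705060403010200) (nat_lit 772))
 (.leaf (nat_lit 0x705060403020001) (nat_lit 516))
)) (.node (nat_lit 0x706030405000102) (.leaf (nat_lit 0x705060403020100) (nat_lit 260))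
 (.node (nat_lit 0x706030405000201) (.leaf (nat_lit 0x706030405000102) (nat_lit 1282))
 (.leaf (nat_lit 0x706030405000201) (nat_lit 1026))
)))) (.node (nat_lit 0x706030504000201) (.node (nat_lit 0x706030405020001) (.node (nat_lit 0x706030405010200) (.leaf (nat_lit 0x706030405010002) (nat_lit 1282))
 (.leaf (nat_lit 0x706030405010200) (nat_lit 1282))
) (.node (nat_lit 0x706030405020100) (.leaf (nat_lit 0x706030405020001) (nat_lit 1026))
 (.node (nat_lit 0x706030504000102) (.leaf (nat_lit 0x706030405020100) (nat_lit 770))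
 (.leaf (nat_lit 0x706030504000102) (nat_lit 1026))
))) (.node (nat_lit 0x706030504020001) (.node (nat_lit 0x706030504010002) (.leaf (nat_lit 0x706030504000201) (nat_lit 770))
 (.node (nat_lit 0x706030504010200) (.leaf (nat_lit 0x706030504010002) (nat_lit 1026))
 (.leaf (nat_lit 0x706030504010200) (nat_lit 1026))
)) (.node (nat_lit 0x706030504020100) (.leaf (nat_lit 0x706030504020001) (nat_lit 770))
 (.node (nat_lit 0x706040305000102) (.leaf (nat_lit 0x706030504020100) (nat_lit 514))
 (.leaf (nat_lit 0x706040305000102) (nat_lit 1027))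
))))) (.node (nat_lit 0x706050304000102) (.node (nat_lit 0x706040503000102) (.node (nat_lit 0x706040305010200) (.node (nat_lit 0x706040305010002) (.leaf (nat_lit 0x706040305000201) (nat_lit 771))
 (.leaf (nat_lit 0x706040305010002) (nat_lit 1027))
) (.node (nat_lit 0x706040305020001) (.leaf (nat_lit 0x706040305010200) (nat_lit 1027))
 (.node (nat_lit 0x706040305020100) (.leaf (nat_lit 0x706040305020001) (nat_lit 771))
 (.leaf (nat_lit 0x706040305020100) (nat_lit 515))
))) (.node (nat_lit 0x706040503010200) (.node (nat_lit 0x706040503000201) (.leaf (nat_lit 0x706040503000102) (nat_lit 771))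
 (.node (nat_lit 0x706040503010002) (.leaf (nat_lit 0x706040503000201) (nat_lit 515))
 (.leaf (nat_lit 0x706040503010002) (nat_lit 771))
)) (.node (nat_lit 0x706040503020001) (.leaf (nat_lit 0x706040503010200) (nat_lit 771))
 (.node (nat_lit 0x706040503020100) (.leaf (nat_lit 0x706040503020001) (nat_lit 515))
 (.leaf (nat_lit 0x706040503020100) (nat_lit 259))
)))) (.node (nat_lit 0x706050403000102) (.node (nat_lit 0x706050304010200) (.node (nat_lit 0x706050304000201) (.leaf (nat_lit 0x706050304000102) (nat_lit 770))
 (.node (nat_lit 0x706050304010002) (.leaf (nat_lit 0x706050304000201) (nat_lit 514))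
 (.leaf (nat_lit 0x706050304010002) (nat_lit 770))
)) (.node (nat_lit 0x706050304020001) (.leaf (nat_lit 0x706050304010200) (nat_lit 770))
 (.node (nat_lit 0x706050304020100) (.leaf (nat_lit 0x706050304020001) (nat_lit 514))
 (.leaf (nat_lit 0x706050304020100) (nat_lit 258))
))) (.node (nat_lit 0x706050403010200) (.node (nat_lit 0x706050403000201) (.leaf (nat_lit 0x706050403000102) (nat_lit 512))
 (.node (nat_lit 0x706050403010002) (.leaf (nat_lit 0x706050403000201) (nat_lit 256))
 (.leaf (nat_lit 0x706050403010002) (nat_lit 512))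
)) (.node (nat_lit 0x706050403020001) (.leaf (nat_lit 0x706050403010200) (nat_lit 513))
 (.node (nat_lit 0x706050403020100) (.leaf (nat_lit 0x706050403020001) (nat_lit 257))
 (.leaf (nat_lit 0x706050403020100) (nat_lit 0))
))))))))))

theorem N1_ok : genOK A8.P8 [(nat_lit 0x706050403000201), (nat_lit 0x706050403020001), (nat_lit 0x706050304020100), (nat_lit 0x706040503020100), (nat_lit 0x705060403020100), (nat_lit 0x607050403020100)] N1_t (nat_lit 720) = true := by decide +kernel

noncomputable def K1_t : ST :=
(.node (nat_lit 0x506030407020100) (.node (nat_lit 0x405030607020100) (.node (nat_lit 0x306050704020100) (.node (nat_lit 0x305040706020100) (.node (nat_lit 0x304060705020100) (.leaf (nat_lit 0x304050607020100) (nat_lit 1792))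
 (.node (nat_lit 0x304070506020100) (.leaf (nat_lit 0x304060705020100) (nat_lit 1536))
 (.leaf (nat_lit 0x304070506020100) (nat_lit 1280))
)) (.node (nat_lit 0x305070604020100) (.node (nat_lit 0x305060407020100) (.leaf (nat_lit 0x305040706020100) (nat_lit 1536))
 (.leaf (nat_lit 0x305060407020100) (nat_lit 1536))
) (.node (nat_lit 0x306040507020100) (.leaf (nat_lit 0x305070604020100) (nat_lit 1280))
 (.leaf (nat_lit 0x306040507020100) (nat_lit 1280))
))) (.node (nat_lit 0x307060504020100) (.node (nat_lit 0x307040605020100) (.node (nat_lit 0x306070405020100) (.leaf (nat_lit 0x306050704020100) (nat_lit 1280))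
 (.leaf (nat_lit 0x306070405020100) (nat_lit 1024))
) (.node (nat_lit 0x307050406020100) (.leaf (nat_lit 0x307040605020100) (nat_lit 1024))
 (.leaf (nat_lit 0x307050406020100) (nat_lit 1024))
)) (.node (nat_lit 0x403060507020100) (.node (nat_lit 0x403050706020100) (.leaf (nat_lit 0x307060504020100) (nat_lit 768))
 (.leaf (nat_lit 0x403050706020100) (nat_lit 1793))
) (.node (nat_lit 0x403070605020100) (.leaf (nat_lit 0x403060507020100) (nat_lit 1538))
 (.leaf (nat_lit 0x403070605020100) (nat_lit 1537))
)))) (.node (nat_lit 0x407050603020100) (.node (nat_lit 0x406030705020100) (.node (nat_lit 0x405060703020100) (.leaf (nat_lit 0x405030607020100) (nat_lit 1537))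
 (.node (nat_lit 0x405070306020100) (.leaf (nat_lit 0x405060703020100) (nat_lit 1537))
 (.leaf (nat_lit 0x405070306020100) (nat_lit 1281))
)) (.node (nat_lit 0x406070503020100) (.node (nat_lit 0x406050307020100) (.leaf (nat_lit 0x406030705020100) (nat_lit 1282))
 (.leaf (nat_lit 0x406050307020100) (nat_lit 1282))
) (.node (nat_lit 0x407030506020100) (.leaf (nat_lit 0x406070503020100) (nat_lit 1026))
 (.leaf (nat_lit 0x407030506020100) (nat_lit 1281))
))) (.node (nat_lit 0x503070406020100) (.node (nat_lit 0x503040607020100) (.node (nat_lit 0x407060305020100) (.leaf (nat_lit 0x407050603020100) (nat_lit 1025))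
 (.leaf (nat_lit 0x407060305020100) (nat_lit 1024))
) (.node (nat_lit 0x503060704020100) (.leaf (nat_lit 0x503040607020100) (nat_lit 1537))
 (.leaf (nat_lit 0x503060704020100) (nat_lit 1281))
)) (.node (nat_lit 0x504060307020100) (.node (nat_lit 0x504030706020100) (.leaf (nat_lit 0x503070406020100) (nat_lit 1025))
 (.leaf (nat_lit 0x504030706020100) (nat_lit 1281))
) (.node (nat_lit 0x504070603020100) (.leaf (nat_lit 0x504060307020100) (nat_lit 1281))
 (.leaf (nat_lit 0x504070603020100) (nat_lit 1025))
))))) (.node (nat_lit 0x607030405020100) (.node (nat_lit 0x603050407020100) (.node (nat_lit 0x507030604020100) (.node (nat_lit 0x506040703020100) (.leaf (nat_lit 0x506030407020100) (nat_lit 1026))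
 (.node (nat_lit 0x506070304020100) (.leaf (nat_lit 0x506040703020100) (nat_lit 1025))
 (.leaf (nat_lit 0x506070304020100) (nat_lit 769))
)) (.node (nat_lit 0x507060403020100) (.node (nat_lit 0x507040306020100) (.leaf (nat_lit 0x507030604020100) (nat_lit 769))
 (.leaf (nat_lit 0x507040306020100) (nat_lit 769))
) (.node (nat_lit 0x603040705020100) (.leaf (nat_lit 0x507060403020100) (nat_lit 513))
 (.leaf (nat_lit 0x603040705020100) (nat_lit 1024))
))) (.node (nat_lit 0x604070305020100) (.node (nat_lit 0x604030507020100) (.node (nat_lit 0x603070504020100) (.leaf (nat_lit 0x603050407020100) (nat_lit 1026))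
 (.leaf (nat_lit 0x603070504020100) (nat_lit 768))
) (.node (nat_lit 0x604050703020100) (.leaf (nat_lit 0x604030507020100) (nat_lit 1282))
 (.leaf (nat_lit 0x604050703020100) (nat_lit 1026))
)) (.node (nat_lit 0x605040307020100) (.node (nat_lit 0x605030704020100) (.leaf (nat_lit 0x604070305020100) (nat_lit 770))
 (.leaf (nat_lit 0x605030704020100) (nat_lit 770))
) (.node (nat_lit 0x605070403020100) (.leaf (nat_lit 0x605040307020100) (nat_lit 1026))
 (.leaf (nat_lit 0x605070403020100) (nat_lit 514))
)))) (.node (nat_lit 0x704050306020100) (.node (nat_lit 0x703040506020100) (.node (nat_lit 0x607040503020100) (.leaf (nat_lit 0x607030405020100) (nat_lit 512))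
 (.node (nat_lit 0x607050304020100) (.leaf (nat_lit 0x607040503020100) (nat_lit 514))
 (.leaf (nat_lit 0x607050304020100) (nat_lit 258))
)) (.node (nat_lit 0x703060405020100) (.node (nat_lit 0x703050604020100) (.leaf (nat_lit 0x703040506020100) (nat_lit 1024))
 (.leaf (nat_lit 0x703050604020100) (nat_lit 768))
) (.node (nat_lit 0x704030605020100) (.leaf (nat_lit 0x703060405020100) (nat_lit 512))
 (.leaf (nat_lit 0x704030605020100) (nat_lit 1024))
))) (.node (nat_lit 0x705060304020100) (.node (nat_lit 0x705030406020100) (.node (nat_lit 0x704060503020100) (.leaf (nat_lit 0x704050306020100) (nat_lit 769))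
 (.leaf (nat_lit 0x704060503020100) (nat_lit 768))
) (.node (nat_lit 0x705040603020100) (.leaf (nat_lit 0x705030406020100) (nat_lit 769))
 (.leaf (nat_lit 0x705040603020100) (nat_lit 513))
)) (.node (nat_lit 0x706040305020100) (.node (nat_lit 0x706030504020100) (.leaf (nat_lit 0x705060304020100) (nat_lit 257))
 (.leaf (nat_lit 0x706030504020100) (nat_lit 256))
) (.node (nat_lit 0x706050403020100) (.leaf (nat_lit 0x706040305020100) (nat_lit 512))
 (.leaf (nat_lit 0x706050403020100) (nat_lit 0))
))))))

theorem K1_ok : genOK A8.P8 [(nat_lit 0x706030504020100), (nat_lit 0x705060304020100), (nat_lit 0x607050304020100)] K1_t (nat_lit 60) = true := by decide +kernel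

noncomputable def D_t : ST :=
(.node (nat_lit 0x605070403010002) (.node (nat_lit 0x507060403020100) (.node (nat_lit 0x507060403010002) (.leaf (nat_lit 0x507060403000201) (nat_lit 513))
 (.leaf (nat_lit 0x507060403010002) (nat_lit 769))
) (.node (nat_lit 0x605070403000201) (.leaf (nat_lit 0x507060403020100) (nat_lit 257))
 (.leaf (nat_lit 0x605070403000201) (nat_lit 769))
)) (.node (nat_lit 0x706050403000201) (.node (nat_lit 0x605070403020100) (.leaf (nat_lit 0x605070403010002) (nat_lit 1025))
 (.leaf (nat_lit 0x605070403020100) (nat_lit 513))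
) (.node (nat_lit 0x706050403010002) (.leaf (nat_lit 0x706050403000201) (nat_lit 256))
 (.node (nat_lit 0x706050403020100) (.leaf (nat_lit 0x706050403010002) (nat_lit 512))
 (.leaf (nat_lit 0x706050403020100) (nat_lit 0))
))))

theorem D_ok : genOK A8.P8 [(nat_lit 0x706050403000201), (nat_lit 0x507060403020100)] D_t (nat_lit 9) = true := by decide +kernel

noncomputable def E_t : ST :=
(.node (nat_lit 0x605070403000201) (.node (nat_lit 0x507060403010002) (.node (nat_lit 0x507060304020100) (.node (nat_lit 0x507060304010002) (.leaf (nat_lit 0x507060304000201) (nat_lit 770))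
 (.leaf (nat_lit 0x507060304010002) (nat_lit 1026))
) (.node (nat_lit 0x507060403000201) (.leaf (nat_lit 0x507060304020100) (nat_lit 514))
 (.leaf (nat_lit 0x507060403000201) (nat_lit 513))
)) (.node (nat_lit 0x605070304000201) (.node (nat_lit 0x507060403020100) (.leaf (nat_lit 0x507060403010002) (nat_lit 769))
 (.leaf (nat_lit 0x507060403020100) (nat_lit 257))
) (.node (nat_lit 0x605070304010002) (.leaf (nat_lit 0x605070304000201) (nat_lit 1026))
 (.node (nat_lit 0x605070304020100) (.leaf (nat_lit 0x605070304010002) (nat_lit 1282))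
 (.leaf (nat_lit 0x605070304020100) (nat_lit 770))
)))) (.node (nat_lit 0x706050304010002) (.node (nat_lit 0x605070403020100) (.node (nat_lit 0x605070403010002) (.leaf (nat_lit 0x605070403000201) (nat_lit 769))
 (.leaf (nat_lit 0x605070403010002) (nat_lit 1025))
) (.node (nat_lit 0x706050304000201) (.leaf (nat_lit 0x605070403020100) (nat_lit 513))
 (.leaf (nat_lit 0x706050304000201) (nat_lit 514))
)) (.node (nat_lit 0x706050403000201) (.node (nat_lit 0x706050304020100) (.leaf (nat_lit 0x706050304010002) (nat_lit 770))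
 (.leaf (nat_lit 0x706050304020100) (nat_lit 258))
) (.node (nat_lit 0x706050403010002) (.leaf (nat_lit 0x706050403000201) (nat_lit 256))
 (.node (nat_lit 0x706050403020100) (.leaf (nat_lit 0x706050403010002) (nat_lit 512))
 (.leaf (nat_lit 0x706050403020100) (nat_lit 0))
)))))

theorem E_ok : genOK A8.P8 [(nat_lit 0x706050403000201), (nat_lit 0x507060403020100), (nat_lit 0x706050304020100)] E_t (nat_lit 18) = true := by decide +kernel

noncomputable def H0_t : ST :=
(.node (nat_lit 0x607050304000102) (.node (nat_lit 0x507060403000102) (.node (nat_lit 0x506070403010200) (.node (nat_lit 0x506070304020001) (.node (nat_lit 0x506070304010002) (.node (nat_lit 0x506070304000201) (.leaf (nat_lit 0x506070304000102) (nat_lit 1281))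
 (.leaf (nat_lit 0x506070304000201) (nat_lit 1025))
) (.node (nat_lit 0x506070304010200) (.leaf (nat_lit 0x506070304010002) (nat_lit 1281))
 (.leaf (nat_lit 0x506070304010200) (nat_lit 1281))
)) (.node (nat_lit 0x506070403000102) (.node (nat_lit 0x506070304020100) (.leaf (nat_lit 0x506070304020001) (nat_lit 1025))
 (.leaf (nat_lit 0x506070304020100) (nat_lit 769))
) (.node (nat_lit 0x506070403000201) (.leaf (nat_lit 0x506070403000102) (nat_lit 1025))
 (.node (nat_lit 0x506070403010002) (.leaf (nat_lit 0x506070403000201) (nat_lit 769))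
 (.leaf (nat_lit 0x506070403010002) (nat_lit 1025))
)))) (.node (nat_lit 0x507060304000201) (.node (nat_lit 0x506070403020100) (.node (nat_lit 0x506070403020001) (.leaf (nat_lit 0x506070403010200) (nat_lit 1025))
 (.leaf (nat_lit 0x506070403020001) (nat_lit 769))
) (.node (nat_lit 0x507060304000102) (.leaf (nat_lit 0x506070403020100) (nat_lit 513))
 (.leaf (nat_lit 0x507060304000102) (nat_lit 1024))
)) (.node (nat_lit 0x507060304010200) (.node (nat_lit 0x507060304010002) (.leaf (nat_lit 0x507060304000201) (nat_lit 770))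
 (.leaf (nat_lit 0x507060304010002) (nat_lit 1026))
) (.node (nat_lit 0x507060304020001) (.leaf (nat_lit 0x507060304010200) (nat_lit 1027))
 (.node (nat_lit 0x507060304020100) (.leaf (nat_lit 0x507060304020001) (nat_lit 771))
 (.leaf (nat_lit 0x507060304020100) (nat_lit 514))
))))) (.node (nat_lit 0x605070304010200) (.node (nat_lit 0x507060403020001) (.node (nat_lit 0x507060403010002) (.node (nat_lit 0x507060403000201) (.leaf (nat_lit 0x507060403000102) (nat_lit 768))
 (.leaf (nat_lit 0x507060403000201) (nat_lit 513))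
) (.node (nat_lit 0x507060403010200) (.leaf (nat_lit 0x507060403010002) (nat_lit 769))
 (.leaf (nat_lit 0x507060403010200) (nat_lit 771))
)) (.node (nat_lit 0x605070304000102) (.node (nat_lit 0x507060403020100) (.leaf (nat_lit 0x507060403020001) (nat_lit 515))
 (.leaf (nat_lit 0x507060403020100) (nat_lit 257))
) (.node (nat_lit 0x605070304000201) (.leaf (nat_lit 0x605070304000102) (nat_lit 1280))
 (.node (nat_lit 0x605070304010002) (.leaf (nat_lit 0x605070304000201) (nat_lit 1026))
 (.leaf (nat_lit 0x605070304010002) (nat_lit 1282))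
)))) (.node (nat_lit 0x605070403000201) (.node (nat_lit 0x605070304020100) (.node (nat_lit 0x605070304020001) (.leaf (nat_lit 0x605070304010200) (nat_lit 1283))
 (.leaf (nat_lit 0x605070304020001) (nat_lit 1027))
) (.node (nat_lit 0x605070403000102) (.leaf (nat_lit 0x605070304020100) (nat_lit 770))
 (.leaf (nat_lit 0x605070403000102) (nat_lit 1024))
)) (.node (nat_lit 0x605070403010200) (.node (nat_lit 0x605070403010002) (.leaf (nat_lit 0x605070403000201) (nat_lit 769))
 (.leaf (nat_lit 0x605070403010002) (nat_lit 1025))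
) (.node (nat_lit 0x605070403020001) (.leaf (nat_lit 0x605070403010200) (nat_lit 1027))
 (.node (nat_lit 0x605070403020100) (.leaf (nat_lit 0x605070403020001) (nat_lit 771))
 (.leaf (nat_lit 0x605070403020100) (nat_lit 513))
)))))) (.node (nat_lit 0x705060403000102) (.node (nat_lit 0x607050403010200) (.node (nat_lit 0x607050304020001) (.node (nat_lit 0x607050304010002) (.node (nat_lit 0x607050304000201) (.leaf (nat_lit 0x607050304000102) (nat_lit 1284))
 (.leaf (nat_lit 0x607050304000201) (nat_lit 1028))
) (.node (nat_lit 0x607050304010200) (.leaf (nat_lit 0x607050304010002) (nat_lit 1284))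
 (.leaf (nat_lit 0x607050304010200) (nat_lit 1284))
)) (.node (nat_lit 0x607050403000102) (.node (nat_lit 0x607050304020100) (.leaf (nat_lit 0x607050304020001) (nat_lit 1028))
 (.leaf (nat_lit 0x607050304020100) (nat_lit 772))
) (.node (nat_lit 0x607050403000201) (.leaf (nat_lit 0x607050403000102) (nat_lit 1028))
 (.node (nat_lit 0x607050403010002) (.leaf (nat_lit 0x607050403000201) (nat_lit 772))
 (.leaf (nat_lit 0x607050403010002) (nat_lit 1028))
)))) (.node (nat_lit 0x705060304000201) (.node (nat_lit 0x607050403020100) (.node (nat_lit 0x607050403020001) (.leaf (nat_lit 0x607050403010200) (nat_lit 1028))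
 (.leaf (nat_lit 0x607050403020001) (nat_lit 772))
) (.node (nat_lit 0x705060304000102) (.leaf (nat_lit 0x607050403020100) (nat_lit 516))
 (.leaf (nat_lit 0x705060304000102) (nat_lit 1028))
)) (.node (nat_lit 0x705060304010200) (.node (nat_lit 0x705060304010002) (.leaf (nat_lit 0x705060304000201) (nat_lit 772))
 (.leaf (nat_lit 0x705060304010002) (nat_lit 1028))
) (.node (nat_lit 0x705060304020001) (.leaf (nat_lit 0x705060304010200) (nat_lit 1028))
 (.node (nat_lit 0x705060304020100) (.leaf (nat_lit 0x705060304020001) (nat_lit 772))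
 (.leaf (nat_lit 0x705060304020100) (nat_lit 516))
))))) (.node (nat_lit 0x706050304010200) (.node (nat_lit 0x705060403020001) (.node (nat_lit 0x705060403010002) (.node (nat_lit 0x705060403000201) (.leaf (nat_lit 0x705060403000102) (nat_lit 772))
 (.leaf (nat_lit 0x705060403000201) (nat_lit 516))
) (.node (nat_lit 0x705060403010200) (.leaf (nat_lit 0x705060403010002) (nat_lit 772))
 (.leaf (nat_lit 0x705060403010200) (nat_lit 772))
)) (.node (nat_lit 0x706050304000102) (.node (nat_lit 0x705060403020100) (.leaf (nat_lit 0x705060403020001) (nat_lit 516))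
 (.leaf (nat_lit 0x705060403020100) (nat_lit 260))
) (.node (nat_lit 0x706050304000201) (.leaf (nat_lit 0x706050304000102) (nat_lit 768))
 (.node (nat_lit 0x706050304010002) (.leaf (nat_lit 0x706050304000201) (nat_lit 514))
 (.leaf (nat_lit 0x706050304010002) (nat_lit 770))
)))) (.node (nat_lit 0x706050403000201) (.node (nat_lit 0x706050304020100) (.node (nat_lit 0x706050304020001) (.leaf (nat_lit 0x706050304010200) (nat_lit 771))
 (.leaf (nat_lit 0x706050304020001) (nat_lit 515))
) (.node (nat_lit 0x706050403000102) (.leaf (nat_lit 0x706050304020100) (nat_lit 258))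
 (.leaf (nat_lit 0x706050403000102) (nat_lit 512))
)) (.node (nat_lit 0x706050403010200) (.node (nat_lit 0x706050403010002) (.leaf (nat_lit 0x706050403000201) (nat_lit 256))
 (.leaf (nat_lit 0x706050403010002) (nat_lit 512))
) (.node (nat_lit 0x706050403020001) (.leaf (nat_lit 0x706050403010200) (nat_lit 515))
 (.node (nat_lit 0x706050403020100) (.leaf (nat_lit 0x706050403020001) (nat_lit 259))
 (.leaf (nat_lit 0x706050403020100) (nat_lit 0))
)))))))

theorem H0_ok : genOK A8.P8 [(nat_lit 0x706050403000201), (nat_lit 0x507060403020100), (nat_lit 0x706050304020100), (nat_lit 0x706050403020001), (nat_lit 0x705060403020100)] H0_t (nat_lit 72) = true := by decide +kernel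

noncomputable def U_t : ST :=
(.node (nat_lit 0x706050403020001) (.node (nat_lit 0x705060403020100) (.leaf (nat_lit 0x705060403020001) (nat_lit 513))
 (.leaf (nat_lit 0x705060403020100) (nat_lit 257))
) (.node (nat_lit 0x706050403020100) (.leaf (nat_lit 0x706050403020001) (nat_lit 256))
 (.leaf (nat_lit 0x706050403020100) (nat_lit 0))
))

theorem U_ok : genOK A8.P8 [(nat_lit 0x706050403020001), (nat_lit 0x705060403020100)] U_t (nat_lit 4) = true := by decide +kernel

noncomputable def W_t : ST :=
(.node (nat_lit 0x705060304000201) (.node (nat_lit 0x704030506000201) (.node (nat_lit 0x703040605000201) (.node (nat_lit 0x703040506010002) (.leaf (nat_lit 0x703040506000201) (nat_lit 1027))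
 (.node (nat_lit 0x703040506020100) (.leaf (nat_lit 0x703040506010002) (nat_lit 1283))
 (.leaf (nat_lit 0x703040506020100) (nat_lit 771))
)) (.node (nat_lit 0x703040605010002) (.leaf (nat_lit 0x703040605000201) (nat_lit 771))
 (.node (nat_lit 0x703040605020100) (.leaf (nat_lit 0x703040605010002) (nat_lit 1027))
 (.leaf (nat_lit 0x703040605020100) (nat_lit 515))
))) (.node (nat_lit 0x704030605000201) (.node (nat_lit 0x704030506010002) (.leaf (nat_lit 0x704030506000201) (nat_lit 771))
 (.node (nat_lit 0x704030506020100) (.leaf (nat_lit 0x704030506010002) (nat_lit 1027))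
 (.leaf (nat_lit 0x704030506020100) (nat_lit 515))
)) (.node (nat_lit 0x704030605010002) (.leaf (nat_lit 0x704030605000201) (nat_lit 515))
 (.node (nat_lit 0x704030605020100) (.leaf (nat_lit 0x704030605010002) (nat_lit 771))
 (.leaf (nat_lit 0x704030605020100) (nat_lit 259))
)))) (.node (nat_lit 0x706050304000201) (.node (nat_lit 0x705060403000201) (.node (nat_lit 0x705060304010002) (.leaf (nat_lit 0x705060304000201) (nat_lit 770))
 (.node (nat_lit 0x705060304020100) (.leaf (nat_lit 0x705060304010002) (nat_lit 1026))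
 (.leaf (nat_lit 0x705060304020100) (nat_lit 514))
)) (.node (nat_lit 0x705060403010002) (.leaf (nat_lit 0x705060403000201) (nat_lit 514))
 (.node (nat_lit 0x705060403020100) (.leaf (nat_lit 0x705060403010002) (nat_lit 770))
 (.leaf (nat_lit 0x705060403020100) (nat_lit 258))
))) (.node (nat_lit 0x706050403000201) (.node (nat_lit 0x706050304010002) (.leaf (nat_lit 0x706050304000201) (nat_lit 513))
 (.node (nat_lit 0x706050304020100) (.leaf (nat_lit 0x706050304010002) (nat_lit 769))
 (.leaf (nat_lit 0x706050304020100) (nat_lit 257))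
)) (.node (nat_lit 0x706050403010002) (.leaf (nat_lit 0x706050403000201) (nat_lit 256))
 (.node (nat_lit 0x706050403020100) (.leaf (nat_lit 0x706050403010002) (nat_lit 512))
 (.leaf (nat_lit 0x706050403020100) (nat_lit 0))
)))))

theorem W_ok : genOK A8.P8 [(nat_lit 0x706050403000201), (nat_lit 0x706050304020100), (nat_lit 0x705060403020100), (nat_lit 0x704030605020100)] W_t (nat_lit 24) = true := by decide +kernel

noncomputable def K_t : ST :=
(.node (nat_lit 0x607050304000201) (.node (nat_lit 0x507060403000201) (.node (nat_lit 0x506070403010002) (.node (nat_lit 0x506070304020100) (.node (nat_lit 0x506070304010002) (.leaf (nat_lit 0x506070304000201) (nat_lit 1025))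
 (.leaf (nat_lit 0x506070304010002) (nat_lit 1281))
) (.node (nat_lit 0x506070403000201) (.leaf (nat_lit 0x506070304020100) (nat_lit 769))
 (.leaf (nat_lit 0x506070403000201) (nat_lit 769))
)) (.node (nat_lit 0x507060304000201) (.node (nat_lit 0x506070403020100) (.leaf (nat_lit 0x506070403010002) (nat_lit 1025))
 (.leaf (nat_lit 0x506070403020100) (nat_lit 513))
) (.node (nat_lit 0x507060304010002) (.leaf (nat_lit 0x507060304000201) (nat_lit 770))
 (.node (nat_lit 0x507060304020100) (.leaf (nat_lit 0x507060304010002) (nat_lit 1026))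
 (.leaf (nat_lit 0x507060304020100) (nat_lit 514))
)))) (.node (nat_lit 0x605070304010002) (.node (nat_lit 0x507060403020100) (.node (nat_lit 0x507060403010002) (.leaf (nat_lit 0x507060403000201) (nat_lit 513))
 (.leaf (nat_lit 0x507060403010002) (nat_lit 769))
) (.node (nat_lit 0x605070304000201) (.leaf (nat_lit 0x507060403020100) (nat_lit 257))
 (.leaf (nat_lit 0x605070304000201) (nat_lit 1026))
)) (.node (nat_lit 0x605070403000201) (.node (nat_lit 0x605070304020100) (.leaf (nat_lit 0x605070304010002) (nat_lit 1282))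
 (.leaf (nat_lit 0x605070304020100) (nat_lit 770))
) (.node (nat_lit 0x605070403010002) (.leaf (nat_lit 0x605070403000201) (nat_lit 769))
 (.node (nat_lit 0x605070403020100) (.leaf (nat_lit 0x605070403010002) (nat_lit 1025))
 (.leaf (nat_lit 0x605070403020100) (nat_lit 513))
))))) (.node (nat_lit 0x705060403000201) (.node (nat_lit 0x607050403010002) (.node (nat_lit 0x607050304020100) (.node (nat_lit 0x607050304010002) (.leaf (nat_lit 0x607050304000201) (nat_lit 1027))
 (.leaf (nat_lit 0x607050304010002) (nat_lit 1283))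
) (.node (nat_lit 0x607050403000201) (.leaf (nat_lit 0x607050304020100) (nat_lit 771))
 (.leaf (nat_lit 0x607050403000201) (nat_lit 771))
)) (.node (nat_lit 0x705060304000201) (.node (nat_lit 0x607050403020100) (.leaf (nat_lit 0x607050403010002) (nat_lit 1027))
 (.leaf (nat_lit 0x607050403020100) (nat_lit 515))
) (.node (nat_lit 0x705060304010002) (.leaf (nat_lit 0x705060304000201) (nat_lit 771))
 (.node (nat_lit 0x705060304020100) (.leaf (nat_lit 0x705060304010002) (nat_lit 1027))
 (.leaf (nat_lit 0x705060304020100) (nat_lit 515))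
)))) (.node (nat_lit 0x706050304010002) (.node (nat_lit 0x705060403020100) (.node (nat_lit 0x705060403010002) (.leaf (nat_lit 0x705060403000201) (nat_lit 515))
 (.leaf (nat_lit 0x705060403010002) (nat_lit 771))
) (.node (nat_lit 0x706050304000201) (.leaf (nat_lit 0x705060403020100) (nat_lit 259))
 (.leaf (nat_lit 0x706050304000201) (nat_lit 514))
)) (.node (nat_lit 0x706050403000201) (.node (nat_lit 0x706050304020100) (.leaf (nat_lit 0x706050304010002) (nat_lit 770))
 (.leaf (nat_lit 0x706050304020100) (nat_lit 258))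
) (.node (nat_lit 0x706050403010002) (.leaf (nat_lit 0x706050403000201) (nat_lit 256))
 (.node (nat_lit 0x706050403020100) (.leaf (nat_lit 0x706050403010002) (nat_lit 512))
 (.leaf (nat_lit 0x706050403020100) (nat_lit 0))
))))))

theorem K_ok : genOK A8.P8 [(nat_lit 0x706050403000201), (nat_lit 0x507060403020100), (nat_lit 0x706050304020100), (nat_lit 0x705060403020100)] K_t (nat_lit 36) = true := by decide +kernel

noncomputable def Cy_t : ST :=
(.node (nat_lit 0x507060304000201) (.node (nat_lit 0x100020403050706) (.node (nat_lit 0x2010403060507) (.node (nat_lit 0x2010304070605) (.node (nat_lit 0x2010304060507) (.leaf (nat_lit 0x2010304050706) (nat_lit 771))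
 (.leaf (nat_lit 0x2010304060507) (nat_lit 1027))
) (.node (nat_lit 0x2010403050706) (.leaf (nat_lit 0x2010304070605) (nat_lit 515))
 (.leaf (nat_lit 0x2010403050706) (nat_lit 1027))
)) (.node (nat_lit 0x100020304050706) (.node (nat_lit 0x2010403070605) (.leaf (nat_lit 0x2010403060507) (nat_lit 1283))
 (.leaf (nat_lit 0x2010403070605) (nat_lit 771))
) (.node (nat_lit 0x100020304060507) (.leaf (nat_lit 0x100020304050706) (nat_lit 1027))
 (.node (nat_lit 0x100020304070605) (.leaf (nat_lit 0x100020304060507) (nat_lit 1283))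
 (.leaf (nat_lit 0x100020304070605) (nat_lit 771))
)))) (.node (nat_lit 0x201000304060507) (.node (nat_lit 0x100020403070605) (.node (nat_lit 0x100020403060507) (.leaf (nat_lit 0x100020403050706) (nat_lit 1283))
 (.leaf (nat_lit 0x100020403060507) (nat_lit 1539))
) (.node (nat_lit 0x201000304050706) (.leaf (nat_lit 0x100020403070605) (nat_lit 1027))
 (.leaf (nat_lit 0x201000304050706) (nat_lit 515))
)) (.node (nat_lit 0x201000403050706) (.node (nat_lit 0x201000304070605) (.leaf (nat_lit 0x201000304060507) (nat_lit 771))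
 (.leaf (nat_lit 0x201000304070605) (nat_lit 259))
) (.node (nat_lit 0x201000403060507) (.leaf (nat_lit 0x201000403050706) (nat_lit 771))
 (.node (nat_lit 0x201000403070605) (.leaf (nat_lit 0x201000403060507) (nat_lit 1027))
 (.leaf (nat_lit 0x201000403070605) (nat_lit 515))
))))) (.node (nat_lit 0x605070403000201) (.node (nat_lit 0x507060403010002) (.node (nat_lit 0x507060304020100) (.node (nat_lit 0x507060304010002) (.leaf (nat_lit 0x507060304000201) (nat_lit 770))
 (.leaf (nat_lit 0x507060304010002) (nat_lit 1026))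
) (.node (nat_lit 0x507060403000201) (.leaf (nat_lit 0x507060304020100) (nat_lit 514))
 (.leaf (nat_lit 0x507060403000201) (nat_lit 513))
)) (.node (nat_lit 0x605070304000201) (.node (nat_lit 0x507060403020100) (.leaf (nat_lit 0x507060403010002) (nat_lit 769))
 (.leaf (nat_lit 0x507060403020100) (nat_lit 257))
) (.node (nat_lit 0x605070304010002) (.leaf (nat_lit 0x605070304000201) (nat_lit 1026))
 (.node (nat_lit 0x605070304020100) (.leaf (nat_lit 0x605070304010002) (nat_lit 1282))
 (.leaf (nat_lit 0x605070304020100) (nat_lit 770))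
)))) (.node (nat_lit 0x706050304010002) (.node (nat_lit 0x605070403020100) (.node (nat_lit 0x605070403010002) (.leaf (nat_lit 0x605070403000201) (nat_lit 769))
 (.leaf (nat_lit 0x605070403010002) (nat_lit 1025))
) (.node (nat_lit 0x706050304000201) (.leaf (nat_lit 0x605070403020100) (nat_lit 513))
 (.leaf (nat_lit 0x706050304000201) (nat_lit 514))
)) (.node (nat_lit 0x706050403000201) (.node (nat_lit 0x706050304020100) (.leaf (nat_lit 0x706050304010002) (nat_lit 770))
 (.leaf (nat_lit 0x706050304020100) (nat_lit 258))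
) (.node (nat_lit 0x706050403010002) (.leaf (nat_lit 0x706050403000201) (nat_lit 256))
 (.node (nat_lit 0x706050403020100) (.leaf (nat_lit 0x706050403010002) (nat_lit 512))
 (.leaf (nat_lit 0x706050403020100) (nat_lit 0))
))))))

theorem Cy_ok : genOK A8.P8 [(nat_lit 0x706050403000201), (nat_lit 0x507060403020100), (nat_lit 0x706050304020100), (nat_lit 0x201000304070605)] Cy_t (nat_lit 36) = true := by decide +kernel

noncomputable def W2_t : ST :=
(.node (nat_lit 0x507060304000201) (.node (nat_lit 0x100020403060507) (.node (nat_lit 0x2010403050706) (.leaf (nat_lit 0x2010304050706) (nat_lit 513))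
 (.node (nat_lit 0x100020304060507) (.leaf (nat_lit 0x2010403050706) (nat_lit 770))
 (.leaf (nat_lit 0x100020304060507) (nat_lit 769))
)) (.node (nat_lit 0x201000304070605) (.leaf (nat_lit 0x100020403060507) (nat_lit 1026))
 (.node (nat_lit 0x201000403070605) (.leaf (nat_lit 0x201000304070605) (nat_lit 257))
 (.leaf (nat_lit 0x201000403070605) (nat_lit 514))
))) (.node (nat_lit 0x605070403010002) (.node (nat_lit 0x507060403000201) (.leaf (nat_lit 0x507060304000201) (nat_lit 514))
 (.node (nat_lit 0x605070304010002) (.leaf (nat_lit 0x507060403000201) (nat_lit 256))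
 (.leaf (nat_lit 0x605070304010002) (nat_lit 770))
)) (.node (nat_lit 0x706050304020100) (.leaf (nat_lit 0x605070403010002) (nat_lit 512))
 (.node (nat_lit 0x706050403020100) (.leaf (nat_lit 0x706050304020100) (nat_lit 258))
 (.leaf (nat_lit 0x706050403020100) (nat_lit 0))
))))

theorem W2_ok : genOK A8.P8 [(nat_lit 0x507060403000201), (nat_lit 0x201000304070605), (nat_lit 0x706050304020100)] W2_t (nat_lit 12) = true := by decide +kernel

noncomputable def CT_t : ST :=
(.node (nat_lit 0x500010304020607) (.node (nat_lit 0x105060304000207) (.node (nat_lit 0x6070304010205) (.node (nat_lit 0x2070403010506) (.node (nat_lit 0x1070403050602) (.node (nat_lit 0x1050403070206) (.node (nat_lit 0x1020403070605) (.node (nat_lit 0x1020304070605) (.node (nat_lit 0x1020304060507) (.node (nat_lit 0x1020304050706) (.leaf (nat_lit 0x1020304050607) (nat_lit 4097))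
 (.leaf (nat_lit 0x1020304050706) (nat_lit 3841))
) (.node (nat_lit 0x1020304060705) (.leaf (nat_lit 0x1020304060507) (nat_lit 3841))
 (.node (nat_lit 0x1020304070506) (.leaf (nat_lit 0x1020304060705) (nat_lit 3585))
 (.leaf (nat_lit 0x1020304070506) (nat_lit 3585))
))) (.node (nat_lit 0x1020403060507) (.node (nat_lit 0x1020403050607) (.leaf (nat_lit 0x1020304070605) (nat_lit 3329))
 (.node (nat_lit 0x1020403050706) (.leaf (nat_lit 0x1020403050607) (nat_lit 3841))
 (.leaf (nat_lit 0x1020403050706) (nat_lit 3585))
)) (.node (nat_lit 0x1020403060705) (.leaf (nat_lit 0x1020403060507) (nat_lit 3585))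
 (.node (nat_lit 0x1020403070506) (.leaf (nat_lit 0x1020403060705) (nat_lit 3329))
 (.leaf (nat_lit 0x1020403070506) (nat_lit 3329))
)))) (.node (nat_lit 0x1050304070206) (.node (nat_lit 0x1050304020706) (.node (nat_lit 0x1050304020607) (.leaf (nat_lit 0x1020403070605) (nat_lit 3073))
 (.leaf (nat_lit 0x1050304020607) (nat_lit 3841))
) (.node (nat_lit 0x1050304060207) (.leaf (nat_lit 0x1050304020706) (nat_lit 3585))
 (.node (nat_lit 0x1050304060702) (.leaf (nat_lit 0x1050304060207) (nat_lit 3585))
 (.leaf (nat_lit 0x1050304060702) (nat_lit 3329))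
))) (.node (nat_lit 0x1050403020706) (.node (nat_lit 0x1050304070602) (.leaf (nat_lit 0x1050304070206) (nat_lit 3329))
 (.node (nat_lit 0x1050403020607) (.leaf (nat_lit 0x1050304070602) (nat_lit 3073))
 (.leaf (nat_lit 0x1050403020607) (nat_lit 3585))
)) (.node (nat_lit 0x1050403060207) (.leaf (nat_lit 0x1050403020706) (nat_lit 3329))
 (.node (nat_lit 0x1050403060702) (.leaf (nat_lit 0x1050403060207) (nat_lit 3329))
 (.leaf (nat_lit 0x1050403060702) (nat_lit 3073))
))))) (.node (nat_lit 0x1060403050702) (.node (nat_lit 0x1060304050702) (.node (nat_lit 0x1060304020507) (.node (nat_lit 0x1050403070602) (.leaf (nat_lit 0x1050403070206) (nat_lit 3073))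
 (.leaf (nat_lit 0x1050403070602) (nat_lit 2817))
) (.node (nat_lit 0x1060304020705) (.leaf (nat_lit 0x1060304020507) (nat_lit 3585))
 (.node (nat_lit 0x1060304050207) (.leaf (nat_lit 0x1060304020705) (nat_lit 3329))
 (.leaf (nat_lit 0x1060304050207) (nat_lit 3329))
))) (.node (nat_lit 0x1060403020507) (.node (nat_lit 0x1060304070205) (.leaf (nat_lit 0x1060304050702) (nat_lit 3073))
 (.node (nat_lit 0x1060304070502) (.leaf (nat_lit 0x1060304070205) (nat_lit 3073))
 (.leaf (nat_lit 0x1060304070502) (nat_lit 2817))
)) (.node (nat_lit 0x1060403020705) (.leaf (nat_lit 0x1060403020507) (nat_lit 3329))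
 (.node (nat_lit 0x1060403050207) (.leaf (nat_lit 0x1060403020705) (nat_lit 3073))
 (.leaf (nat_lit 0x1060403050207) (nat_lit 3073))
)))) (.node (nat_lit 0x1070304050602) (.node (nat_lit 0x1070304020506) (.node (nat_lit 0x1060403070205) (.leaf (nat_lit 0x1060403050702) (nat_lit 2817))
 (.node (nat_lit 0x1060403070502) (.leaf (nat_lit 0x1060403070205) (nat_lit 2817))
 (.leaf (nat_lit 0x1060403070502) (nat_lit 2561))
)) (.node (nat_lit 0x1070304020605) (.leaf (nat_lit 0x1070304020506) (nat_lit 3329))
 (.node (nat_lit 0x1070304050206) (.leaf (nat_lit 0x1070304020605) (nat_lit 3073))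
 (.leaf (nat_lit 0x1070304050206) (nat_lit 3073))
))) (.node (nat_lit 0x1070403020506) (.node (nat_lit 0x1070304060205) (.leaf (nat_lit 0x1070304050602) (nat_lit 2817))
 (.node (nat_lit 0x1070304060502) (.leaf (nat_lit 0x1070304060205) (nat_lit 2817))
 (.leaf (nat_lit 0x1070304060502) (nat_lit 2561))
)) (.node (nat_lit 0x1070403020605) (.leaf (nat_lit 0x1070403020506) (nat_lit 3073))
 (.node (nat_lit 0x1070403050206) (.leaf (nat_lit 0x1070403020605) (nat_lit 2817))
 (.leaf (nat_lit 0x1070403050206) (nat_lit 2817))
)))))) (.node (nat_lit 0x2050403010706) (.node (nat_lit 0x2010403060507) (.node (nat_lit 0x2010304060507) (.node (nat_lit 0x1070403060502) (.node (nat_lit 0x1070403060205) (.leaf (nat_lit 0x1070403050602) (nat_lit 2561))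
 (.leaf (nat_lit 0x1070403060205) (nat_lit 2561))
) (.node (nat_lit 0x2010304050607) (.leaf (nat_lit 0x1070403060502) (nat_lit 2305))
 (.node (nat_lit 0x2010304050706) (.leaf (nat_lit 0x2010304050607) (nat_lit 3841))
 (.leaf (nat_lit 0x2010304050706) (nat_lit 3585))
))) (.node (nat_lit 0x2010304070605) (.node (nat_lit 0x2010304060705) (.leaf (nat_lit 0x2010304060507) (nat_lit 3585))
 (.node (nat_lit 0x2010304070506) (.leaf (nat_lit 0x2010304060705) (nat_lit 3329))
 (.leaf (nat_lit 0x2010304070506) (nat_lit 3329))
)) (.node (nat_lit 0x2010403050607) (.leaf (nat_lit 0x2010304070605) (nat_lit 3073))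
 (.node (nat_lit 0x2010403050706) (.leaf (nat_lit 0x2010403050607) (nat_lit 3585))
 (.leaf (nat_lit 0x2010403050706) (nat_lit 3329))
)))) (.node (nat_lit 0x2050304010706) (.node (nat_lit 0x2010403070506) (.node (nat_lit 0x2010403060705) (.leaf (nat_lit 0x2010403060507) (nat_lit 3329))
 (.leaf (nat_lit 0x2010403060705) (nat_lit 3073))
) (.node (nat_lit 0x2010403070605) (.leaf (nat_lit 0x2010403070506) (nat_lit 3073))
 (.node (nat_lit 0x2050304010607) (.leaf (nat_lit 0x2010403070605) (nat_lit 2817))
 (.leaf (nat_lit 0x2050304010607) (nat_lit 3585))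
))) (.node (nat_lit 0x2050304070106) (.node (nat_lit 0x2050304060107) (.leaf (nat_lit 0x2050304010706) (nat_lit 3329))
 (.node (nat_lit 0x2050304060701) (.leaf (nat_lit 0x2050304060107) (nat_lit 3329))
 (.leaf (nat_lit 0x2050304060701) (nat_lit 3073))
)) (.node (nat_lit 0x2050304070601) (.leaf (nat_lit 0x2050304070106) (nat_lit 3073))
 (.node (nat_lit 0x2050403010607) (.leaf (nat_lit 0x2050304070601) (nat_lit 2817))
 (.leaf (nat_lit 0x2050403010607) (nat_lit 3329))
))))) (.node (nat_lit 0x2060403010507) (.node (nat_lit 0x2060304010507) (.node (nat_lit 0x2050403060701) (.node (nat_lit 0x2050403060107) (.leaf (nat_lit 0x2050403010706) (nat_lit 3073))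
 (.leaf (nat_lit 0x2050403060107) (nat_lit 3073))
) (.node (nat_lit 0x2050403070106) (.leaf (nat_lit 0x2050403060701) (nat_lit 2817))
 (.node (nat_lit 0x2050403070601) (.leaf (nat_lit 0x2050403070106) (nat_lit 2817))
 (.leaf (nat_lit 0x2050403070601) (nat_lit 2561))
))) (.node (nat_lit 0x2060304050701) (.node (nat_lit 0x2060304010705) (.leaf (nat_lit 0x2060304010507) (nat_lit 3329))
 (.node (nat_lit 0x2060304050107) (.leaf (nat_lit 0x2060304010705) (nat_lit 3073))
 (.leaf (nat_lit 0x2060304050107) (nat_lit 3073))
)) (.node (nat_lit 0x2060304070105) (.leaf (nat_lit 0x2060304050701) (nat_lit 2817))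
 (.node (nat_lit 0x2060304070501) (.leaf (nat_lit 0x2060304070105) (nat_lit 2817))
 (.leaf (nat_lit 0x2060304070501) (nat_lit 2561))
)))) (.node (nat_lit 0x2070304010506) (.node (nat_lit 0x2060403050701) (.node (nat_lit 0x2060403010705) (.leaf (nat_lit 0x2060403010507) (nat_lit 3073))
 (.node (nat_lit 0x2060403050107) (.leaf (nat_lit 0x2060403010705) (nat_lit 2817))
 (.leaf (nat_lit 0x2060403050107) (nat_lit 2817))
)) (.node (nat_lit 0x2060403070105) (.leaf (nat_lit 0x2060403050701) (nat_lit 2561))
 (.node (nat_lit 0x2060403070501) (.leaf (nat_lit 0x2060403070105) (nat_lit 2561))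
 (.leaf (nat_lit 0x2060403070501) (nat_lit 2305))
))) (.node (nat_lit 0x2070304050601) (.node (nat_lit 0x2070304010605) (.leaf (nat_lit 0x2070304010506) (nat_lit 3073))
 (.node (nat_lit 0x2070304050106) (.leaf (nat_lit 0x2070304010605) (nat_lit 2817))
 (.leaf (nat_lit 0x2070304050106) (nat_lit 2817))
)) (.node (nat_lit 0x2070304060105) (.leaf (nat_lit 0x2070304050601) (nat_lit 2561))
 (.node (nat_lit 0x2070304060501) (.leaf (nat_lit 0x2070304060105) (nat_lit 2561))
 (.leaf (nat_lit 0x2070304060501) (nat_lit 2305))
))))))) (.node (nat_lit 0x5070304020601) (.node (nat_lit 0x5020304070106) (.node (nat_lit 0x5010304070602) (.node (nat_lit 0x2070403060501) (.node (nat_lit 0x2070403050106) (.node (nat_lit 0x2070403010605) (.leaf (nat_lit 0x2070403010506) (nat_lit 2817))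
 (.leaf (nat_lit 0x2070403010605) (nat_lit 2561))
) (.node (nat_lit 0x2070403050601) (.leaf (nat_lit 0x2070403050106) (nat_lit 2561))
 (.node (nat_lit 0x2070403060105) (.leaf (nat_lit 0x2070403050601) (nat_lit 2305))
 (.leaf (nat_lit 0x2070403060105) (nat_lit 2305))
))) (.node (nat_lit 0x5010304060207) (.node (nat_lit 0x5010304020607) (.leaf (nat_lit 0x2070403060501) (nat_lit 2049))
 (.node (nat_lit 0x5010304020706) (.leaf (nat_lit 0x5010304020607) (nat_lit 3585))
 (.leaf (nat_lit 0x5010304020706) (nat_lit 3329))
)) (.node (nat_lit 0x5010304060702) (.leaf (nat_lit 0x5010304060207) (nat_lit 3329))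
 (.node (nat_lit 0x5010304070206) (.leaf (nat_lit 0x5010304060702) (nat_lit 3073))
 (.leaf (nat_lit 0x5010304070206) (nat_lit 3073))
)))) (.node (nat_lit 0x5010403070206) (.node (nat_lit 0x5010403020706) (.node (nat_lit 0x5010403020607) (.leaf (nat_lit 0x5010304070602) (nat_lit 2817))
 (.leaf (nat_lit 0x5010403020607) (nat_lit 3329))
) (.node (nat_lit 0x5010403060207) (.leaf (nat_lit 0x5010403020706) (nat_lit 3073))
 (.node (nat_lit 0x5010403060702) (.leaf (nat_lit 0x5010403060207) (nat_lit 3073))
 (.leaf (nat_lit 0x5010403060702) (nat_lit 2817))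
))) (.node (nat_lit 0x5020304010706) (.node (nat_lit 0x5010403070602) (.leaf (nat_lit 0x5010403070206) (nat_lit 2817))
 (.node (nat_lit 0x5020304010607) (.leaf (nat_lit 0x5010403070602) (nat_lit 2561))
 (.leaf (nat_lit 0x5020304010607) (nat_lit 3329))
)) (.node (nat_lit 0x5020304060107) (.leaf (nat_lit 0x5020304010706) (nat_lit 3073))
 (.node (nat_lit 0x5020304060701) (.leaf (nat_lit 0x5020304060107) (nat_lit 3073))
 (.leaf (nat_lit 0x5020304060701) (nat_lit 2817))
))))) (.node (nat_lit 0x5060304020701) (.node (nat_lit 0x5020403060701) (.node (nat_lit 0x5020403010607) (.node (nat_lit 0x5020304070601) (.leaf (nat_lit 0x5020304070106) (nat_lit 2817))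
 (.leaf (nat_lit 0x5020304070601) (nat_lit 2561))
) (.node (nat_lit 0x5020403010706) (.leaf (nat_lit 0x5020403010607) (nat_lit 3073))
 (.node (nat_lit 0x5020403060107) (.leaf (nat_lit 0x5020403010706) (nat_lit 2817))
 (.leaf (nat_lit 0x5020403060107) (nat_lit 2817))
))) (.node (nat_lit 0x5060304010207) (.node (nat_lit 0x5020403070106) (.leaf (nat_lit 0x5020403060701) (nat_lit 2561))
 (.node (nat_lit 0x5020403070601) (.leaf (nat_lit 0x5020403070106) (nat_lit 2561))
 (.leaf (nat_lit 0x5020403070601) (nat_lit 2305))
)) (.node (nat_lit 0x5060304010702) (.leaf (nat_lit 0x5060304010207) (nat_lit 3073))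
 (.node (nat_lit 0x5060304020107) (.leaf (nat_lit 0x5060304010702) (nat_lit 2817))
 (.leaf (nat_lit 0x5060304020107) (nat_lit 2817))
)))) (.node (nat_lit 0x5060403020701) (.node (nat_lit 0x5060403010207) (.node (nat_lit 0x5060304070102) (.leaf (nat_lit 0x5060304020701) (nat_lit 2561))
 (.node (nat_lit 0x5060304070201) (.leaf (nat_lit 0x5060304070102) (nat_lit 2561))
 (.leaf (nat_lit 0x5060304070201) (nat_lit 2305))
)) (.node (nat_lit 0x5060403010702) (.leaf (nat_lit 0x5060403010207) (nat_lit 2817))
 (.node (nat_lit 0x5060403020107) (.leaf (nat_lit 0x5060403010702) (nat_lit 2561))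
 (.leaf (nat_lit 0x5060403020107) (nat_lit 2561))
))) (.node (nat_lit 0x5070304010206) (.node (nat_lit 0x5060403070102) (.leaf (nat_lit 0x5060403020701) (nat_lit 2305))
 (.node (nat_lit 0x5060403070201) (.leaf (nat_lit 0x5060403070102) (nat_lit 2305))
 (.leaf (nat_lit 0x5060403070201) (nat_lit 2049))
)) (.node (nat_lit 0x5070304010602) (.leaf (nat_lit 0x5070304010206) (nat_lit 2817))
 (.node (nat_lit 0x5070304020106) (.leaf (nat_lit 0x5070304010602) (nat_lit 2561))
 (.leaf (nat_lit 0x5070304020106) (nat_lit 2561))
)))))) (.node (nat_lit 0x6020304010705) (.node (nat_lit 0x6010304050207) (.node (nat_lit 0x5070403020106) (.node (nat_lit 0x5070304060201) (.node (nat_lit 0x5070304060102) (.leaf (nat_lit 0x5070304020601) (nat_lit 2305))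
 (.leaf (nat_lit 0x5070304060102) (nat_lit 2305))
) (.node (nat_lit 0x5070403010206) (.leaf (nat_lit 0x5070304060201) (nat_lit 2049))
 (.node (nat_lit 0x5070403010602) (.leaf (nat_lit 0x5070403010206) (nat_lit 2561))
 (.leaf (nat_lit 0x5070403010602) (nat_lit 2305))
))) (.node (nat_lit 0x5070403060201) (.node (nat_lit 0x5070403020601) (.leaf (nat_lit 0x5070403020106) (nat_lit 2305))
 (.node (nat_lit 0x5070403060102) (.leaf (nat_lit 0x5070403020601) (nat_lit 2049))
 (.leaf (nat_lit 0x5070403060102) (nat_lit 2049))
)) (.node (nat_lit 0x6010304020507) (.leaf (nat_lit 0x5070403060201) (nat_lit 1793))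
 (.node (nat_lit 0x6010304020705) (.leaf (nat_lit 0x6010304020507) (nat_lit 3329))
 (.leaf (nat_lit 0x6010304020705) (nat_lit 3073))
)))) (.node (nat_lit 0x6010403020705) (.node (nat_lit 0x6010304070205) (.node (nat_lit 0x6010304050702) (.leaf (nat_lit 0x6010304050207) (nat_lit 3073))
 (.leaf (nat_lit 0x6010304050702) (nat_lit 2817))
) (.node (nat_lit 0x6010304070502) (.leaf (nat_lit 0x6010304070205) (nat_lit 2817))
 (.node (nat_lit 0x6010403020507) (.leaf (nat_lit 0x6010304070502) (nat_lit 2561))
 (.leaf (nat_lit 0x6010403020507) (nat_lit 3073))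
))) (.node (nat_lit 0x6010403070205) (.node (nat_lit 0x6010403050207) (.leaf (nat_lit 0x6010403020705) (nat_lit 2817))
 (.node (nat_lit 0x6010403050702) (.leaf (nat_lit 0x6010403050207) (nat_lit 2817))
 (.leaf (nat_lit 0x6010403050702) (nat_lit 2561))
)) (.node (nat_lit 0x6010403070502) (.leaf (nat_lit 0x6010403070205) (nat_lit 2561))
 (.node (nat_lit 0x6020304010507) (.leaf (nat_lit 0x6010403070502) (nat_lit 2305))
 (.leaf (nat_lit 0x6020304010507) (nat_lit 3073))
))))) (.node (nat_lit 0x6050304010207) (.node (nat_lit 0x6020403010507) (.node (nat_lit 0x6020304050701) (.node (nat_lit 0x6020304050107) (.leaf (nat_lit 0x6020304010705) (nat_lit 2817))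
 (.leaf (nat_lit 0x6020304050107) (nat_lit 2817))
) (.node (nat_lit 0x6020304070105) (.leaf (nat_lit 0x6020304050701) (nat_lit 2561))
 (.node (nat_lit 0x6020304070501) (.leaf (nat_lit 0x6020304070105) (nat_lit 2561))
 (.leaf (nat_lit 0x6020304070501) (nat_lit 2305))
))) (.node (nat_lit 0x6020403050701) (.node (nat_lit 0x6020403010705) (.leaf (nat_lit 0x6020403010507) (nat_lit 2817))
 (.node (nat_lit 0x6020403050107) (.leaf (nat_lit 0x6020403010705) (nat_lit 2561))
 (.leaf (nat_lit 0x6020403050107) (nat_lit 2561))
)) (.node (nat_lit 0x6020403070105) (.leaf (nat_lit 0x6020403050701) (nat_lit 2305))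
 (.node (nat_lit 0x6020403070501) (.leaf (nat_lit 0x6020403070105) (nat_lit 2305))
 (.leaf (nat_lit 0x6020403070501) (nat_lit 2049))
)))) (.node (nat_lit 0x6050403010207) (.node (nat_lit 0x6050304020701) (.node (nat_lit 0x6050304010702) (.leaf (nat_lit 0x6050304010207) (nat_lit 2817))
 (.node (nat_lit 0x6050304020107) (.leaf (nat_lit 0x6050304010702) (nat_lit 2561))
 (.leaf (nat_lit 0x6050304020107) (nat_lit 2561))
)) (.node (nat_lit 0x6050304070102) (.leaf (nat_lit 0x6050304020701) (nat_lit 2305))
 (.node (nat_lit 0x6050304070201) (.leaf (nat_lit 0x6050304070102) (nat_lit 2305))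
 (.leaf (nat_lit 0x6050304070201) (nat_lit 2049))
))) (.node (nat_lit 0x6050403020701) (.node (nat_lit 0x6050403010702) (.leaf (nat_lit 0x6050403010207) (nat_lit 2561))
 (.node (nat_lit 0x6050403020107) (.leaf (nat_lit 0x6050403010702) (nat_lit 2305))
 (.leaf (nat_lit 0x6050403020107) (nat_lit 2305))
)) (.node (nat_lit 0x6050403070102) (.leaf (nat_lit 0x6050403020701) (nat_lit 2049))
 (.node (nat_lit 0x6050403070201) (.leaf (nat_lit 0x6050403070102) (nat_lit 2049))
 (.leaf (nat_lit 0x6050403070201) (nat_lit 1793))
)))))))) (.node (nat_lit 0x100060403020507) (.node (nat_lit 0x7050403020601) (.node (nat_lit 0x7010403060205) (.node (nat_lit 0x6070403050201) (.node (nat_lit 0x6070304050201) (.node (nat_lit 0x6070304020105) (.node (nat_lit 0x6070304010502) (.leaf (nat_lit 0x6070304010205) (nat_lit 2561))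
 (.leaf (nat_lit 0x6070304010502) (nat_lit 2305))
) (.node (nat_lit 0x6070304020501) (.leaf (nat_lit 0x6070304020105) (nat_lit 2305))
 (.node (nat_lit 0x6070304050102) (.leaf (nat_lit 0x6070304020501) (nat_lit 2049))
 (.leaf (nat_lit 0x6070304050102) (nat_lit 2049))
))) (.node (nat_lit 0x6070403020105) (.node (nat_lit 0x6070403010205) (.leaf (nat_lit 0x6070304050201) (nat_lit 1793))
 (.node (nat_lit 0x6070403010502) (.leaf (nat_lit 0x6070403010205) (nat_lit 2305))
 (.leaf (nat_lit 0x6070403010502) (nat_lit 2049))
)) (.node (nat_lit 0x6070403020501) (.leaf (nat_lit 0x6070403020105) (nat_lit 2049))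
 (.node (nat_lit 0x6070403050102) (.leaf (nat_lit 0x6070403020501) (nat_lit 1793))
 (.leaf (nat_lit 0x6070403050102) (nat_lit 1793))
)))) (.node (nat_lit 0x7010304060205) (.node (nat_lit 0x7010304020605) (.node (nat_lit 0x7010304020506) (.leaf (nat_lit 0x6070403050201) (nat_lit 1537))
 (.leaf (nat_lit 0x7010304020506) (nat_lit 3073))
) (.node (nat_lit 0x7010304050206) (.leaf (nat_lit 0x7010304020605) (nat_lit 2817))
 (.node (nat_lit 0x7010304050602) (.leaf (nat_lit 0x7010304050206) (nat_lit 2817))
 (.leaf (nat_lit 0x7010304050602) (nat_lit 2561))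
))) (.node (nat_lit 0x7010403020605) (.node (nat_lit 0x7010304060502) (.leaf (nat_lit 0x7010304060205) (nat_lit 2561))
 (.node (nat_lit 0x7010403020506) (.leaf (nat_lit 0x7010304060502) (nat_lit 2305))
 (.leaf (nat_lit 0x7010403020506) (nat_lit 2817))
)) (.node (nat_lit 0x7010403050206) (.leaf (nat_lit 0x7010403020605) (nat_lit 2561))
 (.node (nat_lit 0x7010403050602) (.leaf (nat_lit 0x7010403050206) (nat_lit 2561))
 (.leaf (nat_lit 0x7010403050602) (nat_lit 2305))
))))) (.node (nat_lit 0x7020403050601) (.node (nat_lit 0x7020304050601) (.node (nat_lit 0x7020304010506) (.node (nat_lit 0x7010403060502) (.leaf (nat_lit 0x7010403060205) (nat_lit 2305))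
 (.leaf (nat_lit 0x7010403060502) (nat_lit 2049))
) (.node (nat_lit 0x7020304010605) (.leaf (nat_lit 0x7020304010506) (nat_lit 2817))
 (.node (nat_lit 0x7020304050106) (.leaf (nat_lit 0x7020304010605) (nat_lit 2561))
 (.leaf (nat_lit 0x7020304050106) (nat_lit 2561))
))) (.node (nat_lit 0x7020403010506) (.node (nat_lit 0x7020304060105) (.leaf (nat_lit 0x7020304050601) (nat_lit 2305))
 (.node (nat_lit 0x7020304060501) (.leaf (nat_lit 0x7020304060105) (nat_lit 2305))
 (.leaf (nat_lit 0x7020304060501) (nat_lit 2049))
)) (.node (nat_lit 0x7020403010605) (.leaf (nat_lit 0x7020403010506) (nat_lit 2561))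
 (.node (nat_lit 0x7020403050106) (.leaf (nat_lit 0x7020403010605) (nat_lit 2305))
 (.leaf (nat_lit 0x7020403050106) (nat_lit 2305))
)))) (.node (nat_lit 0x7050304020601) (.node (nat_lit 0x7050304010206) (.node (nat_lit 0x7020403060105) (.leaf (nat_lit 0x7020403050601) (nat_lit 2049))
 (.node (nat_lit 0x7020403060501) (.leaf (nat_lit 0x7020403060105) (nat_lit 2049))
 (.leaf (nat_lit 0x7020403060501) (nat_lit 1793))
)) (.node (nat_lit 0x7050304010602) (.leaf (nat_lit 0x7050304010206) (nat_lit 2561))
 (.node (nat_lit 0x7050304020106) (.leaf (nat_lit 0x7050304010602) (nat_lit 2305))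
 (.leaf (nat_lit 0x7050304020106) (nat_lit 2305))
))) (.node (nat_lit 0x7050403010206) (.node (nat_lit 0x7050304060102) (.leaf (nat_lit 0x7050304020601) (nat_lit 2049))
 (.node (nat_lit 0x7050304060201) (.leaf (nat_lit 0x7050304060102) (nat_lit 2049))
 (.leaf (nat_lit 0x7050304060201) (nat_lit 1793))
)) (.node (nat_lit 0x7050403010602) (.leaf (nat_lit 0x7050403010206) (nat_lit 2305))
 (.node (nat_lit 0x7050403020106) (.leaf (nat_lit 0x7050403010602) (nat_lit 2049))
 (.leaf (nat_lit 0x7050403020106) (nat_lit 2049))
)))))) (.node (nat_lit 0x100020403050706) (.node (nat_lit 0x7060403020105) (.node (nat_lit 0x7060304020105) (.node (nat_lit 0x7050403060201) (.node (nat_lit 0x7050403060102) (.leaf (nat_lit 0x7050403020601) (nat_lit 1793))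
 (.leaf (nat_lit 0x7050403060102) (nat_lit 1793))
) (.node (nat_lit 0x7060304010205) (.leaf (nat_lit 0x7050403060201) (nat_lit 1537))
 (.node (nat_lit 0x7060304010502) (.leaf (nat_lit 0x7060304010205) (nat_lit 2305))
 (.leaf (nat_lit 0x7060304010502) (nat_lit 2049))
))) (.node (nat_lit 0x7060304050201) (.node (nat_lit 0x7060304020501) (.leaf (nat_lit 0x7060304020105) (nat_lit 2049))
 (.node (nat_lit 0x7060304050102) (.leaf (nat_lit 0x7060304020501) (nat_lit 1793))
 (.leaf (nat_lit 0x7060304050102) (nat_lit 1793))
)) (.node (nat_lit 0x7060403010205) (.leaf (nat_lit 0x7060304050201) (nat_lit 1537))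
 (.node (nat_lit 0x7060403010502) (.leaf (nat_lit 0x7060403010205) (nat_lit 2049))
 (.leaf (nat_lit 0x7060403010502) (nat_lit 1793))
)))) (.node (nat_lit 0x100020304050706) (.node (nat_lit 0x7060403050102) (.node (nat_lit 0x7060403020501) (.leaf (nat_lit 0x7060403020105) (nat_lit 1793))
 (.leaf (nat_lit 0x7060403020501) (nat_lit 1537))
) (.node (nat_lit 0x7060403050201) (.leaf (nat_lit 0x7060403050102) (nat_lit 1537))
 (.node (nat_lit 0x100020304050607) (.leaf (nat_lit 0x7060403050201) (nat_lit 1281))
 (.leaf (nat_lit 0x100020304050607) (nat_lit 3842))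
))) (.node (nat_lit 0x100020304070506) (.node (nat_lit 0x100020304060507) (.leaf (nat_lit 0x100020304050706) (nat_lit 3586))
 (.node (nat_lit 0x100020304060705) (.leaf (nat_lit 0x100020304060507) (nat_lit 3586))
 (.leaf (nat_lit 0x100020304060705) (nat_lit 3330))
)) (.node (nat_lit 0x100020304070605) (.leaf (nat_lit 0x100020304070506) (nat_lit 3330))
 (.node (nat_lit 0x100020403050607) (.leaf (nat_lit 0x100020304070605) (nat_lit 3074))
 (.leaf (nat_lit 0x100020403050607) (nat_lit 3586))
))))) (.node (nat_lit 0x100050403020607) (.node (nat_lit 0x100050304020607) (.node (nat_lit 0x100020403060705) (.node (nat_lit 0x100020403060507) (.leaf (nat_lit 0x100020403050706) (nat_lit 3330))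
 (.leaf (nat_lit 0x100020403060507) (nat_lit 3330))
) (.node (nat_lit 0x100020403070506) (.leaf (nat_lit 0x100020403060705) (nat_lit 3074))
 (.node (nat_lit 0x100020403070605) (.leaf (nat_lit 0x100020403070506) (nat_lit 3074))
 (.leaf (nat_lit 0x100020403070605) (nat_lit 2818))
))) (.node (nat_lit 0x100050304060702) (.node (nat_lit 0x100050304020706) (.leaf (nat_lit 0x100050304020607) (nat_lit 3586))
 (.node (nat_lit 0x100050304060207) (.leaf (nat_lit 0x100050304020706) (nat_lit 3330))
 (.leaf (nat_lit 0x100050304060207) (nat_lit 3330))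
)) (.node (nat_lit 0x100050304070206) (.leaf (nat_lit 0x100050304060702) (nat_lit 3074))
 (.node (nat_lit 0x100050304070602) (.leaf (nat_lit 0x100050304070206) (nat_lit 3074))
 (.leaf (nat_lit 0x100050304070602) (nat_lit 2818))
)))) (.node (nat_lit 0x100060304020507) (.node (nat_lit 0x100050403060702) (.node (nat_lit 0x100050403020706) (.leaf (nat_lit 0x100050403020607) (nat_lit 3330))
 (.node (nat_lit 0x100050403060207) (.leaf (nat_lit 0x100050403020706) (nat_lit 3074))
 (.leaf (nat_lit 0x100050403060207) (nat_lit 3074))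
)) (.node (nat_lit 0x100050403070206) (.leaf (nat_lit 0x100050403060702) (nat_lit 2818))
 (.node (nat_lit 0x100050403070602) (.leaf (nat_lit 0x100050403070206) (nat_lit 2818))
 (.leaf (nat_lit 0x100050403070602) (nat_lit 2562))
))) (.node (nat_lit 0x100060304050702) (.node (nat_lit 0x100060304020705) (.leaf (nat_lit 0x100060304020507) (nat_lit 3330))
 (.node (nat_lit 0x100060304050207) (.leaf (nat_lit 0x100060304020705) (nat_lit 3074))
 (.leaf (nat_lit 0x100060304050207) (nat_lit 3074))
)) (.node (nat_lit 0x100060304070205) (.leaf (nat_lit 0x100060304050702) (nat_lit 2818))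
 (.node (nat_lit 0x100060304070502) (.leaf (nat_lit 0x100060304070205) (nat_lit 2818))
 (.leaf (nat_lit 0x100060304070502) (nat_lit 2562))
))))))) (.node (nat_lit 0x102060304050700) (.node (nat_lit 0x102000304070506) (.node (nat_lit 0x100070304060502) (.node (nat_lit 0x100060403070502) (.node (nat_lit 0x100060403050207) (.node (nat_lit 0x100060403020705) (.leaf (nat_lit 0x100060403020507) (nat_lit 3074))
 (.leaf (nat_lit 0x100060403020705) (nat_lit 2818))
) (.node (nat_lit 0x100060403050702) (.leaf (nat_lit 0x100060403050207) (nat_lit 2818))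
 (.node (nat_lit 0x100060403070205) (.leaf (nat_lit 0x100060403050702) (nat_lit 2562))
 (.leaf (nat_lit 0x100060403070205) (nat_lit 2562))
))) (.node (nat_lit 0x100070304050206) (.node (nat_lit 0x100070304020506) (.leaf (nat_lit 0x100060403070502) (nat_lit 2306))
 (.node (nat_lit 0x100070304020605) (.leaf (nat_lit 0x100070304020506) (nat_lit 3074))
 (.leaf (nat_lit 0x100070304020605) (nat_lit 2818))
)) (.node (nat_lit 0x100070304050602) (.leaf (nat_lit 0x100070304050206) (nat_lit 2818))
 (.node (nat_lit 0x100070304060205) (.leaf (nat_lit 0x100070304050602) (nat_lit 2562))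
 (.leaf (nat_lit 0x100070304060205) (nat_lit 2562))
)))) (.node (nat_lit 0x100070403060205) (.node (nat_lit 0x100070403020605) (.node (nat_lit 0x100070403020506) (.leaf (nat_lit 0x100070304060502) (nat_lit 2306))
 (.leaf (nat_lit 0x100070403020506) (nat_lit 2818))
) (.node (nat_lit 0x100070403050206) (.leaf (nat_lit 0x100070403020605) (nat_lit 2562))
 (.node (nat_lit 0x100070403050602) (.leaf (nat_lit 0x100070403050206) (nat_lit 2562))
 (.leaf (nat_lit 0x100070403050602) (nat_lit 2306))
))) (.node (nat_lit 0x102000304050706) (.node (nat_lit 0x100070403060502) (.leaf (nat_lit 0x100070403060205) (nat_lit 2306))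
 (.node (nat_lit 0x102000304050607) (.leaf (nat_lit 0x100070403060502) (nat_lit 2050))
 (.leaf (nat_lit 0x102000304050607) (nat_lit 3586))
)) (.node (nat_lit 0x102000304060507) (.leaf (nat_lit 0x102000304050706) (nat_lit 3330))
 (.node (nat_lit 0x102000304060705) (.leaf (nat_lit 0x102000304060507) (nat_lit 3330))
 (.leaf (nat_lit 0x102000304060705) (nat_lit 3074))
))))) (.node (nat_lit 0x102050304060700) (.node (nat_lit 0x102000403060705) (.node (nat_lit 0x102000403050607) (.node (nat_lit 0x102000304070605) (.leaf (nat_lit 0x102000304070506) (nat_lit 3074))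
 (.leaf (nat_lit 0x102000304070605) (nat_lit 2818))
) (.node (nat_lit 0x102000403050706) (.leaf (nat_lit 0x102000403050607) (nat_lit 3330))
 (.node (nat_lit 0x102000403060507) (.leaf (nat_lit 0x102000403050706) (nat_lit 3074))
 (.leaf (nat_lit 0x102000403060507) (nat_lit 3074))
))) (.node (nat_lit 0x102050304000607) (.node (nat_lit 0x102000403070506) (.leaf (nat_lit 0x102000403060705) (nat_lit 2818))
 (.node (nat_lit 0x102000403070605) (.leaf (nat_lit 0x102000403070506) (nat_lit 2818))
 (.leaf (nat_lit 0x102000403070605) (nat_lit 2562))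
)) (.node (nat_lit 0x102050304000706) (.leaf (nat_lit 0x102050304000607) (nat_lit 3330))
 (.node (nat_lit 0x102050304060007) (.leaf (nat_lit 0x102050304000706) (nat_lit 3074))
 (.leaf (nat_lit 0x102050304060007) (nat_lit 3074))
)))) (.node (nat_lit 0x102050403060700) (.node (nat_lit 0x102050403000607) (.node (nat_lit 0x102050304070006) (.leaf (nat_lit 0x102050304060700) (nat_lit 2818))
 (.node (nat_lit 0x102050304070600) (.leaf (nat_lit 0x102050304070006) (nat_lit 2818))
 (.leaf (nat_lit 0x102050304070600) (nat_lit 2562))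
)) (.node (nat_lit 0x102050403000706) (.leaf (nat_lit 0x102050403000607) (nat_lit 3074))
 (.node (nat_lit 0x102050403060007) (.leaf (nat_lit 0x102050403000706) (nat_lit 2818))
 (.leaf (nat_lit 0x102050403060007) (nat_lit 2818))
))) (.node (nat_lit 0x102060304000507) (.node (nat_lit 0x102050403070006) (.leaf (nat_lit 0x102050403060700) (nat_lit 2562))
 (.node (nat_lit 0x102050403070600) (.leaf (nat_lit 0x102050403070006) (nat_lit 2562))
 (.leaf (nat_lit 0x102050403070600) (nat_lit 2306))
)) (.node (nat_lit 0x102060304000705) (.leaf (nat_lit 0x102060304000507) (nat_lit 3074))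
 (.node (nat_lit 0x102060304050007) (.leaf (nat_lit 0x102060304000705) (nat_lit 2818))
 (.leaf (nat_lit 0x102060304050007) (nat_lit 2818))
)))))) (.node (nat_lit 0x105000304020706) (.node (nat_lit 0x102070304050006) (.node (nat_lit 0x102060403050007) (.node (nat_lit 0x102060304070500) (.node (nat_lit 0x102060304070005) (.leaf (nat_lit 0x102060304050700) (nat_lit 2562))
 (.leaf (nat_lit 0x102060304070005) (nat_lit 2562))
) (.node (nat_lit 0x102060403000507) (.leaf (nat_lit 0x102060304070500) (nat_lit 2306))
 (.node (nat_lit 0x102060403000705) (.leaf (nat_lit 0x102060403000507) (nat_lit 2818))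
 (.leaf (nat_lit 0x102060403000705) (nat_lit 2562))
))) (.node (nat_lit 0x102060403070500) (.node (nat_lit 0x102060403050700) (.leaf (nat_lit 0x102060403050007) (nat_lit 2562))
 (.node (nat_lit 0x102060403070005) (.leaf (nat_lit 0x102060403050700) (nat_lit 2306))
 (.leaf (nat_lit 0x102060403070005) (nat_lit 2306))
)) (.node (nat_lit 0x102070304000506) (.leaf (nat_lit 0x102060403070500) (nat_lit 2050))
 (.node (nat_lit 0x102070304000605) (.leaf (nat_lit 0x102070304000506) (nat_lit 2818))
 (.leaf (nat_lit 0x102070304000605) (nat_lit 2562))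
)))) (.node (nat_lit 0x102070403000605) (.node (nat_lit 0x102070304060005) (.node (nat_lit 0x102070304050600) (.leaf (nat_lit 0x102070304050006) (nat_lit 2562))
 (.leaf (nat_lit 0x102070304050600) (nat_lit 2306))
) (.node (nat_lit 0x102070304060500) (.leaf (nat_lit 0x102070304060005) (nat_lit 2306))
 (.node (nat_lit 0x102070403000506) (.leaf (nat_lit 0x102070304060500) (nat_lit 2050))
 (.leaf (nat_lit 0x102070403000506) (nat_lit 2562))
))) (.node (nat_lit 0x102070403060005) (.node (nat_lit 0x102070403050006) (.leaf (nat_lit 0x102070403000605) (nat_lit 2306))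
 (.node (nat_lit 0x102070403050600) (.leaf (nat_lit 0x102070403050006) (nat_lit 2306))
 (.leaf (nat_lit 0x102070403050600) (nat_lit 2050))
)) (.node (nat_lit 0x102070403060500) (.leaf (nat_lit 0x102070403060005) (nat_lit 2050))
 (.node (nat_lit 0x105000304020607) (.leaf (nat_lit 0x102070403060500) (nat_lit 1794))
 (.leaf (nat_lit 0x105000304020607) (nat_lit 3330))
))))) (.node (nat_lit 0x105020304000607) (.node (nat_lit 0x105000403020607) (.node (nat_lit 0x105000304060702) (.node (nat_lit 0x105000304060207) (.leaf (nat_lit 0x105000304020706) (nat_lit 3074))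
 (.leaf (nat_lit 0x105000304060207) (nat_lit 3074))
) (.node (nat_lit 0x105000304070206) (.leaf (nat_lit 0x105000304060702) (nat_lit 2818))
 (.node (nat_lit 0x105000304070602) (.leaf (nat_lit 0x105000304070206) (nat_lit 2818))
 (.leaf (nat_lit 0x105000304070602) (nat_lit 2562))
))) (.node (nat_lit 0x105000403060702) (.node (nat_lit 0x105000403020706) (.leaf (nat_lit 0x105000403020607) (nat_lit 3074))
 (.node (nat_lit 0x105000403060207) (.leaf (nat_lit 0x105000403020706) (nat_lit 2818))
 (.leaf (nat_lit 0x105000403060207) (nat_lit 2818))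
)) (.node (nat_lit 0x105000403070206) (.leaf (nat_lit 0x105000403060702) (nat_lit 2562))
 (.node (nat_lit 0x105000403070602) (.leaf (nat_lit 0x105000403070206) (nat_lit 2562))
 (.leaf (nat_lit 0x105000403070602) (nat_lit 2306))
)))) (.node (nat_lit 0x105020403000607) (.node (nat_lit 0x105020304060700) (.node (nat_lit 0x105020304000706) (.leaf (nat_lit 0x105020304000607) (nat_lit 3074))
 (.node (nat_lit 0x105020304060007) (.leaf (nat_lit 0x105020304000706) (nat_lit 2818))
 (.leaf (nat_lit 0x105020304060007) (nat_lit 2818))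
)) (.node (nat_lit 0x105020304070006) (.leaf (nat_lit 0x105020304060700) (nat_lit 2562))
 (.node (nat_lit 0x105020304070600) (.leaf (nat_lit 0x105020304070006) (nat_lit 2562))
 (.leaf (nat_lit 0x105020304070600) (nat_lit 2306))
))) (.node (nat_lit 0x105020403060700) (.node (nat_lit 0x105020403000706) (.leaf (nat_lit 0x105020403000607) (nat_lit 2818))
 (.node (nat_lit 0x105020403060007) (.leaf (nat_lit 0x105020403000706) (nat_lit 2562))
 (.leaf (nat_lit 0x105020403060007) (nat_lit 2562))
)) (.node (nat_lit 0x105020403070006) (.leaf (nat_lit 0x105020403060700) (nat_lit 2306))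
 (.node (nat_lit 0x105020403070600) (.leaf (nat_lit 0x105020403070006) (nat_lit 2306))
 (.leaf (nat_lit 0x105020403070600) (nat_lit 2050))
))))))))) (.node (nat_lit 0x201050304000607) (.node (nat_lit 0x107020403000506) (.node (nat_lit 0x106020403050700) (.node (nat_lit 0x105070403060002) (.node (nat_lit 0x105060403070200) (.node (nat_lit 0x105060304070200) (.node (nat_lit 0x105060304020007) (.node (nat_lit 0x105060304000702) (.leaf (nat_lit 0x105060304000207) (nat_lit 2818))
 (.leaf (nat_lit 0x105060304000702) (nat_lit 2562))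
) (.node (nat_lit 0x105060304020700) (.leaf (nat_lit 0x105060304020007) (nat_lit 2562))
 (.node (nat_lit 0x105060304070002) (.leaf (nat_lit 0x105060304020700) (nat_lit 2306))
 (.leaf (nat_lit 0x105060304070002) (nat_lit 2306))
))) (.node (nat_lit 0x105060403020007) (.node (nat_lit 0x105060403000207) (.leaf (nat_lit 0x105060304070200) (nat_lit 2050))
 (.node (nat_lit 0x105060403000702) (.leaf (nat_lit 0x105060403000207) (nat_lit 2562))
 (.leaf (nat_lit 0x105060403000702) (nat_lit 2306))
)) (.node (nat_lit 0x105060403020700) (.leaf (nat_lit 0x105060403020007) (nat_lit 2306))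
 (.node (nat_lit 0x105060403070002) (.leaf (nat_lit 0x105060403020700) (nat_lit 2050))
 (.leaf (nat_lit 0x105060403070002) (nat_lit 2050))
)))) (.node (nat_lit 0x105070304060002) (.node (nat_lit 0x105070304000602) (.node (nat_lit 0x105070304000206) (.leaf (nat_lit 0x105060403070200) (nat_lit 1794))
 (.leaf (nat_lit 0x105070304000206) (nat_lit 2562))
) (.node (nat_lit 0x105070304020006) (.leaf (nat_lit 0x105070304000602) (nat_lit 2306))
 (.node (nat_lit 0x105070304020600) (.leaf (nat_lit 0x105070304020006) (nat_lit 2306))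
 (.leaf (nat_lit 0x105070304020600) (nat_lit 2050))
))) (.node (nat_lit 0x105070403000602) (.node (nat_lit 0x105070304060200) (.leaf (nat_lit 0x105070304060002) (nat_lit 2050))
 (.node (nat_lit 0x105070403000206) (.leaf (nat_lit 0x105070304060200) (nat_lit 1794))
 (.leaf (nat_lit 0x105070403000206) (nat_lit 2306))
)) (.node (nat_lit 0x105070403020006) (.leaf (nat_lit 0x105070403000602) (nat_lit 2050))
 (.node (nat_lit 0x105070403020600) (.leaf (nat_lit 0x105070403020006) (nat_lit 2050))
 (.leaf (nat_lit 0x105070403020600) (nat_lit 1794))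
))))) (.node (nat_lit 0x106000403050702) (.node (nat_lit 0x106000304050702) (.node (nat_lit 0x106000304020507) (.node (nat_lit 0x105070403060200) (.leaf (nat_lit 0x105070403060002) (nat_lit 1794))
 (.leaf (nat_lit 0x105070403060200) (nat_lit 1538))
) (.node (nat_lit 0x106000304020705) (.leaf (nat_lit 0x106000304020507) (nat_lit 3074))
 (.node (nat_lit 0x106000304050207) (.leaf (nat_lit 0x106000304020705) (nat_lit 2818))
 (.leaf (nat_lit 0x106000304050207) (nat_lit 2818))
))) (.node (nat_lit 0x106000403020507) (.node (nat_lit 0x106000304070205) (.leaf (nat_lit 0x106000304050702) (nat_lit 2562))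
 (.node (nat_lit 0x106000304070502) (.leaf (nat_lit 0x106000304070205) (nat_lit 2562))
 (.leaf (nat_lit 0x106000304070502) (nat_lit 2306))
)) (.node (nat_lit 0x106000403020705) (.leaf (nat_lit 0x106000403020507) (nat_lit 2818))
 (.node (nat_lit 0x106000403050207) (.leaf (nat_lit 0x106000403020705) (nat_lit 2562))
 (.leaf (nat_lit 0x106000403050207) (nat_lit 2562))
)))) (.node (nat_lit 0x106020304050700) (.node (nat_lit 0x106020304000507) (.node (nat_lit 0x106000403070205) (.leaf (nat_lit 0x106000403050702) (nat_lit 2306))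
 (.node (nat_lit 0x106000403070502) (.leaf (nat_lit 0x106000403070205) (nat_lit 2306))
 (.leaf (nat_lit 0x106000403070502) (nat_lit 2050))
)) (.node (nat_lit 0x106020304000705) (.leaf (nat_lit 0x106020304000507) (nat_lit 2818))
 (.node (nat_lit 0x106020304050007) (.leaf (nat_lit 0x106020304000705) (nat_lit 2562))
 (.leaf (nat_lit 0x106020304050007) (nat_lit 2562))
))) (.node (nat_lit 0x106020403000507) (.node (nat_lit 0x106020304070005) (.leaf (nat_lit 0x106020304050700) (nat_lit 2306))
 (.node (nat_lit 0x106020304070500) (.leaf (nat_lit 0x106020304070005) (nat_lit 2306))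
 (.leaf (nat_lit 0x106020304070500) (nat_lit 2050))
)) (.node (nat_lit 0x106020403000705) (.leaf (nat_lit 0x106020403000507) (nat_lit 2562))
 (.node (nat_lit 0x106020403050007) (.leaf (nat_lit 0x106020403000705) (nat_lit 2306))
 (.leaf (nat_lit 0x106020403050007) (nat_lit 2306))
)))))) (.node (nat_lit 0x106070403000502) (.node (nat_lit 0x106050403020007) (.node (nat_lit 0x106050304020007) (.node (nat_lit 0x106020403070500) (.node (nat_lit 0x106020403070005) (.leaf (nat_lit 0x106020403050700) (nat_lit 2050))
 (.leaf (nat_lit 0x106020403070005) (nat_lit 2050))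
) (.node (nat_lit 0x106050304000207) (.leaf (nat_lit 0x106020403070500) (nat_lit 1794))
 (.node (nat_lit 0x106050304000702) (.leaf (nat_lit 0x106050304000207) (nat_lit 2562))
 (.leaf (nat_lit 0x106050304000702) (nat_lit 2306))
))) (.node (nat_lit 0x106050304070200) (.node (nat_lit 0x106050304020700) (.leaf (nat_lit 0x106050304020007) (nat_lit 2306))
 (.node (nat_lit 0x106050304070002) (.leaf (nat_lit 0x106050304020700) (nat_lit 2050))
 (.leaf (nat_lit 0x106050304070002) (nat_lit 2050))
)) (.node (nat_lit 0x106050403000207) (.leaf (nat_lit 0x106050304070200) (nat_lit 1794))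
 (.node (nat_lit 0x106050403000702) (.leaf (nat_lit 0x106050403000207) (nat_lit 2306))
 (.leaf (nat_lit 0x106050403000702) (nat_lit 2050))
)))) (.node (nat_lit 0x106070304000502) (.node (nat_lit 0x106050403070002) (.node (nat_lit 0x106050403020700) (.leaf (nat_lit 0x106050403020007) (nat_lit 2050))
 (.leaf (nat_lit 0x106050403020700) (nat_lit 1794))
) (.node (nat_lit 0x106050403070200) (.leaf (nat_lit 0x106050403070002) (nat_lit 1794))
 (.node (nat_lit 0x106070304000205) (.leaf (nat_lit 0x106050403070200) (nat_lit 1538))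
 (.leaf (nat_lit 0x106070304000205) (nat_lit 2306))
))) (.node (nat_lit 0x106070304050002) (.node (nat_lit 0x106070304020005) (.leaf (nat_lit 0x106070304000502) (nat_lit 2050))
 (.node (nat_lit 0x106070304020500) (.leaf (nat_lit 0x106070304020005) (nat_lit 2050))
 (.leaf (nat_lit 0x106070304020500) (nat_lit 1794))
)) (.node (nat_lit 0x106070304050200) (.leaf (nat_lit 0x106070304050002) (nat_lit 1794))
 (.node (nat_lit 0x106070403000205) (.leaf (nat_lit 0x106070304050200) (nat_lit 1538))
 (.leaf (nat_lit 0x106070403000205) (nat_lit 2050))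
))))) (.node (nat_lit 0x107000403020506) (.node (nat_lit 0x107000304020506) (.node (nat_lit 0x106070403020500) (.node (nat_lit 0x106070403020005) (.leaf (nat_lit 0x106070403000502) (nat_lit 1794))
 (.leaf (nat_lit 0x106070403020005) (nat_lit 1794))
) (.node (nat_lit 0x106070403050002) (.leaf (nat_lit 0x106070403020500) (nat_lit 1538))
 (.node (nat_lit 0x106070403050200) (.leaf (nat_lit 0x106070403050002) (nat_lit 1538))
 (.leaf (nat_lit 0x106070403050200) (nat_lit 1282))
))) (.node (nat_lit 0x107000304050602) (.node (nat_lit 0x107000304020605) (.leaf (nat_lit 0x107000304020506) (nat_lit 2818))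
 (.node (nat_lit 0x107000304050206) (.leaf (nat_lit 0x107000304020605) (nat_lit 2562))
 (.leaf (nat_lit 0x107000304050206) (nat_lit 2562))
)) (.node (nat_lit 0x107000304060205) (.leaf (nat_lit 0x107000304050602) (nat_lit 2306))
 (.node (nat_lit 0x107000304060502) (.leaf (nat_lit 0x107000304060205) (nat_lit 2306))
 (.leaf (nat_lit 0x107000304060502) (nat_lit 2050))
)))) (.node (nat_lit 0x107020304000506) (.node (nat_lit 0x107000403050602) (.node (nat_lit 0x107000403020605) (.leaf (nat_lit 0x107000403020506) (nat_lit 2562))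
 (.node (nat_lit 0x107000403050206) (.leaf (nat_lit 0x107000403020605) (nat_lit 2306))
 (.leaf (nat_lit 0x107000403050206) (nat_lit 2306))
)) (.node (nat_lit 0x107000403060205) (.leaf (nat_lit 0x107000403050602) (nat_lit 2050))
 (.node (nat_lit 0x107000403060502) (.leaf (nat_lit 0x107000403060205) (nat_lit 2050))
 (.leaf (nat_lit 0x107000403060502) (nat_lit 1794))
))) (.node (nat_lit 0x107020304050600) (.node (nat_lit 0x107020304000605) (.leaf (nat_lit 0x107020304000506) (nat_lit 2562))
 (.node (nat_lit 0x107020304050006) (.leaf (nat_lit 0x107020304000605) (nat_lit 2306))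
 (.leaf (nat_lit 0x107020304050006) (nat_lit 2306))
)) (.node (nat_lit 0x107020304060005) (.leaf (nat_lit 0x107020304050600) (nat_lit 2050))
 (.node (nat_lit 0x107020304060500) (.leaf (nat_lit 0x107020304060005) (nat_lit 2050))
 (.leaf (nat_lit 0x107020304060500) (nat_lit 1794))
))))))) (.node (nat_lit 0x200050304060701) (.node (nat_lit 0x107060304050002) (.node (nat_lit 0x107050304060200) (.node (nat_lit 0x107020403060500) (.node (nat_lit 0x107020403050006) (.node (nat_lit 0x107020403000605) (.leaf (nat_lit 0x107020403000506) (nat_lit 2306))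
 (.leaf (nat_lit 0x107020403000605) (nat_lit 2050))
) (.node (nat_lit 0x107020403050600) (.leaf (nat_lit 0x107020403050006) (nat_lit 2050))
 (.node (nat_lit 0x107020403060005) (.leaf (nat_lit 0x107020403050600) (nat_lit 1794))
 (.leaf (nat_lit 0x107020403060005) (nat_lit 1794))
))) (.node (nat_lit 0x107050304020006) (.node (nat_lit 0x107050304000206) (.leaf (nat_lit 0x107020403060500) (nat_lit 1538))
 (.node (nat_lit 0x107050304000602) (.leaf (nat_lit 0x107050304000206) (nat_lit 2306))
 (.leaf (nat_lit 0x107050304000602) (nat_lit 2050))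
)) (.node (nat_lit 0x107050304020600) (.leaf (nat_lit 0x107050304020006) (nat_lit 2050))
 (.node (nat_lit 0x107050304060002) (.leaf (nat_lit 0x107050304020600) (nat_lit 1794))
 (.leaf (nat_lit 0x107050304060002) (nat_lit 1794))
)))) (.node (nat_lit 0x107050403060002) (.node (nat_lit 0x107050403000602) (.node (nat_lit 0x107050403000206) (.leaf (nat_lit 0x107050304060200) (nat_lit 1538))
 (.leaf (nat_lit 0x107050403000206) (nat_lit 2050))
) (.node (nat_lit 0x107050403020006) (.leaf (nat_lit 0x107050403000602) (nat_lit 1794))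
 (.node (nat_lit 0x107050403020600) (.leaf (nat_lit 0x107050403020006) (nat_lit 1794))
 (.leaf (nat_lit 0x107050403020600) (nat_lit 1538))
))) (.node (nat_lit 0x107060304000502) (.node (nat_lit 0x107050403060200) (.leaf (nat_lit 0x107050403060002) (nat_lit 1538))
 (.node (nat_lit 0x107060304000205) (.leaf (nat_lit 0x107050403060200) (nat_lit 1282))
 (.leaf (nat_lit 0x107060304000205) (nat_lit 2050))
)) (.node (nat_lit 0x107060304020005) (.leaf (nat_lit 0x107060304000502) (nat_lit 1794))
 (.node (nat_lit 0x107060304020500) (.leaf (nat_lit 0x107060304020005) (nat_lit 1794))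
 (.leaf (nat_lit 0x107060304020500) (nat_lit 1538))
))))) (.node (nat_lit 0x200010304060705) (.node (nat_lit 0x107060403020500) (.node (nat_lit 0x107060403000205) (.node (nat_lit 0x107060304050200) (.leaf (nat_lit 0x107060304050002) (nat_lit 1538))
 (.leaf (nat_lit 0x107060304050200) (nat_lit 1282))
) (.node (nat_lit 0x107060403000502) (.leaf (nat_lit 0x107060403000205) (nat_lit 1794))
 (.node (nat_lit 0x107060403020005) (.leaf (nat_lit 0x107060403000502) (nat_lit 1538))
 (.leaf (nat_lit 0x107060403020005) (nat_lit 1538))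
))) (.node (nat_lit 0x200010304050607) (.node (nat_lit 0x107060403050002) (.leaf (nat_lit 0x107060403020500) (nat_lit 1282))
 (.node (nat_lit 0x107060403050200) (.leaf (nat_lit 0x107060403050002) (nat_lit 1282))
 (.leaf (nat_lit 0x107060403050200) (nat_lit 1026))
)) (.node (nat_lit 0x200010304050706) (.leaf (nat_lit 0x200010304050607) (nat_lit 3587))
 (.node (nat_lit 0x200010304060507) (.leaf (nat_lit 0x200010304050706) (nat_lit 3331))
 (.leaf (nat_lit 0x200010304060507) (nat_lit 3331))
)))) (.node (nat_lit 0x200010403060705) (.node (nat_lit 0x200010403050607) (.node (nat_lit 0x200010304070506) (.leaf (nat_lit 0x200010304060705) (nat_lit 3075))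
 (.node (nat_lit 0x200010304070605) (.leaf (nat_lit 0x200010304070506) (nat_lit 3075))
 (.leaf (nat_lit 0x200010304070605) (nat_lit 2819))
)) (.node (nat_lit 0x200010403050706) (.leaf (nat_lit 0x200010403050607) (nat_lit 3331))
 (.node (nat_lit 0x200010403060507) (.leaf (nat_lit 0x200010403050706) (nat_lit 3075))
 (.leaf (nat_lit 0x200010403060507) (nat_lit 3075))
))) (.node (nat_lit 0x200050304010607) (.node (nat_lit 0x200010403070506) (.leaf (nat_lit 0x200010403060705) (nat_lit 2819))
 (.node (nat_lit 0x200010403070605) (.leaf (nat_lit 0x200010403070506) (nat_lit 2819))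
 (.leaf (nat_lit 0x200010403070605) (nat_lit 2563))
)) (.node (nat_lit 0x200050304010706) (.leaf (nat_lit 0x200050304010607) (nat_lit 3331))
 (.node (nat_lit 0x200050304060107) (.leaf (nat_lit 0x200050304010706) (nat_lit 3075))
 (.leaf (nat_lit 0x200050304060107) (nat_lit 3075))
)))))) (.node (nat_lit 0x200070304010605) (.node (nat_lit 0x200060304050107) (.node (nat_lit 0x200050403060107) (.node (nat_lit 0x200050304070601) (.node (nat_lit 0x200050304070106) (.leaf (nat_lit 0x200050304060701) (nat_lit 2819))
 (.leaf (nat_lit 0x200050304070106) (nat_lit 2819))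
) (.node (nat_lit 0x200050403010607) (.leaf (nat_lit 0x200050304070601) (nat_lit 2563))
 (.node (nat_lit 0x200050403010706) (.leaf (nat_lit 0x200050403010607) (nat_lit 3075))
 (.leaf (nat_lit 0x200050403010706) (nat_lit 2819))
))) (.node (nat_lit 0x200050403070601) (.node (nat_lit 0x200050403060701) (.leaf (nat_lit 0x200050403060107) (nat_lit 2819))
 (.node (nat_lit 0x200050403070106) (.leaf (nat_lit 0x200050403060701) (nat_lit 2563))
 (.leaf (nat_lit 0x200050403070106) (nat_lit 2563))
)) (.node (nat_lit 0x200060304010507) (.leaf (nat_lit 0x200050403070601) (nat_lit 2307))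
 (.node (nat_lit 0x200060304010705) (.leaf (nat_lit 0x200060304010507) (nat_lit 3075))
 (.leaf (nat_lit 0x200060304010705) (nat_lit 2819))
)))) (.node (nat_lit 0x200060403010705) (.node (nat_lit 0x200060304070105) (.node (nat_lit 0x200060304050701) (.leaf (nat_lit 0x200060304050107) (nat_lit 2819))
 (.leaf (nat_lit 0x200060304050701) (nat_lit 2563))
) (.node (nat_lit 0x200060304070501) (.leaf (nat_lit 0x200060304070105) (nat_lit 2563))
 (.node (nat_lit 0x200060403010507) (.leaf (nat_lit 0x200060304070501) (nat_lit 2307))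
 (.leaf (nat_lit 0x200060403010507) (nat_lit 2819))
))) (.node (nat_lit 0x200060403070105) (.node (nat_lit 0x200060403050107) (.leaf (nat_lit 0x200060403010705) (nat_lit 2563))
 (.node (nat_lit 0x200060403050701) (.leaf (nat_lit 0x200060403050107) (nat_lit 2563))
 (.leaf (nat_lit 0x200060403050701) (nat_lit 2307))
)) (.node (nat_lit 0x200060403070501) (.leaf (nat_lit 0x200060403070105) (nat_lit 2307))
 (.node (nat_lit 0x200070304010506) (.leaf (nat_lit 0x200060403070501) (nat_lit 2051))
 (.leaf (nat_lit 0x200070304010506) (nat_lit 2819))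
))))) (.node (nat_lit 0x201000304050607) (.node (nat_lit 0x200070403010506) (.node (nat_lit 0x200070304050601) (.node (nat_lit 0x200070304050106) (.leaf (nat_lit 0x200070304010605) (nat_lit 2563))
 (.leaf (nat_lit 0x200070304050106) (nat_lit 2563))
) (.node (nat_lit 0x200070304060105) (.leaf (nat_lit 0x200070304050601) (nat_lit 2307))
 (.node (nat_lit 0x200070304060501) (.leaf (nat_lit 0x200070304060105) (nat_lit 2307))
 (.leaf (nat_lit 0x200070304060501) (nat_lit 2051))
))) (.node (nat_lit 0x200070403050601) (.node (nat_lit 0x200070403010605) (.leaf (nat_lit 0x200070403010506) (nat_lit 2563))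
 (.node (nat_lit 0x200070403050106) (.leaf (nat_lit 0x200070403010605) (nat_lit 2307))
 (.leaf (nat_lit 0x200070403050106) (nat_lit 2307))
)) (.node (nat_lit 0x200070403060105) (.leaf (nat_lit 0x200070403050601) (nat_lit 2051))
 (.node (nat_lit 0x200070403060501) (.leaf (nat_lit 0x200070403060105) (nat_lit 2051))
 (.leaf (nat_lit 0x200070403060501) (nat_lit 1795))
)))) (.node (nat_lit 0x201000403050607) (.node (nat_lit 0x201000304060705) (.node (nat_lit 0x201000304050706) (.leaf (nat_lit 0x201000304050607) (nat_lit 3331))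
 (.node (nat_lit 0x201000304060507) (.leaf (nat_lit 0x201000304050706) (nat_lit 3075))
 (.leaf (nat_lit 0x201000304060507) (nat_lit 3075))
)) (.node (nat_lit 0x201000304070506) (.leaf (nat_lit 0x201000304060705) (nat_lit 2819))
 (.node (nat_lit 0x201000304070605) (.leaf (nat_lit 0x201000304070506) (nat_lit 2819))
 (.leaf (nat_lit 0x201000304070605) (nat_lit 2563))
))) (.node (nat_lit 0x201000403060705) (.node (nat_lit 0x201000403050706) (.leaf (nat_lit 0x201000403050607) (nat_lit 3075))
 (.node (nat_lit 0x201000403060507) (.leaf (nat_lit 0x201000403050706) (nat_lit 2819))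
 (.leaf (nat_lit 0x201000403060507) (nat_lit 2819))
)) (.node (nat_lit 0x201000403070506) (.leaf (nat_lit 0x201000403060705) (nat_lit 2563))
 (.node (nat_lit 0x201000403070605) (.leaf (nat_lit 0x201000403070506) (nat_lit 2563))
 (.leaf (nat_lit 0x201000403070605) (nat_lit 2307))
)))))))) (.node (nat_lit 0x206000403010507) (.node (nat_lit 0x205000403060701) (.node (nat_lit 0x201060403070005) (.node (nat_lit 0x201050403070600) (.node (nat_lit 0x201050304070600) (.node (nat_lit 0x201050304060007) (.node (nat_lit 0x201050304000706) (.leaf (nat_lit 0x201050304000607) (nat_lit 3075))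
 (.leaf (nat_lit 0x201050304000706) (nat_lit 2819))
) (.node (nat_lit 0x201050304060700) (.leaf (nat_lit 0x201050304060007) (nat_lit 2819))
 (.node (nat_lit 0x201050304070006) (.leaf (nat_lit 0x201050304060700) (nat_lit 2563))
 (.leaf (nat_lit 0x201050304070006) (nat_lit 2563))
))) (.node (nat_lit 0x201050403060007) (.node (nat_lit 0x201050403000607) (.leaf (nat_lit 0x201050304070600) (nat_lit 2307))
 (.node (nat_lit 0x201050403000706) (.leaf (nat_lit 0x201050403000607) (nat_lit 2819))
 (.leaf (nat_lit 0x201050403000706) (nat_lit 2563))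
)) (.node (nat_lit 0x201050403060700) (.leaf (nat_lit 0x201050403060007) (nat_lit 2563))
 (.node (nat_lit 0x201050403070006) (.leaf (nat_lit 0x201050403060700) (nat_lit 2307))
 (.leaf (nat_lit 0x201050403070006) (nat_lit 2307))
)))) (.node (nat_lit 0x201060304070005) (.node (nat_lit 0x201060304000705) (.node (nat_lit 0x201060304000507) (.leaf (nat_lit 0x201050403070600) (nat_lit 2051))
 (.leaf (nat_lit 0x201060304000507) (nat_lit 2819))
) (.node (nat_lit 0x201060304050007) (.leaf (nat_lit 0x201060304000705) (nat_lit 2563))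
 (.node (nat_lit 0x201060304050700) (.leaf (nat_lit 0x201060304050007) (nat_lit 2563))
 (.leaf (nat_lit 0x201060304050700) (nat_lit 2307))
))) (.node (nat_lit 0x201060403000705) (.node (nat_lit 0x201060304070500) (.leaf (nat_lit 0x201060304070005) (nat_lit 2307))
 (.node (nat_lit 0x201060403000507) (.leaf (nat_lit 0x201060304070500) (nat_lit 2051))
 (.leaf (nat_lit 0x201060403000507) (nat_lit 2563))
)) (.node (nat_lit 0x201060403050007) (.leaf (nat_lit 0x201060403000705) (nat_lit 2307))
 (.node (nat_lit 0x201060403050700) (.leaf (nat_lit 0x201060403050007) (nat_lit 2307))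
 (.leaf (nat_lit 0x201060403050700) (nat_lit 2051))
))))) (.node (nat_lit 0x201070403050600) (.node (nat_lit 0x201070304050600) (.node (nat_lit 0x201070304000506) (.node (nat_lit 0x201060403070500) (.leaf (nat_lit 0x201060403070005) (nat_lit 2051))
 (.leaf (nat_lit 0x201060403070500) (nat_lit 1795))
) (.node (nat_lit 0x201070304000605) (.leaf (nat_lit 0x201070304000506) (nat_lit 2563))
 (.node (nat_lit 0x201070304050006) (.leaf (nat_lit 0x201070304000605) (nat_lit 2307))
 (.leaf (nat_lit 0x201070304050006) (nat_lit 2307))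
))) (.node (nat_lit 0x201070403000506) (.node (nat_lit 0x201070304060005) (.leaf (nat_lit 0x201070304050600) (nat_lit 2051))
 (.node (nat_lit 0x201070304060500) (.leaf (nat_lit 0x201070304060005) (nat_lit 2051))
 (.leaf (nat_lit 0x201070304060500) (nat_lit 1795))
)) (.node (nat_lit 0x201070403000605) (.leaf (nat_lit 0x201070403000506) (nat_lit 2307))
 (.node (nat_lit 0x201070403050006) (.leaf (nat_lit 0x201070403000605) (nat_lit 2051))
 (.leaf (nat_lit 0x201070403050006) (nat_lit 2051))
)))) (.node (nat_lit 0x205000304060701) (.node (nat_lit 0x205000304010607) (.node (nat_lit 0x201070403060005) (.leaf (nat_lit 0x201070403050600) (nat_lit 1795))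
 (.node (nat_lit 0x201070403060500) (.leaf (nat_lit 0x201070403060005) (nat_lit 1795))
 (.leaf (nat_lit 0x201070403060500) (nat_lit 1539))
)) (.node (nat_lit 0x205000304010706) (.leaf (nat_lit 0x205000304010607) (nat_lit 3075))
 (.node (nat_lit 0x205000304060107) (.leaf (nat_lit 0x205000304010706) (nat_lit 2819))
 (.leaf (nat_lit 0x205000304060107) (nat_lit 2819))
))) (.node (nat_lit 0x205000403010607) (.node (nat_lit 0x205000304070106) (.leaf (nat_lit 0x205000304060701) (nat_lit 2563))
 (.node (nat_lit 0x205000304070601) (.leaf (nat_lit 0x205000304070106) (nat_lit 2563))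
 (.leaf (nat_lit 0x205000304070601) (nat_lit 2307))
)) (.node (nat_lit 0x205000403010706) (.leaf (nat_lit 0x205000403010607) (nat_lit 2819))
 (.node (nat_lit 0x205000403060107) (.leaf (nat_lit 0x205000403010706) (nat_lit 2563))
 (.leaf (nat_lit 0x205000403060107) (nat_lit 2563))
)))))) (.node (nat_lit 0x205060403000701) (.node (nat_lit 0x205010403060007) (.node (nat_lit 0x205010304060007) (.node (nat_lit 0x205000403070601) (.node (nat_lit 0x205000403070106) (.leaf (nat_lit 0x205000403060701) (nat_lit 2307))
 (.leaf (nat_lit 0x205000403070106) (nat_lit 2307))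
) (.node (nat_lit 0x205010304000607) (.leaf (nat_lit 0x205000403070601) (nat_lit 2051))
 (.node (nat_lit 0x205010304000706) (.leaf (nat_lit 0x205010304000607) (nat_lit 2819))
 (.leaf (nat_lit 0x205010304000706) (nat_lit 2563))
))) (.node (nat_lit 0x205010304070600) (.node (nat_lit 0x205010304060700) (.leaf (nat_lit 0x205010304060007) (nat_lit 2563))
 (.node (nat_lit 0x205010304070006) (.leaf (nat_lit 0x205010304060700) (nat_lit 2307))
 (.leaf (nat_lit 0x205010304070006) (nat_lit 2307))
)) (.node (nat_lit 0x205010403000607) (.leaf (nat_lit 0x205010304070600) (nat_lit 2051))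
 (.node (nat_lit 0x205010403000706) (.leaf (nat_lit 0x205010403000607) (nat_lit 2563))
 (.leaf (nat_lit 0x205010403000706) (nat_lit 2307))
)))) (.node (nat_lit 0x205060304000701) (.node (nat_lit 0x205010403070006) (.node (nat_lit 0x205010403060700) (.leaf (nat_lit 0x205010403060007) (nat_lit 2307))
 (.leaf (nat_lit 0x205010403060700) (nat_lit 2051))
) (.node (nat_lit 0x205010403070600) (.leaf (nat_lit 0x205010403070006) (nat_lit 2051))
 (.node (nat_lit 0x205060304000107) (.leaf (nat_lit 0x205010403070600) (nat_lit 1795))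
 (.leaf (nat_lit 0x205060304000107) (nat_lit 2563))
))) (.node (nat_lit 0x205060304070001) (.node (nat_lit 0x205060304010007) (.leaf (nat_lit 0x205060304000701) (nat_lit 2307))
 (.node (nat_lit 0x205060304010700) (.leaf (nat_lit 0x205060304010007) (nat_lit 2307))
 (.leaf (nat_lit 0x205060304010700) (nat_lit 2051))
)) (.node (nat_lit 0x205060304070100) (.leaf (nat_lit 0x205060304070001) (nat_lit 2051))
 (.node (nat_lit 0x205060403000107) (.leaf (nat_lit 0x205060304070100) (nat_lit 1795))
 (.leaf (nat_lit 0x205060403000107) (nat_lit 2307))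
))))) (.node (nat_lit 0x205070403000106) (.node (nat_lit 0x205070304000106) (.node (nat_lit 0x205060403010700) (.node (nat_lit 0x205060403010007) (.leaf (nat_lit 0x205060403000701) (nat_lit 2051))
 (.leaf (nat_lit 0x205060403010007) (nat_lit 2051))
) (.node (nat_lit 0x205060403070001) (.leaf (nat_lit 0x205060403010700) (nat_lit 1795))
 (.node (nat_lit 0x205060403070100) (.leaf (nat_lit 0x205060403070001) (nat_lit 1795))
 (.leaf (nat_lit 0x205060403070100) (nat_lit 1539))
))) (.node (nat_lit 0x205070304010600) (.node (nat_lit 0x205070304000601) (.leaf (nat_lit 0x205070304000106) (nat_lit 2307))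
 (.node (nat_lit 0x205070304010006) (.leaf (nat_lit 0x205070304000601) (nat_lit 2051))
 (.leaf (nat_lit 0x205070304010006) (nat_lit 2051))
)) (.node (nat_lit 0x205070304060001) (.leaf (nat_lit 0x205070304010600) (nat_lit 1795))
 (.node (nat_lit 0x205070304060100) (.leaf (nat_lit 0x205070304060001) (nat_lit 1795))
 (.leaf (nat_lit 0x205070304060100) (nat_lit 1539))
)))) (.node (nat_lit 0x206000304010507) (.node (nat_lit 0x205070403010600) (.node (nat_lit 0x205070403000601) (.leaf (nat_lit 0x205070403000106) (nat_lit 2051))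
 (.node (nat_lit 0x205070403010006) (.leaf (nat_lit 0x205070403000601) (nat_lit 1795))
 (.leaf (nat_lit 0x205070403010006) (nat_lit 1795))
)) (.node (nat_lit 0x205070403060001) (.leaf (nat_lit 0x205070403010600) (nat_lit 1539))
 (.node (nat_lit 0x205070403060100) (.leaf (nat_lit 0x205070403060001) (nat_lit 1539))
 (.leaf (nat_lit 0x205070403060100) (nat_lit 1283))
))) (.node (nat_lit 0x206000304050701) (.node (nat_lit 0x206000304010705) (.leaf (nat_lit 0x206000304010507) (nat_lit 2819))
 (.node (nat_lit 0x206000304050107) (.leaf (nat_lit 0x206000304010705) (nat_lit 2563))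
 (.leaf (nat_lit 0x206000304050107) (nat_lit 2563))
)) (.node (nat_lit 0x206000304070105) (.leaf (nat_lit 0x206000304050701) (nat_lit 2307))
 (.node (nat_lit 0x206000304070501) (.leaf (nat_lit 0x206000304070105) (nat_lit 2307))
 (.leaf (nat_lit 0x206000304070501) (nat_lit 2051))
))))))) (.node (nat_lit 0x207000304050601) (.node (nat_lit 0x206050304070001) (.node (nat_lit 0x206010304070500) (.node (nat_lit 0x206000403070501) (.node (nat_lit 0x206000403050107) (.node (nat_lit 0x206000403010705) (.leaf (nat_lit 0x206000403010507) (nat_lit 2563))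
 (.leaf (nat_lit 0x206000403010705) (nat_lit 2307))
) (.node (nat_lit 0x206000403050701) (.leaf (nat_lit 0x206000403050107) (nat_lit 2307))
 (.node (nat_lit 0x206000403070105) (.leaf (nat_lit 0x206000403050701) (nat_lit 2051))
 (.leaf (nat_lit 0x206000403070105) (nat_lit 2051))
))) (.node (nat_lit 0x206010304050007) (.node (nat_lit 0x206010304000507) (.leaf (nat_lit 0x206000403070501) (nat_lit 1795))
 (.node (nat_lit 0x206010304000705) (.leaf (nat_lit 0x206010304000507) (nat_lit 2563))
 (.leaf (nat_lit 0x206010304000705) (nat_lit 2307))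
)) (.node (nat_lit 0x206010304050700) (.leaf (nat_lit 0x206010304050007) (nat_lit 2307))
 (.node (nat_lit 0x206010304070005) (.leaf (nat_lit 0x206010304050700) (nat_lit 2051))
 (.leaf (nat_lit 0x206010304070005) (nat_lit 2051))
)))) (.node (nat_lit 0x206010403070005) (.node (nat_lit 0x206010403000705) (.node (nat_lit 0x206010403000507) (.leaf (nat_lit 0x206010304070500) (nat_lit 1795))
 (.leaf (nat_lit 0x206010403000507) (nat_lit 2307))
) (.node (nat_lit 0x206010403050007) (.leaf (nat_lit 0x206010403000705) (nat_lit 2051))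
 (.node (nat_lit 0x206010403050700) (.leaf (nat_lit 0x206010403050007) (nat_lit 2051))
 (.leaf (nat_lit 0x206010403050700) (nat_lit 1795))
))) (.node (nat_lit 0x206050304000701) (.node (nat_lit 0x206010403070500) (.leaf (nat_lit 0x206010403070005) (nat_lit 1795))
 (.node (nat_lit 0x206050304000107) (.leaf (nat_lit 0x206010403070500) (nat_lit 1539))
 (.leaf (nat_lit 0x206050304000107) (nat_lit 2307))
)) (.node (nat_lit 0x206050304010007) (.leaf (nat_lit 0x206050304000701) (nat_lit 2051))
 (.node (nat_lit 0x206050304010700) (.leaf (nat_lit 0x206050304010007) (nat_lit 2051))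
 (.leaf (nat_lit 0x206050304010700) (nat_lit 1795))
))))) (.node (nat_lit 0x206070304010500) (.node (nat_lit 0x206050403010700) (.node (nat_lit 0x206050403000107) (.node (nat_lit 0x206050304070100) (.leaf (nat_lit 0x206050304070001) (nat_lit 1795))
 (.leaf (nat_lit 0x206050304070100) (nat_lit 1539))
) (.node (nat_lit 0x206050403000701) (.leaf (nat_lit 0x206050403000107) (nat_lit 2051))
 (.node (nat_lit 0x206050403010007) (.leaf (nat_lit 0x206050403000701) (nat_lit 1795))
 (.leaf (nat_lit 0x206050403010007) (nat_lit 1795))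
))) (.node (nat_lit 0x206070304000105) (.node (nat_lit 0x206050403070001) (.leaf (nat_lit 0x206050403010700) (nat_lit 1539))
 (.node (nat_lit 0x206050403070100) (.leaf (nat_lit 0x206050403070001) (nat_lit 1539))
 (.leaf (nat_lit 0x206050403070100) (nat_lit 1283))
)) (.node (nat_lit 0x206070304000501) (.leaf (nat_lit 0x206070304000105) (nat_lit 2051))
 (.node (nat_lit 0x206070304010005) (.leaf (nat_lit 0x206070304000501) (nat_lit 1795))
 (.leaf (nat_lit 0x206070304010005) (nat_lit 1795))
)))) (.node (nat_lit 0x206070403010500) (.node (nat_lit 0x206070403000105) (.node (nat_lit 0x206070304050001) (.leaf (nat_lit 0x206070304010500) (nat_lit 1539))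
 (.node (nat_lit 0x206070304050100) (.leaf (nat_lit 0x206070304050001) (nat_lit 1539))
 (.leaf (nat_lit 0x206070304050100) (nat_lit 1283))
)) (.node (nat_lit 0x206070403000501) (.leaf (nat_lit 0x206070403000105) (nat_lit 1795))
 (.node (nat_lit 0x206070403010005) (.leaf (nat_lit 0x206070403000501) (nat_lit 1539))
 (.leaf (nat_lit 0x206070403010005) (nat_lit 1539))
))) (.node (nat_lit 0x207000304010506) (.node (nat_lit 0x206070403050001) (.leaf (nat_lit 0x206070403010500) (nat_lit 1283))
 (.node (nat_lit 0x206070403050100) (.leaf (nat_lit 0x206070403050001) (nat_lit 1283))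
 (.leaf (nat_lit 0x206070403050100) (nat_lit 1027))
)) (.node (nat_lit 0x207000304010605) (.leaf (nat_lit 0x207000304010506) (nat_lit 2563))
 (.node (nat_lit 0x207000304050106) (.leaf (nat_lit 0x207000304010605) (nat_lit 2307))
 (.leaf (nat_lit 0x207000304050106) (nat_lit 2307))
)))))) (.node (nat_lit 0x207050304000601) (.node (nat_lit 0x207010304050006) (.node (nat_lit 0x207000403050106) (.node (nat_lit 0x207000304060501) (.node (nat_lit 0x207000304060105) (.leaf (nat_lit 0x207000304050601) (nat_lit 2051))
 (.leaf (nat_lit 0x207000304060105) (nat_lit 2051))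
) (.node (nat_lit 0x207000403010506) (.leaf (nat_lit 0x207000304060501) (nat_lit 1795))
 (.node (nat_lit 0x207000403010605) (.leaf (nat_lit 0x207000403010506) (nat_lit 2307))
 (.leaf (nat_lit 0x207000403010605) (nat_lit 2051))
))) (.node (nat_lit 0x207000403060501) (.node (nat_lit 0x207000403050601) (.leaf (nat_lit 0x207000403050106) (nat_lit 2051))
 (.node (nat_lit 0x207000403060105) (.leaf (nat_lit 0x207000403050601) (nat_lit 1795))
 (.leaf (nat_lit 0x207000403060105) (nat_lit 1795))
)) (.node (nat_lit 0x207010304000506) (.leaf (nat_lit 0x207000403060501) (nat_lit 1539))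
 (.node (nat_lit 0x207010304000605) (.leaf (nat_lit 0x207010304000506) (nat_lit 2307))
 (.leaf (nat_lit 0x207010304000605) (nat_lit 2051))
)))) (.node (nat_lit 0x207010403000605) (.node (nat_lit 0x207010304060005) (.node (nat_lit 0x207010304050600) (.leaf (nat_lit 0x207010304050006) (nat_lit 2051))
 (.leaf (nat_lit 0x207010304050600) (nat_lit 1795))
) (.node (nat_lit 0x207010304060500) (.leaf (nat_lit 0x207010304060005) (nat_lit 1795))
 (.node (nat_lit 0x207010403000506) (.leaf (nat_lit 0x207010304060500) (nat_lit 1539))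
 (.leaf (nat_lit 0x207010403000506) (nat_lit 2051))
))) (.node (nat_lit 0x207010403060005) (.node (nat_lit 0x207010403050006) (.leaf (nat_lit 0x207010403000605) (nat_lit 1795))
 (.node (nat_lit 0x207010403050600) (.leaf (nat_lit 0x207010403050006) (nat_lit 1795))
 (.leaf (nat_lit 0x207010403050600) (nat_lit 1539))
)) (.node (nat_lit 0x207010403060500) (.leaf (nat_lit 0x207010403060005) (nat_lit 1539))
 (.node (nat_lit 0x207050304000106) (.leaf (nat_lit 0x207010403060500) (nat_lit 1283))
 (.leaf (nat_lit 0x207050304000106) (nat_lit 2051))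
))))) (.node (nat_lit 0x207060304000105) (.node (nat_lit 0x207050403000106) (.node (nat_lit 0x207050304010600) (.node (nat_lit 0x207050304010006) (.leaf (nat_lit 0x207050304000601) (nat_lit 1795))
 (.leaf (nat_lit 0x207050304010006) (nat_lit 1795))
) (.node (nat_lit 0x207050304060001) (.leaf (nat_lit 0x207050304010600) (nat_lit 1539))
 (.node (nat_lit 0x207050304060100) (.leaf (nat_lit 0x207050304060001) (nat_lit 1539))
 (.leaf (nat_lit 0x207050304060100) (nat_lit 1283))
))) (.node (nat_lit 0x207050403010600) (.node (nat_lit 0x207050403000601) (.leaf (nat_lit 0x207050403000106) (nat_lit 1795))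
 (.node (nat_lit 0x207050403010006) (.leaf (nat_lit 0x207050403000601) (nat_lit 1539))
 (.leaf (nat_lit 0x207050403010006) (nat_lit 1539))
)) (.node (nat_lit 0x207050403060001) (.leaf (nat_lit 0x207050403010600) (nat_lit 1283))
 (.node (nat_lit 0x207050403060100) (.leaf (nat_lit 0x207050403060001) (nat_lit 1283))
 (.leaf (nat_lit 0x207050403060100) (nat_lit 1027))
)))) (.node (nat_lit 0x207060403000105) (.node (nat_lit 0x207060304010500) (.node (nat_lit 0x207060304000501) (.leaf (nat_lit 0x207060304000105) (nat_lit 1795))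
 (.node (nat_lit 0x207060304010005) (.leaf (nat_lit 0x207060304000501) (nat_lit 1539))
 (.leaf (nat_lit 0x207060304010005) (nat_lit 1539))
)) (.node (nat_lit 0x207060304050001) (.leaf (nat_lit 0x207060304010500) (nat_lit 1283))
 (.node (nat_lit 0x207060304050100) (.leaf (nat_lit 0x207060304050001) (nat_lit 1283))
 (.leaf (nat_lit 0x207060304050100) (nat_lit 1027))
))) (.node (nat_lit 0x207060403010500) (.node (nat_lit 0x207060403000501) (.leaf (nat_lit 0x207060403000105) (nat_lit 1539))
 (.node (nat_lit 0x207060403010005) (.leaf (nat_lit 0x207060403000501) (nat_lit 1283))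
 (.leaf (nat_lit 0x207060403010005) (nat_lit 1283))
)) (.node (nat_lit 0x207060403050001) (.leaf (nat_lit 0x207060403010500) (nat_lit 1027))
 (.node (nat_lit 0x207060403050100) (.leaf (nat_lit 0x207060403050001) (nat_lit 1027))
 (.leaf (nat_lit 0x207060403050100) (nat_lit 771))
)))))))))) (.node (nat_lit 0x602050304000107) (.node (nat_lit 0x506070304000102) (.node (nat_lit 0x501070403000206) (.node (nat_lit 0x500070403020601) (.node (nat_lit 0x500020403070106) (.node (nat_lit 0x500010403070602) (.node (nat_lit 0x500010304070602) (.node (nat_lit 0x500010304060207) (.node (nat_lit 0x500010304020706) (.leaf (nat_lit 0x500010304020607) (nat_lit 3332))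
 (.leaf (nat_lit 0x500010304020706) (nat_lit 3076))
) (.node (nat_lit 0x500010304060702) (.leaf (nat_lit 0x500010304060207) (nat_lit 3076))
 (.node (nat_lit 0x500010304070206) (.leaf (nat_lit 0x500010304060702) (nat_lit 2820))
 (.leaf (nat_lit 0x500010304070206) (nat_lit 2820))
))) (.node (nat_lit 0x500010403060207) (.node (nat_lit 0x500010403020607) (.leaf (nat_lit 0x500010304070602) (nat_lit 2564))
 (.node (nat_lit 0x500010403020706) (.leaf (nat_lit 0x500010403020607) (nat_lit 3076))
 (.leaf (nat_lit 0x500010403020706) (nat_lit 2820))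
)) (.node (nat_lit 0x500010403060702) (.leaf (nat_lit 0x500010403060207) (nat_lit 2820))
 (.node (nat_lit 0x500010403070206) (.leaf (nat_lit 0x500010403060702) (nat_lit 2564))
 (.leaf (nat_lit 0x500010403070206) (nat_lit 2564))
)))) (.node (nat_lit 0x500020304070106) (.node (nat_lit 0x500020304010706) (.node (nat_lit 0x500020304010607) (.leaf (nat_lit 0x500010403070602) (nat_lit 2308))
 (.leaf (nat_lit 0x500020304010607) (nat_lit 3076))
) (.node (nat_lit 0x500020304060107) (.leaf (nat_lit 0x500020304010706) (nat_lit 2820))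
 (.node (nat_lit 0x500020304060701) (.leaf (nat_lit 0x500020304060107) (nat_lit 2820))
 (.leaf (nat_lit 0x500020304060701) (nat_lit 2564))
))) (.node (nat_lit 0x500020403010706) (.node (nat_lit 0x500020304070601) (.leaf (nat_lit 0x500020304070106) (nat_lit 2564))
 (.node (nat_lit 0x500020403010607) (.leaf (nat_lit 0x500020304070601) (nat_lit 2308))
 (.leaf (nat_lit 0x500020403010607) (nat_lit 2820))
)) (.node (nat_lit 0x500020403060107) (.leaf (nat_lit 0x500020403010706) (nat_lit 2564))
 (.node (nat_lit 0x500020403060701) (.leaf (nat_lit 0x500020403060107) (nat_lit 2564))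
 (.leaf (nat_lit 0x500020403060701) (nat_lit 2308))
))))) (.node (nat_lit 0x500060403020701) (.node (nat_lit 0x500060304020701) (.node (nat_lit 0x500060304010207) (.node (nat_lit 0x500020403070601) (.leaf (nat_lit 0x500020403070106) (nat_lit 2308))
 (.leaf (nat_lit 0x500020403070601) (nat_lit 2052))
) (.node (nat_lit 0x500060304010702) (.leaf (nat_lit 0x500060304010207) (nat_lit 2820))
 (.node (nat_lit 0x500060304020107) (.leaf (nat_lit 0x500060304010702) (nat_lit 2564))
 (.leaf (nat_lit 0x500060304020107) (nat_lit 2564))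
))) (.node (nat_lit 0x500060403010207) (.node (nat_lit 0x500060304070102) (.leaf (nat_lit 0x500060304020701) (nat_lit 2308))
 (.node (nat_lit 0x500060304070201) (.leaf (nat_lit 0x500060304070102) (nat_lit 2308))
 (.leaf (nat_lit 0x500060304070201) (nat_lit 2052))
)) (.node (nat_lit 0x500060403010702) (.leaf (nat_lit 0x500060403010207) (nat_lit 2564))
 (.node (nat_lit 0x500060403020107) (.leaf (nat_lit 0x500060403010702) (nat_lit 2308))
 (.leaf (nat_lit 0x500060403020107) (nat_lit 2308))
)))) (.node (nat_lit 0x500070304020601) (.node (nat_lit 0x500070304010206) (.node (nat_lit 0x500060403070102) (.leaf (nat_lit 0x500060403020701) (nat_lit 2052))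
 (.node (nat_lit 0x500060403070201) (.leaf (nat_lit 0x500060403070102) (nat_lit 2052))
 (.leaf (nat_lit 0x500060403070201) (nat_lit 1796))
)) (.node (nat_lit 0x500070304010602) (.leaf (nat_lit 0x500070304010206) (nat_lit 2564))
 (.node (nat_lit 0x500070304020106) (.leaf (nat_lit 0x500070304010602) (nat_lit 2308))
 (.leaf (nat_lit 0x500070304020106) (nat_lit 2308))
))) (.node (nat_lit 0x500070403010206) (.node (nat_lit 0x500070304060102) (.leaf (nat_lit 0x500070304020601) (nat_lit 2052))
 (.node (nat_lit 0x500070304060201) (.leaf (nat_lit 0x500070304060102) (nat_lit 2052))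
 (.leaf (nat_lit 0x500070304060201) (nat_lit 1796))
)) (.node (nat_lit 0x500070403010602) (.leaf (nat_lit 0x500070403010206) (nat_lit 2308))
 (.node (nat_lit 0x500070403020106) (.leaf (nat_lit 0x500070403010602) (nat_lit 2052))
 (.leaf (nat_lit 0x500070403020106) (nat_lit 2052))
)))))) (.node (nat_lit 0x501020403000706) (.node (nat_lit 0x501000403060207) (.node (nat_lit 0x501000304060207) (.node (nat_lit 0x500070403060201) (.node (nat_lit 0x500070403060102) (.leaf (nat_lit 0x500070403020601) (nat_lit 1796))
 (.leaf (nat_lit 0x500070403060102) (nat_lit 1796))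
) (.node (nat_lit 0x501000304020607) (.leaf (nat_lit 0x500070403060201) (nat_lit 1540))
 (.node (nat_lit 0x501000304020706) (.leaf (nat_lit 0x501000304020607) (nat_lit 3076))
 (.leaf (nat_lit 0x501000304020706) (nat_lit 2820))
))) (.node (nat_lit 0x501000304070602) (.node (nat_lit 0x501000304060702) (.leaf (nat_lit 0x501000304060207) (nat_lit 2820))
 (.node (nat_lit 0x501000304070206) (.leaf (nat_lit 0x501000304060702) (nat_lit 2564))
 (.leaf (nat_lit 0x501000304070206) (nat_lit 2564))
)) (.node (nat_lit 0x501000403020607) (.leaf (nat_lit 0x501000304070602) (nat_lit 2308))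
 (.node (nat_lit 0x501000403020706) (.leaf (nat_lit 0x501000403020607) (nat_lit 2820))
 (.leaf (nat_lit 0x501000403020706) (nat_lit 2564))
)))) (.node (nat_lit 0x501020304000706) (.node (nat_lit 0x501000403070206) (.node (nat_lit 0x501000403060702) (.leaf (nat_lit 0x501000403060207) (nat_lit 2564))
 (.leaf (nat_lit 0x501000403060702) (nat_lit 2308))
) (.node (nat_lit 0x501000403070602) (.leaf (nat_lit 0x501000403070206) (nat_lit 2308))
 (.node (nat_lit 0x501020304000607) (.leaf (nat_lit 0x501000403070602) (nat_lit 2052))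
 (.leaf (nat_lit 0x501020304000607) (nat_lit 2820))
))) (.node (nat_lit 0x501020304070006) (.node (nat_lit 0x501020304060007) (.leaf (nat_lit 0x501020304000706) (nat_lit 2564))
 (.node (nat_lit 0x501020304060700) (.leaf (nat_lit 0x501020304060007) (nat_lit 2564))
 (.leaf (nat_lit 0x501020304060700) (nat_lit 2308))
)) (.node (nat_lit 0x501020304070600) (.leaf (nat_lit 0x501020304070006) (nat_lit 2308))
 (.node (nat_lit 0x501020403000607) (.leaf (nat_lit 0x501020304070600) (nat_lit 2052))
 (.leaf (nat_lit 0x501020403000607) (nat_lit 2564))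
))))) (.node (nat_lit 0x501060403000207) (.node (nat_lit 0x501060304000207) (.node (nat_lit 0x501020403060700) (.node (nat_lit 0x501020403060007) (.leaf (nat_lit 0x501020403000706) (nat_lit 2308))
 (.leaf (nat_lit 0x501020403060007) (nat_lit 2308))
) (.node (nat_lit 0x501020403070006) (.leaf (nat_lit 0x501020403060700) (nat_lit 2052))
 (.node (nat_lit 0x501020403070600) (.leaf (nat_lit 0x501020403070006) (nat_lit 2052))
 (.leaf (nat_lit 0x501020403070600) (nat_lit 1796))
))) (.node (nat_lit 0x501060304020700) (.node (nat_lit 0x501060304000702) (.leaf (nat_lit 0x501060304000207) (nat_lit 2564))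
 (.node (nat_lit 0x501060304020007) (.leaf (nat_lit 0x501060304000702) (nat_lit 2308))
 (.leaf (nat_lit 0x501060304020007) (nat_lit 2308))
)) (.node (nat_lit 0x501060304070002) (.leaf (nat_lit 0x501060304020700) (nat_lit 2052))
 (.node (nat_lit 0x501060304070200) (.leaf (nat_lit 0x501060304070002) (nat_lit 2052))
 (.leaf (nat_lit 0x501060304070200) (nat_lit 1796))
)))) (.node (nat_lit 0x501070304000206) (.node (nat_lit 0x501060403020700) (.node (nat_lit 0x501060403000702) (.leaf (nat_lit 0x501060403000207) (nat_lit 2308))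
 (.node (nat_lit 0x501060403020007) (.leaf (nat_lit 0x501060403000702) (nat_lit 2052))
 (.leaf (nat_lit 0x501060403020007) (nat_lit 2052))
)) (.node (nat_lit 0x501060403070002) (.leaf (nat_lit 0x501060403020700) (nat_lit 1796))
 (.node (nat_lit 0x501060403070200) (.leaf (nat_lit 0x501060403070002) (nat_lit 1796))
 (.leaf (nat_lit 0x501060403070200) (nat_lit 1540))
))) (.node (nat_lit 0x501070304020600) (.node (nat_lit 0x501070304000602) (.leaf (nat_lit 0x501070304000206) (nat_lit 2308))
 (.node (nat_lit 0x501070304020006) (.leaf (nat_lit 0x501070304000602) (nat_lit 2052))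
 (.leaf (nat_lit 0x501070304020006) (nat_lit 2052))
)) (.node (nat_lit 0x501070304060002) (.leaf (nat_lit 0x501070304020600) (nat_lit 1796))
 (.node (nat_lit 0x501070304060200) (.leaf (nat_lit 0x501070304060002) (nat_lit 1796))
 (.leaf (nat_lit 0x501070304060200) (nat_lit 1540))
))))))) (.node (nat_lit 0x502070304010600) (.node (nat_lit 0x502010304070006) (.node (nat_lit 0x502000304070601) (.node (nat_lit 0x501070403060200) (.node (nat_lit 0x501070403020006) (.node (nat_lit 0x501070403000602) (.leaf (nat_lit 0x501070403000206) (nat_lit 2052))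
 (.leaf (nat_lit 0x501070403000602) (nat_lit 1796))
) (.node (nat_lit 0x501070403020600) (.leaf (nat_lit 0x501070403020006) (nat_lit 1796))
 (.node (nat_lit 0x501070403060002) (.leaf (nat_lit 0x501070403020600) (nat_lit 1540))
 (.leaf (nat_lit 0x501070403060002) (nat_lit 1540))
))) (.node (nat_lit 0x502000304060107) (.node (nat_lit 0x502000304010607) (.leaf (nat_lit 0x501070403060200) (nat_lit 1284))
 (.node (nat_lit 0x502000304010706) (.leaf (nat_lit 0x502000304010607) (nat_lit 2820))
 (.leaf (nat_lit 0x502000304010706) (nat_lit 2564))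
)) (.node (nat_lit 0x502000304060701) (.leaf (nat_lit 0x502000304060107) (nat_lit 2564))
 (.node (nat_lit 0x502000304070106) (.leaf (nat_lit 0x502000304060701) (nat_lit 2308))
 (.leaf (nat_lit 0x502000304070106) (nat_lit 2308))
)))) (.node (nat_lit 0x502000403070106) (.node (nat_lit 0x502000403010706) (.node (nat_lit 0x502000403010607) (.leaf (nat_lit 0x502000304070601) (nat_lit 2052))
 (.leaf (nat_lit 0x502000403010607) (nat_lit 2564))
) (.node (nat_lit 0x502000403060107) (.leaf (nat_lit 0x502000403010706) (nat_lit 2308))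
 (.node (nat_lit 0x502000403060701) (.leaf (nat_lit 0x502000403060107) (nat_lit 2308))
 (.leaf (nat_lit 0x502000403060701) (nat_lit 2052))
))) (.node (nat_lit 0x502010304000706) (.node (nat_lit 0x502000403070601) (.leaf (nat_lit 0x502000403070106) (nat_lit 2052))
 (.node (nat_lit 0x502010304000607) (.leaf (nat_lit 0x502000403070601) (nat_lit 1796))
 (.leaf (nat_lit 0x502010304000607) (nat_lit 2564))
)) (.node (nat_lit 0x502010304060007) (.leaf (nat_lit 0x502010304000706) (nat_lit 2308))
 (.node (nat_lit 0x502010304060700) (.leaf (nat_lit 0x502010304060007) (nat_lit 2308))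
 (.leaf (nat_lit 0x502010304060700) (nat_lit 2052))
))))) (.node (nat_lit 0x502060304010700) (.node (nat_lit 0x502010403060700) (.node (nat_lit 0x502010403000607) (.node (nat_lit 0x502010304070600) (.leaf (nat_lit 0x502010304070006) (nat_lit 2052))
 (.leaf (nat_lit 0x502010304070600) (nat_lit 1796))
) (.node (nat_lit 0x502010403000706) (.leaf (nat_lit 0x502010403000607) (nat_lit 2308))
 (.node (nat_lit 0x502010403060007) (.leaf (nat_lit 0x502010403000706) (nat_lit 2052))
 (.leaf (nat_lit 0x502010403060007) (nat_lit 2052))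
))) (.node (nat_lit 0x502060304000107) (.node (nat_lit 0x502010403070006) (.leaf (nat_lit 0x502010403060700) (nat_lit 1796))
 (.node (nat_lit 0x502010403070600) (.leaf (nat_lit 0x502010403070006) (nat_lit 1796))
 (.leaf (nat_lit 0x502010403070600) (nat_lit 1540))
)) (.node (nat_lit 0x502060304000701) (.leaf (nat_lit 0x502060304000107) (nat_lit 2308))
 (.node (nat_lit 0x502060304010007) (.leaf (nat_lit 0x502060304000701) (nat_lit 2052))
 (.leaf (nat_lit 0x502060304010007) (nat_lit 2052))
)))) (.node (nat_lit 0x502060403010700) (.node (nat_lit 0x502060403000107) (.node (nat_lit 0x502060304070001) (.leaf (nat_lit 0x502060304010700) (nat_lit 1796))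
 (.node (nat_lit 0x502060304070100) (.leaf (nat_lit 0x502060304070001) (nat_lit 1796))
 (.leaf (nat_lit 0x502060304070100) (nat_lit 1540))
)) (.node (nat_lit 0x502060403000701) (.leaf (nat_lit 0x502060403000107) (nat_lit 2052))
 (.node (nat_lit 0x502060403010007) (.leaf (nat_lit 0x502060403000701) (nat_lit 1796))
 (.leaf (nat_lit 0x502060403010007) (nat_lit 1796))
))) (.node (nat_lit 0x502070304000106) (.node (nat_lit 0x502060403070001) (.leaf (nat_lit 0x502060403010700) (nat_lit 1540))
 (.node (nat_lit 0x502060403070100) (.leaf (nat_lit 0x502060403070001) (nat_lit 1540))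
 (.leaf (nat_lit 0x502060403070100) (nat_lit 1284))
)) (.node (nat_lit 0x502070304000601) (.leaf (nat_lit 0x502070304000106) (nat_lit 2052))
 (.node (nat_lit 0x502070304010006) (.leaf (nat_lit 0x502070304000601) (nat_lit 1796))
 (.leaf (nat_lit 0x502070304010006) (nat_lit 1796))
)))))) (.node (nat_lit 0x506010304000702) (.node (nat_lit 0x506000304020107) (.node (nat_lit 0x502070403010006) (.node (nat_lit 0x502070304060100) (.node (nat_lit 0x502070304060001) (.leaf (nat_lit 0x502070304010600) (nat_lit 1540))
 (.leaf (nat_lit 0x502070304060001) (nat_lit 1540))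
) (.node (nat_lit 0x502070403000106) (.leaf (nat_lit 0x502070304060100) (nat_lit 1284))
 (.node (nat_lit 0x502070403000601) (.leaf (nat_lit 0x502070403000106) (nat_lit 1796))
 (.leaf (nat_lit 0x502070403000601) (nat_lit 1540))
))) (.node (nat_lit 0x502070403060100) (.node (nat_lit 0x502070403010600) (.leaf (nat_lit 0x502070403010006) (nat_lit 1540))
 (.node (nat_lit 0x502070403060001) (.leaf (nat_lit 0x502070403010600) (nat_lit 1284))
 (.leaf (nat_lit 0x502070403060001) (nat_lit 1284))
)) (.node (nat_lit 0x506000304010207) (.leaf (nat_lit 0x502070403060100) (nat_lit 1028))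
 (.node (nat_lit 0x506000304010702) (.leaf (nat_lit 0x506000304010207) (nat_lit 2564))
 (.leaf (nat_lit 0x506000304010702) (nat_lit 2308))
)))) (.node (nat_lit 0x506000403010702) (.node (nat_lit 0x506000304070102) (.node (nat_lit 0x506000304020701) (.leaf (nat_lit 0x506000304020107) (nat_lit 2308))
 (.leaf (nat_lit 0x506000304020701) (nat_lit 2052))
) (.node (nat_lit 0x506000304070201) (.leaf (nat_lit 0x506000304070102) (nat_lit 2052))
 (.node (nat_lit 0x506000403010207) (.leaf (nat_lit 0x506000304070201) (nat_lit 1796))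
 (.leaf (nat_lit 0x506000403010207) (nat_lit 2308))
))) (.node (nat_lit 0x506000403070102) (.node (nat_lit 0x506000403020107) (.leaf (nat_lit 0x506000403010702) (nat_lit 2052))
 (.node (nat_lit 0x506000403020701) (.leaf (nat_lit 0x506000403020107) (nat_lit 2052))
 (.leaf (nat_lit 0x506000403020701) (nat_lit 1796))
)) (.node (nat_lit 0x506000403070201) (.leaf (nat_lit 0x506000403070102) (nat_lit 1796))
 (.node (nat_lit 0x506010304000207) (.leaf (nat_lit 0x506000403070201) (nat_lit 1540))
 (.leaf (nat_lit 0x506010304000207) (nat_lit 2308))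
))))) (.node (nat_lit 0x506020304000107) (.node (nat_lit 0x506010403000207) (.node (nat_lit 0x506010304020700) (.node (nat_lit 0x506010304020007) (.leaf (nat_lit 0x506010304000702) (nat_lit 2052))
 (.leaf (nat_lit 0x506010304020007) (nat_lit 2052))
) (.node (nat_lit 0x506010304070002) (.leaf (nat_lit 0x506010304020700) (nat_lit 1796))
 (.node (nat_lit 0x506010304070200) (.leaf (nat_lit 0x506010304070002) (nat_lit 1796))
 (.leaf (nat_lit 0x506010304070200) (nat_lit 1540))
))) (.node (nat_lit 0x506010403020700) (.node (nat_lit 0x506010403000702) (.leaf (nat_lit 0x506010403000207) (nat_lit 2052))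
 (.node (nat_lit 0x506010403020007) (.leaf (nat_lit 0x506010403000702) (nat_lit 1796))
 (.leaf (nat_lit 0x506010403020007) (nat_lit 1796))
)) (.node (nat_lit 0x506010403070002) (.leaf (nat_lit 0x506010403020700) (nat_lit 1540))
 (.node (nat_lit 0x506010403070200) (.leaf (nat_lit 0x506010403070002) (nat_lit 1540))
 (.leaf (nat_lit 0x506010403070200) (nat_lit 1284))
)))) (.node (nat_lit 0x506020403000107) (.node (nat_lit 0x506020304010700) (.node (nat_lit 0x506020304000701) (.leaf (nat_lit 0x506020304000107) (nat_lit 2052))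
 (.node (nat_lit 0x506020304010007) (.leaf (nat_lit 0x506020304000701) (nat_lit 1796))
 (.leaf (nat_lit 0x506020304010007) (nat_lit 1796))
)) (.node (nat_lit 0x506020304070001) (.leaf (nat_lit 0x506020304010700) (nat_lit 1540))
 (.node (nat_lit 0x506020304070100) (.leaf (nat_lit 0x506020304070001) (nat_lit 1540))
 (.leaf (nat_lit 0x506020304070100) (nat_lit 1284))
))) (.node (nat_lit 0x506020403010700) (.node (nat_lit 0x506020403000701) (.leaf (nat_lit 0x506020403000107) (nat_lit 1796))
 (.node (nat_lit 0x506020403010007) (.leaf (nat_lit 0x506020403000701) (nat_lit 1540))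
 (.leaf (nat_lit 0x506020403010007) (nat_lit 1540))
)) (.node (nat_lit 0x506020403070001) (.leaf (nat_lit 0x506020403010700) (nat_lit 1284))
 (.node (nat_lit 0x506020403070100) (.leaf (nat_lit 0x506020403070001) (nat_lit 1284))
 (.leaf (nat_lit 0x506020403070100) (nat_lit 1028))
)))))))) (.node (nat_lit 0x600050403010207) (.node (nat_lit 0x507020403010600) (.node (nat_lit 0x507000403060102) (.node (nat_lit 0x506070403020100) (.node (nat_lit 0x506070304020100) (.node (nat_lit 0x506070304010002) (.node (nat_lit 0x506070304000201) (.leaf (nat_lit 0x506070304000102) (nat_lit 1796))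
 (.leaf (nat_lit 0x506070304000201) (nat_lit 1540))
) (.node (nat_lit 0x506070304010200) (.leaf (nat_lit 0x506070304010002) (nat_lit 1540))
 (.node (nat_lit 0x506070304020001) (.leaf (nat_lit 0x506070304010200) (nat_lit 1284))
 (.leaf (nat_lit 0x506070304020001) (nat_lit 1284))
))) (.node (nat_lit 0x506070403010002) (.node (nat_lit 0x506070403000102) (.leaf (nat_lit 0x506070304020100) (nat_lit 1028))
 (.node (nat_lit 0x506070403000201) (.leaf (nat_lit 0x506070403000102) (nat_lit 1540))
 (.leaf (nat_lit 0x506070403000201) (nat_lit 1284))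
)) (.node (nat_lit 0x506070403010200) (.leaf (nat_lit 0x506070403010002) (nat_lit 1284))
 (.node (nat_lit 0x506070403020001) (.leaf (nat_lit 0x506070403010200) (nat_lit 1028))
 (.leaf (nat_lit 0x506070403020001) (nat_lit 1028))
)))) (.node (nat_lit 0x507000304060102) (.node (nat_lit 0x507000304010602) (.node (nat_lit 0x507000304010206) (.leaf (nat_lit 0x506070403020100) (nat_lit 772))
 (.leaf (nat_lit 0x507000304010206) (nat_lit 2308))
) (.node (nat_lit 0x507000304020106) (.leaf (nat_lit 0x507000304010602) (nat_lit 2052))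
 (.node (nat_lit 0x507000304020601) (.leaf (nat_lit 0x507000304020106) (nat_lit 2052))
 (.leaf (nat_lit 0x507000304020601) (nat_lit 1796))
))) (.node (nat_lit 0x507000403010602) (.node (nat_lit 0x507000304060201) (.leaf (nat_lit 0x507000304060102) (nat_lit 1796))
 (.node (nat_lit 0x507000403010206) (.leaf (nat_lit 0x507000304060201) (nat_lit 1540))
 (.leaf (nat_lit 0x507000403010206) (nat_lit 2052))
)) (.node (nat_lit 0x507000403020106) (.leaf (nat_lit 0x507000403010602) (nat_lit 1796))
 (.node (nat_lit 0x507000403020601) (.leaf (nat_lit 0x507000403020106) (nat_lit 1796))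
 (.leaf (nat_lit 0x507000403020601) (nat_lit 1540))
))))) (.node (nat_lit 0x507010403020600) (.node (nat_lit 0x507010304020600) (.node (nat_lit 0x507010304000206) (.node (nat_lit 0x507000403060201) (.leaf (nat_lit 0x507000403060102) (nat_lit 1540))
 (.leaf (nat_lit 0x507000403060201) (nat_lit 1284))
) (.node (nat_lit 0x507010304000602) (.leaf (nat_lit 0x507010304000206) (nat_lit 2052))
 (.node (nat_lit 0x507010304020006) (.leaf (nat_lit 0x507010304000602) (nat_lit 1796))
 (.leaf (nat_lit 0x507010304020006) (nat_lit 1796))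
))) (.node (nat_lit 0x507010403000206) (.node (nat_lit 0x507010304060002) (.leaf (nat_lit 0x507010304020600) (nat_lit 1540))
 (.node (nat_lit 0x507010304060200) (.leaf (nat_lit 0x507010304060002) (nat_lit 1540))
 (.leaf (nat_lit 0x507010304060200) (nat_lit 1284))
)) (.node (nat_lit 0x507010403000602) (.leaf (nat_lit 0x507010403000206) (nat_lit 1796))
 (.node (nat_lit 0x507010403020006) (.leaf (nat_lit 0x507010403000602) (nat_lit 1540))
 (.leaf (nat_lit 0x507010403020006) (nat_lit 1540))
)))) (.node (nat_lit 0x507020304010600) (.node (nat_lit 0x507020304000106) (.node (nat_lit 0x507010403060002) (.leaf (nat_lit 0x507010403020600) (nat_lit 1284))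
 (.node (nat_lit 0x507010403060200) (.leaf (nat_lit 0x507010403060002) (nat_lit 1284))
 (.leaf (nat_lit 0x507010403060200) (nat_lit 1028))
)) (.node (nat_lit 0x507020304000601) (.leaf (nat_lit 0x507020304000106) (nat_lit 1796))
 (.node (nat_lit 0x507020304010006) (.leaf (nat_lit 0x507020304000601) (nat_lit 1540))
 (.leaf (nat_lit 0x507020304010006) (nat_lit 1540))
))) (.node (nat_lit 0x507020403000106) (.node (nat_lit 0x507020304060001) (.leaf (nat_lit 0x507020304010600) (nat_lit 1284))
 (.node (nat_lit 0x507020304060100) (.leaf (nat_lit 0x507020304060001) (nat_lit 1284))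
 (.leaf (nat_lit 0x507020304060100) (nat_lit 1028))
)) (.node (nat_lit 0x507020403000601) (.leaf (nat_lit 0x507020403000106) (nat_lit 1540))
 (.node (nat_lit 0x507020403010006) (.leaf (nat_lit 0x507020403000601) (nat_lit 1284))
 (.leaf (nat_lit 0x507020403010006) (nat_lit 1284))
)))))) (.node (nat_lit 0x600010403020705) (.node (nat_lit 0x507060403010002) (.node (nat_lit 0x507060304010002) (.node (nat_lit 0x507020403060100) (.node (nat_lit 0x507020403060001) (.leaf (nat_lit 0x507020403010600) (nat_lit 1028))
 (.leaf (nat_lit 0x507020403060001) (nat_lit 1028))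
) (.node (nat_lit 0x507060304000102) (.leaf (nat_lit 0x507020403060100) (nat_lit 772))
 (.node (nat_lit 0x507060304000201) (.leaf (nat_lit 0x507060304000102) (nat_lit 1540))
 (.leaf (nat_lit 0x507060304000201) (nat_lit 1284))
))) (.node (nat_lit 0x507060304020100) (.node (nat_lit 0x507060304010200) (.leaf (nat_lit 0x507060304010002) (nat_lit 1284))
 (.node (nat_lit 0x507060304020001) (.leaf (nat_lit 0x507060304010200) (nat_lit 1028))
 (.leaf (nat_lit 0x507060304020001) (nat_lit 1028))
)) (.node (nat_lit 0x507060403000102) (.leaf (nat_lit 0x507060304020100) (nat_lit 772))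
 (.node (nat_lit 0x507060403000201) (.leaf (nat_lit 0x507060403000102) (nat_lit 1284))
 (.leaf (nat_lit 0x507060403000201) (nat_lit 1028))
)))) (.node (nat_lit 0x600010304020705) (.node (nat_lit 0x507060403020001) (.node (nat_lit 0x507060403010200) (.leaf (nat_lit 0x507060403010002) (nat_lit 1028))
 (.leaf (nat_lit 0x507060403010200) (nat_lit 772))
) (.node (nat_lit 0x507060403020100) (.leaf (nat_lit 0x507060403020001) (nat_lit 772))
 (.node (nat_lit 0x600010304020507) (.leaf (nat_lit 0x507060403020100) (nat_lit 516))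
 (.leaf (nat_lit 0x600010304020507) (nat_lit 3077))
))) (.node (nat_lit 0x600010304070205) (.node (nat_lit 0x600010304050207) (.leaf (nat_lit 0x600010304020705) (nat_lit 2821))
 (.node (nat_lit 0x600010304050702) (.leaf (nat_lit 0x600010304050207) (nat_lit 2821))
 (.leaf (nat_lit 0x600010304050702) (nat_lit 2565))
)) (.node (nat_lit 0x600010304070502) (.leaf (nat_lit 0x600010304070205) (nat_lit 2565))
 (.node (nat_lit 0x600010403020507) (.leaf (nat_lit 0x600010304070502) (nat_lit 2309))
 (.leaf (nat_lit 0x600010403020507) (nat_lit 2821))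
))))) (.node (nat_lit 0x600020403010507) (.node (nat_lit 0x600020304010507) (.node (nat_lit 0x600010403050702) (.node (nat_lit 0x600010403050207) (.leaf (nat_lit 0x600010403020705) (nat_lit 2565))
 (.leaf (nat_lit 0x600010403050207) (nat_lit 2565))
) (.node (nat_lit 0x600010403070205) (.leaf (nat_lit 0x600010403050702) (nat_lit 2309))
 (.node (nat_lit 0x600010403070502) (.leaf (nat_lit 0x600010403070205) (nat_lit 2309))
 (.leaf (nat_lit 0x600010403070502) (nat_lit 2053))
))) (.node (nat_lit 0x600020304050701) (.node (nat_lit 0x600020304010705) (.leaf (nat_lit 0x600020304010507) (nat_lit 2821))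
 (.node (nat_lit 0x600020304050107) (.leaf (nat_lit 0x600020304010705) (nat_lit 2565))
 (.leaf (nat_lit 0x600020304050107) (nat_lit 2565))
)) (.node (nat_lit 0x600020304070105) (.leaf (nat_lit 0x600020304050701) (nat_lit 2309))
 (.node (nat_lit 0x600020304070501) (.leaf (nat_lit 0x600020304070105) (nat_lit 2309))
 (.leaf (nat_lit 0x600020304070501) (nat_lit 2053))
)))) (.node (nat_lit 0x600050304010207) (.node (nat_lit 0x600020403050701) (.node (nat_lit 0x600020403010705) (.leaf (nat_lit 0x600020403010507) (nat_lit 2565))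
 (.node (nat_lit 0x600020403050107) (.leaf (nat_lit 0x600020403010705) (nat_lit 2309))
 (.leaf (nat_lit 0x600020403050107) (nat_lit 2309))
)) (.node (nat_lit 0x600020403070105) (.leaf (nat_lit 0x600020403050701) (nat_lit 2053))
 (.node (nat_lit 0x600020403070501) (.leaf (nat_lit 0x600020403070105) (nat_lit 2053))
 (.leaf (nat_lit 0x600020403070501) (nat_lit 1797))
))) (.node (nat_lit 0x600050304020701) (.node (nat_lit 0x600050304010702) (.leaf (nat_lit 0x600050304010207) (nat_lit 2565))
 (.node (nat_lit 0x600050304020107) (.leaf (nat_lit 0x600050304010702) (nat_lit 2309))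
 (.leaf (nat_lit 0x600050304020107) (nat_lit 2309))
)) (.node (nat_lit 0x600050304070102) (.leaf (nat_lit 0x600050304020701) (nat_lit 2053))
 (.node (nat_lit 0x600050304070201) (.leaf (nat_lit 0x600050304070102) (nat_lit 2053))
 (.leaf (nat_lit 0x600050304070201) (nat_lit 1797))
))))))) (.node (nat_lit 0x601050304020700) (.node (nat_lit 0x601000304070205) (.node (nat_lit 0x600070304050201) (.node (nat_lit 0x600050403070201) (.node (nat_lit 0x600050403020107) (.node (nat_lit 0x600050403010702) (.leaf (nat_lit 0x600050403010207) (nat_lit 2309))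
 (.leaf (nat_lit 0x600050403010702) (nat_lit 2053))
) (.node (nat_lit 0x600050403020701) (.leaf (nat_lit 0x600050403020107) (nat_lit 2053))
 (.node (nat_lit 0x600050403070102) (.leaf (nat_lit 0x600050403020701) (nat_lit 1797))
 (.leaf (nat_lit 0x600050403070102) (nat_lit 1797))
))) (.node (nat_lit 0x600070304020105) (.node (nat_lit 0x600070304010205) (.leaf (nat_lit 0x600050403070201) (nat_lit 1541))
 (.node (nat_lit 0x600070304010502) (.leaf (nat_lit 0x600070304010205) (nat_lit 2309))
 (.leaf (nat_lit 0x600070304010502) (nat_lit 2053))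
)) (.node (nat_lit 0x600070304020501) (.leaf (nat_lit 0x600070304020105) (nat_lit 2053))
 (.node (nat_lit 0x600070304050102) (.leaf (nat_lit 0x600070304020501) (nat_lit 1797))
 (.leaf (nat_lit 0x600070304050102) (nat_lit 1797))
)))) (.node (nat_lit 0x600070403050102) (.node (nat_lit 0x600070403010502) (.node (nat_lit 0x600070403010205) (.leaf (nat_lit 0x600070304050201) (nat_lit 1541))
 (.leaf (nat_lit 0x600070403010205) (nat_lit 2053))
) (.node (nat_lit 0x600070403020105) (.leaf (nat_lit 0x600070403010502) (nat_lit 1797))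
 (.node (nat_lit 0x600070403020501) (.leaf (nat_lit 0x600070403020105) (nat_lit 1797))
 (.leaf (nat_lit 0x600070403020501) (nat_lit 1541))
))) (.node (nat_lit 0x601000304020705) (.node (nat_lit 0x600070403050201) (.leaf (nat_lit 0x600070403050102) (nat_lit 1541))
 (.node (nat_lit 0x601000304020507) (.leaf (nat_lit 0x600070403050201) (nat_lit 1285))
 (.leaf (nat_lit 0x601000304020507) (nat_lit 2821))
)) (.node (nat_lit 0x601000304050207) (.leaf (nat_lit 0x601000304020705) (nat_lit 2565))
 (.node (nat_lit 0x601000304050702) (.leaf (nat_lit 0x601000304050207) (nat_lit 2565))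
 (.leaf (nat_lit 0x601000304050702) (nat_lit 2309))
))))) (.node (nat_lit 0x601020304050700) (.node (nat_lit 0x601000403050702) (.node (nat_lit 0x601000403020507) (.node (nat_lit 0x601000304070502) (.leaf (nat_lit 0x601000304070205) (nat_lit 2309))
 (.leaf (nat_lit 0x601000304070502) (nat_lit 2053))
) (.node (nat_lit 0x601000403020705) (.leaf (nat_lit 0x601000403020507) (nat_lit 2565))
 (.node (nat_lit 0x601000403050207) (.leaf (nat_lit 0x601000403020705) (nat_lit 2309))
 (.leaf (nat_lit 0x601000403050207) (nat_lit 2309))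
))) (.node (nat_lit 0x601020304000507) (.node (nat_lit 0x601000403070205) (.leaf (nat_lit 0x601000403050702) (nat_lit 2053))
 (.node (nat_lit 0x601000403070502) (.leaf (nat_lit 0x601000403070205) (nat_lit 2053))
 (.leaf (nat_lit 0x601000403070502) (nat_lit 1797))
)) (.node (nat_lit 0x601020304000705) (.leaf (nat_lit 0x601020304000507) (nat_lit 2565))
 (.node (nat_lit 0x601020304050007) (.leaf (nat_lit 0x601020304000705) (nat_lit 2309))
 (.leaf (nat_lit 0x601020304050007) (nat_lit 2309))
)))) (.node (nat_lit 0x601020403050700) (.node (nat_lit 0x601020403000507) (.node (nat_lit 0x601020304070005) (.leaf (nat_lit 0x601020304050700) (nat_lit 2053))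
 (.node (nat_lit 0x601020304070500) (.leaf (nat_lit 0x601020304070005) (nat_lit 2053))
 (.leaf (nat_lit 0x601020304070500) (nat_lit 1797))
)) (.node (nat_lit 0x601020403000705) (.leaf (nat_lit 0x601020403000507) (nat_lit 2309))
 (.node (nat_lit 0x601020403050007) (.leaf (nat_lit 0x601020403000705) (nat_lit 2053))
 (.leaf (nat_lit 0x601020403050007) (nat_lit 2053))
))) (.node (nat_lit 0x601050304000207) (.node (nat_lit 0x601020403070005) (.leaf (nat_lit 0x601020403050700) (nat_lit 1797))
 (.node (nat_lit 0x601020403070500) (.leaf (nat_lit 0x601020403070005) (nat_lit 1797))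
 (.leaf (nat_lit 0x601020403070500) (nat_lit 1541))
)) (.node (nat_lit 0x601050304000702) (.leaf (nat_lit 0x601050304000207) (nat_lit 2309))
 (.node (nat_lit 0x601050304020007) (.leaf (nat_lit 0x601050304000702) (nat_lit 2053))
 (.leaf (nat_lit 0x601050304020007) (nat_lit 2053))
)))))) (.node (nat_lit 0x602000304010705) (.node (nat_lit 0x601070304020005) (.node (nat_lit 0x601050403020007) (.node (nat_lit 0x601050304070200) (.node (nat_lit 0x601050304070002) (.leaf (nat_lit 0x601050304020700) (nat_lit 1797))
 (.leaf (nat_lit 0x601050304070002) (nat_lit 1797))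
) (.node (nat_lit 0x601050403000207) (.leaf (nat_lit 0x601050304070200) (nat_lit 1541))
 (.node (nat_lit 0x601050403000702) (.leaf (nat_lit 0x601050403000207) (nat_lit 2053))
 (.leaf (nat_lit 0x601050403000702) (nat_lit 1797))
))) (.node (nat_lit 0x601050403070200) (.node (nat_lit 0x601050403020700) (.leaf (nat_lit 0x601050403020007) (nat_lit 1797))
 (.node (nat_lit 0x601050403070002) (.leaf (nat_lit 0x601050403020700) (nat_lit 1541))
 (.leaf (nat_lit 0x601050403070002) (nat_lit 1541))
)) (.node (nat_lit 0x601070304000205) (.leaf (nat_lit 0x601050403070200) (nat_lit 1285))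
 (.node (nat_lit 0x601070304000502) (.leaf (nat_lit 0x601070304000205) (nat_lit 2053))
 (.leaf (nat_lit 0x601070304000502) (nat_lit 1797))
)))) (.node (nat_lit 0x601070403000502) (.node (nat_lit 0x601070304050002) (.node (nat_lit 0x601070304020500) (.leaf (nat_lit 0x601070304020005) (nat_lit 1797))
 (.leaf (nat_lit 0x601070304020500) (nat_lit 1541))
) (.node (nat_lit 0x601070304050200) (.leaf (nat_lit 0x601070304050002) (nat_lit 1541))
 (.node (nat_lit 0x601070403000205) (.leaf (nat_lit 0x601070304050200) (nat_lit 1285))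
 (.leaf (nat_lit 0x601070403000205) (nat_lit 1797))
))) (.node (nat_lit 0x601070403050002) (.node (nat_lit 0x601070403020005) (.leaf (nat_lit 0x601070403000502) (nat_lit 1541))
 (.node (nat_lit 0x601070403020500) (.leaf (nat_lit 0x601070403020005) (nat_lit 1541))
 (.leaf (nat_lit 0x601070403020500) (nat_lit 1285))
)) (.node (nat_lit 0x601070403050200) (.leaf (nat_lit 0x601070403050002) (nat_lit 1285))
 (.node (nat_lit 0x602000304010507) (.leaf (nat_lit 0x601070403050200) (nat_lit 1029))
 (.leaf (nat_lit 0x602000304010507) (nat_lit 2565))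
))))) (.node (nat_lit 0x602010304000507) (.node (nat_lit 0x602000403010507) (.node (nat_lit 0x602000304050701) (.node (nat_lit 0x602000304050107) (.leaf (nat_lit 0x602000304010705) (nat_lit 2309))
 (.leaf (nat_lit 0x602000304050107) (nat_lit 2309))
) (.node (nat_lit 0x602000304070105) (.leaf (nat_lit 0x602000304050701) (nat_lit 2053))
 (.node (nat_lit 0x602000304070501) (.leaf (nat_lit 0x602000304070105) (nat_lit 2053))
 (.leaf (nat_lit 0x602000304070501) (nat_lit 1797))
))) (.node (nat_lit 0x602000403050701) (.node (nat_lit 0x602000403010705) (.leaf (nat_lit 0x602000403010507) (nat_lit 2309))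
 (.node (nat_lit 0x602000403050107) (.leaf (nat_lit 0x602000403010705) (nat_lit 2053))
 (.leaf (nat_lit 0x602000403050107) (nat_lit 2053))
)) (.node (nat_lit 0x602000403070105) (.leaf (nat_lit 0x602000403050701) (nat_lit 1797))
 (.node (nat_lit 0x602000403070501) (.leaf (nat_lit 0x602000403070105) (nat_lit 1797))
 (.leaf (nat_lit 0x602000403070501) (nat_lit 1541))
)))) (.node (nat_lit 0x602010403000507) (.node (nat_lit 0x602010304050700) (.node (nat_lit 0x602010304000705) (.leaf (nat_lit 0x602010304000507) (nat_lit 2309))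
 (.node (nat_lit 0x602010304050007) (.leaf (nat_lit 0x602010304000705) (nat_lit 2053))
 (.leaf (nat_lit 0x602010304050007) (nat_lit 2053))
)) (.node (nat_lit 0x602010304070005) (.leaf (nat_lit 0x602010304050700) (nat_lit 1797))
 (.node (nat_lit 0x602010304070500) (.leaf (nat_lit 0x602010304070005) (nat_lit 1797))
 (.leaf (nat_lit 0x602010304070500) (nat_lit 1541))
))) (.node (nat_lit 0x602010403050700) (.node (nat_lit 0x602010403000705) (.leaf (nat_lit 0x602010403000507) (nat_lit 2053))
 (.node (nat_lit 0x602010403050007) (.leaf (nat_lit 0x602010403000705) (nat_lit 1797))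
 (.leaf (nat_lit 0x602010403050007) (nat_lit 1797))
)) (.node (nat_lit 0x602010403070005) (.leaf (nat_lit 0x602010403050700) (nat_lit 1541))
 (.node (nat_lit 0x602010403070500) (.leaf (nat_lit 0x602010403070005) (nat_lit 1541))
 (.leaf (nat_lit 0x602010403070500) (nat_lit 1285))
))))))))) (.node (nat_lit 0x701020304000506) (.node (nat_lit 0x607010403000205) (.node (nat_lit 0x605010403020700) (.node (nat_lit 0x602070403050001) (.node (nat_lit 0x602050403070100) (.node (nat_lit 0x602050304070100) (.node (nat_lit 0x602050304010007) (.node (nat_lit 0x602050304000701) (.leaf (nat_lit 0x602050304000107) (nat_lit 2053))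
 (.leaf (nat_lit 0x602050304000701) (nat_lit 1797))
) (.node (nat_lit 0x602050304010700) (.leaf (nat_lit 0x602050304010007) (nat_lit 1797))
 (.node (nat_lit 0x602050304070001) (.leaf (nat_lit 0x602050304010700) (nat_lit 1541))
 (.leaf (nat_lit 0x602050304070001) (nat_lit 1541))
))) (.node (nat_lit 0x602050403010007) (.node (nat_lit 0x602050403000107) (.leaf (nat_lit 0x602050304070100) (nat_lit 1285))
 (.node (nat_lit 0x602050403000701) (.leaf (nat_lit 0x602050403000107) (nat_lit 1797))
 (.leaf (nat_lit 0x602050403000701) (nat_lit 1541))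
)) (.node (nat_lit 0x602050403010700) (.leaf (nat_lit 0x602050403010007) (nat_lit 1541))
 (.node (nat_lit 0x602050403070001) (.leaf (nat_lit 0x602050403010700) (nat_lit 1285))
 (.leaf (nat_lit 0x602050403070001) (nat_lit 1285))
)))) (.node (nat_lit 0x602070304050001) (.node (nat_lit 0x602070304000501) (.node (nat_lit 0x602070304000105) (.leaf (nat_lit 0x602050403070100) (nat_lit 1029))
 (.leaf (nat_lit 0x602070304000105) (nat_lit 1797))
) (.node (nat_lit 0x602070304010005) (.leaf (nat_lit 0x602070304000501) (nat_lit 1541))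
 (.node (nat_lit 0x602070304010500) (.leaf (nat_lit 0x602070304010005) (nat_lit 1541))
 (.leaf (nat_lit 0x602070304010500) (nat_lit 1285))
))) (.node (nat_lit 0x602070403000501) (.node (nat_lit 0x602070304050100) (.leaf (nat_lit 0x602070304050001) (nat_lit 1285))
 (.node (nat_lit 0x602070403000105) (.leaf (nat_lit 0x602070304050100) (nat_lit 1029))
 (.leaf (nat_lit 0x602070403000105) (nat_lit 1541))
)) (.node (nat_lit 0x602070403010005) (.leaf (nat_lit 0x602070403000501) (nat_lit 1285))
 (.node (nat_lit 0x602070403010500) (.leaf (nat_lit 0x602070403010005) (nat_lit 1285))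
 (.leaf (nat_lit 0x602070403010500) (nat_lit 1029))
))))) (.node (nat_lit 0x605000403020701) (.node (nat_lit 0x605000304020701) (.node (nat_lit 0x605000304010207) (.node (nat_lit 0x602070403050100) (.leaf (nat_lit 0x602070403050001) (nat_lit 1029))
 (.leaf (nat_lit 0x602070403050100) (nat_lit 773))
) (.node (nat_lit 0x605000304010702) (.leaf (nat_lit 0x605000304010207) (nat_lit 2309))
 (.node (nat_lit 0x605000304020107) (.leaf (nat_lit 0x605000304010702) (nat_lit 2053))
 (.leaf (nat_lit 0x605000304020107) (nat_lit 2053))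
))) (.node (nat_lit 0x605000403010207) (.node (nat_lit 0x605000304070102) (.leaf (nat_lit 0x605000304020701) (nat_lit 1797))
 (.node (nat_lit 0x605000304070201) (.leaf (nat_lit 0x605000304070102) (nat_lit 1797))
 (.leaf (nat_lit 0x605000304070201) (nat_lit 1541))
)) (.node (nat_lit 0x605000403010702) (.leaf (nat_lit 0x605000403010207) (nat_lit 2053))
 (.node (nat_lit 0x605000403020107) (.leaf (nat_lit 0x605000403010702) (nat_lit 1797))
 (.leaf (nat_lit 0x605000403020107) (nat_lit 1797))
)))) (.node (nat_lit 0x605010304020700) (.node (nat_lit 0x605010304000207) (.node (nat_lit 0x605000403070102) (.leaf (nat_lit 0x605000403020701) (nat_lit 1541))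
 (.node (nat_lit 0x605000403070201) (.leaf (nat_lit 0x605000403070102) (nat_lit 1541))
 (.leaf (nat_lit 0x605000403070201) (nat_lit 1285))
)) (.node (nat_lit 0x605010304000702) (.leaf (nat_lit 0x605010304000207) (nat_lit 2053))
 (.node (nat_lit 0x605010304020007) (.leaf (nat_lit 0x605010304000702) (nat_lit 1797))
 (.leaf (nat_lit 0x605010304020007) (nat_lit 1797))
))) (.node (nat_lit 0x605010403000207) (.node (nat_lit 0x605010304070002) (.leaf (nat_lit 0x605010304020700) (nat_lit 1541))
 (.node (nat_lit 0x605010304070200) (.leaf (nat_lit 0x605010304070002) (nat_lit 1541))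
 (.leaf (nat_lit 0x605010304070200) (nat_lit 1285))
)) (.node (nat_lit 0x605010403000702) (.leaf (nat_lit 0x605010403000207) (nat_lit 1797))
 (.node (nat_lit 0x605010403020007) (.leaf (nat_lit 0x605010403000702) (nat_lit 1541))
 (.leaf (nat_lit 0x605010403020007) (nat_lit 1541))
)))))) (.node (nat_lit 0x605070403000201) (.node (nat_lit 0x605020403010007) (.node (nat_lit 0x605020304010007) (.node (nat_lit 0x605010403070200) (.node (nat_lit 0x605010403070002) (.leaf (nat_lit 0x605010403020700) (nat_lit 1285))
 (.leaf (nat_lit 0x605010403070002) (nat_lit 1285))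
) (.node (nat_lit 0x605020304000107) (.leaf (nat_lit 0x605010403070200) (nat_lit 1029))
 (.node (nat_lit 0x605020304000701) (.leaf (nat_lit 0x605020304000107) (nat_lit 1797))
 (.leaf (nat_lit 0x605020304000701) (nat_lit 1541))
))) (.node (nat_lit 0x605020304070100) (.node (nat_lit 0x605020304010700) (.leaf (nat_lit 0x605020304010007) (nat_lit 1541))
 (.node (nat_lit 0x605020304070001) (.leaf (nat_lit 0x605020304010700) (nat_lit 1285))
 (.leaf (nat_lit 0x605020304070001) (nat_lit 1285))
)) (.node (nat_lit 0x605020403000107) (.leaf (nat_lit 0x605020304070100) (nat_lit 1029))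
 (.node (nat_lit 0x605020403000701) (.leaf (nat_lit 0x605020403000107) (nat_lit 1541))
 (.leaf (nat_lit 0x605020403000701) (nat_lit 1285))
)))) (.node (nat_lit 0x605070304000201) (.node (nat_lit 0x605020403070001) (.node (nat_lit 0x605020403010700) (.leaf (nat_lit 0x605020403010007) (nat_lit 1285))
 (.leaf (nat_lit 0x605020403010700) (nat_lit 1029))
) (.node (nat_lit 0x605020403070100) (.leaf (nat_lit 0x605020403070001) (nat_lit 1029))
 (.node (nat_lit 0x605070304000102) (.leaf (nat_lit 0x605020403070100) (nat_lit 773))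
 (.leaf (nat_lit 0x605070304000102) (nat_lit 1541))
))) (.node (nat_lit 0x605070304020001) (.node (nat_lit 0x605070304010002) (.leaf (nat_lit 0x605070304000201) (nat_lit 1285))
 (.node (nat_lit 0x605070304010200) (.leaf (nat_lit 0x605070304010002) (nat_lit 1285))
 (.leaf (nat_lit 0x605070304010200) (nat_lit 1029))
)) (.node (nat_lit 0x605070304020100) (.leaf (nat_lit 0x605070304020001) (nat_lit 1029))
 (.node (nat_lit 0x605070403000102) (.leaf (nat_lit 0x605070304020100) (nat_lit 773))
 (.leaf (nat_lit 0x605070403000102) (nat_lit 1285))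
))))) (.node (nat_lit 0x607000403010205) (.node (nat_lit 0x607000304010205) (.node (nat_lit 0x605070403010200) (.node (nat_lit 0x605070403010002) (.leaf (nat_lit 0x605070403000201) (nat_lit 1029))
 (.leaf (nat_lit 0x605070403010002) (nat_lit 1029))
) (.node (nat_lit 0x605070403020001) (.leaf (nat_lit 0x605070403010200) (nat_lit 773))
 (.node (nat_lit 0x605070403020100) (.leaf (nat_lit 0x605070403020001) (nat_lit 773))
 (.leaf (nat_lit 0x605070403020100) (nat_lit 517))
))) (.node (nat_lit 0x607000304020501) (.node (nat_lit 0x607000304010502) (.leaf (nat_lit 0x607000304010205) (nat_lit 2053))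
 (.node (nat_lit 0x607000304020105) (.leaf (nat_lit 0x607000304010502) (nat_lit 1797))
 (.leaf (nat_lit 0x607000304020105) (nat_lit 1797))
)) (.node (nat_lit 0x607000304050102) (.leaf (nat_lit 0x607000304020501) (nat_lit 1541))
 (.node (nat_lit 0x607000304050201) (.leaf (nat_lit 0x607000304050102) (nat_lit 1541))
 (.leaf (nat_lit 0x607000304050201) (nat_lit 1285))
)))) (.node (nat_lit 0x607010304000205) (.node (nat_lit 0x607000403020501) (.node (nat_lit 0x607000403010502) (.leaf (nat_lit 0x607000403010205) (nat_lit 1797))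
 (.node (nat_lit 0x607000403020105) (.leaf (nat_lit 0x607000403010502) (nat_lit 1541))
 (.leaf (nat_lit 0x607000403020105) (nat_lit 1541))
)) (.node (nat_lit 0x607000403050102) (.leaf (nat_lit 0x607000403020501) (nat_lit 1285))
 (.node (nat_lit 0x607000403050201) (.leaf (nat_lit 0x607000403050102) (nat_lit 1285))
 (.leaf (nat_lit 0x607000403050201) (nat_lit 1029))
))) (.node (nat_lit 0x607010304020500) (.node (nat_lit 0x607010304000502) (.leaf (nat_lit 0x607010304000205) (nat_lit 1797))
 (.node (nat_lit 0x607010304020005) (.leaf (nat_lit 0x607010304000502) (nat_lit 1541))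
 (.leaf (nat_lit 0x607010304020005) (nat_lit 1541))
)) (.node (nat_lit 0x607010304050002) (.leaf (nat_lit 0x607010304020500) (nat_lit 1285))
 (.node (nat_lit 0x607010304050200) (.leaf (nat_lit 0x607010304050002) (nat_lit 1285))
 (.leaf (nat_lit 0x607010304050200) (nat_lit 1029))
))))))) (.node (nat_lit 0x700020304050601) (.node (nat_lit 0x607050304020001) (.node (nat_lit 0x607020304050100) (.node (nat_lit 0x607010403050200) (.node (nat_lit 0x607010403020005) (.node (nat_lit 0x607010403000502) (.leaf (nat_lit 0x607010403000205) (nat_lit 1541))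
 (.leaf (nat_lit 0x607010403000502) (nat_lit 1285))
) (.node (nat_lit 0x607010403020500) (.leaf (nat_lit 0x607010403020005) (nat_lit 1285))
 (.node (nat_lit 0x607010403050002) (.leaf (nat_lit 0x607010403020500) (nat_lit 1029))
 (.leaf (nat_lit 0x607010403050002) (nat_lit 1029))
))) (.node (nat_lit 0x607020304010005) (.node (nat_lit 0x607020304000105) (.leaf (nat_lit 0x607010403050200) (nat_lit 773))
 (.node (nat_lit 0x607020304000501) (.leaf (nat_lit 0x607020304000105) (nat_lit 1541))
 (.leaf (nat_lit 0x607020304000501) (nat_lit 1285))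
)) (.node (nat_lit 0x607020304010500) (.leaf (nat_lit 0x607020304010005) (nat_lit 1285))
 (.node (nat_lit 0x607020304050001) (.leaf (nat_lit 0x607020304010500) (nat_lit 1029))
 (.leaf (nat_lit 0x607020304050001) (nat_lit 1029))
)))) (.node (nat_lit 0x607020403050001) (.node (nat_lit 0x607020403000501) (.node (nat_lit 0x607020403000105) (.leaf (nat_lit 0x607020304050100) (nat_lit 773))
 (.leaf (nat_lit 0x607020403000105) (nat_lit 1285))
) (.node (nat_lit 0x607020403010005) (.leaf (nat_lit 0x607020403000501) (nat_lit 1029))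
 (.node (nat_lit 0x607020403010500) (.leaf (nat_lit 0x607020403010005) (nat_lit 1029))
 (.leaf (nat_lit 0x607020403010500) (nat_lit 773))
))) (.node (nat_lit 0x607050304000201) (.node (nat_lit 0x607020403050100) (.leaf (nat_lit 0x607020403050001) (nat_lit 773))
 (.node (nat_lit 0x607050304000102) (.leaf (nat_lit 0x607020403050100) (nat_lit 517))
 (.leaf (nat_lit 0x607050304000102) (nat_lit 1285))
)) (.node (nat_lit 0x607050304010002) (.leaf (nat_lit 0x607050304000201) (nat_lit 1029))
 (.node (nat_lit 0x607050304010200) (.leaf (nat_lit 0x607050304010002) (nat_lit 1029))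
 (.leaf (nat_lit 0x607050304010200) (nat_lit 773))
))))) (.node (nat_lit 0x700010304050602) (.node (nat_lit 0x607050403010200) (.node (nat_lit 0x607050403000102) (.node (nat_lit 0x607050304020100) (.leaf (nat_lit 0x607050304020001) (nat_lit 773))
 (.leaf (nat_lit 0x607050304020100) (nat_lit 517))
) (.node (nat_lit 0x607050403000201) (.leaf (nat_lit 0x607050403000102) (nat_lit 1029))
 (.node (nat_lit 0x607050403010002) (.leaf (nat_lit 0x607050403000201) (nat_lit 773))
 (.leaf (nat_lit 0x607050403010002) (nat_lit 773))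
))) (.node (nat_lit 0x700010304020506) (.node (nat_lit 0x607050403020001) (.leaf (nat_lit 0x607050403010200) (nat_lit 517))
 (.node (nat_lit 0x607050403020100) (.leaf (nat_lit 0x607050403020001) (nat_lit 517))
 (.leaf (nat_lit 0x607050403020100) (nat_lit 261))
)) (.node (nat_lit 0x700010304020605) (.leaf (nat_lit 0x700010304020506) (nat_lit 2817))
 (.node (nat_lit 0x700010304050206) (.leaf (nat_lit 0x700010304020605) (nat_lit 2561))
 (.leaf (nat_lit 0x700010304050206) (nat_lit 2561))
)))) (.node (nat_lit 0x700010403050602) (.node (nat_lit 0x700010403020506) (.node (nat_lit 0x700010304060205) (.leaf (nat_lit 0x700010304050602) (nat_lit 2305))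
 (.node (nat_lit 0x700010304060502) (.leaf (nat_lit 0x700010304060205) (nat_lit 2305))
 (.leaf (nat_lit 0x700010304060502) (nat_lit 2049))
)) (.node (nat_lit 0x700010403020605) (.leaf (nat_lit 0x700010403020506) (nat_lit 2561))
 (.node (nat_lit 0x700010403050206) (.leaf (nat_lit 0x700010403020605) (nat_lit 2305))
 (.leaf (nat_lit 0x700010403050206) (nat_lit 2305))
))) (.node (nat_lit 0x700020304010506) (.node (nat_lit 0x700010403060205) (.leaf (nat_lit 0x700010403050602) (nat_lit 2049))
 (.node (nat_lit 0x700010403060502) (.leaf (nat_lit 0x700010403060205) (nat_lit 2049))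
 (.leaf (nat_lit 0x700010403060502) (nat_lit 1793))
)) (.node (nat_lit 0x700020304010605) (.leaf (nat_lit 0x700020304010506) (nat_lit 2561))
 (.node (nat_lit 0x700020304050106) (.leaf (nat_lit 0x700020304010605) (nat_lit 2305))
 (.leaf (nat_lit 0x700020304050106) (nat_lit 2305))
)))))) (.node (nat_lit 0x700060304010502) (.node (nat_lit 0x700050304020106) (.node (nat_lit 0x700020403050106) (.node (nat_lit 0x700020304060501) (.node (nat_lit 0x700020304060105) (.leaf (nat_lit 0x700020304050601) (nat_lit 2049))
 (.leaf (nat_lit 0x700020304060105) (nat_lit 2049))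
) (.node (nat_lit 0x700020403010506) (.leaf (nat_lit 0x700020304060501) (nat_lit 1793))
 (.node (nat_lit 0x700020403010605) (.leaf (nat_lit 0x700020403010506) (nat_lit 2305))
 (.leaf (nat_lit 0x700020403010605) (nat_lit 2049))
))) (.node (nat_lit 0x700020403060501) (.node (nat_lit 0x700020403050601) (.leaf (nat_lit 0x700020403050106) (nat_lit 2049))
 (.node (nat_lit 0x700020403060105) (.leaf (nat_lit 0x700020403050601) (nat_lit 1793))
 (.leaf (nat_lit 0x700020403060105) (nat_lit 1793))
)) (.node (nat_lit 0x700050304010206) (.leaf (nat_lit 0x700020403060501) (nat_lit 1537))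
 (.node (nat_lit 0x700050304010602) (.leaf (nat_lit 0x700050304010206) (nat_lit 2305))
 (.leaf (nat_lit 0x700050304010602) (nat_lit 2049))
)))) (.node (nat_lit 0x700050403010602) (.node (nat_lit 0x700050304060102) (.node (nat_lit 0x700050304020601) (.leaf (nat_lit 0x700050304020106) (nat_lit 2049))
 (.leaf (nat_lit 0x700050304020601) (nat_lit 1793))
) (.node (nat_lit 0x700050304060201) (.leaf (nat_lit 0x700050304060102) (nat_lit 1793))
 (.node (nat_lit 0x700050403010206) (.leaf (nat_lit 0x700050304060201) (nat_lit 1537))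
 (.leaf (nat_lit 0x700050403010206) (nat_lit 2049))
))) (.node (nat_lit 0x700050403060102) (.node (nat_lit 0x700050403020106) (.leaf (nat_lit 0x700050403010602) (nat_lit 1793))
 (.node (nat_lit 0x700050403020601) (.leaf (nat_lit 0x700050403020106) (nat_lit 1793))
 (.leaf (nat_lit 0x700050403020601) (nat_lit 1537))
)) (.node (nat_lit 0x700050403060201) (.leaf (nat_lit 0x700050403060102) (nat_lit 1537))
 (.node (nat_lit 0x700060304010205) (.leaf (nat_lit 0x700050403060201) (nat_lit 1281))
 (.leaf (nat_lit 0x700060304010205) (nat_lit 2049))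
))))) (.node (nat_lit 0x701000304020506) (.node (nat_lit 0x700060403010205) (.node (nat_lit 0x700060304020501) (.node (nat_lit 0x700060304020105) (.leaf (nat_lit 0x700060304010502) (nat_lit 1793))
 (.leaf (nat_lit 0x700060304020105) (nat_lit 1793))
) (.node (nat_lit 0x700060304050102) (.leaf (nat_lit 0x700060304020501) (nat_lit 1537))
 (.node (nat_lit 0x700060304050201) (.leaf (nat_lit 0x700060304050102) (nat_lit 1537))
 (.leaf (nat_lit 0x700060304050201) (nat_lit 1281))
))) (.node (nat_lit 0x700060403020501) (.node (nat_lit 0x700060403010502) (.leaf (nat_lit 0x700060403010205) (nat_lit 1793))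
 (.node (nat_lit 0x700060403020105) (.leaf (nat_lit 0x700060403010502) (nat_lit 1537))
 (.leaf (nat_lit 0x700060403020105) (nat_lit 1537))
)) (.node (nat_lit 0x700060403050102) (.leaf (nat_lit 0x700060403020501) (nat_lit 1281))
 (.node (nat_lit 0x700060403050201) (.leaf (nat_lit 0x700060403050102) (nat_lit 1281))
 (.leaf (nat_lit 0x700060403050201) (nat_lit 1025))
)))) (.node (nat_lit 0x701000403020506) (.node (nat_lit 0x701000304050602) (.node (nat_lit 0x701000304020605) (.leaf (nat_lit 0x701000304020506) (nat_lit 2562))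
 (.node (nat_lit 0x701000304050206) (.leaf (nat_lit 0x701000304020605) (nat_lit 2306))
 (.leaf (nat_lit 0x701000304050206) (nat_lit 2306))
)) (.node (nat_lit 0x701000304060205) (.leaf (nat_lit 0x701000304050602) (nat_lit 2050))
 (.node (nat_lit 0x701000304060502) (.leaf (nat_lit 0x701000304060205) (nat_lit 2050))
 (.leaf (nat_lit 0x701000304060502) (nat_lit 1794))
))) (.node (nat_lit 0x701000403050602) (.node (nat_lit 0x701000403020605) (.leaf (nat_lit 0x701000403020506) (nat_lit 2306))
 (.node (nat_lit 0x701000403050206) (.leaf (nat_lit 0x701000403020605) (nat_lit 2050))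
 (.leaf (nat_lit 0x701000403050206) (nat_lit 2050))
)) (.node (nat_lit 0x701000403060205) (.leaf (nat_lit 0x701000403050602) (nat_lit 1794))
 (.node (nat_lit 0x701000403060502) (.leaf (nat_lit 0x701000403060205) (nat_lit 1794))
 (.leaf (nat_lit 0x701000403060502) (nat_lit 1538))
)))))))) (.node (nat_lit 0x705000403010206) (.node (nat_lit 0x702000403050601) (.node (nat_lit 0x701050403060002) (.node (nat_lit 0x701020403060500) (.node (nat_lit 0x701020304060500) (.node (nat_lit 0x701020304050006) (.node (nat_lit 0x701020304000605) (.leaf (nat_lit 0x701020304000506) (nat_lit 2306))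
 (.leaf (nat_lit 0x701020304000605) (nat_lit 2050))
) (.node (nat_lit 0x701020304050600) (.leaf (nat_lit 0x701020304050006) (nat_lit 2050))
 (.node (nat_lit 0x701020304060005) (.leaf (nat_lit 0x701020304050600) (nat_lit 1794))
 (.leaf (nat_lit 0x701020304060005) (nat_lit 1794))
))) (.node (nat_lit 0x701020403050006) (.node (nat_lit 0x701020403000506) (.leaf (nat_lit 0x701020304060500) (nat_lit 1538))
 (.node (nat_lit 0x701020403000605) (.leaf (nat_lit 0x701020403000506) (nat_lit 2050))
 (.leaf (nat_lit 0x701020403000605) (nat_lit 1794))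
)) (.node (nat_lit 0x701020403050600) (.leaf (nat_lit 0x701020403050006) (nat_lit 1794))
 (.node (nat_lit 0x701020403060005) (.leaf (nat_lit 0x701020403050600) (nat_lit 1538))
 (.leaf (nat_lit 0x701020403060005) (nat_lit 1538))
)))) (.node (nat_lit 0x701050304060002) (.node (nat_lit 0x701050304000602) (.node (nat_lit 0x701050304000206) (.leaf (nat_lit 0x701020403060500) (nat_lit 1282))
 (.leaf (nat_lit 0x701050304000206) (nat_lit 2050))
) (.node (nat_lit 0x701050304020006) (.leaf (nat_lit 0x701050304000602) (nat_lit 1794))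
 (.node (nat_lit 0x701050304020600) (.leaf (nat_lit 0x701050304020006) (nat_lit 1794))
 (.leaf (nat_lit 0x701050304020600) (nat_lit 1538))
))) (.node (nat_lit 0x701050403000602) (.node (nat_lit 0x701050304060200) (.leaf (nat_lit 0x701050304060002) (nat_lit 1538))
 (.node (nat_lit 0x701050403000206) (.leaf (nat_lit 0x701050304060200) (nat_lit 1282))
 (.leaf (nat_lit 0x701050403000206) (nat_lit 1794))
)) (.node (nat_lit 0x701050403020006) (.leaf (nat_lit 0x701050403000602) (nat_lit 1538))
 (.node (nat_lit 0x701050403020600) (.leaf (nat_lit 0x701050403020006) (nat_lit 1538))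
 (.leaf (nat_lit 0x701050403020600) (nat_lit 1282))
))))) (.node (nat_lit 0x701060403020500) (.node (nat_lit 0x701060304020500) (.node (nat_lit 0x701060304000205) (.node (nat_lit 0x701050403060200) (.leaf (nat_lit 0x701050403060002) (nat_lit 1282))
 (.leaf (nat_lit 0x701050403060200) (nat_lit 1026))
) (.node (nat_lit 0x701060304000502) (.leaf (nat_lit 0x701060304000205) (nat_lit 1794))
 (.node (nat_lit 0x701060304020005) (.leaf (nat_lit 0x701060304000502) (nat_lit 1538))
 (.leaf (nat_lit 0x701060304020005) (nat_lit 1538))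
))) (.node (nat_lit 0x701060403000205) (.node (nat_lit 0x701060304050002) (.leaf (nat_lit 0x701060304020500) (nat_lit 1282))
 (.node (nat_lit 0x701060304050200) (.leaf (nat_lit 0x701060304050002) (nat_lit 1282))
 (.leaf (nat_lit 0x701060304050200) (nat_lit 1026))
)) (.node (nat_lit 0x701060403000502) (.leaf (nat_lit 0x701060403000205) (nat_lit 1538))
 (.node (nat_lit 0x701060403020005) (.leaf (nat_lit 0x701060403000502) (nat_lit 1282))
 (.leaf (nat_lit 0x701060403020005) (nat_lit 1282))
)))) (.node (nat_lit 0x702000304050601) (.node (nat_lit 0x702000304010506) (.node (nat_lit 0x701060403050002) (.leaf (nat_lit 0x701060403020500) (nat_lit 1026))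
 (.node (nat_lit 0x701060403050200) (.leaf (nat_lit 0x701060403050002) (nat_lit 1026))
 (.leaf (nat_lit 0x701060403050200) (nat_lit 770))
)) (.node (nat_lit 0x702000304010605) (.leaf (nat_lit 0x702000304010506) (nat_lit 2307))
 (.node (nat_lit 0x702000304050106) (.leaf (nat_lit 0x702000304010605) (nat_lit 2051))
 (.leaf (nat_lit 0x702000304050106) (nat_lit 2051))
))) (.node (nat_lit 0x702000403010506) (.node (nat_lit 0x702000304060105) (.leaf (nat_lit 0x702000304050601) (nat_lit 1795))
 (.node (nat_lit 0x702000304060501) (.leaf (nat_lit 0x702000304060105) (nat_lit 1795))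
 (.leaf (nat_lit 0x702000304060501) (nat_lit 1539))
)) (.node (nat_lit 0x702000403010605) (.leaf (nat_lit 0x702000403010506) (nat_lit 2051))
 (.node (nat_lit 0x702000403050106) (.leaf (nat_lit 0x702000403010605) (nat_lit 1795))
 (.leaf (nat_lit 0x702000403050106) (nat_lit 1795))
)))))) (.node (nat_lit 0x702050403000601) (.node (nat_lit 0x702010403050006) (.node (nat_lit 0x702010304050006) (.node (nat_lit 0x702000403060501) (.node (nat_lit 0x702000403060105) (.leaf (nat_lit 0x702000403050601) (nat_lit 1539))
 (.leaf (nat_lit 0x702000403060105) (nat_lit 1539))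
) (.node (nat_lit 0x702010304000506) (.leaf (nat_lit 0x702000403060501) (nat_lit 1283))
 (.node (nat_lit 0x702010304000605) (.leaf (nat_lit 0x702010304000506) (nat_lit 2051))
 (.leaf (nat_lit 0x702010304000605) (nat_lit 1795))
))) (.node (nat_lit 0x702010304060500) (.node (nat_lit 0x702010304050600) (.leaf (nat_lit 0x702010304050006) (nat_lit 1795))
 (.node (nat_lit 0x702010304060005) (.leaf (nat_lit 0x702010304050600) (nat_lit 1539))
 (.leaf (nat_lit 0x702010304060005) (nat_lit 1539))
)) (.node (nat_lit 0x702010403000506) (.leaf (nat_lit 0x702010304060500) (nat_lit 1283))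
 (.node (nat_lit 0x702010403000605) (.leaf (nat_lit 0x702010403000506) (nat_lit 1795))
 (.leaf (nat_lit 0x702010403000605) (nat_lit 1539))
)))) (.node (nat_lit 0x702050304000601) (.node (nat_lit 0x702010403060005) (.node (nat_lit 0x702010403050600) (.leaf (nat_lit 0x702010403050006) (nat_lit 1539))
 (.leaf (nat_lit 0x702010403050600) (nat_lit 1283))
) (.node (nat_lit 0x702010403060500) (.leaf (nat_lit 0x702010403060005) (nat_lit 1283))
 (.node (nat_lit 0x702050304000106) (.leaf (nat_lit 0x702010403060500) (nat_lit 1027))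
 (.leaf (nat_lit 0x702050304000106) (nat_lit 1795))
))) (.node (nat_lit 0x702050304060001) (.node (nat_lit 0x702050304010006) (.leaf (nat_lit 0x702050304000601) (nat_lit 1539))
 (.node (nat_lit 0x702050304010600) (.leaf (nat_lit 0x702050304010006) (nat_lit 1539))
 (.leaf (nat_lit 0x702050304010600) (nat_lit 1283))
)) (.node (nat_lit 0x702050304060100) (.leaf (nat_lit 0x702050304060001) (nat_lit 1283))
 (.node (nat_lit 0x702050403000106) (.leaf (nat_lit 0x702050304060100) (nat_lit 1027))
 (.leaf (nat_lit 0x702050403000106) (nat_lit 1539))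
))))) (.node (nat_lit 0x702060403000105) (.node (nat_lit 0x702060304000105) (.node (nat_lit 0x702050403010600) (.node (nat_lit 0x702050403010006) (.leaf (nat_lit 0x702050403000601) (nat_lit 1283))
 (.leaf (nat_lit 0x702050403010006) (nat_lit 1283))
) (.node (nat_lit 0x702050403060001) (.leaf (nat_lit 0x702050403010600) (nat_lit 1027))
 (.node (nat_lit 0x702050403060100) (.leaf (nat_lit 0x702050403060001) (nat_lit 1027))
 (.leaf (nat_lit 0x702050403060100) (nat_lit 771))
))) (.node (nat_lit 0x702060304010500) (.node (nat_lit 0x702060304000501) (.leaf (nat_lit 0x702060304000105) (nat_lit 1539))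
 (.node (nat_lit 0x702060304010005) (.leaf (nat_lit 0x702060304000501) (nat_lit 1283))
 (.leaf (nat_lit 0x702060304010005) (nat_lit 1283))
)) (.node (nat_lit 0x702060304050001) (.leaf (nat_lit 0x702060304010500) (nat_lit 1027))
 (.node (nat_lit 0x702060304050100) (.leaf (nat_lit 0x702060304050001) (nat_lit 1027))
 (.leaf (nat_lit 0x702060304050100) (nat_lit 771))
)))) (.node (nat_lit 0x705000304010206) (.node (nat_lit 0x702060403010500) (.node (nat_lit 0x702060403000501) (.leaf (nat_lit 0x702060403000105) (nat_lit 1283))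
 (.node (nat_lit 0x702060403010005) (.leaf (nat_lit 0x702060403000501) (nat_lit 1027))
 (.leaf (nat_lit 0x702060403010005) (nat_lit 1027))
)) (.node (nat_lit 0x702060403050001) (.leaf (nat_lit 0x702060403010500) (nat_lit 771))
 (.node (nat_lit 0x702060403050100) (.leaf (nat_lit 0x702060403050001) (nat_lit 771))
 (.leaf (nat_lit 0x702060403050100) (nat_lit 515))
))) (.node (nat_lit 0x705000304020601) (.node (nat_lit 0x705000304010602) (.leaf (nat_lit 0x705000304010206) (nat_lit 2052))
 (.node (nat_lit 0x705000304020106) (.leaf (nat_lit 0x705000304010602) (nat_lit 1796))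
 (.leaf (nat_lit 0x705000304020106) (nat_lit 1796))
)) (.node (nat_lit 0x705000304060102) (.leaf (nat_lit 0x705000304020601) (nat_lit 1540))
 (.node (nat_lit 0x705000304060201) (.leaf (nat_lit 0x705000304060102) (nat_lit 1540))
 (.leaf (nat_lit 0x705000304060201) (nat_lit 1284))
))))))) (.node (nat_lit 0x706000304020501) (.node (nat_lit 0x705020304060001) (.node (nat_lit 0x705010304060200) (.node (nat_lit 0x705000403060201) (.node (nat_lit 0x705000403020106) (.node (nat_lit 0x705000403010602) (.leaf (nat_lit 0x705000403010206) (nat_lit 1796))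
 (.leaf (nat_lit 0x705000403010602) (nat_lit 1540))
) (.node (nat_lit 0x705000403020601) (.leaf (nat_lit 0x705000403020106) (nat_lit 1540))
 (.node (nat_lit 0x705000403060102) (.leaf (nat_lit 0x705000403020601) (nat_lit 1284))
 (.leaf (nat_lit 0x705000403060102) (nat_lit 1284))
))) (.node (nat_lit 0x705010304020006) (.node (nat_lit 0x705010304000206) (.leaf (nat_lit 0x705000403060201) (nat_lit 1028))
 (.node (nat_lit 0x705010304000602) (.leaf (nat_lit 0x705010304000206) (nat_lit 1796))
 (.leaf (nat_lit 0x705010304000602) (nat_lit 1540))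
)) (.node (nat_lit 0x705010304020600) (.leaf (nat_lit 0x705010304020006) (nat_lit 1540))
 (.node (nat_lit 0x705010304060002) (.leaf (nat_lit 0x705010304020600) (nat_lit 1284))
 (.leaf (nat_lit 0x705010304060002) (nat_lit 1284))
)))) (.node (nat_lit 0x705010403060002) (.node (nat_lit 0x705010403000602) (.node (nat_lit 0x705010403000206) (.leaf (nat_lit 0x705010304060200) (nat_lit 1028))
 (.leaf (nat_lit 0x705010403000206) (nat_lit 1540))
) (.node (nat_lit 0x705010403020006) (.leaf (nat_lit 0x705010403000602) (nat_lit 1284))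
 (.node (nat_lit 0x705010403020600) (.leaf (nat_lit 0x705010403020006) (nat_lit 1284))
 (.leaf (nat_lit 0x705010403020600) (nat_lit 1028))
))) (.node (nat_lit 0x705020304000601) (.node (nat_lit 0x705010403060200) (.leaf (nat_lit 0x705010403060002) (nat_lit 1028))
 (.node (nat_lit 0x705020304000106) (.leaf (nat_lit 0x705010403060200) (nat_lit 772))
 (.leaf (nat_lit 0x705020304000106) (nat_lit 1540))
)) (.node (nat_lit 0x705020304010006) (.leaf (nat_lit 0x705020304000601) (nat_lit 1284))
 (.node (nat_lit 0x705020304010600) (.leaf (nat_lit 0x705020304010006) (nat_lit 1284))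
 (.leaf (nat_lit 0x705020304010600) (nat_lit 1028))
))))) (.node (nat_lit 0x705060304010200) (.node (nat_lit 0x705020403010600) (.node (nat_lit 0x705020403000106) (.node (nat_lit 0x705020304060100) (.leaf (nat_lit 0x705020304060001) (nat_lit 1028))
 (.leaf (nat_lit 0x705020304060100) (nat_lit 772))
) (.node (nat_lit 0x705020403000601) (.leaf (nat_lit 0x705020403000106) (nat_lit 1284))
 (.node (nat_lit 0x705020403010006) (.leaf (nat_lit 0x705020403000601) (nat_lit 1028))
 (.leaf (nat_lit 0x705020403010006) (nat_lit 1028))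
))) (.node (nat_lit 0x705060304000102) (.node (nat_lit 0x705020403060001) (.leaf (nat_lit 0x705020403010600) (nat_lit 772))
 (.node (nat_lit 0x705020403060100) (.leaf (nat_lit 0x705020403060001) (nat_lit 772))
 (.leaf (nat_lit 0x705020403060100) (nat_lit 516))
)) (.node (nat_lit 0x705060304000201) (.leaf (nat_lit 0x705060304000102) (nat_lit 1284))
 (.node (nat_lit 0x705060304010002) (.leaf (nat_lit 0x705060304000201) (nat_lit 1028))
 (.leaf (nat_lit 0x705060304010002) (nat_lit 1028))
)))) (.node (nat_lit 0x705060403010200) (.node (nat_lit 0x705060403000102) (.node (nat_lit 0x705060304020001) (.leaf (nat_lit 0x705060304010200) (nat_lit 772))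
 (.node (nat_lit 0x705060304020100) (.leaf (nat_lit 0x705060304020001) (nat_lit 772))
 (.leaf (nat_lit 0x705060304020100) (nat_lit 516))
)) (.node (nat_lit 0x705060403000201) (.leaf (nat_lit 0x705060403000102) (nat_lit 1028))
 (.node (nat_lit 0x705060403010002) (.leaf (nat_lit 0x705060403000201) (nat_lit 772))
 (.leaf (nat_lit 0x705060403010002) (nat_lit 772))
))) (.node (nat_lit 0x706000304010205) (.node (nat_lit 0x705060403020001) (.leaf (nat_lit 0x705060403010200) (nat_lit 516))
 (.node (nat_lit 0x705060403020100) (.leaf (nat_lit 0x705060403020001) (nat_lit 516))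
 (.leaf (nat_lit 0x705060403020100) (nat_lit 260))
)) (.node (nat_lit 0x706000304010502) (.leaf (nat_lit 0x706000304010205) (nat_lit 1793))
 (.node (nat_lit 0x706000304020105) (.leaf (nat_lit 0x706000304010502) (nat_lit 1537))
 (.leaf (nat_lit 0x706000304020105) (nat_lit 1537))
)))))) (.node (nat_lit 0x706020304000501) (.node (nat_lit 0x706010304020005) (.node (nat_lit 0x706000403020105) (.node (nat_lit 0x706000304050201) (.node (nat_lit 0x706000304050102) (.leaf (nat_lit 0x706000304020501) (nat_lit 1281))
 (.leaf (nat_lit 0x706000304050102) (nat_lit 1281))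
) (.node (nat_lit 0x706000403010205) (.leaf (nat_lit 0x706000304050201) (nat_lit 1025))
 (.node (nat_lit 0x706000403010502) (.leaf (nat_lit 0x706000403010205) (nat_lit 1537))
 (.leaf (nat_lit 0x706000403010502) (nat_lit 1281))
))) (.node (nat_lit 0x706000403050201) (.node (nat_lit 0x706000403020501) (.leaf (nat_lit 0x706000403020105) (nat_lit 1281))
 (.node (nat_lit 0x706000403050102) (.leaf (nat_lit 0x706000403020501) (nat_lit 1025))
 (.leaf (nat_lit 0x706000403050102) (nat_lit 1025))
)) (.node (nat_lit 0x706010304000205) (.leaf (nat_lit 0x706000403050201) (nat_lit 769))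
 (.node (nat_lit 0x706010304000502) (.leaf (nat_lit 0x706010304000205) (nat_lit 1538))
 (.leaf (nat_lit 0x706010304000502) (nat_lit 1282))
)))) (.node (nat_lit 0x706010403000502) (.node (nat_lit 0x706010304050002) (.node (nat_lit 0x706010304020500) (.leaf (nat_lit 0x706010304020005) (nat_lit 1282))
 (.leaf (nat_lit 0x706010304020500) (nat_lit 1026))
) (.node (nat_lit 0x706010304050200) (.leaf (nat_lit 0x706010304050002) (nat_lit 1026))
 (.node (nat_lit 0x706010403000205) (.leaf (nat_lit 0x706010304050200) (nat_lit 770))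
 (.leaf (nat_lit 0x706010403000205) (nat_lit 1282))
))) (.node (nat_lit 0x706010403050002) (.node (nat_lit 0x706010403020005) (.leaf (nat_lit 0x706010403000502) (nat_lit 1026))
 (.node (nat_lit 0x706010403020500) (.leaf (nat_lit 0x706010403020005) (nat_lit 1026))
 (.leaf (nat_lit 0x706010403020500) (nat_lit 770))
)) (.node (nat_lit 0x706010403050200) (.leaf (nat_lit 0x706010403050002) (nat_lit 770))
 (.node (nat_lit 0x706020304000105) (.leaf (nat_lit 0x706010403050200) (nat_lit 514))
 (.leaf (nat_lit 0x706020304000105) (nat_lit 1283))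
))))) (.node (nat_lit 0x706050304000102) (.node (nat_lit 0x706020403000105) (.node (nat_lit 0x706020304010500) (.node (nat_lit 0x706020304010005) (.leaf (nat_lit 0x706020304000501) (nat_lit 1027))
 (.leaf (nat_lit 0x706020304010005) (nat_lit 1027))
) (.node (nat_lit 0x706020304050001) (.leaf (nat_lit 0x706020304010500) (nat_lit 771))
 (.node (nat_lit 0x706020304050100) (.leaf (nat_lit 0x706020304050001) (nat_lit 771))
 (.leaf (nat_lit 0x706020304050100) (nat_lit 515))
))) (.node (nat_lit 0x706020403010500) (.node (nat_lit 0x706020403000501) (.leaf (nat_lit 0x706020403000105) (nat_lit 1027))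
 (.node (nat_lit 0x706020403010005) (.leaf (nat_lit 0x706020403000501) (nat_lit 771))
 (.leaf (nat_lit 0x706020403010005) (nat_lit 771))
)) (.node (nat_lit 0x706020403050001) (.leaf (nat_lit 0x706020403010500) (nat_lit 515))
 (.node (nat_lit 0x706020403050100) (.leaf (nat_lit 0x706020403050001) (nat_lit 515))
 (.leaf (nat_lit 0x706020403050100) (nat_lit 259))
)))) (.node (nat_lit 0x706050403000102) (.node (nat_lit 0x706050304010200) (.node (nat_lit 0x706050304000201) (.leaf (nat_lit 0x706050304000102) (nat_lit 1025))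
 (.node (nat_lit 0x706050304010002) (.leaf (nat_lit 0x706050304000201) (nat_lit 769))
 (.leaf (nat_lit 0x706050304010002) (nat_lit 770))
)) (.node (nat_lit 0x706050304020001) (.leaf (nat_lit 0x706050304010200) (nat_lit 514))
 (.node (nat_lit 0x706050304020100) (.leaf (nat_lit 0x706050304020001) (nat_lit 513))
 (.leaf (nat_lit 0x706050304020100) (nat_lit 256))
))) (.node (nat_lit 0x706050403010200) (.node (nat_lit 0x706050403000201) (.leaf (nat_lit 0x706050403000102) (nat_lit 769))
 (.node (nat_lit 0x706050403010002) (.leaf (nat_lit 0x706050403000201) (nat_lit 513))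
 (.leaf (nat_lit 0x706050403010002) (nat_lit 514))
)) (.node (nat_lit 0x706050403020001) (.leaf (nat_lit 0x706050403010200) (nat_lit 258))
 (.node (nat_lit 0x706050403020100) (.leaf (nat_lit 0x706050403020001) (nat_lit 257))
 (.leaf (nat_lit 0x706050403020100) (nat_lit 0))
)))))))))))

theorem CT_ok : genOK A8.P8 [(nat_lit 0x706050304020100), (nat_lit 0x706050403020001), (nat_lit 0x706050403010200), (nat_lit 0x706020403050100), (nat_lit 0x705060403020100), (nat_lit 0x607050403020100)] CT_t (nat_lit 1440) = true := by decide +kernel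

noncomputable def S_t : ST :=
(.node (nat_lit 0x400010207030506) (.node (nat_lit 0x203040506070001) (.node (nat_lit 0x103040506000207) (.node (nat_lit 0x5060304010207) (.node (nat_lit 0x4030506010207) (.node (nat_lit 0x3040605010207) (.node (nat_lit 0x3040506010702) (.leaf (nat_lit 0x3040506010207) (nat_lit 2050))
 (.leaf (nat_lit 0x3040506010702) (nat_lit 1794))
) (.node (nat_lit 0x3040605010702) (.leaf (nat_lit 0x3040605010207) (nat_lit 1794))
 (.leaf (nat_lit 0x3040605010702) (nat_lit 1538))
)) (.node (nat_lit 0x4030605010207) (.node (nat_lit 0x4030506010702) (.leaf (nat_lit 0x4030506010207) (nat_lit 1794))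
 (.leaf (nat_lit 0x4030506010702) (nat_lit 1538))
) (.node (nat_lit 0x4030605010702) (.leaf (nat_lit 0x4030605010207) (nat_lit 1538))
 (.leaf (nat_lit 0x4030605010702) (nat_lit 1282))
))) (.node (nat_lit 0x6050304010207) (.node (nat_lit 0x5060403010207) (.node (nat_lit 0x5060304010702) (.leaf (nat_lit 0x5060304010207) (nat_lit 2306))
 (.leaf (nat_lit 0x5060304010702) (nat_lit 2050))
) (.node (nat_lit 0x5060403010702) (.leaf (nat_lit 0x5060403010207) (nat_lit 2050))
 (.leaf (nat_lit 0x5060403010702) (nat_lit 1794))
)) (.node (nat_lit 0x6050403010207) (.node (nat_lit 0x6050304010702) (.leaf (nat_lit 0x6050304010207) (nat_lit 1538))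
 (.leaf (nat_lit 0x6050304010702) (nat_lit 1282))
) (.node (nat_lit 0x6050403010702) (.leaf (nat_lit 0x6050403010207) (nat_lit 768))
 (.leaf (nat_lit 0x6050403010702) (nat_lit 512))
)))) (.node (nat_lit 0x105060304000207) (.node (nat_lit 0x104030506000207) (.node (nat_lit 0x103040605000207) (.node (nat_lit 0x103040506000702) (.leaf (nat_lit 0x103040506000207) (nat_lit 1794))
 (.leaf (nat_lit 0x103040506000702) (nat_lit 1538))
) (.node (nat_lit 0x103040605000702) (.leaf (nat_lit 0x103040605000207) (nat_lit 1538))
 (.leaf (nat_lit 0x103040605000702) (nat_lit 1282))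
)) (.node (nat_lit 0x104030605000207) (.node (nat_lit 0x104030506000702) (.leaf (nat_lit 0x104030506000207) (nat_lit 1538))
 (.leaf (nat_lit 0x104030506000702) (nat_lit 1282))
) (.node (nat_lit 0x104030605000702) (.leaf (nat_lit 0x104030605000207) (nat_lit 1282))
 (.leaf (nat_lit 0x104030605000702) (nat_lit 1026))
))) (.node (nat_lit 0x106050304000207) (.node (nat_lit 0x105060403000207) (.node (nat_lit 0x105060304000702) (.leaf (nat_lit 0x105060304000207) (nat_lit 2050))
 (.leaf (nat_lit 0x105060304000702) (nat_lit 1794))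
) (.node (nat_lit 0x105060403000702) (.leaf (nat_lit 0x105060403000207) (nat_lit 1794))
 (.leaf (nat_lit 0x105060403000702) (nat_lit 1538))
)) (.node (nat_lit 0x106050403000207) (.node (nat_lit 0x106050304000702) (.leaf (nat_lit 0x106050304000207) (nat_lit 1282))
 (.leaf (nat_lit 0x106050304000702) (nat_lit 1026))
) (.node (nat_lit 0x106050403000702) (.leaf (nat_lit 0x106050403000207) (nat_lit 513))
 (.leaf (nat_lit 0x106050403000702) (nat_lit 257))
))))) (.node (nat_lit 0x300010207040506) (.node (nat_lit 0x205060304070001) (.node (nat_lit 0x204030506070001) (.node (nat_lit 0x203040605070001) (.node (nat_lit 0x203040506070100) (.leaf (nat_lit 0x203040506070001) (nat_lit 2306))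
 (.leaf (nat_lit 0x203040506070100) (nat_lit 2050))
) (.node (nat_lit 0x203040605070100) (.leaf (nat_lit 0x203040605070001) (nat_lit 2050))
 (.leaf (nat_lit 0x203040605070100) (nat_lit 1794))
)) (.node (nat_lit 0x204030605070001) (.node (nat_lit 0x204030506070100) (.leaf (nat_lit 0x204030506070001) (nat_lit 2050))
 (.leaf (nat_lit 0x204030506070100) (nat_lit 1794))
) (.node (nat_lit 0x204030605070100) (.leaf (nat_lit 0x204030605070001) (nat_lit 1794))
 (.leaf (nat_lit 0x204030605070100) (nat_lit 1538))
))) (.node (nat_lit 0x206050304070001) (.node (nat_lit 0x205060403070001) (.node (nat_lit 0x205060304070100) (.leaf (nat_lit 0x205060304070001) (nat_lit 2562))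
 (.leaf (nat_lit 0x205060304070100) (nat_lit 2306))
) (.node (nat_lit 0x205060403070100) (.leaf (nat_lit 0x205060403070001) (nat_lit 2306))
 (.leaf (nat_lit 0x205060403070100) (nat_lit 2050))
)) (.node (nat_lit 0x206050403070001) (.node (nat_lit 0x206050304070100) (.leaf (nat_lit 0x206050304070001) (nat_lit 1794))
 (.leaf (nat_lit 0x206050304070100) (nat_lit 1538))
) (.node (nat_lit 0x206050403070100) (.leaf (nat_lit 0x206050403070001) (nat_lit 1025))
 (.leaf (nat_lit 0x206050403070100) (nat_lit 769))
)))) (.node (nat_lit 0x302070001040506) (.node (nat_lit 0x301000207040506) (.node (nat_lit 0x300010702040506) (.node (nat_lit 0x300010207040605) (.leaf (nat_lit 0x300010207040506) (nat_lit 1792))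
 (.leaf (nat_lit 0x300010207040605) (nat_lit 1536))
) (.node (nat_lit 0x300010702040605) (.leaf (nat_lit 0x300010702040506) (nat_lit 1536))
 (.leaf (nat_lit 0x300010702040605) (nat_lit 1280))
)) (.node (nat_lit 0x301000702040506) (.node (nat_lit 0x301000207040605) (.leaf (nat_lit 0x301000207040506) (nat_lit 1537))
 (.leaf (nat_lit 0x301000207040605) (nat_lit 1281))
) (.node (nat_lit 0x301000702040605) (.leaf (nat_lit 0x301000702040506) (nat_lit 1281))
 (.leaf (nat_lit 0x301000702040605) (nat_lit 1025))
))) (.node (nat_lit 0x307020001040506) (.node (nat_lit 0x302070100040506) (.node (nat_lit 0x302070001040605) (.leaf (nat_lit 0x302070001040506) (nat_lit 2049))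
 (.leaf (nat_lit 0x302070001040605) (nat_lit 1793))
) (.node (nat_lit 0x302070100040605) (.leaf (nat_lit 0x302070100040506) (nat_lit 1793))
 (.leaf (nat_lit 0x302070100040605) (nat_lit 1537))
)) (.node (nat_lit 0x307020100040506) (.node (nat_lit 0x307020001040605) (.leaf (nat_lit 0x307020001040506) (nat_lit 1280))
 (.leaf (nat_lit 0x307020001040605) (nat_lit 1024))
) (.node (nat_lit 0x307020100040605) (.leaf (nat_lit 0x307020100040506) (nat_lit 1026))
 (.leaf (nat_lit 0x307020100040605) (nat_lit 770))
)))))) (.node (nat_lit 0x600010207050304) (.node (nat_lit 0x500010207060304) (.node (nat_lit 0x402070001030506) (.node (nat_lit 0x401000207030506) (.node (nat_lit 0x400010702030506) (.node (nat_lit 0x400010207030605) (.leaf (nat_lit 0x400010207030506) (nat_lit 1536))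
 (.leaf (nat_lit 0x400010207030605) (nat_lit 1280))
) (.node (nat_lit 0x400010702030605) (.leaf (nat_lit 0x400010702030506) (nat_lit 1280))
 (.leaf (nat_lit 0x400010702030605) (nat_lit 1024))
)) (.node (nat_lit 0x401000702030506) (.node (nat_lit 0x401000207030605) (.leaf (nat_lit 0x401000207030506) (nat_lit 1281))
 (.leaf (nat_lit 0x401000207030605) (nat_lit 1025))
) (.node (nat_lit 0x401000702030605) (.leaf (nat_lit 0x401000702030506) (nat_lit 1025))
 (.leaf (nat_lit 0x401000702030605) (nat_lit 769))
))) (.node (nat_lit 0x407020001030506) (.node (nat_lit 0x402070100030506) (.node (nat_lit 0x402070001030605) (.leaf (nat_lit 0x402070001030506) (nat_lit 1793))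
 (.leaf (nat_lit 0x402070001030605) (nat_lit 1537))
) (.node (nat_lit 0x402070100030605) (.leaf (nat_lit 0x402070100030506) (nat_lit 1537))
 (.leaf (nat_lit 0x402070100030605) (nat_lit 1281))
)) (.node (nat_lit 0x407020100030506) (.node (nat_lit 0x407020001030605) (.leaf (nat_lit 0x407020001030506) (nat_lit 1024))
 (.leaf (nat_lit 0x407020001030605) (nat_lit 768))
) (.node (nat_lit 0x407020100030605) (.leaf (nat_lit 0x407020100030506) (nat_lit 770))
 (.leaf (nat_lit 0x407020100030605) (nat_lit 514))
)))) (.node (nat_lit 0x502070001060304) (.node (nat_lit 0x501000207060304) (.node (nat_lit 0x500010702060304) (.node (nat_lit 0x500010207060403) (.leaf (nat_lit 0x500010207060304) (nat_lit 2048))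
 (.leaf (nat_lit 0x500010207060403) (nat_lit 1792))
) (.node (nat_lit 0x500010702060403) (.leaf (nat_lit 0x500010702060304) (nat_lit 1792))
 (.leaf (nat_lit 0x500010702060403) (nat_lit 1536))
)) (.node (nat_lit 0x501000702060304) (.node (nat_lit 0x501000207060403) (.leaf (nat_lit 0x501000207060304) (nat_lit 1793))
 (.leaf (nat_lit 0x501000207060403) (nat_lit 1537))
) (.node (nat_lit 0x501000702060403) (.leaf (nat_lit 0x501000702060304) (nat_lit 1537))
 (.leaf (nat_lit 0x501000702060403) (nat_lit 1281))
))) (.node (nat_lit 0x507020001060304) (.node (nat_lit 0x502070100060304) (.node (nat_lit 0x502070001060403) (.leaf (nat_lit 0x502070001060304) (nat_lit 2305))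
 (.leaf (nat_lit 0x502070001060403) (nat_lit 2049))
) (.node (nat_lit 0x502070100060403) (.leaf (nat_lit 0x502070100060304) (nat_lit 2049))
 (.leaf (nat_lit 0x502070100060403) (nat_lit 1793))
)) (.node (nat_lit 0x507020100060304) (.node (nat_lit 0x507020001060403) (.leaf (nat_lit 0x507020001060304) (nat_lit 1536))
 (.leaf (nat_lit 0x507020001060403) (nat_lit 1280))
) (.node (nat_lit 0x507020100060403) (.leaf (nat_lit 0x507020100060304) (nat_lit 1282))
 (.leaf (nat_lit 0x507020100060403) (nat_lit 1026))
))))) (.node (nat_lit 0x703040506020001) (.node (nat_lit 0x602070001050304) (.node (nat_lit 0x601000207050304) (.node (nat_lit 0x600010702050304) (.node (nat_lit 0x600010207050403) (.leaf (nat_lit 0x600010207050304) (nat_lit 1280))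
 (.leaf (nat_lit 0x600010207050403) (nat_lit 1024))
) (.node (nat_lit 0x600010702050403) (.leaf (nat_lit 0x600010702050304) (nat_lit 1024))
 (.leaf (nat_lit 0x600010702050403) (nat_lit 768))
)) (.node (nat_lit 0x601000702050304) (.node (nat_lit 0x601000207050403) (.leaf (nat_lit 0x601000207050304) (nat_lit 1025))
 (.leaf (nat_lit 0x601000207050403) (nat_lit 769))
) (.node (nat_lit 0x601000702050403) (.leaf (nat_lit 0x601000702050304) (nat_lit 769))
 (.leaf (nat_lit 0x601000702050403) (nat_lit 513))
))) (.node (nat_lit 0x607020001050304) (.node (nat_lit 0x602070100050304) (.node (nat_lit 0x602070001050403) (.leaf (nat_lit 0x602070001050304) (nat_lit 1537))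
 (.leaf (nat_lit 0x602070001050403) (nat_lit 1281))
) (.node (nat_lit 0x602070100050403) (.leaf (nat_lit 0x602070100050304) (nat_lit 1281))
 (.leaf (nat_lit 0x602070100050403) (nat_lit 1025))
)) (.node (nat_lit 0x607020100050304) (.node (nat_lit 0x607020001050403) (.leaf (nat_lit 0x607020001050304) (nat_lit 768))
 (.leaf (nat_lit 0x607020001050403) (nat_lit 512))
) (.node (nat_lit 0x607020100050403) (.leaf (nat_lit 0x607020100050304) (nat_lit 514))
 (.leaf (nat_lit 0x607020100050403) (nat_lit 258))
)))) (.node (nat_lit 0x705060304020001) (.node (nat_lit 0x704030506020001) (.node (nat_lit 0x703040605020001) (.node (nat_lit 0x703040506020100) (.leaf (nat_lit 0x703040506020001) (nat_lit 1538))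
 (.leaf (nat_lit 0x703040506020100) (nat_lit 1282))
) (.node (nat_lit 0x703040605020100) (.leaf (nat_lit 0x703040605020001) (nat_lit 1282))
 (.leaf (nat_lit 0x703040605020100) (nat_lit 1026))
)) (.node (nat_lit 0x704030605020001) (.node (nat_lit 0x704030506020100) (.leaf (nat_lit 0x704030506020001) (nat_lit 1282))
 (.leaf (nat_lit 0x704030506020100) (nat_lit 1026))
) (.node (nat_lit 0x704030605020100) (.leaf (nat_lit 0x704030605020001) (nat_lit 1026))
 (.leaf (nat_lit 0x704030605020100) (nat_lit 770))
))) (.node (nat_lit 0x706050304020001) (.node (nat_lit 0x705060403020001) (.node (nat_lit 0x705060304020100) (.leaf (nat_lit 0x705060304020001) (nat_lit 1794))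
 (.leaf (nat_lit 0x705060304020100) (nat_lit 1538))
) (.node (nat_lit 0x705060403020100) (.leaf (nat_lit 0x705060403020001) (nat_lit 1538))
 (.leaf (nat_lit 0x705060403020100) (nat_lit 1282))
)) (.node (nat_lit 0x706050403020001) (.node (nat_lit 0x706050304020100) (.leaf (nat_lit 0x706050304020001) (nat_lit 1026))
 (.leaf (nat_lit 0x706050304020100) (nat_lit 770))
) (.node (nat_lit 0x706050403020100) (.leaf (nat_lit 0x706050403020001) (nat_lit 256))
 (.leaf (nat_lit 0x706050403020100) (nat_lit 0))
)))))))

theorem S_ok : genOK A8.P8 [(nat_lit 0x706050403020001), (nat_lit 0x106050403000702), (nat_lit 0x607020100050403)] S_t (nat_lit 128) = true := by decide +kernel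

noncomputable def clT_t : ST :=
(.node (nat_lit 0x706010403020500) (.node (nat_lit 0x700050403020106) (.node (nat_lit 0x306050407020100) (.node (nat_lit 0x106050403020700) (.leaf (nat_lit 0x6050403020107) (nat_lit 1030))
 (.node (nat_lit 0x206050403070100) (.leaf (nat_lit 0x106050403020700) (nat_lit 1286))
 (.leaf (nat_lit 0x206050403070100) (nat_lit 1542))
)) (.node (nat_lit 0x506070403020100) (.node (nat_lit 0x406050703020100) (.leaf (nat_lit 0x306050407020100) (nat_lit 774))
 (.leaf (nat_lit 0x406050703020100) (nat_lit 1030))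
) (.node (nat_lit 0x607050403020100) (.leaf (nat_lit 0x506070403020100) (nat_lit 1286))
 (.leaf (nat_lit 0x607050403020100) (nat_lit 1541))
))) (.node (nat_lit 0x703050406020100) (.node (nat_lit 0x701050403020600) (.leaf (nat_lit 0x700050403020106) (nat_lit 773))
 (.node (nat_lit 0x702050403060100) (.leaf (nat_lit 0x701050403020600) (nat_lit 1029))
 (.leaf (nat_lit 0x702050403060100) (nat_lit 1285))
)) (.node (nat_lit 0x705060403020100) (.node (nat_lit 0x704050603020100) (.leaf (nat_lit 0x703050406020100) (nat_lit 517))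
 (.leaf (nat_lit 0x704050603020100) (nat_lit 773))
) (.node (nat_lit 0x706000403020105) (.leaf (nat_lit 0x705060403020100) (nat_lit 1028))
 (.leaf (nat_lit 0x706000403020105) (nat_lit 516))
)))) (.node (nat_lit 0x706050304020100) (.node (nat_lit 0x706040503020100) (.node (nat_lit 0x706020403050100) (.leaf (nat_lit 0x706010403020500) (nat_lit 772))
 (.node (nat_lit 0x706030405020100) (.leaf (nat_lit 0x706020403050100) (nat_lit 1028))
 (.leaf (nat_lit 0x706030405020100) (nat_lit 260))
)) (.node (nat_lit 0x706050103020400) (.node (nat_lit 0x706050003020104) (.leaf (nat_lit 0x706040503020100) (nat_lit 515))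
 (.leaf (nat_lit 0x706050003020104) (nat_lit 258))
) (.node (nat_lit 0x706050203040100) (.leaf (nat_lit 0x706050103020400) (nat_lit 513))
 (.leaf (nat_lit 0x706050203040100) (nat_lit 768))
))) (.node (nat_lit 0x706050402030100) (.node (nat_lit 0x706050400020103) (.leaf (nat_lit 0x706050304020100) (nat_lit 0))
 (.node (nat_lit 0x706050401020300) (.leaf (nat_lit 0x706050400020103) (nat_lit 515))
 (.leaf (nat_lit 0x706050401020300) (nat_lit 771))
)) (.node (nat_lit 0x706050403010200) (.node (nat_lit 0x706050403000102) (.leaf (nat_lit 0x706050402030100) (nat_lit 1027))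
 (.leaf (nat_lit 0x706050403000102) (nat_lit 1282))
) (.node (nat_lit 0x706050403020001) (.leaf (nat_lit 0x706050403010200) (nat_lit 1537))
 (.leaf (nat_lit 0x706050403020001) (nat_lit 1026))
)))))

theorem clT_ok : orbOK A8.P8 [(nat_lit 0x706050403010200), (nat_lit 0x706050403020001), (nat_lit 0x706050400020103), (nat_lit 0x706050304020100), (nat_lit 0x706040503020100), (nat_lit 0x705060403020100), (nat_lit 0x607050403020100)] (nat_lit 0x706050304020100) clT_t (nat_lit 28) = true := by decide +kernel

noncomputable def clD_t : ST :=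
(.node (nat_lit 0x700010403020506) (.node (nat_lit 0x306020407050100) (.node (nat_lit 0x106050304020700) (.node (nat_lit 0x6050402030107) (.node (nat_lit 0x6020403050107) (.node (nat_lit 0x4050603020107) (.node (nat_lit 0x2050403060107) (.leaf (nat_lit 0x1050403020607) (nat_lit 1797))
 (.node (nat_lit 0x3050406020107) (.leaf (nat_lit 0x2050403060107) (nat_lit 2053))
 (.leaf (nat_lit 0x3050406020107) (nat_lit 1541))
)) (.node (nat_lit 0x5060403020107) (.leaf (nat_lit 0x4050603020107) (nat_lit 1285))
 (.node (nat_lit 0x6010403020507) (.leaf (nat_lit 0x5060403020107) (nat_lit 1540))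
 (.leaf (nat_lit 0x6010403020507) (nat_lit 1542))
))) (.node (nat_lit 0x6050103020407) (.node (nat_lit 0x6030405020107) (.leaf (nat_lit 0x6020403050107) (nat_lit 1798))
 (.node (nat_lit 0x6040503020107) (.leaf (nat_lit 0x6030405020107) (nat_lit 1286))
 (.leaf (nat_lit 0x6040503020107) (nat_lit 1030))
)) (.node (nat_lit 0x6050304020107) (.node (nat_lit 0x6050203040107) (.leaf (nat_lit 0x6050103020407) (nat_lit 1798))
 (.leaf (nat_lit 0x6050203040107) (nat_lit 2054))
) (.node (nat_lit 0x6050401020307) (.leaf (nat_lit 0x6050304020107) (nat_lit 1542))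
 (.leaf (nat_lit 0x6050401020307) (nat_lit 2054))
)))) (.node (nat_lit 0x105060403020700) (.node (nat_lit 0x102050403060700) (.node (nat_lit 0x6050403010207) (.leaf (nat_lit 0x6050402030107) (nat_lit 2310))
 (.node (nat_lit 0x100050403020706) (.leaf (nat_lit 0x6050403010207) (nat_lit 2566))
 (.leaf (nat_lit 0x100050403020706) (nat_lit 2053))
)) (.node (nat_lit 0x103050406020700) (.leaf (nat_lit 0x102050403060700) (nat_lit 2309))
 (.node (nat_lit 0x104050603020700) (.leaf (nat_lit 0x103050406020700) (nat_lit 1797))
 (.leaf (nat_lit 0x104050603020700) (nat_lit 1541))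
))) (.node (nat_lit 0x106030405020700) (.node (nat_lit 0x106000403020705) (.leaf (nat_lit 0x105060403020700) (nat_lit 1796))
 (.node (nat_lit 0x106020403050700) (.leaf (nat_lit 0x106000403020705) (nat_lit 1798))
 (.leaf (nat_lit 0x106020403050700) (nat_lit 2054))
)) (.node (nat_lit 0x106050003020704) (.node (nat_lit 0x106040503020700) (.leaf (nat_lit 0x106030405020700) (nat_lit 1542))
 (.leaf (nat_lit 0x106040503020700) (nat_lit 1286))
) (.node (nat_lit 0x106050203040700) (.leaf (nat_lit 0x106050003020704) (nat_lit 2054))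
 (.leaf (nat_lit 0x106050203040700) (nat_lit 2310))
))))) (.node (nat_lit 0x206050003070104) (.node (nat_lit 0x203050406070100) (.node (nat_lit 0x106050403000702) (.node (nat_lit 0x106050400020703) (.leaf (nat_lit 0x106050304020700) (nat_lit 1798))
 (.node (nat_lit 0x106050402030700) (.leaf (nat_lit 0x106050400020703) (nat_lit 2310))
 (.leaf (nat_lit 0x106050402030700) (nat_lit 2566))
)) (.node (nat_lit 0x200050403070106) (.leaf (nat_lit 0x106050403000702) (nat_lit 2822))
 (.node (nat_lit 0x201050403070600) (.leaf (nat_lit 0x200050403070106) (nat_lit 2309))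
 (.leaf (nat_lit 0x201050403070600) (nat_lit 2565))
))) (.node (nat_lit 0x206000403070105) (.node (nat_lit 0x204050603070100) (.leaf (nat_lit 0x203050406070100) (nat_lit 2053))
 (.node (nat_lit 0x205060403070100) (.leaf (nat_lit 0x204050603070100) (nat_lit 1797))
 (.leaf (nat_lit 0x205060403070100) (nat_lit 2052))
)) (.node (nat_lit 0x206030405070100) (.node (nat_lit 0x206010403070500) (.leaf (nat_lit 0x206000403070105) (nat_lit 2054))
 (.leaf (nat_lit 0x206010403070500) (nat_lit 2310))
) (.node (nat_lit 0x206040503070100) (.leaf (nat_lit 0x206030405070100) (nat_lit 1798))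
 (.leaf (nat_lit 0x206040503070100) (nat_lit 1542))
)))) (.node (nat_lit 0x300050407020106) (.node (nat_lit 0x206050400070103) (.node (nat_lit 0x206050103070400) (.leaf (nat_lit 0x206050003070104) (nat_lit 2310))
 (.node (nat_lit 0x206050304070100) (.leaf (nat_lit 0x206050103070400) (nat_lit 2566))
 (.leaf (nat_lit 0x206050304070100) (nat_lit 2054))
)) (.node (nat_lit 0x206050401070300) (.leaf (nat_lit 0x206050400070103) (nat_lit 2566))
 (.node (nat_lit 0x206050403070001) (.leaf (nat_lit 0x206050401070300) (nat_lit 2822))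
 (.leaf (nat_lit 0x206050403070001) (nat_lit 3078))
))) (.node (nat_lit 0x304050607020100) (.node (nat_lit 0x301050407020600) (.leaf (nat_lit 0x300050407020106) (nat_lit 1285))
 (.node (nat_lit 0x302050407060100) (.leaf (nat_lit 0x301050407020600) (nat_lit 1541))
 (.leaf (nat_lit 0x302050407060100) (nat_lit 1797))
)) (.node (nat_lit 0x306000407020105) (.node (nat_lit 0x305060407020100) (.leaf (nat_lit 0x304050607020100) (nat_lit 1029))
 (.leaf (nat_lit 0x305060407020100) (nat_lit 1284))
) (.node (nat_lit 0x306010407020500) (.leaf (nat_lit 0x306000407020105) (nat_lit 1030))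
 (.leaf (nat_lit 0x306010407020500) (nat_lit 1286))
)))))) (.node (nat_lit 0x503070406020100) (.node (nat_lit 0x406000703020105) (.node (nat_lit 0x306050407010200) (.node (nat_lit 0x306050107020400) (.node (nat_lit 0x306040507020100) (.leaf (nat_lit 0x306020407050100) (nat_lit 1542))
 (.node (nat_lit 0x306050007020104) (.leaf (nat_lit 0x306040507020100) (nat_lit 774))
 (.leaf (nat_lit 0x306050007020104) (nat_lit 1286))
)) (.node (nat_lit 0x306050207040100) (.leaf (nat_lit 0x306050107020400) (nat_lit 1542))
 (.node (nat_lit 0x306050407000102) (.leaf (nat_lit 0x306050207040100) (nat_lit 1798))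
 (.leaf (nat_lit 0x306050407000102) (nat_lit 2054))
))) (.node (nat_lit 0x401050703020600) (.node (nat_lit 0x306050407020001) (.leaf (nat_lit 0x306050407010200) (nat_lit 2310))
 (.node (nat_lit 0x400050703020106) (.leaf (nat_lit 0x306050407020001) (nat_lit 1798))
 (.leaf (nat_lit 0x400050703020106) (nat_lit 1029))
)) (.node (nat_lit 0x403050706020100) (.node (nat_lit 0x402050703060100) (.leaf (nat_lit 0x401050703020600) (nat_lit 1285))
 (.leaf (nat_lit 0x402050703060100) (nat_lit 1541))
) (.node (nat_lit 0x405060703020100) (.leaf (nat_lit 0x403050706020100) (nat_lit 773))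
 (.leaf (nat_lit 0x405060703020100) (nat_lit 1539))
)))) (.node (nat_lit 0x406050702030100) (.node (nat_lit 0x406030705020100) (.node (nat_lit 0x406010703020500) (.leaf (nat_lit 0x406000703020105) (nat_lit 774))
 (.node (nat_lit 0x406020703050100) (.leaf (nat_lit 0x406010703020500) (nat_lit 1030))
 (.leaf (nat_lit 0x406020703050100) (nat_lit 1286))
)) (.node (nat_lit 0x406050700020103) (.leaf (nat_lit 0x406030705020100) (nat_lit 518))
 (.node (nat_lit 0x406050701020300) (.leaf (nat_lit 0x406050700020103) (nat_lit 1030))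
 (.leaf (nat_lit 0x406050701020300) (nat_lit 1286))
))) (.node (nat_lit 0x406050703020001) (.node (nat_lit 0x406050703000102) (.leaf (nat_lit 0x406050702030100) (nat_lit 1542))
 (.node (nat_lit 0x406050703010200) (.leaf (nat_lit 0x406050703000102) (nat_lit 1798))
 (.leaf (nat_lit 0x406050703010200) (nat_lit 2054))
)) (.node (nat_lit 0x501070403020600) (.node (nat_lit 0x500070403020106) (.leaf (nat_lit 0x406050703020001) (nat_lit 1542))
 (.leaf (nat_lit 0x500070403020106) (nat_lit 1284))
) (.node (nat_lit 0x502070403060100) (.leaf (nat_lit 0x501070403020600) (nat_lit 1540))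
 (.leaf (nat_lit 0x502070403060100) (nat_lit 1796))
))))) (.node (nat_lit 0x607010403020500) (.node (nat_lit 0x506070400020103) (.node (nat_lit 0x506070103020400) (.node (nat_lit 0x504070603020100) (.leaf (nat_lit 0x503070406020100) (nat_lit 1028))
 (.node (nat_lit 0x506070003020104) (.leaf (nat_lit 0x504070603020100) (nat_lit 1283))
 (.leaf (nat_lit 0x506070003020104) (nat_lit 518))
)) (.node (nat_lit 0x506070203040100) (.leaf (nat_lit 0x506070103020400) (nat_lit 774))
 (.node (nat_lit 0x506070304020100) (.leaf (nat_lit 0x506070203040100) (nat_lit 1030))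
 (.leaf (nat_lit 0x506070304020100) (nat_lit 262))
))) (.node (nat_lit 0x506070403000102) (.node (nat_lit 0x506070401020300) (.leaf (nat_lit 0x506070400020103) (nat_lit 774))
 (.node (nat_lit 0x506070402030100) (.leaf (nat_lit 0x506070401020300) (nat_lit 1030))
 (.leaf (nat_lit 0x506070402030100) (nat_lit 1286))
)) (.node (nat_lit 0x506070403020001) (.node (nat_lit 0x506070403010200) (.leaf (nat_lit 0x506070403000102) (nat_lit 1542))
 (.leaf (nat_lit 0x506070403010200) (nat_lit 1798))
) (.node (nat_lit 0x607000403020105) (.leaf (nat_lit 0x506070403020001) (nat_lit 1286))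
 (.leaf (nat_lit 0x607000403020105) (nat_lit 1028))
)))) (.node (nat_lit 0x607050304020100) (.node (nat_lit 0x607040503020100) (.node (nat_lit 0x607020403050100) (.leaf (nat_lit 0x607010403020500) (nat_lit 1284))
 (.node (nat_lit 0x607030405020100) (.leaf (nat_lit 0x607020403050100) (nat_lit 1540))
 (.leaf (nat_lit 0x607030405020100) (nat_lit 772))
)) (.node (nat_lit 0x607050103020400) (.node (nat_lit 0x607050003020104) (.leaf (nat_lit 0x607040503020100) (nat_lit 1027))
 (.leaf (nat_lit 0x607050003020104) (nat_lit 773))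
) (.node (nat_lit 0x607050203040100) (.leaf (nat_lit 0x607050103020400) (nat_lit 1029))
 (.leaf (nat_lit 0x607050203040100) (nat_lit 1285))
))) (.node (nat_lit 0x607050402030100) (.node (nat_lit 0x607050400020103) (.leaf (nat_lit 0x607050304020100) (nat_lit 517))
 (.node (nat_lit 0x607050401020300) (.leaf (nat_lit 0x607050400020103) (nat_lit 1029))
 (.leaf (nat_lit 0x607050401020300) (nat_lit 1285))
)) (.node (nat_lit 0x607050403010200) (.node (nat_lit 0x607050403000102) (.leaf (nat_lit 0x607050402030100) (nat_lit 1541))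
 (.leaf (nat_lit 0x607050403000102) (nat_lit 1797))
) (.node (nat_lit 0x607050403020001) (.leaf (nat_lit 0x607050403010200) (nat_lit 2053))
 (.leaf (nat_lit 0x607050403020001) (nat_lit 1541))
))))))) (.node (nat_lit 0x705060203040100) (.node (nat_lit 0x702050304060100) (.node (nat_lit 0x701040503020600) (.node (nat_lit 0x700050304020106) (.node (nat_lit 0x700040503020106) (.node (nat_lit 0x700020403050106) (.leaf (nat_lit 0x700010403020506) (nat_lit 1282))
 (.node (nat_lit 0x700030405020106) (.leaf (nat_lit 0x700020403050106) (nat_lit 1538))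
 (.leaf (nat_lit 0x700030405020106) (nat_lit 1026))
)) (.node (nat_lit 0x700050103020406) (.leaf (nat_lit 0x700040503020106) (nat_lit 773))
 (.node (nat_lit 0x700050203040106) (.leaf (nat_lit 0x700050103020406) (nat_lit 1538))
 (.leaf (nat_lit 0x700050203040106) (nat_lit 1794))
))) (.node (nat_lit 0x700050403010206) (.node (nat_lit 0x700050401020306) (.leaf (nat_lit 0x700050304020106) (nat_lit 1282))
 (.node (nat_lit 0x700050402030106) (.leaf (nat_lit 0x700050401020306) (nat_lit 1794))
 (.leaf (nat_lit 0x700050402030106) (nat_lit 2050))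
)) (.node (nat_lit 0x701020403050600) (.node (nat_lit 0x701000403020605) (.leaf (nat_lit 0x700050403010206) (nat_lit 2306))
 (.leaf (nat_lit 0x701000403020605) (nat_lit 1537))
) (.node (nat_lit 0x701030405020600) (.leaf (nat_lit 0x701020403050600) (nat_lit 1793))
 (.leaf (nat_lit 0x701030405020600) (nat_lit 1285))
)))) (.node (nat_lit 0x701050403000602) (.node (nat_lit 0x701050304020600) (.node (nat_lit 0x701050003020604) (.leaf (nat_lit 0x701040503020600) (nat_lit 1029))
 (.node (nat_lit 0x701050203040600) (.leaf (nat_lit 0x701050003020604) (nat_lit 1793))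
 (.leaf (nat_lit 0x701050203040600) (nat_lit 2049))
)) (.node (nat_lit 0x701050400020603) (.leaf (nat_lit 0x701050304020600) (nat_lit 1540))
 (.node (nat_lit 0x701050402030600) (.leaf (nat_lit 0x701050400020603) (nat_lit 2049))
 (.leaf (nat_lit 0x701050402030600) (nat_lit 2305))
))) (.node (nat_lit 0x702030405060100) (.node (nat_lit 0x702000403060105) (.leaf (nat_lit 0x701050403000602) (nat_lit 2561))
 (.node (nat_lit 0x702010403060500) (.leaf (nat_lit 0x702000403060105) (nat_lit 1797))
 (.leaf (nat_lit 0x702010403060500) (nat_lit 2048))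
)) (.node (nat_lit 0x702050003060104) (.node (nat_lit 0x702040503060100) (.leaf (nat_lit 0x702030405060100) (nat_lit 1541))
 (.leaf (nat_lit 0x702040503060100) (nat_lit 1285))
) (.node (nat_lit 0x702050103060400) (.leaf (nat_lit 0x702050003060104) (nat_lit 2052))
 (.leaf (nat_lit 0x702050103060400) (nat_lit 2304))
))))) (.node (nat_lit 0x703050406020001) (.node (nat_lit 0x703020406050100) (.node (nat_lit 0x702050403060001) (.node (nat_lit 0x702050400060103) (.leaf (nat_lit 0x702050304060100) (nat_lit 1796))
 (.node (nat_lit 0x702050401060300) (.leaf (nat_lit 0x702050400060103) (nat_lit 2307))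
 (.leaf (nat_lit 0x702050401060300) (nat_lit 2560))
)) (.node (nat_lit 0x703000406020105) (.leaf (nat_lit 0x702050403060001) (nat_lit 2816))
 (.node (nat_lit 0x703010406020500) (.leaf (nat_lit 0x703000406020105) (nat_lit 771))
 (.leaf (nat_lit 0x703010406020500) (nat_lit 1027))
))) (.node (nat_lit 0x703050106020400) (.node (nat_lit 0x703040506020100) (.leaf (nat_lit 0x703020406050100) (nat_lit 1283))
 (.node (nat_lit 0x703050006020104) (.leaf (nat_lit 0x703040506020100) (nat_lit 515))
 (.leaf (nat_lit 0x703050006020104) (nat_lit 1027))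
)) (.node (nat_lit 0x703050406000102) (.node (nat_lit 0x703050206040100) (.leaf (nat_lit 0x703050106020400) (nat_lit 1283))
 (.leaf (nat_lit 0x703050206040100) (nat_lit 1539))
) (.node (nat_lit 0x703050406010200) (.leaf (nat_lit 0x703050406000102) (nat_lit 1795))
 (.leaf (nat_lit 0x703050406010200) (nat_lit 2051))
)))) (.node (nat_lit 0x704050601020300) (.node (nat_lit 0x704020603050100) (.node (nat_lit 0x704000603020105) (.leaf (nat_lit 0x703050406020001) (nat_lit 1539))
 (.node (nat_lit 0x704010603020500) (.leaf (nat_lit 0x704000603020105) (nat_lit 516))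
 (.leaf (nat_lit 0x704010603020500) (nat_lit 772))
)) (.node (nat_lit 0x704030605020100) (.leaf (nat_lit 0x704020603050100) (nat_lit 1028))
 (.node (nat_lit 0x704050600020103) (.leaf (nat_lit 0x704030605020100) (nat_lit 260))
 (.leaf (nat_lit 0x704050600020103) (nat_lit 772))
))) (.node (nat_lit 0x704050603010200) (.node (nat_lit 0x704050602030100) (.leaf (nat_lit 0x704050601020300) (nat_lit 1028))
 (.node (nat_lit 0x704050603000102) (.leaf (nat_lit 0x704050602030100) (nat_lit 1284))
 (.leaf (nat_lit 0x704050603000102) (nat_lit 1540))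
)) (.node (nat_lit 0x705060003020104) (.node (nat_lit 0x704050603020001) (.leaf (nat_lit 0x704050603010200) (nat_lit 1796))
 (.leaf (nat_lit 0x704050603020001) (nat_lit 1284))
) (.node (nat_lit 0x705060103020400) (.leaf (nat_lit 0x705060003020104) (nat_lit 258))
 (.leaf (nat_lit 0x705060103020400) (nat_lit 513))
)))))) (.node (nat_lit 0x706030005020104) (.node (nat_lit 0x706000403010205) (.node (nat_lit 0x705060403010200) (.node (nat_lit 0x705060401020300) (.node (nat_lit 0x705060304020100) (.leaf (nat_lit 0x705060203040100) (nat_lit 768))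
 (.node (nat_lit 0x705060400020103) (.leaf (nat_lit 0x705060304020100) (nat_lit 0))
 (.leaf (nat_lit 0x705060400020103) (nat_lit 515))
)) (.node (nat_lit 0x705060402030100) (.leaf (nat_lit 0x705060401020300) (nat_lit 771))
 (.node (nat_lit 0x705060403000102) (.leaf (nat_lit 0x705060402030100) (nat_lit 1027))
 (.leaf (nat_lit 0x705060403000102) (nat_lit 1282))
))) (.node (nat_lit 0x706000203040105) (.node (nat_lit 0x705060403020001) (.leaf (nat_lit 0x705060403010200) (nat_lit 1537))
 (.node (nat_lit 0x706000103020405) (.leaf (nat_lit 0x705060403020001) (nat_lit 1026))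
 (.leaf (nat_lit 0x706000103020405) (nat_lit 1797))
)) (.node (nat_lit 0x706000401020305) (.node (nat_lit 0x706000304020105) (.leaf (nat_lit 0x706000203040105) (nat_lit 2053))
 (.leaf (nat_lit 0x706000304020105) (nat_lit 1541))
) (.node (nat_lit 0x706000402030105) (.leaf (nat_lit 0x706000401020305) (nat_lit 2053))
 (.leaf (nat_lit 0x706000402030105) (nat_lit 2309))
)))) (.node (nat_lit 0x706010403000502) (.node (nat_lit 0x706010304020500) (.node (nat_lit 0x706010003020504) (.leaf (nat_lit 0x706000403010205) (nat_lit 2565))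
 (.node (nat_lit 0x706010203040500) (.leaf (nat_lit 0x706010003020504) (nat_lit 2053))
 (.leaf (nat_lit 0x706010203040500) (nat_lit 2309))
)) (.node (nat_lit 0x706010400020503) (.leaf (nat_lit 0x706010304020500) (nat_lit 1796))
 (.node (nat_lit 0x706010402030500) (.leaf (nat_lit 0x706010400020503) (nat_lit 2309))
 (.leaf (nat_lit 0x706010402030500) (nat_lit 2565))
))) (.node (nat_lit 0x706020304050100) (.node (nat_lit 0x706020003050104) (.leaf (nat_lit 0x706010403000502) (nat_lit 2821))
 (.node (nat_lit 0x706020103050400) (.leaf (nat_lit 0x706020003050104) (nat_lit 2308))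
 (.leaf (nat_lit 0x706020103050400) (nat_lit 2565))
)) (.node (nat_lit 0x706020401050300) (.node (nat_lit 0x706020400050103) (.leaf (nat_lit 0x706020304050100) (nat_lit 2052))
 (.leaf (nat_lit 0x706020400050103) (nat_lit 2563))
) (.node (nat_lit 0x706020403050001) (.leaf (nat_lit 0x706020401050300) (nat_lit 2821))
 (.leaf (nat_lit 0x706020403050001) (nat_lit 3077))
))))) (.node (nat_lit 0x706050002030104) (.node (nat_lit 0x706040500020103) (.node (nat_lit 0x706030405000102) (.node (nat_lit 0x706030105020400) (.leaf (nat_lit 0x706030005020104) (nat_lit 1285))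
 (.node (nat_lit 0x706030205040100) (.leaf (nat_lit 0x706030105020400) (nat_lit 1541))
 (.leaf (nat_lit 0x706030205040100) (nat_lit 1797))
)) (.node (nat_lit 0x706030405010200) (.leaf (nat_lit 0x706030405000102) (nat_lit 2053))
 (.node (nat_lit 0x706030405020001) (.leaf (nat_lit 0x706030405010200) (nat_lit 2309))
 (.leaf (nat_lit 0x706030405020001) (nat_lit 1797))
))) (.node (nat_lit 0x706040503000102) (.node (nat_lit 0x706040501020300) (.leaf (nat_lit 0x706040500020103) (nat_lit 1029))
 (.node (nat_lit 0x706040502030100) (.leaf (nat_lit 0x706040501020300) (nat_lit 1285))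
 (.leaf (nat_lit 0x706040502030100) (nat_lit 1541))
)) (.node (nat_lit 0x706040503020001) (.node (nat_lit 0x706040503010200) (.leaf (nat_lit 0x706040503000102) (nat_lit 1797))
 (.leaf (nat_lit 0x706040503010200) (nat_lit 2053))
) (.node (nat_lit 0x706050001020304) (.leaf (nat_lit 0x706040503020001) (nat_lit 1541))
 (.leaf (nat_lit 0x706050001020304) (nat_lit 2308))
)))) (.node (nat_lit 0x706050203040001) (.node (nat_lit 0x706050102030400) (.node (nat_lit 0x706050003010204) (.leaf (nat_lit 0x706050002030104) (nat_lit 2564))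
 (.node (nat_lit 0x706050100020403) (.leaf (nat_lit 0x706050003010204) (nat_lit 2820))
 (.leaf (nat_lit 0x706050100020403) (nat_lit 2564))
)) (.node (nat_lit 0x706050200040103) (.node (nat_lit 0x706050103000402) (.leaf (nat_lit 0x706050102030400) (nat_lit 2820))
 (.leaf (nat_lit 0x706050103000402) (nat_lit 3076))
) (.node (nat_lit 0x706050201040300) (.leaf (nat_lit 0x706050200040103) (nat_lit 2819))
 (.leaf (nat_lit 0x706050201040300) (nat_lit 3076))
))) (.node (nat_lit 0x706050304020001) (.node (nat_lit 0x706050304000102) (.leaf (nat_lit 0x706050203040001) (nat_lit 3332))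
 (.node (nat_lit 0x706050304010200) (.leaf (nat_lit 0x706050304000102) (nat_lit 2308))
 (.leaf (nat_lit 0x706050304010200) (nat_lit 2564))
)) (.node (nat_lit 0x706050401000302) (.node (nat_lit 0x706050400010203) (.leaf (nat_lit 0x706050304020001) (nat_lit 2052))
 (.leaf (nat_lit 0x706050400010203) (nat_lit 3075))
) (.node (nat_lit 0x706050402030001) (.leaf (nat_lit 0x706050401000302) (nat_lit 3331))
 (.leaf (nat_lit 0x706050402030001) (nat_lit 3587))
))))))))

theorem clD_ok : orbOK A8.P8 [(nat_lit 0x706050403010200), (nat_lit 0x706050403020001), (nat_lit 0x706050400020103), (nat_lit 0x706050304020100), (nat_lit 0x706040503020100), (nat_lit 0x705060403020100), (nat_lit 0x607050403020100)] (nat_lit 0x705060304020100) clD_t (nat_lit 210) = true := by decide +kernel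

noncomputable def clR_t : ST :=
(.node (nat_lit 0x406000701020305) (.node (nat_lit 0x203050006070104) (.node (nat_lit 0x102030405060700) (.node (nat_lit 0x5060304020107) (.node (nat_lit 0x3020406050107) (.node (nat_lit 0x2010403060507) (.node (nat_lit 0x1050203040607) (.node (nat_lit 0x1030405020607) (.leaf (nat_lit 0x1020403050607) (nat_lit 768))
 (.node (nat_lit 0x1040503020607) (.leaf (nat_lit 0x1030405020607) (nat_lit 1024))
 (.leaf (nat_lit 0x1040503020607) (nat_lit 1283))
)) (.node (nat_lit 0x1050304020607) (.leaf (nat_lit 0x1050203040607) (nat_lit 1028))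
 (.node (nat_lit 0x1050402030607) (.leaf (nat_lit 0x1050304020607) (nat_lit 1284))
 (.leaf (nat_lit 0x1050402030607) (nat_lit 1283))
))) (.node (nat_lit 0x2050103060407) (.node (nat_lit 0x2030405060107) (.leaf (nat_lit 0x2010403060507) (nat_lit 513))
 (.node (nat_lit 0x2040503060107) (.leaf (nat_lit 0x2030405060107) (nat_lit 769))
 (.leaf (nat_lit 0x2040503060107) (nat_lit 1027))
)) (.node (nat_lit 0x2050401060307) (.node (nat_lit 0x2050304060107) (.leaf (nat_lit 0x2050103060407) (nat_lit 772))
 (.leaf (nat_lit 0x2050304060107) (nat_lit 1028))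
) (.node (nat_lit 0x3010406020507) (.leaf (nat_lit 0x2050401060307) (nat_lit 1027))
 (.leaf (nat_lit 0x3010406020507) (nat_lit 1285))
)))) (.node (nat_lit 0x4020603050107) (.node (nat_lit 0x3050206040107) (.node (nat_lit 0x3040506020107) (.leaf (nat_lit 0x3020406050107) (nat_lit 1029))
 (.node (nat_lit 0x3050106020407) (.leaf (nat_lit 0x3040506020107) (nat_lit 1537))
 (.leaf (nat_lit 0x3050106020407) (nat_lit 1540))
)) (.node (nat_lit 0x3050406010207) (.leaf (nat_lit 0x3050206040107) (nat_lit 1284))
 (.node (nat_lit 0x4010603020507) (.leaf (nat_lit 0x3050406010207) (nat_lit 1537))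
 (.leaf (nat_lit 0x4010603020507) (nat_lit 1541))
))) (.node (nat_lit 0x4050602030107) (.node (nat_lit 0x4030605020107) (.leaf (nat_lit 0x4020603050107) (nat_lit 1285))
 (.node (nat_lit 0x4050601020307) (.leaf (nat_lit 0x4030605020107) (nat_lit 1793))
 (.leaf (nat_lit 0x4050601020307) (nat_lit 1795))
)) (.node (nat_lit 0x5060103020407) (.node (nat_lit 0x4050603010207) (.leaf (nat_lit 0x4050602030107) (nat_lit 1539))
 (.leaf (nat_lit 0x4050603010207) (nat_lit 1793))
) (.node (nat_lit 0x5060203040107) (.leaf (nat_lit 0x5060103020407) (nat_lit 1796))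
 (.leaf (nat_lit 0x5060203040107) (nat_lit 1540))
))))) (.node (nat_lit 0x6040501020307) (.node (nat_lit 0x6010402030507) (.node (nat_lit 0x5060403010207) (.node (nat_lit 0x5060401020307) (.leaf (nat_lit 0x5060304020107) (nat_lit 2052))
 (.node (nat_lit 0x5060402030107) (.leaf (nat_lit 0x5060401020307) (nat_lit 2051))
 (.leaf (nat_lit 0x5060402030107) (nat_lit 1795))
)) (.node (nat_lit 0x6010203040507) (.leaf (nat_lit 0x5060403010207) (nat_lit 2049))
 (.node (nat_lit 0x6010304020507) (.leaf (nat_lit 0x6010203040507) (nat_lit 1285))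
 (.leaf (nat_lit 0x6010304020507) (nat_lit 1541))
))) (.node (nat_lit 0x6020401050307) (.node (nat_lit 0x6020103050407) (.leaf (nat_lit 0x6010402030507) (nat_lit 1541))
 (.node (nat_lit 0x6020304050107) (.leaf (nat_lit 0x6020103050407) (nat_lit 1029))
 (.leaf (nat_lit 0x6020304050107) (nat_lit 1285))
)) (.node (nat_lit 0x6030205040107) (.node (nat_lit 0x6030105020407) (.leaf (nat_lit 0x6020401050307) (nat_lit 1285))
 (.leaf (nat_lit 0x6030105020407) (nat_lit 1796))
) (.node (nat_lit 0x6030405010207) (.leaf (nat_lit 0x6030205040107) (nat_lit 1540))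
 (.leaf (nat_lit 0x6030405010207) (nat_lit 1793))
)))) (.node (nat_lit 0x100020403050706) (.node (nat_lit 0x6050102030407) (.node (nat_lit 0x6040502030107) (.leaf (nat_lit 0x6040501020307) (nat_lit 2051))
 (.node (nat_lit 0x6040503010207) (.leaf (nat_lit 0x6040502030107) (nat_lit 1795))
 (.leaf (nat_lit 0x6040503010207) (nat_lit 2049))
)) (.node (nat_lit 0x6050201040307) (.leaf (nat_lit 0x6050102030407) (nat_lit 1796))
 (.node (nat_lit 0x6050304010207) (.leaf (nat_lit 0x6050201040307) (nat_lit 1540))
 (.leaf (nat_lit 0x6050304010207) (nat_lit 2049))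
))) (.node (nat_lit 0x100050203040706) (.node (nat_lit 0x100030405020706) (.leaf (nat_lit 0x100020403050706) (nat_lit 517))
 (.node (nat_lit 0x100040503020706) (.leaf (nat_lit 0x100030405020706) (nat_lit 768))
 (.leaf (nat_lit 0x100040503020706) (nat_lit 1027))
)) (.node (nat_lit 0x100050402030706) (.node (nat_lit 0x100050304020706) (.leaf (nat_lit 0x100050203040706) (nat_lit 772))
 (.leaf (nat_lit 0x100050304020706) (nat_lit 1028))
) (.node (nat_lit 0x102000403060705) (.leaf (nat_lit 0x100050402030706) (nat_lit 1027))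
 (.leaf (nat_lit 0x102000403060705) (nat_lit 256))
)))))) (.node (nat_lit 0x106020003050704) (.node (nat_lit 0x104030605020700) (.node (nat_lit 0x103020406050700) (.node (nat_lit 0x102050304060700) (.node (nat_lit 0x102040503060700) (.leaf (nat_lit 0x102030405060700) (nat_lit 514))
 (.node (nat_lit 0x102050003060704) (.leaf (nat_lit 0x102040503060700) (nat_lit 771))
 (.leaf (nat_lit 0x102050003060704) (nat_lit 516))
)) (.node (nat_lit 0x102050400060703) (.leaf (nat_lit 0x102050304060700) (nat_lit 772))
 (.node (nat_lit 0x103000406020705) (.leaf (nat_lit 0x102050400060703) (nat_lit 771))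
 (.leaf (nat_lit 0x103000406020705) (nat_lit 1024))
))) (.node (nat_lit 0x103050206040700) (.node (nat_lit 0x103040506020700) (.leaf (nat_lit 0x103020406050700) (nat_lit 773))
 (.node (nat_lit 0x103050006020704) (.leaf (nat_lit 0x103040506020700) (nat_lit 1282))
 (.leaf (nat_lit 0x103050006020704) (nat_lit 1284))
)) (.node (nat_lit 0x104000603020705) (.node (nat_lit 0x103050406000702) (.leaf (nat_lit 0x103050206040700) (nat_lit 1028))
 (.leaf (nat_lit 0x103050406000702) (nat_lit 1282))
) (.node (nat_lit 0x104020603050700) (.leaf (nat_lit 0x104000603020705) (nat_lit 1283))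
 (.leaf (nat_lit 0x104020603050700) (nat_lit 1029))
)))) (.node (nat_lit 0x105060304020700) (.node (nat_lit 0x104050603000702) (.node (nat_lit 0x104050600020703) (.leaf (nat_lit 0x104030605020700) (nat_lit 1538))
 (.node (nat_lit 0x104050602030700) (.leaf (nat_lit 0x104050600020703) (nat_lit 1539))
 (.leaf (nat_lit 0x104050602030700) (nat_lit 1283))
)) (.node (nat_lit 0x105060003020704) (.leaf (nat_lit 0x104050603000702) (nat_lit 1538))
 (.node (nat_lit 0x105060203040700) (.leaf (nat_lit 0x105060003020704) (nat_lit 1540))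
 (.leaf (nat_lit 0x105060203040700) (nat_lit 1284))
))) (.node (nat_lit 0x105060403000702) (.node (nat_lit 0x105060400020703) (.leaf (nat_lit 0x105060304020700) (nat_lit 1796))
 (.node (nat_lit 0x105060402030700) (.leaf (nat_lit 0x105060400020703) (nat_lit 1795))
 (.leaf (nat_lit 0x105060402030700) (nat_lit 1539))
)) (.node (nat_lit 0x106000304020705) (.node (nat_lit 0x106000203040705) (.leaf (nat_lit 0x105060403000702) (nat_lit 1794))
 (.leaf (nat_lit 0x106000203040705) (nat_lit 1028))
) (.node (nat_lit 0x106000402030705) (.leaf (nat_lit 0x106000304020705) (nat_lit 1285))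
 (.leaf (nat_lit 0x106000402030705) (nat_lit 1283))
))))) (.node (nat_lit 0x200030405070106) (.node (nat_lit 0x106040500020703) (.node (nat_lit 0x106030005020704) (.node (nat_lit 0x106020304050700) (.leaf (nat_lit 0x106020003050704) (nat_lit 773))
 (.node (nat_lit 0x106020400050703) (.leaf (nat_lit 0x106020304050700) (nat_lit 1029))
 (.leaf (nat_lit 0x106020400050703) (nat_lit 1029))
)) (.node (nat_lit 0x106030205040700) (.leaf (nat_lit 0x106030005020704) (nat_lit 1541))
 (.node (nat_lit 0x106030405000702) (.leaf (nat_lit 0x106030205040700) (nat_lit 1284))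
 (.leaf (nat_lit 0x106030405000702) (nat_lit 1538))
))) (.node (nat_lit 0x106050002030704) (.node (nat_lit 0x106040502030700) (.leaf (nat_lit 0x106040500020703) (nat_lit 1797))
 (.node (nat_lit 0x106040503000702) (.leaf (nat_lit 0x106040502030700) (nat_lit 1539))
 (.leaf (nat_lit 0x106040503000702) (nat_lit 1794))
)) (.node (nat_lit 0x106050304000702) (.node (nat_lit 0x106050200040703) (.leaf (nat_lit 0x106050002030704) (nat_lit 1539))
 (.leaf (nat_lit 0x106050200040703) (nat_lit 1284))
) (.node (nat_lit 0x200010403070506) (.leaf (nat_lit 0x106050304000702) (nat_lit 1794))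
 (.leaf (nat_lit 0x200010403070506) (nat_lit 257))
)))) (.node (nat_lit 0x201040503070600) (.node (nat_lit 0x200050304070106) (.node (nat_lit 0x200040503070106) (.leaf (nat_lit 0x200030405070106) (nat_lit 513))
 (.node (nat_lit 0x200050103070406) (.leaf (nat_lit 0x200040503070106) (nat_lit 771))
 (.leaf (nat_lit 0x200050103070406) (nat_lit 516))
)) (.node (nat_lit 0x201000403070605) (.node (nat_lit 0x200050401070306) (.leaf (nat_lit 0x200050304070106) (nat_lit 772))
 (.leaf (nat_lit 0x200050401070306) (nat_lit 771))
) (.node (nat_lit 0x201030405070600) (.leaf (nat_lit 0x201000403070605) (nat_lit 0))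
 (.leaf (nat_lit 0x201030405070600) (nat_lit 258))
))) (.node (nat_lit 0x201050400070603) (.node (nat_lit 0x201050003070604) (.leaf (nat_lit 0x201040503070600) (nat_lit 515))
 (.node (nat_lit 0x201050304070600) (.leaf (nat_lit 0x201050003070604) (nat_lit 260))
 (.leaf (nat_lit 0x201050304070600) (nat_lit 516))
)) (.node (nat_lit 0x203010406070500) (.node (nat_lit 0x203000406070105) (.leaf (nat_lit 0x201050400070603) (nat_lit 515))
 (.leaf (nat_lit 0x203000406070105) (nat_lit 769))
) (.node (nat_lit 0x203040506070100) (.leaf (nat_lit 0x203010406070500) (nat_lit 514))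
 (.leaf (nat_lit 0x203040506070100) (nat_lit 1026))
))))))) (.node (nat_lit 0x304050607010200) (.node (nat_lit 0x206040503070001) (.node (nat_lit 0x205060401070300) (.node (nat_lit 0x204050600070103) (.node (nat_lit 0x204000603070105) (.node (nat_lit 0x203050106070400) (.leaf (nat_lit 0x203050006070104) (nat_lit 1028))
 (.node (nat_lit 0x203050406070001) (.leaf (nat_lit 0x203050106070400) (nat_lit 772))
 (.leaf (nat_lit 0x203050406070001) (nat_lit 1026))
)) (.node (nat_lit 0x204010603070500) (.leaf (nat_lit 0x204000603070105) (nat_lit 1027))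
 (.node (nat_lit 0x204030605070100) (.leaf (nat_lit 0x204010603070500) (nat_lit 771))
 (.leaf (nat_lit 0x204030605070100) (nat_lit 1282))
))) (.node (nat_lit 0x205060003070104) (.node (nat_lit 0x204050601070300) (.leaf (nat_lit 0x204050600070103) (nat_lit 1283))
 (.node (nat_lit 0x204050603070001) (.leaf (nat_lit 0x204050601070300) (nat_lit 1027))
 (.leaf (nat_lit 0x204050603070001) (nat_lit 1282))
)) (.node (nat_lit 0x205060304070100) (.node (nat_lit 0x205060103070400) (.leaf (nat_lit 0x205060003070104) (nat_lit 1284))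
 (.leaf (nat_lit 0x205060103070400) (nat_lit 1028))
) (.node (nat_lit 0x205060400070103) (.leaf (nat_lit 0x205060304070100) (nat_lit 1540))
 (.leaf (nat_lit 0x205060400070103) (nat_lit 1539))
)))) (.node (nat_lit 0x206010304070500) (.node (nat_lit 0x206000304070105) (.node (nat_lit 0x205060403070001) (.leaf (nat_lit 0x205060401070300) (nat_lit 1283))
 (.node (nat_lit 0x206000103070405) (.leaf (nat_lit 0x205060403070001) (nat_lit 1538))
 (.leaf (nat_lit 0x206000103070405) (nat_lit 773))
)) (.node (nat_lit 0x206000401070305) (.leaf (nat_lit 0x206000304070105) (nat_lit 1029))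
 (.node (nat_lit 0x206010003070504) (.leaf (nat_lit 0x206000401070305) (nat_lit 1029))
 (.leaf (nat_lit 0x206010003070504) (nat_lit 517))
))) (.node (nat_lit 0x206030105070400) (.node (nat_lit 0x206010400070503) (.leaf (nat_lit 0x206010304070500) (nat_lit 773))
 (.node (nat_lit 0x206030005070104) (.leaf (nat_lit 0x206010400070503) (nat_lit 773))
 (.leaf (nat_lit 0x206030005070104) (nat_lit 1285))
)) (.node (nat_lit 0x206040500070103) (.node (nat_lit 0x206030405070001) (.leaf (nat_lit 0x206030105070400) (nat_lit 1029))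
 (.leaf (nat_lit 0x206030405070001) (nat_lit 1285))
) (.node (nat_lit 0x206040501070300) (.leaf (nat_lit 0x206040500070103) (nat_lit 1541))
 (.leaf (nat_lit 0x206040501070300) (nat_lit 1285))
))))) (.node (nat_lit 0x301050007020604) (.node (nat_lit 0x300040507020106) (.node (nat_lit 0x206050304070001) (.node (nat_lit 0x206050001070304) (.leaf (nat_lit 0x206040503070001) (nat_lit 1541))
 (.node (nat_lit 0x206050100070403) (.leaf (nat_lit 0x206050001070304) (nat_lit 1284))
 (.leaf (nat_lit 0x206050100070403) (nat_lit 1028))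
)) (.node (nat_lit 0x300010407020506) (.leaf (nat_lit 0x206050304070001) (nat_lit 1540))
 (.node (nat_lit 0x300020407050106) (.leaf (nat_lit 0x300010407020506) (nat_lit 1536))
 (.leaf (nat_lit 0x300020407050106) (nat_lit 1281))
))) (.node (nat_lit 0x300050407010206) (.node (nat_lit 0x300050107020406) (.leaf (nat_lit 0x300040507020106) (nat_lit 1793))
 (.node (nat_lit 0x300050207040106) (.leaf (nat_lit 0x300050107020406) (nat_lit 1796))
 (.leaf (nat_lit 0x300050207040106) (nat_lit 1540))
)) (.node (nat_lit 0x301020407050600) (.node (nat_lit 0x301000407020605) (.leaf (nat_lit 0x300050407010206) (nat_lit 1793))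
 (.leaf (nat_lit 0x301000407020605) (nat_lit 1280))
) (.node (nat_lit 0x301040507020600) (.leaf (nat_lit 0x301020407050600) (nat_lit 1026))
 (.leaf (nat_lit 0x301040507020600) (nat_lit 1538))
)))) (.node (nat_lit 0x302050007060104) (.node (nat_lit 0x302000407060105) (.node (nat_lit 0x301050207040600) (.leaf (nat_lit 0x301050007020604) (nat_lit 1540))
 (.node (nat_lit 0x301050407000602) (.leaf (nat_lit 0x301050207040600) (nat_lit 1284))
 (.leaf (nat_lit 0x301050407000602) (nat_lit 1538))
)) (.node (nat_lit 0x302010407060500) (.leaf (nat_lit 0x302000407060105) (nat_lit 1025))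
 (.node (nat_lit 0x302040507060100) (.leaf (nat_lit 0x302010407060500) (nat_lit 770))
 (.leaf (nat_lit 0x302040507060100) (nat_lit 1282))
))) (.node (nat_lit 0x304000607020105) (.node (nat_lit 0x302050107060400) (.leaf (nat_lit 0x302050007060104) (nat_lit 1284))
 (.node (nat_lit 0x302050407060001) (.leaf (nat_lit 0x302050107060400) (nat_lit 1028))
 (.leaf (nat_lit 0x302050407060001) (nat_lit 1282))
)) (.node (nat_lit 0x304020607050100) (.node (nat_lit 0x304010607020500) (.leaf (nat_lit 0x304000607020105) (nat_lit 2053))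
 (.leaf (nat_lit 0x304010607020500) (nat_lit 1797))
) (.node (nat_lit 0x304050607000102) (.leaf (nat_lit 0x304020607050100) (nat_lit 1541))
 (.leaf (nat_lit 0x304050607000102) (nat_lit 1794))
)))))) (.node (nat_lit 0x400050701020306) (.node (nat_lit 0x306010407000502) (.node (nat_lit 0x305060407010200) (.node (nat_lit 0x305060107020400) (.node (nat_lit 0x304050607020001) (.leaf (nat_lit 0x304050607010200) (nat_lit 2049))
 (.node (nat_lit 0x305060007020104) (.leaf (nat_lit 0x304050607020001) (nat_lit 2050))
 (.leaf (nat_lit 0x305060007020104) (nat_lit 2308))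
)) (.node (nat_lit 0x305060207040100) (.leaf (nat_lit 0x305060107020400) (nat_lit 2052))
 (.node (nat_lit 0x305060407000102) (.leaf (nat_lit 0x305060207040100) (nat_lit 1796))
 (.leaf (nat_lit 0x305060407000102) (nat_lit 2050))
))) (.node (nat_lit 0x306000207040105) (.node (nat_lit 0x305060407020001) (.leaf (nat_lit 0x305060407010200) (nat_lit 2305))
 (.node (nat_lit 0x306000107020405) (.leaf (nat_lit 0x305060407020001) (nat_lit 2306))
 (.leaf (nat_lit 0x306000107020405) (nat_lit 2053))
)) (.node (nat_lit 0x306010007020504) (.node (nat_lit 0x306000407010205) (.leaf (nat_lit 0x306000207040105) (nat_lit 1797))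
 (.leaf (nat_lit 0x306000407010205) (nat_lit 2053))
) (.node (nat_lit 0x306010207040500) (.leaf (nat_lit 0x306010007020504) (nat_lit 1797))
 (.leaf (nat_lit 0x306010207040500) (nat_lit 1541))
)))) (.node (nat_lit 0x306040507020001) (.node (nat_lit 0x306020407050001) (.node (nat_lit 0x306020007050104) (.leaf (nat_lit 0x306010407000502) (nat_lit 1797))
 (.node (nat_lit 0x306020107050400) (.leaf (nat_lit 0x306020007050104) (nat_lit 1541))
 (.leaf (nat_lit 0x306020107050400) (nat_lit 1285))
)) (.node (nat_lit 0x306040507000102) (.leaf (nat_lit 0x306020407050001) (nat_lit 1541))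
 (.node (nat_lit 0x306040507010200) (.leaf (nat_lit 0x306040507000102) (nat_lit 2050))
 (.leaf (nat_lit 0x306040507010200) (nat_lit 2305))
))) (.node (nat_lit 0x306050207040001) (.node (nat_lit 0x306050007010204) (.leaf (nat_lit 0x306040507020001) (nat_lit 2306))
 (.node (nat_lit 0x306050107000402) (.leaf (nat_lit 0x306050007010204) (nat_lit 2308))
 (.leaf (nat_lit 0x306050107000402) (nat_lit 2052))
)) (.node (nat_lit 0x400020703050106) (.node (nat_lit 0x400010703020506) (.leaf (nat_lit 0x306050207040001) (nat_lit 1796))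
 (.leaf (nat_lit 0x400010703020506) (nat_lit 1795))
) (.node (nat_lit 0x400030705020106) (.leaf (nat_lit 0x400020703050106) (nat_lit 1539))
 (.leaf (nat_lit 0x400030705020106) (nat_lit 2049))
))))) (.node (nat_lit 0x402050701060300) (.node (nat_lit 0x401050700020603) (.node (nat_lit 0x401000703020605) (.node (nat_lit 0x400050702030106) (.leaf (nat_lit 0x400050701020306) (nat_lit 2051))
 (.node (nat_lit 0x400050703010206) (.leaf (nat_lit 0x400050702030106) (nat_lit 1795))
 (.leaf (nat_lit 0x400050703010206) (nat_lit 2049))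
)) (.node (nat_lit 0x401020703050600) (.leaf (nat_lit 0x401000703020605) (nat_lit 1539))
 (.node (nat_lit 0x401030705020600) (.leaf (nat_lit 0x401020703050600) (nat_lit 1283))
 (.leaf (nat_lit 0x401030705020600) (nat_lit 1794))
))) (.node (nat_lit 0x402000703060105) (.node (nat_lit 0x401050702030600) (.leaf (nat_lit 0x401050700020603) (nat_lit 1795))
 (.node (nat_lit 0x401050703000602) (.leaf (nat_lit 0x401050702030600) (nat_lit 1539))
 (.leaf (nat_lit 0x401050703000602) (nat_lit 1794))
)) (.node (nat_lit 0x402030705060100) (.node (nat_lit 0x402010703060500) (.leaf (nat_lit 0x402000703060105) (nat_lit 1283))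
 (.leaf (nat_lit 0x402010703060500) (nat_lit 1027))
) (.node (nat_lit 0x402050700060103) (.leaf (nat_lit 0x402030705060100) (nat_lit 1538))
 (.leaf (nat_lit 0x402050700060103) (nat_lit 1539))
)))) (.node (nat_lit 0x403050706020001) (.node (nat_lit 0x403010706020500) (.node (nat_lit 0x402050703060001) (.leaf (nat_lit 0x402050701060300) (nat_lit 1283))
 (.node (nat_lit 0x403000706020105) (.leaf (nat_lit 0x402050703060001) (nat_lit 1538))
 (.leaf (nat_lit 0x403000706020105) (nat_lit 2305))
)) (.node (nat_lit 0x403050706000102) (.node (nat_lit 0x403020706050100) (.leaf (nat_lit 0x403010706020500) (nat_lit 2050))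
 (.leaf (nat_lit 0x403020706050100) (nat_lit 1794))
) (.node (nat_lit 0x403050706010200) (.leaf (nat_lit 0x403050706000102) (nat_lit 2050))
 (.leaf (nat_lit 0x403050706010200) (nat_lit 2305))
))) (.node (nat_lit 0x405060702030100) (.node (nat_lit 0x405060700020103) (.leaf (nat_lit 0x403050706020001) (nat_lit 2306))
 (.node (nat_lit 0x405060701020300) (.leaf (nat_lit 0x405060700020103) (nat_lit 2563))
 (.leaf (nat_lit 0x405060701020300) (nat_lit 2307))
)) (.node (nat_lit 0x405060703010200) (.node (nat_lit 0x405060703000102) (.leaf (nat_lit 0x405060702030100) (nat_lit 2051))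
 (.leaf (nat_lit 0x405060703000102) (nat_lit 2306))
) (.node (nat_lit 0x405060703020001) (.leaf (nat_lit 0x405060703010200) (nat_lit 2561))
 (.leaf (nat_lit 0x405060703020001) (nat_lit 2562))
)))))))) (.node (nat_lit 0x700010203040506) (.node (nat_lit 0x506070201040300) (.node (nat_lit 0x501070403000602) (.node (nat_lit 0x406050701000302) (.node (nat_lit 0x406020700050103) (.node (nat_lit 0x406010700020503) (.node (nat_lit 0x406000702030105) (.leaf (nat_lit 0x406000701020305) (nat_lit 2309))
 (.node (nat_lit 0x406000703010205) (.leaf (nat_lit 0x406000702030105) (nat_lit 2053))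
 (.leaf (nat_lit 0x406000703010205) (nat_lit 2309))
)) (.node (nat_lit 0x406010702030500) (.leaf (nat_lit 0x406010700020503) (nat_lit 2053))
 (.node (nat_lit 0x406010703000502) (.leaf (nat_lit 0x406010702030500) (nat_lit 1797))
 (.leaf (nat_lit 0x406010703000502) (nat_lit 2053))
))) (.node (nat_lit 0x406030705000102) (.node (nat_lit 0x406020701050300) (.leaf (nat_lit 0x406020700050103) (nat_lit 1797))
 (.node (nat_lit 0x406020703050001) (.leaf (nat_lit 0x406020701050300) (nat_lit 1541))
 (.leaf (nat_lit 0x406020703050001) (nat_lit 1797))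
)) (.node (nat_lit 0x406030705020001) (.node (nat_lit 0x406030705010200) (.leaf (nat_lit 0x406030705000102) (nat_lit 2309))
 (.leaf (nat_lit 0x406030705010200) (nat_lit 2565))
) (.node (nat_lit 0x406050700010203) (.leaf (nat_lit 0x406030705020001) (nat_lit 2565))
 (.leaf (nat_lit 0x406050700010203) (nat_lit 2563))
)))) (.node (nat_lit 0x500070402030106) (.node (nat_lit 0x500070203040106) (.node (nat_lit 0x406050702030001) (.leaf (nat_lit 0x406050701000302) (nat_lit 2307))
 (.node (nat_lit 0x500070103020406) (.leaf (nat_lit 0x406050702030001) (nat_lit 2051))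
 (.leaf (nat_lit 0x500070103020406) (nat_lit 2052))
)) (.node (nat_lit 0x500070304020106) (.leaf (nat_lit 0x500070203040106) (nat_lit 1796))
 (.node (nat_lit 0x500070401020306) (.leaf (nat_lit 0x500070304020106) (nat_lit 2308))
 (.leaf (nat_lit 0x500070401020306) (nat_lit 2307))
))) (.node (nat_lit 0x501070203040600) (.node (nat_lit 0x500070403010206) (.leaf (nat_lit 0x500070402030106) (nat_lit 2051))
 (.node (nat_lit 0x501070003020604) (.leaf (nat_lit 0x500070403010206) (nat_lit 2305))
 (.leaf (nat_lit 0x501070003020604) (nat_lit 1796))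
)) (.node (nat_lit 0x501070400020603) (.node (nat_lit 0x501070304020600) (.leaf (nat_lit 0x501070203040600) (nat_lit 1540))
 (.leaf (nat_lit 0x501070304020600) (nat_lit 2052))
) (.node (nat_lit 0x501070402030600) (.leaf (nat_lit 0x501070400020603) (nat_lit 2051))
 (.leaf (nat_lit 0x501070402030600) (nat_lit 1795))
))))) (.node (nat_lit 0x504070600020103) (.node (nat_lit 0x502070403060001) (.node (nat_lit 0x502070304060100) (.node (nat_lit 0x502070003060104) (.leaf (nat_lit 0x501070403000602) (nat_lit 2050))
 (.node (nat_lit 0x502070103060400) (.leaf (nat_lit 0x502070003060104) (nat_lit 1540))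
 (.leaf (nat_lit 0x502070103060400) (nat_lit 1284))
)) (.node (nat_lit 0x502070400060103) (.leaf (nat_lit 0x502070304060100) (nat_lit 1796))
 (.node (nat_lit 0x502070401060300) (.leaf (nat_lit 0x502070400060103) (nat_lit 1795))
 (.leaf (nat_lit 0x502070401060300) (nat_lit 1539))
))) (.node (nat_lit 0x503070206040100) (.node (nat_lit 0x503070006020104) (.leaf (nat_lit 0x502070403060001) (nat_lit 1794))
 (.node (nat_lit 0x503070106020400) (.leaf (nat_lit 0x503070006020104) (nat_lit 2564))
 (.leaf (nat_lit 0x503070106020400) (nat_lit 2308))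
)) (.node (nat_lit 0x503070406010200) (.node (nat_lit 0x503070406000102) (.leaf (nat_lit 0x503070206040100) (nat_lit 2052))
 (.leaf (nat_lit 0x503070406000102) (nat_lit 2306))
) (.node (nat_lit 0x503070406020001) (.leaf (nat_lit 0x503070406010200) (nat_lit 2561))
 (.leaf (nat_lit 0x503070406020001) (nat_lit 2562))
)))) (.node (nat_lit 0x506070001020304) (.node (nat_lit 0x504070603000102) (.node (nat_lit 0x504070601020300) (.leaf (nat_lit 0x504070600020103) (nat_lit 2819))
 (.node (nat_lit 0x504070602030100) (.leaf (nat_lit 0x504070601020300) (nat_lit 2563))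
 (.leaf (nat_lit 0x504070602030100) (nat_lit 2307))
)) (.node (nat_lit 0x504070603010200) (.leaf (nat_lit 0x504070603000102) (nat_lit 2562))
 (.node (nat_lit 0x504070603020001) (.leaf (nat_lit 0x504070603010200) (nat_lit 2817))
 (.leaf (nat_lit 0x504070603020001) (nat_lit 2818))
))) (.node (nat_lit 0x506070100020403) (.node (nat_lit 0x506070002030104) (.leaf (nat_lit 0x506070001020304) (nat_lit 2564))
 (.node (nat_lit 0x506070003010204) (.leaf (nat_lit 0x506070002030104) (nat_lit 2308))
 (.leaf (nat_lit 0x506070003010204) (nat_lit 2564))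
)) (.node (nat_lit 0x506070103000402) (.node (nat_lit 0x506070102030400) (.leaf (nat_lit 0x506070100020403) (nat_lit 2308))
 (.leaf (nat_lit 0x506070102030400) (nat_lit 2052))
) (.node (nat_lit 0x506070200040103) (.leaf (nat_lit 0x506070103000402) (nat_lit 2308))
 (.leaf (nat_lit 0x506070200040103) (nat_lit 2052))
)))))) (.node (nat_lit 0x607030005020104) (.node (nat_lit 0x607000403010205) (.node (nat_lit 0x506070401000302) (.node (nat_lit 0x506070304010200) (.node (nat_lit 0x506070203040001) (.leaf (nat_lit 0x506070201040300) (nat_lit 1796))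
 (.node (nat_lit 0x506070304000102) (.leaf (nat_lit 0x506070203040001) (nat_lit 2052))
 (.leaf (nat_lit 0x506070304000102) (nat_lit 2564))
)) (.node (nat_lit 0x506070304020001) (.leaf (nat_lit 0x506070304010200) (nat_lit 2820))
 (.node (nat_lit 0x506070400010203) (.leaf (nat_lit 0x506070304020001) (nat_lit 2820))
 (.leaf (nat_lit 0x506070400010203) (nat_lit 2819))
))) (.node (nat_lit 0x607000203040105) (.node (nat_lit 0x506070402030001) (.leaf (nat_lit 0x506070401000302) (nat_lit 2563))
 (.node (nat_lit 0x607000103020405) (.leaf (nat_lit 0x506070402030001) (nat_lit 2307))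
 (.leaf (nat_lit 0x607000103020405) (nat_lit 2309))
)) (.node (nat_lit 0x607000401020305) (.node (nat_lit 0x607000304020105) (.leaf (nat_lit 0x607000203040105) (nat_lit 2053))
 (.leaf (nat_lit 0x607000304020105) (nat_lit 2565))
) (.node (nat_lit 0x607000402030105) (.leaf (nat_lit 0x607000401020305) (nat_lit 2565))
 (.leaf (nat_lit 0x607000402030105) (nat_lit 2309))
)))) (.node (nat_lit 0x607010403000502) (.node (nat_lit 0x607010304020500) (.node (nat_lit 0x607010003020504) (.leaf (nat_lit 0x607000403010205) (nat_lit 2565))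
 (.node (nat_lit 0x607010203040500) (.leaf (nat_lit 0x607010003020504) (nat_lit 2053))
 (.leaf (nat_lit 0x607010203040500) (nat_lit 1797))
)) (.node (nat_lit 0x607010400020503) (.leaf (nat_lit 0x607010304020500) (nat_lit 2309))
 (.node (nat_lit 0x607010402030500) (.leaf (nat_lit 0x607010400020503) (nat_lit 2309))
 (.leaf (nat_lit 0x607010402030500) (nat_lit 2053))
))) (.node (nat_lit 0x607020304050100) (.node (nat_lit 0x607020003050104) (.leaf (nat_lit 0x607010403000502) (nat_lit 2309))
 (.node (nat_lit 0x607020103050400) (.leaf (nat_lit 0x607020003050104) (nat_lit 1797))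
 (.leaf (nat_lit 0x607020103050400) (nat_lit 1541))
)) (.node (nat_lit 0x607020401050300) (.node (nat_lit 0x607020400050103) (.leaf (nat_lit 0x607020304050100) (nat_lit 2053))
 (.leaf (nat_lit 0x607020400050103) (nat_lit 2053))
) (.node (nat_lit 0x607020403050001) (.leaf (nat_lit 0x607020401050300) (nat_lit 1797))
 (.leaf (nat_lit 0x607020403050001) (nat_lit 2053))
))))) (.node (nat_lit 0x607050002030104) (.node (nat_lit 0x607040500020103) (.node (nat_lit 0x607030405000102) (.node (nat_lit 0x607030105020400) (.leaf (nat_lit 0x607030005020104) (nat_lit 2821))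
 (.node (nat_lit 0x607030205040100) (.leaf (nat_lit 0x607030105020400) (nat_lit 2565))
 (.leaf (nat_lit 0x607030205040100) (nat_lit 2309))
)) (.node (nat_lit 0x607030405010200) (.leaf (nat_lit 0x607030405000102) (nat_lit 2565))
 (.node (nat_lit 0x607030405020001) (.leaf (nat_lit 0x607030405010200) (nat_lit 2821))
 (.leaf (nat_lit 0x607030405020001) (nat_lit 2821))
))) (.node (nat_lit 0x607040503000102) (.node (nat_lit 0x607040501020300) (.leaf (nat_lit 0x607040500020103) (nat_lit 3077))
 (.node (nat_lit 0x607040502030100) (.leaf (nat_lit 0x607040501020300) (nat_lit 2821))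
 (.leaf (nat_lit 0x607040502030100) (nat_lit 2565))
)) (.node (nat_lit 0x607040503020001) (.node (nat_lit 0x607040503010200) (.leaf (nat_lit 0x607040503000102) (nat_lit 2821))
 (.leaf (nat_lit 0x607040503010200) (nat_lit 3077))
) (.node (nat_lit 0x607050001020304) (.leaf (nat_lit 0x607040503020001) (nat_lit 3077))
 (.leaf (nat_lit 0x607050001020304) (nat_lit 2820))
)))) (.node (nat_lit 0x607050203040001) (.node (nat_lit 0x607050102030400) (.node (nat_lit 0x607050003010204) (.leaf (nat_lit 0x607050002030104) (nat_lit 2564))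
 (.node (nat_lit 0x607050100020403) (.leaf (nat_lit 0x607050003010204) (nat_lit 2820))
 (.leaf (nat_lit 0x607050100020403) (nat_lit 2564))
)) (.node (nat_lit 0x607050200040103) (.node (nat_lit 0x607050103000402) (.leaf (nat_lit 0x607050102030400) (nat_lit 2308))
 (.leaf (nat_lit 0x607050103000402) (nat_lit 2564))
) (.node (nat_lit 0x607050201040300) (.leaf (nat_lit 0x607050200040103) (nat_lit 2308))
 (.leaf (nat_lit 0x607050201040300) (nat_lit 2052))
))) (.node (nat_lit 0x607050304020001) (.node (nat_lit 0x607050304000102) (.leaf (nat_lit 0x607050203040001) (nat_lit 2308))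
 (.node (nat_lit 0x607050304010200) (.leaf (nat_lit 0x607050304000102) (nat_lit 2820))
 (.leaf (nat_lit 0x607050304010200) (nat_lit 3076))
)) (.node (nat_lit 0x607050401000302) (.node (nat_lit 0x607050400010203) (.leaf (nat_lit 0x607050304020001) (nat_lit 3076))
 (.leaf (nat_lit 0x607050400010203) (nat_lit 3075))
) (.node (nat_lit 0x607050402030001) (.leaf (nat_lit 0x607050401000302) (nat_lit 2819))
 (.leaf (nat_lit 0x607050402030001) (nat_lit 2563))
))))))) (.node (nat_lit 0x703020106050400) (.node (nat_lit 0x701040503000602) (.node (nat_lit 0x700050201040306) (.node (nat_lit 0x700030105020406) (.node (nat_lit 0x700020103050406) (.node (nat_lit 0x700010304020506) (.leaf (nat_lit 0x700010203040506) (nat_lit 1542))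
 (.node (nat_lit 0x700010402030506) (.leaf (nat_lit 0x700010304020506) (nat_lit 1798))
 (.leaf (nat_lit 0x700010402030506) (nat_lit 1798))
)) (.node (nat_lit 0x700020304050106) (.leaf (nat_lit 0x700020103050406) (nat_lit 1286))
 (.node (nat_lit 0x700020401050306) (.leaf (nat_lit 0x700020304050106) (nat_lit 1542))
 (.leaf (nat_lit 0x700020401050306) (nat_lit 1542))
))) (.node (nat_lit 0x700040501020306) (.node (nat_lit 0x700030205040106) (.leaf (nat_lit 0x700030105020406) (nat_lit 2054))
 (.node (nat_lit 0x700030405010206) (.leaf (nat_lit 0x700030205040106) (nat_lit 1798))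
 (.leaf (nat_lit 0x700030405010206) (nat_lit 2054))
)) (.node (nat_lit 0x700040503010206) (.node (nat_lit 0x700040502030106) (.leaf (nat_lit 0x700040501020306) (nat_lit 2310))
 (.leaf (nat_lit 0x700040502030106) (nat_lit 2054))
) (.node (nat_lit 0x700050102030406) (.leaf (nat_lit 0x700040503010206) (nat_lit 2310))
 (.leaf (nat_lit 0x700050102030406) (nat_lit 2054))
)))) (.node (nat_lit 0x701020304050600) (.node (nat_lit 0x701000304020605) (.node (nat_lit 0x700050304010206) (.leaf (nat_lit 0x700050201040306) (nat_lit 1798))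
 (.node (nat_lit 0x701000203040605) (.leaf (nat_lit 0x700050304010206) (nat_lit 2310))
 (.leaf (nat_lit 0x701000203040605) (nat_lit 1286))
)) (.node (nat_lit 0x701000402030605) (.leaf (nat_lit 0x701000304020605) (nat_lit 1542))
 (.node (nat_lit 0x701020003050604) (.leaf (nat_lit 0x701000402030605) (nat_lit 1542))
 (.leaf (nat_lit 0x701020003050604) (nat_lit 1030))
))) (.node (nat_lit 0x701030205040600) (.node (nat_lit 0x701020400050603) (.leaf (nat_lit 0x701020304050600) (nat_lit 1286))
 (.node (nat_lit 0x701030005020604) (.leaf (nat_lit 0x701020400050603) (nat_lit 1286))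
 (.leaf (nat_lit 0x701030005020604) (nat_lit 1798))
)) (.node (nat_lit 0x701040500020603) (.node (nat_lit 0x701030405000602) (.leaf (nat_lit 0x701030205040600) (nat_lit 1542))
 (.leaf (nat_lit 0x701030405000602) (nat_lit 1798))
) (.node (nat_lit 0x701040502030600) (.leaf (nat_lit 0x701040500020603) (nat_lit 2054))
 (.leaf (nat_lit 0x701040502030600) (nat_lit 1798))
))))) (.node (nat_lit 0x702040500060103) (.node (nat_lit 0x702000401060305) (.node (nat_lit 0x701050304000602) (.node (nat_lit 0x701050002030604) (.leaf (nat_lit 0x701040503000602) (nat_lit 2054))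
 (.node (nat_lit 0x701050200040603) (.leaf (nat_lit 0x701050002030604) (nat_lit 1798))
 (.leaf (nat_lit 0x701050200040603) (nat_lit 1542))
)) (.node (nat_lit 0x702000103060405) (.leaf (nat_lit 0x701050304000602) (nat_lit 2054))
 (.node (nat_lit 0x702000304060105) (.leaf (nat_lit 0x702000103060405) (nat_lit 1030))
 (.leaf (nat_lit 0x702000304060105) (nat_lit 1286))
))) (.node (nat_lit 0x702010400060503) (.node (nat_lit 0x702010003060504) (.leaf (nat_lit 0x702000401060305) (nat_lit 1286))
 (.node (nat_lit 0x702010304060500) (.leaf (nat_lit 0x702010003060504) (nat_lit 774))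
 (.leaf (nat_lit 0x702010304060500) (nat_lit 1030))
)) (.node (nat_lit 0x702030105060400) (.node (nat_lit 0x702030005060104) (.leaf (nat_lit 0x702010400060503) (nat_lit 1030))
 (.leaf (nat_lit 0x702030005060104) (nat_lit 1542))
) (.node (nat_lit 0x702030405060001) (.leaf (nat_lit 0x702030105060400) (nat_lit 1286))
 (.leaf (nat_lit 0x702030405060001) (nat_lit 1542))
)))) (.node (nat_lit 0x703000106020405) (.node (nat_lit 0x702050001060304) (.node (nat_lit 0x702040501060300) (.leaf (nat_lit 0x702040500060103) (nat_lit 1798))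
 (.node (nat_lit 0x702040503060001) (.leaf (nat_lit 0x702040501060300) (nat_lit 1542))
 (.leaf (nat_lit 0x702040503060001) (nat_lit 1798))
)) (.node (nat_lit 0x702050100060403) (.leaf (nat_lit 0x702050001060304) (nat_lit 1542))
 (.node (nat_lit 0x702050304060001) (.leaf (nat_lit 0x702050100060403) (nat_lit 1286))
 (.leaf (nat_lit 0x702050304060001) (nat_lit 1798))
))) (.node (nat_lit 0x703010006020504) (.node (nat_lit 0x703000206040105) (.leaf (nat_lit 0x703000106020405) (nat_lit 2310))
 (.node (nat_lit 0x703000406010205) (.leaf (nat_lit 0x703000206040105) (nat_lit 2054))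
 (.leaf (nat_lit 0x703000406010205) (nat_lit 2310))
)) (.node (nat_lit 0x703010406000502) (.node (nat_lit 0x703010206040500) (.leaf (nat_lit 0x703010006020504) (nat_lit 2054))
 (.leaf (nat_lit 0x703010206040500) (nat_lit 1798))
) (.node (nat_lit 0x703020006050104) (.leaf (nat_lit 0x703010406000502) (nat_lit 2054))
 (.leaf (nat_lit 0x703020006050104) (nat_lit 1798))
)))))) (.node (nat_lit 0x705060100020403) (.node (nat_lit 0x704010603000502) (.node (nat_lit 0x703050106000402) (.node (nat_lit 0x703040506010200) (.node (nat_lit 0x703020406050001) (.leaf (nat_lit 0x703020106050400) (nat_lit 1542))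
 (.node (nat_lit 0x703040506000102) (.leaf (nat_lit 0x703020406050001) (nat_lit 1798))
 (.leaf (nat_lit 0x703040506000102) (nat_lit 2310))
)) (.node (nat_lit 0x703040506020001) (.leaf (nat_lit 0x703040506010200) (nat_lit 2566))
 (.node (nat_lit 0x703050006010204) (.leaf (nat_lit 0x703040506020001) (nat_lit 2566))
 (.leaf (nat_lit 0x703050006010204) (nat_lit 2566))
))) (.node (nat_lit 0x704000602030105) (.node (nat_lit 0x703050206040001) (.leaf (nat_lit 0x703050106000402) (nat_lit 2310))
 (.node (nat_lit 0x704000601020305) (.leaf (nat_lit 0x703050206040001) (nat_lit 2054))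
 (.leaf (nat_lit 0x704000601020305) (nat_lit 2566))
)) (.node (nat_lit 0x704010600020503) (.node (nat_lit 0x704000603010205) (.leaf (nat_lit 0x704000602030105) (nat_lit 2310))
 (.leaf (nat_lit 0x704000603010205) (nat_lit 2566))
) (.node (nat_lit 0x704010602030500) (.leaf (nat_lit 0x704010600020503) (nat_lit 2310))
 (.leaf (nat_lit 0x704010602030500) (nat_lit 2054))
)))) (.node (nat_lit 0x704030605020001) (.node (nat_lit 0x704020603050001) (.node (nat_lit 0x704020600050103) (.leaf (nat_lit 0x704010603000502) (nat_lit 2310))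
 (.node (nat_lit 0x704020601050300) (.leaf (nat_lit 0x704020600050103) (nat_lit 2054))
 (.leaf (nat_lit 0x704020601050300) (nat_lit 1798))
)) (.node (nat_lit 0x704030605000102) (.leaf (nat_lit 0x704020603050001) (nat_lit 2054))
 (.node (nat_lit 0x704030605010200) (.leaf (nat_lit 0x704030605000102) (nat_lit 2566))
 (.leaf (nat_lit 0x704030605010200) (nat_lit 2822))
))) (.node (nat_lit 0x704050602030001) (.node (nat_lit 0x704050600010203) (.leaf (nat_lit 0x704030605020001) (nat_lit 2822))
 (.node (nat_lit 0x704050601000302) (.leaf (nat_lit 0x704050600010203) (nat_lit 2822))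
 (.leaf (nat_lit 0x704050601000302) (nat_lit 2566))
)) (.node (nat_lit 0x705060002030104) (.node (nat_lit 0x705060001020304) (.leaf (nat_lit 0x704050602030001) (nat_lit 2310))
 (.leaf (nat_lit 0x705060001020304) (nat_lit 2822))
) (.node (nat_lit 0x705060003010204) (.leaf (nat_lit 0x705060002030104) (nat_lit 2566))
 (.leaf (nat_lit 0x705060003010204) (nat_lit 2822))
))))) (.node (nat_lit 0x706000201040305) (.node (nat_lit 0x705060304000102) (.node (nat_lit 0x705060200040103) (.node (nat_lit 0x705060102030400) (.leaf (nat_lit 0x705060100020403) (nat_lit 2566))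
 (.node (nat_lit 0x705060103000402) (.leaf (nat_lit 0x705060102030400) (nat_lit 2310))
 (.leaf (nat_lit 0x705060103000402) (nat_lit 2566))
)) (.node (nat_lit 0x705060201040300) (.leaf (nat_lit 0x705060200040103) (nat_lit 2310))
 (.node (nat_lit 0x705060203040001) (.leaf (nat_lit 0x705060201040300) (nat_lit 2054))
 (.leaf (nat_lit 0x705060203040001) (nat_lit 2310))
))) (.node (nat_lit 0x705060400010203) (.node (nat_lit 0x705060304010200) (.leaf (nat_lit 0x705060304000102) (nat_lit 2822))
 (.node (nat_lit 0x705060304020001) (.leaf (nat_lit 0x705060304010200) (nat_lit 3078))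
 (.leaf (nat_lit 0x705060304020001) (nat_lit 3078))
)) (.node (nat_lit 0x705060402030001) (.node (nat_lit 0x705060401000302) (.leaf (nat_lit 0x705060400010203) (nat_lit 3078))
 (.leaf (nat_lit 0x705060401000302) (nat_lit 2822))
) (.node (nat_lit 0x706000102030405) (.leaf (nat_lit 0x705060402030001) (nat_lit 2566))
 (.leaf (nat_lit 0x706000102030405) (nat_lit 2309))
)))) (.node (nat_lit 0x706020304050001) (.node (nat_lit 0x706010200040503) (.node (nat_lit 0x706000304010205) (.leaf (nat_lit 0x706000201040305) (nat_lit 2053))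
 (.node (nat_lit 0x706010002030504) (.leaf (nat_lit 0x706000304010205) (nat_lit 2565))
 (.leaf (nat_lit 0x706010002030504) (nat_lit 2053))
)) (.node (nat_lit 0x706020001050304) (.node (nat_lit 0x706010304000502) (.leaf (nat_lit 0x706010200040503) (nat_lit 1797))
 (.leaf (nat_lit 0x706010304000502) (nat_lit 2309))
) (.node (nat_lit 0x706020100050403) (.leaf (nat_lit 0x706020001050304) (nat_lit 1797))
 (.leaf (nat_lit 0x706020100050403) (nat_lit 1541))
))) (.node (nat_lit 0x706030205040001) (.node (nat_lit 0x706030005010204) (.leaf (nat_lit 0x706020304050001) (nat_lit 2053))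
 (.node (nat_lit 0x706030105000402) (.leaf (nat_lit 0x706030005010204) (nat_lit 2821))
 (.leaf (nat_lit 0x706030105000402) (nat_lit 2565))
)) (.node (nat_lit 0x706040501000302) (.node (nat_lit 0x706040500010203) (.leaf (nat_lit 0x706030205040001) (nat_lit 2309))
 (.leaf (nat_lit 0x706040500010203) (nat_lit 3077))
) (.node (nat_lit 0x706040502030001) (.leaf (nat_lit 0x706040501000302) (nat_lit 2821))
 (.leaf (nat_lit 0x706040502030001) (nat_lit 2565))
)))))))))

theorem clR_ok : orbOK A8.P8 [(nat_lit 0x706050403010200), (nat_lit 0x706050403020001), (nat_lit 0x706050400020103), (nat_lit 0x706050304020100), (nat_lit 0x706040503020100), (nat_lit 0x705060403020100), (nat_lit 0x607050403020100)] (nat_lit 0x201000403070605) clR_t (nat_lit 420) = true := by decide +kernel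

noncomputable def clS_t : ST :=
(.node (nat_lit 0x302010007060504) (.node (nat_lit 0x104030605000702) (.node (nat_lit 0x5060201040307) (.node (nat_lit 0x3010206040507) (.node (nat_lit 0x2010304060507) (.node (nat_lit 0x1030205040607) (.leaf (nat_lit 0x1020304050607) (nat_lit 768))
 (.node (nat_lit 0x1040502030607) (.leaf (nat_lit 0x1030205040607) (nat_lit 1028))
 (.leaf (nat_lit 0x1040502030607) (nat_lit 1283))
)) (.node (nat_lit 0x2030105060407) (.leaf (nat_lit 0x2010304060507) (nat_lit 513))
 (.node (nat_lit 0x2040501060307) (.leaf (nat_lit 0x2030105060407) (nat_lit 772))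
 (.leaf (nat_lit 0x2040501060307) (nat_lit 1027))
))) (.node (nat_lit 0x4010602030507) (.node (nat_lit 0x3020106050407) (.leaf (nat_lit 0x3010206040507) (nat_lit 1285))
 (.node (nat_lit 0x3040506010207) (.leaf (nat_lit 0x3020106050407) (nat_lit 1029))
 (.leaf (nat_lit 0x3040506010207) (nat_lit 1537))
)) (.node (nat_lit 0x4030605010207) (.node (nat_lit 0x4020601050307) (.leaf (nat_lit 0x4010602030507) (nat_lit 1541))
 (.leaf (nat_lit 0x4020601050307) (nat_lit 1285))
) (.node (nat_lit 0x5060102030407) (.leaf (nat_lit 0x4030605010207) (nat_lit 1793))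
 (.leaf (nat_lit 0x5060102030407) (nat_lit 1796))
)))) (.node (nat_lit 0x102030005060704) (.node (nat_lit 0x100030205040706) (.node (nat_lit 0x5060304010207) (.leaf (nat_lit 0x5060201040307) (nat_lit 1540))
 (.node (nat_lit 0x100020304050706) (.leaf (nat_lit 0x5060304010207) (nat_lit 2049))
 (.leaf (nat_lit 0x100020304050706) (nat_lit 517))
)) (.node (nat_lit 0x100040502030706) (.leaf (nat_lit 0x100030205040706) (nat_lit 772))
 (.node (nat_lit 0x102000304060705) (.leaf (nat_lit 0x100040502030706) (nat_lit 1027))
 (.leaf (nat_lit 0x102000304060705) (nat_lit 256))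
))) (.node (nat_lit 0x103020006050704) (.node (nat_lit 0x102040500060703) (.leaf (nat_lit 0x102030005060704) (nat_lit 514))
 (.node (nat_lit 0x103000206040705) (.leaf (nat_lit 0x102040500060703) (nat_lit 771))
 (.leaf (nat_lit 0x103000206040705) (nat_lit 1028))
)) (.node (nat_lit 0x104000602030705) (.node (nat_lit 0x103040506000702) (.leaf (nat_lit 0x103020006050704) (nat_lit 773))
 (.leaf (nat_lit 0x103040506000702) (nat_lit 1282))
) (.node (nat_lit 0x104020600050703) (.leaf (nat_lit 0x104000602030705) (nat_lit 1283))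
 (.leaf (nat_lit 0x104020600050703) (nat_lit 1029))
))))) (.node (nat_lit 0x204000601070305) (.node (nat_lit 0x200040501070306) (.node (nat_lit 0x105060304000702) (.node (nat_lit 0x105060002030704) (.leaf (nat_lit 0x104030605000702) (nat_lit 1538))
 (.node (nat_lit 0x105060200040703) (.leaf (nat_lit 0x105060002030704) (nat_lit 1539))
 (.leaf (nat_lit 0x105060200040703) (nat_lit 1284))
)) (.node (nat_lit 0x200010304070506) (.leaf (nat_lit 0x105060304000702) (nat_lit 1794))
 (.node (nat_lit 0x200030105070406) (.leaf (nat_lit 0x200010304070506) (nat_lit 257))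
 (.leaf (nat_lit 0x200030105070406) (nat_lit 516))
))) (.node (nat_lit 0x201040500070603) (.node (nat_lit 0x201000304070605) (.leaf (nat_lit 0x200040501070306) (nat_lit 771))
 (.node (nat_lit 0x201030005070604) (.leaf (nat_lit 0x201000304070605) (nat_lit 0))
 (.leaf (nat_lit 0x201030005070604) (nat_lit 258))
)) (.node (nat_lit 0x203010006070504) (.node (nat_lit 0x203000106070405) (.leaf (nat_lit 0x201040500070603) (nat_lit 515))
 (.leaf (nat_lit 0x203000106070405) (nat_lit 769))
) (.node (nat_lit 0x203040506070001) (.leaf (nat_lit 0x203010006070504) (nat_lit 514))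
 (.leaf (nat_lit 0x203040506070001) (nat_lit 1026))
)))) (.node (nat_lit 0x300010207040506) (.node (nat_lit 0x205060001070304) (.node (nat_lit 0x204010600070503) (.leaf (nat_lit 0x204000601070305) (nat_lit 1027))
 (.node (nat_lit 0x204030605070001) (.leaf (nat_lit 0x204010600070503) (nat_lit 771))
 (.leaf (nat_lit 0x204030605070001) (nat_lit 1282))
)) (.node (nat_lit 0x205060100070403) (.leaf (nat_lit 0x205060001070304) (nat_lit 1284))
 (.node (nat_lit 0x205060304070001) (.leaf (nat_lit 0x205060100070403) (nat_lit 1028))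
 (.leaf (nat_lit 0x205060304070001) (nat_lit 1540))
))) (.node (nat_lit 0x301000207040605) (.node (nat_lit 0x300020107050406) (.leaf (nat_lit 0x300010207040506) (nat_lit 1536))
 (.node (nat_lit 0x300040507010206) (.leaf (nat_lit 0x300020107050406) (nat_lit 1281))
 (.leaf (nat_lit 0x300040507010206) (nat_lit 1793))
)) (.node (nat_lit 0x301040507000602) (.node (nat_lit 0x301020007050604) (.leaf (nat_lit 0x301000207040605) (nat_lit 1284))
 (.leaf (nat_lit 0x301020007050604) (nat_lit 1026))
) (.node (nat_lit 0x302000107060405) (.leaf (nat_lit 0x301040507000602) (nat_lit 1538))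
 (.leaf (nat_lit 0x302000107060405) (nat_lit 1025))
)))))) (.node (nat_lit 0x501070002030604) (.node (nat_lit 0x401030705000602) (.node (nat_lit 0x305060107000402) (.node (nat_lit 0x304010607000502) (.node (nat_lit 0x302040507060001) (.leaf (nat_lit 0x302010007060504) (nat_lit 770))
 (.node (nat_lit 0x304000607010205) (.leaf (nat_lit 0x302040507060001) (nat_lit 1282))
 (.leaf (nat_lit 0x304000607010205) (nat_lit 2053))
)) (.node (nat_lit 0x304020607050001) (.leaf (nat_lit 0x304010607000502) (nat_lit 1797))
 (.node (nat_lit 0x305060007010204) (.leaf (nat_lit 0x304020607050001) (nat_lit 1541))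
 (.leaf (nat_lit 0x305060007010204) (nat_lit 2308))
))) (.node (nat_lit 0x400020701050306) (.node (nat_lit 0x305060207040001) (.leaf (nat_lit 0x305060107000402) (nat_lit 2052))
 (.node (nat_lit 0x400010702030506) (.leaf (nat_lit 0x305060207040001) (nat_lit 1796))
 (.leaf (nat_lit 0x400010702030506) (nat_lit 1795))
)) (.node (nat_lit 0x401000702030605) (.node (nat_lit 0x400030705010206) (.leaf (nat_lit 0x400020701050306) (nat_lit 1539))
 (.leaf (nat_lit 0x400030705010206) (nat_lit 2049))
) (.node (nat_lit 0x401020700050603) (.leaf (nat_lit 0x401000702030605) (nat_lit 1539))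
 (.leaf (nat_lit 0x401020700050603) (nat_lit 1283))
)))) (.node (nat_lit 0x403020706050001) (.node (nat_lit 0x402030705060001) (.node (nat_lit 0x402000701060305) (.leaf (nat_lit 0x401030705000602) (nat_lit 1794))
 (.node (nat_lit 0x402010700060503) (.leaf (nat_lit 0x402000701060305) (nat_lit 1283))
 (.leaf (nat_lit 0x402010700060503) (nat_lit 1027))
)) (.node (nat_lit 0x403000706010205) (.leaf (nat_lit 0x402030705060001) (nat_lit 1538))
 (.node (nat_lit 0x403010706000502) (.leaf (nat_lit 0x403000706010205) (nat_lit 2305))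
 (.leaf (nat_lit 0x403010706000502) (nat_lit 2050))
))) (.node (nat_lit 0x405060702030001) (.node (nat_lit 0x405060700010203) (.leaf (nat_lit 0x403020706050001) (nat_lit 1794))
 (.node (nat_lit 0x405060701000302) (.leaf (nat_lit 0x405060700010203) (nat_lit 2563))
 (.leaf (nat_lit 0x405060701000302) (nat_lit 2307))
)) (.node (nat_lit 0x500070201040306) (.node (nat_lit 0x500070102030406) (.leaf (nat_lit 0x405060702030001) (nat_lit 2051))
 (.leaf (nat_lit 0x500070102030406) (nat_lit 2052))
) (.node (nat_lit 0x500070304010206) (.leaf (nat_lit 0x500070201040306) (nat_lit 1796))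
 (.leaf (nat_lit 0x500070304010206) (nat_lit 2305))
))))) (.node (nat_lit 0x607000201040305) (.node (nat_lit 0x503070006010204) (.node (nat_lit 0x502070001060304) (.node (nat_lit 0x501070200040603) (.leaf (nat_lit 0x501070002030604) (nat_lit 1795))
 (.node (nat_lit 0x501070304000602) (.leaf (nat_lit 0x501070200040603) (nat_lit 1540))
 (.leaf (nat_lit 0x501070304000602) (nat_lit 2050))
)) (.node (nat_lit 0x502070100060403) (.leaf (nat_lit 0x502070001060304) (nat_lit 1540))
 (.node (nat_lit 0x502070304060001) (.leaf (nat_lit 0x502070100060403) (nat_lit 1284))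
 (.leaf (nat_lit 0x502070304060001) (nat_lit 1796))
))) (.node (nat_lit 0x504070600010203) (.node (nat_lit 0x503070106000402) (.leaf (nat_lit 0x503070006010204) (nat_lit 2564))
 (.node (nat_lit 0x503070206040001) (.leaf (nat_lit 0x503070106000402) (nat_lit 2308))
 (.leaf (nat_lit 0x503070206040001) (nat_lit 2052))
)) (.node (nat_lit 0x504070602030001) (.node (nat_lit 0x504070601000302) (.leaf (nat_lit 0x504070600010203) (nat_lit 2819))
 (.leaf (nat_lit 0x504070601000302) (nat_lit 2563))
) (.node (nat_lit 0x607000102030405) (.leaf (nat_lit 0x504070602030001) (nat_lit 2307))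
 (.leaf (nat_lit 0x607000102030405) (nat_lit 2309))
)))) (.node (nat_lit 0x607020304050001) (.node (nat_lit 0x607010200040503) (.node (nat_lit 0x607000304010205) (.leaf (nat_lit 0x607000201040305) (nat_lit 2053))
 (.node (nat_lit 0x607010002030504) (.leaf (nat_lit 0x607000304010205) (nat_lit 2565))
 (.leaf (nat_lit 0x607010002030504) (nat_lit 2053))
)) (.node (nat_lit 0x607020001050304) (.node (nat_lit 0x607010304000502) (.leaf (nat_lit 0x607010200040503) (nat_lit 1797))
 (.leaf (nat_lit 0x607010304000502) (nat_lit 2309))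
) (.node (nat_lit 0x607020100050403) (.leaf (nat_lit 0x607020001050304) (nat_lit 1797))
 (.leaf (nat_lit 0x607020100050403) (nat_lit 1541))
))) (.node (nat_lit 0x607030205040001) (.node (nat_lit 0x607030005010204) (.leaf (nat_lit 0x607020304050001) (nat_lit 2053))
 (.node (nat_lit 0x607030105000402) (.leaf (nat_lit 0x607030005010204) (nat_lit 2821))
 (.leaf (nat_lit 0x607030105000402) (nat_lit 2565))
)) (.node (nat_lit 0x607040501000302) (.node (nat_lit 0x607040500010203) (.leaf (nat_lit 0x607030205040001) (nat_lit 2309))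
 (.leaf (nat_lit 0x607040500010203) (nat_lit 3077))
) (.node (nat_lit 0x607040502030001) (.leaf (nat_lit 0x607040501000302) (nat_lit 2821))
 (.leaf (nat_lit 0x607040502030001) (nat_lit 2565))
)))))))

theorem clS_ok : orbOK A8.P8 [(nat_lit 0x706050403010200), (nat_lit 0x706050403020001), (nat_lit 0x706050400020103), (nat_lit 0x706050304020100), (nat_lit 0x706040503020100), (nat_lit 0x705060403020100), (nat_lit 0x607050403020100)] (nat_lit 0x201000304070605) clS_t (nat_lit 105) = true := by decide +kernel

end Cfsg.Agent.T16.S8
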