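import Mathlib
import Cfsg.Agent.T16.S8Data
import Cfsg.Agent.T16.A8St

/-!
Groups with a subgroup of order three whose normaliser is `S₃ × S₅`: letters, and facts decided inside the normaliser.
-/

set_option autoImplicit false
set_option synthInstance.maxSize 100000
set_option synthInstance.maxHeartbeats 1000000
set_option linter.unusedSectionVars false

namespace Cfsg.Agent.T16.S8

open Cfsg.Agent.Spor Cfsg.Agent.Rec Cfsg.Agent.Inv.Fz Subgroup Equiv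
open Cfsg.Agent.T16.A8 (P8 P8_ok emb emb_inj)

universe u

variable {G : Type u} [Group G]

/-- Six letters with the codes of generators of `S₃ × S₅`. -/
structure St0 (G : Type u) [Group G] where
  (a0 d1 τ b4 b5 b6 : G)
  C : Cod P8 G
  rep0 : C.RepL cN [a0, d1, τ, b4, b5, b6]

namespace St0

variable (s : St0 G)

/-- The 3-cycle `(567)`. -/
def c2 : G := s.b5 * s.b6
/-- The involution `(34)(56)`. -/
def δ : G := s.τ * s.b5
/-- A 5-cycle. -/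
def f : G := s.τ * s.b4 * s.b5 * s.b6
/-- The involution `(45)(67)`. -/
def x : G := s.b4 * s.b6
/-- The involution `(46)(57)`. -/
def v : G := s.b5 * (s.b4 * s.b6) * s.b5
/-- The involution `(12)`. -/
def x0 : G := s.a0 * s.d1 * s.a0⁻¹
/-- The product of two 3-cycles. -/
def y : G := s.a0 * s.c2
/-- A 3-cycle on `345`. -/
def k4 : G := s.τ * s.b4
/-- The involution `(34)(67)`. -/
def k6 : G := s.τ * s.b6
/-- The involution `(35)(46)`. -/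
def v1 : G := s.τ * s.b4 * s.τ * s.b5 * s.b4 * s.b5

/-- The letters. -/
abbrev e : List G :=
  [s.a0, s.d1, s.τ, s.b4, s.b5, s.b6, s.c2, s.δ, s.f, s.x, s.v, s.x0, s.y, s.k4, s.k6, s.v1]

theorem rep : s.C.RepL cE s.e :=
  s.rep0.append (c' := cE.drop 6) <|
    (s.rep0.term (s.b5 * s.b6) (by decide +kernel)).cons <| (s.rep0.term (s.τ * s.b5) (by decide +kernel)).cons <|
    (s.rep0.term (s.τ * s.b4 * s.b5 * s.b6) (by decide +kernel)).cons <|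
    (s.rep0.term (s.b4 * s.b6) (by decide +kernel)).cons <|
    (s.rep0.term (s.b5 * (s.b4 * s.b6) * s.b5) (by decide +kernel)).cons <|
    (s.rep0.term (s.a0 * s.d1 * s.a0⁻¹) (by decide +kernel)).cons <|
    (s.rep0.term (s.a0 * (s.b5 * s.b6)) (by decide +kernel)).cons <|
    (s.rep0.term (s.τ * s.b4) (by decide +kernel)).cons <| (s.rep0.term (s.τ * s.b6) (by decide +kernel)).cons <|
    (s.rep0.term (s.τ * s.b4 * s.τ * s.b5 * s.b4 * s.b5) (by decide +kernel)).cons Cod.repL_nil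

/-- The group `S₃ × S₅`. -/
def N1 : Subgroup G := clos [s.a0, s.d1, s.τ, s.b4, s.b5, s.b6]
/-- The group `A₅`. -/
def K1 : Subgroup G := clos [s.k4, s.δ, s.k6]
/-- The Sylow 3-subgroup. -/
def D : Subgroup G := clos [s.a0, s.c2]
/-- Its centraliser. -/
def E : Subgroup G := clos [s.a0, s.c2, s.τ]
/-- Its normaliser in `N1`. -/
def H0 : Subgroup G := clos [s.a0, s.c2, s.τ, s.d1, s.b5]
/-- A four-group. -/
def U : Subgroup G := clos [s.d1, s.b5]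
/-- The centraliser of `a0` and `δ`. -/
def W : Subgroup G := clos [s.a0, s.τ, s.b5, s.v1]

theorem gN : s.C.Lists N1_t.dom s.N1 ∧ Nat.card s.N1 = 720 := s.rep0.gen N1_ok
theorem gK1 : s.C.Lists K1_t.dom s.K1 ∧ Nat.card s.K1 = 60 := (s.rep.pick [13, 7, 14]).gen K1_ok
theorem gD : s.C.Lists D_t.dom s.D ∧ Nat.card s.D = 9 := (s.rep.pick [0, 6]).gen D_ok
theorem gE : s.C.Lists E_t.dom s.E ∧ Nat.card s.E = 18 := (s.rep.pick [0, 6, 2]).gen E_ok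
theorem gH0 : s.C.Lists H0_t.dom s.H0 ∧ Nat.card s.H0 = 72 := (s.rep.pick [0, 6, 2, 1, 4]).gen H0_ok
theorem gU : s.C.Lists U_t.dom s.U ∧ Nat.card s.U = 4 := (s.rep.pick [1, 4]).gen U_ok
theorem gW : s.C.Lists W_t.dom s.W ∧ Nat.card s.W = 24 := (s.rep.pick [0, 2, 4, 15]).gen W_ok

theorem hL : s.C.ListsL [N1_t.dom, K1_t.dom, D_t.dom, E_t.dom, H0_t.dom, U_t.dom, W_t.dom]
    [s.N1, s.K1, s.D, s.E, s.H0, s.U, s.W] :=
  s.gN.1.cons <| s.gK1.1.cons <| s.gD.1.cons <| s.gE.1.cons <| s.gH0.1.cons <| s.gU.1.cons <| s.gW.1.cons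
    Cod.listsL_nil

theorem o1 : orderOf s.a0 = 3 := s.hL.decide s.rep (by decide +kernel)
theorem o2 : orderOf s.c2 = 3 := s.hL.decide s.rep (by decide +kernel)
theorem oy : orderOf s.y = 3 := s.hL.decide s.rep (by decide +kernel)
theorem d2 : s.d1 * s.d1 = 1 := s.hL.decide s.rep (by decide +kernel)
theorem τ2 : s.τ * s.τ = 1 := s.hL.decide s.rep (by decide +kernel)
theorem δ2 : s.δ * s.δ = 1 := s.hL.decide s.rep (by decide +kernel)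
theorem τ1 : s.τ ≠ 1 := s.hL.decide s.rep (by decide +kernel)
theorem a0D : s.a0 ∈ s.D := mem_clos (by simp)
theorem c2D : s.c2 ∈ s.D := mem_clos (by simp)
theorem yD : s.y ∈ s.D := mul_mem s.a0D s.c2D
theorem τE : s.τ ∈ s.E := mem_clos (by simp)
theorem le : s.D ≤ s.E ∧ s.E ≤ s.H0 ∧ s.U ≤ s.H0 ∧ s.H0 ≤ s.N1 ∧ s.K1 ≤ s.N1 := s.hL.decide s.rep (by decide +kernel)
theorem ca : s.c2 * s.a0 = s.a0 * s.c2 := s.hL.decide s.rep (by decide +kernel)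
theorem comm : s.f * s.a0 = s.a0 * s.f ∧ s.τ * s.a0 = s.a0 * s.τ ∧ s.τ * s.c2 = s.c2 * s.τ ∧
    s.d1 * s.c2 = s.c2 * s.d1 ∧ s.d1 * s.τ = s.τ * s.d1 ∧ s.d1 * s.a0 * s.d1⁻¹ = s.a0⁻¹ ∧
    s.b5 * s.c2 * s.b5⁻¹ = s.c2⁻¹ ∧ s.a0 * s.δ = s.δ * s.a0 ∧ s.f ^ 144 ≠ 1 := s.hL.decide s.rep (by decide +kernel)

theorem n1 : ∀ z ∈ s.N1, z ^ 3 = 1 → Commute (s.τ * z * s.τ⁻¹) z → Commute (s.b4 * z * s.b4⁻¹) z →
    Commute (s.b5 * z * s.b5⁻¹) z → Commute (s.b6 * z * s.b6⁻¹) z → z = 1 ∨ z = s.a0 ∨ z = s.a0⁻¹ :=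
  s.hL.decide s.rep (by decide +kernel)
theorem n2 : ∀ y ∈ s.N1, y * s.a0 = s.a0 * y → y ^ 3 = 1 → y = 1 ∨ y = s.a0 ∨ y = s.a0⁻¹ ∨
    ∃ n ∈ s.K1, Let (n * y * n⁻¹) fun u => u = s.c2 ∨ u = s.y ∨ s.d1 * u * s.d1⁻¹ = s.y :=
  s.hL.decide s.rep (by decide +kernel)
theorem n3 : ∀ a ∈ s.D, a = 1 ∨ a = s.a0 ∨ a = s.a0⁻¹ ∨ a = s.c2 ∨ a = s.c2⁻¹ ∨ ∃ m ∈ s.U, m * s.y * m⁻¹ = a :=
  s.hL.decide s.rep (by decide +kernel)
theorem n4 : ∀ a ∈ s.D, a ^ 3 = 1 ∧ (a = 1 ∨ orderOf a = 3) ∧ ∀ b ∈ s.E, b * a = a * b :=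
  s.hL.decide s.rep (by decide +kernel)
theorem n5 : ∀ g ∈ s.N1, g * s.y = s.y * g → g ∈ s.E := s.hL.decide s.rep (by decide +kernel)
theorem n6 : ∀ t ∈ s.N1, t * s.a0 = s.a0 * t → t * t = 1 → t * s.c2 * t⁻¹ = s.c2⁻¹ →
    ∃ k ∈ s.D, k * s.d1 = s.d1 * k ∧ Let (k * t * k⁻¹) fun u => u = s.b5 ∨ u = s.δ :=
  s.hL.decide s.rep (by decide +kernel)
theorem n7 : ∀ a ∈ s.E, (a * a = 1 → a = 1 ∨ a = s.τ) ∧ (a ^ 3 = 1 → a ∈ s.D) := s.hL.decide s.rep (by decide +kernel)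
theorem n8 : ∀ g ∈ s.N1, (g * s.c2 * g⁻¹ ∈ s.D → g ∈ s.H0) ∧ (g * s.a0 = s.a0 * g →
    (g * s.τ = s.τ * g → g ∈ s.H0) ∧ (g * s.δ = s.δ * g → g ∈ s.W)) := s.hL.decide s.rep (by decide +kernel)
theorem n9 : ∀ g ∈ s.H0, g * s.τ = s.τ * g ∧ g * s.a0 * g⁻¹ ∈ s.D ∧ g * s.c2 * g⁻¹ ∈ s.D :=
  s.hL.decide s.rep (by decide +kernel)
theorem n10 : ∀ k ∈ s.K1, k * s.a0 = s.a0 * k ∧ k * s.d1 = s.d1 * k := s.hL.decide s.rep (by decide +kernel)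

theorem N1_le : s.N1 ≤ pm s.a0 := by
  have h : (s.a0 * s.a0 * s.a0⁻¹ = s.a0 ∨ s.a0 * s.a0 * s.a0⁻¹ = s.a0⁻¹) ∧
      (s.d1 * s.a0 * s.d1⁻¹ = s.a0 ∨ s.d1 * s.a0 * s.d1⁻¹ = s.a0⁻¹) ∧
      (s.τ * s.a0 * s.τ⁻¹ = s.a0 ∨ s.τ * s.a0 * s.τ⁻¹ = s.a0⁻¹) ∧
      (s.b4 * s.a0 * s.b4⁻¹ = s.a0 ∨ s.b4 * s.a0 * s.b4⁻¹ = s.a0⁻¹) ∧
      (s.b5 * s.a0 * s.b5⁻¹ = s.a0 ∨ s.b5 * s.a0 * s.b5⁻¹ = s.a0⁻¹) ∧
      (s.b6 * s.a0 * s.b6⁻¹ = s.a0 ∨ s.b6 * s.a0 * s.b6⁻¹ = s.a0⁻¹) := s.hL.decide s.rep (by decide +kernel)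
  exact clos_le.2 (by simpa only [List.forall_mem_cons, mem_pm, List.not_mem_nil, false_imp_iff, implies_true,
    and_true] using h)

end St0

/-- Generators. -/
def gens : List (Perm (Fin 3) × Perm (Fin 5)) :=
  [(swap 0 1 * swap 1 2, 1), (swap 0 1, 1), (1, swap 0 1), (1, swap 1 2), (1, swap 2 3), (1, swap 3 4)]

theorem rep_gens : (permCod P8_ok).RepL cN (gens.map emb) :=
  (rep_pcode P8_ok _ (by decide +kernel)).cons <| (rep_pcode P8_ok _ (by decide +kernel)).cons <|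
    (rep_pcode P8_ok _ (by decide +kernel)).cons <| (rep_pcode P8_ok _ (by decide +kernel)).cons <|
    (rep_pcode P8_ok _ (by decide +kernel)).cons <| (rep_pcode P8_ok _ (by decide +kernel)).cons Cod.repL_nil

theorem clos_gens : clos (gens.map emb) = emb.range := by
  refine eq_of_le_of_card_ge (map_clos emb gens ▸ map_le_range _ _) ?_
  rw [(rep_gens.gen N1_ok).2, ← Nat.card_congr (MonoidHom.ofInjective emb_inj).toEquiv, Nat.card_prod, Nat.card_perm,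
    Nat.card_perm]
  simp [Nat.factorial]

theorem exists_St0 {H : Subgroup G} (e : H ≃* Perm (Fin 3) × Perm (Fin 5)) : ∃ s : St0 G, s.N1 = H := by
  obtain ⟨C, l, h1, h2⟩ := rep_gens.transport
    (((MulEquiv.subgroupCongr clos_gens).trans (MonoidHom.ofInjective emb_inj).symm).trans e.symm)
  have h3 := h1.unique (h1.pick [0, 1, 2, 3, 4, 5])
  rw [h3] at h1 h2
  exact ⟨⟨_, _, _, _, _, _, C, h1⟩, h2⟩

end Cfsg.Agent.T16.S8
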