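import Mathlib
import Cfsg.Agent.T16.S8Base
import Cfsg.Agent.T16.Kit3
import Cfsg.Agent.Spor.ESBasic

/-!
Groups with a subgroup of order three whose normaliser is `S₃ × S₅`: the configuration given by the hypotheses.
-/

set_option autoImplicit false
set_option synthInstance.maxSize 100000
set_option synthInstance.maxHeartbeats 1000000
set_option linter.unusedSectionVars false

namespace Cfsg.Agent.T16.S8

open Cfsg.Agent.Spor Cfsg.Agent.Rec Cfsg.Agent.Inv.Fz Subgroup Equiv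
open Cfsg.Agent.T16.A8 (P8 P8_ok cjm cjc cjs cjcomm cj_inv2 pm_le_normalizer pow_card_cen)
open scoped commutatorElement

universe u

variable {G : Type u} [Group G] [Finite G]

theorem card_cen_conj (g a : G) :
    Nat.card (centralizer ({g * a * g⁻¹} : Set G)) = Nat.card (centralizer ({a} : Set G)) := by
  rw [← cj_centralizer_singleton, card_cj]

theorem norm_two {E L : Subgroup G} {n : ℕ} (hE : Nat.card E = n) (hL : Nat.card L = 2 * n) (h : E ≤ L) :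
    L ≤ normalizer (E : Set G) := by
  have h1 := card_mul_relIndex h
  have h0 : 0 < n := hE ▸ Nat.card_pos
  rw [hE, hL, mul_comm 2] at h1
  exact (normal_subgroupOf_iff_le_normalizer h).1 (normal_of_index_eq_two (Nat.eq_of_mul_eq_mul_left h0 h1))

/-- The centraliser of `z` lies in `M` if a good involution is isolated in it modulo `z`. -/
theorem cen_le_of_good {M : Subgroup G} {t z : G} (ht : Good M t) (t2 : t * t = 1) (hz : z ∈ M) (z2 : z * z = 1)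
    (htz : t * z = z * t) (hiso : ∀ g ∈ M, g * z = z * g → g * t * g⁻¹ = t ∨ g * t * g⁻¹ = z * t)
    (hO : ∀ O : Subgroup G, O ≤ centralizer {z} → centralizer {z} ≤ normalizer (O : Set G) → Odd (Nat.card O) →
      O = ⊥) : centralizer {z} ≤ M := fun g hg => by
  have p : ∀ a : G, a * a = 1 → IsPGroup 2 (zpowers a) := fun a ha => by
    rintro ⟨b, hb⟩
    exact ⟨1, Subtype.ext (by rcases (mem_zpowers_iff_of_sq ha).1 hb with rfl | rfl <;> simp [pow_two, ha])⟩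
  obtain ⟨R, hR, h1⟩ := exists_isSylIn (p := 2) (Q := zpowers z ⊔ zpowers t) (H := centralizer {z} ⊓ M)
    ((p z z2).to_sup_of_normal_left' (p t t2) (zpowers_le.2 (pm_le_normalizer z (mem_pm_of_comm htz))))
    (sup_le (zpowers_le.2 ⟨mem_cen.2 rfl, hz⟩) (zpowers_le.2 ⟨mem_cen.2 htz, ht.mem⟩))
  have tR : t ∈ R := h1 (mem_sup_right (mem_zpowers t))
  have hR' : IsSylIn 2 R (centralizer {z}) := isSylIn_of_normalizer hR (hR.le.trans inf_le_left) fun g hg hn =>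
    ⟨hg, ht.of_conj (hR.le (conj_mem_of_mem_norm hn tR)).2⟩
  have h := zstar_mod hR' (Z := zpowers z) (le_sup_left.trans h1)
    (fun g hg a ha => by rcases (mem_zpowers_iff_of_sq z2).1 ha with rfl | rfl <;> simp [mem_cen.1 hg]) tR
    (fun g hg h => by rcases hiso g (ht.of_conj (hR.le h).2) (mem_cen.1 hg) with e | e <;> simp [e]) hO g hg
  exact ht.of_conj ((mul_mem_cancel_right (inv_mem ht.mem)).1 (zpowers_le.2 hz h))

namespace St0

variable (s : St0 G)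

/-- `a0` is not conjugate to an element with a centraliser of order thirty-six. -/
theorem not_conj36 {a : G} (ha : Nat.card (centralizer ({a} : Set G)) = 36) (g : G) : g * s.a0 * g⁻¹ ≠ a := by
  rintro rfl
  have := pow_card_cen ha (cjcomm (g := g) s.comm.1)
  rw [conj_pow, conj_eq_one] at this
  exact s.comm.2.2.2.2.2.2.2.2 (by rw [show 144 = 36 * 4 from rfl, pow_mul, this, one_pow])

theorem E_le_cen {a : G} (ha : a ∈ s.D) : s.E ≤ centralizer {a} := fun b hb => mem_cen.2 ((s.n4 a ha).2.2 b hb)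

theorem H0_D : s.H0 ≤ normalizer (s.D : Set G) := fun g hg => mem_normalizer_of_conj_mem (conj_clos_mem (by
  simp only [List.forall_mem_cons]
  exact ⟨(s.n9 g hg).2.1, (s.n9 g hg).2.2, by simp⟩))

theorem E_eq : s.D ⊔ zpowers s.τ = s.E :=
  le_antisymm (sup_le s.le.1 (zpowers_le.2 s.τE)) (clos_le.2 (by
    simp only [List.forall_mem_cons]
    exact ⟨mem_sup_left s.a0D, mem_sup_left s.c2D, mem_sup_right (mem_zpowers _), by simp⟩))

theorem normE {g : G} (h : g ∈ normalizer (s.D : Set G)) (h' : g * s.τ = s.τ * g) : g ∈ normalizer (s.E : Set G) :=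
  cj_eq_iff.1 (by rw [← s.E_eq, cj_sup, cj_eq_iff.2 h, cj_zpowers, mul_inv_eq_iff_eq_mul.2 h'])

theorem normD {g : G} (h : g ∈ normalizer (s.E : Set G)) : g ∈ normalizer (s.D : Set G) :=
  mem_normalizer_of_conj_mem fun a ha => (s.n7 _ (conj_mem_of_mem_norm h (s.le.1 ha))).2 (by
    rw [conj_pow, (s.n4 a ha).1]; group)

theorem not_c2 (hN : ∀ g ∈ pm s.a0, g ∈ s.N1) (h144 : Nat.card (normalizer (s.D : Set G)) = 144) :
    Nat.card (centralizer ({s.c2} : Set G)) ≠ 36 := fun h36 => by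
  have h1 : ∃ g ∈ normalizer (s.D : Set G), g ∉ s.N1 := by
    by_contra h
    push Not at h
    have h3 := card_le_of_le (fun g hg => (s.n8 g (h g hg)).1 (conj_mem_of_mem_norm hg s.c2D) :
      normalizer (s.D : Set G) ≤ s.H0)
    rw [s.gH0.2] at h3
    omega
  obtain ⟨g, hg, hg1⟩ := h1
  have hU := s.le.2.2.1.trans s.H0_D
  have h2 : ∃ g ∈ normalizer (s.D : Set G), g * s.a0 * g⁻¹ = s.y := by
    rcases s.n3 _ (conj_mem_of_mem_norm hg s.a0D) with h | h | h | h | h | ⟨m, hm, h⟩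
    · exact absurd (conj_eq_one.1 h) (fun e => by simpa [e] using s.o1)
    · exact absurd (hN g (.inl h)) hg1
    · exact absurd (hN g (.inr h)) hg1
    · exact absurd h (s.not_conj36 h36 _)
    · exact absurd ((cjc h).trans (cjs s.comm.2.2.2.2.2.2.1)) (s.not_conj36 h36 _)
    · exact ⟨m⁻¹ * g, mul_mem (inv_mem (hU hm)) hg, (cjc rfl).trans (cjs h)⟩
  obtain ⟨g, hg, h2⟩ := h2
  have gK : s.C.Lists K_t.dom (clos [s.a0, s.c2, s.τ, s.b5]) ∧ Nat.card (clos [s.a0, s.c2, s.τ, s.b5]) = 36 :=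
    (s.rep.pick [0, 6, 2, 4]).gen K_ok
  have h3 : {x | x ∈ clos [s.a0, s.c2] ∧ (x ≠ 1 ∧ x ≠ s.c2 ∧ x ≠ s.c2⁻¹)}.ncard = 6 :=
    s.hL.count s.rep (s.rep.pick [0, 6]) D_ok (fun x => x ≠ 1 ∧ x ≠ s.c2 ∧ x ≠ s.c2⁻¹) (by decide +kernel)
  have hz : ∀ k ∈ clos [s.a0, s.c2, s.τ, s.b5], k ∈ s.H0 ∧ k * s.a0 = s.a0 * k :=
    (gK.1.cons s.hL).decide s.rep (by decide +kernel)
  have h4 := mul_card_le_of_conj (K := clos [s.a0, s.c2, s.τ, s.b5]) (L := normalizer (s.D : Set G)) (z := s.a0)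
    (S := {x | x ∈ clos [s.a0, s.c2] ∧ (x ≠ 1 ∧ x ≠ s.c2 ∧ x ≠ s.c2⁻¹)}) (fun k hk => s.H0_D (hz k hk).1)
    (fun k hk => (hz k hk).2) (by
      rintro a ⟨ha, h1, h2', h3⟩
      rcases s.n3 a ha with rfl | rfl | rfl | rfl | rfl | ⟨m, hm, rfl⟩
      · exact absurd rfl h1
      · exact ⟨1, one_mem _, by group⟩
      · exact ⟨_, hU (mem_clos (by simp)), s.comm.2.2.2.2.2.1⟩
      · exact absurd rfl h2'
      · exact absurd rfl h3
      · exact ⟨m * g, mul_mem (hU hm) hg, cjc h2⟩)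
  rw [h3, gK.2, h144] at h4
  omega

end St0

/-- The configuration: `N1` is the normaliser of `⟨a0⟩`, and `σ` swaps `a0` with `c2`. -/
structure St (G : Type u) [Group G] extends St0 G where
  σ : G
  hN : ∀ g ∈ pm a0, g ∈ toSt0.N1
  s2 : σ * σ = 1
  sc : σ * a0 * σ⁻¹ = toSt0.c2
  hy : Nat.card (centralizer ({toSt0.y} : Set G)) = 36

theorem St0.exists_St (s : St0 G) (hN : ∀ g ∈ pm s.a0, g ∈ s.N1) (hy : Nat.card (centralizer ({s.y} : Set G)) = 36)
    {σ : G} (s2 : σ * σ = 1) (hσ : σ * s.y = s.y * σ) (h2 : σ ∉ s.N1) : ∃ s' : St G, s'.toSt0 = s ∧ ∃ k ∈ s.D,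
      s'.σ = k * σ * k⁻¹ ∧ (s'.σ * s.d1 * s'.σ⁻¹ = s.b5 ∨ s'.σ * s.d1 * s'.σ⁻¹ = s.δ) := by
  have h1 := s.normD (norm_two s.gE.2 hy (s.E_le_cen s.yD) (mem_cen.2 hσ))
  have sc : σ * s.a0 * σ⁻¹ = s.c2 := by
    rcases s.n3 _ (conj_mem_of_mem_norm h1 s.a0D) with h | h | h | h | h | ⟨m, hm, h⟩
    · exact absurd (conj_eq_one.1 h) (fun e => by simpa [e] using s.o1)
    · exact absurd (hN σ (.inl h)) h2
    · exact absurd (hN σ (.inr h)) h2
    · exact h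
    · have h3 := mul_inv_eq_iff_eq_mul.2 hσ
      have h4 : σ * s.c2 * σ⁻¹ = s.a0⁻¹ := by
        have := cj_inv2 s2 h
        rw [← this]; group
      rw [St0.y, cjm, h, h4] at h3
      have h5 : s.c2⁻¹ * s.a0⁻¹ ≠ s.a0 * s.c2 := s.hL.decide s.rep (by decide +kernel)
      exact absurd h3 h5
    · exact absurd ((cjc rfl).trans (cjs h)) (s.not_conj36 hy _)
  have sc' := cj_inv2 s2 sc
  have t1 : σ * s.d1 * σ⁻¹ * s.c2 * (σ * s.d1 * σ⁻¹)⁻¹ = s.c2⁻¹ := by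
    rw [← sc]
    calc _ = σ * (s.d1 * s.a0 * s.d1⁻¹) * σ⁻¹ := by group
      _ = _ := by rw [s.comm.2.2.2.2.2.1]; group
  have t2 : σ * s.d1 * σ⁻¹ * s.a0 = s.a0 * (σ * s.d1 * σ⁻¹) := by
    rw [← sc']; exact cjcomm s.comm.2.2.2.1
  obtain ⟨k, hk, k3, k4⟩ := s.n6 _ (hN _ (mem_pm_of_comm t2)) t2 (conj_sq s.d2) t1
  have k1 := (s.n4 _ s.a0D).2.2 k (s.le.1 hk)
  have k2 := (s.n4 _ s.c2D).2.2 k (s.le.1 hk)
  refine ⟨⟨s, k * σ * k⁻¹, hN, conj_sq s2,
    by rw [cjc (cjs (mul_inv_eq_iff_eq_mul.2 k1)), cjc sc, mul_inv_eq_iff_eq_mul.2 k2], hy⟩, rfl, k, hk, rfl, ?_⟩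
  rwa [cjc (cjs (mul_inv_eq_iff_eq_mul.2 k3)), cjc rfl]

theorem exists_pre {y z : G} (z3 : z ^ 3 = 1) (z1 : z ≠ 1) (y3 : y ^ 3 = 1) (hyz : y * z = z * y)
    (hne : y ∉ zpowers z) (eL : normalizer (zpowers z : Set G) ≃* Perm (Fin 3) × Perm (Fin 5)) :
    ∃ s : St0 G, (∀ g ∈ pm s.a0, g ∈ s.N1) ∧ (z = s.a0 ∨ z = s.a0⁻¹) ∧ normalizer (zpowers z : Set G) = s.N1 ∧
      ∃ n ∈ s.N1, (n * y * n⁻¹ = s.y ∨ (n * s.a0 = s.a0 * n ∧ n * y * n⁻¹ = s.c2)) := by
  obtain ⟨s, hs⟩ := exists_St0 eL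
  have hc : ∀ g ∈ s.N1, Commute (g * z * g⁻¹) z := fun g hg => by
    obtain ⟨n, hn⟩ := conj_mem_of_mem_norm (hs ▸ hg : g ∈ normalizer (zpowers z : Set G)) (mem_zpowers z)
    rw [← hn]
    exact (Commute.refl z).zpow_left n
  have hz : z = s.a0 ∨ z = s.a0⁻¹ :=
    (s.n1 z (hs ▸ le_normalizer (mem_zpowers z)) z3 (hc _ (mem_clos (by simp)))
      (hc _ (mem_clos (by simp))) (hc _ (mem_clos (by simp))) (hc _ (mem_clos (by simp)))).resolve_left z1
  have hz' : zpowers z = zpowers s.a0 := by rcases hz with rfl | rfl <;> simp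
  have hN : ∀ g ∈ pm s.a0, g ∈ s.N1 := fun g hg => by rw [hs, hz']; exact pm_le_normalizer _ hg
  have hy0 : y * s.a0 = s.a0 * y := by
    rcases hz with rfl | h
    · exact hyz
    · rw [← inv_inv s.a0, ← h]; exact (Commute.inv_right hyz).eq
  rw [hz'] at hne
  refine ⟨s, hN, hz, hs.symm, ?_⟩
  rcases s.n2 y (hN y (mem_pm_of_comm hy0)) hy0 y3 with h | h | h | ⟨n, hn, h | h | h⟩
  · exact absurd (h ▸ one_mem _) hne
  · exact absurd (h ▸ mem_zpowers _) hne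
  · exact absurd (h ▸ inv_mem (mem_zpowers _)) hne
  · exact ⟨n, s.le.2.2.2.2 hn, .inr ⟨(s.n10 n hn).1, h⟩⟩
  · exact ⟨n, s.le.2.2.2.2 hn, .inl h⟩
  · exact ⟨s.d1 * n, mul_mem (mem_clos (by simp)) (s.le.2.2.2.2 hn), .inl ((cjc rfl).trans h)⟩

theorem exists_St {D : Subgroup G} {y z : G} (hgen : closure {y, z} = D) (hcomm : IsMulCommutative D)
    (hcard : Nat.card D = 9) (hexp : ∀ a ∈ D, a ^ 3 = 1) (h144 : Nat.card (normalizer (D : Set G)) = 144)
    (hy : Nat.card (centralizer ({y} : Set G)) = 36) (hysq : ∀ g ∈ centralizer ({y} : Set G), g ^ 2 ∈ D)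
    (eL : normalizer (zpowers z : Set G) ≃* Perm (Fin 3) × Perm (Fin 5)) :
    ∃ s : St G, s.σ * s.d1 * s.σ⁻¹ = s.b5 ∨ s.σ * s.d1 * s.σ⁻¹ = s.δ := by
  have hyD : y ∈ D := hgen ▸ subset_closure (by simp)
  have hzD : z ∈ D := hgen ▸ subset_closure (by simp)
  have hyz : y * z = z * y := congrArg Subtype.val (hcomm.is_comm.comm ⟨y, hyD⟩ ⟨z, hzD⟩)
  have small : ∀ c : G, c ^ 3 = 1 → y ∈ zpowers c → z ∈ zpowers c → False := fun c h1 h2 h3 => by
    have h4 : D ≤ zpowers c := hgen ▸ (closure_le _).2 (by simp [Set.insert_subset_iff, h2, h3])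
    have h5 := card_le_of_le h4
    rw [Nat.card_zpowers, hcard] at h5
    have := Nat.le_of_dvd (by norm_num) (orderOf_dvd_of_pow_eq_one h1)
    omega
  obtain ⟨s, hN, hz, -, n, hn, h | ⟨hn', h⟩⟩ := exists_pre (hexp z hzD)
    (fun h => small y (hexp y hyD) (mem_zpowers y) (h ▸ one_mem _)) (hexp y hyD) hyz
    (fun h => small z (hexp z hzD) h (mem_zpowers z)) eL
  · have h36 : Nat.card (centralizer ({s.y} : Set G)) = 36 := by rw [← h, card_cen_conj, hy]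
    obtain ⟨g, hg, hg1⟩ : ∃ g ∈ centralizer ({s.y} : Set G), g ∉ s.N1 := by
      by_contra h'
      push Not at h'
      have := card_le_of_le (fun g hg => s.n5 g (h' g hg) (mem_cen.1 hg) : centralizer {s.y} ≤ s.E)
      rw [s.gE.2] at this
      omega
    have g6 : (g ^ 2) ^ 3 = 1 := by
      have := hexp _ (hysq (n⁻¹ * g * n⁻¹⁻¹) (mem_cen.2 (cjs h ▸ cjcomm (mem_cen.1 hg))))
      rwa [conj_pow, conj_pow, conj_eq_one] at this
    have e2 : g ^ 2 ∈ s.N1 := by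
      have h1 := card_mul_relIndex (s.E_le_cen s.yD)
      rw [s.gE.2, h36] at h1
      rw [pow_two]
      exact s.le.2.2.2.1 (s.le.2.1 (mul_self_mem_of_index_two (H := s.E.subgroupOf (centralizer {s.y}))
        (show s.E.relIndex _ = 2 by omega) ⟨g, hg⟩))
    obtain ⟨s', e, -, -, -, h2⟩ := s.exists_St hN h36 (σ := g ^ 3) (by rw [← pow_add, ← g6, ← pow_mul])
      (mem_cen.1 (pow_mem hg 3)) fun h3 => hg1 ((mul_mem_cancel_left e2).1 (pow_succ g 2 ▸ h3))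
    exact ⟨s', e ▸ h2⟩
  have hD : cj n D = s.D := by
    refine eq_of_le_of_card_ge ?_ (by rw [card_cj, hcard, s.gD.2])
    rw [← hgen, cj_closure, closure_le]
    rintro _ ⟨a, rfl | rfl, rfl⟩
    · simp only [h, SetLike.mem_coe]
      exact s.c2D
    · have h1 : n * s.a0 * n⁻¹ = s.a0 := mul_inv_eq_iff_eq_mul.2 hn'
      rcases hz with h | h <;> simp only [h, SetLike.mem_coe]
      · rw [h1]; exact s.a0D
      · rw [← conj_inv, h1]; exact inv_mem s.a0D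
  exact absurd (by rw [← h, card_cen_conj, hy]) (s.not_c2 hN (by rw [← hD, ← cj_normalizer, card_cj, h144]))

theorem exists_St' {z c t : G} (z3 : orderOf z = 3) (hzc : z * c = c * z) (hne : c ∉ zpowers z) (t2 : t * t = 1)
    (ht : t * z * t⁻¹ = c) (eL : normalizer (zpowers z : Set G) ≃* Perm (Fin 3) × Perm (Fin 5))
    (hy : Nat.card (centralizer ({z * c} : Set G)) = 36)
    (hT : ∀ d : G, d * z * d⁻¹ = z⁻¹ → (∀ k ∈ ⁅centralizer ({z} : Set G), centralizer ({z} : Set G)⁆, Commute d k) →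
      t * d * t⁻¹ ∉ ⁅centralizer ({z} : Set G), centralizer ({z} : Set G)⁆) :
    ∃ s : St G, s.σ * s.d1 * s.σ⁻¹ = s.b5 := by
  have h3 : z ^ 3 = 1 := z3 ▸ pow_orderOf_eq_one z
  obtain ⟨s, hN, hz, hs, n, hn, h⟩ := exists_pre (y := z * c) h3 (fun h => by simp [h] at z3)
    (by rw [Commute.mul_pow hzc, h3, ← ht, conj_pow, h3]; group) (by rw [mul_assoc, ← hzc])
    (fun h => hne ((mul_mem_cancel_left (mem_zpowers z)).1 h)) eL
  have h4 : n * t * n⁻¹ * (n * (z * c) * n⁻¹) = n * (z * c) * n⁻¹ * (n * t * n⁻¹) :=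
    cjcomm (mul_inv_eq_iff_eq_mul.1 (by rw [cjm, ht, cj_inv2 t2 ht, hzc]))
  have h5 : n * t * n⁻¹ ∉ s.N1 := fun h5 => by
    have h5 : t ∈ normalizer (zpowers z : Set G) := by
      rw [hs, ← cjs (rfl : n * t * n⁻¹ = _)]
      exact mul_mem (mul_mem (inv_mem hn) h5) (inv_mem (inv_mem hn))
    exact hne (ht ▸ conj_mem_of_mem_norm h5 (mem_zpowers z))
  have h36 := (card_cen_conj n (z * c)).trans hy
  rcases h with h | ⟨-, h⟩ <;> rw [h] at h4 h36
  swap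
  · have h1 : {g | g ∈ clos [s.a0, s.d1, s.τ, s.b4, s.b5, s.b6] ∧ g * s.c2 = s.c2 * g}.ncard = 36 :=
      s.hL.count s.rep s.rep0 N1_ok (fun g => g * s.c2 = s.c2 * g) (by decide +kernel)
    have h2 := Set.eq_of_subset_of_ncard_le
      (s := {g | g ∈ clos [s.a0, s.d1, s.τ, s.b4, s.b5, s.b6] ∧ g * s.c2 = s.c2 * g})
      (t := (centralizer ({s.c2} : Set G) : Set G)) (fun g hg => mem_cen.2 hg.2) (by rw [h1, ← h36]; rfl)
    have h6 : n * t * n⁻¹ ∈ (centralizer ({s.c2} : Set G) : Set G) := mem_cen.2 h4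
    rw [← h2] at h6
    exact absurd h6.1 h5
  obtain ⟨s', e, k, hk, e1, h2⟩ := s.exists_St hN h36 (conj_sq t2) h4 h5
  refine ⟨s', e ▸ h2.resolve_right fun h2 => ?_⟩
  have hm : (k * n)⁻¹ ∈ s.N1 := inv_mem (mul_mem (s.le.2.2.2.1 (s.le.2.1 (s.le.1 hk))) hn)
  rw [e1, ← cjc rfl] at h2
  generalize k * n = m at h2 hm
  have hC : centralizer ({z} : Set G) = centralizer {s.a0} := by
    rcases hz with rfl | rfl
    · rfl
    · ext g; rw [mem_cen, mem_cen]; exact Commute.inv_right_iff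
  have f1 : ∀ m ∈ s.N1, Let (m * s.d1 * m⁻¹) fun d => d * s.a0 * d⁻¹ = s.a0⁻¹ ∧ (d = s.d1 ∨ d = s.x0 ∨ d = s.a0 * s.d1) ∧
      m * s.τ * m⁻¹ * s.a0 = s.a0 * (m * s.τ * m⁻¹) ∧
      m * (s.v1 * s.τ) * m⁻¹ * s.a0 = s.a0 * (m * (s.v1 * s.τ) * m⁻¹) := s.hL.decide s.rep (by decide +kernel)
  have f2 : ∀ g ∈ s.N1, g * s.a0 = s.a0 * g → Let (s.d1 * g * s.d1⁻¹ * g⁻¹) fun u => u = 1 ∨ u = s.a0 ∨ u = s.a0⁻¹ :=
    s.hL.decide s.rep (by decide +kernel)
  have f3 : s.τ * (s.v1 * s.τ) * s.τ⁻¹ * (s.v1 * s.τ)⁻¹ = s.δ := s.hL.decide s.rep (by decide +kernel)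
  obtain ⟨g1, g2, g3, g4⟩ := f1 _ hm
  have c0 : ⁅centralizer ({s.a0} : Set G), centralizer ({s.a0} : Set G)⁆ ≤ centralizer {s.a0} :=
    commutator_le.2 fun a ha b hb => mul_mem (mul_mem (mul_mem ha hb) (inv_mem ha)) (inv_mem hb)
  have c1 : ⁅centralizer ({s.a0} : Set G), centralizer ({s.a0} : Set G)⁆ ≤ centralizer {s.d1} :=
    commutator_le.2 fun a ha b hb => by
      have k : ∀ a ∈ centralizer ({s.a0} : Set G), ∃ u, s.d1 * a * s.d1⁻¹ = u * a ∧
          ∀ b ∈ centralizer ({s.a0} : Set G), b * u = u * b := fun a ha => by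
        refine ⟨s.d1 * a * s.d1⁻¹ * a⁻¹, by group, fun b hb => ?_⟩
        rcases f2 a (hN a (mem_pm_of_comm (mem_cen.1 ha))) (mem_cen.1 ha) with e | e | e <;> rw [e]
        exacts [by simp, mem_cen.1 hb, (Commute.inv_right (mem_cen.1 hb)).eq]
      obtain ⟨u, u1, u2⟩ := k a ha
      obtain ⟨w, w1, w2⟩ := k b hb
      refine mem_cen.2 (mul_inv_eq_iff_eq_mul.1 ?_).symm
      rw [commutatorElement_def, cjm, cjm, cjm, ← conj_inv, ← conj_inv, u1, w1, mul_assoc u, ← mul_assoc a, w2 a ha]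
      calc u * (w * a * b) * (u * a)⁻¹ * (w * b)⁻¹ = u * (w * (a * b * a⁻¹)) * u⁻¹ * b⁻¹ * w⁻¹ := by group
        _ = _ := by
          have hx := mul_mem (mul_mem ha hb) (inv_mem ha)
          have hw : w * u = u * w := (u2 w (by
            rw [eq_mul_inv_of_mul_eq w1.symm]
            exact mul_mem (mem_cen.2 (by
              have := cjcomm (g := s.d1) (Commute.inv_right (mem_cen.1 hb)).eq
              rwa [← conj_inv, s.comm.2.2.2.2.2.1, inv_inv] at this)) (inv_mem hb)))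
          rw [← mul_assoc u, ← hw, mul_assoc w, ← u2 _ hx, ← mul_assoc w, ← w2 _ hx, mul_inv_cancel_right,
            mul_assoc _ w, ← w2 _ (inv_mem hb)]
          group
  refine hT (m⁻¹ * s.d1 * m⁻¹⁻¹) (by rcases hz with rfl | rfl; exacts [g1, by rw [← conj_inv, g1]]) (fun a ha => ?_) ?_
  · rw [hC] at ha
    have a1 : Commute s.d1 a := (mem_cen.1 (c1 ha)).symm
    have a2 : Commute s.a0 a := (mem_cen.1 (c0 ha)).symm
    rcases g2 with e | e | e <;> rw [e]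
    exacts [a1, (a2.mul_left a1).mul_left a2.inv_left, a2.mul_left a1]
  · have : t * (m⁻¹ * s.d1 * m⁻¹⁻¹) * t⁻¹ = ⁅m⁻¹ * s.τ * m⁻¹⁻¹, m⁻¹ * (s.v1 * s.τ) * m⁻¹⁻¹⁆ := by
      rw [commutatorElement_def, conj_inv, conj_inv, ← cjm, ← cjm, ← cjm, f3, ← h2]; group
    rw [this, hC]
    exact commutator_mem_commutator (mem_cen.2 g3) (mem_cen.2 g4)

end Cfsg.Agent.T16.S8
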