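import Mathlib
import Cfsg.Agent.T16.S8St

/-!
Groups with a subgroup of order three whose normaliser is `S₃ × S₅`: the centraliser of the involution `τ`.
-/

set_option autoImplicit false
set_option synthInstance.maxSize 100000
set_option synthInstance.maxHeartbeats 1000000
set_option linter.unusedSectionVars false

namespace Cfsg.Agent.T16.S8

open Cfsg.Agent.Spor Cfsg.Agent.Rec Cfsg.Agent.Inv.Fz Subgroup Equiv
open Cfsg.Agent.T16.A8 (P8 P8_ok cjm cjc cjs cjcomm cj_inv2 pm_le_normalizer pow_card_cen)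

universe u

variable {G : Type u} [Group G] [Finite G]

namespace St

variable (s : St G)

theorem sc' : s.σ * s.c2 * s.σ⁻¹ = s.a0 := cj_inv2 s.s2 s.sc
theorem cj2 (g : G) : s.σ * (s.σ * g * s.σ⁻¹) * s.σ⁻¹ = g := cj_inv2 s.s2 rfl

theorem memN {g : G} (h : g * s.a0 = s.a0 * g) : g ∈ s.N1 := s.hN g (mem_pm_of_comm h)

theorem σy : s.σ * s.y = s.y * s.σ :=
  mul_inv_eq_iff_eq_mul.1 (by rw [St0.y, cjm, s.sc, s.sc', s.ca])

theorem σD : s.σ ∈ normalizer (s.D : Set G) := mem_normalizer_of_conj_mem (conj_clos_mem (by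
  simp only [List.forall_mem_cons, s.sc, s.sc']
  exact ⟨s.c2D, s.a0D, by simp⟩))

theorem σN : s.σ ∉ s.N1 := fun h => by
  have h1 : s.c2 ≠ s.a0 ∧ s.c2 ≠ s.a0⁻¹ := s.hL.decide s.rep (by decide +kernel)
  exact (s.sc ▸ mem_pm.1 (s.N1_le h)).elim h1.1 h1.2

theorem memE {g : G} (h : g * s.a0 = s.a0 * g) (h' : g * s.c2 = s.c2 * g) : g ∈ s.E :=
  s.n5 g (s.memN h) (Commute.mul_right h h')

theorem στ : s.σ * s.τ * s.σ⁻¹ = s.τ :=
  ((s.n7 _ (s.memE (s.sc' ▸ cjcomm s.comm.2.2.1) (s.sc ▸ cjcomm s.comm.2.1))).1 (conj_sq s.τ2)).resolve_left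
    fun h => s.τ1 (conj_eq_one.1 h)

theorem στ' : s.σ * s.τ = s.τ * s.σ := mul_inv_eq_iff_eq_mul.1 s.στ

theorem card_mixed (m : G) : Nat.card (centralizer ({m * s.y * m⁻¹} : Set G)) = 36 := (card_cen_conj _ _).trans s.hy

theorem conj_a0 {g : G} (h : g * s.a0 * g⁻¹ ∈ s.D) : g ∈ s.N1 ∨ s.σ * g ∈ s.N1 := by
  rcases s.n3 _ h with h | h | h | h | h | ⟨m, -, h⟩
  · exact absurd (conj_eq_one.1 h) (fun e => by simpa [e] using s.o1)
  · exact .inl (s.hN g (.inl h))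
  · exact .inl (s.hN g (.inr h))
  · exact .inr (s.hN _ (.inl ((cjc h).trans s.sc')))
  · exact .inr (s.hN _ (.inr ((cjc h).trans (by rw [← conj_inv, s.sc']))))
  · exact absurd h.symm (s.not_conj36 (s.card_mixed m) _)

theorem memH0 {g : G} (h : g ∈ normalizer (s.D : Set G)) : g ∈ s.H0 ∨ s.σ * g ∈ s.H0 :=
  (s.conj_a0 (conj_mem_of_mem_norm h s.a0D)).imp (fun e => (s.n8 g e).1 (conj_mem_of_mem_norm h s.c2D))
    fun e => (s.n8 _ e).1 (conj_mem_of_mem_norm (mul_mem s.σD h) s.c2D)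

theorem cen_le {a : G} (ha : a ∈ s.D) (a1 : a ≠ 1) {H : Subgroup G} {P : G → Prop}
    (h1 : ∀ g, g * s.a0 = s.a0 * g → P g → g ∈ H) (h2 : ∀ g, g * s.c2 = s.c2 * g → P g → g ∈ H)
    (h3 : ∀ m ∈ s.U, ∀ g, g * (m * s.y * m⁻¹) = m * s.y * m⁻¹ * g → P g → g ∈ H) {g : G} (hg : g * a = a * g)
    (hP : P g) : g ∈ H := by
  rcases s.n3 a ha with rfl | rfl | rfl | rfl | rfl | ⟨m, hm, rfl⟩
  exacts [absurd rfl a1, h1 g hg hP, h1 g (Commute.inv_right_iff.1 hg) hP, h2 g hg hP,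
    h2 g (Commute.inv_right_iff.1 hg) hP, h3 m hm g hg hP]

theorem mixedD {m : G} (hm : m ∈ s.U) : m * s.y * m⁻¹ ∈ s.D := conj_mem_of_mem_norm (s.H0_D (s.le.2.2.1 hm)) s.yD

theorem mixed_norm {m g : G} (hm : m ∈ s.U) (h : g * (m * s.y * m⁻¹) = m * s.y * m⁻¹ * g) :
    g ∈ normalizer (s.E : Set G) := norm_two s.gE.2 (s.card_mixed m) (s.E_le_cen (s.mixedD hm)) (mem_cen.2 h)

theorem sylD : IsSylIn 3 s.D ⊤ := by
  have p3 : IsPGroup 3 s.D := IsPGroup.of_card (n := 2) s.gD.2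
  refine isSylIn_of_card_le le_top p3 fun Q hQ _ hDQ => ?_
  obtain ⟨z, hz, z3, hc⟩ := Inv.exists_central_of_isPGroup hQ fun h => by
    simpa [show s.a0 = 1 from mem_bot.1 (h ▸ hDQ s.a0D)] using s.o1
  have zD : z ∈ s.D := (s.n7 z (s.memE (hc _ (hDQ s.a0D)).symm (hc _ (hDQ s.c2D)).symm)).2 (z3 ▸ pow_orderOf_eq_one z)
  have hC : Q ≤ centralizer {z} := fun g hg => mem_cen.2 (hc g hg)
  have h1 : Nat.card (centralizer ({s.a0} : Set G)) ∣ 720 := s.gN.2 ▸ card_dvd_of_le fun g hg => s.memN (mem_cen.1 hg)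
  have h2 : Nat.card (centralizer ({s.c2} : Set G)) ∣ 720 := by rwa [← s.sc, card_cen_conj]
  have i : ∀ a : G, centralizer ({a⁻¹} : Set G) = centralizer {a} := fun a => by
    ext g; rw [mem_cen, mem_cen]; exact Commute.inv_right_iff
  have h3 : Nat.card (centralizer ({z} : Set G)) ∣ 720 := by
    rcases s.n3 z zD with rfl | rfl | rfl | rfl | rfl | ⟨m, -, rfl⟩
    exacts [by simp at z3, h1, (i _).symm ▸ h1, h2, (i _).symm ▸ h2, s.card_mixed m ▸ by decide]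
  obtain ⟨n, hn⟩ := hQ.exists_card_eq
  have h4 := (card_dvd_of_le hC).trans h3
  rw [s.gD.2, hn] at *
  by_contra h5
  have h6 : 3 ≤ n := by
    by_contra h6
    exact h5 (Nat.pow_le_pow_right (by norm_num) (by omega : n ≤ 2))
  exact absurd ((pow_dvd_pow 3 h6).trans h4) (by decide)

theorem card_H : Nat.card (centralizer {s.τ} ⊓ normalizer (s.D : Set G) : Subgroup G) = 144 := by
  have h1 : s.H0 ≤ centralizer {s.τ} ⊓ normalizer (s.D : Set G) := fun g hg => ⟨mem_cen.2 (s.n9 g hg).1, s.H0_D hg⟩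
  suffices h : s.H0.relIndex (centralizer {s.τ} ⊓ normalizer (s.D : Set G)) = 2 by
    rw [← card_mul_relIndex h1, s.gH0.2, h]
  refine index_eq_two_iff'.2 ⟨⟨s.σ, mem_inf.2 ⟨mem_cen.2 s.στ', s.σD⟩⟩, fun b => ?_⟩
  rcases s.memH0 b.2.2 with h | h
  · exact .inr ⟨h, fun h' => s.σN (s.le.2.2.2.1 ((mul_mem_cancel_right h).1 h'))⟩
  · exact .inl ⟨h, fun h' => s.σN (s.le.2.2.2.1 ((mul_mem_cancel_right (show b.1 ∈ s.H0 from h')).1 h))⟩

theorem nine : centralizer {s.τ} ≤ normalizer (s.D : Set G) ∨ ∃ f : centralizer ({s.τ} : Set G) →* Perm (Fin 6),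
    Function.Surjective f ∧ f.ker = (zpowers s.τ).subgroupOf _ := by
  have o2 : orderOf s.τ = 2 := orderOf_eq_prime (by rw [pow_two, s.τ2]) s.τ1
  have hE : centralizer (s.D : Set G) = s.E :=
    le_antisymm (fun g hg => s.memE (hg _ s.a0D).symm (hg _ s.c2D).symm) fun g hg a ha => ((s.n4 a ha).2.2 g hg).symm
  have EL : s.E ≤ centralizer {s.τ} := fun g hg => mem_cen.2 (s.n9 g (s.le.2.1 hg)).1
  have dH : s.d1 ∈ s.H0 := mem_clos (by simp)
  refine (nine_d8 (V := zpowers s.τ) (B := s.D) ⟨⟨zpowers_le.2 (mem_cen.2 rfl), fun g hg =>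
    pm_le_normalizer _ (mem_pm_of_comm (mem_cen.1 hg)), by rw [Nat.card_zpowers, o2]; decide⟩,
    s.sylD.mono (s.le.1.trans EL) le_top, s.gD.2, fun b hb => (s.n4 b hb).1,
    fun g _ h => s.E_eq ▸ s.memE (h _ s.a0D) (h _ s.c2D)⟩ (fun b hb b1 g hg h => ?_) ?_
    (r := s.d1) ⟨mem_cen.2 s.comm.2.2.2.2.1, s.H0_D dH⟩ s.c2D (fun e => by simpa [e] using s.o2) s.comm.2.2.2.1
    fun h => ?_).imp_left fun h g hg => s.normD (s.E_eq ▸ h hg)
  · rw [s.E_eq]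
    have k : ∀ g, g * s.a0 = s.a0 * g → g * s.τ = s.τ * g → g ∈ normalizer (s.E : Set G) := fun g h1 h2 =>
      s.normE (s.H0_D (((s.n8 g (s.memN h1)).2 h1).1 h2)) h2
    refine s.cen_le hb b1 k (fun g h1 h2 => ?_) (fun m hm g h _ => s.mixed_norm hm h) h (mem_cen.1 hg)
    have hσ := s.normE s.σD s.στ'
    rw [← s.cj2 g]
    exact mul_mem (mul_mem hσ (k _ (s.sc' ▸ cjcomm h1) (s.στ ▸ cjcomm h2))) (inv_mem hσ)
  · have h := card_mul_relIndex (le_inf EL (s.le.2.1.trans s.H0_D))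
    rw [s.gE.2, s.card_H] at h
    rw [hE]
    omega
  · have h1 : s.a0 * s.d1 ≠ s.d1 * s.a0 := s.hL.decide s.rep (by decide +kernel)
    exact h1 (h _ s.a0D)

theorem sylδ : IsSylIn 3 (zpowers s.a0) (centralizer {s.δ}) :=
  syl3_zpowers (mem_cen.2 s.comm.2.2.2.2.2.2.2.1) s.o1 fun h => by
    have h5 : (centralizer {s.δ} ⊓ centralizer {s.a0} : Subgroup G) ≤ s.W := fun g hg =>
      ((s.n8 g (s.memN (mem_cen.1 hg.2))).2 (mem_cen.1 hg.2)).2 (mem_cen.1 hg.1)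
    exact absurd (s.gW.2 ▸ h.trans (card_dvd_of_le h5)) (by decide)

theorem δτ : ¬ IsConj s.δ s.τ := fun h =>
  (conj_of_syl3 s.sylδ s.o1 h s.o1 s.comm.2.1.symm).2
    (s.gD.2 ▸ card_dvd_of_le fun g hg => mem_cen.2 (s.n9 g (s.le.2.1 (s.le.1 hg))).1)

theorem not_conj_y {t t' : G} (h : IsSylIn 3 (zpowers s.y) (centralizer {t})) (ht : s.a0 * t' = t' * s.a0) :
    ¬ IsConj t t' := fun hc => by
  rcases (conj_of_syl3 h s.oy hc s.o1 ht).1 with h | h <;> obtain ⟨k, hk⟩ := isConj_iff.1 h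
  · exact s.not_conj36 s.hy _ (cjs hk)
  · have h1 : s.d1 * s.b5 * s.y⁻¹ * (s.d1 * s.b5)⁻¹ = s.y := s.hL.decide s.rep (by decide +kernel)
    exact s.not_conj36 s.hy _ ((cjc (cjs hk)).trans h1)

/-- Replacing `σ` by `σ τ`. -/
def twist : St G :=
  ⟨s.toSt0, s.σ * s.τ, s.hN, by rw [mul_assoc, ← mul_assoc s.τ, ← s.στ', mul_assoc, s.τ2, mul_one, s.s2],
    (cjc (mul_inv_eq_iff_eq_mul.2 s.comm.2.1)).trans s.sc, s.hy⟩

end St

end Cfsg.Agent.T16.S8
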