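import Mathlib
import Cfsg.Agent.T16.S8One
import Cfsg.Agent.T16.S6Fact
import Cfsg.Agent.T16.A8Two
import Cfsg.Agent.Rec.SylTools

/-!
Recognition of the symmetric group of degree eight: the subgroup `S₈` and facts decided inside it.
-/

set_option autoImplicit false
set_option synthInstance.maxSize 100000
set_option synthInstance.maxHeartbeats 1000000
set_option linter.unusedSectionVars false

namespace Cfsg.Agent.T16.S8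

open Cfsg.Agent.Spor Cfsg.Agent.Rec Cfsg.Agent.Inv.Fz Subgroup Equiv
open Cfsg.Agent.T16.A8 (P8 P8_ok cjm cjc cjs cjcomm cj_inv2 pm_le_normalizer pow_card_cen rep_word word_mem)

universe u

variable {G : Type u} [Group G] [Finite G]

/-- The involution `(03)`. -/
def St.q (s : St G) : G := s.σ * s.b4 * s.σ⁻¹

/-- The configuration with the subgroup `S₈`. -/
structure St2 (G : Type u) [Group G] extends St G where
  repA : C.RepL cA [toSt0.x0, d1, σ * b4 * σ⁻¹, τ, b4, b5, b6]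
  repσ : C.Rep (nth 0 cF 17) σ
  σm : σ ∈ clos [toSt0.x0, d1, σ * b4 * σ⁻¹, τ, b4, b5, b6]
  cτ : Nat.card (centralizer ({τ} : Set G)) = 1440
  iso : Nonempty (clos [toSt0.x0, d1, σ * b4 * σ⁻¹, τ, b4, b5, b6] ≃* Perm (Fin 8))

namespace St

variable (s : St G) (hT : s.σ * s.d1 * s.σ⁻¹ = s.b5)
include hT

theorem exists_f : ∃ f : centralizer ({s.τ} : Set G) →* Perm (Fin 6),
    Function.Surjective f ∧ f.ker = (zpowers s.τ).subgroupOf _ := s.nine.resolve_left fun h => by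
  have h1 : s.f * s.d1 = s.d1 * s.f ∧ s.v1 * s.b5 * s.v1⁻¹ = s.τ := s.hL.decide s.rep (by decide +kernel)
  have h2 := mem_cen.2 (h1.2 ▸ cjcomm (g := s.v1) (hT ▸ cjcomm (g := s.σ) h1.1))
  have h3 := pow_card_eq_one' (G := (centralizer {s.τ} ⊓ normalizer (s.D : Set G) : Subgroup G)) (x := ⟨_, h2, h h2⟩)
  rw [s.card_H] at h3
  have h4 : (s.v1 * (s.σ * s.f * s.σ⁻¹) * s.v1⁻¹) ^ 144 = 1 := congrArg Subtype.val h3
  simp only [conj_pow, conj_eq_one] at h4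
  exact s.comm.2.2.2.2.2.2.2.2 h4

theorem σb5 : s.σ * s.b5 * s.σ⁻¹ = s.d1 := cj_inv2 s.s2 hT

theorem σb6 : s.σ * s.b6 * s.σ⁻¹ = s.x0 := by
  have h : s.c2 * s.b5 * s.c2⁻¹ = s.b6 := s.hL.decide s.rep (by decide +kernel)
  rw [← h, cjm, cjm, ← conj_inv, s.sc', s.σb5 hT, St0.x0]

theorem rels : s.q * s.τ * s.q = s.τ * s.q * s.τ ∧ s.d1 * s.q * s.d1 = s.q * s.d1 * s.q ∧ s.x0 * s.q = s.q * s.x0 ∧
    s.q * s.b5 = s.b5 * s.q ∧ s.q * s.b6 = s.b6 * s.q ∧ s.q * s.q = 1 := by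
  have h : s.b4 * s.τ * s.b4 = s.τ * s.b4 * s.τ ∧ s.b5 * s.b4 * s.b5 = s.b4 * s.b5 * s.b4 ∧ s.b6 * s.b4 = s.b4 * s.b6 ∧
      s.b4 * s.d1 = s.d1 * s.b4 ∧ s.b4 * s.x0 = s.x0 * s.b4 ∧ s.b4 * s.b4 = 1 := s.hL.decide s.rep (by decide +kernel)
  obtain ⟨h1, h2, h3, h4, h5, h6⟩ := h
  have m : ∀ {a b : G}, a = b → s.σ * a * s.σ⁻¹ = s.σ * b * s.σ⁻¹ := fun h => by rw [h]
  refine ⟨?_, ?_, s.σb6 hT ▸ cjcomm h3, hT ▸ cjcomm h4, cj_inv2 s.s2 (s.σb6 hT) ▸ cjcomm h5, conj_sq h6⟩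
  · simpa only [q, cjm, s.στ] using m h1
  · simpa only [q, cjm, s.σb5 hT] using m h2

theorem chain : s.q * s.b4 = s.b4 * s.q ∨ s.q * (s.τ * s.b4 * s.τ) = s.τ * s.b4 * s.τ * s.q := by
  obtain ⟨f, -, hf⟩ := s.exists_f hT
  have h : (s.c2 * s.v1)⁻¹ * s.b6 * (s.c2 * s.v1)⁻¹⁻¹ = s.τ ∧ s.b6 * s.b6 = 1 ∧ s.x0 * s.b6 = s.b6 * s.x0 ∧
      s.d1 * s.b6 = s.b6 * s.d1 ∧ s.τ * s.b6 = s.b6 * s.τ ∧ s.b4 * s.b6 = s.b6 * s.b4 ∧ (s.τ ≠ 1 ∧ s.τ ≠ s.b6) ∧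
      s.x0 * s.τ = s.τ * s.x0 ∧ s.x0 * s.d1 * s.x0 = s.d1 * s.x0 * s.d1 ∧ s.b4 * s.x0 = s.x0 * s.b4 ∧
      s.b4 * s.d1 = s.d1 * s.b4 ∧ s.b4 * s.τ * s.b4 = s.τ * s.b4 * s.τ ∧ (s.b4 * s.τ⁻¹ ≠ 1 ∧ s.b4 * s.τ⁻¹ ≠ s.b6) ∧
      (∃ m ∈ s.K1, m * s.δ * m⁻¹ = s.b6 * s.b4) ∧ (∃ m ∈ s.K1, m * s.δ * m⁻¹ = s.b6 * (s.τ * s.b4 * s.τ)) ∧
      (∃ m ∈ s.K1, m * s.b4 * m⁻¹ = s.τ) ∧ (∃ m ∈ s.K1, m * (s.τ * s.b4 * s.τ) * m⁻¹ = s.τ) :=
    s.hL.decide s.rep (by decide +kernel)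
  obtain ⟨e, z2, m0, m1, m3, m4, n1, c1, c2, c3, c4, c5, n2, ⟨k1, -, e1⟩, ⟨k2, -, e2⟩, ⟨k3, -, e3⟩, k4, -, e4⟩ := h
  obtain ⟨r1, r2, r3, -, r5, -⟩ := s.rels hT
  generalize (s.c2 * s.v1)⁻¹ = m at e
  let φ : centralizer ({s.b6} : Set G) →* centralizer ({s.τ} : Set G) :=
    ((MulAut.conj m).toMonoidHom.comp (Subgroup.subtype _)).codRestrict _ fun g =>
      show m * g * m⁻¹ ∈ _ from mem_cen.2 (e ▸ cjcomm (mem_cen.1 g.2))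
  have hk : (f.comp φ).ker = (zpowers s.b6).subgroupOf _ := by
    ext g
    rw [← MonoidHom.comap_ker, mem_comap, hf, mem_subgroupOf, mem_subgroupOf]
    change m * g * m⁻¹ ∈ _ ↔ _
    rw [show zpowers s.τ = cj m (zpowers s.b6) by rw [cj_zpowers, e]]
    exact conj_mem_cj
  have no : ∀ {a b k k' : G}, k * s.δ * k⁻¹ = a → k' * b * k'⁻¹ = s.τ → s.q * b * s.q⁻¹ ≠ a := fun h1 h2 h3 =>
    s.δτ ((isConj_iff.2 ⟨_, h1⟩).trans ((isConj_iff.2 ⟨_, h3⟩).symm.trans (isConj_iff.2 ⟨_, h2⟩)))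
  exact (chain_of_s6 z2 (f.comp φ) hk (x0 := ⟨_, mem_cen.2 m0⟩) (x1 := ⟨_, mem_cen.2 m1⟩) (x2 := ⟨_, mem_cen.2 r5⟩)
    (r := ⟨_, mem_cen.2 m3⟩) (e := ⟨_, mem_cen.2 m4⟩) (Subtype.ext s.τ2) n1 (Subtype.ext r1)
    (Subtype.ext s.comm.2.2.2.2.1) (Subtype.ext r2) (Subtype.ext c1) (Subtype.ext r3) (Subtype.ext c2) (Subtype.ext c3)
    (Subtype.ext c4) (Subtype.ext c5) n2).imp
    (fun h => mul_inv_eq_iff_eq_mul.1 (h.resolve_right (no e1 e3)))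
    fun h => mul_inv_eq_iff_eq_mul.1 (h.resolve_right (no e2 e4))

theorem coxeter (hq : s.q * s.b4 = s.b4 * s.q) : ∃ φ : Perm (Fin (7 + 1)) →* G, ∀ i : Fin 7,
    φ (swap i.castSucc i.succ) = ![s.x0, s.d1, s.q, s.τ, s.b4, s.b5, s.b6] i := by
  obtain ⟨r1, r2, r3, r4, r5, r6⟩ := s.rels hT
  have h : s.x0 * s.x0 = 1 ∧ s.d1 * s.d1 = 1 ∧ s.τ * s.τ = 1 ∧ s.b4 * s.b4 = 1 ∧ s.b5 * s.b5 = 1 ∧ s.b6 * s.b6 = 1 ∧
      s.x0 * s.d1 * s.x0 = s.d1 * s.x0 * s.d1 ∧ s.τ * s.b4 * s.τ = s.b4 * s.τ * s.b4 ∧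
      s.b4 * s.b5 * s.b4 = s.b5 * s.b4 * s.b5 ∧ s.b5 * s.b6 * s.b5 = s.b6 * s.b5 * s.b6 ∧
      Commute s.x0 s.τ ∧ Commute s.x0 s.b4 ∧ Commute s.x0 s.b5 ∧ Commute s.x0 s.b6 ∧
      Commute s.d1 s.τ ∧ Commute s.d1 s.b4 ∧ Commute s.d1 s.b5 ∧ Commute s.d1 s.b6 ∧
      Commute s.τ s.b5 ∧ Commute s.τ s.b6 ∧ Commute s.b4 s.b6 := s.hL.decide s.rep (by decide +kernel)
  obtain ⟨_, _, _, _, _, _, _, _, _, _, _, _, _, _, _, _, _, _, _, _, _⟩ := h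
  refine Sym.exists_hom_of_coxeter 7 _ (fun i => ?_) (fun i j h => ?_) fun i j h => ?_
  · fin_cases i <;> assumption
  · fin_cases i <;> fin_cases j <;> first | exact absurd h (by decide) | assumption
  · fin_cases i <;> fin_cases j <;> first | exact absurd h (by decide) | assumption

theorem exists_St2' (hq : s.q * s.b4 = s.b4 * s.q) : Nonempty (St2 G) := by
  obtain ⟨φ, hφ⟩ := s.coxeter hT hq
  have hi : Function.Injective φ := (MonoidHom.ker_eq_bot_iff φ).1 <| by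
    by_contra h
    have h1 := Perm.alternatingGroup_le_of_normal (α := Fin (7 + 1)) (by simp) ((nontrivial_iff_ne_bot _).2 h)
      (Perm.mem_alternatingGroup.2 (show Perm.sign (swap 0 1 * swap 1 2) = 1 by decide))
    have h2 : s.x0 * s.d1 ≠ 1 := s.hL.decide s.rep (by decide +kernel)
    exact h2 ((congrArg₂ (· * ·) (hφ 0) (hφ 1)).symm.trans ((map_mul φ _ _).symm.trans h1))
  let ψ : Perm (Fin 8) →* G := φ.comp (MulAut.conj (swap 0 2)).toMonoidHom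
  have hψ : Function.Injective ψ := hi.comp (MulAut.conj _).injective
  have r0 : (permCod P8_ok).RepL cA [swap 1 2, swap 0 1, swap 0 3, swap 3 4, swap 4 5, swap 5 6, swap 6 7] :=
    (rep_pcode P8_ok _ (by decide +kernel)).cons <| (rep_pcode P8_ok _ (by decide +kernel)).cons <|
    (rep_pcode P8_ok _ (by decide +kernel)).cons <| (rep_pcode P8_ok _ (by decide +kernel)).cons <|
    (rep_pcode P8_ok _ (by decide +kernel)).cons <| (rep_pcode P8_ok _ (by decide +kernel)).cons <|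
    (rep_pcode P8_ok _ (by decide +kernel)).cons Cod.repL_nil
  have k : ∀ (i : Fin 7) (a : Perm (Fin 8)), swap 0 2 * a * (swap 0 2)⁻¹ = swap i.castSucc i.succ →
      ψ a = ![s.x0, s.d1, s.q, s.τ, s.b4, s.b5, s.b6] i := fun i a h => (congrArg φ h).trans (hφ i)
  have e : [swap 1 2, swap 0 1, swap 0 3, swap 3 4, swap 4 5, swap 5 6, swap 6 7].map ψ =
      [s.x0, s.d1, s.q, s.τ, s.b4, s.b5, s.b6] := by
    simp only [List.map, k 0 (swap 1 2) (by decide), k 1 (swap 0 1) (by decide), k 2 (swap 0 3) (by decide),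
      k 3 (swap 3 4) (by decide), k 4 (swap 4 5) (by decide), k 5 (swap 5 6) (by decide), k 6 (swap 6 7) (by decide)]
    rfl
  obtain ⟨C, repA⟩ := Syl.repL_map r0 ψ hψ
  rw [e] at repA
  have hrange : φ.range = clos [s.x0, s.d1, s.q, s.τ, s.b4, s.b5, s.b6] := by
    rw [MonoidHom.range_eq_map, ← Sym.closure_swap_castSucc_succ, MonoidHom.map_closure, ← Set.range_comp, clos]
    congr 1
    ext g
    simp only [Set.mem_range, Function.comp, hφ, Set.mem_ofPred_eq]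
    exact (List.mem_ofFn' _ g).symm.trans (by simp [List.ofFn_succ])
  obtain ⟨t, ht, htm⟩ : ∃ t, C.Rep (nth 0 cF 17) t ∧ t ∈ clos [s.x0, s.d1, s.q, s.τ, s.b4, s.b5, s.b6] :=
    ⟨_, rep_word repA [0, 1, 2, 3, 4, 5, 6, 0, 1, 2, 3, 4, 5, 0, 1, 2, 3, 4, 0, 1, 2, 3, 0, 1, 2, 0, 1, 0]
      (by decide +kernel), word_mem _ _⟩
  have ea : s.d1 * s.x0 = s.a0 := s.hL.decide s.rep (by decide +kernel)
  let s0 : St0 G := ⟨s.a0, s.d1, s.τ, s.b4, s.b5, s.b6, C,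
    (ea ▸ repA.term (s.d1 * s.x0) (by decide +kernel) : C.Rep (nth 0 cN 0) s.a0).cons (repA.pick [1, 3, 4, 5, 6])⟩
  have r : C.RepL [nth 0 cF 0, nth 0 cF 6, nth 0 cF 2, nth 0 cF 17, nth 0 cF 1, nth 0 cF 3, nth 0 cF 4, nth 0 cF 16,
      nth 0 cF 12] [s.a0, s.c2, s.τ, t, s.d1, s.b4, s.b5, s.q, s.y] :=
    (s0.rep.nth 0).cons <| (s0.rep.nth 6).cons <| (s0.rep.nth 2).cons <| ht.cons <| (s0.rep.nth 1).cons <|
      (s0.rep.nth 3).cons <| (s0.rep.nth 4).cons <| (repA.nth 2).cons <| (s0.rep.nth 12).cons Cod.repL_nil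
  have g : C.Lists Cy_t.dom (clos [s.a0, s.c2, s.τ, t]) ∧ Nat.card (clos [s.a0, s.c2, s.τ, t]) = 36 :=
    (r.take 4).gen Cy_ok
  have f1 : ∀ a ∈ clos [s.a0, s.c2, s.τ, t], a * s.y = s.y * a ∧
      (a * s.a0 * a⁻¹ = s.c2 → a * s.d1 * a⁻¹ = s.b5 → a * s.b4 * a⁻¹ = s.q → a * a = 1 → a = t) :=
    (g.1.cons Cod.listsL_nil).decide r (by decide +kernel)
  have e1 : clos [s.a0, s.c2, s.τ, t] = centralizer {s.y} :=
    eq_of_le_of_card_ge (fun a ha => mem_cen.2 (f1 a ha).1) (by rw [g.2, s.hy])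
  have e2 : s.σ = t := (f1 _ (e1 ▸ mem_cen.2 s.σy)).2 s.sc hT rfl s.s2
  obtain ⟨f, hf1, hf⟩ := s.exists_f hT
  have h5 := card_eq_card_quotient_mul_card_subgroup f.ker
  rw [Nat.card_congr (QuotientGroup.quotientKerEquivOfSurjective f hf1).toEquiv, hf,
    Nat.card_congr (subgroupOfEquivOfLe (zpowers_le.2 (mem_cen.2 rfl))).toEquiv, Nat.card_zpowers,
    orderOf_eq_prime (by rw [pow_two, s.τ2]) s.τ1, Nat.card_perm] at h5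
  exact ⟨⟨⟨s0, s.σ, s.hN, s.s2, s.sc, s.hy⟩, repA, e2 ▸ ht, (e2 ▸ htm :), by simpa [Nat.factorial] using h5,
    ⟨(MulEquiv.subgroupCongr hrange.symm).trans (MonoidHom.ofInjective hi).symm⟩⟩⟩

theorem exists_St2 : Nonempty (St2 G) := by
  rcases s.chain hT with h | h
  · exact s.exists_St2' hT h
  · refine s.twist.exists_St2' ((cjc (mul_inv_eq_iff_eq_mul.2 s.comm.2.2.2.2.1.symm)).trans hT) ?_
    have e : s.twist.q = s.τ * s.q * s.τ⁻¹ := by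
      change s.σ * s.τ * s.b4 * (s.σ * s.τ)⁻¹ = _
      rw [s.στ', cjc rfl, q]
    have e' : s.τ * (s.τ * s.b4 * s.τ) * s.τ⁻¹ = s.b4 := s.hL.decide s.rep (by decide +kernel)
    have := cjcomm (g := s.τ) h
    rwa [e', ← e] at this

end St

namespace St2

variable (s : St2 G)

/-- The generators of `S₈`. -/
abbrev eA : List G := [s.x0, s.d1, s.q, s.τ, s.b4, s.b5, s.b6]
/-- The involution `(05)(16)(27)`. -/
def ρ : G := s.σ * s.τ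
/-- The involution `(25)`. -/
noncomputable def p5 : G := evalW (nth 1 s.eA) [0, 1, 2, 3, 4, 3, 2, 1, 0]
/-- The involution `(27)`. -/
noncomputable def p7 : G := evalW (nth 1 s.eA) [0, 1, 2, 3, 4, 5, 6, 5, 4, 3, 2, 1, 0]
/-- The involution `(03)(14)`. -/
noncomputable def κ : G := evalW (nth 1 s.eA) [1, 2, 3, 1, 2, 1]
/-- The involution `(23)(47)`. -/
noncomputable def κ' : G := evalW (nth 1 s.eA) [4, 5, 6, 5, 4, 0, 1, 2, 1, 0]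
/-- The involution `(02)(17)`. -/
noncomputable def s1 : G := evalW (nth 1 s.eA) [1, 2, 3, 4, 5, 6, 5, 4, 3, 2, 0, 1]
/-- The involution `(03)(14)(25)(67)`. -/
noncomputable def s3 : G := evalW (nth 1 s.eA) [6, 0, 1, 2, 3, 4, 0, 1, 2, 3, 0, 1, 2, 0, 1, 0]

/-- The letters. -/
noncomputable abbrev eF : List G :=
  [s.a0, s.d1, s.τ, s.b4, s.b5, s.b6, s.c2, s.δ, s.f, s.x, s.v, s.x0, s.y, s.k4, s.k6, s.v1,
    s.q, s.σ, s.ρ, s.p5, s.p7, s.κ, s.κ', s.s1, s.s3]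

theorem repF : s.C.RepL cF s.eF :=
  s.rep.append (c' := cF.drop 16) <| (s.repA.nth 2).cons <| s.repσ.cons <|
    ((s.repσ.cons s.rep).term (s.σ * s.τ) (by decide +kernel)).cons <| (rep_word s.repA _ (by decide +kernel)).cons <|
    (rep_word s.repA _ (by decide +kernel)).cons <| (rep_word s.repA _ (by decide +kernel)).cons <|
    (rep_word s.repA _ (by decide +kernel)).cons <| (rep_word s.repA _ (by decide +kernel)).cons <|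
    (rep_word s.repA _ (by decide +kernel)).cons Cod.repL_nil

/-- The centraliser of `y`. -/
def Cy : Subgroup G := clos [s.a0, s.c2, s.τ, s.σ]
/-- The centraliser of `y` and `σ`. -/
def W2 : Subgroup G := clos [s.y, s.σ, s.τ]
/-- The centraliser of `τ`. -/
noncomputable def CT : Subgroup G := clos [s.τ, s.d1, s.x0, s.p5, s.b5, s.b6]
/-- A Sylow subgroup. -/
noncomputable def S : Subgroup G := clos [s.d1, s.s1, s.s3]
/-- The class of `τ`. -/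
def clT : Set G := cls s.eA s.τ
/-- The class of `δ`. -/
def clD : Set G := cls s.eA s.δ
/-- The class of `ρ`. -/
def clR : Set G := cls s.eA s.ρ
/-- The class of `σ`. -/
def clS : Set G := cls s.eA s.σ

theorem gCy : s.C.Lists Cy_t.dom s.Cy ∧ Nat.card s.Cy = 36 := (s.repF.pick [0, 6, 2, 17]).gen Cy_ok
theorem gW2 : s.C.Lists W2_t.dom s.W2 ∧ Nat.card s.W2 = 12 := (s.repF.pick [12, 17, 2]).gen W2_ok
theorem gCT : s.C.Lists CT_t.dom s.CT ∧ Nat.card s.CT = 1440 := (s.repF.pick [2, 1, 11, 19, 4, 5]).gen CT_ok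
theorem gS : s.C.Lists S_t.dom s.S ∧ Nat.card s.S = 128 := (s.repF.pick [1, 23, 24]).gen S_ok

theorem hF : s.C.ListsL [Cy_t.dom, W2_t.dom, CT_t.dom, S_t.dom, clT_t.dom, clD_t.dom, clR_t.dom, clS_t.dom, N1_t.dom]
    [s.Cy, s.W2, s.CT, s.S, s.clT, s.clD, s.clR, s.clS, s.N1] :=
  s.gCy.1.cons <| s.gW2.1.cons <| s.gCT.1.cons <| s.gS.1.cons <| (s.repA.orb (s.repF.nth 2) clT_ok).1.cons <|
    (s.repA.orb (s.repF.nth 7) clD_ok).1.cons <| (s.repA.orb (s.repF.nth 18) clR_ok).1.cons <|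
    (s.repA.orb (s.repF.nth 17) clS_ok).1.cons <| s.gN.1.cons Cod.listsL_nil

theorem t0 : ∀ g ∈ s.Cy, g * s.y = s.y * g ∧ (g * s.σ = s.σ * g ∨ g * s.ρ = s.ρ * g → g ∈ s.W2) :=
  s.hF.decide s.repF (by decide +kernel)
theorem t1 : ∀ g ∈ s.CT, g * s.τ = s.τ * g ∧ (g * (s.κ * s.δ * s.κ⁻¹) = s.κ * s.δ * s.κ⁻¹ * g → g ^ 2 ^ 2 = 1) ∧
    (g * (s.κ' * s.ρ * s.κ'⁻¹) = s.κ' * s.ρ * s.κ'⁻¹ * g → g ^ 2 ^ 2 = 1) := s.hF.decide s.repF (by decide +kernel)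
theorem t2 : ∀ b ∈ s.S, b * b = 1 → b = 1 ∨ b ∈ s.clT ∨ b ∈ s.clD ∨ b ∈ s.clR ∨ b ∈ s.clS :=
  s.hF.decide s.repF (by decide +kernel)
theorem t3 : ∀ t ∈ s.clT, (t * s.δ ∈ s.clT → t = s.τ ∨ t = s.δ * s.τ) ∧ (t * s.ρ ∈ s.clS → t = s.τ) :=
  s.hF.decide s.repF (by decide +kernel)
theorem t4 : ∀ k ∈ s.N1, k * s.a0 = s.a0 * k → k * s.δ = s.δ * k →
    s.p7 * k * s.p7⁻¹ * s.a0 = s.a0 * (s.p7 * k * s.p7⁻¹) → k ^ 2 ^ 2 = 1 := s.hF.decide s.repF (by decide +kernel)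
theorem t5 : ∀ i ∈ s.CT, i * i = 1 → i = 1 ∨ i ∈ s.clT ∨ i ∈ s.clD ∨ i ∈ s.clR ∨ s.τ * i ∈ s.clR :=
  s.hF.decide s.repF (by decide +kernel)
theorem t6 : s.κ * s.d1 * s.κ⁻¹ = s.τ ∧ s.κ' * s.p7 * s.κ'⁻¹ = s.τ ∧ s.d1 * s.δ = s.δ * s.d1 ∧
    s.p7 * s.δ = s.δ * s.p7 ∧ s.d1 * s.x0 = s.a0 ∧ s.τ * s.δ = s.δ * s.τ ∧ s.τ * s.δ ∈ s.clT ∧ s.τ * s.ρ = s.ρ * s.τ ∧
    s.τ * s.ρ ∈ s.clS ∧ s.ρ * s.ρ = 1 ∧ s.y * s.ρ = s.ρ * s.y ∧ s.p7 * s.ρ = s.ρ * s.p7 ∧ s.p7 * s.p7 = 1 ∧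
    s.y * s.p7 * s.y⁻¹ * (s.y⁻¹ * s.p7 * s.y⁻¹⁻¹) * s.ρ = s.p7 := s.hF.decide s.repF (by decide +kernel)

end St2

end Cfsg.Agent.T16.S8
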