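import Mathlib
import Cfsg.Agent.T16.S8Two
import Cfsg.Agent.T16.A8Main

/-!
Recognition of the symmetric group of degree eight from its 3-local subgroups.
-/

set_option autoImplicit false
set_option linter.unusedSectionVars false

namespace Cfsg.Agent.T16

open Cfsg.Agent.Spor Cfsg.Agent.Rec Cfsg.Agent.Inv.Fz Subgroup Equiv
open Cfsg.Agent.T16.A8 (cjm cjc cjs cjcomm cj_inv2 word_mem)

universe u

variable {G : Type u} [Group G] [Finite G]

namespace S8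

/-- Transport of a fixed point free action along an element of the normaliser. -/
theorem fpf_conj {O : Subgroup G} {t m : G} (hm : m ∈ normalizer (O : Set G)) (h : ∀ k ∈ O, k * t = t * k → k = 1) :
    ∀ k ∈ O, k * (m * t * m⁻¹) = m * t * m⁻¹ * k → k = 1 := fun _ hk e =>
  conj_eq_one.1 (h _ (conj_mem_of_mem_norm (inv_mem hm) hk) (cjs (rfl : m * t * m⁻¹ = _) ▸ cjcomm e))

namespace St2

variable (s : St2 G)

theorem m (i : ℕ) : nth 1 s.eA i ∈ clos s.eA := nth_mem_clos _ i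

theorem a0m : s.a0 ∈ clos s.eA := s.t6.2.2.2.2.1 ▸ mul_mem (s.m 1) (s.m 0)

theorem syl {t : G} (h : t = s.σ ∨ t = s.ρ) : IsSylIn 3 (zpowers s.y) (centralizer {t}) := by
  have e1 : s.Cy = centralizer {s.y} :=
    eq_of_le_of_card_ge (fun a ha => mem_cen.2 (s.t0 a ha).1) (by rw [s.gCy.2, s.hy])
  refine syl3_zpowers (mem_cen.2 ?_) s.oy fun h9 => ?_
  · rcases h with rfl | rfl
    exacts [s.σy.symm, s.t6.2.2.2.2.2.2.2.2.2.2.1]
  · have h5 : (centralizer {t} ⊓ centralizer {s.y} : Subgroup G) ≤ s.W2 := fun g hg =>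
      (s.t0 g (e1 ▸ hg.2)).2 (by rcases h with rfl | rfl; exacts [.inl (mem_cen.1 hg.1), .inr (mem_cen.1 hg.1)])
    exact absurd (s.gW2.2 ▸ h9.trans (card_dvd_of_le h5)) (by decide)

theorem notRS {t b : G} (ht : s.a0 * t = t * s.a0) (h : IsConj t b) : b ∉ s.clR ∧ b ∉ s.clS :=
  ⟨fun h' => s.not_conj_y (s.syl (.inr rfl)) ht ((isConj_of_mem_cls h').trans h.symm),
    fun h' => s.not_conj_y (s.syl (.inl rfl)) ht ((isConj_of_mem_cls h').trans h.symm)⟩

theorem cen_τ : centralizer {s.τ} = s.CT :=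
  (eq_of_le_of_card_ge (fun a ha => mem_cen.2 (s.t1 a ha).1) (by rw [s.gCT.2, s.cτ])).symm

theorem CT_le : s.CT ≤ clos s.eA := clos_le.2 (by
  simp only [List.forall_mem_cons]
  exact ⟨s.m 3, s.m 1, s.m 0, word_mem _ _, s.m 5, s.m 6, by simp⟩)

theorem sylS : IsSylIn 2 s.S (clos s.eA) := by
  obtain ⟨e⟩ := s.iso
  refine isSylIn_of_card (clos_le.2 ?_) (k := 7) (m := 315) s.gS.2 ?_ (by decide)
  · simp only [List.forall_mem_cons]
    exact ⟨s.m 1, word_mem _ _, word_mem _ _, by simp⟩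
  · exact (Nat.card_congr e.toEquiv).trans (by rw [Nat.card_perm]; simp [Nat.factorial])

theorem good_τ : Good (clos s.eA) s.τ :=
  good_of_syl s.sylS (s.m 3) s.τ2 (s.cen_τ ▸ s.CT_le) fun b hb h => by
    obtain ⟨g, rfl⟩ := isConj_iff.1 h
    rcases s.t2 _ hb (conj_sq s.τ2) with e | ⟨k, hk, e⟩ | e | e | e
    · exact absurd (conj_eq_one.1 e) s.τ1
    · exact ⟨k⁻¹, inv_mem hk, cjs e⟩
    · exact absurd ((isConj_of_mem_cls e).trans h.symm) s.δτ
    · exact absurd e (s.notRS s.comm.2.1.symm h).1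
    · exact absurd e (s.notRS s.comm.2.1.symm h).2

theorem cen_δ : centralizer {s.δ} ≤ clos s.eA := by
  obtain ⟨e1, -, e3, e4, e5, e6, e7, -⟩ := s.t6
  refine cen_le_of_good s.good_τ s.τ2 (mul_mem (s.m 3) (s.m 5)) s.δ2 e6 (fun g hg h => (s.t3 _ (conj_mem_cls hg
    (self_mem_cls _ _))).1 (by
      have := conj_mem_cls hg e7
      rwa [cjm, mul_inv_eq_iff_eq_mul.2 h] at this)) fun O h1 h2 hO => ?_
  have f1 : ∀ k ∈ O, k * s.d1 = s.d1 * k → k = 1 := fun k hk e => by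
    have := (s.t1 _ (s.cen_τ ▸ mem_cen.2 (e1 ▸ cjcomm (g := s.κ) e))).2.1 (cjcomm (mem_cen.1 (h1 hk)))
    rw [conj_pow, conj_eq_one] at this
    exact eq_one_of_odd_of_sq hO hk this
  have a0L := h2 (mem_cen.2 s.comm.2.2.2.2.2.2.2.1)
  have dL := h2 (mem_cen.2 e3)
  have f2 := inv_pair hO s.d2 (conj_sq s.d2) dL (mul_mem (mul_mem a0L dL) (inv_mem a0L)) f1 (fpf_conj a0L f1)
  rw [show s.d1 * (s.a0 * s.d1 * s.a0⁻¹) = s.a0 from e5] at f2
  exact (eq_bot_iff_forall _).2 fun k hk => eq_one_of_odd_of_sq hO hk (s.t4 k (s.memN (f2 k hk)) (f2 k hk)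
    (mem_cen.1 (h1 hk)) (f2 _ (conj_mem_of_mem_norm (h2 (mem_cen.2 e4)) hk)))

theorem cen_ρ : centralizer {s.ρ} ≤ clos s.eA := by
  obtain ⟨-, e2, -, -, -, -, -, e8, e9, e10, e11, e12, e13, e14⟩ := s.t6
  refine cen_le_of_good s.good_τ s.τ2 (mul_mem s.σm (s.m 3)) e10 e8 (fun g hg h => .inl ((s.t3 _ (conj_mem_cls hg
    (self_mem_cls _ _))).2 (by
      have := conj_mem_cls hg e9
      rwa [cjm, mul_inv_eq_iff_eq_mul.2 h] at this))) fun O h1 h2 hO => ?_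
  have f1 : ∀ k ∈ O, k * s.p7 = s.p7 * k → k = 1 := fun k hk e => by
    have := (s.t1 _ (s.cen_τ ▸ mem_cen.2 (e2 ▸ cjcomm (g := s.κ') e))).2.2 (cjcomm (mem_cen.1 (h1 hk)))
    rw [conj_pow, conj_eq_one] at this
    exact eq_one_of_odd_of_sq hO hk this
  have yL := h2 (mem_cen.2 e11)
  have pL := h2 (mem_cen.2 e12)
  have f2 := inv_pair hO (conj_sq e13) (conj_sq e13) (mul_mem (mul_mem yL pL) (inv_mem yL))
    (mul_mem (mul_mem (inv_mem yL) pL) (inv_mem (inv_mem yL))) (fpf_conj yL f1) (fpf_conj (inv_mem yL) f1)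
  exact (eq_bot_iff_forall _).2 fun k hk => f1 k hk (e14 ▸ Commute.mul_right (f2 k hk) (mem_cen.1 (h1 hk)))

theorem good_δ : Good (clos s.eA) s.δ :=
  good_of_syl s.sylS (mul_mem (s.m 3) (s.m 5)) s.δ2 s.cen_δ fun b hb h => by
    obtain ⟨g, rfl⟩ := isConj_iff.1 h
    rcases s.t2 _ hb (conj_sq s.δ2) with e | e | ⟨k, hk, e⟩ | e | e
    · exact absurd (conj_eq_one.1 e) (s.hL.decide s.rep (by decide +kernel) : s.δ ≠ 1)
    · exact absurd (h.trans (isConj_of_mem_cls e).symm) s.δτ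
    · exact ⟨k⁻¹, inv_mem hk, cjs e⟩
    · exact absurd e (s.notRS s.comm.2.2.2.2.2.2.2.1 h).1
    · exact absurd e (s.notRS s.comm.2.2.2.2.2.2.2.1 h).2

include s in
theorem main : Nonempty (G ≃* Perm (Fin 8)) := by
  obtain ⟨e⟩ := s.iso
  have h : clos s.eA = ⊤ := by
    by_contra h
    obtain ⟨g, -, hg⟩ := s.good_δ.exists_notMem (L := ⊤) (fun e => h (top_le_iff.1 e))
    have k : ∀ {t i : G}, centralizer {t} ≤ clos s.eA → i ∈ cls s.eA t → ∀ x ∈ (⊤ : Subgroup G), Commute x i →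
        x ∈ clos s.eA := by
      rintro t _ ht ⟨m, hm, rfl⟩ x - hx
      have := ht (mem_cen.2 (cjs (rfl : m * t * m⁻¹ = _) ▸ cjcomm (g := m⁻¹) hx))
      exact (mul_mem_cancel_left (inv_mem hm)).1 ((mul_mem_cancel_right (inv_mem (inv_mem hm))).1 this)
    refine hg (two_class (mem_top s.τ) (mem_top _) s.τ2 (conj_sq s.δ2)
      (fun a _ e => s.δτ ((isConj_iff.2 ⟨g, rfl⟩).trans (isConj_iff.2 ⟨a, e⟩).symm))
      (fun x _ hx => s.good_τ.cent hx) fun i _ i2 i1 hi h => ?_)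
    rcases s.t5 i (s.cen_τ ▸ mem_cen.2 hi) i2 with e | e | e | e | e
    · exact absurd e i1
    · exact k (s.cen_τ ▸ s.CT_le) e
    · exact k s.cen_δ e
    · exact k s.cen_ρ e
    · rcases h with ⟨a, -, h⟩ | ⟨a, -, h⟩
      · exact absurd e (s.notRS s.comm.2.1.symm (isConj_iff.2 ⟨a, h⟩)).1
      · exact absurd e (s.notRS s.comm.2.2.2.2.2.2.2.1 (isConj_iff.2 ⟨a * g, (cjc rfl).trans h⟩)).1
  exact ⟨(topEquiv.symm.trans (MulEquiv.subgroupCongr h.symm)).trans e⟩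

end St2

theorem St.main_T (s : St G) (hT : s.σ * s.d1 * s.σ⁻¹ = s.b5) : Nonempty (G ≃* Perm (Fin 8)) := by
  obtain ⟨s⟩ := s.exists_St2 hT
  exact s.main

end S8

/-- Recognition of `S₈` from two commuting conjugate elements of order three. -/
theorem s8_of {z c t : G} (z3 : orderOf z = 3) (hzc : z * c = c * z) (hne : c ∉ zpowers z) (t2 : t * t = 1)
    (ht : t * z * t⁻¹ = c) (eL : normalizer (zpowers z : Set G) ≃* Equiv.Perm (Fin 3) × Equiv.Perm (Fin 5))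
    (hy : Nat.card (centralizer ({z * c} : Set G)) = 36)
    (hT : ∀ d : G, d * z * d⁻¹ = z⁻¹ → (∀ k ∈ ⁅centralizer ({z} : Set G), centralizer ({z} : Set G)⁆, Commute d k) →
      t * d * t⁻¹ ∉ ⁅centralizer ({z} : Set G), centralizer ({z} : Set G)⁆) :
    Nonempty (G ≃* Equiv.Perm (Fin 8)) := by
  obtain ⟨s, hs⟩ := S8.exists_St' z3 hzc hne t2 ht eL hy hT
  exact s.main_T hs

end Cfsg.Agent.T16
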