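import Mathlib
import Cfsg.Agent.T16.McLP
import Cfsg.Agent.T16.S8Main

/-! The McLaughlin configuration: `C(t) / ⟨t⟩` is `A₈` or `S₈`. -/

set_option autoImplicit false
set_option linter.unusedSectionVars false

namespace Cfsg.Agent.T16.McH

open Cfsg.Agent.Rec Cfsg.Agent.Inv.Fz Subgroup Y Equiv
open A9 (cjm cjc cjs cjcomm cjp)
open scoped commutatorElement

universe u

variable {G : Type u} [Group G] [Finite G] {m : Mc G} (l : m.Let)

theorem mem_t {ε : G} (h : ε ∈ zpowers l.t) : ε = 1 ∨ ε = l.t :=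
  (mem_sup_two (N := ⊥) (le_normalizer_of_normal (mem_top _)) (l.tt ▸ one_mem _) (mem_sup_left h)).imp
    mem_bot.1 fun e => (inv_mul_eq_one.1 (mem_bot.1 e)).symm

theorem S_t {ε : G} (h : ε ∈ zpowers l.t) (hS : ε ∈ m.S) : ε = 1 :=
  (mem_t l h).resolve_right fun e => t_not l (e ▸ hS)

theorem w_not (hw : l.w ≠ 1) : l.w ∉ m.M0 := fun h => by
  have h1 := McS.a6_facts.2.1 (l.f ⟨_, h⟩) (l.f_range.le ⟨_, rfl⟩)
    (by rw [← l.f_b, ← map_mul, ← map_mul]; exact congrArg _ (Subtype.ext l.wb)) (by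
      have := (l.f_ker (⟨_, h⟩ * ⟨_, l.vM⟩ * (⟨_, h⟩ : m.M0)⁻¹ * (⟨_, l.vM⟩ : m.M0)⁻¹)).2 (l.wM _ l.vM)
      simp only [map_mul, map_inv, l.f_v] at this
      exact of_fix (mul_inv_eq_one.1 this))
  have h2 := m.J3 _ ((l.f_ker _).1 h1)
  rw [pow_three', l.ww, one_mul] at h2
  exact hw h2

theorem nwa_not (hw : l.w ≠ 1) : l.n * (l.w * l.a) * l.n⁻¹ ∉ m.L0 := fun h => by
  have h1 : l.n * (l.w * l.a) * l.n⁻¹ * z' l * (l.n * (l.w * l.a) * l.n⁻¹)⁻¹ = (z' l)⁻¹ := by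
    have := waz l hw (one_mem _) (one_mem _)
    rw [one_mul, mul_one] at this
    rw [cjc (cjs (rfl : _ = z' l)), cjc this, cji]; rfl
  obtain ⟨s, hs, τ, hτ, e⟩ := mem_BC l (mem_B' l (o3_le _ h) (h1.symm ▸ inv_mem (z'J l)))
    (mul_mem (mul_mem (nC l) (mul_mem (wC l) (aC l))) (inv_mem (nC l)))
  rw [e] at h h1
  have h2 := fix_of_mul h1 (fixD l hs (inv_mem (z'J l)))
  rcases mem_a l (T_L0 l hτ ((mul_mem_cancel_left (mem_inf.1 (D_le l hs)).2).1 h)) with h3 | ⟨ε, hε, rfl⟩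
  · exact z'_ne l ((fix_zp h3 (tz' l)).symm.trans h2)
  · have n0 : l.a ∈ normalizer (m.M0 : Set G) := le_norm_o3 _ (aM l)
    have := mul_mem (mul_mem (mul_mem (m.S_le_M0 (m.JS (D_le_J l hs)))
      (conj_mem_of_mem_norm n0 (zpowers_le.2 (tM0 l) hε))) (conj_mem_of_mem_norm n0 l.nM)) (inv_mem l.nM)
    refine w_not l hw ?_
    convert this using 1
    calc l.w = l.w * l.n * l.a * l.n⁻¹ * (l.n * l.a * l.n⁻¹)⁻¹ := by group
      _ = s * (l.a * ε) * (l.n * l.a * l.n⁻¹)⁻¹ := by rw [l.wn, mul_assoc l.n, e]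
      _ = _ := by group

variable {l} in
theorem KK.cent {K : Subgroup G} (h : KK l K) {d : G} (hd : d ∈ Ct l) (hc : ∀ k ∈ K, ⁅k, d⁆ ∈ zpowers l.t) :
    ∀ k ∈ K, d * k * d⁻¹ = k := by
  obtain ⟨e⟩ := h.iso
  have := GT.Frob.sl2_five_isPerfect
  have : Group.IsPerfect K := .ofSurjective (f := e.toMonoidHom) e.surjective
  have h1 : ⁅K, zpowers d⁆ ≤ zpowers l.t := (Loc.Mss.le_cmod.1 (zpowers_le.2 (Loc.Mss.mem_cmod.2
    ⟨cj_eq_iff.1 (by rw [cj_zpowers, mem_cen'.1 hd]), hc⟩))).2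
  have h2 : ⁅⁅K, zpowers d⁆, K⁆ = ⊥ := Loc.Mss.comm_eq_bot_iff.2 (h1.trans (zpowers_le.2 fun k hk =>
    mem_cen.1 (mem_inf.1 (h.le hk)).1))
  have h3 := commutator_commutator_eq_bot_of_rotate h2 (by rw [commutator_comm (zpowers d), h2])
  rw [commutator_eq_self] at h3
  exact fun k hk => fix_of (Loc.Mss.comm_eq_bot_iff.1 h3 hk d (mem_zpowers d))

theorem comm_C0 {g h : G} (hg : g ∈ Ct l) (hh : h ∈ Ct l) (e1 : g * m.z = m.z * g) (e2 : h * m.z = m.z * h) :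
    ⁅g, h⁆ ∈ C0 l := by
  have hb := mul_mem (wH l) (bH l)
  have k : ∀ g ∈ Ct l, g * m.z = m.z * g → ∃ x ∈ C0 l, ∃ i : ℕ, g = x * (l.w * l.b) ^ i := fun g hg e => by
    obtain ⟨x, hx, e'⟩ := H_cases l ⟨hg, m.mem_L_of e⟩
    have h1 := m.L0_le hx.2
    rcases e' with rfl | rfl | ⟨hw, rfl | rfl⟩
    · exact ⟨_, hx, 0, by simp⟩
    · exact absurd ((mem_cen'.1 ((mul_mem_cancel_left h1).1 (mem_cen.2 e))).symm.trans l.bz) z_ne
    · exact absurd ((mem_cen'.1 ((mul_mem_cancel_left h1).1 (mem_cen.2 e))).symm.trans (wz l hw)) z_ne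
    · exact ⟨_, hx, 1, by simp⟩
  obtain ⟨x, hx, i, rfl⟩ := k g hg e1
  obtain ⟨y, hy, j, rfl⟩ := k h hh e2
  have := mul_mem (mul_mem (mul_mem hx (conj_mem_of_mem_norm (H_norm l (pow_mem hb i)) hy))
    (conj_mem_of_mem_norm (H_norm l (pow_mem hb j)) (inv_mem hx))) (inv_mem hy)
  convert this using 1
  rw [commutatorElement_def]
  generalize l.w * l.b = c
  group

theorem rho_aux {Y : Type u} [Group Y] [Finite Y] {π : Ct l →* Y} (hq : Quo (zpowers l.t) (Ct l) π) :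
    (l.w = 1 → Nonempty (Y ≃* alternatingGroup (Fin 8))) ∧ (l.w ≠ 1 → Nonempty (Y ≃* Perm (Fin 8))) := by
  let z1 : Ct l := ⟨m.z, (zC0 l).1⟩
  let z2 : Ct l := ⟨z' l, mem_cen.2 (of_fix (tz' l)).symm⟩
  let n1 : Ct l := ⟨l.n, nC l⟩
  have hZ : m.Z ≤ Ct l := zpowers_le.2 z1.2
  have hZ3 : IsPGroup 3 m.Z := .of_card (n := 1) m.esz.card_zpowers
  have hi : img π m.Z = zpowers (π z1) := hq.img_zpowers z1
  have h1 : orderOf (π z1) = 3 := orderOf_eq_prime (by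
    rw [← map_pow, ← map_one π]; exact congrArg _ (Subtype.ext m.z_cube))
    fun h => m.esz.z_ne_one (S_t l (hq.eq_one.1 h) m.zS_mem.1)
  have h2 : π z1 * π z2 = π z2 * π z1 := by
    rw [← map_mul, ← map_mul]; exact congrArg _ (Subtype.ext (zz' l))
  have h3 : π z2 ∉ zpowers (π z1) := fun h => by
    obtain ⟨s, hs, ε, hε, e⟩ := (Loc.Mss.mem_sup_norm' (hZ.trans hq.norm)).1 ((hq.mem_img hZ).1 (hi ▸ h))
    have := S_t l hε ((mul_mem_cancel_left (m.QS (m.esz.zpowers_le hs))).1 (e ▸ m.JS (z'J l)))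
    rw [this, mul_one] at e
    exact z'_not l (e ▸ hs : (z2 : G) ∈ m.Z)
  have h4 : π n1 * π n1 = 1 := by rw [← map_mul, ← map_one π]; exact congrArg _ (Subtype.ext l.nn)
  have h5 : π n1 * π z1 * (π n1)⁻¹ = π z2 := by rw [← map_inv, ← map_mul, ← map_mul]; rfl
  let ψ : H l →* normalizer (zpowers (π z1) : Set Y) := (π.comp (inclusion inf_le_left)).codRestrict _
    fun x => hi ▸ hq.norm_of_norm hZ x.2.2
  have hψ : Function.Surjective ψ := fun q => by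
    obtain ⟨x, hx, e⟩ := hq.exists_norm (q := q) hZ hZ3 (by rw [hi]; exact q.2)
    exact ⟨⟨x, x.2, hx⟩, Subtype.ext e⟩
  have kψ : ∀ x, ψ x = 1 ↔ (x : G) ∈ zpowers l.t := fun x => Subtype.ext_iff.trans hq.eq_one
  have h6 : Nat.card (centralizer ({π z1 * π z2} : Set Y)) = Nat.card (E0 l) := by
    let θ : (Ct l ⊓ centralizer {y l} : Subgroup G) →* centralizer ({π z1 * π z2} : Set Y) :=
      (π.comp (inclusion inf_le_left)).codRestrict _ fun x => mem_cen.2 (by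
        simp only [MonoidHom.comp_apply, ← map_mul]
        exact congrArg _ (Subtype.ext (mem_cen.1 x.2.2)))
    have := card_of_ker (f := θ) (zpowers_le.2 (mem_inf.2 ⟨tC l, mem_cen'.2 (ty l)⟩)) (fun q => by
      obtain ⟨x, hx, e⟩ := hq.cent_elt (x := z1 * z2) (q := q) (m.J3 _ (yJ l))
        (by rw [map_mul]; exact mem_cen.1 q.2)
      exact ⟨⟨x, x.2, mem_cen.2 hx⟩, Subtype.ext e⟩) fun x => Subtype.ext_iff.trans hq.eq_one
    rw [card_E, Nat.card_zpowers, t_ord] at this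
    omega
  obtain ⟨φ, k1, k2, k3⟩ := exists_phi l
  refine ⟨fun hw => ?_, fun hw => ?_⟩
  · obtain ⟨e⟩ := McS.equiv_of_ker hψ φ.rangeRestrict_surjective fun x =>
      (kψ x).trans ((k1 x).symm.trans (Subtype.ext_iff (a1 := φ.rangeRestrict x) (a2 := 1)).symm)
    exact a8_of h1 h2 h3 h4 h5 (e.trans (MulEquiv.subgroupCongr (k2 hw))) (h6.trans ((card_E0 l).1 hw))
  obtain ⟨e⟩ := McS.equiv_of_ker hψ (k3 hw) fun x => (kψ x).trans (k1 x).symm
  refine s8_of h1 h2 h3 h4 h5 e (h6.trans ((card_E0 l).2 hw)) fun d hd hc h => ?_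
  obtain ⟨x, hx, rfl⟩ := hq.exists_norm (q := d) hZ hZ3
    (hi.symm ▸ cj_eq_iff.1 (by rw [cj_zpowers, hd, zpowers_inv]))
  have h7 : (x : G) * m.z * (x : G)⁻¹ = m.z⁻¹ := eq_inv_of_mul_eq_one_left (S_t l
    (hq.eq_one (x := x * z1 * x⁻¹ * z1) |>.1 (by simp only [map_mul, map_inv, hd, inv_mul_cancel]))
    (m.QS (m.esz.zpowers_le (mul_mem (m.cj_Z hx (mem_zpowers _)) (mem_zpowers _)))))
  obtain ⟨K, hK⟩ := exists_K l
  have hKC : K ≤ Ct l := hK.le.trans inf_le_left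
  have h8 := hK.cent x.2 fun k hk => by
    obtain ⟨e⟩ := hK.iso
    have := GT.Frob.sl2_five_isPerfect
    have : Group.IsPerfect ((π.comp (inclusion hKC)).comp e.toMonoidHom).range := .range _
    have h9 : ((π.comp (inclusion hKC)).comp e.toMonoidHom).range ≤ centralizer {π z1} := by
      rintro _ ⟨a, rfl⟩
      refine mem_cen.2 ?_
      simp only [MonoidHom.comp_apply, ← map_mul]
      exact congrArg _ (Subtype.ext (mem_cen.1 (m.L0_le (mem_inf.1 (hK.le (e a).2)).2)))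
    have := hc (π ⟨k, hKC hk⟩) (commutator_mono h9 h9 (commutator_eq_self.ge ⟨e.symm ⟨k, hk⟩, by
      simp only [MonoidHom.comp_apply, MulEquiv.coe_toMonoidHom, MulEquiv.apply_symm_apply]; rfl⟩))
    exact (hq.eq_one (x := ⁅(⟨k, hKC hk⟩ : Ct l), x⁆)).1 (by
      rw [map_commutatorElement, commutatorElement_eq_one_iff_commute]; exact this.symm)
  have h9 : ⁅centralizer ({π z1} : Set Y), centralizer ({π z1} : Set Y)⁆ ≤ img π (C0 l) :=
    commutator_le.2 fun a ha b hb => by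
      obtain ⟨a, ha', rfl⟩ := hq.cent_elt (x := z1) m.z_cube (mem_cen.1 ha)
      obtain ⟨b, hb', rfl⟩ := hq.cent_elt (x := z1) m.z_cube (mem_cen.1 hb)
      rw [← map_commutatorElement]
      exact mem_img_of_mem _ (comm_C0 l a.2 b.2 ha' hb')
  have h10 : l.n * x * l.n⁻¹ ∈ m.L0 := (sup_le inf_le_right (zpowers_le.2 (tL0 l)))
    ((hq.mem_img (x := n1 * x * n1⁻¹) inf_le_left).1 (by simpa only [map_mul, map_inv] using h9 h))
  obtain ⟨s, hs, ε, hε, e | ⟨-, e⟩⟩ := F2 l ⟨x.2, hx⟩ (h8 _ hK.a) (h8 _ hK.z')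
  · rw [e, cjc (fix_zp hε (tz l)), fix_zp hs (by group)] at h7
    exact z_ne h7
  · rw [e, cjm, cjm, fix_of (of_fix (fix_zp hε (fix_of (nt l).symm))).symm,
      mul_mem_cancel_right (zpowers_le.2 (tL0 l) hε),
      mul_mem_cancel_left (mem_inf.1 (D_le l (nD l (mem_sup_left hs)))).2] at h10
    exact nwa_not l hw h10

theorem exists_rho : ∃ ρ : Ct l →* Perm (Fin 8), (∀ x, ρ x = 1 ↔ (x : G) ∈ zpowers l.t) ∧
    (l.w = 1 → ρ.range = alternatingGroup (Fin 8)) ∧ (l.w ≠ 1 → Function.Surjective ρ) := by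
  have hs : Sec (zpowers l.t) (Ct l) := ⟨zpowers_le.2 (tC l), fun g hg => cj_eq_iff.1 (by
    rw [cj_zpowers, mem_cen'.1 hg]), by rw [Nat.card_zpowers, t_ord]; norm_num⟩
  have := hs.normal
  have hq := hs.quo
  by_cases hw : l.w = 1
  · obtain ⟨e⟩ := (rho_aux l hq).1 hw
    refine ⟨(alternatingGroup (Fin 8)).subtype.comp (e.toMonoidHom.comp (QuotientGroup.mk' _)), fun x => ?_,
      fun _ => ?_, fun h => absurd hw h⟩
    · rw [← hq.eq_one, ← e.map_eq_one_iff]; exact (Subtype.ext_iff (a1 := e _) (a2 := 1)).symm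
    · rw [MonoidHom.range_comp, MonoidHom.range_eq_top.2 (e.surjective.comp hq.surj), ← MonoidHom.range_eq_map,
        range_subtype]
  · obtain ⟨e⟩ := (rho_aux l hq).2 hw
    exact ⟨e.toMonoidHom.comp (QuotientGroup.mk' _), fun x => by rw [← hq.eq_one, ← e.map_eq_one_iff]; rfl,
      fun h => absurd h hw, fun _ => e.surjective.comp hq.surj⟩

end Cfsg.Agent.T16.McH
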