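import Mathlib
import Cfsg.Agent.T16.McLA
import Cfsg.Agent.S3334
import Cfsg.Agent.T16.McLB
import Cfsg.Agent.T16.McLQ
import Cfsg.Agent.GT.TransferCocycle
import Cfsg.Agent.Inv.SylowElt

/-! The McLaughlin group from its 3-local subgroups. -/

set_option autoImplicit false
set_option linter.unusedSectionVars false

namespace Cfsg.Agent.T16.McH

open Cfsg.Agent.Rec Cfsg.Agent.Inv.Fz Subgroup Y Equiv
open A9 (cjm cjc cjs cjcomm cjp)

universe u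

variable {G : Type u} [Group G] [Finite G] {m : Mc G} (l : m.Let)

include l in
/-- `Z` is the only singular point in `W`. -/
theorem W_conj {h : G} (hM : h ∈ m.M) (hQ : h * m.z * h⁻¹ ∈ m.Q) : h * m.z * h⁻¹ ∈ m.Z := by
  have : Fact (Nat.Prime 3) := ⟨Nat.prime_three⟩
  by_contra h0
  obtain ⟨q, hq, hqJ⟩ : ∃ q ∈ centralizer {h * m.z * h⁻¹} ⊓ m.Q, q ∉ m.J := by
    by_contra h1
    push Not at h1
    have h2 := card_mul_relIndex (inf_le_right : centralizer {h * m.z * h⁻¹} ⊓ m.Q ≤ m.Q)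
    rw [inf_relIndex_right, m.esz.relIndex_centralizer hQ h0, m.cQ] at h2
    have h3 := card_le_of_le (show centralizer {h * m.z * h⁻¹} ⊓ m.Q ≤ m.W from le_inf h1 inf_le_right)
    rw [m.card_W] at h3
    omega
  have hqS := m.QS hq.2
  have h1 : h⁻¹ * q * h ∈ m.B := m.B_eq.ge <| mem_inf.2 ⟨mul_mem (mul_mem (inv_mem hM) (m.B_le_M (le_normalizer hqS))) hM,
    m.mem_L_of (by
      calc _ = h⁻¹ * (q * (h * m.z * h⁻¹)) * h := by group
        _ = _ := by rw [mem_cen.1 hq.1]; group)⟩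
  have h2 : h⁻¹ * q * h ∈ m.S := (m.syl.eq_of_le (Loc.Mss.pg_sup (IsPGroup.of_card_dvd_pow (n := 1) (by
    rw [Nat.card_zpowers, pow_one]
    exact orderOf_dvd_of_pow_eq_one (by simpa using cjp (g := h⁻¹) (m.Q3 q hq.2))))
      m.syl.isPGroup (zpowers_le.2 h1)) le_top le_sup_right).le (mem_sup_left (mem_zpowers _))
  obtain ⟨x, hx, c, hc, rfl⟩ := m.exists_M hM
  have hq0 := m.S_le_M0 hqS
  have h3 := McS.a6_ti (g := l.f ⟨x, hx⟩) (p := l.f ⟨q, hq0⟩) (l.f_range.le ⟨_, rfl⟩) (l.f_range.le ⟨_, rfl⟩)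
    ((l.f_S _).1 hqS) (fun e => hqJ ((l.f_ker _).1 e)) (by
      rw [← map_inv, ← map_mul, ← map_mul]
      refine (l.f_S _).1 ?_
      have := conj_mem_of_mem_norm hc h2
      convert this using 1; push_cast; group)
  have h4 : x ∈ m.B := mem_normalizer_of_conj_mem fun s hs => by
    have := cj_le_iff.1 h3 _ ((l.f_S ⟨s, m.S_le_M0 hs⟩).1 hs)
    rw [← map_inv, ← map_mul, ← map_mul] at this
    exact (l.f_S _).2 this
  exact h0 (m.cj_Z (m.B_eq.le (mul_mem h4 hc)).2 (mem_zpowers _))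

theorem not_conj (hw : l.w ≠ 1) (hc : Nat.card (Ct l) = 80640) : ¬ IsConj (l.w * l.t) l.t := fun h => by
  have : Fact (Nat.Prime 3) := ⟨Nat.prime_three⟩
  obtain ⟨g, hg⟩ := isConj_iff.1 h
  have hw' := l.wJ.resolve_left hw
  have hD := isSylIn_of_card (p := 3) ((D_le l).trans inf_le_left) (k := 2) (m := 8960) (card_D l) hc (by norm_num)
  have h1 : m.J ≤ D l ⊔ (m.J ⊓ centralizer {l.w * l.t}) := fun x hx => by
    obtain ⟨k, hk, j, hj, e1, e2, rfl⟩ := exists_fixed_mul_inverted (by rw [m.cJ]; decide) l.tt (tM l) hx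
    refine mul_mem (mem_sup_left ((D_eq l).ge ⟨m.JS hk, mem_cen.2 e1⟩)) (mem_sup_right ⟨hj, mem_cen.2 ?_⟩)
    exact (of_fix (by rw [cjc e2, hw' _ (inv_mem hj), inv_inv])).symm
  have h2 := GT.PG.card_sup_mul_card_inf (H := D l) (N := m.J ⊓ centralizer {l.w * l.t}) fun d hd =>
    mem_normalizer_of_conj_mem fun x hx => (fixD l hd hx.1).symm ▸ hx
  have h3 := card_le_of_le h1
  have h4 : 0 < Nat.card (D l ⊓ (m.J ⊓ centralizer {l.w * l.t}) : Subgroup G) := Nat.card_pos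
  rw [m.cJ] at h3
  rw [card_D] at h2
  obtain ⟨k, -, e⟩ := hD.exists_cj_eq (hD.of_card_ge (R := cj g (m.J ⊓ centralizer {l.w * l.t}))
    (isPGroup_cj (m.syl.isPGroup.to_le (inf_le_left.trans m.JS)) g)
    (by rw [cj_inf, cj_centralizer_singleton, hg]; exact inf_le_right) (by rw [card_cj, card_D]; nlinarith))
  rw [cj_cj] at e
  have h5 := mem_cj.1 (e.ge (mem_sup_left (mem_zpowers m.z)))
  obtain ⟨r, hr, e'⟩ := m.fuse (g := (k * g)⁻¹) m.z_mem_J (by rw [inv_inv]; exact h5.1)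
  rw [← inv_inv (k * g), inv_inv (k * g)⁻¹, ← e'] at h5
  obtain ⟨x, hx⟩ : ∃ x, x = r * m.z * r⁻¹ := ⟨_, rfl⟩
  rw [← hx] at h5
  have h6 : l.t * x * l.t⁻¹ = x⁻¹ := by
    have := fix_of (mem_cen.1 h5.2).symm
    rw [cjc rfl, hw' _ (cjJ (tM l) h5.1)] at this
    exact inv_eq_iff_eq_inv.1 this
  have h7 : x ∈ m.Q := by
    have := l.tL x (m.S_le_L0 (m.JS h5.1))
    rw [h6] at this
    exact inv_mem_iff.1 (mem_of_sq (by rw [inv_pow, m.J3 _ h5.1, inv_one]) this)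
  have h8 := fix_of (of_fix (fix_zp (hx ▸ W_conj l hr (hx ▸ h7)) (fix_of (of_fix (tz l)).symm))).symm
  exact m.esz.z_ne_one (conj_eq_one.1 (hx ▸ eq_one_of_eq_inv (m.J3 _ h5.1) (h8.symm.trans h6)))

theorem n_not : l.n ∉ zpowers l.t := fun h => l.nz (by rw [fix_zp h (tz l)]; exact mem_zpowers _)

section Two

variable {l} {ρ : Ct l →* Perm (Fin 8)} (hk : ∀ x, ρ x = 1 ↔ (x : G) ∈ zpowers l.t) (hs : Function.Surjective ρ)
include hk hs

theorem lift {x y : Ct l} (h : IsConj (ρ x) (ρ y)) : ∃ g : G, g * x * g⁻¹ = y ∨ g * x * g⁻¹ = l.t * y := by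
  obtain ⟨c, hc⟩ := isConj_iff.1 h
  obtain ⟨g, rfl⟩ := hs c
  exact ⟨g, (mem_t l ((hk (g * x * g⁻¹ * y⁻¹)).1 (by simp only [map_mul, map_inv, hc, mul_inv_cancel]))).imp
    mul_inv_eq_one.1 mul_inv_eq_iff_eq_mul.1⟩

theorem lift_sq {x y : Ct l} (hx : (x : G) * x = 1) (hy : (y : G) * y = l.t) : ¬ IsConj (ρ x) (ρ y) := fun h => by
  obtain ⟨g, e | e⟩ := lift hk hs h
  · exact t_ne l (by rw [← hy, ← e, conj_sq hx])
  · have := conj_sq (g := g) hx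
    rw [e, ← mem_cen.1 y.2, mul_assoc, mem_cen.1 y.2, ← mul_assoc l.t, l.tt, one_mul, hy] at this
    exact t_ne l this

theorem lift_n {x : Ct l} (h : IsConj (ρ x) (ρ ⟨l.n, nC l⟩)) : IsConj (x : G) l.t := by
  obtain ⟨g, e | e⟩ := lift hk hs h
  · exact (isConj_iff.2 ⟨g, e⟩).trans (isConj_iff.2 ⟨_, l.vt⟩).symm
  · exact ((isConj_iff.2 ⟨g, e⟩).trans (isConj_iff.2 ⟨_, l.vn⟩).symm).trans (isConj_iff.2 ⟨_, l.vt⟩).symm

omit hs in
theorem rho_sq {x : Ct l} (h : (x : G) * x = 1 ∨ (x : G) * x = l.t) : ρ x * ρ x = 1 := by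
  rw [← map_mul, hk]
  rcases h with h | h <;> simp only [coe_mul, h]
  exacts [one_mem _, mem_zpowers _]

omit hk hs in
theorem sign_C0 {x : Ct l} (hx : (x : G) ∈ C0 l) : Perm.sign (ρ x) = 1 := by
  obtain ⟨K, hK⟩ := exists_K l
  obtain ⟨k, hk, s, hs, e⟩ := hK.mul x hx
  have hKC : K ≤ Ct l := hK.le.trans inf_le_left
  have hsC : s ∈ Ct l := zpowers_le.2 (zC0 l).1 hs
  have h1 : Perm.sign (ρ ⟨s, hsC⟩) ^ 3 = 1 := by
    rw [← map_pow, ← map_pow, show (⟨s, hsC⟩ : Ct l) ^ 3 = 1 from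
      Subtype.ext (m.esz.pow_eq_one_of_mem_zpowers hs), map_one, map_one]
  rw [show x = ⟨k, hKC hk⟩ * ⟨s, hsC⟩ from Subtype.ext e, map_mul, map_mul,
    show Perm.sign (ρ ⟨k, hKC hk⟩) = 1 from hK.hom hKC (Perm.sign.comp ρ) hk, one_mul]
  rwa [pow_succ, Int.units_sq, one_mul] at h1

theorem sign_wb (hw : l.w ≠ 1) : Perm.sign (ρ ⟨l.w * l.b, mul_mem (wC l) (bC l)⟩) = -1 := by
  have hq : Quo (zpowers l.t) (Ct l) ρ := ⟨⟨zpowers_le.2 (tC l), fun g hg => cj_eq_iff.1 (by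
    rw [cj_zpowers, mem_cen'.1 hg]), by rw [Nat.card_zpowers, t_ord]; norm_num⟩, hs, Subgroup.ext hk⟩
  obtain ⟨c, h1, h2⟩ := McS.s8_odd (x := ρ ⟨m.z, (zC0 l).1⟩) (by
    rw [← map_pow, ← map_one ρ]; exact congrArg _ (Subtype.ext m.z_cube))
  obtain ⟨y, hy, rfl⟩ := hq.cent_elt m.z_cube h2
  obtain ⟨x, hx, e⟩ := H_cases l ⟨y.2, m.mem_L_of hy⟩
  have h3 := m.L0_le hx.2
  have h4 := mem_cen.2 hy
  rcases e with e | e | ⟨-, e | e⟩
  · rw [sign_C0 (e ▸ hx)] at h1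
    exact absurd h1 (by decide)
  · exact absurd ((mem_cen'.1 ((mul_mem_cancel_left h3).1 (e ▸ h4))).symm.trans l.bz) z_ne
  · exact absurd ((mem_cen'.1 ((mul_mem_cancel_left h3).1 (e ▸ h4))).symm.trans (wz l hw)) z_ne
  · rwa [show y = ⟨x, hx.1⟩ * ⟨l.w * l.b, mul_mem (wC l) (bC l)⟩ from Subtype.ext e, map_mul, map_mul,
      sign_C0 hx, one_mul] at h1

omit hs in
theorem sign_b : Perm.sign (ρ ⟨l.b, bC l⟩) = 1 := by
  have h1 : l.n * l.a * l.n⁻¹ * l.a⁻¹ ∈ m.M0 := by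
    simpa only [mul_assoc] using mul_mem l.nM (conj_mem_of_mem_norm (le_norm_o3 _ (aM l)) (inv_mem l.nM))
  have h2 : l.n * l.a * l.n⁻¹ * l.a⁻¹ * m.z * (l.n * l.a * l.n⁻¹ * l.a⁻¹)⁻¹ = m.z⁻¹ := by
    rw [cjc (cjs l.az), cjc (cjs (nz' l)), cjc (az' l), cji, nz']
  let x : Ct l := ⟨l.n, nC l⟩ * ⟨l.a, aC l⟩ * (⟨l.n, nC l⟩ : Ct l)⁻¹ * (⟨l.a, aC l⟩ : Ct l)⁻¹
  have h3 : Perm.sign (ρ x) = 1 := by
    simp only [x, map_mul, map_inv]
    rw [mul_right_comm _ _ (_⁻¹), mul_inv_cancel_right, mul_inv_cancel]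
  obtain ⟨d, hd, ε, hε, e⟩ := M0_cen l h1 x.2
  have h4 := fix_zp hε (tz l)
  rcases e with e | e | e | e <;> rw [e] at h2
  · rw [cjc h4, fixD l hd m.z_mem_J] at h2
    exact absurd h2 z_ne
  · rwa [show x = ⟨d, (mem_inf.1 (D_le l hd)).1⟩ * (⟨l.b, bC l⟩ * ⟨ε, zpowers_le.2 (tC l) hε⟩) from Subtype.ext e,
      map_mul ρ, map_mul ρ, (hk ⟨ε, _⟩).2 hε, mul_one, map_mul, sign_C0 (D_le l hd), one_mul] at h3
  · rw [cjc (cjc h4), fixD l hd (cjJ (nM l) m.z_mem_J)] at h2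
    exact absurd (h2 ▸ inv_mem (mem_zpowers _)) l.nz
  · rw [cjc (cjc (cjc h4 |>.trans l.bz)), cji, cji, fixD l hd (cjJ (nM l) m.z_mem_J), inv_inj] at h2
    exact absurd (h2.symm ▸ mem_zpowers m.z) l.nz

theorem card_Ct : Nat.card (Ct l) = 80640 := by
  rw [card_of_ker (zpowers_le.2 (tC l)) hs hk, Nat.card_zpowers, t_ord, Nat.card_perm]
  simp [Nat.factorial]

theorem wt2 : l.w * l.t * (l.w * l.t) = 1 := by
  rw [mul_assoc, ← mul_assoc l.t, ← mem_cen.1 (wC l), mul_assoc, l.tt, mul_one, l.ww]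

theorem sign_wt (hw : l.w ≠ 1) : Perm.sign (ρ ⟨l.w * l.t, mul_mem (wC l) (tC l)⟩) = -1 := by
  rw [← sign_wb hk hs hw, show (⟨l.w * l.t, mul_mem (wC l) (tC l)⟩ : Ct l) =
    ⟨l.w * l.b, mul_mem (wC l) (bC l)⟩ * ⟨l.b, bC l⟩ from Subtype.ext (by simp only [coe_mul, mul_assoc, l.bb]),
    map_mul, map_mul, sign_b hk, mul_one]

theorem invol (hw : l.w ≠ 1) {x : Ct l} (h2 : (x : G) * x = 1) (h1 : (x : G) ≠ 1) (h : Perm.sign (ρ x) = 1) :
    IsConj (x : G) l.t := by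
  have n1 : ρ ⟨l.n, nC l⟩ ≠ 1 := fun e => n_not l ((hk _).1 e)
  have k : ∀ y, Perm.sign (ρ y) = -1 → ρ y ≠ 1 := fun y h e => by rw [e, map_one] at h; exact absurd h (by decide)
  have hn : Perm.sign (ρ ⟨l.n, nC l⟩) = 1 := (Int.units_eq_one_or _).resolve_right fun e => by
    rcases McS.s8_three (rho_sq hk (.inl (wt2 hk hs))) (rho_sq hk (.inl l.nn)) (rho_sq hk (.inr (wb2 l)))
      (k _ (sign_wt hk hs hw)) n1 (k _ (sign_wb hk hs hw)) ((sign_wt hk hs hw).trans e.symm)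
      ((sign_wt hk hs hw).trans (sign_wb hk hs hw).symm) with e | e | e
    · exact not_conj l hw (card_Ct hk hs) (lift_n hk hs e)
    · exact lift_sq hk hs (wt2 hk hs) (wb2 l) e
    · exact lift_sq hk hs l.nn (wb2 l) e
  by_cases h0 : ρ x = 1
  · rw [(mem_t l ((hk x).1 h0)).resolve_left h1]
  rcases McS.s8_three (rho_sq hk (.inl h2)) (rho_sq hk (.inl l.nn)) (rho_sq hk (x := ⟨l.a, aC l⟩) (.inr l.aa)) h0 n1
    (fun e => z'_ne l ((fix_zp ((hk _).1 e) (tz' l)).symm.trans (az' l))) (h.trans hn.symm)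
    (h.trans (sign_C0 ⟨aC l, l.aL⟩).symm) with e | e | e
  · exact lift_n hk hs e
  · exact absurd e (lift_sq hk hs h2 l.aa)
  · exact absurd e (lift_sq hk hs l.nn l.aa)

theorem odd_index (hw : l.w ≠ 1) : ¬ 2 ∣ (Ct l).index := by
  obtain ⟨P, hP, htP⟩ := exists_isSylIn (p := 2) (Q := zpowers l.t)
    (.of_card (n := 1) (by rw [Nat.card_zpowers, t_ord]; rfl)) (zpowers_le.2 (tC l))
  obtain ⟨R, hR, hPR⟩ := exists_isSylIn hP.isPGroup le_top
  obtain ⟨x, -, ho, hx⟩ := Inv.exists_central_of_isPGroup hR.isPGroup fun e =>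
    t_ne l (mem_bot.1 (e.le (hPR (htP (mem_zpowers _)))))
  have hxC : x ∈ Ct l := mem_cen.2 (hx _ (hPR (htP (mem_zpowers _)))).symm
  have x2 : x * x = 1 := by rw [← sq, ← ho, pow_orderOf_eq_one]
  obtain ⟨c, hc⟩ := hs (finRotate 8)
  obtain ⟨g, hg, h1⟩ := exists_conj_mem_syl hP c.2 (k := 4) (by
    have := (hk (c ^ 8)).1 (by rw [map_pow, hc]; decide +kernel)
    rw [show 2 ^ 4 = 8 * 2 from rfl, pow_mul, ← t_ord l, ← Nat.card_zpowers]
    exact congrArg Subtype.val (pow_card_eq_one' (x := (⟨_, this⟩ : zpowers l.t))))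
  let y : Ct l := (⟨g, hg⟩ : Ct l)⁻¹ * ⟨x, hxC⟩ * (⟨g, hg⟩ : Ct l)⁻¹⁻¹
  have y2 : (y : G) * y = 1 := conj_sq x2
  obtain ⟨r, hr⟩ := isConj_iff.1 ((isConj_iff.2 ⟨g⁻¹, rfl⟩ : IsConj x y).trans (invol hk hs hw y2
    (fun e => by rw [show x = 1 from conj_eq_one.1 e, orderOf_one] at ho; omega) (McS.s8_rot (rho_sq hk (.inl y2)) (by
      rw [← hc, ← map_mul, ← map_mul]
      refine congrArg _ (Subtype.ext ?_)
      have := cjcomm (g := g⁻¹) (hx _ (hPR h1)).symm.eq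
      rwa [cjs rfl] at this))))
  have h2 : cj r R ≤ Ct l := by
    rw [Ct, ← hr, ← cj_centralizer_singleton]
    exact cj_mono fun s hs => mem_cen.2 (hx s hs)
  have h3 := (hR.cj r).not_dvd_relIndex
  rw [cj_eq_of_normal r ⊤, relIndex_top_right] at h3
  exact fun h => h3 (h.trans (index_dvd_of_le h2))

theorem case_two (hw : l.w ≠ 1) : ∃ G0 : Subgroup G, G0.Normal ∧ G0.index = 2 ∧
    centralizer (G0 : Set G) = ⊥ ∧ Nonempty (G0 ≃* Cfsg.Spor.McL) := by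
  have h1 : (((alternatingGroup (Fin 8)).comap ρ).map (Ct l).subtype).relIndex (Ct l) = 2 := by
    rw [relIndex, subgroupOf, comap_map_eq_self_of_injective (subtype_injective _),
      index_comap_of_surjective _ hs, alternatingGroup.index_eq_two]
  obtain ⟨G0, hn, hi, hu⟩ := (GT.Tr.thompson_transfer_index_two (odd_index hk hs hw) h1 (u := l.w * l.t)
    (by rw [sq, wt2 hk hs])).resolve_right fun ⟨g, x, hx, e⟩ => not_conj l hw (card_Ct hk hs)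
      ((isConj_iff.2 ⟨g, e.symm⟩).trans (invol hk hs hw (x := x) (e.symm ▸ conj_sq (wt2 hk hs) :
        (Ct l).subtype x * (Ct l).subtype x = 1) (fun e' => by
          have := sign_wt hk hs hw
          rw [show (⟨l.w * l.t, _⟩ : Ct l) = 1 from Subtype.ext (conj_eq_one.1 (e.symm.trans e')), map_one,
            map_one] at this
          exact absurd this (by decide)) (Perm.mem_alternatingGroup.1 hx)))
  have h3 : ∀ H : Subgroup G, o3 H ≤ G0 := fun H => (closure_le _).2 fun g ⟨_, k, hk⟩ =>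
    zpowers_le.2 (sq_mem_of_index_two hi g) (mem_zpowers_pow_iff.2
      (hk ▸ Nat.Coprime.pow_right k (by norm_num)))
  have ht : l.t ∈ G0 := h3 _ (tL0 l)
  refine ⟨G0, hn, hi, eq_bot_iff.2 fun c hc => ?_, ?_⟩
  · have h4 : c ∈ m.Z := m.zS.le ⟨m.JS (m.cent_J.le fun j hj => hc j (h3 _ (m.S_le_M0 (m.JS hj)))),
      fun s hs => hc s (h3 _ (m.S_le_M0 hs))⟩
    have h5 := fix_of (hc _ (h3 _ l.bM))
    rcases mem_zpowers_three m.z_cube h4 with e | e | e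
    · exact e
    · rw [e] at h5; exact absurd (h5.symm.trans l.bz) z_ne
    · rw [e, cji, inv_inj] at h5; exact absurd (h5.symm.trans l.bz) z_ne
  let ι : centralizer {(⟨l.t, ht⟩ : G0)} →* Ct l := (G0.subtype.comp (Subgroup.subtype _)).codRestrict _
    fun x => mem_cen.2 (congrArg Subtype.val (mem_cen.1 x.2))
  refine McS.mcl_of (t := ⟨l.t, ht⟩) (a := ⟨l.a, h3 _ l.aL⟩) (v := ⟨l.v, h3 _ l.vM⟩) (Subtype.ext l.aa)
    (Subtype.ext l.tt) (fun e => t_ne l (congrArg Subtype.val e)) (Subtype.ext ?_)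
    (fun e => n_not l (by rw [← l.vt, show l.v * l.t * l.v⁻¹ = l.t from congrArg Subtype.val e]; exact mem_zpowers _))
    (ρ.comp ι) (Perm.eq_alternatingGroup_of_index_eq_two ?_) fun x => (hk _).trans ?_
  · simpa only [coe_mul, coe_inv, l.vt] using nt l
  · have h4 : ι.range = G0.subgroupOf (Ct l) := le_antisymm (by rintro _ ⟨x, rfl⟩; exact x.1.2)
      fun x hx => ⟨⟨⟨x, hx⟩, mem_cen.2 (Subtype.ext (mem_cen.1 x.2))⟩, rfl⟩
    rw [MonoidHom.range_comp, h4, index_map_eq _ hs fun x hx => zpowers_le.2 ht ((hk x).1 hx)]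
    have h5 := relIndex_dvd_index_of_normal G0 (Ct l)
    rw [hi] at h5
    exact ((Nat.dvd_prime Nat.prime_two).1 h5).resolve_left fun e =>
      hu (relIndex_eq_one.1 e (mul_mem (wC l) (tC l)))
  · exact ⟨fun ⟨k, e⟩ => ⟨k, Subtype.ext e⟩, fun ⟨k, e⟩ => ⟨k, congrArg Subtype.val e⟩⟩

end Two

end Cfsg.Agent.T16.McH

namespace Cfsg.Agent.T16.Mc

open Subgroup

universe u

variable {G : Type u} [Group G] [Finite G] (m : Mc G)

include m in
theorem main : Nonempty (G ≃* Cfsg.Spor.McL) ∨ ∃ G0 : Subgroup G, G0.Normal ∧ G0.index = 2 ∧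
    centralizer (G0 : Set G) = ⊥ ∧ Nonempty (G0 ≃* Cfsg.Spor.McL) := by
  obtain ⟨l⟩ := m.exists_let
  obtain ⟨ρ, hk, h1, h2⟩ := McH.exists_rho l
  by_cases hw : l.w = 1
  · exact .inl (McS.mcl_of l.aa l.tt (McH.t_ne l) (l.vt.symm ▸ Y.nt l)
      (fun e => McH.n_not l (by rw [← l.vt, e]; exact mem_zpowers _)) ρ (h1 hw) hk)
  · exact .inr (McH.case_two hk (h2 hw) hw)

end Cfsg.Agent.T16.Mc
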