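import Mathlib
import Cfsg.Agent.T16.S8One
import Cfsg.Agent.T16.S6Fact
import Cfsg.Agent.T16.SDData
import Cfsg.Agent.T16.A8One

/-!
Groups with a subgroup of order three whose normaliser is `S₃ × S₅`: the case with two commuting subgroups `A₅`.
-/

set_option autoImplicit false
set_option synthInstance.maxSize 100000
set_option synthInstance.maxHeartbeats 1000000
set_option linter.unusedSectionVars false

namespace Cfsg.Agent.T16.S8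

open Cfsg.Agent.Spor Cfsg.Agent.Rec Cfsg.Agent.Inv.Fz Subgroup Equiv
open Cfsg.Agent.T16.A8 (P8 P8_ok cjm cjc cjs cjcomm cj_inv2 pm_le_normalizer pow_card_cen no3)

universe u

variable {G : Type u} [Group G] [Finite G]

namespace St0

variable (s : St0 G)

/-- The four-group on `4567`. -/
def V : Subgroup G := clos [s.x, s.v]
/-- A subgroup `S₃` of `A₅`. -/
def R3 : Subgroup G := clos [s.c2, s.δ]
/-- The four-group generated by `d1` and `δ`. -/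
def F : Subgroup G := clos [s.d1, s.δ]

theorem gV : s.C.Lists A8.V_t.dom s.V ∧ Nat.card s.V = 4 := (s.rep.pick [9, 10]).gen A8.V_ok

theorem hD : s.C.ListsL [A8.V_t.dom, R3_t.dom, F_t.dom, N1_t.dom, K1_t.dom, D_t.dom, E_t.dom, H0_t.dom, U_t.dom, W_t.dom]
    [s.V, s.R3, s.F, s.N1, s.K1, s.D, s.E, s.H0, s.U, s.W] :=
  s.gV.1.cons <| ((s.rep.pick [6, 7]).gen R3_ok).1.cons <| ((s.rep.pick [1, 7]).gen F_ok).1.cons s.hL

theorem p1 : ∀ a ∈ s.V, s.c2 * a * s.c2⁻¹ ∈ s.V ∧ a * s.a0 = s.a0 * a ∧ a * s.d1 = s.d1 * a ∧ ∀ b ∈ s.V, a * b = b * a :=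
  s.hD.decide s.rep (by decide +kernel)
theorem p2 : ∀ g ∈ s.N1, g * s.a0 = s.a0 * g → g * s.x = s.x * g → g * s.v = s.v * g →
    g ∈ s.V ∨ s.a0 * g ∈ s.V ∨ s.a0⁻¹ * g ∈ s.V := s.hD.decide s.rep (by decide +kernel)
theorem p3 : ∀ g ∈ s.N1, g * s.a0 = s.a0 * g → g = 1 ∨ g = s.τ ∨ ∃ a ∈ s.R3, Let (g * (a * g * a⁻¹)) fun h =>
    ∃ b ∈ s.R3, orderOf (((h * (b * h * b⁻¹)) ^ 4) ^ 5) = 3 := s.hD.decide s.rep (by decide +kernel)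
theorem p4 : ∀ k ∈ s.K1, s.τ * k * s.τ⁻¹ ∈ s.K1 ∧ s.b4 * k * s.b4⁻¹ ∈ s.K1 ∧ s.b5 * k * s.b5⁻¹ ∈ s.K1 ∧
    s.b6 * k * s.b6⁻¹ ∈ s.K1 := s.hD.decide s.rep (by decide +kernel)

theorem xV : s.x ∈ s.V := mem_clos (by simp)
theorem vV : s.v ∈ s.V := mem_clos (by simp)

theorem N1_K1 : s.N1 ≤ normalizer (s.K1 : Set G) := clos_le.2 (by
  simp only [List.forall_mem_cons]
  exact ⟨mem_normalizer_of_conj_mem fun k hk => by rwa [← (s.n10 k hk).1, mul_inv_cancel_right],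
    mem_normalizer_of_conj_mem fun k hk => by rwa [← (s.n10 k hk).2, mul_inv_cancel_right],
    mem_normalizer_of_conj_mem fun k hk => (s.p4 k hk).1, mem_normalizer_of_conj_mem fun k hk => (s.p4 k hk).2.1,
    mem_normalizer_of_conj_mem fun k hk => (s.p4 k hk).2.2.1, mem_normalizer_of_conj_mem fun k hk => (s.p4 k hk).2.2.2,
    by simp⟩)

theorem K1_le {X : Subgroup G} (h : X ≤ s.N1) (hX : ¬ Group.IsSolvable X) : s.K1 ≤ X := by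
  by_contra hK
  have := (normal_subgroupOf_iff_le_normalizer s.le.2.2.2.2).2 s.N1_K1
  have h1 : Group.IsSolvable (X ⊓ s.K1 : Subgroup G) := Perm.CompLen.isSolvable_of_card_lt_sixty
    (s.gK1.2 ▸ card_lt_of_lt (inf_lt_right.2 hK))
  have h2 : Group.IsSolvable (s.N1 ⧸ s.K1.subgroupOf s.N1) := Perm.CompLen.isSolvable_of_card_lt_sixty (by
    have := card_mul_relIndex s.le.2.2.2.2
    rw [s.gK1.2, s.gN.2] at this
    change s.K1.relIndex s.N1 < 60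
    omega)
  refine hX (Group.isSolvable_of_ker_le_range (inclusion (inf_le_left : X ⊓ s.K1 ≤ X))
    ((QuotientGroup.mk' (s.K1.subgroupOf s.N1)).comp (inclusion h)) fun a ha => ⟨⟨a, a.2, ?_⟩, rfl⟩)
  exact mem_subgroupOf.1 ((QuotientGroup.eq_one_iff (N := s.K1.subgroupOf s.N1) (inclusion h a)).1 ha)

end St0

namespace St

variable (s : St G)

theorem sig {N H : Subgroup G} (hN : (Nat.card N).Coprime 3) (hD : s.D ≤ normalizer (N : Set G))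
    (h1 : ∀ n ∈ N, n * s.a0 = s.a0 * n → n ∈ H) (h2 : ∀ n ∈ N, n * s.c2 = s.c2 * n → n ∈ H) : N ≤ H := by
  refine GT.CopAct.le_of_centralizer_elt_le (A := s.D)
    ⟨⟨fun a b => Subtype.ext ((s.n4 _ b.2).2.2 _ (s.le.1 a.2))⟩⟩ (fun hc => ?_) hD
    (by rw [s.gD.2]; exact (Nat.Coprime.pow_right 2 hN).symm) fun a ha a1 n hn => ?_
  · obtain ⟨g, hg⟩ := isCyclic_iff_exists_orderOf_eq_natCard.1 hc
    have h4 := Nat.le_of_dvd (by norm_num) (orderOf_dvd_of_pow_eq_one (x := g) (Subtype.ext (s.n4 _ g.2).1))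
    rw [hg, s.gD.2] at h4
    omega
  refine s.cen_le ha a1 (P := (· ∈ N)) (fun g h hg => h1 g hg h) (fun g h hg => h2 g hg h) (fun m hm n h hn => ?_)
    (mem_cen.1 hn.2) hn.1
  have h5 : n * s.a0 * n⁻¹ * s.a0⁻¹ ∈ N := by
    have := N.mul_mem hn (conj_mem_of_mem_norm (hD s.a0D) (N.inv_mem hn))
    simpa only [mul_assoc] using this
  have h6 := (s.n4 _ (mul_mem (conj_mem_of_mem_norm (s.normD (s.mixed_norm hm h)) s.a0D)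
    (inv_mem s.a0D))).2.1.resolve_right (no3 hN h5)
  exact h1 n hn (mul_inv_eq_iff_eq_mul.1 (mul_inv_eq_one.1 h6))

/-- The centraliser of the four-group. -/
def L : Subgroup G := centralizer (s.V : Set G)

theorem mem_L {g : G} : g ∈ s.L ↔ g * s.x = s.x * g ∧ g * s.v = s.v * g :=
  ⟨fun h => ⟨(h _ s.xV).symm, (h _ s.vV).symm⟩, fun h a ha => (commute_clos (by simpa using h) a ha).symm⟩

theorem a0L : s.a0 ∈ s.L := fun a ha => (s.p1 a ha).2.1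

theorem c2_norm : s.c2 ∈ normalizer (s.L : Set G) :=
  normalizer_le_normalizer_centralizer _ (mem_normalizer_of_conj_mem fun a ha => (s.p1 a ha).1)

theorem ftV : ∃ N, Core3 N s.L ∧ s.D ≤ normalizer (N : Set G) ∧
    ((∀ g ∈ s.L, ∃ n ∈ N, ∃ h ∈ s.L, h ∈ pm s.a0 ∧ g = n * h) ∨
      ((∀ g ∈ s.L, ∃ n ∈ N, ∃ h ∈ s.L, h * s.c2 = s.c2 * h ∧ g = n * h) ∧
        ¬ Group.IsSolvable (s.L ⊓ centralizer {s.c2} : Subgroup G))) := by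
  obtain ⟨N, hN⟩ := exists_core3 s.L
  refine ⟨N, hN, clos_le.2 (by
    simp only [List.forall_mem_cons]
    exact ⟨hN.norm s.a0L, hN.char s.c2_norm, by simp⟩), ?_⟩
  have hV : Sec s.V s.L := ⟨fun a ha b hb => (s.p1 b hb).2.2.2 a ha, centralizer_le_normalizer _,
    by rw [s.gV.2]; decide⟩
  refine (ft hV hN s.a0L s.o1 fun g hg h => ?_).imp (·.cover) fun h => ?_
  · have m : s.a0 ∈ zpowers s.a0 ⊔ s.V := mem_sup_left (mem_zpowers _)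
    rcases s.p2 g (s.memN h) h (s.mem_L.1 hg).1 (s.mem_L.1 hg).2 with e | e | e
    exacts [mem_sup_right e, (mul_mem_cancel_left m).1 (mem_sup_right e),
      (mul_mem_cancel_left (inv_mem m)).1 (mem_sup_right e)]
  obtain ⟨k, h1, hk⟩ := ft_cover hN s.a0L s.o1 h s.c2_norm (s.n4 _ s.c2D).1 s.ca
  have hne : ∀ a ∈ zpowers s.a0, s.c2 * s.a0 ^ k ≠ a := fun a ha e => by
    have h1 : s.c2 ∈ zpowers s.a0 := by
      rw [eq_mul_inv_of_mul_eq e]; exact mul_mem ha (inv_mem (pow_mem (mem_zpowers _) k))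
    have h2 : s.c2 * s.x ≠ s.x * s.c2 := s.hL.decide s.rep (by decide +kernel)
    exact h2 (s.mem_L.1 (zpowers_le.2 s.a0L h1)).1
  rcases s.n3 _ (mul_mem s.c2D (pow_mem s.a0D k)) with h | h | h | h | h | ⟨m, -, h⟩
  · exact absurd h (hne _ (one_mem _))
  · exact absurd h (hne _ (mem_zpowers _))
  · exact absurd h (hne _ (inv_mem (mem_zpowers _)))
  · exact h ▸ ⟨h1, hk⟩
  · have e : centralizer ({s.c2⁻¹} : Set G) = centralizer {s.c2} := by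
      ext g; rw [mem_cen, mem_cen]; exact Commute.inv_right_iff
    rw [h] at h1 hk
    refine ⟨fun g hg => ?_, e ▸ hk⟩
    obtain ⟨n, hn, a, ha, e1, e2⟩ := h1 g hg
    exact ⟨n, hn, a, ha, Commute.inv_right_iff.1 e1, e2⟩
  · refine absurd (Perm.CompLen.isSolvable_of_card_lt_sixty ?_) hk
    have h1 := card_le_of_le (inf_le_right : s.L ⊓ centralizer {s.c2 * s.a0 ^ k} ≤ _)
    rw [← h, s.card_mixed] at h1
    rw [← h]; omega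

variable (hD : s.σ * s.d1 * s.σ⁻¹ = s.δ)
include hD

theorem σδ : s.σ * s.δ * s.σ⁻¹ = s.d1 := cj_inv2 s.s2 hD

theorem dich : (∀ g ∈ s.L, g ∈ s.N1) ∨ ∀ k ∈ s.K1, s.σ * k * s.σ⁻¹ ∈ s.L := by
  obtain ⟨N, hN, hDN, h | ⟨-, h⟩⟩ := s.ftV
  · refine .inl fun g hg => ?_
    obtain ⟨n, hn, a, -, ha, rfl⟩ := h g hg
    refine mul_mem (s.sig hN.cop hDN (fun n _ => s.memN) (fun n hn e => ?_) hn) (s.hN a ha)
    have e1 : s.σ * n * s.σ⁻¹ * s.a0 = s.a0 * (s.σ * n * s.σ⁻¹) := s.sc' ▸ cjcomm e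
    have h1 : s.R3 ≤ normalizer (cj s.σ N : Set G) := by
      rw [← cj_normalizer]
      refine clos_le.2 ?_
      simp only [List.forall_mem_cons]
      exact ⟨s.sc ▸ conj_mem_cj.2 (hN.norm s.a0L), hD ▸ conj_mem_cj.2 (hN.norm fun a ha => (s.p1 a ha).2.2.1), by simp⟩
    have h2 : s.σ * n * s.σ⁻¹ ∈ cj s.σ N := conj_mem_cj.2 hn
    rcases s.p3 _ (s.memN e1) e1 with e | e | ⟨a, ha, b, hb, e⟩
    · rw [conj_eq_one.1 e]; exact one_mem _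
    · rw [← s.cj2 n, e, s.στ]; exact mem_clos (by simp)
    · have h3 := mul_mem h2 (conj_mem_of_mem_norm (h1 ha) h2)
      exact absurd e (no3 (card_cj s.σ N ▸ hN.cop)
        (pow_mem (pow_mem (mul_mem h3 (conj_mem_of_mem_norm (h1 hb) h3)) 4) 5))
  · refine .inr fun k hk => ?_
    have h1 := s.K1_le (X := cj s.σ (s.L ⊓ centralizer {s.c2})) (cj_le_iff.2 fun g hg =>
      s.memN (s.sc' ▸ cjcomm (mem_cen.1 hg.2))) (fun h' => h (Group.isSolvable_of_isSolvable_injective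
        (f := (cjEquiv s.σ (s.L ⊓ centralizer {s.c2})).toMonoidHom) (cjEquiv s.σ _).injective)) hk
    rw [← s.cj2 k] at h1
    exact (conj_mem_cj.1 h1).1

theorem excl : ¬ ∀ g ∈ s.L, g ∈ s.N1 := fun hV => by
  have q1 : (∃ m ∈ s.N1, m * s.δ * m⁻¹ = s.x ∧ m * s.v1 * m⁻¹ = s.v) ∧ s.v1 * s.a0 = s.a0 * s.v1 ∧
      s.v1 * s.δ = s.δ * s.v1 ∧ s.v1 * s.τ * s.v1⁻¹ = s.τ * s.δ ∧ s.v1 * s.v1 = 1 ∧ s.v1 * s.d1 = s.d1 * s.v1 ∧
      (s.d1 ≠ 1 ∧ s.d1 ≠ s.τ) ∧ (s.c2 ≠ 1 ∧ s.c2 ≠ s.τ) ∧ s.τ * s.δ = s.δ * s.τ ∧ s.d1 * s.δ = s.δ * s.d1 ∧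
      (s.v1 * s.c2 * s.v1⁻¹ ≠ s.c2 ∧ s.v1 * s.c2 * s.v1⁻¹ ≠ s.c2⁻¹) ∧ s.δ ≠ s.d1 ∧
      s.v1 * (s.τ * s.d1) * s.v1⁻¹ * (s.d1 * s.δ) = s.τ ∧ s.v1⁻¹ * (s.d1 * s.δ) = s.v1 * s.d1 * s.δ ∧
      (∃ c ∈ s.K1, c * s.v1 * c⁻¹ = s.δ ∧ c * s.δ * c⁻¹ = s.v1 * s.δ) ∧
      (∀ g ∈ s.H0, g * s.d1 * g⁻¹ ≠ s.δ ∧ (g * s.d1 = s.d1 * g → g * s.δ = s.δ * g → s.v1 * g * s.v1⁻¹ = g⁻¹ →
        g⁻¹ = g ∧ (g = 1 ∨ g = s.d1 ∨ g = s.δ ∨ g = s.d1 * s.δ))) ∧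
      (∀ e ∈ s.N1, e * s.δ = s.δ * e → e * s.v1 = s.v1 * e → e * s.d1 = s.d1 * e → e ∈ s.F ∨ s.v1⁻¹ * e ∈ s.F) ∧
      ∀ a ∈ s.F, s.v1 * s.d1 * s.δ * a ≠ (s.v1 * a)⁻¹ ∧
        ∃ m ∈ s.N1, Let (m * (a * s.v1) * m⁻¹) fun u => u = s.v1 ∨ u = s.v1 * s.d1 * s.δ :=
    s.hD.decide s.rep (by decide +kernel)
  obtain ⟨⟨m, hm, m1, m2⟩, r1, r2, r3, r4, r5, r6, r7, r8, r9, r10, r11, r12, r13, ⟨c, hc, c1, c2⟩, r14, r15, r16⟩ := q1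
  have hV1 : ∀ g, g * s.δ = s.δ * g → g * s.v1 = s.v1 * g → g ∈ s.N1 := fun g h1 h2 =>
    (mul_mem_cancel_left hm).1 ((mul_mem_cancel_right (inv_mem hm)).1
      (hV _ (s.mem_L.2 ⟨m1 ▸ cjcomm h1, m2 ▸ cjcomm h2⟩)))
  have hpm : ∀ g, s.σ * g * s.σ⁻¹ ∈ s.N1 → g ∈ pm s.c2 := fun g h => by
    rw [← s.cj2 g]
    generalize s.σ * g * s.σ⁻¹ = k at h
    rw [mem_pm, ← s.sc, conj_inv, conj_inv, ← cjm, ← cjm]
    exact (mem_pm.1 (s.N1_le h)).imp (fun e => by rw [e]) fun e => by rw [e]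
  have e0 := s.cj2 s.v1
  have vc : s.σ * s.v1 * s.σ⁻¹ * s.c2 = s.c2 * (s.σ * s.v1 * s.σ⁻¹) := s.sc ▸ cjcomm r1
  have vd : s.σ * s.v1 * s.σ⁻¹ * s.d1 = s.d1 * (s.σ * s.v1 * s.σ⁻¹) := s.σδ hD ▸ cjcomm r2
  have vδ : s.σ * s.v1 * s.σ⁻¹ * s.δ = s.δ * (s.σ * s.v1 * s.σ⁻¹) := hD ▸ cjcomm r5
  have vτ : s.σ * s.v1 * s.σ⁻¹ * s.τ * (s.σ * s.v1 * s.σ⁻¹)⁻¹ = s.τ * s.d1 := by
    rw [← s.σδ hD, ← s.στ, conj_inv, ← cjm, ← cjm, ← cjm, r3]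
  have v2 := conj_sq (g := s.σ) r4
  have e1 : s.σ * s.v1 * s.σ⁻¹ = s.σ * s.v1 * s.σ⁻¹ := rfl
  generalize s.σ * s.v1 * s.σ⁻¹ = v' at e0 vc vd vδ vτ v2
  have τd : IsConj (s.τ * s.d1) s.τ := (isConj_iff.2 ⟨_, vτ⟩).symm
  have hτ := s.nine.resolve_right fun ⟨f, f1, f2⟩ => four_of_s6 f f1 f2 s.τ2 s.d2 v2 s.comm.2.2.2.2.1
    s.comm.2.2.1.symm s.comm.2.2.2.1.symm (s.n4 _ s.c2D).1 r6 r7
    (fun g hg => s.δτ ((isConj_iff.2 ⟨_, s.σδ hD⟩).trans ((isConj_iff.2 ⟨_, hg⟩).trans τd))) vc vd vτ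
    fun w h1 h2 => hpm w (hV1 _ (hD ▸ cjcomm h1) (e0 ▸ cjcomm h2))
  have ud : Commute (s.v1 * v') s.d1 := Commute.mul_left r5 vd
  have uδ : Commute (s.v1 * v') s.δ := Commute.mul_left r2 vδ
  have uτ : s.v1 * v' * s.τ * (s.v1 * v')⁻¹ * (s.d1 * s.δ) = s.τ := by rw [cjc vτ, r12]
  have uτ' : s.v1 * v' * (s.v1 * v') * s.τ = s.τ * (s.v1 * v' * (s.v1 * v')) := by
    have h1 : s.v1 * v' * (s.d1 * s.δ) * (s.v1 * v')⁻¹ = s.d1 * s.δ := mul_inv_eq_iff_eq_mul.2 (ud.mul_right uδ)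
    have h2 : s.d1 * s.δ * (s.d1 * s.δ) = 1 := s.hL.decide s.rep (by decide +kernel)
    refine mul_inv_eq_iff_eq_mul.1 ?_
    have h3 := eq_mul_inv_of_mul_eq uτ
    rw [inv_eq_of_mul_eq_one_right h2] at h3
    rw [cjc rfl, h3, cjm, h1, h3, mul_assoc, h2, mul_one]
  have i1 : s.v1⁻¹ = s.v1 := inv_eq_of_mul_eq_one_right r4
  have i2 : v'⁻¹ = v' := inv_eq_of_mul_eq_one_right v2
  have uH : s.v1 * v' * (s.v1 * v') ∈ s.H0 := (s.memH0 (hτ (mem_cen.2 uτ'))).resolve_right fun h =>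
    (r14 _ h).1 ((cjc (mul_inv_eq_iff_eq_mul.2 (ud.mul_left ud))).trans hD)
  have uσ : s.σ * (s.v1 * v' * (s.v1 * v')) * s.σ⁻¹ = (s.v1 * v' * (s.v1 * v'))⁻¹ := by
    rw [cjm, cjm, e0, ← e0, s.cj2, e0, mul_inv_rev, mul_inv_rev, i1, i2]
  obtain ⟨u1, u2⟩ := (r14 _ uH).2 (ud.mul_left ud) (uδ.mul_left uδ) (by
    rw [mul_inv_rev, mul_inv_rev, i1, i2, mul_assoc s.v1 v', ← mul_assoc s.v1 s.v1, r4]; group)
  rw [u1] at uσ
  have vv : v' * s.v1 * v'⁻¹ = s.v1 * s.d1 * s.δ := by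
    rcases u2 with h | h | h | h
    · have h1 : v' * s.v1 = s.v1 * v' := by
        rw [← inv_eq_of_mul_eq_one_right h, mul_inv_rev, i1, i2]
      exact ((mem_pm.1 (hpm s.v1 (by rw [← e0, s.cj2]; exact hV1 _ vδ h1))).elim r10.1 r10.2).elim
    · rw [h, hD] at uσ; exact absurd uσ r11
    · rw [h, s.σδ hD] at uσ; exact absurd uσ.symm r11
    · rw [← r13, ← h, i2]; group
  have vF : ∀ a ∈ s.F, v' * a = a * v' := commute_clos (by simpa using ⟨vd, vδ⟩)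
  let A : G →* MulAut G := MulAut.conj
  have a1 : A c s.d1 = s.d1 := mul_inv_eq_iff_eq_mul.2 (s.n10 c hc).2
  have a2 : A c s.v1 = s.δ := c1
  have a3 : A c s.δ = s.v1 * s.δ := c2
  have b1 : A v' s.d1 = s.d1 := mul_inv_eq_iff_eq_mul.2 vd
  have b2 : A v' s.v1 = s.v1 * s.d1 * s.δ := vv
  have b3 : A v' s.δ = s.δ := mul_inv_eq_iff_eq_mul.2 vδ
  have q2 : s.τ * s.d1 * s.τ⁻¹ = s.d1 ∧ s.τ * s.v1 * s.τ⁻¹ = s.v1 * s.δ ∧ s.τ * s.δ * s.τ⁻¹ = s.δ ∧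
      s.δ * (s.v1 * s.δ) = s.v1 ∧ s.v1 * s.δ * s.d1 * s.δ = s.v1 * s.d1 ∧
      s.δ * s.d1 * (s.v1 * s.δ) = s.v1 * s.d1 ∧ s.δ * s.d1 * s.d1 = s.δ ∧ s.v1 * s.d1 * s.d1 = s.v1 ∧
      s.v1 * s.d1 * (s.δ * s.d1) * s.d1 * s.d1 * s.δ = s.v1 := s.hL.decide s.rep (by decide +kernel)
  obtain ⟨t1, t2, t3, z1, z2, z3, z4, z5, z6⟩ := q2
  change A s.τ _ = _ at t1 t2 t3
  have k1 : A (s.τ * v') s.d1 = s.d1 := by rw [map_mul, MulAut.mul_apply, b1, t1]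
  have k2 : A (s.τ * v') s.v1 = s.v1 * s.d1 := by
    rw [map_mul, MulAut.mul_apply, b2, map_mul, map_mul, t1, t2, t3, z2]
  have k3 : A (s.τ * v') s.δ = s.δ := by rw [map_mul, MulAut.mul_apply, b3, t3]
  have l0 : ∀ a, A (c * (s.τ * v') * c⁻¹) (A c a) = A c (A (s.τ * v') a) := fun a => by
    rw [← MulAut.mul_apply, ← map_mul, inv_mul_cancel_right, map_mul, MulAut.mul_apply]
  have l1 := l0 s.d1
  have l3 := l0 s.v1
  have l2 := l0 (s.v1 * s.δ)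
  rw [k1, a1] at l1
  rw [k2, map_mul (A c), a2, a1] at l3
  rw [map_mul (A c), a2, a3, z1, map_mul (A (s.τ * v')), k2, k3, map_mul (A c), map_mul (A c), a1, a2, a3, z3] at l2
  generalize c * (s.τ * v') * c⁻¹ = r at l1 l2 l3
  have n0 : ∀ a, A (r * s.τ * r⁻¹) (A r a) = A r (A s.τ a) := fun a => by
    rw [← MulAut.mul_apply, ← map_mul, inv_mul_cancel_right, map_mul, MulAut.mul_apply]
  have n1 := n0 s.d1
  have n3 := n0 (s.δ * s.d1)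
  have n2 := n0 (s.v1 * s.d1)
  rw [t1, l1] at n1
  rw [map_mul (A s.τ), t1, t3, map_mul (A r), l1, l3, z4] at n3
  rw [map_mul (A s.τ), t1, t2, map_mul (A r), l1, l2, z5, map_mul (A r), map_mul (A r), l1, l2, l3] at n2
  have w1 : A (r * s.τ * r⁻¹ * v') s.d1 = s.d1 := by rw [map_mul, MulAut.mul_apply, b1, n1]
  have w2 : A (r * s.τ * r⁻¹ * v') s.v1 = s.v1 := by
    rw [map_mul, MulAut.mul_apply, b2, map_mul (A _), map_mul (A _), n1, n2, n3, z6]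
  have w3 : A (r * s.τ * r⁻¹ * v') s.δ = s.δ := by rw [map_mul, MulAut.mul_apply, b3, n3]
  have s0 := conj_sq (g := r) s.τ2
  have s1 : r * s.τ * r⁻¹ = r * s.τ * r⁻¹ * v' * v' := by rw [mul_assoc _ v', v2, mul_one]
  have s2 : IsConj s.τ (r * s.τ * r⁻¹ * v' * v') := isConj_iff.2 ⟨r, s1⟩
  rw [s1] at s0
  generalize r * s.τ * r⁻¹ * v' = e at w1 w2 w3 s0 s2
  have w1' := mul_inv_eq_iff_eq_mul.1 w1
  have w2' := mul_inv_eq_iff_eq_mul.1 w2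
  have w3' := mul_inv_eq_iff_eq_mul.1 w3
  rcases r15 e (hV1 e w3' w2') w3' w2' w1' with h | h
  · have hF : ∀ a ∈ s.F, s.σ * a * s.σ⁻¹ ∈ s.F := conj_clos_mem (by
      simp only [List.forall_mem_cons, hD, s.σδ hD]
      exact ⟨mem_clos (by simp), mem_clos (by simp), by simp⟩)
    have h1 : IsConj s.τ (s.σ * e * s.σ⁻¹ * s.v1) := s2.trans (isConj_iff.2 ⟨s.σ, by rw [cjm, e0]⟩)
    have h2 : IsConj s.δ s.v1 := (isConj_iff.2 ⟨_, c1⟩).symm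
    obtain ⟨-, k, -, h3 | h3⟩ := r16 _ (hF e h)
    · exact s.δτ (h2.trans (h1.trans (isConj_iff.2 ⟨_, h3⟩)).symm)
    · exact s.δτ ((h2.trans (isConj_iff.2 ⟨_, vv⟩)).trans (h1.trans (isConj_iff.2 ⟨_, h3⟩)).symm)
  · refine (r16 _ h).1 ?_
    have h1 := mul_inv_eq_iff_eq_mul.2 (vF _ h)
    calc s.v1 * s.d1 * s.δ * (s.v1⁻¹ * e) = v' * (s.v1 * (s.v1⁻¹ * e)) * v'⁻¹ := by rw [cjm, vv, h1]
      _ = e⁻¹ * (e * v' * (e * v')) := by rw [i2]; group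
      _ = _ := by rw [s0]; group

theorem comm12 : ∀ a ∈ s.K1, ∀ b ∈ s.K1, s.σ * b * s.σ⁻¹ * a = a * (s.σ * b * s.σ⁻¹) := fun a ha b hb => by
  have h := (s.dich hD).resolve_left (s.excl hD)
  have q : s.k4 = s.x * (s.τ * s.x * s.τ⁻¹) ∧
      s.δ = s.v * (s.τ * s.x * s.τ⁻¹) * s.v * (s.τ * s.x * s.τ⁻¹) * s.v ∧
      s.k6 = s.x * (s.τ * s.x * s.τ⁻¹) * s.x := s.hL.decide s.rep (by decide +kernel)
  obtain ⟨h1, h2⟩ : Commute _ s.x ∧ Commute _ s.v := s.mem_L.1 (h b hb)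
  have h3 : Commute (s.σ * b * s.σ⁻¹) (s.τ * s.x * s.τ⁻¹) := by
    have := cjcomm (g := s.τ) (s.mem_L.1 (h _ (s.p4 b hb).1)).1
    rwa [← cjc rfl, ← cjc rfl, mul_assoc s.τ s.σ, s.στ', ← mul_assoc s.τ, s.τ2, one_mul] at this
  refine commute_clos ?_ a ha
  simp only [List.forall_mem_cons, q.1]
  exact ⟨h1.mul_right h3, q.2.1 ▸ (((h2.mul_right h3).mul_right h2).mul_right h3).mul_right h2,
    q.2.2 ▸ (h1.mul_right h3).mul_right h1, by simp⟩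

end St

end Cfsg.Agent.T16.S8
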