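import Mathlib
import Cfsg.Agent.T16.SDOne
import Cfsg.Agent.T16.A8Two

/-!
Groups with a subgroup of order three whose normaliser is `S₃ × S₅`: the subgroup `(A₅ × A₅).2²` and its codes.
-/

set_option autoImplicit false
set_option synthInstance.maxSize 100000
set_option synthInstance.maxHeartbeats 1000000
set_option linter.unusedSectionVars false

namespace Cfsg.Agent.T16.S8

open Cfsg.Agent.Spor Cfsg.Agent.Rec Cfsg.Agent.Inv.Fz Subgroup Equiv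
open Cfsg.Agent.T16.A8 (P8 P8_ok cjm cjc cjs cjcomm cj_inv2 word_mem)

universe u

variable {G : Type u} [Group G]

theorem rep_word {A : Ar} {C : Cod A G} {c : List ℕ} {e : List G} (h : C.RepL c e) (w : List ℕ) {a : ℕ}
    (ha : Nat.beq (evC A c w) a = true) : C.Rep a (evalW (nth 1 e) w) :=
  (nbeq_iff _ _).1 ha ▸ h.word w

theorem card_ge [Finite G] {C : Cod P10 G} {τ b4 b5 b6 σ : G} (h : C.RepL c5 [τ, b4, b5, b6, σ]) :
    14400 ≤ Nat.card (clos [τ, b4, b5, b6, σ]) := by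
  let w : List ℕ → G := evalW (nth 1 [τ, b4, b5, b6, σ])
  have r : C.RepL ([9, 10, 19, 1, 20, 3].map (nth P10.one cG))
      [w [1, 3], w [2, 1, 3, 2], w [4, 0, 1, 4], w [4, 0, 2, 4], w [4, 0, 3, 4], w [1]] :=
    (rep_word h _ (by decide +kernel)).cons <| (rep_word h _ (by decide +kernel)).cons <|
    (rep_word h _ (by decide +kernel)).cons <| (rep_word h _ (by decide +kernel)).cons <|
    (rep_word h _ (by decide +kernel)).cons <| (rep_word h _ (by decide +kernel)).cons Cod.repL_nil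
  have g := r.gen gCD_ok
  have o := h.orb (r.nth 0) gclX_ok
  have hc : ∀ k ∈ clos [w [1, 3], w [2, 1, 3, 2], w [4, 0, 1, 4], w [4, 0, 2, 4], w [4, 0, 3, 4], w [1]],
      k * w [1, 3] = w [1, 3] * k := (g.1.cons Cod.listsL_nil).decide r (by decide +kernel)
  have := mul_card_le_of_conj (L := clos [τ, b4, b5, b6, σ]) (S := cls [τ, b4, b5, b6, σ] (w [1, 3]))
    (K := clos [w [1, 3], w [2, 1, 3, 2], w [4, 0, 1, 4], w [4, 0, 2, 4], w [4, 0, 3, 4], w [1]]) (clos_le.2 (by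
      simp only [List.forall_mem_cons]
      exact ⟨word_mem _ _, word_mem _ _, word_mem _ _, word_mem _ _, word_mem _ _, word_mem _ _, by simp⟩)) hc
    fun _ h => h
  rw [g.2, show (cls [τ, b4, b5, b6, σ] (w [1, 3])).ncard = 30 from o.2] at this
  exact this

theorem rel_aux {τ σ a b : G} (τ2 : τ * τ = 1) (σ2 : σ * σ = 1) (a2 : a * a = 1) (b2 : b * b = 1)
    (h : σ * (τ * b) * σ⁻¹ * (τ * a) = τ * a * (σ * (τ * b) * σ⁻¹)) :
    τ * (a * (σ * (τ * (b * (σ * (a * (τ * (σ * (b * (τ * σ)))))))))) = 1 := by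
  have i : ∀ {x : G}, x * x = 1 → x⁻¹ = x := inv_eq_of_mul_eq_one_right
  calc _ = τ * a * (σ * (τ * b) * σ⁻¹) * (σ * (τ * b) * σ⁻¹ * (τ * a))⁻¹ := by
        simp only [mul_inv_rev, i τ2, i σ2, i a2, i b2, mul_assoc]
    _ = 1 := by rw [h, mul_inv_cancel]

variable [Finite G]

theorem two_mul_card_le {H K : Subgroup G} (h : H < K) : 2 * Nat.card H ≤ Nat.card K := by
  have h1 : H.relIndex K ≠ 1 := fun e => h.not_ge (relIndex_eq_one.1 e)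
  have h2 : H.relIndex K ≠ 0 := index_ne_zero_of_finite
  rw [← card_mul_relIndex h.le, mul_comm]
  exact Nat.mul_le_mul_left _ (by omega)

theorem St0.exists_a5 (s : St0 G) : ∃ φ : alternatingGroup (Fin 5) →* G, Function.Injective φ ∧ φ.range = s.K1 := by
  have h : s.k4 ^ 3 = 1 ∧ s.δ ^ 2 = 1 ∧ s.k6 ^ 2 = 1 ∧ (s.k4 * s.δ) ^ 3 = 1 ∧ (s.δ * s.k6) ^ 3 = 1 ∧
      (s.k4 * s.k6) ^ 2 = 1 ∧ s.k4 ≠ 1 := s.hL.decide s.rep (by decide +kernel)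
  obtain ⟨h0, _, _, _, _, _, h1⟩ := h
  obtain ⟨φ, hφ⟩ := Sym.exists_hom_of_moore 2 ![s.k4, s.δ, s.k6] h0
    (fun i hi => by fin_cases i <;> first | exact absurd rfl hi | assumption)
    (fun i j h => by fin_cases i <;> fin_cases j <;> first | exact absurd h (by decide) | assumption)
    fun i j h => by fin_cases i <;> fin_cases j <;> first | exact absurd h (by decide) | assumption
  refine ⟨φ, (MonoidHom.ker_eq_bot_iff φ).1 <|
    (IsSimpleGroup.eq_bot_or_eq_top_of_normal (G := alternatingGroup (Fin 5)) φ.ker inferInstance).resolve_right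
      fun h => h1 ((hφ 0).symm.trans (MonoidHom.mem_ker.1 (h ▸ mem_top _))), ?_⟩
  rw [MonoidHom.range_eq_map, ← Sym.closure_mooreGen 2, MonoidHom.map_closure, ← Set.range_comp, St0.K1, clos]
  congr 1
  ext g
  simp only [Set.mem_range, Function.comp, hφ, Set.mem_ofPred_eq]
  exact (List.mem_ofFn' _ g).symm.trans (by simp [List.ofFn_succ])

/-- The configuration with two commuting subgroups `A₅`. -/
structure St3 (G : Type u) [Group G] extends St G where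
  hD : σ * d1 * σ⁻¹ = toSt0.δ
  C2 : Cod P10 G
  rep5 : C2.RepL c5 [τ, b4, b5, b6, σ]

namespace St

variable (s : St G)

/-- The second subgroup `A₅`. -/
def K2 : Subgroup G := cj s.σ s.K1
/-- The product of the two. -/
def N0 : Subgroup G := s.K1 ⊔ s.K2
/-- The whole group. -/
def G1 : Subgroup G := clos [s.τ, s.b4, s.b5, s.b6, s.σ]

theorem τK1 : s.τ ∈ normalizer (s.K1 : Set G) := s.N1_K1 (mem_clos (by simp))

theorem τN0 : s.τ ∈ normalizer (s.N0 : Set G) :=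
  cj_eq_iff.1 (by rw [N0, K2, cj_sup, cj_cj, ← s.στ', ← cj_cj, cj_eq_iff.2 s.τK1])

theorem σN0 : s.σ ∈ normalizer (s.N0 : Set G) :=
  cj_eq_iff.1 (by rw [N0, K2, cj_sup, cj_cj, s.s2, cj_one, sup_comm])

theorem cenK1 : ∀ k ∈ s.K1, (∀ a ∈ s.K1, k * a = a * k) → k = 1 := s.hL.decide s.rep (by decide +kernel)

theorem mG (i : ℕ) : nth 1 [s.τ, s.b4, s.b5, s.b6, s.σ] i ∈ s.G1 := nth_mem_clos _ i

theorem N0_le : s.N0 ≤ s.G1 := by
  have h : s.K1 ≤ s.G1 := clos_le.2 (by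
    simp only [List.forall_mem_cons]
    exact ⟨mul_mem (s.mG 0) (s.mG 1), mul_mem (s.mG 0) (s.mG 2), mul_mem (s.mG 0) (s.mG 3), by simp⟩)
  exact sup_le h (cj_le_iff.2 fun k hk => mul_mem (mul_mem (s.mG 4) (h hk)) (inv_mem (s.mG 4)))

variable (hD : s.σ * s.d1 * s.σ⁻¹ = s.δ)
include hD

theorem K2_cent : s.K2 ≤ centralizer (s.K1 : Set G) := cj_le_iff.2 fun b hb a ha => (s.comm12 hD a ha b hb).symm

theorem disj : Disjoint s.K1 s.K2 :=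
  disjoint_def.2 fun h1 h2 => s.cenK1 _ h1 fun a ha => (s.K2_cent hD h2 a ha).symm

theorem isoN0 : Nonempty (s.N0 ≃* alternatingGroup (Fin 5) × alternatingGroup (Fin 5)) := by
  obtain ⟨φ, h1, h2⟩ := s.exists_a5
  have h3 : ((MulAut.conj s.σ).toMonoidHom.comp φ).range = s.K2 := by rw [MonoidHom.range_comp, h2]; rfl
  have hc : ∀ a b, Commute (φ a) ((MulAut.conj s.σ).toMonoidHom.comp φ b) := fun a b =>
    s.K2_cent hD (h3 ▸ ⟨b, rfl⟩) _ (h2 ▸ ⟨a, rfl⟩ : φ a ∈ s.K1)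
  exact ⟨(MulEquiv.subgroupCongr (by rw [MonoidHom.noncommCoprod_range, h2, h3, N0])).trans
    (MonoidHom.ofInjective ((MonoidHom.noncommCoprod_injective _ _ hc).2
      ⟨h1, (MulAut.conj s.σ).injective.comp h1, by rw [h2, h3]; exact s.disj hD⟩)).symm⟩

theorem cardN0 : Nat.card s.N0 = 3600 := by
  obtain ⟨e⟩ := s.isoN0 hD
  rw [Nat.card_congr e.toEquiv, Nat.card_prod, card_A5]

theorem mem_N0 {g : G} (h : g ∈ s.N0) : ∃ a ∈ s.K2, ∃ b ∈ s.K1, g = a * b :=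
  (mem_sup_iff_of_le_normalizer ((s.K2_cent hD).trans (centralizer_le_normalizer _))).1 (sup_comm s.K1 s.K2 ▸ h)

theorem exists_St3 : Nonempty (St3 G) := by
  have h1 : s.N0 < s.N0 ⊔ zpowers s.τ := left_lt_sup.2 fun h => by
    obtain ⟨a, ha, b, hb, e⟩ := s.mem_N0 hD (h (mem_zpowers _))
    have q : ∀ b ∈ s.K1, ∃ k ∈ s.K1, k * (s.τ * b⁻¹) ≠ s.τ * b⁻¹ * k := s.hL.decide s.rep (by decide +kernel)
    obtain ⟨k, hk, e'⟩ := q b hb
    rw [e, mul_inv_cancel_right] at e'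
    exact e' (s.K2_cent hD ha k hk)
  have h2 : s.N0 ⊔ zpowers s.τ < s.G1 := lt_of_le_of_ne (sup_le s.N0_le (zpowers_le.2 (s.mG 0))) fun h => by
    have h3 : s.N0 ⊔ zpowers s.τ ≤ normalizer (s.K1 : Set G) :=
      sup_le (sup_le le_normalizer ((s.K2_cent hD).trans (centralizer_le_normalizer _))) (zpowers_le.2 s.τK1)
    have h4 : s.δ ∈ s.K1 := mem_clos (by simp)
    exact (s.hL.decide s.rep (by decide +kernel) : s.δ ≠ 1)
      (disjoint_def.1 (s.disj hD) h4 ((cj_eq_iff.2 (h3 (h ▸ s.mG 4))).symm ▸ h4 : s.δ ∈ cj s.σ s.K1))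
  have h3 : 14400 ≤ Nat.card s.G1 := by
    have := two_mul_card_le h1
    have := two_mul_card_le h2
    have := s.cardN0 hD
    omega
  have q : s.b4 * s.b4 = 1 ∧ s.b5 * s.b5 = 1 ∧ s.b6 * s.b6 = 1 ∧ s.τ * s.b4 ∈ s.K1 ∧ s.τ * s.b5 ∈ s.K1 ∧
      s.τ * s.b6 ∈ s.K1 := s.hL.decide s.rep (by decide +kernel)
  obtain ⟨q4, q5, q6, m4, m5, m6⟩ := q
  have hs : Sat relG [s.τ, s.b4, s.b5, s.b6, s.σ] := by
    refine sat_append.2 ⟨Sat.of_take (m := 4) ((s.rep.pick [2, 3, 4, 5]).sat (by decide +kernel)) (by decide +kernel), ?_⟩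
    simp only [exG, sat_cons, evalW_cons, evalW_nil, nth_zero, nth_succ, mul_one, sat_nil, and_true]
    exact ⟨s.s2, by rw [← mul_assoc s.τ, ← s.στ', mul_assoc, s.τ2, mul_one, s.s2],
      rel_aux s.τ2 s.s2 q4 q4 (s.comm12 hD _ m4 _ m4), rel_aux s.τ2 s.s2 q4 q5 (s.comm12 hD _ m4 _ m5),
      rel_aux s.τ2 s.s2 q4 q6 (s.comm12 hD _ m4 _ m6), rel_aux s.τ2 s.s2 q5 q5 (s.comm12 hD _ m5 _ m5),
      rel_aux s.τ2 s.s2 q5 q6 (s.comm12 hD _ m5 _ m6), rel_aux s.τ2 s.s2 q6 q6 (s.comm12 hD _ m6 _ m6)⟩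
  have h0 := repL_permOf P10_ok c5_ok
  obtain ⟨C, hC⟩ := presG.cod_of_card h0 (h0.sat relG_ok) rfl
    (le_antisymm (presG _ _ rfl (h0.sat relG_ok)).2 (card_ge h0)) (by norm_num) hs rfl h3
  exact ⟨⟨s, hD, C, hC⟩⟩

end St

namespace St3

variable (s : St3 G)

/-- The involution `(90)(12)`. -/
def x' : G := s.σ * s.x * s.σ⁻¹
/-- The involution `(91)(02)`. -/
def v' : G := s.σ * s.v * s.σ⁻¹
/-- A generator of the second factor. -/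
def k4' : G := s.σ * s.k4 * s.σ⁻¹
/-- A generator of the second factor. -/
def k6' : G := s.σ * s.k6 * s.σ⁻¹
/-- A 2-central involution. -/
def w : G := s.x * s.x'
/-- An involution swapping the factors. -/
def ρ : G := s.σ * s.τ
/-- The involution `(45)(09)`. -/
def t1 : G := s.σ * s.b4 * s.σ * s.τ * s.b4

/-- The generators. -/
abbrev e5 : List G := [s.τ, s.b4, s.b5, s.b6, s.σ]
/-- The letters. -/
abbrev eG : List G :=
  [s.a0, s.d1, s.τ, s.b4, s.b5, s.b6, s.c2, s.δ, s.f, s.x, s.v, s.x0, s.y, s.k4, s.k6, s.v1,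
    s.σ, s.x', s.v', s.k4', s.k6', s.w, s.ρ, s.t1]

theorem rep6 : s.C2.RepL (cG.take 6 ++ [nth 0 cG 16]) [s.a0, s.d1, s.τ, s.b4, s.b5, s.b6, s.σ] :=
  (s.sc' ▸ s.rep5.term (s.σ * (s.b5 * s.b6) * s.σ⁻¹) (by decide +kernel) : s.C2.Rep _ s.a0).cons <|
    (s.σδ s.hD ▸ s.rep5.term (s.σ * (s.τ * s.b5) * s.σ⁻¹) (by decide +kernel) : s.C2.Rep _ s.d1).cons s.rep5

theorem repG : s.C2.RepL cG s.eG :=
  (s.rep6.take 6).append (c' := cG.drop 6) <|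
    (s.rep6.term (s.b5 * s.b6) (by decide +kernel)).cons <| (s.rep6.term (s.τ * s.b5) (by decide +kernel)).cons <|
    (s.rep6.term (s.τ * s.b4 * s.b5 * s.b6) (by decide +kernel)).cons <|
    (s.rep6.term (s.b4 * s.b6) (by decide +kernel)).cons <|
    (s.rep6.term (s.b5 * (s.b4 * s.b6) * s.b5) (by decide +kernel)).cons <|
    (s.rep6.term (s.a0 * s.d1 * s.a0⁻¹) (by decide +kernel)).cons <|
    (s.rep6.term (s.a0 * (s.b5 * s.b6)) (by decide +kernel)).cons <|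
    (s.rep6.term (s.τ * s.b4) (by decide +kernel)).cons <| (s.rep6.term (s.τ * s.b6) (by decide +kernel)).cons <|
    (s.rep6.term (s.τ * s.b4 * s.τ * s.b5 * s.b4 * s.b5) (by decide +kernel)).cons <| (s.rep6.nth 6).cons <|
    (s.rep6.term (s.σ * (s.b4 * s.b6) * s.σ⁻¹) (by decide +kernel)).cons <|
    (s.rep6.term (s.σ * (s.b5 * (s.b4 * s.b6) * s.b5) * s.σ⁻¹) (by decide +kernel)).cons <|
    (s.rep6.term (s.σ * (s.τ * s.b4) * s.σ⁻¹) (by decide +kernel)).cons <|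
    (s.rep6.term (s.σ * (s.τ * s.b6) * s.σ⁻¹) (by decide +kernel)).cons <|
    (s.rep6.term (s.b4 * s.b6 * (s.σ * (s.b4 * s.b6) * s.σ⁻¹)) (by decide +kernel)).cons <|
    (s.rep6.term (s.σ * s.τ) (by decide +kernel)).cons <|
    (s.rep6.term (s.σ * s.b4 * s.σ * s.τ * s.b4) (by decide +kernel)).cons Cod.repL_nil

/-- The normaliser of `D`. -/
def HD : Subgroup G := clos [s.a0, s.c2, s.τ, s.d1, s.b5, s.σ]
/-- The normaliser of `D` and `UU`. -/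
def H36 : Subgroup G := clos [s.a0, s.c2, s.σ, s.d1 * s.b5]
/-- The Sylow 2-subgroup of the socle. -/
def UU : Subgroup G := clos [s.x, s.v, s.x', s.v']
/-- The group `A₄ × A₄`. -/
def DU : Subgroup G := clos [s.a0, s.c2, s.x, s.v, s.x', s.v']
/-- The centraliser of `V`. -/
def CV : Subgroup G := clos [s.x, s.v, s.k4', s.d1, s.k6']
/-- The centraliser of `x`. -/
def CD : Subgroup G := clos [s.x, s.v, s.k4', s.d1, s.k6', s.b4]
/-- A Sylow subgroup of it. -/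
def R : Subgroup G := clos [s.x, s.v, s.x', s.v', s.t1]
/-- A Sylow subgroup. -/
def T : Subgroup G := clos [s.x, s.v, s.x', s.v', s.t1, s.σ]
/-- A complement to the socle. -/
def F4 : Subgroup G := clos [s.τ, s.σ]
/-- The class of `x`. -/
def clX : Set G := cls s.e5 s.x
/-- The class of `τ`. -/
def clT : Set G := cls s.e5 s.τ
/-- The class of `w`. -/
def clW : Set G := cls s.e5 s.w
/-- The class of `σ`. -/
def clS : Set G := cls s.e5 s.σ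
/-- The class of `ρ`. -/
def clR : Set G := cls s.e5 s.ρ

theorem gH36 : s.C2.Lists gH36_t.dom s.H36 ∧ Nat.card s.H36 = 36 :=
  ((s.repG.pick [0, 6, 16]).append ((s.repG.term (s.d1 * s.b5) (a := P10.mul (nth 0 cG 1) (nth 0 cG 4))
    (by decide +kernel)).cons Cod.repL_nil)).gen (by decide +kernel)
theorem gUU : s.C2.Lists gUU_t.dom s.UU ∧ Nat.card s.UU = 16 := (s.repG.pick [9, 10, 17, 18]).gen gUU_ok
theorem gCV : s.C2.Lists gCV_t.dom s.CV ∧ Nat.card s.CV = 240 := (s.repG.pick [9, 10, 19, 1, 20]).gen gCV_ok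
theorem gCD : s.C2.Lists gCD_t.dom s.CD ∧ Nat.card s.CD = 480 := (s.repG.pick [9, 10, 19, 1, 20, 3]).gen gCD_ok
theorem gR : s.C2.Lists gR_t.dom s.R ∧ Nat.card s.R = 32 := (s.repG.pick [9, 10, 17, 18, 23]).gen gR_ok
theorem gT : s.C2.Lists gT_t.dom s.T ∧ Nat.card s.T = 64 := (s.repG.pick [9, 10, 17, 18, 23, 16]).gen gT_ok

theorem hG : s.C2.ListsL [gN1_t.dom, gD_t.dom, gE_t.dom, gHD_t.dom, gH36_t.dom, gUU_t.dom, gDU_t.dom, gCV_t.dom,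
    gCD_t.dom, gR_t.dom, gT_t.dom, gF4_t.dom, gclX_t.dom, gclT_t.dom, gclW_t.dom, gclS_t.dom, gclR_t.dom]
    [s.N1, s.D, s.E, s.HD, s.H36, s.UU, s.DU, s.CV, s.CD, s.R, s.T, s.F4, s.clX, s.clT, s.clW, s.clS, s.clR] :=
  ((s.repG.take 6).gen gN1_ok).1.cons <| ((s.repG.pick [0, 6]).gen gD_ok).1.cons <|
    ((s.repG.pick [0, 6, 2]).gen gE_ok).1.cons <| ((s.repG.pick [0, 6, 2, 1, 4, 16]).gen gHD_ok).1.cons <|
    s.gH36.1.cons <| s.gUU.1.cons <| ((s.repG.pick [0, 6, 9, 10, 17, 18]).gen gDU_ok).1.cons <| s.gCV.1.cons <|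
    s.gCD.1.cons <| s.gR.1.cons <| s.gT.1.cons <| ((s.repG.pick [2, 16]).gen gF4_ok).1.cons <|
    (s.rep5.orb (s.repG.nth 9) gclX_ok).1.cons <| (s.rep5.orb (s.repG.nth 2) gclT_ok).1.cons <|
    (s.rep5.orb (s.repG.nth 21) gclW_ok).1.cons <| (s.rep5.orb (s.repG.nth 16) gclS_ok).1.cons <|
    (s.rep5.orb (s.repG.nth 22) gclR_ok).1.cons Cod.listsL_nil

theorem cardG1 : Nat.card s.G1 = 14400 :=
  le_antisymm (presG _ _ rfl (s.rep5.sat relG_ok)).2 (card_ge s.rep5)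

theorem u0 : s.UU ≤ s.CV ∧ s.CV ≤ s.CD ∧ s.R ≤ s.CD ∧ s.UU ≤ s.DU ∧ s.D ≤ s.DU ∧ s.D ≤ s.H36 ∧ s.x ∈ s.R ∧ s.v ∈ s.R ∧
    s.x * s.x = 1 ∧ s.v * s.v = 1 ∧ s.w * s.w = 1 ∧ s.x ≠ 1 ∧ s.x * s.w = s.w * s.x ∧ s.v * s.w = s.w * s.v ∧
    s.b4 ∈ s.CD ∧ s.b4 * s.v * s.b4⁻¹ = s.x * s.v ∧ s.v ∈ s.clX ∧ s.x * s.v ∈ s.clX ∧ s.x * s.w ∈ s.clX ∧
    s.δ ∈ s.clX ∧ s.c2⁻¹ * s.v * s.c2⁻¹⁻¹ = s.x ∧ s.c2 * (s.x * s.v) * s.c2⁻¹ = s.x ∧ s.y * s.ρ = s.ρ * s.y :=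
  s.hG.decide s.repG (by decide +kernel)
theorem u1 : ∀ g ∈ s.N1, (g * s.x = s.x * g → g * s.v = s.v * g → g ∈ s.CV) ∧ (g * s.a0 = s.a0 * g →
    (g * s.x = s.x * g → g ^ 12 = 1 ∧ g ∈ s.CD) ∧
      (g * s.x' = s.x' * g → g * s.v' = s.v' * g → s.σ * g * s.σ⁻¹ ∈ s.CV) ∧
      (g * s.x * g⁻¹ ∈ s.UU → g * s.x' * g⁻¹ ∈ s.UU → g ∈ s.DU)) := s.hG.decide s.repG (by decide +kernel)
theorem u2 : ∀ g ∈ s.E, (g * s.x * g⁻¹ ∈ s.UU → g ∈ s.D) ∧ (g * s.x = s.x * g → g * s.x' = s.x' * g → g = 1) :=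
  s.hG.decide s.repG (by decide +kernel)
theorem u3 : ∀ g ∈ s.HD, g * s.x * g⁻¹ ∈ s.UU → g * s.x' * g⁻¹ ∈ s.UU → g ∈ s.H36 :=
  s.hG.decide s.repG (by decide +kernel)
theorem u4 : ∀ g ∈ s.H36, g * g ∈ s.E ∧ (g ∈ s.E → g ∈ s.D) ∧ g * s.a0 * g⁻¹ ∈ s.D ∧ g * s.c2 * g⁻¹ ∈ s.D ∧
    ∀ u ∈ s.UU, g * u * g⁻¹ ∈ s.UU := s.hG.decide s.repG (by decide +kernel)
theorem u5 : ∀ k ∈ s.CD, k * s.x = s.x * k ∧ (k * s.w = s.w * k → k ^ 2 ^ 2 = 1) ∧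
    (k * (s.c2⁻¹ * s.w * s.c2⁻¹⁻¹) = s.c2⁻¹ * s.w * s.c2⁻¹⁻¹ * k → k ^ 2 ^ 2 = 1) ∧
    (k * (s.c2 * s.w * s.c2⁻¹) = s.c2 * s.w * s.c2⁻¹ * k → k ^ 2 ^ 2 = 1) := s.hG.decide s.repG (by decide +kernel)
theorem u6 : ∀ k ∈ s.CV, k * s.v = s.v * k ∧ (k * s.x' = s.x' * k → k ^ 2 ^ 1 = 1) :=
  s.hG.decide s.repG (by decide +kernel)
theorem u7 : ∀ u ∈ s.R, u * u = 1 → u ∈ s.UU ∨ u ∈ s.clT := s.hG.decide s.repG (by decide +kernel)
theorem u8 : ∀ t ∈ s.clX, (s.x * t ∈ s.clX → t = s.v ∨ t = s.x * s.v) ∧ (t * s.w ∈ s.clX → t = s.x ∨ t = s.w * s.x) ∧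
    (t ≠ s.x → t * s.x = s.x * t → t * s.x ∈ s.clX ∨ t * s.x ∈ s.clW) := s.hG.decide s.repG (by decide +kernel)
theorem u9 : ∀ b ∈ s.T, b * s.w = s.w * b ∧
    (b * b = 1 → b = 1 ∨ b ∈ s.clX ∨ b ∈ s.clT ∨ b ∈ s.clW ∨ b ∈ s.clS ∨ b ∈ s.clR) :=
  s.hG.decide s.repG (by decide +kernel)
theorem u10 : (∀ a ∈ s.UU, a * s.x = s.x * a ∧ ∀ b ∈ s.UU, a * b = b * a) ∧ (∀ a ∈ s.F4, a * a = 1) ∧
    (s.a0 * s.x' * s.a0⁻¹ * s.x'⁻¹) ^ 2 ^ 1 = 1 ∧ s.a0 * s.x' ≠ s.x' * s.a0 ∧ s.x' * s.x' = 1 ∧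
    s.x' * (s.a0 * s.x' * s.a0⁻¹) * (s.a0⁻¹ * s.x' * s.a0) = 1 ∧ s.a0 * s.x' * s.a0⁻¹ = s.v' ∧
    s.a0 * s.x = s.x * s.a0 ∧ s.x' * s.x = s.x * s.x' := s.hG.decide s.repG (by decide +kernel)

end St3

end Cfsg.Agent.T16.S8
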