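import Mathlib
import Cfsg.Agent.T16.SDTwo
import Cfsg.Agent.GT.FStar

/-!
Groups with a subgroup of order three whose normaliser is `S₃ × S₅`: the group `(A₅ × A₅).2²`.
-/

set_option autoImplicit false
set_option synthInstance.maxSize 100000
set_option synthInstance.maxHeartbeats 1000000
set_option linter.unusedSectionVars false

namespace Cfsg.Agent.T16.S8

open Cfsg.Agent.Spor Cfsg.Agent.Rec Cfsg.Agent.Inv.Fz Subgroup Equiv
open Cfsg.Agent.T16.A8 (cjm cjc cjs cjcomm cj_inv2)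

universe u

variable {G : Type u} [Group G] [Finite G]

namespace St3

variable (s : St3 G)

theorem N1_G : s.N1 ≤ s.G1 := clos_le.2 (by
  simp only [List.forall_mem_cons]
  exact ⟨s.sc' ▸ mul_mem (mul_mem (s.mG 4) (mul_mem (s.mG 2) (s.mG 3))) (inv_mem (s.mG 4)),
    s.σδ s.hD ▸ mul_mem (mul_mem (s.mG 4) (mul_mem (s.mG 0) (s.mG 2))) (inv_mem (s.mG 4)),
    s.mG 0, s.mG 1, s.mG 2, s.mG 3, by simp⟩)

theorem σG {g : G} (h : g ∈ s.G1) : s.σ * g * s.σ⁻¹ ∈ s.G1 := mul_mem (mul_mem (s.mG 4) h) (inv_mem (s.mG 4))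

theorem memHD {g : G} (h : g ∈ normalizer (s.D : Set G)) : g ∈ s.HD := by
  have h1 : s.H0 ≤ s.HD := clos_le.2 fun a ha => mem_clos (by simp at ha ⊢; tauto)
  exact (s.memH0 h).elim (h1 ·) fun e => (mul_mem_cancel_left (mem_clos (by simp))).1 (h1 e)

theorem ND_G : normalizer (s.D : Set G) ≤ s.G1 := fun _ h =>
  (s.memH0 h).elim (fun e => s.N1_G (s.le.2.2.2.1 e)) fun e =>
    (mul_mem_cancel_left (s.mG 4)).1 (s.N1_G (s.le.2.2.2.1 e))

theorem good3 (y : G) (hy : y ∈ s.G1) (ho : orderOf y = 3) : Good s.G1 y :=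
  good_of_se (s.sylD.mono (le_normalizer.trans s.ND_G) le_top) s.ND_G (fun a ha o g hg => s.cen_le ha
    (fun e => by simp [e] at o) (P := fun _ => True) (fun g h _ => s.N1_G (s.memN h))
    (fun g h _ => s.cj2 g ▸ s.σG (s.N1_G (s.memN (s.sc' ▸ cjcomm h))))
    (fun m hm g h _ => s.ND_G (s.normD (s.mixed_norm hm h))) (mem_cen.1 hg) trivial) hy ho

theorem cenV {g : G} (h1 : g * s.x = s.x * g) (h2 : g * s.v = s.v * g) : g ∈ s.CV := by
  obtain ⟨N, hN, hDN, h⟩ := s.ftV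
  have k1 : ∀ g ∈ s.L, g ∈ s.N1 → g ∈ s.CV := fun g hg h => (s.u1 g h).1 (s.mem_L.1 hg).1 (s.mem_L.1 hg).2
  have k2 : ∀ g ∈ s.L, g * s.c2 = s.c2 * g → g ∈ s.CV := fun g hg h => by
    have e : s.σ * g * s.σ⁻¹ * s.a0 = s.a0 * (s.σ * g * s.σ⁻¹) := s.sc' ▸ cjcomm h
    exact s.cj2 g ▸ ((s.u1 _ (s.memN e)).2 e).2.1 (cjcomm (s.mem_L.1 hg).1) (cjcomm (s.mem_L.1 hg).2)
  have k3 : N ≤ s.CV := s.sig hN.cop hDN (fun n hn e => k1 n (hN.le hn) (s.memN e)) fun n hn => k2 n (hN.le hn)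
  rcases h with h | ⟨h, -⟩ <;> obtain ⟨n, hn, a, ha, e, rfl⟩ := h g (s.mem_L.2 ⟨h1, h2⟩)
  exacts [mul_mem (k3 hn) (k1 a ha (s.hN a e)), mul_mem (k3 hn) (k2 a ha e)]

theorem xG : s.x ∈ s.G1 := mul_mem (s.mG 1) (s.mG 3)
theorem vG : s.v ∈ s.G1 := mul_mem (mul_mem (s.mG 2) s.xG) (s.mG 2)

theorem CD_G : s.CD ≤ s.G1 := clos_le.2 (by
  simp only [List.forall_mem_cons]
  exact ⟨s.xG, s.vG, s.σG (mul_mem (s.mG 0) (s.mG 1)), s.N1_G (mem_clos (by simp)), s.σG (mul_mem (s.mG 0) (s.mG 3)),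
    s.mG 1, by simp⟩)

theorem normU : normalizer (s.UU : Set G) ≤ s.G1 := by
  obtain ⟨e1, e2, -, e4, e5, e6, -⟩ := s.u0
  have xU : s.x ∈ s.UU := mem_clos (by simp)
  have xU' : s.x' ∈ s.UU := mem_clos (by simp)
  have hH : s.H36 = normalizer (s.UU : Set G) ⊓ normalizer (s.D : Set G) := le_antisymm
    (fun g hg => ⟨mem_normalizer_of_conj_mem (s.u4 g hg).2.2.2.2, mem_normalizer_of_conj_mem (conj_clos_mem (by
      simp only [List.forall_mem_cons]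
      exact ⟨(s.u4 g hg).2.2.1, (s.u4 g hg).2.2.2.1, by simp⟩))⟩)
    fun g hg => s.u3 g (s.memHD hg.2) (conj_mem_of_mem_norm hg.1 xU) (conj_mem_of_mem_norm hg.1 xU')
  have hDU : s.D ⊔ s.UU = s.DU := le_antisymm (sup_le e5 e4) (clos_le.2 (by
    simp only [List.forall_mem_cons]
    exact ⟨mem_sup_left s.a0D, mem_sup_left s.c2D, mem_sup_right xU, mem_sup_right (mem_clos (by simp)),
      mem_sup_right xU', mem_sup_right (mem_clos (by simp)), by simp⟩))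
  have hE : centralizer (s.D : Set G) = s.E :=
    le_antisymm (fun g hg => s.memE (hg _ s.a0D).symm (hg _ s.c2D).symm) fun g hg a ha => ((s.n4 a ha).2.2 g hg).symm
  have hS : Sec s.UU (normalizer (s.UU : Set G)) := ⟨le_normalizer, le_rfl, by rw [s.gUU.2]; decide⟩
  have hD := s.sylD.mono (e6.trans (hH.le.trans inf_le_left)) le_top
  have nn : ∀ g ∈ normalizer (s.UU : Set G), g ∈ normalizer (s.D : Set G) →
      g ∈ normalizer ((s.D ⊔ s.UU : Subgroup G) : Set G) := fun g h1 h2 =>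
    cj_eq_iff.1 (by rw [cj_sup, cj_eq_iff.2 h1, cj_eq_iff.2 h2])
  refine le_of_norm_sup hS hD (nine_v4 ⟨hS, hD, s.gD.2, fun b hb => (s.n4 b hb).1, fun g hg h =>
    mem_sup_left ((s.u2 g (s.memE (h _ s.a0D) (h _ s.c2D))).1 (conj_mem_of_mem_norm hg xU))⟩
    (fun b hb b1 g hg h => ?_) ?_ fun g hg => hE ▸ (s.u4 g (hH ▸ hg)).1) (e1.trans (e2.trans s.CD_G))
    (inf_le_right.trans s.ND_G)
  · have k : ∀ g, g * s.a0 = s.a0 * g → g ∈ normalizer (s.UU : Set G) →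
        g ∈ normalizer ((s.D ⊔ s.UU : Subgroup G) : Set G) := fun g h hg => le_normalizer (hDU ▸
      ((s.u1 g (s.memN h)).2 h).2.2 (conj_mem_of_mem_norm hg xU) (conj_mem_of_mem_norm hg xU'))
    have σU : s.σ ∈ normalizer (s.UU : Set G) := (hH.le (mem_clos (by simp))).1
    refine s.cen_le hb b1 k (fun g h1 h2 => ?_) (fun m hm g h hg => nn g hg (s.normD (s.mixed_norm hm h))) h hg
    have hσ := nn _ σU s.σD
    rw [← s.cj2 g]
    exact mul_mem (mul_mem hσ (k _ (s.sc' ▸ cjcomm h1) (mul_mem (mul_mem σU h2) (inv_mem σU)))) (inv_mem hσ)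
  · have h := card_mul_relIndex e6
    rw [s.gD.2, s.gH36.2] at h
    rw [hE, ← hH, ← inf_relIndex_right, show s.E ⊓ s.H36 = s.D from
      le_antisymm (fun g hg => (s.u4 g hg.2).2.1 hg.1) (le_inf s.le.1 e6)]
    omega

theorem notX {t b : G} (h : IsConj s.x b) (ht : t = s.τ ∨ t = s.σ ∨ t = s.ρ) : b ∉ cls s.e5 t := fun hb => by
  have h1 : IsConj s.δ t := (isConj_of_mem_cls s.u0.2.2.2.2.2.2.2.2.2.2.2.2.2.2.2.2.2.2.2.1).symm.trans
    (h.trans (isConj_of_mem_cls hb).symm)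
  have k : s.y * t = t * s.y → False := fun e => by
    rcases (conj_of_syl3 s.sylδ s.o1 h1 s.oy e).1 with h | h <;> obtain ⟨k, hk⟩ := isConj_iff.1 h
    · exact s.not_conj36 s.hy _ hk
    · exact s.not_conj36 s.hy _ ((cjc s.comm.2.2.2.2.2.1).trans hk)
  rcases ht with rfl | rfl | rfl
  exacts [s.δτ h1, k s.σy.symm, k s.u0.2.2.2.2.2.2.2.2.2.2.2.2.2.2.2.2.2.2.2.2.2.2]

theorem isol {g : G} (h : g * s.x = s.x * g) (h' : g * s.v * g⁻¹ ∈ s.R) :
    g * s.v * g⁻¹ = s.v ∨ g * s.v * g⁻¹ = s.x * s.v := by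
  obtain ⟨e1, e2, -, -, -, -, -, -, -, v2, -, -, -, -, -, -, vX, xvX, -⟩ := s.u0
  have hx : g * s.x * g⁻¹ = s.x := mul_inv_eq_iff_eq_mul.2 h
  have hU := (s.u7 _ h' (conj_sq v2)).resolve_right
    (s.notX ((isConj_of_mem_cls vX).trans (isConj_iff.2 ⟨g, rfl⟩)) (.inl rfl))
  have hS : IsSylIn 2 s.UU s.CV := isSylIn_of_card e1 (k := 4) (m := 15) s.gUU.2 s.gCV.2 (by decide)
  obtain ⟨k, hk, h1⟩ := hS.exists_cj_le (isPGroup_cj hS.isPGroup g⁻¹) (cj_le_iff.2 fun a ha => s.cenV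
    (cjs hx ▸ cjcomm (s.u10.1 a ha).1) (cjs (rfl : g * s.v * g⁻¹ = _) ▸ cjcomm ((s.u10.1 a ha).2 _ hU)))
  rw [cj_cj] at h1
  have hg : g ∈ s.G1 := inv_mem_iff.1 ((mul_mem_cancel_left (s.CD_G (e2 hk))).1 (s.normU (cj_eq_iff.1 (cj_eq_of_le h1))))
  refine (s.u8 _ (conj_mem_cls hg vX)).1 ?_
  have := conj_mem_cls hg xvX
  rwa [cjm, hx] at this

theorem memCD {g : G} (h : g * s.x = s.x * g) (h' : g * s.v * g⁻¹ = s.v ∨ g * s.v * g⁻¹ = s.x * s.v) : g ∈ s.CD := by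
  obtain ⟨-, h1, -, -, -, -, -, -, -, -, -, -, -, -, h2, h3, -⟩ := s.u0
  rcases h' with h' | h'
  · exact h1 (s.cenV h (mul_inv_eq_iff_eq_mul.1 h'))
  · exact (mul_mem_cancel_left (inv_mem h2)).1 (h1 (s.cenV (Commute.mul_left (Commute.inv_left (s.u5 _ h2).1) h)
      (mul_inv_eq_iff_eq_mul.1 ((cjc h').trans (cjs h3)))))

theorem odd_bot {O : Subgroup G} (h1 : O ≤ centralizer {s.x}) (h2 : centralizer {s.x} ≤ normalizer (O : Set G))
    (hO : Odd (Nat.card O)) : O = ⊥ := by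
  obtain ⟨-, -, p1, p2, p3, p4, p5, p6, p7⟩ := s.u10
  have a0L := mem_cen.2 p6
  have a1L := mem_cen.2 p7
  have k : ∀ g, g * s.a0 = s.a0 * g → g * s.x = s.x * g → g ^ 12 = 1 ∧ g ∈ s.CD := fun g h =>
    ((s.u1 g (s.memN h)).2 h).1
  have syl : IsSylIn 3 (zpowers s.a0) (centralizer {s.x}) := syl3_zpowers a0L s.o1 fun h => by
    have h5 : (centralizer {s.x} ⊓ centralizer {s.a0} : Subgroup G) ≤ s.CD := fun g hg =>
      (k g (mem_cen.1 hg.2) (mem_cen.1 hg.1)).2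
    exact absurd (s.gCD.2 ▸ h.trans (card_dvd_of_le h5)) (by decide)
  have cop := coprime_three_of_four hO h1 h2 syl s.o1 a1L p1 p2
  have hf : ∀ k ∈ O, k * s.a0 = s.a0 * k → k = 1 := fun a ha e =>
    orderOf_eq_one_iff.1 (Nat.eq_one_of_dvd_coprimes (Nat.Coprime.mul_right (Nat.Coprime.pow_right 2
      (Odd.coprime_two_right hO)) cop) (O.orderOf_dvd_natCard ha)
      (orderOf_dvd_of_pow_eq_one (k a e (mem_cen.1 (h1 ha))).1))
  have h5 := fpf_four hO (s.n4 _ s.a0D).1 p3 p4 (h2 a0L) (h2 a1L) hf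
  refine (eq_bot_iff_forall _).2 fun a ha => ?_
  have h6 : a * s.v' = s.v' * a := by
    have := cjcomm (g := s.a0) (h5 _ (conj_mem_of_mem_norm (h2 (inv_mem a0L)) ha))
    rwa [← cjc rfl, mul_inv_cancel, one_mul, inv_one, mul_one, p5] at this
  have h9 := (s.u6 _ (s.cenV (s.cj2 s.x ▸ cjcomm (h5 a ha)) (s.cj2 s.v ▸ cjcomm h6))).2 (cjcomm (mem_cen.1 (h1 ha)))
  rw [conj_pow, conj_eq_one] at h9
  exact eq_one_of_odd_of_sq hO ha h9

theorem cen_x : centralizer {s.x} = s.CD := le_antisymm (fun g hg => by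
  obtain ⟨-, -, RM, -, -, -, xR, vR, x2, -⟩ := s.u0
  have hS : IsSylIn 2 s.R s.CD := isSylIn_of_card RM (k := 5) (m := 15) s.gR.2 s.gCD.2 (by decide)
  have hS' : IsSylIn 2 s.R (centralizer {s.x}) := isSylIn_of_normalizer hS
    (fun a ha => mem_cen.2 (s.u5 a (RM ha)).1)
    fun g hg hn => s.memCD (mem_cen.1 hg) (s.isol (mem_cen.1 hg) (conj_mem_of_mem_norm hn vR))
  have h := zstar_mod hS' (Z := zpowers s.x) (zpowers_le.2 xR)
    (fun g hg z hz => by rcases (mem_zpowers_iff_of_sq x2).1 hz with rfl | rfl <;> simp [mem_cen.1 hg]) vR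
    (fun g hg h => by rcases s.isol (mem_cen.1 hg) h with e | e <;> simp [e]) (fun O => s.odd_bot) g hg
  exact s.memCD (mem_cen.1 hg) (((mem_zpowers_iff_of_sq x2).1 h).imp mul_inv_eq_one.1 mul_inv_eq_iff_eq_mul.1))
  fun g hg => mem_cen.2 (s.u5 g hg).1

theorem good_x : Good s.G1 s.x := by
  obtain ⟨-, -, RM, -, -, -, -, -, x2, -, -, x1, -⟩ := s.u0
  have hT : s.T ≤ s.G1 := clos_le.2 fun a ha => by
    simp only [List.mem_cons, List.not_mem_nil, or_false] at ha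
    rcases ha with rfl | rfl | rfl | rfl | rfl | rfl
    exacts [s.xG, s.vG, s.σG s.xG, s.σG s.vG, s.CD_G (RM (mem_clos (by simp))), s.mG 4]
  refine good_of_syl (isSylIn_of_card hT (k := 6) (m := 225) s.gT.2 s.cardG1 (by decide)) s.xG x2
    (s.cen_x ▸ s.CD_G) fun b hb h => ?_
  obtain ⟨g, rfl⟩ := isConj_iff.1 h
  rcases (s.u9 _ hb).2 (conj_sq x2) with e | ⟨k, hk, e⟩ | e | ⟨k, -, e⟩ | e | e
  · exact absurd (conj_eq_one.1 e) x1
  · exact ⟨k⁻¹, inv_mem hk, cjs e⟩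
  · exact absurd e (s.notX h (.inl rfl))
  · have h1 := card_dvd_of_le (fun a ha => mem_cen.2 (s.u9 a ha).1 : s.T ≤ centralizer {s.w})
    rw [← card_cen_conj k, e, card_cen_conj, s.cen_x, s.gCD.2, s.gT.2] at h1
    exact absurd h1 (by decide)
  · exact absurd e (s.notX h (.inr (.inl rfl)))
  · exact absurd e (s.notX h (.inr (.inr rfl)))

theorem cen_w : centralizer {s.w} ≤ s.G1 := by
  obtain ⟨-, -, -, -, -, -, -, -, x2, v2, w2, -, xw, vw, -, -, -, -, e1, -, e2, e3, -⟩ := s.u0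
  refine cen_le_of_good s.good_x x2 (mul_mem s.xG (s.σG s.xG)) w2 xw (fun g hg h => (s.u8 _ (conj_mem_cls hg
    (self_mem_cls _ _))).2.1 (by
      have := conj_mem_cls hg e1
      rwa [cjm, mul_inv_eq_iff_eq_mul.2 h] at this)) fun O h1 h2 hO => ?_
  refine eq_bot_of_four hO x2 v2 (h2 (mem_cen.2 xw)) (h2 (mem_cen.2 vw)) fun k hk h => eq_one_of_odd_of_sq hO hk
    (k := 2) ?_
  have kw := mem_cen.1 (h1 hk)
  rcases h with h | h | h
  · exact (s.u5 k (s.cen_x ▸ mem_cen.2 h)).2.1 kw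
  · have := (s.u5 _ (s.cen_x ▸ mem_cen.2 (e2 ▸ cjcomm (g := s.c2⁻¹) h))).2.2.1 (cjcomm kw)
    rwa [conj_pow, conj_eq_one] at this
  · have := (s.u5 _ (s.cen_x ▸ mem_cen.2 (e3 ▸ cjcomm (g := s.c2) h))).2.2.2 (cjcomm kw)
    rwa [conj_pow, conj_eq_one] at this

theorem top : s.G1 = ⊤ := by
  have k : ∀ {t i : G}, centralizer {t} ≤ s.G1 → i ∈ cls s.e5 t → ∀ x ∈ (⊤ : Subgroup G), Commute x i →
      x ∈ s.G1 := by
    rintro t _ ht ⟨m, hm, rfl⟩ x - hx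
    have := ht (mem_cen.2 (cjs (rfl : m * t * m⁻¹ = _) ▸ cjcomm (g := m⁻¹) hx))
    exact (mul_mem_cancel_left (inv_mem hm)).1 ((mul_mem_cancel_right (inv_mem (inv_mem hm))).1 this)
  refine top_le_iff.1 (ot3 (mem_top _) s.xG s.u0.2.2.2.2.2.2.2.2.1 (fun g _ => s.good_x.of_conj)
    (fun g _ h h1 h2 => ?_) ?_ s.good3)
  · exact ((s.u8 _ (conj_mem_cls (s.good_x.of_conj h) (self_mem_cls _ _))).2.2 h1 h2).elim
      (k (s.cen_x ▸ s.CD_G)) (k s.cen_w)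
  · have h := card_mul_relIndex s.CD_G
    rw [s.gCD.2, s.cardG1] at h
    rw [top_inf_eq, s.cen_x]
    omega

include s in
theorem main : ∃ N : Subgroup G, N.Normal ∧ generalizedFittingSubgroup G = N ∧
    Nonempty (N ≃* alternatingGroup (Fin 5) × alternatingGroup (Fin 5)) ∧
    (∀ K : Subgroup G, K.Normal → K ≤ N → K = ⊥ ∨ K = N) ∧ N.index = 4 ∧ ∀ g : G, g ^ 2 ∈ N := by
  have hF : s.F4 ≤ normalizer (s.N0 : Set G) := clos_le.2 (by simpa using ⟨s.τN0, s.σN0⟩)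
  have hG : s.F4 ⊔ s.N0 = ⊤ := top_le_iff.1 (s.top ▸ clos_le.2 (by
    have h0 : s.τ ∈ s.F4 ⊔ s.N0 := mem_sup_left (mem_clos (by simp))
    have h1 : ∀ b, s.τ * b ∈ s.K1 → b ∈ s.F4 ⊔ s.N0 := fun b hb =>
      (mul_mem_cancel_left h0).1 (mem_sup_right (mem_sup_left hb))
    simp only [List.forall_mem_cons]
    exact ⟨h0, h1 _ (mem_clos (List.mem_cons_self ..)), h1 _ (mem_clos (List.mem_cons_of_mem _ (List.mem_cons_self ..))),
      h1 _ (mem_clos (List.mem_cons_of_mem _ (List.mem_cons_of_mem _ (List.mem_cons_self ..)))),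
      mem_sup_left (mem_clos (by simp)), by simp⟩))
  have hN : s.N0.Normal := normalizer_eq_top_iff.1 (top_le_iff.1 (hG ▸ sup_le hF le_normalizer))
  obtain ⟨φ, φ1, φ2⟩ := s.exists_a5
  have hK : ∀ K : Subgroup G, K.Normal → K ⊓ s.K1 ≠ ⊥ → s.N0 ≤ K := fun K hK h => by
    have h1 : s.K1 ≤ K := by
      rcases IsSimpleGroup.eq_bot_or_eq_top_of_normal (K.comap φ) inferInstance with e | e
      · refine absurd ((eq_bot_iff_forall _).2 fun a ha => ?_) h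
        obtain ⟨b, rfl⟩ : a ∈ φ.range := φ2 ▸ ha.2
        rw [show b = 1 from mem_bot.1 (e ▸ ha.1), map_one]
      · rw [← φ2]
        rintro _ ⟨b, rfl⟩
        exact (e ▸ mem_top b : b ∈ K.comap φ)
    exact sup_le h1 (cj_le_iff.2 fun a ha => hK.conj_mem _ (h1 ha) _)
  have hmin : ∀ K : Subgroup G, K.Normal → K ≤ s.N0 → K = ⊥ ∨ K = s.N0 := fun K hn h => by
    by_cases e : K ⊓ s.K1 = ⊥
    swap
    · exact .inr (le_antisymm h (hK K hn e))
    have k : ∀ g ∈ K, ∀ a ∈ s.K2, ∀ b ∈ s.K1, g = a * b → b = 1 := fun g hg a ha b hb e' =>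
      s.cenK1 b hb fun c hc => by
        have h1 : c * g * c⁻¹ * g⁻¹ = c * b * c⁻¹ * b⁻¹ := by
          have h2 := s.K2_cent s.hD ha _ (mul_mem (mul_mem (mul_mem hc hb) (inv_mem hc)) (inv_mem hb))
          rw [e', ← mul_assoc c, s.K2_cent s.hD ha c hc,
            show a * c * b * c⁻¹ * (a * b)⁻¹ = a * (c * b * c⁻¹ * b⁻¹) * a⁻¹ by group, ← h2, mul_inv_cancel_right]
        have h2 : c * b * c⁻¹ * b⁻¹ ∈ K ⊓ s.K1 := mem_inf.2 ⟨h1 ▸ mul_mem (hn.conj_mem _ hg _) (inv_mem hg),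
          mul_mem (mul_mem (mul_mem hc hb) (inv_mem hc)) (inv_mem hb)⟩
        exact (mul_inv_eq_iff_eq_mul.1 (mul_inv_eq_one.1 (mem_bot.1 (e ▸ h2)))).symm
    refine .inl ((eq_bot_iff_forall _).2 fun g hg => ?_)
    obtain ⟨a, ha, b, hb, e'⟩ := s.mem_N0 s.hD (h hg)
    rw [k g hg a ha b hb e', mul_one] at e'
    refine conj_eq_one.1 (k _ (hn.conj_mem g hg s.σ) 1 (one_mem _) _ ?_ (one_mul _).symm)
    rw [e']
    rw [← s.cj2 a] at ha
    exact conj_mem_cj.1 ha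
  have hC : centralizer (s.N0 : Set G) ≤ ⊥ := fun g hg => by
    have q : s.c2 ∈ s.K1 ∧ s.x ∈ s.K1 := s.hL.decide s.rep (by decide +kernel)
    exact (s.u2 g (s.memE (s.sc' ▸ hg _ (mem_sup_right (conj_mem_cj.2 q.1))).symm (hg _ (mem_sup_left q.1)).symm)).2
      (hg _ (mem_sup_left q.2)).symm (hg _ (mem_sup_right (conj_mem_cj.2 q.2))).symm
  have hc := s.cardN0 s.hD
  refine ⟨s.N0, hN, le_antisymm (GT.genFitting_le_of_centralizer_le hN.isSubnormal ?_ (hC.trans bot_le))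
    (GT.IsMinNormal.le_genFitting ⟨hN, fun e => by simp [e] at hc, hmin⟩), s.isoN0 s.hD, hmin, ?_, fun g => ?_⟩
  · have : (fittingSubgroup G).Normal := inferInstance
    rcases hmin (fittingSubgroup G ⊓ s.N0) inferInstance inf_le_right with e | e
    · exact ((GT.le_centralizer_of_inf_eq_bot e).trans hC).trans bot_le
    · have h1 : s.K1 ≤ fittingSubgroup G := le_sup_left.trans (e ▸ inf_le_left : s.N0 ≤ _)
      have := GT.isNilpotent_fitting (G := G)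
      exact absurd (Group.isSolvable_of_isSolvable_injective (f := φ.codRestrict (fittingSubgroup G) fun a =>
        h1 (φ2 ▸ ⟨a, rfl⟩)) fun a b e => φ1 (congrArg Subtype.val e)) sm_A5.not_solvable
  · have h := s.N0.card_mul_index
    rw [hc, ← card_top, ← s.top, s.cardG1] at h
    omega
  · obtain ⟨a, ha, b, hb, rfl⟩ := (mem_sup_iff_of_le_normalizer hF).1 (hG ▸ mem_top g)
    rw [show (a * b) ^ 2 = a * b * a⁻¹ * (a * a) * b by rw [pow_two]; group, s.u10.2.1 a ha, mul_one]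
    exact mul_mem (hN.conj_mem b hb a) hb

end St3

end Cfsg.Agent.T16.S8
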