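import Mathlib
import Cfsg.Agent.T16.A9H
import Cfsg.Agent.Rec.J23.A6
import Cfsg.Agent.Rec.Sim
import Cfsg.Agent.Sym.Present

/-!
Recognition of the alternating group of degree nine: letters for the normaliser `(S₃ × S₆)⁺` of a subgroup of order three.
-/

set_option autoImplicit false
set_option synthInstance.maxSize 100000
set_option synthInstance.maxHeartbeats 1000000
set_option linter.unusedSectionVars false

namespace Cfsg.Agent.T16.A9

open Cfsg.Agent.Spor Cfsg.Agent.Rec Cfsg.Agent.Inv.Fz Subgroup Equiv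

universe u

theorem a6_k {s r f : alternatingGroup (Fin 6)} (hf : f * f = s) (s2 : s * s = 1) (s1 : s ≠ 1) (r2 : r * r = 1)
    (h3 : (s * r) ^ 3 = 1) (hne : s ≠ r) : ∃ k : alternatingGroup (Fin 6), k * k = 1 ∧ k * s = s * k ∧ k ≠ s ∧
      (k * r) ^ 3 = 1 ∧ f * k * f⁻¹ = k * s ∧ ∀ l, l * l = 1 → l * s = s * l → l ≠ s → (l * r) ^ 3 = 1 → l = k := by
  obtain ⟨e, he⟩ : ∃ e, (permCod J23.P6_ok).RepL J23.cI6 e := ⟨_, repL_permOf J23.P6_ok (by decide +kernel)⟩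
  have hL := J23.lists_A6.cons (he.lists.cons Cod.listsL_nil)
  generalize {x | x ∈ e} = I at hL
  have k1 : (∀ u ∈ alternatingGroup (Fin 6), u * u = 1 → u = 1 ∨ u ∈ I) ∧ ∀ u ∈ I, u ∈ alternatingGroup (Fin 6) :=
    hL.decide Cod.repL_nil (by decide +kernel)
  have k2 : ∀ s ∈ I, ∀ r ∈ I, (s * r) ^ 3 = 1 → s ≠ r → ∃ k ∈ I, k * s = s * k ∧ k ≠ s ∧ (k * r) ^ 3 = 1 ∧ k * k = 1 ∧
      ∀ l ∈ I, l * s = s * l → l ≠ s → (l * r) ^ 3 = 1 → l = k := hL.decide Cod.repL_nil (by decide +kernel)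
  have k3 : ∀ f ∈ alternatingGroup (Fin 6), Let (f * f) fun s => s ∈ I → ∀ k ∈ I, k * s = s * k → k ≠ s →
      f * k * f⁻¹ = k * s := hL.decide Cod.repL_nil (by decide +kernel)
  have k4 : ∀ u : alternatingGroup (Fin 6), u * u = 1 → u ≠ 1 → (u : Perm (Fin 6)) ∈ I := fun u h h' =>
    (k1.1 u u.2 (congrArg Subtype.val h)).resolve_left fun e => h' (Subtype.ext e)
  have k5 : ∀ u : alternatingGroup (Fin 6), u * u = 1 → u ^ 3 = 1 → u = 1 := fun u h h' => by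
    rwa [pow_succ, sq, h, one_mul] at h'
  have r1 : r ≠ 1 := by rintro rfl; exact s1 (k5 s s2 (by simpa using h3))
  obtain ⟨k, hk, e1, e2, e3, e4, e5⟩ := k2 s (k4 s s2 s1) r (k4 r r2 r1) (congrArg Subtype.val h3)
    fun e => hne (Subtype.ext e)
  subst hf
  exact ⟨⟨k, k1.2 k hk⟩, Subtype.ext e4, Subtype.ext e1, fun e => e2 (congrArg Subtype.val e), Subtype.ext e3,
    Subtype.ext (k3 f f.2 (k4 _ s2 s1) k hk e1 e2), fun l l1 l2 l3 l4 => Subtype.ext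
      (e5 l (k4 l l1 (by rintro rfl; exact r1 (k5 r r2 (by simpa using l4)))) (congrArg Subtype.val l2)
        (fun e => l3 (Subtype.ext e)) (congrArg Subtype.val l4))⟩

variable {G : Type u} [Group G] [Finite G]

omit [Finite G] in
theorem pow_swap {a b : G} {n : ℕ} (h : (a * b) ^ n = 1) : (b * a) ^ n = 1 := by
  simpa [mul_assoc] using cjp (g := b) h

omit [Finite G] in
theorem r3 {a b : G} (h : (a * b) ^ 3 = 1) : a * (b * (a * (b * (a * b)))) = 1 := by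
  simpa only [pow_succ, pow_zero, one_mul, mul_assoc] using h

omit [Finite G] in
theorem r2 {a b : G} (h : (a * b) ^ 2 = 1) : a * (b * (a * b)) = 1 := by
  simpa only [pow_succ, pow_zero, one_mul, mul_assoc] using h

theorem a6_k' {K : Subgroup G} (e : K ≃* alternatingGroup (Fin 6)) {s r f : G} (hr : r ∈ K) (hfK : f ∈ K) (hf : f * f = s)
    (s2 : s * s = 1) (s1 : s ≠ 1) (r2 : r * r = 1) (h3 : (s * r) ^ 3 = 1) (hne : s ≠ r) :
    ∃ k ∈ K, k * k = 1 ∧ k * s = s * k ∧ k ≠ s ∧ (k * r) ^ 3 = 1 ∧ f * k * f⁻¹ = k * s ∧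
      ∀ l ∈ K, l * l = 1 → l * s = s * l → l ≠ s → (l * r) ^ 3 = 1 → l = k := by
  lift s to K using hf ▸ mul_mem hfK hfK
  lift r to K using hr
  lift f to K using hfK
  norm_cast at *
  obtain ⟨k, h⟩ := a6_k (s := e s) (r := e r) (f := e f) (by rw [← map_mul, hf]) (by rw [← map_mul, s2, map_one])
    (by simpa using s1) (by rw [← map_mul, r2, map_one]) (by rw [← map_mul, ← map_pow, h3, map_one]) (by simpa using hne)
  obtain ⟨k, rfl⟩ := e.surjective k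
  simp only [← map_mul, ← map_pow, ← map_inv, e.map_eq_one_iff, ne_eq, e.apply_eq_iff_eq] at h
  obtain ⟨h1, h2, h4, h5, h6, h7⟩ := h
  refine ⟨k, k.2, ?_, ?_, ?_, ?_, ?_, fun l hl l1 l2 l3 l4 => ?_⟩
  any_goals (norm_cast; done)
  lift l to K using hl
  norm_cast at *
  refine e.injective (h7 (e l) ?_ ?_ ?_ ?_) <;>
    simpa only [← map_mul, ← map_pow, e.map_eq_one_iff, e.apply_eq_iff_eq]

/-- The configuration with the group `(S₃ × S₆)⁺`. -/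
structure Ns (G : Type u) [Group G] [Finite G] extends Hs G where
  t6 : G
  CN : Cod P9 G
  repN : CN.RepL cN0 [c1, t4, toH0.t5, t6, toH0.t7, toH0.t8]
  hN : pm c1 ≤ clos [c1, t4, toH0.t5, t6, toH0.t7, toH0.t8]

theorem Hs.exists_Ns (s : Hs G) (h : ¬ centralizer {s.c1} ≤ s.H) : ∃ s' : Ns G, s'.toHs = s := by
  obtain ⟨K, k1, k2, k3, k4, ⟨e⟩⟩ := s.cen_c.resolve_left h
  have f1 : s.t4 * s.t7 ∈ s.F ∧ s.f * s.f = s.t4 * s.t8 ∧ s.t4 * s.t8 * (s.t4 * s.t8) = 1 ∧ s.t4 * s.t8 ≠ 1 ∧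
      s.t4 * s.t7 * (s.t4 * s.t7) = 1 ∧ (s.t4 * s.t8 * (s.t4 * s.t7)) ^ 3 = 1 ∧ s.t4 * s.t8 ≠ s.t4 * s.t7 ∧
      s.t4 * s.c1 * s.t4⁻¹ = s.c1⁻¹ ∧ s.t4 * (s.t4 * s.t8) * s.t4⁻¹ = s.t4 * s.t8 ∧
      s.t4 * (s.t4 * s.t7) * s.t4⁻¹ = s.t4 * s.t7 ∧ s.t4 * s.t8 * (s.f * (s.t4 * s.t7) * s.f⁻¹) = s.c2 ∧
      s.t4 * s.t4 = 1 ∧ s.t5 * s.t4 = s.c2⁻¹ ∧ s.c2 ^ 3 = 1 ∧ (s.c2 * (s.t4 * s.t7)) ^ 2 = 1 ∧
      (s.c2 * (s.t4 * s.t8)) ^ 2 = 1 ∧ (s.t4 * s.t7 * (s.t4 * s.t8)) ^ 3 = 1 ∧ s.c2 ≠ 1 ∧ s.c2 = s.t4 * s.t5 ∧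
      s.c3 = s.t7 * s.t8 ∧ s.t4 * s.c1 ≠ s.c1 * s.t4 := s.hL.decide s.rep (by decide +kernel)
  obtain ⟨a1, a2, a3, a4, a5, a6, a7, a8, a9, a10, a11, a12, a13, a14, a15, a16, a17, a18, a19, a20, a21⟩ := f1
  obtain ⟨k, hk, b1, b2, b3, b4, b5, b6⟩ := a6_k' e (k3 a1) (k3 s.mem.2.2.2.2.2.2.2.1) a2 a3 a4 a5 a6 a7
  have c1 : s.t4 * k * s.t4⁻¹ = k := b6 _ (conj_mem_of_mem_norm (k2 (.inr a8)) hk) (conj_sq b1) (a9 ▸ cjcomm b2)
    (fun e => b3 (by simpa using e.trans a9.symm)) (by rw [← a10, ← cjm]; exact cjp b4)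
  have c2 : s.t4 * k = k * s.t4 := mul_inv_eq_iff_eq_mul.1 c1
  have c3 : (k * s.c2) ^ 3 = 1 := by
    have := cjp (g := s.f) b4
    rwa [cjm, b5, mul_assoc k, a11] at this
  have c4 : (s.c2⁻¹ * k) ^ 3 = 1 := by
    rw [← inv_eq_of_mul_eq_one_left b1, ← mul_inv_rev, inv_pow, c3, inv_one]
  have c5 : k * s.c1 = s.c1 * k := mem_cen.1 (k1 hk)
  have c6 : Commute k s.t8 := by
    have : s.t8 = s.t4 * (s.t4 * s.t8) := by rw [← mul_assoc, a12, one_mul]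
    rw [this]
    exact Commute.mul_right c2.symm b2
  have hs : Sat relN [s.t4, s.t5, s.t4 * k, s.t7, s.t8, s.c1, s.c1⁻¹] := by
    simp only [relN, rel6, exN, sat_append, sat_cons, sat_nil, evalW_cons, evalW_nil, nth_zero, nth_succ, mul_one, and_true]
    refine ⟨⟨?_, ?_, ?ga, ?_, ?_, ?_, ?gb, ?gc, ?_, ?gd, ?_, ?_, ?_, ?_, ?ge⟩, ?_, ?_, ?_, ?_, ?_, ?gf, ?_, ?_⟩
    case ga => rw [← pow_two, (show Commute s.t4 k from c2).mul_pow, pow_two, pow_two, a12, b1, one_mul]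
    case gb => exact r3 (by rw [← mul_assoc, a13, c4])
    case gc => exact r3 (by rw [c2, mul_assoc, b4])
    case gd => exact r2 (by rw [← mul_assoc, a12, one_mul, pow_two, b1])
    case ge =>
      refine r2 ?_
      rw [c2, mul_assoc, (show Commute k _ from b2).mul_pow, pow_two, pow_two, b1, a3, one_mul]
    case gf =>
      refine r2 ?_
      rw [c2, mul_assoc, (Commute.mul_right c2.symm c5).mul_pow, pow_two, b1, one_mul]
      exact s.hL.decide s.rep (by decide +kernel)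
    all_goals exact s.hL.decide s.rep (by decide +kernel)
  have hP : clos [s.t4, s.t5, s.t4 * k, s.t7, s.t8, s.c1, s.c1⁻¹] ≤ clos [s.c1, s.t4, s.t5, s.t4 * k, s.t7, s.t8] :=
    clos_le.2 (by
      simp only [List.forall_mem_cons, inv_mem_iff, List.not_mem_nil, false_imp_iff, implies_true, and_true]
      refine ⟨?_, ?_, ?_, ?_, ?_, ?_, ?_⟩ <;> exact mem_clos (by simp))
  have m : ∀ i, nth 1 [s.t4, s.t5, s.t4 * k, s.t7, s.t8, s.c1, s.c1⁻¹] i ∈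
      clos [s.t4, s.t5, s.t4 * k, s.t7, s.t8, s.c1, s.c1⁻¹] := nth_mem_clos _
  have h₀ := repL_permOf P9_ok lN_ok
  have hc := fun h => presN.cod_of_card h₀ (h₀.sat relN_ok) (by rfl) (h₀.gen gN_ok).2 (by norm_num) hs rfl h
  generalize clos [s.t4, s.t5, s.t4 * k, s.t7, s.t8, s.c1, s.c1⁻¹] = P at *
  have m2 : s.c2 ∈ P := a19 ▸ mul_mem (m 0) (m 1)
  have JP : s.J ≤ P := clos_le.2 (by
    simp only [List.forall_mem_cons]
    exact ⟨m 5, m2, a20 ▸ mul_mem (m 3) (m 4), by simp⟩)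
  have KP : K ≤ P := by
    obtain ⟨φ, hφ⟩ := Sym.exists_hom_of_moore 3 ![s.c2, k, s.t4 * s.t7, s.t4 * s.t8] a14
      (fun i hi => by fin_cases i <;> first | exact absurd rfl hi | (rw [pow_two]; assumption))
      (fun i j h => by
        have := pow_swap c3
        fin_cases i <;> fin_cases j <;> first | exact absurd h (by decide) | assumption)
      fun i j h => by
        have : (k * (s.t4 * s.t8)) ^ 2 = 1 := by rw [(show Commute k _ from b2).mul_pow, pow_two, pow_two, b1, a3, one_mul]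
        fin_cases i <;> fin_cases j <;> first | exact absurd h (by decide) | assumption
    have : IsSimpleGroup (alternatingGroup (Fin (3 + 3))) := alternatingGroup.isSimpleGroup (by simp)
    have hi : Function.Injective φ := (MonoidHom.ker_eq_bot_iff φ).1 <|
      (IsSimpleGroup.eq_bot_or_eq_top_of_normal φ.ker inferInstance).resolve_right fun h =>
        a18 ((hφ 0).symm.trans (MonoidHom.mem_ker.1 (h ▸ mem_top _)))
    have h1 : φ.range ≤ K ⊓ P := by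
      rw [MonoidHom.range_eq_map, ← Sym.closure_mooreGen, MonoidHom.map_closure, closure_le]
      rintro _ ⟨_, ⟨i, rfl⟩, rfl⟩
      rw [hφ]
      fin_cases i
      · exact ⟨k3 (mem_clos (by simp)), m2⟩
      · exact ⟨hk, (P.mul_mem_cancel_left (m 0)).1 (m 2)⟩
      · exact ⟨k3 a1, mul_mem (m 0) (m 3)⟩
      · exact ⟨a2 ▸ k3 (mul_mem s.mem.2.2.2.2.2.2.2.1 s.mem.2.2.2.2.2.2.2.1), mul_mem (m 0) (m 4)⟩
    rw [← eq_of_le_of_card_ge (h1.trans inf_le_left)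
      (by rw [Nat.card_congr e.toEquiv, ← Nat.card_congr (MonoidHom.ofInjective hi).toEquiv])]
    exact h1.trans inf_le_right
  have CP : centralizer {s.c1} ≤ P := fun g hg => by
    obtain ⟨k, hk, j, hj, rfl⟩ := k4 g hg
    exact mul_mem (KP hk) (JP hj)
  obtain ⟨C, hC⟩ := hc (by
    have h1 := card_dvd_of_le k1
    have h2 := card_dvd_of_le (fun g hg => mem_cen.2 (s.Jc g hg _ s.mem.1) : s.J ≤ centralizer {s.c1})
    rw [Nat.card_congr e.toEquiv, J23.card_A6] at h1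
    rw [s.gJ.2] at h2
    have h3 : 1080 ∣ _ := Nat.lcm_dvd h1 h2
    have h4 := card_lt_of_lt (lt_of_le_of_ne CP fun e => a21 (mem_cen.1 (e ▸ m 0)))
    obtain ⟨n, hn⟩ := h3.trans (card_dvd_of_le CP)
    have h5 := Nat.le_of_dvd Nat.card_pos h3
    omega)
  refine ⟨⟨s, s.t4 * k, C, hC.pick [5, 0, 1, 2, 3, 4], fun g hg => hP ?_⟩, rfl⟩
  rcases mem_pm.1 hg with h | h
  · exact CP (mem_cen'.2 h)
  · exact (P.mul_mem_cancel_left (x := s.t4) (m 0)).1 (CP (mem_cen'.2 ((cjc h).trans (by rw [← conj_inv, a8, inv_inv]))))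

end Cfsg.Agent.T16.A9
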