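import Mathlib
import Cfsg.Agent.T16.A9K
import Cfsg.Agent.Rec.SylTools

/-!
Recognition of the alternating group of degree nine: centralisers of four-groups.
-/

set_option autoImplicit false
set_option synthInstance.maxSize 100000
set_option synthInstance.maxHeartbeats 1000000
set_option linter.unusedSectionVars false

namespace Cfsg.Agent.T16.A9

open Cfsg.Agent.Spor Cfsg.Agent.Rec Cfsg.Agent.Inv.Fz Subgroup

universe u

variable {G : Type u} [Group G] [Finite G]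

theorem rep_word {C : Cod P9 G} {c : List ℕ} {e : List G} (h : C.RepL c e) (w : List ℕ) {a : ℕ}
    (ha : Nat.beq (evC P9 c w) a = true) : C.Rep a (evalW (nth 1 e) w) :=
  (nbeq_iff _ _).1 ha ▸ h.word w

theorem word_mem (e : List G) (w : List ℕ) : evalW (nth 1 e) w ∈ clos e := evalW_mem fun x _ => nth_mem_clos e x

theorem mem_cen2 {x y g : G} : g ∈ centralizer (clos [x, y] : Set G) ↔ g * x = x * g ∧ g * y = y * g :=
  ⟨fun h => ⟨(mem_centralizer_iff.1 h _ (mem_clos (by simp))).symm, (mem_centralizer_iff.1 h _ (mem_clos (by simp))).symm⟩,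
    fun h => mem_centralizer_iff.2 fun r hr => (commute_clos (by simpa using h) r hr).symm⟩

namespace Ns

variable (s : Ns G)

/-- The generators of `(S₃ × S₆)⁺`. -/
abbrev e0 : List G := [s.c1, s.t4, s.t5, s.t6, s.t7, s.t8]
/-- `(45)(67)`. -/
def k : G := s.t4 * s.t6
/-- `(56)(47)`. -/
def k2 : G := s.c2 * s.k * s.c2⁻¹
/-- `(56)(78)`. -/
def g : G := s.t5 * s.t7
/-- `(67)(89)`. -/
def p : G := s.t6 * s.t8
/-- `(47)(58)`. -/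
noncomputable def p1 : G := evalW (nth 1 s.e0) [2, 3, 4, 1, 2, 3, 1, 2]
/-- `(58)(69)`. -/
noncomputable def p2 : G := evalW (nth 1 s.e0) [3, 4, 5, 2, 3, 4, 2, 3]
/-- `(78)(49)`. -/
noncomputable def q : G := evalW (nth 1 s.e0) [1, 2, 3, 4, 5, 3, 4, 3, 2, 1]
/-- An element conjugating `p1, p2` to `g, q`. -/
noncomputable def n : G := evalW (nth 1 s.e0) [2, 3, 1, 2]
/-- `(12)(47)(58)(69)`. -/
noncomputable def z : G := evalW (nth 1 s.e0) [3, 4, 5, 2, 3, 4, 1, 2, 3]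

/-- The letters. -/
noncomputable abbrev eN : List G :=
  [s.c1, s.t4, s.t5, s.t6, s.t7, s.t8, s.c2, s.c3, s.k, s.k2, s.g, s.p, s.b, s.p1, s.p2, s.q, s.n, s.z]

theorem hid : s.t4 * s.t5 = s.c2 ∧ s.t7 * s.t8 = s.c3 ∧ s.v * s.t4 * s.v⁻¹ = s.t4 * s.t7 ∧ s.v * s.c3 * s.v⁻¹ = s.c1 ∧
    s.v * (s.t5 * s.t7) * s.v⁻¹ = s.t8 ∧ s.t4 * s.c1⁻¹ * s.t4⁻¹ = s.c1 := s.hL.decide s.rep (by decide +kernel)

theorem rep2 : s.CN.RepL (cN.take 9) [s.c1, s.t4, s.t5, s.t6, s.t7, s.t8, s.c2, s.c3, s.k] :=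
  s.repN.append (c' := (cN.take 9).drop 6) <| (s.hid.1 ▸ s.repN.term (s.t4 * s.t5) (by decide +kernel)).cons <|
    (s.hid.2.1 ▸ s.repN.term (s.t7 * s.t8) (by decide +kernel)).cons <|
    (s.repN.term (s.t4 * s.t6) (by decide +kernel)).cons Cod.repL_nil

theorem repE : s.CN.RepL cN s.eN :=
  s.rep2.append (c' := cN.drop 9) <| (s.rep2.term (s.c2 * s.k * s.c2⁻¹) (by decide +kernel)).cons <|
    (s.rep2.term (s.t5 * s.t7) (by decide +kernel)).cons <| (s.rep2.term (s.t6 * s.t8) (by decide +kernel)).cons <|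
    (s.rep2.term (s.c2 * s.c3) (by decide +kernel)).cons <| (rep_word s.repN _ (by decide +kernel)).cons <|
    (rep_word s.repN _ (by decide +kernel)).cons <| (rep_word s.repN _ (by decide +kernel)).cons <|
    (rep_word s.repN _ (by decide +kernel)).cons <| (rep_word s.repN _ (by decide +kernel)).cons Cod.repL_nil

/-- The group `(S₃ × S₆)⁺`. -/
def N : Subgroup G := clos s.e0
/-- The four-group on `4567`. -/
def V : Subgroup G := clos [s.k, s.k2]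
/-- Its centraliser in `N`. -/
def CV : Subgroup G := clos [s.k, s.k2, s.c1, s.t8]
/-- A Sylow 2-subgroup of `N`. -/
def T : Subgroup G := clos [s.k, s.k2, s.t8, s.t4]
/-- A four-group normalised by `b`. -/
noncomputable def U : Subgroup G := clos [s.p1, s.p2]
/-- A group `S₃`. -/
def S3 : Subgroup G := clos [s.c3, s.g]
/-- The 3-cycles on `456789`. -/
def X3 : Set G := cls s.e0 s.c3

theorem gN : s.CN.Lists N_t.dom s.N ∧ Nat.card s.N = 2160 := s.repN.gen N_ok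
theorem gV : s.CN.Lists V_t.dom s.V ∧ Nat.card s.V = 4 := (s.repE.pick [8, 9]).gen V_ok
theorem gCV : s.CN.Lists CV_t.dom s.CV ∧ Nat.card s.CV = 24 := (s.repE.pick [8, 9, 0, 5]).gen CV_ok
theorem gT : s.CN.Lists T_t.dom s.T ∧ Nat.card s.T = 16 := (s.repE.pick [8, 9, 5, 1]).gen T_ok
theorem gU : s.CN.Lists U_t.dom s.U ∧ Nat.card s.U = 4 := (s.repE.pick [13, 14]).gen U_ok
theorem gS3 : s.CN.Lists S3_t.dom s.S3 ∧ Nat.card s.S3 = 6 := (s.repE.pick [7, 10]).gen S3_ok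
theorem gX3 : s.CN.Lists X3_t.dom s.X3 := (s.repN.orb (s.repE.nth 7) X3_ok).1

theorem hN' : s.CN.ListsL [N_t.dom, V_t.dom, CV_t.dom, T_t.dom, U_t.dom, S3_t.dom, X3_t.dom]
    [s.N, s.V, s.CV, s.T, s.U, s.S3, s.X3] :=
  s.gN.1.cons <| s.gV.1.cons <| s.gCV.1.cons <| s.gT.1.cons <| s.gU.1.cons <| s.gS3.1.cons <| s.gX3.cons Cod.listsL_nil

theorem memN {g : G} (h : g * s.c1 = s.c1 * g) : g ∈ s.N := s.hN (mem_pm_of_comm h)

theorem n1 : ∀ h ∈ s.N, h * s.k = s.k * h ∧ h * s.k2 = s.k2 * h → (h ^ 3 = 1 → h = 1 ∨ h = s.c1 ∨ h = s.c1⁻¹) ∧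
    (h * s.c1 = s.c1 * h → ∃ y ∈ s.V, h = 1 * y ∨ h = s.c1 * y ∨ h = s.c1⁻¹ * y) ∧
    ∃ y ∈ s.V, y⁻¹ * h * s.c2 = s.c2 * (y⁻¹ * h) := s.hN'.decide s.repE (by decide +kernel)
theorem n2 : ∀ h ∈ s.N, h * s.p1 = s.p1 * h ∧ h * s.p2 = s.p2 * h → (h ^ 3 = 1 → h = 1 ∨ h = s.c1 ∨ h = s.c1⁻¹) ∧
    (h * s.c1 = s.c1 * h → ∃ y ∈ s.U, h = 1 * y ∨ h = s.c1 * y ∨ h = s.c1⁻¹ * y) :=
  s.hN'.decide s.repE (by decide +kernel)
theorem n3 : (∀ y ∈ s.V, (∀ x ∈ s.V, x * y = y * x) ∧ y * s.c1 = s.c1 * y ∧ s.c2 * y * s.c2⁻¹ ∈ s.V) ∧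
    ∀ y ∈ s.U, (∀ x ∈ s.U, x * y = y * x) ∧ y * s.c1 = s.c1 * y ∧ s.b * y * s.b⁻¹ ∈ s.U :=
  s.hN'.decide s.repE (by decide +kernel)

theorem four {V M : Subgroup G} {d : G} (h4 : Nat.card V = 4)
    (hV : ∀ y ∈ V, (∀ x ∈ V, x * y = y * x) ∧ y * s.c1 = s.c1 * y ∧ d * y * d⁻¹ ∈ V)
    (h1 : ∀ h ∈ s.N, h ∈ centralizer (V : Set G) → (h ^ 3 = 1 → h = 1 ∨ h = s.c1 ∨ h = s.c1⁻¹) ∧
      (h * s.c1 = s.c1 * h → ∃ y ∈ V, h = 1 * y ∨ h = s.c1 * y ∨ h = s.c1⁻¹ * y))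
    (hJ : clos [s.c1, d] ≤ s.J) (hd : d ∉ zpowers s.c1) (h9 : Nat.card (clos [s.c1, d]) = 9)
    (h2 : ∀ y ∈ clos [s.c1, d], y ≠ 1 → centralizer {y} ≤ s.H ∨ y = s.c1 ∨ y = s.c1⁻¹ ∨
      ∀ g ∈ centralizer (V : Set G), g * y = y * g → g ∈ M)
    (h3 : ∀ g ∈ centralizer (V : Set G), g ∈ pm s.c1 → g ∈ M) : centralizer (V : Set G) ≤ M := by
  have hc : s.c1 ∈ centralizer (V : Set G) := mem_centralizer_iff.2 fun y hy => (hV y hy).2.1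
  refine sig (V := V) ⟨fun y hy => mem_centralizer_iff.2 (hV y hy).1, centralizer_le_normalizer _, by rw [h4]; decide⟩
    hc s.ord.1 (fun g hg e => ?_) h9 (fun a ha => s.J3 a (hJ ha)) (clos_le.2 ?_) (mem_clos (by simp)) (mem_clos (by simp))
    hd (fun y hy y1 g hg e => ?_) h3
  · obtain ⟨y, hy, h | h | h⟩ := (h1 g (s.memN e) hg).2 e <;> rw [h] <;> refine mul_mem_sup ?_ hy
    exacts [one_mem _, mem_zpowers _, inv_mem (mem_zpowers _)]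
  · simp only [List.forall_mem_cons]
    exact ⟨le_normalizer hc, normalizer_le_normalizer_centralizer _ (mem_normalizer_of_conj_mem fun y hy => (hV y hy).2.2),
      by simp⟩
  rcases h2 y hy y1 with h | rfl | rfl | h
  · have h5 := s.cjJ (h (mem_cen.2 e)) s.mem.1
    refine h3 g hg (((h1 _ (s.memN (s.Jc _ h5 _ s.mem.1)) (mul_mem (mul_mem hg hc) (inv_mem hg))).1
      (s.J3 _ h5)).resolve_left fun e => ?_)
    simpa [conj_eq_one.1 e] using s.ord.1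
  · exact h3 g hg (mem_pm_of_comm e)
  · exact h3 g hg (mem_pm_of_comm (comm_inv e))
  · exact h g hg e

theorem not_pow {d : G} (h : d ≠ 1 ∧ d ≠ s.c1 ∧ d ≠ s.c1⁻¹) : d ∉ zpowers s.c1 := fun e => by
  rcases mem_zpowers_three (s.J3 _ s.mem.1) e with e | e | e
  exacts [h.1 e, h.2.1 e, h.2.2 e]

theorem cenU : centralizer (s.U : Set G) ≤ pm s.c1 :=
  s.four s.gU.2 s.n3.2 (fun h hh e => s.n2 h hh (mem_cen2.1 e)) s.le.2.2.2.2.2.2.2.2.1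
    (s.not_pow (s.hL.decide s.rep (by decide +kernel))) s.gA1.2 (fun y hy y1 => by
      rcases s.clsA1 y hy with h | h | h | ⟨h, hh, e⟩
      exacts [absurd h y1, .inr (.inl h), .inr (.inr (.inl h)), .inl (s.cen_ab hh e)]) fun _ _ h => h

theorem cenV : centralizer (s.V : Set G) ≤ s.V ⊔ centralizer (s.V : Set G) ⊓ centralizer {s.c2} :=
  s.four s.gV.2 s.n3.1 (fun h hh e => ⟨(s.n1 h hh (mem_cen2.1 e)).1, (s.n1 h hh (mem_cen2.1 e)).2.1⟩)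
    s.le.2.2.2.2.2.2.2.2.2.1 (s.not_pow (s.hL.decide s.rep (by decide +kernel))) s.gA2.2 (fun y hy y1 => by
      rcases s.clsA2 y hy with h | h | h | rfl | rfl | ⟨h, hh, e⟩
      exacts [absurd h y1, .inr (.inl h), .inr (.inr (.inl h)),
        .inr (.inr (.inr fun g hg e => mem_sup_right ⟨hg, mem_cen.2 e⟩)),
        .inr (.inr (.inr fun g hg e => mem_sup_right ⟨hg, mem_cen.2 (comm_inv e)⟩)), .inl (s.cen_ab hh e)])
    fun g hg h => by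
      obtain ⟨y, hy, e⟩ := (s.n1 g (s.hN h) (mem_cen2.1 hg)).2.2
      rw [← mul_inv_cancel_left y g]
      exact mul_mem_sup hy (mem_inf.2 ⟨mul_mem (inv_mem (mem_centralizer_iff.2 (s.n3.1 y hy).1)) hg, mem_cen.2 e⟩)

theorem syl_k : IsSylIn 3 (zpowers s.c1) (centralizer {s.k}) := by
  refine syl3_zpowers (mem_cen.2 (s.n3.1 _ (mem_clos (by simp))).2.1.symm) s.ord.1 ?_
  have h1 : {g | g ∈ clos s.e0 ∧ (g * s.k = s.k * g ∧ g * s.c1 = s.c1 * g)}.ncard = 24 :=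
    s.hN'.count s.repE s.repN N_ok (fun g => g * s.k = s.k * g ∧ g * s.c1 = s.c1 * g) (by decide +kernel)
  have h2 : Nat.card (centralizer {s.k} ⊓ centralizer {s.c1} : Subgroup G) = 24 := by
    rw [← h1]
    refine congrArg Set.ncard (?_ : ((centralizer {s.k} ⊓ centralizer {s.c1} : Subgroup G) : Set G) = _)
    exact Set.ext fun g => ⟨fun h => ⟨s.memN (mem_cen.1 h.2), mem_cen.1 h.1, mem_cen.1 h.2⟩,
      fun h => ⟨mem_cen.2 h.2.1, mem_cen.2 h.2.2⟩⟩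
  rw [h2]
  decide

theorem not_conj : ¬ IsConj s.k s.z := fun h => by
  have h1 : IsConj s.c1 s.b := (conj_of_syl3 s.syl_k s.ord.1 h s.ord.2.2.2.1
    (s.hN'.decide s.repE (by decide +kernel))).1.elim id fun h => (isConj_iff.2 ⟨_, s.hid.2.2.2.2.2⟩).symm.trans h
  have h2 := card_le_of_le s.cen_b
  have h3 := card_le_of_le (s.inf_c.ge.trans inf_le_left)
  rw [Syl.card_centralizer_conj h1, s.gCc.2] at h3
  rw [s.gCb.2] at h2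
  omega

theorem not_le : ¬ centralizer (s.V : Set G) ≤ pm s.c1 := fun h => by
  have f1 : (∀ y ∈ s.T, y * y = 1 → y = 1 ∨ y * s.t8 ∈ s.V ∨ ∃ m ∈ s.N, Let (m * y * m⁻¹) fun x => x = s.k ∨ x = s.t8) ∧
      (∀ y ∈ s.T, y * s.t8 ∈ s.V → (∀ x ∈ s.T, x * s.t8 ∈ s.V → y * x ∈ s.V) ∧
        (y = s.t8 ∨ y * y = 1 ∧ y ≠ 1 ∧ ∃ m ∈ s.N, m * y * m⁻¹ = s.z)) ∧
      (∃ m ∈ s.N, m * s.k * m⁻¹ = s.t4 * s.t7) ∧ (∃ m ∈ s.N, m * s.t4 * m⁻¹ = s.t8) ∧ (∃ r ∈ s.T, r * r = s.k) ∧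
      (∀ y ∈ s.T, y * y ≠ s.t8 ∧ y * s.k = s.k * y ∧ y * s.t8 = s.t8 * y) ∧ s.T ≤ s.N ∧
      ∀ x ∈ s.V, ∃ y ∈ s.T, y * s.t8 ∈ s.V ∧ y ≠ s.t8 ∧ ∃ y' ∈ s.T, y' * s.t8 ∈ s.V ∧ y' ≠ s.t8 ∧ x = y * y' :=
    s.hN'.decide s.repE (by decide +kernel)
  obtain ⟨f1, f2, ⟨m1, -, f3⟩, ⟨m2, -, f4⟩, ⟨r, hr, f5⟩, f6, f7, f8⟩ := f1
  have h1 : IsConj s.k s.t8 :=
    ((isConj_iff.2 ⟨_, f3⟩).trans (isConj_iff.2 ⟨_, s.hid.2.2.1⟩).symm).trans (isConj_iff.2 ⟨_, f4⟩)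
  have h2 : ∀ g ∈ normalizer (s.T : Set G), ∀ y ∈ s.T, y * s.t8 ∈ s.V → y ≠ s.t8 → g * y * g⁻¹ * s.t8 ∈ s.V :=
    fun g hg y hy e e' => by
    obtain ⟨y2, y1, m, -, e1⟩ := (f2 y hy e).2.resolve_left e'
    have h3 : IsConj (g * y * g⁻¹) s.z := (isConj_iff.2 ⟨g, rfl⟩).symm.trans (isConj_iff.2 ⟨_, e1⟩)
    rcases f1 _ (conj_mem_of_mem_norm hg hy) (conj_sq y2) with h | h | ⟨m, -, h | h⟩
    · exact absurd (conj_eq_one.1 h) y1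
    · exact h
    · exact absurd ((isConj_iff.2 ⟨m, h⟩).symm.trans h3) s.not_conj
    · exact absurd (h1.trans ((isConj_iff.2 ⟨m, h⟩).symm.trans h3)) s.not_conj
  have h4 : IsSylIn 2 s.T ⊤ := isSylIn_of_normalizer (isSylIn_of_card f7 (k := 4) (m := 135) s.gT.2 s.gN.2 (by decide))
    le_top fun g _ hg => by
      have h5 : g ∈ normalizer (s.V : Set G) := mem_normalizer_of_conj_mem fun x hx => by
        obtain ⟨y, hy, e1, e2, y', hy', e3, e4, rfl⟩ := f8 x hx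
        rw [cjm]
        exact (f2 _ (conj_mem_of_mem_norm hg hy) (h2 g hg y hy e1 e2)).1 _ (conj_mem_of_mem_norm hg hy')
          (h2 g hg y' hy' e3 e4)
      have h6 := conj_mem_of_mem_norm (normalizer_le_normalizer_centralizer _ h5)
        (mem_centralizer_iff.2 fun y hy => (s.n3.1 y hy).2.1 : s.c1 ∈ centralizer (s.V : Set G))
      refine s.hN (((s.n1 _ (s.hN (h h6)) (mem_cen2.1 h6)).1 (cjp (s.J3 _ s.mem.1))).resolve_left fun e => ?_)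
      simpa [conj_eq_one.1 e] using s.ord.1
  obtain ⟨g, hg⟩ := isConj_iff.1 h1
  obtain ⟨x, -, hx, e⟩ := exists_norm_conj h4 le_rfl (fun g _ h => cj_eq_of_le h) (x := s.k) (mem_top g)
    (fun y hy => (f6 y hy).2.1) fun y hy => hg ▸ (f6 y hy).2.2
  exact (f6 _ (conj_mem_of_mem_norm hx hr)).1 (by rw [← cjm, f5, e, hg])

/-- The new relation. -/
theorem comm_p : s.v⁻¹ * s.k * s.v * s.p = s.p * (s.v⁻¹ * s.k * s.v) := by
  have f1 : (∀ y ∈ s.X3, y = s.c3 ∨ y = s.c3⁻¹ ∨ y = s.c2 ∨ y = s.c2⁻¹ ∨ Let (y * s.c3 * y⁻¹) fun x => ∃ m ∈ s.S3,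
      (Let (m * (s.c3 * y) * m⁻¹) fun u => u = s.p ∨ u = s.q) ∨ (Let (m * (s.c3 * y⁻¹) * m⁻¹) fun u => u = s.p ∨ u = s.q) ∨
      (Let (m * (s.c3 * x) * m⁻¹) fun u => u = s.p ∨ u = s.q) ∨ (Let (m * (s.c3 * x⁻¹) * m⁻¹) fun u => u = s.p ∨ u = s.q)) ∧
      (s.t8 * s.k = s.k * s.t8 ∧ s.t8 * s.k2 = s.k2 * s.t8) ∧ s.c3 * s.k ≠ s.k * s.c3 ∧
      s.n * s.p1 * s.n⁻¹ = s.g ∧ s.n * s.p2 * s.n⁻¹ = s.q ∧ s.n * s.c1 = s.c1 * s.n ∧
      s.k * s.c2 * s.k⁻¹ ≠ s.c2 ∧ s.k * s.c2 * s.k⁻¹ ≠ s.c2⁻¹ := s.hN'.decide s.repE (by decide +kernel)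
  obtain ⟨f1, f2, f3, f4, f5, f6, f7, f8⟩ := f1
  obtain ⟨h, ⟨h1, h2⟩, h3⟩ : ∃ h ∈ centralizer (s.V : Set G) ⊓ centralizer {s.c2}, h ∉ pm s.c1 := by
    by_contra h
    push Not at h
    exact s.not_le (s.cenV.trans (sup_le (fun y hy => mem_pm_of_comm (s.n3.1 y hy).2.1) h))
  obtain ⟨L, hL⟩ : ∃ L : Subgroup G, ∀ y, y ∈ L ↔ s.v * y * s.v⁻¹ ∈ centralizer (s.V : Set G) :=
    ⟨cj s.v⁻¹ (centralizer (s.V : Set G)), fun y => by rw [mem_cj, inv_inv]⟩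
  have k1 : ∀ y ∈ L, s.v⁻¹ * s.k * s.v * y = y * (s.v⁻¹ * s.k * s.v) := fun y hy => by
    simpa [mul_assoc] using cjcomm (g := s.v⁻¹) (mem_cen2.1 ((hL y).1 hy)).1.symm
  have c3L : s.c3 ∈ L := (hL _).2 (s.hid.2.2.2.1 ▸ mem_centralizer_iff.2 fun y hy => (s.n3.1 y hy).2.1)
  have gL : s.g ∈ L := (hL _).2 (s.hid.2.2.2.2.1 ▸ mem_cen2.2 f2)
  have SL : s.S3 ≤ L := clos_le.2 (by simp [c3L, gL])
  have hL' : s.v⁻¹ * h * s.v ∈ L := (hL _).2 (by simpa [mul_assoc] using h1)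
  have hN : s.v⁻¹ * h * s.v ∈ s.N := s.memN (by simpa [H0.c2, mul_assoc] using cjcomm (g := s.v⁻¹) (mem_cen.1 h2))
  have e0 : s.v * (s.v⁻¹ * h * s.v * s.c3 * (s.v⁻¹ * h * s.v)⁻¹) * s.v⁻¹ = h * s.c1 * h⁻¹ := by
    rw [← s.hid.2.2.2.1]; group
  have yL := mul_mem (mul_mem hL' c3L) (inv_mem hL')
  have yX : _ ∈ s.X3 := conj_mem_cls hN (self_mem_cls _ s.c3)
  generalize s.v⁻¹ * h * s.v * s.c3 * (s.v⁻¹ * h * s.v)⁻¹ = y at *
  have c2L : s.c2 ∉ L := fun e => f3 (mem_cen2.1 ((hL _).1 e)).1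
  have k2 : ∀ u ∈ L, u = s.p ∨ u = s.q → s.v⁻¹ * s.k * s.v * s.p = s.p * (s.v⁻¹ * s.k * s.v) := by
    rintro _ hu (rfl | rfl)
    · exact k1 _ hu
    have h4 := s.cenU (mem_cen2.2 ⟨cjs f4 ▸ cjcomm (g := s.n⁻¹) (k1 _ gL), cjs f5 ▸ cjcomm (g := s.n⁻¹) (k1 _ hu)⟩)
    rw [(pm s.c1).mul_mem_cancel_right (inv_mem (inv_mem (mem_pm_of_comm f6))),
      (pm s.c1).mul_mem_cancel_left (inv_mem (mem_pm_of_comm f6))] at h4
    have e1 : s.k * s.c2 * s.k⁻¹ = s.v * (s.v⁻¹ * s.k * s.v * s.c1 * (s.v⁻¹ * s.k * s.v)⁻¹) * s.v⁻¹ := by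
      rw [H0.c2]; group
    rcases mem_pm.1 h4 with e | e <;> rw [e] at e1
    · exact absurd e1 f7
    · exact absurd (e1.trans conj_inv.symm) f8
  have xL := mul_mem (mul_mem yL c3L) (inv_mem yL)
  rcases f1 y yX with e | e | e | e | ⟨m, hm, e | e | e | e⟩
  · exact absurd (.inl (by rw [← e0, e, s.hid.2.2.2.1])) h3
  · exact absurd (.inr (by rw [← e0, e, ← conj_inv, s.hid.2.2.2.1])) h3
  · exact absurd (e ▸ yL) c2L
  · exact absurd (L.inv_mem_iff.1 (e ▸ yL)) c2L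
  all_goals refine k2 _ (mul_mem (mul_mem (SL hm) (mul_mem c3L ?_)) (inv_mem (SL hm))) e
  exacts [yL, inv_mem yL, xL, inv_mem xL]

end Ns

end Cfsg.Agent.T16.A9
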