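import Mathlib
import Cfsg.Agent.T16.A9N
import Cfsg.Agent.T16.A9In
import Cfsg.Agent.T16.A9DataM
import Cfsg.Agent.Rec.Top
import Cfsg.Agent.Spor.ESBasic

/-!
Recognition of the alternating group of degree nine: the subgroup `A₉` and the centralisers of involutions.
-/

set_option autoImplicit false
set_option synthInstance.maxSize 100000
set_option synthInstance.maxHeartbeats 1000000
set_option linter.unusedSectionVars false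

namespace Cfsg.Agent.T16.A9

open Cfsg.Agent.Spor Cfsg.Agent.Rec Cfsg.Agent.Inv.Fz Subgroup

universe u

variable {G : Type u} [Group G] [Finite G]

/-- The configuration with the subgroup `A₉`. -/
structure As (G : Type u) [Group G] [Finite G] extends Ns G where
  x1 : G
  repA : C.RepL cA0 [c1, x1, t4, toH0.t5, t6, toH0.t7, toH0.t8]
  vm : v ∈ clos [c1, x1, t4, toH0.t5, t6, toH0.t7, toH0.t8]
  om' : om ∈ clos [c1, x1, t4, toH0.t5, t6, toH0.t7, toH0.t8]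
  iso : Nonempty (clos [c1, x1, t4, toH0.t5, t6, toH0.t7, toH0.t8] ≃* alternatingGroup (Fin 9))

namespace Ns

variable (s : Ns G)

theorem moore : ∃ φ : alternatingGroup (Fin (6 + 3)) →* G, ∀ i,
    φ (Sym.mooreGen 6 i) = ![s.c1, s.v⁻¹ * s.k * s.v⁻¹⁻¹, s.t4, s.t5, s.t6, s.t7, s.t8] i := by
  have h1 : s.k ^ 2 = 1 ∧ (s.c2 * s.k) ^ 3 = 1 ∧ (s.k * (s.t4 * s.t7)) ^ 3 = 1 ∧ (s.k * (s.t4 * s.t8)) ^ 2 = 1 ∧
      (s.k * s.t4) ^ 2 = 1 ∧ (s.k * (s.t4 * s.c1)) ^ 2 = 1 ∧ s.k * (s.t4 * s.c1) = s.t4 * s.c1 * s.k ∧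
      s.p * s.t8 = s.t6 ∧ s.c1 ^ 3 = 1 ∧ s.t4 ^ 2 = 1 ∧ s.t5 ^ 2 = 1 ∧ s.t6 ^ 2 = 1 ∧ s.t7 ^ 2 = 1 ∧ s.t8 ^ 2 = 1 ∧
      (s.t4 * s.t5) ^ 3 = 1 ∧ (s.t5 * s.t6) ^ 3 = 1 ∧ (s.t6 * s.t7) ^ 3 = 1 ∧ (s.t7 * s.t8) ^ 3 = 1 ∧
      (s.c1 * s.t4) ^ 2 = 1 ∧ (s.c1 * s.t5) ^ 2 = 1 ∧ (s.c1 * s.t6) ^ 2 = 1 ∧ (s.c1 * s.t7) ^ 2 = 1 ∧
      (s.c1 * s.t8) ^ 2 = 1 ∧ (s.t4 * s.t6) ^ 2 = 1 ∧ (s.t4 * s.t7) ^ 2 = 1 ∧ (s.t4 * s.t8) ^ 2 = 1 ∧
      (s.t5 * s.t7) ^ 2 = 1 ∧ (s.t5 * s.t8) ^ 2 = 1 ∧ (s.t6 * s.t8) ^ 2 = 1 := s.hN'.decide s.repE (by decide +kernel)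
  have h2 : s.v⁻¹ * s.c2 * s.v⁻¹⁻¹ = s.c1 ∧ s.v⁻¹ * (s.t4 * s.t7) * s.v⁻¹⁻¹ = s.t4 ∧ s.v⁻¹ * (s.t4 * s.t8) * s.v⁻¹⁻¹ = s.t5 ∧
      s.v⁻¹ * s.t4 * s.v⁻¹⁻¹ = s.t7 ∧ s.v⁻¹ * (s.t4 * s.c1) * s.v⁻¹⁻¹ = s.t8 := s.hL.decide s.rep (by decide +kernel)
  obtain ⟨a1, a2, a3, a4, a5, a6, a7, a8, h1⟩ := h1
  obtain ⟨e1, e2, e3, e4, e5⟩ := h2
  have t1 := cjp (g := s.v⁻¹) a1
  have t2 := cjp (g := s.v⁻¹) a2
  have t3 := cjp (g := s.v⁻¹) a3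
  have t4 := cjp (g := s.v⁻¹) a4
  have t5 := cjp (g := s.v⁻¹) a5
  have t6 := cjp (g := s.v⁻¹) a6
  have t7 := cjcomm (g := s.v⁻¹) a7
  rw [cjm, e1] at t2
  rw [cjm, e2] at t3
  rw [cjm, e3] at t4
  rw [cjm, e4] at t5
  rw [cjm, e5] at t6
  rw [e5] at t7
  have t8 : (s.v⁻¹ * s.k * s.v⁻¹⁻¹ * s.t6) ^ 2 = 1 := by
    have : Commute (s.v⁻¹ * s.k * s.v⁻¹⁻¹) s.t6 := a8 ▸ Commute.mul_right (by rw [inv_inv]; exact s.comm_p) t7
    rw [this.mul_pow, t1, h1.2.2.2.1, one_mul]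
  generalize s.v⁻¹ * s.k * s.v⁻¹⁻¹ = x at *
  obtain ⟨b0, _, _, _, _, _, _, _, _, _, _, _, _, _, _, _, _, _, _, _, _⟩ := h1
  refine Sym.exists_hom_of_moore 6 _ b0 (fun i hi => ?_) (fun i j h => ?_) fun i j h => ?_
  · fin_cases i <;> first | exact absurd rfl hi | assumption
  · fin_cases i <;> fin_cases j <;> first | exact absurd h (by decide) | assumption
  · fin_cases i <;> fin_cases j <;> first | exact absurd h (by decide) | assumption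

include s in
theorem exists_As : Nonempty (As G) := by
  obtain ⟨φ, hφ⟩ := s.moore
  generalize s.v⁻¹ * s.k * s.v⁻¹⁻¹ = x at *
  have : IsSimpleGroup (alternatingGroup (Fin (6 + 3))) := alternatingGroup.isSimpleGroup (by simp)
  have hi : Function.Injective φ := (MonoidHom.ker_eq_bot_iff φ).1 <|
    (IsSimpleGroup.eq_bot_or_eq_top_of_normal φ.ker inferInstance).resolve_right fun h => by
      have h1 : s.c1 = 1 := (hφ 0).symm.trans (MonoidHom.mem_ker.1 (h ▸ mem_top _))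
      simpa [h1] using s.ord.1
  let C : Cod P9 G := (permCod P9_ok).map _ φ hi
  have hr : ∀ (i : Fin (6 + 1)) {a : ℕ}, pcode (n := 9) (Sym.mooreGen 6 i).1 = a →
      C.Rep a (![s.c1, x, s.t4, s.t5, s.t6, s.t7, s.t8] i) := fun i a ha =>
    hφ i ▸ (rep_pcode P9_ok _ ha).map φ hi (Sym.mooreGen 6 i).2
  have repA : C.RepL cA0 [s.c1, x, s.t4, s.t5, s.t6, s.t7, s.t8] :=
    (hr 0 (by decide +kernel)).cons <| (hr 1 (by decide +kernel)).cons <| (hr 2 (by decide +kernel)).cons <|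
      (hr 3 (by decide +kernel)).cons <| (hr 4 (by decide +kernel)).cons <| (hr 5 (by decide +kernel)).cons <|
      (hr 6 (by decide +kernel)).cons Cod.repL_nil
  have hrange : φ.range = clos [s.c1, x, s.t4, s.t5, s.t6, s.t7, s.t8] := by
    rw [MonoidHom.range_eq_map, ← Sym.closure_mooreGen, MonoidHom.map_closure, ← Set.range_comp, clos]
    congr 1
    ext g
    simp only [Set.mem_range, Function.comp, hφ, Set.mem_ofPred_eq]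
    exact (List.mem_ofFn' _ g).symm.trans (by simp [List.ofFn_succ])
  obtain ⟨v, hv, vm⟩ : ∃ t, C.Rep (nth 0 cA 7) t ∧ t ∈ clos [s.c1, x, s.t4, s.t5, s.t6, s.t7, s.t8] :=
    ⟨_, rep_word repA [1, 2, 3, 4, 5, 0, 6, 1, 2, 3, 4, 5, 0, 1, 2, 3, 4] (by decide +kernel), word_mem _ _⟩
  obtain ⟨o, ho, om⟩ : ∃ t, C.Rep (nth 0 cA 8) t ∧ t ∈ clos [s.c1, x, s.t4, s.t5, s.t6, s.t7, s.t8] :=
    ⟨_, rep_word repA [5, 1, 2, 0, 3, 1, 0, 2, 1] (by decide +kernel), word_mem _ _⟩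
  have f1 : v * s.c1 * v⁻¹ = s.t4 * s.t5 ∧ v * (s.t4 * s.t5) * v⁻¹ = s.t7 * s.t8 ∧ v⁻¹ * s.t4 * v = s.t7 :=
    Cod.listsL_nil.decide (hv.cons repA) (by decide +kernel)
  rw [s.hid.1, s.hid.2.1] at f1
  let s' : H0 G := ⟨s.c1, v, s.t4, o, C, (repA.nth 0).cons <| hv.cons <| (repA.nth 2).cons <| ho.cons Cod.repL_nil⟩
  have e2 : s'.c2 = s.c2 := f1.1
  have e3 : s'.c3 = s.c3 := by rw [H0.c3, e2]; exact f1.2.1
  have e5 : s'.t5 = s.t5 := by rw [H0.t5, e2]; rfl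
  have e7 : s'.t7 = s.t7 := f1.2.2
  have e8 : s'.t8 = s.t8 := by rw [H0.t8, e7, e3]; rfl
  have eJ : s'.J = s.J := by rw [H0.J, e2, e3]; rfl
  have eH : s'.H = s.H := eq_of_le_of_card_ge (by rw [← s.norm, ← eJ]; exact s'.H_le) (by rw [s.gH.2, s'.gH.2])
  have l1 : [s.c1, s.t4, s.t5, s.t6, s.t7, s.t8] = [s'.c1, s'.t4, s'.t5, s.t6, s'.t7, s'.t8] := by rw [e5, e7, e8]
  have l2 : [s.c1, x, s.t4, s.t5, s.t6, s.t7, s.t8] = [s'.c1, x, s'.t4, s'.t5, s.t6, s'.t7, s'.t8] := by rw [e5, e7, e8]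
  exact ⟨⟨⟨⟨s', by rw [eJ, eH, s.norm], eH ▸ s.core⟩, s.t6, s.CN, l1 ▸ s.repN, l1 ▸ s.hN⟩, x, l2 ▸ repA, l2 ▸ vm, l2 ▸ om,
    ⟨(MulEquiv.subgroupCongr (l2 ▸ hrange.symm)).trans (MonoidHom.ofInjective hi).symm⟩⟩⟩

end Ns

theorem a5_eps : ∀ b : alternatingGroup (Fin 5), b * b * b = 1 → ∀ t : alternatingGroup (Fin 5), t * b * t⁻¹ = b⁻¹ →
    ∀ e : alternatingGroup (Fin 5), e * e = 1 → t * e = e * t → (e * b) ^ 3 = 1 → e = 1 := by decide +kernel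

namespace As

variable (s : As G)

/-- The generators of `A₉`. -/
abbrev eA : List G := [s.c1, s.x1, s.t4, s.t5, s.t6, s.t7, s.t8]
/-- An element conjugating `p1, p2` to `k, t4`. -/
noncomputable def m1 : G := evalW (nth 1 s.eA) [3, 0, 1, 2, 3, 4, 5, 6, 3, 4, 5, 3, 0, 4, 1, 2, 0, 3, 1, 2, 0, 1]
/-- An element conjugating `k` to `y1`. -/
noncomputable def m2 : G := evalW (nth 1 s.eA) [5, 1, 2, 0, 3, 1, 0, 2, 1]
/-- An element conjugating `a` to `v`. -/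
noncomputable def m3 : G := evalW (nth 1 s.eA) [4, 5, 1, 2, 3, 4, 3, 1, 0, 2, 1]
/-- `(12)(38)`. -/
noncomputable def y1 : G := evalW (nth 1 s.eA) [1, 2, 3, 4, 5, 4, 3, 2, 1]
/-- `(12389)`. -/
noncomputable def r1 : G := evalW (nth 1 s.eA) [0, 1, 2, 3, 4, 5, 6, 4, 3, 2, 1]
/-- `(12)(47)`. -/
noncomputable def s1 : G := evalW (nth 1 s.eA) [2, 3, 4, 3, 2]
/-- `(14)(27)`. -/
noncomputable def s2 : G := evalW (nth 1 s.eA) [4, 0, 1, 2, 3, 4, 0, 2, 1, 0]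
/-- `(56)(89)`. -/
noncomputable def s3 : G := evalW (nth 1 s.eA) [6, 3]
/-- `(15)(28)(46)(79)`. -/
noncomputable def s4 : G := evalW (nth 1 s.eA) [5, 0, 6, 1, 2, 3, 4, 5, 1, 2, 0, 3, 1, 2, 1, 0]

/-- The letters. -/
noncomputable abbrev eF : List G :=
  [s.c1, s.x1, s.t4, s.t5, s.t6, s.t7, s.t8, s.v, s.om, s.m1, s.m2, s.m3, s.y1, s.r1, s.s1, s.s2, s.s3, s.s4,
    s.c2, s.c3, s.k, s.k2, s.g, s.p, s.b, s.p1, s.p2, s.q, s.n, s.z, s.w, s.a]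

theorem repF : s.C.RepL (cA ++ cN.drop 6 ++ [nth 0 cH 9, nth 0 cH 11]) s.eF :=
  ((s.repA.append (c' := cA.drop 7) <| (s.rep0.nth 1).cons <| (s.rep0.nth 3).cons <|
    (rep_word s.repA _ (by decide +kernel)).cons <| (rep_word s.repA _ (by decide +kernel)).cons <|
    (rep_word s.repA _ (by decide +kernel)).cons <| (rep_word s.repA _ (by decide +kernel)).cons <|
    (rep_word s.repA _ (by decide +kernel)).cons <| (rep_word s.repA _ (by decide +kernel)).cons <|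
    (rep_word s.repA _ (by decide +kernel)).cons <| (rep_word s.repA _ (by decide +kernel)).cons <|
    (rep_word s.repA _ (by decide +kernel)).cons Cod.repL_nil).append
    ((Ns.mk s.toHs s.t6 s.C (s.repA.pick [0, 2, 3, 4, 5, 6]) s.hN).repE.drop 6)).append
    ((s.rep.nth 9).cons <| (s.rep.nth 11).cons Cod.repL_nil)

/-- The group `A₉`. -/
def M : Subgroup G := clos s.eA
/-- The centraliser of `k`. -/
noncomputable def Cx : Subgroup G := clos [s.k, s.k2, s.t4, s.r1, s.t8]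
/-- A Sylow 2-subgroup. -/
noncomputable def R : Subgroup G := clos [s.s1, s.s2, s.s3, s.s4, s.p1]
/-- The class of `k`. -/
def clE : Set G := cls s.eA s.k
/-- The class of `w`. -/
def clZ : Set G := cls s.eA s.w

theorem gCx : s.C.Lists Cx_t.dom s.Cx ∧ Nat.card s.Cx = 480 := (s.repF.pick [20, 21, 2, 13, 6]).gen Cx_ok
theorem gR : s.C.Lists R_t.dom s.R ∧ Nat.card s.R = 64 := (s.repF.pick [14, 15, 16, 17, 25]).gen R_ok
theorem gE : s.C.Lists clE_t.dom s.clE ∧ s.clE.ncard = 378 := s.repA.orb (s.repF.nth 20) clE_ok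
theorem gZ : s.C.Lists clZ_t.dom s.clZ := (s.repA.orb (s.repF.nth 30) clZ_ok).1

theorem hF : s.C.ListsL [Cx_t.dom, R_t.dom, clE_t.dom, clZ_t.dom] [s.Cx, s.R, s.clE, s.clZ] :=
  s.gCx.1.cons <| s.gR.1.cons <| s.gE.1.cons <| s.gZ.cons Cod.listsL_nil

theorem cardM : Nat.card s.M = 181440 := by
  obtain ⟨e⟩ := s.iso
  exact (Nat.card_congr e.toEquiv).trans (by rw [nat_card_alternatingGroup]; simp [Nat.factorial])

theorem NM : s.N ≤ s.M := clos_le.2 fun x hx => mem_clos (by simp only [List.mem_cons] at hx ⊢; tauto)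

theorem HM : s.H ≤ s.M := clos_le.2 (by
  simp only [List.forall_mem_cons]
  exact ⟨mem_clos (by simp), s.vm, mem_clos (by simp), s.om', by simp⟩)

theorem id1 : s.m3 * s.a * s.m3⁻¹ = s.v ∧ s.m1 * s.p1 * s.m1⁻¹ = s.k ∧ s.m1 * s.p2 * s.m1⁻¹ = s.t4 ∧
    s.m2 * s.k * s.m2⁻¹ = s.y1 ∧ s.m2 * s.k2 * s.m2⁻¹ = s.c1 * s.y1 * s.c1⁻¹ ∧ s.z = s.w ∧ s.k * s.k = 1 ∧ s.k ≠ 1 ∧
    s.k2 * s.k2 = 1 ∧ s.k2 ≠ 1 ∧ s.k2 ≠ s.k ∧ s.k2 ∈ s.clE ∧ s.k * s.k2 ∈ s.clE ∧ s.k * s.k2 = s.k2 * s.k ∧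
    s.w * s.w = 1 := s.hF.decide s.repF (by decide +kernel)

theorem good3 {y : G} (hy : y ∈ s.M) (ho : orderOf y = 3) : Good s.M y := by
  have h1 : centralizer {s.v} ≤ s.M := cent_cj (inv_mem (word_mem _ _)) (cjs s.id1.1) (s.cen_a.trans (s.le.2.1.trans s.HM))
  refine good_of_se (isSylIn_of_card (s.le.2.1.trans s.HM) (k := 4) (m := 2240) s.gS.2 s.cardM (by decide))
    (s.normS.trans (s.norm.le.trans s.HM)) (fun x hx h => ?_) hy ho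
  rcases s.clsS x hx (h ▸ pow_orderOf_eq_one x) with hJ | ⟨g, hg, e | e⟩
  · obtain ⟨g, hg, e | e | e⟩ := s.cls3 x hJ (fun e => by simp [e] at h)
    exacts [(s.cen_ab hg (.inl e)).trans s.HM, (s.cen_ab hg (.inr e)).trans s.HM,
      cent_cj (s.HM (s.le.2.2.2.2.2.2.1 hg)) e fun y hy => s.NM (s.memN (mem_cen.1 hy))]
  · exact cent_cj (s.HM (s.le.2.1 hg)) e h1
  · exact cent_cj (s.HM (s.le.2.1 hg)) e fun y hy => h1 (mem_cen.2 (comm_inv (mem_cen.1 hy)))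

theorem good1 : Good s.M s.c1 := s.good3 (mem_clos (by simp)) s.ord.1

theorem kM : s.k ∈ s.M ∧ s.k2 ∈ s.M := by
  have h1 : s.k ∈ s.M := mul_mem (mem_clos (by simp)) (mem_clos (by simp))
  have h2 := s.HM (s.JH s.mem.2.1)
  exact ⟨h1, mul_mem (mul_mem h2 h1) (inv_mem h2)⟩

theorem cenV' {g : G} (h1 : g * s.k = s.k * g) (h2 : g * s.k2 = s.k2 * g) : g ∈ s.M :=
  (s.cenV.trans (sup_le (clos_le.2 (by simp [s.kM.1, s.kM.2])) fun _ hg =>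
    (s.good3 (s.HM (s.JH s.mem.2.1)) s.ord.2.1).cent (mem_cen.1 hg.2))) (mem_cen2.2 ⟨h1, h2⟩)

theorem CxM : s.Cx ≤ s.M := clos_le.2 (by
  simp only [List.forall_mem_cons]
  exact ⟨s.kM.1, s.kM.2, mem_clos (by simp), word_mem _ _, mem_clos (by simp), by simp⟩)

theorem x0 : ∀ g ∈ s.Cx, g * s.k = s.k * g ∧ (g * s.k2 * g⁻¹ * s.k2⁻¹ = 1 ∨ g * s.k2 * g⁻¹ * s.k2⁻¹ = s.k) ∧
    (g * g = 1 → g = 1 ∨ g = s.k ∨ g ∈ s.clZ ∨ s.k * g ∈ s.clZ ∨ g = s.k2 ∨ g = s.k * s.k2 ∨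
      ∃ m ∈ s.Cx, m * g * m⁻¹ = s.t4) ∧
    (g * s.c1 = s.c1 * g → g ^ 2 ^ 2 = 1 ∨ Let (g ^ 4 * (s.y1 * (g ^ 4)⁻¹ * s.y1⁻¹)) fun t => t ^ 2 ^ 1 = 1 ∧ t ≠ 1) ∧
    (g * s.y1 = s.y1 * g → g * (s.c1 * s.y1 * s.c1⁻¹) = s.c1 * s.y1 * s.c1⁻¹ * g → g ^ 2 ^ 1 = 1) :=
  s.hF.decide s.repF (by decide +kernel)

theorem memCx {g : G} (hg : g ∈ s.M) (h : g * s.k = s.k * g) : g ∈ s.Cx :=
  mem_of_cls s.CxM (fun g hg => (s.x0 g hg).1) (by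
    have h1 := s.gE.2
    have h2 := s.cardM
    rw [clE] at h1
    rw [M] at h2
    rw [h1, h2, s.gCx.2]) g hg h

theorem notZ {t : G} (h : IsConj s.k t) : t ∉ s.clZ := fun h' =>
  s.not_conj (s.id1.2.2.2.2.2.1 ▸ h.trans (isConj_of_mem_cls h').symm)

theorem isol {g : G} (h : g * s.k = s.k * g) (h' : g * s.k2 * g⁻¹ ∈ s.M) : g ∈ s.M := by
  obtain ⟨-, a1, a2, -, -, -, -, -, a3, a4, a5, a6, a7, a8, -⟩ := s.id1
  have hx : g * s.k * g⁻¹ = s.k := mul_inv_eq_iff_eq_mul.2 h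
  have isE : ∀ {t}, t ∈ s.clE → IsConj s.k (g * t * g⁻¹) := fun h =>
    (isConj_of_mem_cls h).trans (isConj_iff.2 ⟨g, rfl⟩)
  have c1 : g * s.c1 * g⁻¹ * s.k = s.k * (g * s.c1 * g⁻¹) := hx ▸ cjcomm (s.n3.1 _ (mem_clos (by simp))).2.1.symm
  have c2 := cjcomm (g := g) (s.n3.1 s.k2 (mem_clos (by simp))).2.1.symm
  refine s.good1.of_conj ?_
  rcases (s.x0 _ (s.memCx h' (hx ▸ cjcomm a8.symm))).2.2.1 (conj_sq a3) with e | e | e | e | e | e | ⟨m, hm, e⟩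
  · exact absurd (conj_eq_one.1 e) a4
  · exact absurd (by simpa using e.trans hx.symm) a5
  · exact absurd e (s.notZ (isE a6))
  · exact absurd e (s.notZ (by simpa only [cjm, hx] using isE a7))
  · exact s.cenV' c1 (e ▸ c2)
  · rw [e] at c2
    refine s.cenV' c1 (mul_left_cancel (a := s.k) ?_)
    rw [← mul_assoc, ← c1, mul_assoc, c2, mul_assoc]
  have h1 : m * s.k * m⁻¹ = s.k := mul_inv_eq_iff_eq_mul.2 (s.x0 m hm).1
  have h2 := s.NM (s.hN (s.cenU (mem_cen2.2 ⟨cjs a1 ▸ cjcomm (g := s.m1⁻¹) (h1 ▸ cjcomm (g := m) c1),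
    cjs a2 ▸ cjcomm (g := s.m1⁻¹) (e ▸ cjcomm (g := m) c2)⟩)))
  have h3 : s.m1 ∈ s.M := word_mem _ _
  rwa [s.M.mul_mem_cancel_right (inv_mem (inv_mem h3)), s.M.mul_mem_cancel_left (inv_mem h3),
    s.M.mul_mem_cancel_right (inv_mem (s.CxM hm)), s.M.mul_mem_cancel_left (s.CxM hm)] at h2

theorem odd_bot {O : Subgroup G} (h1 : O ≤ centralizer {s.k}) (h2 : centralizer {s.k} ≤ normalizer (O : Set G))
    (hO : Odd (Nat.card O)) : O = ⊥ := by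
  have f1 : s.y1 * s.k = s.k * s.y1 ∧ s.c1 * s.k = s.k * s.c1 ∧ s.y1 * s.y1 = 1 ∧
      s.y1 * (s.c1 * s.y1 * s.c1⁻¹) * (s.c1⁻¹ * s.y1 * s.c1) = 1 := s.hF.decide s.repF (by decide +kernel)
  have yL := h2 (mem_cen.2 f1.1)
  have cL := h2 (mem_cen.2 f1.2.1)
  have h5 := fpf_four hO (s.J3 _ s.mem.1) f1.2.2.1 f1.2.2.2 cL yL fun y hy e => by
    rcases (s.x0 y (s.memCx (s.good1.cent e) (mem_cen.1 (h1 hy)))).2.2.2.1 e with h | h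
    · exact eq_one_of_odd_of_sq hO hy h
    · exact absurd (eq_one_of_odd_of_sq hO (mul_mem (pow_mem hy 4) (conj_mem_of_mem_norm yL (inv_mem (pow_mem hy 4)))) h.1)
        h.2
  refine (eq_bot_iff_forall _).2 fun y hy => ?_
  have h6 : y * (s.c1 * s.y1 * s.c1⁻¹) = s.c1 * s.y1 * s.c1⁻¹ * y := by
    simpa [mul_assoc] using cjcomm (g := s.c1) (h5 _ (conj_mem_of_mem_norm (inv_mem cL) hy))
  have h7 := s.cenV' (cjs s.id1.2.2.2.1 ▸ cjcomm (g := s.m2⁻¹) (h5 y hy)) (cjs s.id1.2.2.2.2.1 ▸ cjcomm (g := s.m2⁻¹) h6)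
  have h3 : s.m2 ∈ s.M := word_mem _ _
  rw [s.M.mul_mem_cancel_right (inv_mem (inv_mem h3)), s.M.mul_mem_cancel_left (inv_mem h3)] at h7
  exact eq_one_of_odd_of_sq hO hy ((s.x0 y (s.memCx h7 (mem_cen.1 (h1 hy)))).2.2.2.2 (h5 y hy) h6)

theorem cen_k : centralizer {s.k} ≤ s.M := fun g hg => by
  obtain ⟨P, hP, h1⟩ := exists_isSylIn (p := 2) (Q := s.V) (H := s.Cx) (IsPGroup.of_card (n := 2) s.gV.2)
    (clos_le.2 fun x hx => mem_clos (by simp only [List.mem_cons] at hx ⊢; tauto))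
  have kP : s.k2 ∈ P := h1 (mem_clos (by simp))
  have k1 : ∀ g ∈ centralizer ({s.k} : Set G), g * s.k2 * g⁻¹ ∈ P → g ∈ s.Cx := fun g hg h =>
    s.memCx (s.isol (mem_cen.1 hg) (s.CxM (hP.le h))) (mem_cen.1 hg)
  have k2 := s.id1.2.2.2.2.2.2.1
  have h := zstar_mod (isSylIn_of_normalizer hP (fun a ha => mem_cen.2 (s.x0 a (hP.le ha)).1)
    fun g hg hn => k1 g hg (conj_mem_of_mem_norm hn kP)) (Z := zpowers s.k) (zpowers_le.2 (h1 (mem_clos (by simp))))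
    (fun g hg z hz => by rcases (mem_zpowers_iff_of_sq k2).1 hz with rfl | rfl <;> simp [mem_cen.1 hg]) kP
    (fun g hg h => (mem_zpowers_iff_of_sq k2).2 (s.x0 g (k1 g hg h)).2.1) (fun O => s.odd_bot) g hg
  exact s.isol (mem_cen.1 hg) ((s.M.mul_mem_cancel_right (inv_mem s.kM.2)).1 (zpowers_le.2 s.kM.1 h))

theorem r0 : ∀ y ∈ s.R, y * s.w = s.w * y ∧ (y * y = 1 → y = 1 ∨ y ∈ s.clE ∨ y ∈ s.clZ) :=
  s.hF.decide s.repF (by decide +kernel)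

theorem sylR : IsSylIn 2 s.R s.M := isSylIn_of_card (clos_le.2 (by
  simp only [List.forall_mem_cons]
  exact ⟨word_mem _ _, word_mem _ _, word_mem _ _, word_mem _ _, s.NM (word_mem _ _), by simp⟩))
  (k := 6) (m := 2835) s.gR.2 s.cardM (by decide)

theorem good_p : Good s.M s.p1 :=
  (good_of_syl s.sylR s.kM.1 s.id1.2.2.2.2.2.2.1 s.cen_k fun y hy h => by
    obtain ⟨g, rfl⟩ := isConj_iff.1 h
    rcases (s.r0 _ hy).2 (conj_sq s.id1.2.2.2.2.2.2.1) with e | ⟨m, hm, e⟩ | e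
    · exact absurd (conj_eq_one.1 e) s.id1.2.2.2.2.2.2.2.1
    · exact ⟨m⁻¹, inv_mem hm, cjs e⟩
    · exact absurd e (s.notZ h)).of_isConj (isConj_iff.2 ⟨_, s.id1.2.1⟩).symm (s.NM (word_mem _ _))

theorem cen_w : centralizer {s.w} ≤ s.M := by
  have f1 : s.b * s.w = s.w * s.b ∧ s.p1 * s.w = s.w * s.p1 ∧ s.p2 * s.w = s.w * s.p2 ∧
      s.t4 * s.t7 * s.w = s.w * (s.t4 * s.t7) ∧ s.b * s.p2 * s.b⁻¹ * s.p2⁻¹ = s.p1 ∧ s.p1 * s.p1 = 1 ∧ s.b * s.b * s.b = 1 ∧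
      s.t4 * s.t7 * s.b * (s.t4 * s.t7)⁻¹ = s.b⁻¹ ∧ s.t4 * s.t7 * s.p1 = s.p1 * (s.t4 * s.t7) ∧ (s.p1 * s.b) ^ 3 = 1 :=
    s.hF.decide s.repF (by decide +kernel)
  have f2 : ∀ g ∈ s.Cb, g * s.w = s.w * g → g = 1 * 1 ∨ g = s.b * 1 ∨ g = s.b⁻¹ * 1 ∨ g = 1 * s.w ∨ g = s.b * s.w ∨
      g = s.b⁻¹ * s.w := s.hL.decide s.rep (by decide +kernel)
  obtain ⟨a1, a2, a3, a4, a5, a6, a7, a8, a9, a10⟩ := f1
  obtain ⟨N, hN⟩ := exists_core3 (centralizer ({s.w} : Set G))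
  have o2 := s.ord.2.2.2.2.1
  have hV : Sec (zpowers s.w) (centralizer {s.w}) := ⟨zpowers_le.2 (mem_cen.2 rfl), fun g hg =>
    centralizer_le_normalizer _ (mem_centralizer_iff.2 fun y ⟨n, hn⟩ =>
      hn ▸ ((show Commute g s.w from mem_cen.1 hg).zpow_right n).symm), by rw [Nat.card_zpowers, o2]; decide⟩
  have wM : zpowers s.w ≤ s.M := zpowers_le.2 (s.HM (s.le.2.2.2.1 s.mem.2.2.2.2.2.1))
  have bM := s.HM (s.JH s.mem.2.2.2.2.1)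
  rcases ft hV hN (mem_cen.2 a1) s.ord.2.2.2.1 (fun g hg h => by
      rcases f2 g (s.cen_b (mem_cen.2 h)) (mem_cen.1 hg) with e | e | e | e | e | e <;> rw [e] <;>
        exact mul_mem_sup (by simp) (by simp)) with h | ⟨-, h1, f, -, hf⟩ | ⟨-, f, hf1, hf⟩
  · have pN : s.p1 ∈ N := a5 ▸ h.comm_mem _ (mem_cen.2 a3) 1 (by rw [a5, pow_one, pow_two, a6]; exact one_mem _)
    have NM : N ≤ s.M := by
      refine inf_eq_left.1 (inf_le_left.eq_or_lt.resolve_right fun hlt => ?_)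
      obtain ⟨g, hg, h1, h2⟩ := h.nc _ (le_inf (hN.max _ hV) wM) hlt
      exact h1 ⟨hg, s.good_p.of_conj (conj_mem_of_mem_norm h2 ⟨pN, s.good_p.mem⟩).2⟩
    exact fun g hg => s.good_p.of_conj (NM (conj_mem_of_mem_norm (hN.norm hg) pN))
  · have pN : s.p1 ∈ N := by
      have := a5_eps (f ⟨_, mem_cen.2 a1⟩) ?_ (f ⟨_, mem_cen.2 a4⟩) ?_ (f ⟨_, mem_cen.2 a2⟩) ?_ ?_ ?_
      · rwa [← MonoidHom.mem_ker, hf] at this
      all_goals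
        simp only [← map_mul, ← map_inv, ← map_pow]
        first | exact congrArg f (Subtype.ext (by assumption)) | exact (congrArg f (Subtype.ext (by assumption))).trans f.map_one
    have NM : N ≤ s.M := fun n hn => s.good_p.of_conj
      ((s.M.mul_mem_cancel_right (inv_mem s.good_p.mem)).1 (wM (h1 n hn _ pN)))
    exact fun g hg => s.good_p.of_conj (NM (conj_mem_of_mem_norm (hN.norm hg) pN))
  · have h5 := card_eq_card_quotient_mul_card_subgroup f.ker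
    rw [Nat.card_congr (QuotientGroup.quotientKerEquivOfSurjective f hf1).toEquiv, card_L27, hf,
      Nat.card_congr (subgroupOfEquivOfLe hV.le).toEquiv, Nat.card_zpowers, o2] at h5
    have h6 := card_dvd_of_le (fun y hy => mem_cen.2 (s.r0 y hy).1 : s.R ≤ centralizer {s.w})
    rw [s.gR.2, h5] at h6
    exact absurd h6 (by decide)

include s in
theorem main : Nonempty (G ≃* alternatingGroup (Fin 9)) := by
  obtain ⟨e⟩ := s.iso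
  have h := eq_top_of_two_classes s.sylR s.id1.2.2.2.2.2.2.1 s.id1.2.2.2.2.2.2.2.1 s.id1.2.2.2.2.2.2.2.2.2.2.2.2.2.2
    (fun g hg => s.notZ (isConj_iff.2 ⟨g, hg⟩) (self_mem_cls _ _)) s.cen_k s.cen_w fun a ha a2 a1 => by
      rcases (s.r0 a ha).2 a2 with h | ⟨g, hg, h⟩ | ⟨g, hg, h⟩
      · exact absurd h a1
      · exact ⟨g⁻¹, inv_mem hg, .inl (cjs h)⟩
      · exact ⟨g⁻¹, inv_mem hg, .inr (cjs h)⟩
  exact ⟨(topEquiv.symm.trans (MulEquiv.subgroupCongr h.symm)).trans e⟩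

end As

end Cfsg.Agent.T16.A9
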