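import Mathlib
import Cfsg.Agent.T16.Kit3
import Cfsg.Agent.T16.M12Data
import Cfsg.Agent.Rec.X32.Fin1
import Cfsg.Agent.Rec.UQ
import Cfsg.Agent.Cl.PSL2Pairs

/-!
The amalgam of two groups `AGL(2,3)`: the centraliser of an involution gives the last three relations.
-/

set_option autoImplicit false
set_option synthInstance.maxSize 100000
set_option synthInstance.maxHeartbeats 1000000
set_option linter.unusedSectionVars false

namespace Cfsg.Agent.T16.MT

open Cfsg.Agent.Spor Cfsg.Agent.Rec Cfsg.Agent.Inv.Fz Subgroup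

universe u

variable {G : Type u} [Group G]

theorem a5_fact : ∀ c : Equiv.Perm (Fin 5), c * (c * c) = 1 → c ≠ 1 → ∀ s : Equiv.Perm (Fin 5), s * s = 1 →
    s * c * s * c = 1 → Equiv.Perm.sign s = 1 → ∀ u : Equiv.Perm (Fin 5), u * u = 1 → s * u * s * u = 1 →
    c * u * (c * u * (c * u)) = 1 → u = 1 := by decide +kernel

theorem mem_zp2 {j g : G} (j2 : j * j = 1) (h : g ∈ zpowers j) : g = 1 ∨ g = j := by
  obtain ⟨k, rfl⟩ := mem_zpowers_iff.1 h
  have h2 : j ^ (2 : ℤ) = 1 := by rw [zpow_two, j2]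
  rcases Int.even_or_odd' k with ⟨m, rfl | rfl⟩
  · left; rw [zpow_mul, h2, one_zpow]
  · right; rw [zpow_add, zpow_mul, h2, one_zpow, one_mul, zpow_one]

variable [Finite G]

theorem sec_zp {j : G} (j2 : j * j = 1) : Sec (zpowers j) (centralizer {j}) := by
  refine ⟨zpowers_le.2 (mem_cen.2 rfl), centralizer_le_normalizer _ |>.trans' fun g hg x hx => ?_, ?_⟩
  · rcases mem_zp2 j2 hx with rfl | rfl
    exacts [by simp, (mem_cen.1 hg).symm]
  · rw [Nat.card_zpowers]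
    exact (by norm_num : Nat.Coprime 2 3).coprime_dvd_left (orderOf_dvd_of_pow_eq_one (by rw [pow_two, j2]))

theorem mem_core {j c q s : G} {N : Subgroup G} (hN : Core3 N (centralizer {j})) (j2 : j * j = 1) (j1 : j ≠ 1)
    (q2 : q * q = j) (c3 : orderOf c = 3) (cj : c * j = j * c) (cq : c * q * (c * q * (c * q)) = 1) (s2 : s * s = 1)
    (sj : s * j = j * s) (sc : s * c * s * c = 1) (sq : s * q * s * q = 1)
    (hC : ∀ g, g * j = j * g → g * c = c * g → g ∈ zpowers c ⊔ zpowers j) : q ∈ N := by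
  have hV := sec_zp j2
  have hc : c ∈ centralizer ({j} : Set G) := mem_cen.2 cj
  have hq : q ∈ centralizer ({j} : Set G) := mem_cen.2 (by rw [← q2, mul_assoc])
  have hs : s ∈ centralizer ({j} : Set G) := mem_cen.2 sj
  have hjN : j ∈ N := hN.max _ hV (mem_zpowers j)
  have c3' : c * (c * c) = 1 := by rw [← pow_three, ← c3, pow_orderOf_eq_one]
  have ci : c⁻¹ = c * c := inv_eq_of_mul_eq_one_right c3'
  have hcN : c ∉ N := fun h => by
    have := (hN.cop.coprime_dvd_left (orderOf_dvd_natCard _ h))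
    rw [c3] at this; norm_num at this
  rcases ft hV hN hc c3 (fun g hg h => hC g (mem_cen.1 hg) h) with h | ⟨-, -, f, -, hf⟩ | ⟨rfl, f, hs', hf⟩
  · have h1 : c * (c * q * c⁻¹) * c⁻¹ * (c * q * c⁻¹)⁻¹ = q⁻¹ := by
      have h2 : c⁻¹ * q * c = (c * q * c⁻¹)⁻¹ * q⁻¹ := by
        calc _ = (c * q * c⁻¹)⁻¹ * (c * q * (c⁻¹ * c⁻¹ * q * c * q)) * q⁻¹ := by group
          _ = _ := by
            rw [show c⁻¹ * c⁻¹ = c by rw [← mul_inv_rev, ← ci, inv_inv], mul_assoc (c * q) c q, cq]; group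
      have h3 : c * (c * q * c⁻¹) * c⁻¹ = c⁻¹ * q * c := by
        rw [ci]
        calc _ = c * c * q * (c * (c * c)) * c := by group
          _ = _ := by rw [c3']; group
      have h4 : q⁻¹ = q * j := by rw [inv_eq_iff_mul_eq_one, ← mul_assoc, q2, j2]
      have h5 : c⁻¹ * q⁻¹ * c = (c⁻¹ * q * c) * j := by rw [h4, mul_assoc, mul_assoc, ← cj]; group
      have h6 : q = c⁻¹ * q⁻¹ * c * (c * q * c⁻¹)⁻¹ := by
        calc _ = (c * q * c⁻¹ * (c⁻¹ * q * c))⁻¹ := by rw [h2]; group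
          _ = _ := by simp only [mul_inv_rev, inv_inv, mul_assoc]
      have h7 : j * (c * q * c⁻¹)⁻¹ = (c * q * c⁻¹)⁻¹ * j :=
        (mem_cen.1 (inv_mem (mul_mem (mul_mem hc hq) (inv_mem hc)))).symm
      rw [h3, h4]
      nth_rewrite 3 [h6]
      rw [h5, mul_assoc _ j, h7, mul_assoc _ _ j, mul_assoc _ j j, j2, mul_one]
    have h2 := h.comm_mem (c * q * c⁻¹) (mul_mem (mul_mem hc hq) (inv_mem hc)) 1 (by
      rw [h1, pow_one, pow_two, ← mul_inv_rev, q2]; exact inv_mem (mem_zpowers j))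
    rw [h1] at h2
    exact inv_mem_iff.1 h2
  · have k : ∀ x : centralizer ({j} : Set G), ((f x : Equiv.Perm (Fin 5)) = 1) ↔ (x : G) ∈ N := fun x => by
      rw [← mem_subgroupOf, ← hf, MonoidHom.mem_ker, OneMemClass.coe_eq_one]
    have k1 : ∀ x : centralizer ({j} : Set G), (x : G) = 1 → (f x : Equiv.Perm (Fin 5)) = 1 := fun x h =>
      (k x).2 (h ▸ one_mem N)
    refine (k ⟨q, hq⟩).1 (a5_fact (f ⟨c, hc⟩) ?_ (fun h => hcN ((k _).1 h)) (f ⟨s, hs⟩) ?_ ?_ (f ⟨s, hs⟩).2 _ ?_ ?_ ?_) <;>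
      simp only [← coe_mul, ← map_mul]
    exacts [k1 _ c3', k1 _ s2, k1 _ sc, (k _).2 (show q * q ∈ N from q2 ▸ hjN), k1 _ sq, k1 _ cq]
  · have k : ∀ x : centralizer ({j} : Set G), f x = 1 ↔ (x : G) ∈ zpowers j := fun x => by
      rw [← mem_subgroupOf, ← hf, MonoidHom.mem_ker]
    by_contra h1
    have := Fact.mk (by norm_num : Nat.Prime 7)
    have := Fact.mk Nat.prime_two
    have o1 : orderOf (f ⟨q, hq⟩) = 2 := orderOf_eq_prime (by
      rw [pow_two, ← map_mul]; exact (k _).2 (show q * q ∈ _ from q2 ▸ hjN)) fun h => h1 ((k _).1 h)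
    have o2 : orderOf (f ⟨s, hs⟩) = 2 := orderOf_eq_prime (by
      rw [pow_two, ← map_mul]; exact (k _).2 (show s * s ∈ _ from s2 ▸ one_mem _)) fun h => by
        have h2 : s * c = c * s := by
          rcases mem_zp2 j2 ((k _).1 h) with h2 | h2 <;> rw [show s = _ from h2]
          exacts [by simp, cj.symm]
        rw [h2, mul_assoc c, s2, mul_one] at sc
        rw [sc, mul_one] at c3'
        exact hcN (c3' ▸ one_mem _)
    obtain ⟨g, hg⟩ := isConj_iff.1 (Cl.L2.isConjS_of_orderOf_two o1 o2)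
    obtain ⟨g, rfl⟩ := hs' g
    have h2 := (k (g * ⟨q, hq⟩ * g⁻¹ * (⟨s, hs⟩ : centralizer ({j} : Set G))⁻¹)).1 (by
      rw [map_mul, map_mul, map_mul, map_inv, map_inv, hg, mul_inv_cancel])
    have h3 : (g : G) * q * (g : G)⁻¹ * (g * q * (g : G)⁻¹) = j := by
      rw [conj_mul, q2, mem_cen'.1 g.2]
    rcases mem_zp2 j2 h2 with h4 | h4
    · rw [show (g : G) * q * (g : G)⁻¹ = s from mul_inv_eq_one.1 h4, s2] at h3
      exact j1 h3.symm
    · rw [show (g : G) * q * (g : G)⁻¹ = j * s from mul_inv_eq_iff_eq_mul.1 h4, mul_assoc, ← mul_assoc s, sj,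
        mul_assoc, s2, mul_one, j2] at h3
      exact j1 h3.symm

theorem cube_mem {j c n : G} {N : Subgroup G} (hN : Core3 N (centralizer {j})) (j2 : j * j = 1)
    (c3 : c ^ 3 = 1) (cj : c * j = j * c) (hC : ∀ g, g * j = j * g → g * c = c * g → g ∈ zpowers c ⊔ zpowers j)
    (hn : n ∈ N) : (n * c) ^ 3 = 1 ∨ (n * c) ^ 3 = j := by
  have hV := sec_zp j2
  have := hV.normal
  have hq := hV.quo
  have := hq.finite
  set f := QuotientGroup.mk' ((zpowers j).subgroupOf (centralizer {j}))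
  have hc : c ∈ centralizer ({j} : Set G) := mem_cen.2 cj
  have c3' : f ⟨c, hc⟩ ^ 3 = 1 := by rw [← map_pow, show (⟨c, hc⟩ : centralizer ({j} : Set G)) ^ 3 = 1 from Subtype.ext c3, map_one]
  obtain ⟨r, -, h⟩ := exists_conj_of_fpf (R := img f N) (y := f ⟨c, hc⟩) (ρ := f ⟨n, hN.le hn⟩)
    (fun r hr => (hq.img_normal hN.toSec).conj_mem r hr _) (fun r hr h => by
      obtain ⟨y, h1, rfl⟩ := hq.cent_elt (x := ⟨c, hc⟩) c3 h
      have h2 := (hq.mem_img (zpowers_le.2 hc)).2 (hC y (mem_cen.1 y.2) h1)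
      rw [hq.img_zpowers ⟨c, hc⟩] at h2
      obtain ⟨k, hk⟩ := mem_zpowers_iff.1 h2
      refine orderOf_eq_one_iff.1 (Nat.eq_one_of_dvd_coprimes (hq.img_cop hN.toSec) (orderOf_dvd_natCard _ hr)
        (orderOf_dvd_of_pow_eq_one ?_))
      rw [← hk, ← zpow_natCast, ← zpow_mul, mul_comm, zpow_mul, zpow_natCast, c3', one_zpow])
    (mem_img_of_mem _ hn)
  refine mem_zp2 j2 ((hq.eq_one (x := (⟨n, hN.le hn⟩ * ⟨c, hc⟩) ^ 3)).1 ?_)
  rw [← h, conj_pow, conj_eq_one] at c3'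
  rw [map_pow, map_mul, c3']

/-- The relations of `GL(2,3)`. -/
def RelK (i y q s : G) : Prop :=
  i * i = 1 ∧ i ≠ 1 ∧ q * q = i ∧ orderOf y = 3 ∧ y * i = i * y ∧ y * q * (y * q * (y * q)) = 1 ∧ s * s = 1 ∧
    s * i = i * s ∧ s * y * s * y = 1 ∧ s * q * s * q = 1

theorem RelK.mem_core {i y q s g j c : G} (h : RelK i y q s) {N : Subgroup G} (hN : Core3 N (centralizer {j}))
    (hj : g * i * g⁻¹ = j) (hc : g * y * g⁻¹ = c)
    (hC : ∀ g, g * j = j * g → g * c = c * g → g ∈ zpowers c ⊔ zpowers j) : g * q * g⁻¹ ∈ N := by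
  obtain ⟨h1, h2, h3, h4, h5, h6, h7, h8, h9, h10⟩ := h
  subst hj hc
  refine MT.mem_core (c := g * y * g⁻¹) (s := g * s * g⁻¹) hN ?_ (fun e => h2 (conj_eq_one.1 e)) ?_
    (((MulAut.conj g).orderOf_eq y).trans h4) ?_ ?_ ?_ ?_ ?_ ?_ hC <;>
    simp only [conj_mul, h1, h3, h5, h6, h7, h8, h9, h10, mul_one, mul_inv_cancel]

omit [Finite G] in
theorem codA {e : List G} (hs : Sat relA e) (hl : e.length = 10) (h1 : nth 1 e 4 ≠ 1) :
    ∃ C : Cod A9 G, C.RepL lA e :=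
  presA.cod_of_comm A9_ok lA_ok gA_ok 4 4 (by decide +kernel) hs hl h1 h1

/-- The letters of one of the two groups. -/
def ltA (x y z i s q : G) : List G := [x, x⁻¹, y, y⁻¹, z, z⁻¹, i, s, q, q⁻¹]

omit [Finite G] in
theorem factsA {x y z i s q : G} (hs : Sat relA (ltA x y z i s q)) (h1 : z ≠ 1) :
    (RelK i y q s ∧ q * s * q⁻¹ = i * s ∧ q * x * q⁻¹ = z⁻¹ ∧ q * z * q⁻¹ = x ∧ i * s * (i * s) = 1 ∧ z ^ 3 = 1 ∧
      z * (i * s) = i * s * z) ∧
    (∀ g ∈ clos (ltA x y z i s q), g * (i * s) = i * s * g → g * z = z * g →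
      g = 1 ∨ g = z ∨ g = z⁻¹ ∨ g = i * s ∨ g = z * (i * s) ∨ g = z⁻¹ * (i * s)) ∧
    (∀ g ∈ clos (ltA x y z i s q), g * y * g⁻¹ ≠ z) ∧ Nat.card (clos (ltA x y z i s q)) = 432 := by
  obtain ⟨C, hC⟩ := codA hs rfl h1
  have h2 : C.RepL _ [x, y, z, i, s, q] := hC.pick [0, 2, 4, 6, 7, 8]
  have h3 := hC.gen gA_ok
  have hL := h3.1.cons Cod.listsL_nil
  unfold RelK
  exact ⟨Cod.listsL_nil.decide h2 (by decide +kernel), hL.decide h2 (by decide +kernel),
    hL.decide h2 (by decide +kernel), h3.2⟩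

/-- All the letters. -/
def ltG (x y z i s q r : G) : List G :=
  ltA x y z i s q ++ [r, r⁻¹, i * s, r * q * r⁻¹, (r * q * r⁻¹)⁻¹, q * r * q⁻¹, (q * r * q⁻¹)⁻¹]

omit [Finite G] in
theorem satB {x y z i s q r : G} (hA : Sat relA (ltA x y z i s q)) (hB : Sat relA (ltA y x z⁻¹ s i r)) (h1 : z ≠ 1) :
    Sat relB (ltG x y z i s q r) := by
  refine sat_append.2 ⟨hA.extend _ (m := 10) rfl (by decide +kernel), ?_⟩
  obtain ⟨C, hC⟩ := codA hB rfl (inv_ne_one.2 h1)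
  have h2 : C.RepL _ [x, y, z⁻¹⁻¹, i, s, r] := hC.pick [2, 0, 5, 7, 6, 8]
  rw [inv_inv] at h2
  have h3 : i * s * (i * s) = 1 ∧ s * (r * r) = 1 ∧ y * (r * (z * r⁻¹)) = 1 ∧ i * (r * (i * r)) = 1 ∧
      x * (r * (x * (r * (x * r)))) = 1 := Cod.listsL_nil.decide h2 (by decide +kernel)
  simp only [exB, ltG, ltA, sat_cons, sat_nil, evalW_cons, evalW_nil, List.cons_append, List.nil_append, nth_zero,
    nth_succ, mul_one, and_true, mul_inv_cancel, inv_mul_cancel, true_and, h3]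
  exact ⟨by group, by group⟩

omit [Finite G] in
theorem not_mem_A {x y z i s q r : G} (hA : Sat relA (ltA x y z i s q)) (hB : Sat relA (ltA y x z⁻¹ s i r))
    (h1 : z ≠ 1) : r ∉ clos (ltA x y z i s q) := fun h =>
  (factsA hA h1).2.2.1 r h (by rw [(factsA hB (inv_ne_one.2 h1)).1.2.2.1, inv_inv])

theorem sat_cases {x y z i s q r : G} (hA : Sat relA (ltA x y z i s q)) (hB : Sat relA (ltA y x z⁻¹ s i r))
    (h1 : z ≠ 1) (hC : ∀ g, g * z = z * g → g ∈ clos (ltA x y z i s q)) :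
    Sat rel010 (ltG x y z i s q r) ∨ Sat rel111 (ltG x y z i s q r) := by
  obtain ⟨⟨a1, a2, a3, -, j2, z3, zj⟩, a4, -⟩ := factsA hA h1
  obtain ⟨⟨b1, b2, b3, -⟩, -⟩ := factsA hB (inv_ne_one.2 h1)
  obtain ⟨N, hN⟩ := exists_core3 (centralizer ({i * s} : Set G))
  have k0 : ∀ g, g * (i * s) = i * s * g → g * z = z * g → g ∈ zpowers z ⊔ zpowers (i * s) := fun g e1 e2 => by
    have m1 : z ∈ zpowers z ⊔ zpowers (i * s) := mem_sup_left (mem_zpowers z)
    have m2 : i * s ∈ zpowers z ⊔ zpowers (i * s) := mem_sup_right (mem_zpowers _)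
    rcases a4 g (hC g e2) e1 e2 with rfl | rfl | rfl | rfl | rfl | rfl
    exacts [one_mem _, m1, inv_mem m1, m2, mul_mem m1 m2, mul_mem (inv_mem m1) m2]
  have k1 : ∀ g, g * (i * s) = i * s * g → g * z⁻¹ = z⁻¹ * g → g ∈ zpowers z⁻¹ ⊔ zpowers (i * s) := fun g e1 e2 => by
    rw [zpowers_inv]
    exact k0 g e1 (Commute.inv_right_iff.1 e2)
  have q1 : r * q * r⁻¹ ∈ N := a1.mem_core hN (b2.trans a1.2.2.2.2.2.2.2.1) (b3.trans (inv_inv z)) k0
  have q2 : q * r * q⁻¹ ∈ N := b1.mem_core hN a2 a3 k1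
  have zN : z ∈ normalizer (N : Set G) := hN.norm (mem_cen.2 zj)
  have k2 : ∀ n ∈ N, (n * z⁻¹) ^ 3 = 1 ∨ (n * z⁻¹) ^ 3 * (i * s) = 1 := fun n hn =>
    (cube_mem hN j2 (by rw [inv_pow, z3, inv_one]) (Commute.inv_left zj) k1 hn).imp_right fun e => by rw [e, j2]
  have e1 := k2 _ (mul_mem q1 q2)
  have e2 := k2 _ (mul_mem q1 (conj_mem_of_mem_norm zN q2))
  have e3 := k2 _ (mul_mem q1 (conj_mem_of_mem_norm (inv_mem zN) q2))
  have hS := satB hA hB h1
  have no : ∀ ws, Bound.{u} (relB ++ ws) 10 17 1 → ¬ Sat ws (ltG x y z i s q r) := fun ws hb h =>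
    not_mem_A hA hB h1 (hb.mem (sat_append.2 ⟨hS, h⟩) (H := clos (ltA x y z i s q)) (fun k hk => by
      rw [← nth_take 1 hk]; exact nth_mem_clos _ k) 10 (by norm_num))
  simp only [pow_three, mul_assoc, inv_inv] at e1 e2 e3
  rcases e1 with e1 | e1 <;> rcases e2 with e2 | e2 <;> rcases e3 with e3 | e3
  on_goal 1 => refine absurd ?_ (no ex000 t000_bd)
  on_goal 2 => refine absurd ?_ (no ex001 t001_bd)
  on_goal 3 => refine .inl (sat_append.2 ⟨hS, ?_⟩)
  on_goal 4 => refine absurd ?_ (no ex011 t011_bd)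
  on_goal 5 => refine absurd ?_ (no ex100 t100_bd)
  on_goal 6 => refine absurd ?_ (no ex101 t101_bd)
  on_goal 7 => refine absurd ?_ (no ex110 t110_bd)
  on_goal 8 => refine .inr (sat_append.2 ⟨hS, ?_⟩)
  all_goals
    simp only [ex000, ex001, ex010, ex011, ex100, ex101, ex110, ex111, ltG, ltA, sat_cons, sat_nil, evalW_cons,
      evalW_nil, List.cons_append, List.nil_append, nth_zero, nth_succ, mul_one, and_true, mul_assoc]
    exact ⟨e1, e2, e3⟩

theorem model_M : ∃ e : List Spor.M12, Sat rel111 e ∧ e.length = 17 ∧ clos e = ⊤ := by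
  obtain ⟨C, e₀, h1, h2⟩ := X32.I.exists_model
  obtain ⟨e, h3, h4⟩ := h1.regen wL_ok wC_ok
  exact ⟨e, h3.sat relM_ok, h3.length_eq.symm, h4.trans h2⟩

/-- Packed permutations of 27 points. -/
noncomputable def A27 : Ar := permAr (nat_lit 27) (nat_lit 0x1a191817161514131211100f0e0d0c0b0a09080706050403020100)

theorem A27_ok : oneOK (nat_lit 27) (nat_lit 0x1a191817161514131211100f0e0d0c0b0a09080706050403020100) = true := by decide +kernel

noncomputable def c7 : List ℕ := [(nat_lit 0x19181a151716141312100f110c0e0d0b0a09070608030504020100), (nat_lit 0x1716151413121a19180b0a0911100f0e0d0c080706050403020100), (nat_lit 0x19181a1615171312140f11100c0e0d090b0a080706050403020100), (nat_lit 0xe0d0c11100f0b0a091716151a1918141312050403080706020100), (nat_lit 0x161715191a181314120d0e0c10110f0a0b09040503070806010200), (nat_lit 0x11100f1a19180807060e0d0c1716150504030b0a09141312020100), (nat_lit 0x171a141619131518120e110b0d100a0c0f09050802040701030600)]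

/-- Seven matrices. -/
def g7 : ℕ → Matrix.SpecialLinearGroup (Fin 3) (ZMod 3)
  | 0 => ⟨!![1, 1, 0; 0, 1, 0; 0, 0, 1], by decide⟩
  | 1 => ⟨!![1, 0, 0; 0, 1, 1; 0, 0, 1], by decide⟩
  | 2 => ⟨!![1, 0, 1; 0, 1, 0; 0, 0, 1], by decide⟩
  | 3 => ⟨!![1, 0, 0; 0, 2, 0; 0, 0, 2], by decide⟩
  | 4 => ⟨!![2, 0, 0; 0, 2, 0; 0, 0, 1], by decide⟩
  | 5 => ⟨!![1, 0, 0; 0, 0, 1; 0, 2, 0], by decide⟩
  | _ => ⟨!![0, 1, 0; 2, 0, 0; 0, 0, 1], by decide⟩

/-- The vectors. -/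
def vec (i : ℕ) : Fin 3 → ZMod 3 := ![(i : ZMod 3), (i / 3 : ℕ), (i / 9 : ℕ)]

/-- The natural action. -/
@[reducible] def actSL : MulAction (Matrix.SpecialLinearGroup (Fin 3) (ZMod 3)) (Fin 3 → ZMod 3) where
  smul a v := a.1.mulVec v
  one_smul v := Matrix.one_mulVec v
  mul_smul a b v := (Matrix.mulVec_mulVec v a.1 b.1).symm

omit [Finite G] in
theorem repA {A : Ar} {C : Cod A G} {a b c d e f : ℕ} {x y z i s q : G} (h1 : C.Rep a x) (h2 : C.Rep b y)
    (h3 : C.Rep c z) (h4 : C.Rep d i) (h5 : C.Rep e s) (h6 : C.Rep f q) :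
    C.RepL [a, A.inv a, b, A.inv b, c, A.inv c, d, e, f, A.inv f] (ltA x y z i s q) :=
  h1.cons (h1.inv.cons (h2.cons (h2.inv.cons (h3.cons (h3.inv.cons (h4.cons (h5.cons (h6.cons (h6.inv.cons
    Cod.repL_nil)))))))))

theorem model_L : ∃ e : List (Matrix.ProjectiveSpecialLinearGroup (Fin 3) (ZMod 3)),
    Sat rel010 e ∧ e.length = 17 ∧ clos e = ⊤ := by
  let _ := actSL
  obtain ⟨C, hC⟩ := cod_of_tabs (e := vec) (n := 27) (m := 7) (T := fun x i => at8 (nth 0 c7 x) i) (g := g7)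
    (by
      have : ∀ x < 7, ∀ i < 27, at8 (nth 0 c7 x) i < 27 ∧ (g7 x).1.mulVec (vec i) = vec (at8 (nth 0 c7 x) i) := by
        decide +kernel
      exact this)
    (by
      have : ∀ i < 27, ∀ j < 27, vec i = vec j → i = j := by decide +kernel
      exact fun i hi j hj => this i hi j hj)
    (fun a _ h => by
      have h1 : ∀ j : Fin 3, vec (3 ^ (j : ℕ)) = Pi.single j 1 := by decide +kernel
      refine Subtype.ext (Matrix.ext fun i j => ?_)
      have h2 : a.1.mulVec (vec (3 ^ (j : ℕ))) = vec (3 ^ (j : ℕ)) := h _ (by fin_cases j <;> norm_num)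
      have h3 := congrFun h2 i
      rw [h1, Matrix.mulVec_single_one] at h3
      rw [show a.1 i j = _ from h3, Pi.single_apply]
      exact (Matrix.one_apply).symm)
    A27_ok (c := c7) (by decide +kernel) rfl (by decide +kernel)
  generalize List.map g7 _ = e at hC
  have h0 := hC.nth 0
  have h1 := hC.nth 1
  have h2 := hC.nth 2
  have h3 := hC.nth 3
  have h4 := hC.nth 4
  have h5 := hC.nth 5
  have h6 := hC.nth 6
  generalize nth 1 e 0 = x, nth 1 e 1 = y, nth 1 e 2 = z, nth 1 e 3 = i, nth 1 e 4 = s, nth 1 e 5 = q,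
    nth 1 e 6 = r at h0 h1 h2 h3 h4 h5 h6
  have hA : Sat relA (ltA x y z i s q) := (repA h0 h1 h2 h3 h4 h5).sat (by decide +kernel)
  have hB : Sat relA (ltA y x z⁻¹ s i r) := (repA h1 h0 h2.inv h4 h3 h6).sat (by decide +kernel)
  have z1 : z ≠ 1 := fun e => absurd ((h2.eq_iff Cod.rep_one).2 e) (by decide +kernel)
  have k1 := (h6.mul h5).mul h6.inv
  have k2 := (h5.mul h6).mul h5.inv
  have hG : Sat rel010 (ltG x y z i s q r) := ((repA h0 h1 h2 h3 h4 h5).append (h6.cons (h6.inv.cons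
    ((h3.mul h4).cons (k1.cons (k1.inv.cons (k2.cons (k2.inv.cons Cod.repL_nil)))))))).sat (by decide +kernel)
  have hle : clos (ltA x y z i s q) ≤ clos (ltG x y z i s q r) :=
    clos_le.2 fun a ha => mem_clos (List.mem_append_left _ ha)
  have hT : clos (ltG x y z i s q r) = ⊤ := by
    have c1 : Nat.card (Matrix.SpecialLinearGroup (Fin 3) (ZMod 3)) = 5616 := by rw [Cl.card_sl_three]; simp
    have c2 := (clos (ltA x y z i s q)).card_mul_index
    rw [(factsA hA z1).2.2.2, c1, ← relIndex_mul_index hle] at c2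
    have c3 : (clos (ltG x y z i s q r)).index ∣ 13 := Dvd.intro_left _ (Nat.eq_of_mul_eq_mul_left (by norm_num) c2)
    rcases (Nat.dvd_prime (by norm_num)).1 c3 with c4 | c4
    · exact index_eq_one.1 c4
    · rw [c4] at c2
      exact absurd (relIndex_eq_one.1 (by omega) (nth_mem_clos (ltG x y z i s q r) 10)) (not_mem_A hA hB z1)
  refine ⟨_, hG.map (QuotientGroup.mk' _), rfl, ?_⟩
  rw [← map_clos, hT, ← MonoidHom.range_eq_map, QuotientGroup.range_mk']

theorem iso_of_letters {x y z i s q r : G} (hA : Sat relA (ltA x y z i s q)) (hB : Sat relA (ltA y x z⁻¹ s i r))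
    (h1 : z ≠ 1) (hC : ∀ g, g * z = z * g → g ∈ clos (ltA x y z i s q))
    (hT : clos (ltA x y z i s q) ⊔ clos (ltA y x z⁻¹ s i r) = ⊤) :
    Spor.IsoM12 G ∨ Nonempty (G ≃* Matrix.ProjectiveSpecialLinearGroup (Fin 3) (ZMod 3)) := by
  have m := nth_mem_clos (ltG x y z i s q r)
  have h2 : clos (ltG x y z i s q r) = ⊤ := top_le_iff.1 (hT ▸ sup_le
    (clos_le.2 fun a ha => mem_clos (List.mem_append_left _ ha)) (clos_le.2 (by
      simp only [ltA, List.forall_mem_cons]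
      exact ⟨m 2, m 3, m 0, m 1, m 5, inv_mem (m 5), m 7, m 6, m 10, m 11, by simp⟩)))
  have h3 : clos (ltG x y z i s q r) ≠ ⊥ := fun e => h1 (mem_bot.1 (e ▸ m 4))
  have ψ := topEquiv.symm.trans (MulEquiv.subgroupCongr h2).symm
  rcases sat_cases hA hB h1 hC with h | h
  · obtain ⟨e, e1, e2, e3⟩ := model_L
    have := Cl.psl_fin_isSimpleGroup (F := ZMod 3) (n := 3) (by norm_num) (by norm_num)
    obtain ⟨φ⟩ := presL.nonempty_equiv e1 h e2 rfl e3 (by
      have h := Cl.card_psl_mul (ι := Fin 3) (F := ZMod 3)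
      rw [Cl.card_sl_three, Nat.card_zmod, Fintype.card_fin] at h
      exact (one_mul _).symm.trans h) h3
    exact .inr ⟨ψ.trans φ⟩
  · obtain ⟨e, e1, e2, e3⟩ := model_M
    have := Dod.simple_SporM12
    obtain ⟨φ⟩ := presM.nonempty_equiv e1 h e2 rfl e3 Dod.card_SporM12 h3
    exact .inl ⟨ψ.trans φ⟩

end Cfsg.Agent.T16.MT
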