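import Mathlib
import Cfsg.Agent.T16.M12A
import Cfsg.Agent.GT.PGroupIso
import Cfsg.Agent.GT.Cores

/-!
The amalgam of two groups `AGL(2,3)`: generators and relations from the local hypotheses.
-/

set_option autoImplicit false
set_option linter.unusedSectionVars false

namespace Cfsg.Agent.T16.MT

open Cfsg.Agent.Spor Cfsg.Agent.Rec Cfsg.Agent.Inv.Fz Subgroup

universe u

variable {G : Type u} [Group G] [Finite G]

/-- `A` has the shape of `AGL(2,3)` with translation group `E`. -/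
structure Agl (A E : Subgroup G) : Prop where
  le : E ≤ A
  norm : A ≤ normalizer (E : Set G)
  card : Nat.card E = 9
  comm : ∀ a ∈ E, ∀ b ∈ E, a * b = b * a
  exp : ∀ a ∈ E, a ^ 3 = 1
  cent : ∀ g ∈ A, (∀ e ∈ E, g * e = e * g) → g ∈ E
  cardA : Nat.card A = 432

/-- A basis. -/
def Bas (E : Subgroup G) (a b : G) : Prop := a ∈ E ∧ b ∈ E ∧ a ≠ 1 ∧ b ∉ zpowers a

namespace Agl

variable {A E : Subgroup G} (h : Agl A E) {a b : G}
include h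

theorem card_zp (ha : a ∈ E) (a1 : a ≠ 1) : Nat.card (zpowers a) = 3 := by
  have := Fact.mk Nat.prime_three
  rw [Nat.card_zpowers, orderOf_eq_prime (h.exp a ha) a1]

theorem eq_zp (ha : a ∈ E) (a1 : a ≠ 1) {K : Subgroup G} (hK : K ≤ E) (haK : a ∈ K) (hne : ¬ E ≤ K) :
    K = zpowers a := by
  have h1 : Nat.card K ∣ 3 ^ 2 := by simpa [h.card] using card_dvd_of_le hK
  obtain ⟨k, hk, e⟩ := (Nat.dvd_prime_pow Nat.prime_three).1 h1
  refine (eq_of_le_of_card_ge (zpowers_le.2 haK) ?_).symm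
  rw [h.card_zp ha a1, e]
  have : k ≠ 2 := fun e2 => hne (eq_of_le_of_card_ge hK (by rw [h.card, e, e2]; norm_num)).ge
  calc 3 ^ k ≤ 3 ^ 1 := Nat.pow_le_pow_right (by norm_num) (by omega)
    _ = 3 := rfl

theorem le_of_bas (hb : Bas E a b) {K : Subgroup G} (ha : a ∈ K) (hbK : b ∈ K) : E ≤ K := by
  by_contra hne
  refine hb.2.2.2 (h.eq_zp hb.1 hb.2.2.1 (K := E ⊓ K) inf_le_left ⟨hb.1, ha⟩ (fun e => hne (e.trans inf_le_right)) ▸ ?_)
  exact ⟨hb.2.1, hbK⟩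

theorem mem_of_comm (hb : Bas E a b) {g : G} (hg : g ∈ A) (h1 : g * a = a * g) (h2 : g * b = b * g) : g ∈ E :=
  h.cent g hg fun _ he => (mem_cen.1 (h.le_of_bas hb (K := centralizer {g}) (mem_cen.2 h1.symm) (mem_cen.2 h2.symm) he)).symm

theorem bas_conj (hb : Bas E a b) {g : G} (hg : g ∈ A) : Bas E (g * a * g⁻¹) (g * b * g⁻¹) := by
  refine ⟨conj_mem_of_mem_norm (h.norm hg) hb.1, conj_mem_of_mem_norm (h.norm hg) hb.2.1,
    fun e => hb.2.2.1 (conj_eq_one.1 e), fun e => hb.2.2.2 ?_⟩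
  obtain ⟨k, hk⟩ := mem_zpowers_iff.1 e
  rw [conj_zpow] at hk
  exact mem_zpowers_iff.2 ⟨k, by simpa using hk⟩

theorem card_bas : Nat.card {p : G × G // Bas E p.1 p.2} = 48 := by
  let e : {p : G × G // Bas E p.1 p.2} ≃ Σ u : ((E : Set G) \ {1} : Set G), ((E : Set G) \ zpowers (u : G) : Set G) :=
    ⟨fun p => ⟨⟨p.1.1, p.2.1, p.2.2.2.1⟩, ⟨p.1.2, p.2.2.1, p.2.2.2.2⟩⟩,
      fun p => ⟨(p.1, p.2), p.1.2.1, p.2.2.1, p.1.2.2, p.2.2.2⟩, fun _ => rfl, fun _ => rfl⟩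
  have := Fintype.ofFinite ((E : Set G) \ {1} : Set G)
  have h0 : (E : Set G).ncard = 9 := h.card
  have h1 : ∀ u : ((E : Set G) \ {1} : Set G), Nat.card ((E : Set G) \ zpowers (u : G) : Set G) = 6 := fun u => by
    have h2 : (zpowers (u : G) : Set G).ncard = 3 := h.card_zp u.2.1 u.2.2
    rw [Nat.card_coe_set_eq, Set.ncard_sdiff (zpowers_le.2 u.2.1), h0, h2]
  rw [Nat.card_congr e, Nat.card_sigma, Finset.sum_congr rfl fun u _ => h1 u, Finset.sum_const, Finset.card_univ,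
    ← Nat.card_eq_fintype_card, Nat.card_coe_set_eq, Set.ncard_sdiff_singleton_of_mem E.one_mem, h0]
  rfl

theorem exists_conj (hb : Bas E a b) {a' b' : G} (hb' : Bas E a' b') :
    ∃ g ∈ A, g * a * g⁻¹ = a' ∧ g * b * g⁻¹ = b' := by
  let f : A ⧸ E.subgroupOf A → {p : G × G // Bas E p.1 p.2} := fun x =>
    ⟨((x.out : A) * a * ((x.out : A) : G)⁻¹, (x.out : A) * b * ((x.out : A) : G)⁻¹), h.bas_conj hb x.out.2⟩
  have k : ∀ g g' c : G, g * c * g⁻¹ = g' * c * g'⁻¹ → g⁻¹ * g' * c = c * (g⁻¹ * g') := fun g g' c e => by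
    calc _ = g⁻¹ * (g' * c * g'⁻¹) * g' := by group
      _ = _ := by rw [← e]; group
  have hi : Function.Injective f := fun x y e => by
    have e1 := Prod.ext_iff.1 (congrArg Subtype.val e)
    rw [← x.out_eq', ← y.out_eq', QuotientGroup.eq]
    exact h.mem_of_comm hb (x.out⁻¹ * y.out).2 (k _ _ _ e1.1) (k _ _ _ e1.2)
  have h1 := (E.subgroupOf A).card_mul_index
  rw [Nat.card_congr (subgroupOfEquivOfLe h.le).toEquiv, h.card, h.cardA, index] at h1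
  obtain ⟨x, hx⟩ := (hi.bijective_of_nat_card_le (by rw [h.card_bas]; omega)).2 ⟨(a', b'), hb'⟩
  have e1 := Prod.ext_iff.1 (congrArg Subtype.val hx)
  exact ⟨_, x.out.2, e1.1, e1.2⟩

theorem inverts (hb : Bas E a b) {i : G} (h1 : i * a * i⁻¹ = a⁻¹) (h2 : i * b * i⁻¹ = b⁻¹) :
    ∀ e ∈ E, i * e * i⁻¹ = e⁻¹ := fun e he => by
  let K : Subgroup G :=
    { carrier := {x | x ∈ E ∧ i * x * i⁻¹ = x⁻¹}
      mul_mem' := fun {x y} hx hy => ⟨mul_mem hx.1 hy.1, by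
        rw [← conj_mul, hx.2, hy.2, h.comm x hx.1 y hy.1, mul_inv_rev]⟩
      one_mem' := ⟨one_mem _, by simp⟩
      inv_mem' := fun {x} hx => ⟨inv_mem hx.1, by rw [← conj_inv, hx.2]⟩ }
  exact (h.le_of_bas hb (K := K) ⟨hb.1, h1⟩ ⟨hb.2.1, h2⟩ he).2

variable {i : G}

theorem comm_mem (hi : i ∈ A) (h1 : ∀ e ∈ E, i * e * i⁻¹ = e⁻¹) {g : G} (hg : g ∈ A) : g⁻¹ * (i * g * i⁻¹) ∈ E :=
  h.cent _ (mul_mem (inv_mem hg) (mul_mem (mul_mem hi hg) (inv_mem hi))) fun e he => by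
    have h2 : i⁻¹ * e * i = e⁻¹ := by
      calc _ = i⁻¹ * (i * e⁻¹ * i⁻¹) * i := by rw [h1 _ (inv_mem he), inv_inv]
        _ = _ := by group
    calc _ = g⁻¹ * (i * (g * (i⁻¹ * e * i) * g⁻¹) * i⁻¹) * g * (g⁻¹ * (i * g * i⁻¹)) := by group
      _ = _ := by rw [h2, h1 _ (conj_mem_of_mem_norm (h.norm hg) (inv_mem he))]; group

theorem comm_fix (hi : i ∈ A) (h1 : ∀ e ∈ E, i * e * i⁻¹ = e⁻¹) {g : G} (hg : g ∈ A) :
    g * (g⁻¹ * (i * g * i⁻¹)) ^ 2 * i = i * (g * (g⁻¹ * (i * g * i⁻¹)) ^ 2) := by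
  have h2 := h.comm_mem hi h1 hg
  have h3 : i * g * i⁻¹ = g * (g⁻¹ * (i * g * i⁻¹)) := by group
  generalize g⁻¹ * (i * g * i⁻¹) = e at h2 h3
  calc _ = g * e ^ 3 * e⁻¹ * i := by group
    _ = i * g * i⁻¹ * (i * e ^ 2 * i⁻¹) * i := by rw [h.exp e h2, h3, h1 _ (pow_mem h2 2)]; group
    _ = _ := by group

theorem exists_conj_fix (hi : i ∈ A) (h1 : ∀ e ∈ E, i * e * i⁻¹ = e⁻¹) (hb : Bas E a b) {a' b' : G}
    (hb' : Bas E a' b') : ∃ g ∈ A ⊓ centralizer {i}, g * a * g⁻¹ = a' ∧ g * b * g⁻¹ = b' := by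
  obtain ⟨g, hg, h2, h3⟩ := h.exists_conj hb hb'
  have h4 := pow_mem (h.comm_mem hi h1 hg) 2
  have k : ∀ c ∈ E, g * (g⁻¹ * (i * g * i⁻¹)) ^ 2 * c * (g * (g⁻¹ * (i * g * i⁻¹)) ^ 2)⁻¹ = g * c * g⁻¹ := fun c hc => by
    rw [mul_assoc g, h.comm _ h4 c hc]; group
  exact ⟨_, ⟨mul_mem hg (h.le h4), mem_cen.2 (h.comm_fix hi h1 hg)⟩, (k a hb.1).trans h2, (k b hb.2.1).trans h3⟩

theorem eq_one (h1 : ∀ e ∈ E, i * e * i⁻¹ = e⁻¹) (hb : Bas E a b) {k : G} (hk : k ∈ A ⊓ centralizer {i})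
    (h2 : MulAut.conj k a = a) (h3 : MulAut.conj k b = b) : k = 1 := by
  have h4 := h.mem_of_comm hb hk.1 (mul_inv_eq_iff_eq_mul.1 h2) (mul_inv_eq_iff_eq_mul.1 h3)
  have h5 := h1 k h4
  rw [← mem_cen.1 hk.2, mul_inv_cancel_right] at h5
  have h6 := h.exp k h4
  rwa [pow_three, show k * k = 1 from eq_inv_iff_mul_eq_one.1 h5, mul_one] at h6

theorem half {x y z s : G} (hb : Bas E z x) (hi : i ∈ A) (hy : y ∈ A) (hs : s ∈ A) (ix : i * x * i⁻¹ = x⁻¹)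
    (iz : i * z * i⁻¹ = z⁻¹) (yi : y * i = i * y) (si : s * i = i * s) (sx : s * x * s⁻¹ = x)
    (sz : s * z * s⁻¹ = z⁻¹) (hz : x * y * x⁻¹ * y⁻¹ = z) (yz : y * z = z * y) :
    ∃ q, Sat relA (ltA x y z i s q) ∧ clos (ltA x y z i s q) = A := by
  have h1 := h.inverts hb iz ix
  have b1 : Bas E x z⁻¹ := by
    refine ⟨hb.2.1, inv_mem hb.1, fun e => hb.2.2.2 (e ▸ one_mem _), fun e => hb.2.2.2 ?_⟩
    rw [eq_of_le_of_card_ge (zpowers_le.2 (inv_mem_iff.1 e)) (by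
      rw [h.card_zp hb.1 hb.2.2.1, h.card_zp hb.2.1 fun e => hb.2.2.2 (e ▸ one_mem _)])]
    exact mem_zpowers x
  obtain ⟨q, hq, qz, qx⟩ := h.exists_conj_fix hi h1 hb b1
  have x3 : x * (x * x) = 1 := by rw [← pow_three, h.exp x hb.2.1]
  have z3 : z * (z * z) = 1 := by rw [← pow_three, h.exp z hb.1]
  have r2 : z * x = x * z := h.comm z hb.1 x hb.2.1
  have r1 : ∀ t, z * (x * t) = x * (z * t) := fun t => by rw [← mul_assoc, r2, mul_assoc]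
  have xi : x⁻¹ = x * x := inv_eq_of_mul_eq_one_right x3
  have zi : z⁻¹ = z * z := inv_eq_of_mul_eq_one_right z3
  have a1 : MulAut.conj i x = x * x := ix.trans xi
  have a2 : MulAut.conj i z = z * z := iz.trans zi
  have a3 : MulAut.conj y x = z * z * x := by
    rw [← zi, ← hz, MulAut.conj_apply]; group
  have a4 : MulAut.conj y z = z := mul_inv_eq_iff_eq_mul.2 yz
  have a5 : MulAut.conj s x = x := sx
  have a6 : MulAut.conj s z = z * z := sz.trans zi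
  have a7 : MulAut.conj q x = z * z := qx.trans zi
  have a8 : MulAut.conj q z = x := qz
  have mi : i ∈ A ⊓ centralizer {i} := ⟨hi, mem_cen.2 rfl⟩
  have my : y ∈ A ⊓ centralizer {i} := ⟨hy, mem_cen.2 yi⟩
  have ms : s ∈ A ⊓ centralizer {i} := ⟨hs, mem_cen.2 si⟩
  have k : i * i = 1 ∧ s * s = 1 ∧ y * (y * y) = 1 ∧ y * (s * (y * s)) = 1 ∧ i * (q * q) = 1 ∧ s * (q * (s * q)) = 1 ∧
      y * (q * (y * (q * (y * q)))) = 1 := by
    refine ⟨?_, ?_, ?_, ?_, ?_, ?_, ?_⟩ <;>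
      refine h.eq_one h1 hb (by repeat' first | assumption | apply mul_mem) ?_ ?_ <;>
      simp only [map_mul, MulAut.mul_apply, a1, a2, a3, a4, a5, a6, a7, a8, mul_assoc, r1, r2, x3, z3, mul_one]
  obtain ⟨k1, k2, k3, k4, k5, k6, k7⟩ := k
  have ii : i⁻¹ = i := inv_eq_of_mul_eq_one_right k1
  have ss : s⁻¹ = s := inv_eq_of_mul_eq_one_right k2
  have hS : Sat relA (ltA x y z i s q) := by
    simp only [relA, ltA, sat_cons, sat_nil, evalW_cons, evalW_nil, nth_zero, nth_succ, mul_one, and_true,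
      mul_inv_cancel, inv_mul_cancel, true_and, k1, k2, k3, k4, k5, k6, k7, x3]
    refine ⟨?_, ?_, ?_, ?_, ?_, ?_, ?_, ?_⟩
    · rw [← mul_assoc, ← r2]; group
    · calc _ = x * (i * x * i⁻¹) := by rw [ii]; group
        _ = 1 := by rw [ix]; group
    · calc _ = x * (s * x * s⁻¹)⁻¹ := by nth_rewrite 2 [← ss]; group
        _ = 1 := by rw [sx]; group
    · rw [← mul_assoc, yz]; group
    · calc _ = y * i * y⁻¹ * i := by group
        _ = 1 := by rw [yi, mul_inv_cancel_right, k1]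
    · rw [← mul_assoc s, si, mul_assoc, k2, mul_one, k1]
    · rw [← hz]; group
    · rw [← qz]; group
  refine ⟨q, hS, eq_of_le_of_card_ge (clos_le.2 ?_) (by rw [h.cardA, (factsA hS hb.2.2.1).2.2.2])⟩
  simp only [ltA, List.forall_mem_cons]
  exact ⟨h.le hb.2.1, inv_mem (h.le hb.2.1), hy, inv_mem hy, h.le hb.1, inv_mem (h.le hb.1), hi, hs, hq.1,
    inv_mem hq.1, by simp⟩

theorem comm_zp {B F : Subgroup G} (h' : Agl B F) (hEB : E ≤ B) (hFA : F ≤ A) {w x y : G} (w1 : w ≠ 1)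
    (hw : E ⊓ F = zpowers w) (hx : x ∈ E) (hxF : x ∉ F) (hy : y ∈ F) (hyE : y ∉ E) :
    E ⊓ F = zpowers (x * y * x⁻¹ * y⁻¹) := by
  have m : w ∈ E ⊓ F := hw ▸ mem_zpowers w
  have h1 : x * y * x⁻¹ * y⁻¹ ∈ E ⊓ F := ⟨by
    rw [mul_assoc, mul_assoc, ← mul_assoc y]
    exact E.mul_mem hx (conj_mem_of_mem_norm (h.norm (hFA hy)) (E.inv_mem hx)),
    F.mul_mem (conj_mem_of_mem_norm (h'.norm (hEB hx)) hy) (F.inv_mem hy)⟩
  refine h.eq_zp h1.1 (fun e => hyE (h.mem_of_comm (a := w) (b := x) ⟨m.1, hx, w1, fun e => hxF (hw.ge e).2⟩ (hFA hy)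
    (h'.comm y hy w m.2) ?_)) inf_le_left h1 fun e => hxF (e hx).2
  rw [mul_inv_eq_one, mul_inv_eq_iff_eq_mul] at e
  exact e.symm

end Agl

theorem iso_of_agl {A B E F : Subgroup G} (h : Agl A E) (h' : Agl B F) (hEB : E ≤ B) (hFA : F ≤ A) (hne : E ≠ F)
    (h1 : E ⊓ F ≠ ⊥) (hN : normalizer ((E ⊓ F : Subgroup G) : Set G) ≤ A ⊓ B) (hT : A ⊔ B = ⊤) :
    Spor.IsoM12 G ∨ Nonempty (G ≃* Matrix.ProjectiveSpecialLinearGroup (Fin 3) (ZMod 3)) := by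
  have n1 : ¬ E ≤ F := fun e => hne (eq_of_le_of_card_ge e (by rw [h.card, h'.card]))
  have n2 : ¬ F ≤ E := fun e => hne (eq_of_le_of_card_ge e (by rw [h.card, h'.card])).symm
  obtain ⟨⟨w, hw⟩, w1⟩ := ne_bot_iff_exists_ne_one.1 h1
  replace w1 : w ≠ 1 := fun e => w1 (Subtype.ext e)
  have hZ : E ⊓ F = zpowers w := h.eq_zp hw.1 w1 inf_le_left hw fun e => n1 (e.trans inf_le_right)
  have kN : ∀ g z : G, E ⊓ F = zpowers z → g * z * g⁻¹ ∈ zpowers z → g ∈ A ⊓ B := fun g z e hg =>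
    hN (e ▸ GT.PG.mem_normalizer_zpowers hg)
  have bi : ∀ {K : Subgroup G} {a b : G}, Bas K a b → Bas K a⁻¹ b := fun hb =>
    ⟨inv_mem hb.1, hb.2.1, inv_ne_one.2 hb.2.2.1, by rw [zpowers_inv]; exact hb.2.2.2⟩
  obtain ⟨x, hx, hxF⟩ := SetLike.not_le_iff_exists.1 n1
  obtain ⟨y0, hy0, hyE⟩ := SetLike.not_le_iff_exists.1 n2
  have b0 : Bas E w x := ⟨hw.1, hx, w1, fun e => hxF (hZ.ge e).2⟩
  obtain ⟨i, hi, iw, ix⟩ := h.exists_conj b0 (bi (b := x⁻¹) ⟨hw.1, inv_mem hx, w1, fun e => b0.2.2.2 (inv_mem_iff.1 e)⟩)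
  have hI := h.inverts b0 iw ix
  have hiB := (kN i w hZ (iw ▸ inv_mem (mem_zpowers w))).2
  obtain ⟨y, hy, hyE, yi⟩ : ∃ y ∈ F, y ∉ E ∧ y * i = i * y :=
    ⟨_, mul_mem hy0 (pow_mem (mul_mem (inv_mem hy0) (conj_mem_of_mem_norm (h'.norm hiB) hy0)) 2),
      fun e => hyE ((mul_mem_cancel_right (pow_mem (h.comm_mem hi hI (hFA hy0)) 2)).1 e), h.comm_fix hi hI (hFA hy0)⟩
  have hz := h.comm_zp h' hEB hFA w1 hZ hx hxF hy hyE
  generalize ez : x * y * x⁻¹ * y⁻¹ = z at hz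
  have m : z ∈ E ⊓ F := hz ▸ mem_zpowers z
  have z1 : z ≠ 1 := fun e => h1 (by rw [hz, e, zpowers_one_eq_bot])
  have b1 : Bas E z x := ⟨m.1, hx, z1, fun e => hxF (hz.ge e).2⟩
  have b2 : Bas F z y := ⟨m.2, hy, z1, fun e => hyE (hz.ge e).1⟩
  obtain ⟨s, hs, sz, sx⟩ := h.exists_conj_fix hi hI b1 (bi b1)
  have si := mem_cen.1 hs.2
  obtain ⟨q, hA, eA⟩ := h.half b1 hi (hFA hy) hs.1 ix (hI z m.1) yi si sx sz ez (h'.comm y hy z m.2)
  obtain ⟨-, -, -, -, -, -, s2, -, sy, -⟩ := (factsA hA z1).1.1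
  obtain ⟨r, hB, eB⟩ := h'.half (x := y) (y := x) (s := i) (bi b2) (kN s z hz (sz ▸ inv_mem (mem_zpowers z))).2 (hEB hx) hiB
    (by rw [inv_eq_of_mul_eq_one_right s2]; exact eq_inv_of_mul_eq_one_left sy) (by rw [← conj_inv, sz])
    (mul_inv_eq_iff_eq_mul.1 sx).symm si.symm (by rw [← yi, mul_inv_cancel_right]) (hI _ (inv_mem m.1))
    (by rw [← ez]; group) (h.comm x hx _ (inv_mem m.1))
  exact iso_of_letters hA hB z1 (fun g hg => eA ▸ (kN g z hz (by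
    rw [hg, mul_inv_cancel_right]; exact mem_zpowers z)).1) (by rw [eA, eB, hT])

theorem agl_of {A : Subgroup G} (e : A ⧸ pCore 3 A ≃* GL (Fin 2) (ZMod 3)) (h : IsMulCommutative (pCore 3 A) ∧
    (∀ x ∈ pCore 3 A, x ^ 3 = 1) ∧ Nat.card (pCore 3 A) = 9 ∧
      centralizer ((pCore 3 A : Subgroup A) : Set A) = pCore 3 A) : Agl A (pCoreOf 3 A) := by
  obtain ⟨h1, h2, h3, h4⟩ := h
  refine ⟨map_subtype_le _, GT.le_normalizer_pCoreOf A, (card_map_of_injective A.subtype_injective).trans h3, ?_, ?_,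
    fun g hg hc => ⟨⟨g, hg⟩, h4.le fun a ha => Subtype.ext (hc a (mem_map_of_mem _ ha)).symm, rfl⟩, ?_⟩
  · rintro _ ⟨a, ha, rfl⟩ _ ⟨b, hb, rfl⟩
    exact congrArg (fun x : pCore 3 A => ((x : A) : G)) (h1.is_comm.comm ⟨a, ha⟩ ⟨b, hb⟩)
  · rintro _ ⟨a, ha, rfl⟩
    rw [← map_pow, h2 a ha, map_one]
  · rw [← (pCore 3 A).card_mul_index, h3, index, Nat.card_congr e.toEquiv, Matrix.card_GL_field]
    simp [Fin.prod_univ_two]

end Cfsg.Agent.T16.MT
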